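/-
Helper24 library (EssFPInj): Stacks 046Y.  `R → S` local, `S` essentially of finite presentation,
`u : M → N` a map of finitely presented `S`-modules, `N` flat over `R`, `u` injective modulo `𝔪_R`.
Then `u` is injective and `Coker u` is flat over `R`.

Ingredients: helper14's non-Noetherian local criterion (`LCF`), openness of the flat locus
(`FlatOpen`), helper17's `KerFP` (kernel of a surjection onto a flat finitely presented module is
finitely presented), Nakayama.
-/
import Mathlib
import Groth.Agent.Lib.Helper14.FlatOpen.Open
import Groth.Agent.Lib.Helper14.LCF.FibreCrit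
import Groth.Agent.Lib.Helper17.KerFP
import Groth.Agent.Lib.Helper22.EssFP
import Groth.Agent.Lib.Helper9.FlatCoker

set_option autoImplicit false
set_option maxHeartbeats 400000
set_option linter.style.haveILetI false
universe u
open TensorProduct

namespace Groth.Agent.Lib.Helper24.EssFPInj

open Groth.Agent.Lib.Helper14.FlatOpen Groth.Agent.Lib.Helper14.FlatStage

section A1
variable {D : Type u} [CommRing D] {F : Type u} [AddCommGroup F] [Module D F]

/-- Tor-vanishing for a quotient of a flat module, elementwise form. -/
theorem rTensor_injective_of_inter [Module.Flat D F] (K : Submodule D F) (I : Ideal D)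
    (h : ∀ x ∈ K, x ∈ I • (⊤ : Submodule D F) → x ∈ I • K) :
    Function.Injective (I.subtype.rTensor (F ⧸ K)) := by
  have h1 := (lTensor_quot_injective_iff K I).2 h
  exact Groth.Agent.Lib.Helper8.injective_of_three_by_three (R := D)
    (I.subtype.rTensor K) (I.mkQ.rTensor K)
    (I.subtype.rTensor F) (I.mkQ.rTensor F)
    (I.subtype.rTensor (F ⧸ K))
    (K.subtype.lTensor I) (K.mkQ.lTensor I)
    (K.subtype.lTensor D) (K.mkQ.lTensor D)
    (K.subtype.lTensor (D ⧸ I))
    (by rw [LinearMap.lTensor_comp_rTensor, LinearMap.rTensor_comp_lTensor])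
    (by rw [LinearMap.lTensor_comp_rTensor, LinearMap.rTensor_comp_lTensor])
    (by rw [LinearMap.lTensor_comp_rTensor, LinearMap.rTensor_comp_lTensor])
    (LinearMap.lTensor_surjective I (Submodule.mkQ_surjective K))
    (fun x => (lTensor_exact I (LinearMap.exact_subtype_mkQ K)
      (Submodule.mkQ_surjective K)).apply_apply_eq_zero x)
    (lTensor_exact D (LinearMap.exact_subtype_mkQ K) (Submodule.mkQ_surjective K))
    (rTensor_exact K (LinearMap.exact_subtype_mkQ I) (Submodule.mkQ_surjective I))
    (fun x => (rTensor_exact F (LinearMap.exact_subtype_mkQ I)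
      (Submodule.mkQ_surjective I)).apply_apply_eq_zero x)
    (Module.Flat.rTensor_preserves_injective_linearMap _ (Submodule.subtype_injective _))
    h1

end A1

theorem rTensor_injective_congr {D : Type*} [CommRing D] {X Y : Type*} [AddCommGroup X]
    [Module D X] [AddCommGroup Y] [Module D Y] (e : X ≃ₗ[D] Y) (I : Ideal D)
    (h : Function.Injective (I.subtype.rTensor X)) :
    Function.Injective (I.subtype.rTensor Y) := by
  have key : (I.subtype.rTensor Y) ∘ₗ (e.toLinearMap.lTensor I) =
      (e.toLinearMap.lTensor D) ∘ₗ (I.subtype.rTensor X) := by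
    rw [LinearMap.rTensor_comp_lTensor, LinearMap.lTensor_comp_rTensor]
  have hsurj : Function.Surjective (e.toLinearMap.lTensor I) :=
    LinearMap.lTensor_surjective I e.surjective
  have hinj : Function.Injective (e.toLinearMap.lTensor D) :=
    Module.Flat.lTensor_preserves_injective_linearMap (M := D) e.toLinearMap e.injective
  have h2 : Function.Injective ((I.subtype.rTensor Y) ∘ (e.toLinearMap.lTensor I)) := by
    have : ((I.subtype.rTensor Y) ∘ (e.toLinearMap.lTensor I)) =
        (e.toLinearMap.lTensor D) ∘ (I.subtype.rTensor X) := by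
      funext z; exact LinearMap.congr_fun key z
    rw [this]; exact hinj.comp h
  exact Function.Injective.of_comp_right h2 hsurj

/-- kernel of a surjection onto a module which is a flat base change of a finitely presented
module, flat over the base `R`, over a finitely presented `R`-algebra `B`. -/
theorem fp_ker_of_baseChange {R B S : Type u} [CommRing R] [CommRing B] [CommRing S] [Algebra R B]
    [Algebra.FinitePresentation R B] [Algebra B S] [Module.Flat B S]
    {H' : Type u} [AddCommGroup H'] [Module B H'] [Module R H'] [IsScalarTower R B H']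
    [Module.FinitePresentation B H'] [Module.Flat R H']
    {H : Type u} [AddCommGroup H] [Module S H] [Module B H] [IsScalarTower B S H]
    (fH : H' →ₗ[B] H) (hfH : IsBaseChange S fH)
    {G : Type u} [AddCommGroup G] [Module S G] [Module.FinitePresentation S G]
    (p : G →ₗ[S] H) (hp : Function.Surjective p) :
    Module.FinitePresentation S (LinearMap.ker p) := by
  obtain ⟨c, p', hp'⟩ := Module.Finite.exists_fin' B H'
  haveI hk : Module.FinitePresentation B (LinearMap.ker p') :=
    Groth.Agent.Lib.Helper17.KerFP.finitePresentation_ker (A := R) p' hp'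
  have hex : Function.Exact ((LinearMap.ker p').subtype.baseChange S) (p'.baseChange S) :=
    lTensor_exact S (LinearMap.exact_subtype_ker_map p') hp'
  have hinj : Function.Injective ((LinearMap.ker p').subtype.baseChange S) :=
    Module.Flat.lTensor_preserves_injective_linearMap (M := S) _ (Submodule.subtype_injective _)
  have hs'' : Function.Surjective (p'.baseChange S) := LinearMap.lTensor_surjective S hp'
  let s' : S ⊗[B] (Fin c → B) →ₗ[S] H := hfH.equiv.toLinearMap ∘ₗ (p'.baseChange S)
  have hs' : Function.Surjective s' := hfH.equiv.surjective.comp hs''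
  have hker : LinearMap.ker s' = LinearMap.range ((LinearMap.ker p').subtype.baseChange S) := by
    rw [LinearEquiv.ker_comp, LinearMap.exact_iff.mp hex]
  haveI : Module.FinitePresentation S (LinearMap.ker s') := by
    rw [hker]
    have e : (S ⊗[B] ↥(LinearMap.ker p')) ≃ₗ[S]
        ↥(LinearMap.range ((LinearMap.ker p').subtype.baseChange S)) :=
      LinearEquiv.ofInjective _ hinj
    exact Module.FinitePresentation.of_equiv (R := S) (M := S ⊗[B] ↥(LinearMap.ker p'))
      (N := ↥(LinearMap.range ((LinearMap.ker p').subtype.baseChange S))) e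
  exact Groth.Agent.Lib.Helper17.KerFP.finitePresentation_ker_of_model p hp s' hs'

set_option maxHeartbeats 1600000 in
/-- the core: flatness from Tor-vanishing and finite presentation of kernels, for a finitely
presented module over a localization at a prime of a finitely presented algebra. -/
theorem core {R S₀ S W : Type u} [CommRing R] [CommRing S₀] [CommRing S] [Algebra R S₀]
    [Algebra.FinitePresentation R S₀] [Algebra S₀ S]
    (q : Ideal S₀) [q.IsPrime] [IsLocalization.AtPrime S q]
    [AddCommGroup W] [Module S W] [Module S₀ W] [IsScalarTower S₀ S W] [Module R W]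
    [IsScalarTower R S₀ W] [Module.FinitePresentation S W]
    (hTor : Function.Injective ((q.comap (algebraMap R S₀)).subtype.rTensor W)) :
    Module.Flat R W ∧ ∀ {G : Type u} [AddCommGroup G] [Module S G]
      [Module.FinitePresentation S G] (p : G →ₗ[S] W), Function.Surjective p →
        Module.FinitePresentation S (LinearMap.ker p) := by
  classical
  obtain ⟨W₀, i1, i2, i3, f, hf⟩ :=
    Groth.Agent.Lib.Helper22.EssFP.exists_fp_model (C := S₀) (L := S) (W := W) q.primeCompl
  letI := i1; letI := i2; haveI := i3; haveI := hf
  letI mR : Module R W₀ := Module.compHom W₀ (algebraMap R S₀)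
  haveI tR : IsScalarTower R S₀ W₀ := ⟨fun r a w => by
    show (r • a) • w = algebraMap R S₀ r • (a • w)
    rw [Algebra.smul_def, mul_smul]⟩
  haveI hWflat : Module.Flat R W :=
    Groth.Agent.Lib.Helper14.LCF.flat_of_isLocalizedModule_of_rTensor_injective (A := R) (S := S₀)
      (N := W₀) (W := W) q f hTor
  refine ⟨hWflat, ?_⟩
  intro G _ _ _ p hp
  haveI hflat₀ : Module.Flat R (LocalizedModule q.primeCompl W₀) :=
    flat_of_isLocalizedModule_of_isLocalizedModule (A := R) (S := S₀) q.primeCompl q.primeCompl
      le_rfl f (LocalizedModule.mkLinearMap q.primeCompl W₀) hWflat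
  obtain ⟨g, hgq, hD⟩ := exists_flatOnD (A := R) (S := S₀) (N := W₀) q hflat₀
  haveI hH' : Module.Flat R (LocalizedModule (Submonoid.powers g) W₀) := (flatOnD_iff g).1 hD
  haveI : Algebra.FinitePresentation S₀ (Localization.Away g) :=
    IsLocalization.Away.finitePresentation g
  haveI : Algebra.FinitePresentation R (Localization.Away g) :=
    Algebra.FinitePresentation.trans R S₀ (Localization.Away g)
  have hgu : IsUnit (algebraMap S₀ S g) := IsLocalization.map_units S (⟨g, hgq⟩ : q.primeCompl)
  letI aBS : Algebra (Localization.Away g) S := (IsLocalization.Away.lift g hgu).toAlgebra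
  haveI tBS : IsScalarTower S₀ (Localization.Away g) S :=
    IsScalarTower.of_algebraMap_eq (fun a => (IsLocalization.Away.lift_eq g hgu a).symm)
  haveI : IsLocalization (q.primeCompl.map (algebraMap S₀ (Localization.Away g))) S :=
    IsLocalization.isLocalization_of_submonoid_le (Localization.Away g) S (Submonoid.powers g)
      q.primeCompl ((Submonoid.powers_le).2 hgq)
  haveI : Module.Flat (Localization.Away g) S :=
    IsLocalization.flat S (q.primeCompl.map (algebraMap S₀ (Localization.Away g)))
  letI mBW : Module (Localization.Away g) W :=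
    Module.compHom W (algebraMap (Localization.Away g) S)
  haveI tBSW : IsScalarTower (Localization.Away g) S W := ⟨fun b s w => by
    show (b • s) • w = algebraMap _ S b • (s • w)
    rw [Algebra.smul_def, mul_smul]⟩
  haveI tS₀BW : IsScalarTower S₀ (Localization.Away g) W := ⟨fun a b w => by
    show algebraMap (Localization.Away g) S (a • b) • w =
      a • (algebraMap (Localization.Away g) S b • w)
    rw [Algebra.smul_def, map_mul, ← IsScalarTower.algebraMap_apply S₀ (Localization.Away g) S,
      mul_smul, algebraMap_smul]⟩
  haveI tRBH' : IsScalarTower R (Localization.Away g)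
      (LocalizedModule (Submonoid.powers g) W₀) := inferInstance
  have hB : IsBaseChange (Localization.Away g)
      (LocalizedModule.mkLinearMap (Submonoid.powers g) W₀) :=
    (isLocalizedModule_iff_isBaseChange (Submonoid.powers g) (Localization.Away g) _).1
      inferInstance
  have hS : IsBaseChange S f := (isLocalizedModule_iff_isBaseChange q.primeCompl S f).1 hf
  let fH : LocalizedModule (Submonoid.powers g) W₀ →ₗ[Localization.Away g] W := hB.lift f
  have hfH : IsBaseChange S fH := by
    refine IsBaseChange.of_comp hB ?_
    have : (fH.restrictScalars S₀) ∘ₗ (LocalizedModule.mkLinearMap (Submonoid.powers g) W₀) = f :=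
      hB.lift_comp f
    rw [this]
    exact hS
  exact fp_ker_of_baseChange (R := R) (B := Localization.Away g) (S := S) fH hfH p hp

set_option maxHeartbeats 1600000 in
/-- **Stacks 046Y.** -/
theorem injective_and_flat_coker {R S M N : Type u} [CommRing R] [CommRing S] [IsLocalRing R]
    [IsLocalRing S] [Algebra R S] [IsLocalHom (algebraMap R S)]
    {S₀ : Type u} [CommRing S₀] [Algebra R S₀] [Algebra S₀ S] [IsScalarTower R S₀ S]
    [Algebra.FinitePresentation R S₀] (T : Submonoid S₀) [IsLocalization T S]
    [AddCommGroup M] [Module S M] [Module R M] [IsScalarTower R S M]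
    [Module.FinitePresentation S M]
    [AddCommGroup N] [Module S N] [Module R N] [IsScalarTower R S N]
    [Module.FinitePresentation S N] [Module.Flat R N]
    (u : M →ₗ[S] N)
    (hu : ∀ x : M, u x ∈ (IsLocalRing.maximalIdeal R).map (algebraMap R S) •
        (⊤ : Submodule S N) →
      x ∈ (IsLocalRing.maximalIdeal R).map (algebraMap R S) • (⊤ : Submodule S M)) :
    Function.Injective u ∧ Module.Flat R (N ⧸ LinearMap.range u) := by
  classical
  obtain ⟨𝔪, h𝔪⟩ : ∃ 𝔪 : Ideal R, 𝔪 = IsLocalRing.maximalIdeal R := ⟨_, rfl⟩
  obtain ⟨I, hI⟩ : ∃ I : Ideal S, I = 𝔪.map (algebraMap R S) := ⟨_, rfl⟩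
  rw [← h𝔪, ← hI] at hu
  have hloc : IsLocalHom (algebraMap R S) := inferInstance
  let q : Ideal S₀ := (IsLocalRing.maximalIdeal S).comap (algebraMap S₀ S)
  haveI : q.IsPrime := Ideal.comap_isPrime _ _
  haveI : IsLocalization.AtPrime S q :=
    Groth.Agent.Lib.Helper22.EssFP.atPrime_of_isLocalization_of_isLocalRing T
  have hq𝔪 : q.comap (algebraMap R S₀) = 𝔪 := by
    rw [h𝔪, Ideal.comap_comap, ← IsScalarTower.algebraMap_eq]
    exact ((IsLocalRing.local_hom_TFAE (algebraMap R S)).out 0 4).mp hloc
  have hrfg : (LinearMap.range u).FG := by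
    rw [LinearMap.range_eq_map]; exact Module.Finite.fg_top.map u
  haveI hWfp : Module.FinitePresentation S (N ⧸ LinearMap.range u) :=
    Module.finitePresentation_of_surjective (LinearMap.range u).mkQ (Submodule.mkQ_surjective _)
      (by rw [Submodule.ker_mkQ]; exact hrfg)
  letI mS₀W : Module S₀ (N ⧸ LinearMap.range u) := Module.compHom _ (algebraMap S₀ S)
  haveI t1 : IsScalarTower S₀ S (N ⧸ LinearMap.range u) := ⟨fun a s w => by
    show (a • s) • w = algebraMap S₀ S a • (s • w)
    rw [Algebra.smul_def, mul_smul]⟩
  haveI t2 : IsScalarTower R S₀ (N ⧸ LinearMap.range u) := ⟨fun r a w => by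
    show algebraMap S₀ S (r • a) • w = r • (algebraMap S₀ S a • w)
    rw [Algebra.smul_def, map_mul, ← IsScalarTower.algebraMap_apply R S₀ S, mul_smul,
      algebraMap_smul]⟩
  have htopN : (I • (⊤ : Submodule S N)).restrictScalars R = 𝔪 • (⊤ : Submodule R N) := by
    rw [hI, Ideal.smul_restrictScalars, Submodule.restrictScalars_top]
  have htopM : (I • (⊤ : Submodule S M)).restrictScalars R = 𝔪 • (⊤ : Submodule R M) := by
    rw [hI, Ideal.smul_restrictScalars, Submodule.restrictScalars_top]
  have key : ∀ z ∈ 𝔪 • (⊤ : Submodule R M), u z ∈ 𝔪 • (LinearMap.range u).restrictScalars R := by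
    intro z hz
    refine Submodule.smul_induction_on hz ?_ ?_
    · intro a ha m _
      have : u (a • m) = a • u m := by
        rw [← algebraMap_smul S a m, map_smul, algebraMap_smul]
      rw [this]
      exact Submodule.smul_mem_smul ha
        ((Submodule.restrictScalars_mem R (LinearMap.range u) (u m)).2 (LinearMap.mem_range_self u m))
    · intro z₁ z₂ h₁ h₂
      rw [map_add]; exact add_mem h₁ h₂
  have hTorR : Function.Injective
      (𝔪.subtype.rTensor (N ⧸ (LinearMap.range u).restrictScalars R)) := by
    apply rTensor_injective_of_inter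
    intro y hy hy𝔪
    obtain ⟨x, rfl⟩ := (Submodule.restrictScalars_mem R (LinearMap.range u) y).1 hy
    have h1 : u x ∈ I • (⊤ : Submodule S N) := by
      have h2 : u x ∈ (I • (⊤ : Submodule S N)).restrictScalars R := by rw [htopN]; exact hy𝔪
      exact h2
    have h3 := hu x h1
    have h4 : x ∈ 𝔪 • (⊤ : Submodule R M) := by
      rw [← htopM]; exact h3
    exact key x h4
  have hTor : Function.Injective
      ((q.comap (algebraMap R S₀)).subtype.rTensor (N ⧸ LinearMap.range u)) := by
    rw [hq𝔪]
    exact rTensor_injective_congr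
      (Submodule.Quotient.restrictScalarsEquiv R (LinearMap.range u)) 𝔪 hTorR
  obtain ⟨hWflat, hker⟩ := core (R := R) (S₀ := S₀) (S := S) (W := N ⧸ LinearMap.range u) q hTor
  haveI := hWflat
  refine ⟨?_, hWflat⟩
  haveI hkfp : Module.FinitePresentation S (LinearMap.ker (LinearMap.range u).mkQ) :=
    hker (LinearMap.range u).mkQ (Submodule.mkQ_surjective _)
  haveI hrfp : Module.FinitePresentation S (LinearMap.range u) :=
    Module.FinitePresentation.of_equiv (LinearEquiv.ofEq _ _ (Submodule.ker_mkQ _))
  have hKfg : (LinearMap.ker u).FG := by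
    have := Module.FinitePresentation.fg_ker u.rangeRestrict u.surjective_rangeRestrict
    rwa [LinearMap.ker_rangeRestrict] at this
  haveI hJflat : Module.Flat R (LinearMap.range u) :=
    Groth.Agent.Lib.Helper9.FlatCoker.flat_of_exact_ker
      ((LinearMap.range u).subtype.restrictScalars R) ((LinearMap.range u).mkQ.restrictScalars R)
      (Submodule.subtype_injective _) (Submodule.mkQ_surjective _)
      (fun y => LinearMap.exact_subtype_mkQ (LinearMap.range u) y)
  have hKle : LinearMap.ker u ≤ I • LinearMap.ker u := by
    intro x hx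
    have hinj : Function.Injective
        (((LinearMap.ker u).restrictScalars R).subtype.lTensor (R ⧸ 𝔪)) :=
      LinearMap.lTensor_injective_of_exact_of_flat (u.rangeRestrict.restrictScalars R)
        u.surjective_rangeRestrict ((LinearMap.ker u).restrictScalars R).subtype
        (Submodule.subtype_injective _) (by
          intro y
          constructor
          · intro hy
            have hy0 : u y = 0 := congrArg Subtype.val hy
            exact ⟨⟨y, hy0⟩, rfl⟩
          · rintro ⟨z, rfl⟩
            exact Subtype.ext z.2) (R ⧸ 𝔪)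
    have hx𝔪 : x ∈ 𝔪 • (⊤ : Submodule R M) := by
      have h3 := hu x (by rw [LinearMap.mem_ker.1 hx]; exact zero_mem _)
      rw [← htopM]; exact h3
    have h1 := (lTensor_quot_injective_iff ((LinearMap.ker u).restrictScalars R) 𝔪).1 hinj x
      hx hx𝔪
    have h2 : x ∈ (I • LinearMap.ker u).restrictScalars R := by
      rw [hI, Ideal.smul_restrictScalars]; exact h1
    exact h2
  have hIjac : I ≤ Ideal.jacobson ⊥ := by
    rw [IsLocalRing.jacobson_eq_maximalIdeal ⊥ bot_ne_top, hI, h𝔪]
    exact ((IsLocalRing.local_hom_TFAE (algebraMap R S)).out 0 2).mp hloc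
  have hK0 := Submodule.eq_bot_of_le_smul_of_le_jacobson_bot I (LinearMap.ker u) hKfg hKle hIjac
  exact LinearMap.ker_eq_bot.1 hK0

end Groth.Agent.Lib.Helper24.EssFPInj
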