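import Mathlib

/-!
# Helper library (helper24): open-closed subsets of a scheme and idempotent global sections

For a scheme `Y`, `e ↦ Y.basicOpen e` is a bijection between idempotents of `Γ(Y, ⊤)` and
open-closed subsets of `Y`, compatible with pullback along morphisms.
-/

set_option autoImplicit false
set_option maxHeartbeats 400000
universe u

namespace Groth.Agent.Lib.Helper24.ClopenIdem

open AlgebraicGeometry CategoryTheory TopologicalSpace Opposite

/-- An idempotent of a local ring is `1` if it is a unit and `0` otherwise. -/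
theorem idem_local {R : Type*} [CommRing R] [IsLocalRing R] {g : R} (hg : IsIdempotentElem g) :
    (IsUnit g → g = 1) ∧ (¬ IsUnit g → g = 0) := by
  constructor
  · intro hu
    have : g * g = g * 1 := by rw [mul_one]; exact hg
    exact hu.mul_left_cancel this
  · intro hnu
    have h1 : IsUnit (1 - g) := (IsLocalRing.isUnit_or_isUnit_one_sub_self g).resolve_left hnu
    have h2 : (1 - g) * g = 0 := by rw [sub_mul, one_mul, hg.eq, sub_self]
    exact (h1.mul_right_eq_zero).mp h2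

variable (Y : Scheme.{u})

theorem germ_eq_one_of_mem {e : Γ(Y, ⊤)} (he : IsIdempotentElem e) {x : Y}
    (hx : x ∈ Y.basicOpen e) : Y.presheaf.germ ⊤ x trivial e = 1 :=
  (idem_local (he.map (Y.presheaf.germ ⊤ x trivial).hom)).1 ((Y.mem_basicOpen_top e x).mp hx)

theorem germ_eq_zero_of_not_mem {e : Γ(Y, ⊤)} (he : IsIdempotentElem e) {x : Y}
    (hx : x ∉ Y.basicOpen e) : Y.presheaf.germ ⊤ x trivial e = 0 :=
  (idem_local (he.map (Y.presheaf.germ ⊤ x trivial).hom)).2
    (fun hu => hx ((Y.mem_basicOpen_top e x).mpr hu))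

theorem isClopen_basicOpen {e : Γ(Y, ⊤)} (he : IsIdempotentElem e) :
    IsClopen (Y.basicOpen e : Set Y) := by
  refine ⟨?_, (Y.basicOpen e).isOpen⟩
  have hcompl : (Y.basicOpen e : Set Y)ᶜ = (Y.basicOpen (1 - e) : Set Y) := by
    ext x
    simp only [Set.mem_compl_iff, SetLike.mem_coe]
    rw [Y.mem_basicOpen_top (1 - e) x, map_sub, map_one]
    constructor
    · intro hx
      rw [germ_eq_zero_of_not_mem Y he hx, sub_zero]
      exact isUnit_one
    · intro hu hx
      rw [germ_eq_one_of_mem Y he hx, sub_self] at hu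
      exact not_isUnit_zero hu
  rw [← isOpen_compl_iff, hcompl]
  exact (Y.basicOpen (1 - e)).isOpen

theorem eq_of_basicOpen_eq {e e' : Γ(Y, ⊤)} (he : IsIdempotentElem e)
    (he' : IsIdempotentElem e') (h : Y.basicOpen e = Y.basicOpen e') : e = e' := by
  apply TopCat.Presheaf.section_ext Y.sheaf ⊤
  intro x hx
  by_cases hxe : x ∈ Y.basicOpen e
  · have hxe' : x ∈ Y.basicOpen e' := h ▸ hxe
    exact (germ_eq_one_of_mem Y he hxe).trans (germ_eq_one_of_mem Y he' hxe').symm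
  · have hxe' : x ∉ Y.basicOpen e' := h ▸ hxe
    exact (germ_eq_zero_of_not_mem Y he hxe).trans (germ_eq_zero_of_not_mem Y he' hxe').symm

theorem exists_idem_basicOpen_eq {s : Set Y} (hs : IsClopen s) :
    ∃ e : Γ(Y, ⊤), IsIdempotentElem e ∧ (Y.basicOpen e : Set Y) = s := by
  let U₁ : Y.Opens := ⟨s, hs.isOpen⟩
  let U₂ : Y.Opens := ⟨sᶜ, hs.compl.isOpen⟩
  have hinf : U₁ ⊓ U₂ = ⊥ := by
    ext x
    simp [U₁, U₂]
  have hsup : (⊤ : Y.Opens) ≤ U₁ ⊔ U₂ := by
    intro x _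
    by_cases hx : x ∈ s
    · exact Or.inl hx
    · exact Or.inr hx
  have hsub : Subsingleton (Y.sheaf.1.obj (op (U₁ ⊓ U₂))) :=
    CommRingCat.subsingleton_of_isTerminal (Y.sheaf.isTerminalOfEqEmpty hinf)
  let x : (CommRingCat.of <| RingHom.eqLocus
      (RingHom.comp (Y.sheaf.obj.map (homOfLE inf_le_left : U₁ ⊓ U₂ ⟶ U₁).op).hom
        (RingHom.fst (Y.sheaf.obj.obj <| op U₁) (Y.sheaf.obj.obj <| op U₂)))
      (RingHom.comp (Y.sheaf.obj.map (homOfLE inf_le_right : U₁ ⊓ U₂ ⟶ U₂).op).hom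
        (RingHom.snd (Y.sheaf.obj.obj <| op U₁) (Y.sheaf.obj.obj <| op U₂)))) :=
    ⟨((1 : Y.sheaf.obj.obj (op U₁)), (0 : Y.sheaf.obj.obj (op U₂))), Subsingleton.elim _ _⟩
  let e' := (Y.sheaf.objSupIsoProdEqLocus U₁ U₂).inv x
  let e : Γ(Y, ⊤) := Y.sheaf.1.map (homOfLE hsup).op e'
  have he1 : Y.presheaf.map (homOfLE le_top : U₁ ⟶ ⊤).op e = 1 := by
    have := Y.sheaf.objSupIsoProdEqLocus_inv_fst U₁ U₂ x
    show Y.presheaf.map (homOfLE le_top : U₁ ⟶ ⊤).op (Y.presheaf.map (homOfLE hsup).op e') = 1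
    rw [← CommRingCat.comp_apply, ← Functor.map_comp, ← op_comp, homOfLE_comp]
    exact this
  have he2 : Y.presheaf.map (homOfLE le_top : U₂ ⟶ ⊤).op e = 0 := by
    have := Y.sheaf.objSupIsoProdEqLocus_inv_snd U₁ U₂ x
    show Y.presheaf.map (homOfLE le_top : U₂ ⟶ ⊤).op (Y.presheaf.map (homOfLE hsup).op e') = 0
    rw [← CommRingCat.comp_apply, ← Functor.map_comp, ← op_comp, homOfLE_comp]
    exact this
  have hidem : IsIdempotentElem e := by
    refine Y.sheaf.eq_of_locally_eq₂ (homOfLE le_top : U₁ ⟶ ⊤) (homOfLE le_top : U₂ ⟶ ⊤) hsup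
      (e * e) e ?_ ?_
    · show Y.presheaf.map (homOfLE le_top : U₁ ⟶ ⊤).op (e * e) =
        Y.presheaf.map (homOfLE le_top : U₁ ⟶ ⊤).op e
      rw [map_mul, he1, mul_one]
    · show Y.presheaf.map (homOfLE le_top : U₂ ⟶ ⊤).op (e * e) =
        Y.presheaf.map (homOfLE le_top : U₂ ⟶ ⊤).op e
      rw [map_mul, he2, mul_zero]
  refine ⟨e, hidem, ?_⟩
  ext y
  simp only [SetLike.mem_coe]
  rw [Y.mem_basicOpen_top e y]
  by_cases hy : y ∈ s
  · have hy1 : y ∈ U₁ := hy
    have : Y.presheaf.germ ⊤ y trivial e = 1 := by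
      rw [← TopCat.Presheaf.germ_res_apply Y.presheaf (homOfLE le_top : U₁ ⟶ ⊤) y hy1 e, he1,
        map_one]
    rw [this]
    exact iff_of_true isUnit_one hy
  · have hy2 : y ∈ U₂ := hy
    have : Y.presheaf.germ ⊤ y trivial e = 0 := by
      rw [← TopCat.Presheaf.germ_res_apply Y.presheaf (homOfLE le_top : U₂ ⟶ ⊤) y hy2 e, he2,
        map_zero]
    rw [this]
    exact iff_of_false not_isUnit_zero hy

variable {Y}

/-- Lifting of open-closed subsets along a morphism, in terms of idempotents. -/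
theorem clopen_lift_iff_bijOn {Y₀ : Scheme.{u}} (pr : Y₀ ⟶ Y) :
    (∀ V : Set Y₀, IsClopen V → ∃! U : Set Y, IsClopen U ∧ pr.base ⁻¹' U = V) ↔
      Set.BijOn pr.appTop.hom {e | IsIdempotentElem e} {e | IsIdempotentElem e} := by
  have hpre : ∀ u : Γ(Y, ⊤), pr.base ⁻¹' (Y.basicOpen u : Set Y) =
      (Y₀.basicOpen (pr.appTop.hom u) : Set Y₀) := by
    intro u
    exact congrArg (fun W : Y₀.Opens => (W : Set Y₀)) (Scheme.preimage_basicOpen_top pr u)
  constructor
  · intro H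
    refine ⟨fun u hu => IsIdempotentElem.map hu pr.appTop.hom, ?_, ?_⟩
    · intro u hu u' hu' huu'
      obtain ⟨U, -, hUu⟩ := H _ (isClopen_basicOpen Y₀ (IsIdempotentElem.map hu pr.appTop.hom))
      have h1 : (Y.basicOpen u : Set Y) = U := hUu _ ⟨isClopen_basicOpen Y hu, hpre u⟩
      have h2 : (Y.basicOpen u' : Set Y) = U :=
        hUu _ ⟨isClopen_basicOpen Y hu', by rw [hpre u', huu']⟩
      exact eq_of_basicOpen_eq Y hu hu' (SetLike.coe_injective (h1.trans h2.symm))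
    · intro v hv
      obtain ⟨U, ⟨hUc, hUV⟩, -⟩ := H _ (isClopen_basicOpen Y₀ hv)
      obtain ⟨u, hu, hDu⟩ := exists_idem_basicOpen_eq Y hUc
      refine ⟨u, hu, ?_⟩
      apply eq_of_basicOpen_eq Y₀ (IsIdempotentElem.map hu pr.appTop.hom) hv
      apply SetLike.coe_injective
      rw [← hpre u, hDu, hUV]
  · intro hb V hV
    obtain ⟨v, hv, hDv⟩ := exists_idem_basicOpen_eq Y₀ hV
    obtain ⟨u, hu, huv⟩ := hb.surjOn hv
    refine ⟨(Y.basicOpen u : Set Y), ⟨isClopen_basicOpen Y hu, by rw [hpre, huv, hDv]⟩, ?_⟩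
    rintro U' ⟨hU'c, hU'V⟩
    obtain ⟨u', hu', hDu'⟩ := exists_idem_basicOpen_eq Y hU'c
    have h1 : pr.appTop.hom u' = v := by
      apply eq_of_basicOpen_eq Y₀ (IsIdempotentElem.map hu' pr.appTop.hom) hv
      apply SetLike.coe_injective
      rw [← hpre u', hDu', hU'V, hDv]
    have h2 : u' = u := hb.injOn hu' hu (h1.trans huv.symm)
    rw [← hDu', h2]

end Groth.Agent.Lib.Helper24.ClopenIdem
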