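import Mathlib

set_option autoImplicit false
set_option maxHeartbeats 400000
set_option linter.style.haveILetI false
set_option linter.unusedSectionVars false
set_option linter.unusedVariables false

/-!
# Transport of `Ideal.ramificationIdx` along an algebra isomorphism onto a localization

Sub-lemma (RA) for helper22's S6556.
-/

universe u

open TensorProduct IsLocalRing

namespace Groth.Agent.Lib.Helper24.RamIdxEquiv

/-- The length of a ring over itself is invariant under ring isomorphisms. -/
theorem length_self_eq_of_ringEquiv {A B : Type*} [CommRing A] [CommRing B] (g : A ≃+* B) :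
    Module.length A A = Module.length B B := by
  letI : Algebra A B := g.toRingHom.toAlgebra
  have h1 : Module.length A B = Module.length B B :=
    Module.length_eq_of_surjective (S := A) (R := B) (M := B) g.surjective
  have h2 : Module.length A A = Module.length A B := by
    refine LinearEquiv.length_eq ?_
    exact
      { g.toAddEquiv with
        map_smul' := fun a x => by
          change g (a * x) = (algebraMap A B a) * g x
          rw [map_mul]
          rfl }
  rw [h2, h1]

/-- For `R`-isomorphic `R`-algebras `A`, `B` and an ideal `I` of `R`, the lengths of
`A ⧸ I A` over `A` and `B ⧸ I B` over `B` agree. -/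
theorem length_quotient_map_eq_of_algEquiv {R A B : Type*} [CommRing R] [CommRing A] [CommRing B]
    [Algebra R A] [Algebra R B] (f : A ≃ₐ[R] B) (I : Ideal R) :
    Module.length A (A ⧸ I.map (algebraMap R A)) =
      Module.length B (B ⧸ I.map (algebraMap R B)) := by
  rw [Module.length_eq_of_surjective (S := A) (R := A ⧸ I.map (algebraMap R A))
      (M := A ⧸ I.map (algebraMap R A)) Ideal.Quotient.mk_surjective,
    Module.length_eq_of_surjective (S := B) (R := B ⧸ I.map (algebraMap R B))
      (M := B ⧸ I.map (algebraMap R B)) Ideal.Quotient.mk_surjective]
  refine length_self_eq_of_ringEquiv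
    (Ideal.quotientEquiv _ _ f.toRingEquiv ?_)
  rw [Ideal.map_map]
  congr 1
  ext r
  simp

/-- (RA) Transport of `Ideal.ramificationIdx` along an `R`-algebra isomorphism of a local
ring `S` onto a localization `T_q`. -/
theorem ramificationIdx_eq_of_algEquiv {R S T : Type u} [CommRing R] [CommRing S] [CommRing T]
    [Algebra R S] [Algebra R T] [IsLocalRing S] (q : Ideal T) [q.IsPrime]
    (e : S ≃ₐ[R] Localization.AtPrime q) :
    Ideal.ramificationIdx (maximalIdeal S) R = Ideal.ramificationIdx q R := by
  have hmax : maximalIdeal S = (maximalIdeal (Localization.AtPrime q)).comap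
      (e : S →+* Localization.AtPrime q) := by
    ext x
    simp only [Ideal.mem_comap, mem_maximalIdeal, mem_nonunits_iff]
    rw [not_iff_not]
    exact (MulEquiv.isUnit_map e.toRingEquiv.toMulEquiv).symm
  have hunder : (maximalIdeal S).under R = q.under R := by
    rw [Ideal.under_def, Ideal.under_def, hmax, Ideal.comap_comap]
    have h1 : ((e : S →+* Localization.AtPrime q)).comp (algebraMap R S) =
        (algebraMap T (Localization.AtPrime q)).comp (algebraMap R T) := by
      ext r
      simp [← IsScalarTower.algebraMap_apply]
    rw [h1, ← Ideal.comap_comap]
    congr 1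
    exact Localization.AtPrime.under_maximalIdeal (I := q)
  rw [Ideal.ramificationIdx_def, Ideal.ramificationIdx_def, hunder]
  congr 1
  let e0 : S ≃ₐ[R] Localization.AtPrime (maximalIdeal S) :=
    (IsLocalization.atUnits S (maximalIdeal S).primeCompl
      (S := Localization.AtPrime (maximalIdeal S)) (by
        intro x hx
        have hx' : x ∉ maximalIdeal S := hx
        rw [mem_maximalIdeal, mem_nonunits_iff, not_not] at hx'
        exact hx')).restrictScalars R
  exact length_quotient_map_eq_of_algEquiv (e0.symm.trans e) (q.under R)

end Groth.Agent.Lib.Helper24.RamIdxEquiv
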