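import Mathlib
import Groth.Prelude.Def_W4c3perfectstacksMV

/-!
# Mayer–Vietoris squares of triangulated categories: local objects, localisation triangle,
the unit of `f` on maps out of the kernel of `j^*`.
-/

set_option autoImplicit false
set_option linter.unusedSectionVars false
set_option linter.style.haveILetI false
universe v u
open CategoryTheory CategoryTheory.Limits CategoryTheory.Pretriangulated
open W4c3perfectstacks W4c3perfectstacks.MVSq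

namespace Groth.Agent.Lib.Helper24.MVSq

section General

variable {C : Type*} [Category C] [Preadditive C] [HasZeroObject C] [HasShift C ℤ]
  [∀ n : ℤ, (shiftFunctor C n).Additive] [Pretriangulated C]
  {X₁ X₂ X₃ : C} {f : X₁ ⟶ X₂} {g : X₂ ⟶ X₃} {h : X₃ ⟶ X₁⟦(1 : ℤ)⟧}

theorem coyoneda₂' (hT : Triangle.mk f g h ∈ distTriang C) {Z : C} (a : Z ⟶ X₂)
    (ha : a ≫ g = 0) : ∃ b : Z ⟶ X₁, a = b ≫ f :=
  Triangle.coyoneda_exact₂ _ hT a ha

theorem coyoneda₃' (hT : Triangle.mk f g h ∈ distTriang C) {Z : C} (a : Z ⟶ X₃)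
    (ha : a ≫ h = 0) : ∃ b : Z ⟶ X₂, a = b ≫ g :=
  Triangle.coyoneda_exact₃ _ hT a ha

theorem coyoneda₁_zero (hT : Triangle.mk f g h ∈ distTriang C) {Z : C} (a : Z ⟶ X₁)
    (ha : a ≫ f = 0) (hloc : ∀ l : Z ⟶ X₃⟦(-1 : ℤ)⟧, l = 0) : a = 0 := by
  obtain ⟨l, hl⟩ := Triangle.coyoneda_exact₂ _ (inv_rot_of_distTriang _ hT) a ha
  have hl0 : l = 0 := hloc l
  rw [hl, hl0]
  exact zero_comp

theorem yoneda₂' (hT : Triangle.mk f g h ∈ distTriang C) {W : C} (a : X₂ ⟶ W)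
    (ha : f ≫ a = 0) : ∃ b : X₃ ⟶ W, a = g ≫ b :=
  Triangle.yoneda_exact₂ _ hT a ha

theorem yoneda₃' (hT : Triangle.mk f g h ∈ distTriang C) {W : C} (a : X₃ ⟶ W)
    (ha : g ≫ a = 0) : ∃ b : X₁⟦(1 : ℤ)⟧ ⟶ W, a = h ≫ b :=
  Triangle.yoneda_exact₃ _ hT a ha

/-- Exactness of `Hom(-, W)` at `X₂⟦1⟧`. -/
theorem yoneda_shift₂' (hT : Triangle.mk f g h ∈ distTriang C) {W : C} (a : X₂⟦(1 : ℤ)⟧ ⟶ W)
    (ha : f⟦(1 : ℤ)⟧' ≫ a = 0) : ∃ b : X₃⟦(1 : ℤ)⟧ ⟶ W, a = g⟦(1 : ℤ)⟧' ≫ b := by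
  have hT2 := rot_of_distTriang _ (rot_of_distTriang _ hT)
  obtain ⟨b, hb⟩ := Triangle.yoneda_exact₃ _ hT2 a (by
    change (-f⟦(1 : ℤ)⟧') ≫ a = 0
    rw [Preadditive.neg_comp, ha, neg_zero])
  obtain ⟨b', hb'⟩ : ∃ b' : X₃⟦(1 : ℤ)⟧ ⟶ W, a = (-g⟦(1 : ℤ)⟧') ≫ b' := ⟨b, hb⟩
  refine ⟨-b', ?_⟩
  rw [hb', Preadditive.neg_comp, Preadditive.comp_neg]

/-- A split-exactness criterion: in a distinguished triangle `X ⟶ A ⟶ C' ⟶ X⟦1⟧` where `A` is
a biproduct of `A₁` and `A₂`, if `v : A ⟶ C₀` kills `u`, the first component of `u` and the second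
component of `v` are invertible, then the induced map `C' ⟶ C₀` is invertible. -/
theorem isIso_of_splitCone {X A C' : C} {u : X ⟶ A} {v' : A ⟶ C'} {d' : C' ⟶ X⟦(1 : ℤ)⟧}
    (hT : Triangle.mk u v' d' ∈ distTriang C) {C₀ : C} (v : A ⟶ C₀) (w : C' ⟶ C₀)
    (hw : v' ≫ w = v) {A₁ A₂ : C} (a₁ : A ⟶ A₁) (a₂ : A ⟶ A₂) (b₁ : A₁ ⟶ A) (b₂ : A₂ ⟶ A)
    (htot : a₁ ≫ b₁ + a₂ ≫ b₂ = 𝟙 A) (h₁ : IsIso (u ≫ a₁)) (h₂ : IsIso (b₂ ≫ v))
    (huv : u ≫ v = 0) : IsIso w := by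
  obtain ⟨r₁, hr₁, hr₁'⟩ : ∃ r₁ : A₁ ⟶ X, u ≫ a₁ ≫ r₁ = 𝟙 _ ∧ r₁ ≫ u ≫ a₁ = 𝟙 _ :=
    ⟨inv (u ≫ a₁), by rw [← Category.assoc]; exact IsIso.hom_inv_id _, IsIso.inv_hom_id _⟩
  obtain ⟨s₂, hs₂, hs₂'⟩ : ∃ s₂ : C₀ ⟶ A₂, b₂ ≫ v ≫ s₂ = 𝟙 _ ∧ s₂ ≫ b₂ ≫ v = 𝟙 _ :=
    ⟨inv (b₂ ≫ v), by rw [← Category.assoc]; exact IsIso.hom_inv_id _, IsIso.inv_hom_id _⟩
  have h0 : u ≫ a₁ ≫ b₁ ≫ v + u ≫ a₂ ≫ b₂ ≫ v = 0 := by
    have : u ≫ (a₁ ≫ b₁ + a₂ ≫ b₂) ≫ v = 0 := by rw [htot, Category.id_comp, huv]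
    simpa only [Preadditive.add_comp, Preadditive.comp_add, Category.assoc] using this
  have h1 : b₁ ≫ v ≫ s₂ + r₁ ≫ u ≫ a₂ = 0 := by
    have : r₁ ≫ (u ≫ a₁ ≫ b₁ ≫ v + u ≫ a₂ ≫ b₂ ≫ v) ≫ s₂ = 0 := by
      rw [h0, zero_comp, comp_zero]
    simp only [Preadditive.add_comp, Preadditive.comp_add, Category.assoc] at this
    rw [reassoc_of% hr₁', hs₂, Category.comp_id] at this
    exact this
  have hkey : a₁ ≫ r₁ ≫ u + v ≫ s₂ ≫ b₂ = 𝟙 A := by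
    have e1 : a₁ ≫ r₁ ≫ u = a₁ ≫ b₁ + a₁ ≫ (r₁ ≫ u ≫ a₂) ≫ b₂ := by
      have : a₁ ≫ r₁ ≫ u ≫ (a₁ ≫ b₁ + a₂ ≫ b₂) = a₁ ≫ r₁ ≫ u := by
        rw [htot, Category.comp_id]
      rw [← this]
      simp only [Preadditive.comp_add, Category.assoc]
      rw [reassoc_of% hr₁']
    have e2 : v ≫ s₂ ≫ b₂ = a₁ ≫ (b₁ ≫ v ≫ s₂) ≫ b₂ + a₂ ≫ b₂ := by
      have : (a₁ ≫ b₁ + a₂ ≫ b₂) ≫ v ≫ s₂ ≫ b₂ = v ≫ s₂ ≫ b₂ := by
        rw [htot, Category.id_comp]
      rw [← this]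
      simp only [Preadditive.add_comp, Category.assoc]
      rw [reassoc_of% hs₂]
    rw [e1, e2, ← htot]
    have e3 : a₁ ≫ (r₁ ≫ u ≫ a₂) ≫ b₂ + a₁ ≫ (b₁ ≫ v ≫ s₂) ≫ b₂ = 0 := by
      rw [← Preadditive.comp_add, ← Preadditive.add_comp, add_comm, h1, zero_comp, comp_zero]
    calc a₁ ≫ b₁ + a₁ ≫ (r₁ ≫ u ≫ a₂) ≫ b₂ + (a₁ ≫ (b₁ ≫ v ≫ s₂) ≫ b₂ + a₂ ≫ b₂)
        = a₁ ≫ b₁ + a₂ ≫ b₂ +
          (a₁ ≫ (r₁ ≫ u ≫ a₂) ≫ b₂ + a₁ ≫ (b₁ ≫ v ≫ s₂) ≫ b₂) := by abel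
      _ = a₁ ≫ b₁ + a₂ ≫ b₂ := by rw [e3, add_zero]
  haveI : Mono u := mono_of_mono_fac hr₁
  have hd' : d' = 0 := Triangle.mor₃_eq_zero_of_mono₁ _ hT ‹Mono u›
  haveI : Epi v' := Triangle.epi₂ _ hT hd'
  have huv' : u ≫ v' = 0 := comp_distTriang_mor_zero₁₂ _ hT
  refine ⟨⟨(s₂ ≫ b₂) ≫ v', ?_, ?_⟩⟩
  · rw [← cancel_epi v', ← Category.assoc, hw, Category.comp_id]
    have : v ≫ (s₂ ≫ b₂) ≫ v' = (a₁ ≫ r₁ ≫ u + v ≫ s₂ ≫ b₂) ≫ v' := by
      simp only [Preadditive.add_comp, Category.assoc, huv', comp_zero, zero_add]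
    rw [this, hkey, Category.id_comp]
  · rw [Category.assoc, hw, Category.assoc]
    exact hs₂'

/-- In a distinguished triangle `X ⟶ A ⟶ C₀ ⟶ X⟦1⟧` where `A` is a biproduct of `A₁` and `A₂`
and the second component `A₂ ⟶ C₀` is invertible, the first component `X ⟶ A₁` is invertible. -/
theorem isIso_comp_fst_of_isIso_inr_comp {X A C₀ : C} {u : X ⟶ A} {v : A ⟶ C₀}
    {d : C₀ ⟶ X⟦(1 : ℤ)⟧} (hT : Triangle.mk u v d ∈ distTriang C) {A₁ A₂ : C}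
    (a₁ : A ⟶ A₁) (a₂ : A ⟶ A₂) (b₁ : A₁ ⟶ A) (b₂ : A₂ ⟶ A)
    (htot : a₁ ≫ b₁ + a₂ ≫ b₂ = 𝟙 A) (h11 : b₁ ≫ a₁ = 𝟙 A₁) (h21 : b₂ ≫ a₁ = 0)
    (h₂ : IsIso (b₂ ≫ v)) : IsIso (u ≫ a₁) := by
  obtain ⟨s₂, hs₂, hs₂'⟩ : ∃ s₂ : C₀ ⟶ A₂, b₂ ≫ v ≫ s₂ = 𝟙 _ ∧ s₂ ≫ b₂ ≫ v = 𝟙 _ :=
    ⟨inv (b₂ ≫ v), by rw [← Category.assoc]; exact IsIso.hom_inv_id _, IsIso.inv_hom_id _⟩
  have huv : u ≫ v = 0 := comp_distTriang_mor_zero₁₂ _ hT
  haveI : Epi v := epi_of_epi_fac (show (s₂ ≫ b₂) ≫ v = 𝟙 C₀ by rw [Category.assoc]; exact hs₂')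
  have hd : d = 0 := Triangle.mor₃_eq_zero_of_epi₂ _ hT ‹Epi v›
  haveI : Mono u := Triangle.mono₁ _ hT hd
  have hk : (b₁ - b₁ ≫ v ≫ s₂ ≫ b₂) ≫ v = 0 := by
    rw [Preadditive.sub_comp, Category.assoc, Category.assoc, Category.assoc, hs₂',
      Category.comp_id, sub_self]
  obtain ⟨κ, hκ⟩ := coyoneda₂' hT _ hk
  refine ⟨⟨κ, ?_, ?_⟩⟩
  · rw [← cancel_mono u, Category.assoc, Category.assoc, ← hκ, Category.id_comp]
    have e1 : u ≫ a₁ ≫ b₁ = u - u ≫ a₂ ≫ b₂ := by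
      have : u ≫ (a₁ ≫ b₁ + a₂ ≫ b₂) = u := by rw [htot, Category.comp_id]
      rw [Preadditive.comp_add] at this
      rw [eq_sub_iff_add_eq]
      exact this
    calc u ≫ a₁ ≫ (b₁ - b₁ ≫ v ≫ s₂ ≫ b₂)
        = u ≫ a₁ ≫ b₁ - (u ≫ a₁ ≫ b₁) ≫ v ≫ s₂ ≫ b₂ := by
          simp only [Preadditive.comp_sub, Category.assoc]
      _ = (u - u ≫ a₂ ≫ b₂) - (u - u ≫ a₂ ≫ b₂) ≫ v ≫ s₂ ≫ b₂ := by rw [e1]
      _ = u := by
          rw [Preadditive.sub_comp, reassoc_of% huv, zero_comp, Category.assoc, Category.assoc,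
            reassoc_of% hs₂]
          abel
  · rw [← Category.assoc, ← hκ, Preadditive.sub_comp, h11, Category.assoc, Category.assoc,
      Category.assoc, h21, comp_zero, comp_zero, comp_zero, sub_zero]

section Functor

variable {D : Type*} [Category D] [Preadditive D] [HasZeroObject D] [HasShift D ℤ]
  [∀ n : ℤ, (shiftFunctor D n).Additive] [Pretriangulated D]
  (F : C ⥤ D) [F.CommShift ℤ] [F.IsTriangulated]

theorem isZero_obj_shift (Z : C) (hZ : IsZero (F.obj Z)) (n : ℤ) : IsZero (F.obj (Z⟦n⟧)) := by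
  have h1 : IsZero ((F.obj Z)⟦n⟧) := (shiftFunctor D n).map_isZero hZ
  exact h1.of_iso ((F.commShiftIso n).app Z)

/-- The shift trick for a general functor. -/
theorem shift_trick' {X Y : C} (m : X ⟶ Y)
    (h : ∀ (Z : C), IsZero (F.obj Z) → ∀ g : Z ⟶ X, g ≫ m = 0 → g = 0)
    (n : ℤ) (Z : C) (hZ : IsZero (F.obj Z)) (g : Z ⟶ X⟦n⟧) (hg : g ≫ m⟦n⟧' = 0) : g = 0 := by
  have hZ' := isZero_obj_shift F Z hZ (-n)
  have key : (g⟦-n⟧' ≫ (shiftFunctorCompIsoId C n (-n) (add_neg_cancel n)).hom.app X) ≫ m = 0 := by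
    have hnat := (shiftFunctorCompIsoId C n (-n) (add_neg_cancel n)).hom.naturality m
    simp only [Functor.comp_map, Functor.id_map] at hnat
    rw [Category.assoc, ← hnat, ← Category.assoc, ← Functor.map_comp, hg, Functor.map_zero,
      zero_comp]
  have h0 := h _ hZ' _ key
  have h1 : g⟦-n⟧' = 0 := by
    rw [← cancel_mono ((shiftFunctorCompIsoId C n (-n) (add_neg_cancel n)).hom.app X), h0,
      zero_comp]
  apply (shiftFunctor C (-n)).map_injective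
  rw [h1, Functor.map_zero]

/-- A map is invertible if its image under `F` is, and composing with it is bijective on maps
out of the kernel of `F`. -/
theorem isIso_of_conservative_pair {X Y : C} (θ : X ⟶ Y) (h1 : IsIso (F.map θ))
    (hinj : ∀ Z, IsZero (F.obj Z) → ∀ g : Z ⟶ X, g ≫ θ = 0 → g = 0)
    (hsurj : ∀ Z, IsZero (F.obj Z) → ∀ h : Z ⟶ Y, ∃ g : Z ⟶ X, g ≫ θ = h) : IsIso θ := by
  obtain ⟨K, p, r, hK⟩ := distinguished_cocone_triangle θ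
  have hFK : IsZero (F.obj K) := by
    have hFK' : Triangle.mk (F.map θ) (F.map p)
        (F.map r ≫ (F.commShiftIso (1 : ℤ)).hom.app X) ∈ distTriang D :=
      F.map_distinguished _ hK
    exact Triangle.isZero₃_of_isIso₁ _ hFK' h1
  have hK0 : IsZero K := by
    rw [IsZero.iff_id_eq_zero]
    have hr : 𝟙 K ≫ r = 0 := by
      apply shift_trick' F θ hinj 1 K hFK
      rw [Category.assoc]
      have h31 : r ≫ θ⟦(1 : ℤ)⟧' = 0 := comp_distTriang_mor_zero₃₁ _ hK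
      rw [h31, comp_zero]
    obtain ⟨g₁, hg₁⟩ := coyoneda₃' hK _ hr
    obtain ⟨g₂, hg₂⟩ := hsurj K hFK g₁
    have h12 : θ ≫ p = 0 := comp_distTriang_mor_zero₁₂ _ hK
    rw [hg₁, ← hg₂, Category.assoc, h12, comp_zero]
  exact (Triangle.isZero₃_iff_isIso₁ _ hK).mp hK0

end Functor

end General

variable {S S' R R' : Type u} [Category.{v} S] [Category.{v} S'] [Category.{v} R] [Category.{v} R']
  [Preadditive S] [Preadditive S'] [Preadditive R] [Preadditive R']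
  [HasZeroObject S] [HasZeroObject S'] [HasZeroObject R] [HasZeroObject R']
  [HasShift S ℤ] [HasShift S' ℤ] [HasShift R ℤ] [HasShift R' ℤ]
  [∀ n : ℤ, (shiftFunctor S n).Additive] [∀ n : ℤ, (shiftFunctor S' n).Additive]
  [∀ n : ℤ, (shiftFunctor R n).Additive] [∀ n : ℤ, (shiftFunctor R' n).Additive]
  [Pretriangulated S] [Pretriangulated S'] [Pretriangulated R] [Pretriangulated R']
  (q : W4c3perfectstacks.MVSq S S' R R')
  [q.jst.CommShift ℤ] [q.fst.CommShift ℤ] [q.jpst.CommShift ℤ] [q.gst.CommShift ℤ]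
  [q.jst.IsTriangulated] [q.fst.IsTriangulated] [q.jpst.IsTriangulated] [q.gst.IsTriangulated]

/-- An object is local if it receives only zero maps from the kernel of `j^*`. -/
def IsLocal (W : S) : Prop :=
  ∀ (Z : S), IsZero (q.jst.obj Z) → ∀ g : Z ⟶ W, g = 0

/-- The kernel of `j^*` is stable under shifts. -/
theorem isZero_jst_shift (Z : S) (hZ : IsZero (q.jst.obj Z)) (n : ℤ) :
    IsZero (q.jst.obj (Z⟦n⟧)) := by
  have h1 : IsZero ((q.jst.obj Z)⟦n⟧) := (shiftFunctor R n).map_isZero hZ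
  exact h1.of_iso ((q.jst.commShiftIso n).app Z)

/-- The shift trick: a cancellation property for maps out of the kernel of `j^*` passes to
shifts. -/
theorem shift_trick {X Y : S} (m : X ⟶ Y)
    (h : ∀ (Z : S), IsZero (q.jst.obj Z) → ∀ g : Z ⟶ X, g ≫ m = 0 → g = 0)
    (n : ℤ) (Z : S) (hZ : IsZero (q.jst.obj Z)) (g : Z ⟶ X⟦n⟧) (hg : g ≫ m⟦n⟧' = 0) : g = 0 := by
  have hZ' := isZero_jst_shift q Z hZ (-n)
  have key : (g⟦-n⟧' ≫ (shiftFunctorCompIsoId S n (-n) (add_neg_cancel n)).hom.app X) ≫ m = 0 := by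
    have hnat := (shiftFunctorCompIsoId S n (-n) (add_neg_cancel n)).hom.naturality m
    simp only [Functor.comp_map, Functor.id_map] at hnat
    rw [Category.assoc, ← hnat, ← Category.assoc, ← Functor.map_comp, hg, Functor.map_zero,
      zero_comp]
  have h0 := h _ hZ' _ key
  have h1 : g⟦-n⟧' = 0 := by
    rw [← cancel_mono ((shiftFunctorCompIsoId S n (-n) (add_neg_cancel n)).hom.app X), h0,
      zero_comp]
  apply (shiftFunctor S (-n)).map_injective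
  rw [h1, Functor.map_zero]

theorem IsLocal.shift {W : S} (hW : IsLocal q W) (n : ℤ) : IsLocal q (W⟦n⟧) := by
  intro Z hZ g
  exact shift_trick q (0 : W ⟶ W) (fun Z' hZ' g' _ => hW Z' hZ' g') n Z hZ g
    (by rw [Functor.map_zero, comp_zero])

theorem IsLocal.of_iso {W W' : S} (hW : IsLocal q W) (e : W ≅ W') :
    IsLocal q W' := by
  intro Z hZ g
  have := hW Z hZ (g ≫ e.inv)
  rw [← cancel_mono e.inv, this, zero_comp]

/-- Objects in the image of `j_*` are local. -/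
theorem isLocal_jls (Y : R) : IsLocal q (q.jls.obj Y) := by
  intro Z hZ g
  apply (q.adjJ.homEquiv Z Y).symm.injective
  exact hZ.eq_of_src _ _

/-- `j'^* f^*` kills the kernel of `j^*`. -/
theorem isZero_jpst_fst (Z : S) (hZ : IsZero (q.jst.obj Z)) :
    IsZero (q.jpst.obj (q.fst.obj Z)) := by
  have h1 : IsZero (q.gst.obj (q.jst.obj Z)) := q.gst.map_isZero hZ
  exact h1.of_iso (q.e.app Z).symm

/-- Objects in the image of `f_* j'_*` are local. -/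
theorem isLocal_fls_jpls (Y' : R') : IsLocal q (q.fls.obj (q.jpls.obj Y')) := by
  intro Z hZ g
  apply (q.adjF.homEquiv Z _).symm.injective
  apply (q.adjJp.homEquiv _ Y').symm.injective
  exact (isZero_jpst_fst q Z hZ).eq_of_src _ _

/-- The third vertex of the Mayer–Vietoris triangle is local. -/
theorem isLocal_C (hq : q.IsMV) (P : R) : IsLocal q (q.fls.obj (q.fst.obj (q.jls.obj P))) := by
  haveI := hq.isIso_bc2App P
  exact (isLocal_fls_jpls q (q.gst.obj P)).of_iso q (q.fls.mapIso (asIso (q.bc2App P))).symm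

theorem isIso_jst_unit (hq : q.IsMV) (N : S) : IsIso (q.jst.map (q.adjJ.unit.app N)) := by
  haveI := hq.isIso_counitJ
  have h := q.adjJ.left_triangle_components N
  haveI : IsIso (q.jst.map (q.adjJ.unit.app N) ≫ q.adjJ.counit.app (q.jst.obj N)) := by
    rw [h]; exact IsIso.id _
  exact IsIso.of_isIso_comp_right _ (q.adjJ.counit.app (q.jst.obj N))

/-- The localisation triangle `G ⟶ N ⟶ j_* j^* N ⟶ G⟦1⟧` with `j^* G = 0`. -/
theorem exists_loc_triangle (hq : q.IsMV) (N : S) :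
    ∃ (G : S) (i : G ⟶ N) (δ : q.jls.obj (q.jst.obj N) ⟶ G⟦(1 : ℤ)⟧),
      Triangle.mk i (q.adjJ.unit.app N) δ ∈ distTriang S ∧ IsZero (q.jst.obj G) := by
  obtain ⟨G, i, δ, hT⟩ := distinguished_cocone_triangle₁ (q.adjJ.unit.app N)
  refine ⟨G, i, δ, hT, ?_⟩
  have hT' := q.jst.map_distinguished _ hT
  haveI := isIso_jst_unit q hq N
  exact Triangle.isZero₁_of_isIso₂ _ hT'
    (show IsIso (q.jst.map (q.adjJ.unit.app N)) from inferInstance)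

/-- For `Z` in the kernel of `j^*`, composition with the unit of `f` at `N` is bijective on maps
out of `Z`. -/
theorem unitF_comp_bijective_aux (hq : q.IsMV) (N Z : S) (hZ : IsZero (q.jst.obj Z)) :
    (∀ g : Z ⟶ N, g ≫ q.adjF.unit.app N = 0 → g = 0) ∧
    (∀ h : Z ⟶ q.fls.obj (q.fst.obj N), ∃ g : Z ⟶ N, g ≫ q.adjF.unit.app N = h) := by
  letI : q.fls.CommShift ℤ := q.adjF.rightAdjointCommShift ℤ
  haveI : q.adjF.CommShift ℤ := q.adjF.commShift_of_leftAdjoint ℤ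
  haveI : q.fls.IsTriangulated := q.adjF.isTriangulated_rightAdjoint
  obtain ⟨G, i, δ, hT, hG⟩ := exists_loc_triangle q hq N
  haveI : IsIso (q.adjF.unit.app G) := hq.isIso_unitF G hG
  obtain ⟨κ, hκ1, hκ2⟩ : ∃ κ : q.fls.obj (q.fst.obj G) ⟶ G,
      κ ≫ q.adjF.unit.app G = 𝟙 _ ∧ q.adjF.unit.app G ≫ κ = 𝟙 _ :=
    ⟨inv (q.adjF.unit.app G), IsIso.inv_hom_id _, IsIso.hom_inv_id _⟩
  have hT' : Triangle.mk (q.fls.map (q.fst.map i)) (q.fls.map (q.fst.map (q.adjJ.unit.app N)))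
      (q.fls.map (q.fst.map δ ≫ (q.fst.commShiftIso (1 : ℤ)).hom.app G) ≫
        (q.fls.commShiftIso (1 : ℤ)).hom.app (q.fst.obj G)) ∈ distTriang S :=
    q.fls.map_distinguished _ (q.fst.map_distinguished _ hT)
  have hB : IsLocal q (q.jls.obj (q.jst.obj N)) := isLocal_jls q _
  have hC : IsLocal q (q.fls.obj (q.fst.obj (q.jls.obj (q.jst.obj N)))) := isLocal_C q hq _
  have hnat : i ≫ q.adjF.unit.app N = q.adjF.unit.app G ≫ q.fls.map (q.fst.map i) :=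
    q.adjF.unit.naturality i
  constructor
  · intro g hg
    obtain ⟨h, rfl⟩ := coyoneda₂' hT g (hB Z hZ _)
    have hk : (h ≫ q.adjF.unit.app G) ≫ q.fls.map (q.fst.map i) = 0 := by
      rw [Category.assoc, ← hnat, ← Category.assoc]
      exact hg
    have hk0 : h ≫ q.adjF.unit.app G = 0 :=
      coyoneda₁_zero hT' _ hk (fun l => (hC.shift q (-1)) Z hZ l)
    have h0 : h = 0 := by
      have := congrArg (fun t => t ≫ κ) hk0
      simpa [hκ2] using this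
    rw [h0, zero_comp]
  · intro h
    obtain ⟨h₁, hh₁⟩ := coyoneda₂' hT' h (hC Z hZ _)
    refine ⟨(h₁ ≫ κ) ≫ i, ?_⟩
    rw [Category.assoc, hnat, Category.assoc, reassoc_of% hκ1]
    exact hh₁.symm

/-- Maps from `N⟦1⟧` to a local object factor through the shifted unit of `j`. -/
theorem factor_through_unit_shift (hq : q.IsMV) (N : S) {W : S} (hW : IsLocal q W)
    (ψ : N⟦(1 : ℤ)⟧ ⟶ W) :
    ∃ ψ' : (q.jls.obj (q.jst.obj N))⟦(1 : ℤ)⟧ ⟶ W, ψ = (q.adjJ.unit.app N)⟦(1 : ℤ)⟧' ≫ ψ' := by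
  obtain ⟨G, i, δ, hT, hG⟩ := exists_loc_triangle q hq N
  exact yoneda_shift₂' hT ψ (hW _ (isZero_jst_shift q G hG 1) _)

/-- In a distinguished triangle `N ⟶ A ⟶ C ⟶ N⟦1⟧` whose first map has the unit of `j` as a
component, the connecting map composed with any map from `N⟦1⟧` to a local object vanishes. -/
theorem d_comp_eq_zero (hq : q.IsMV) (N : S) {A C : S} (u : N ⟶ A) (v : A ⟶ C)
    (d : C ⟶ N⟦(1 : ℤ)⟧) (hT : Triangle.mk u v d ∈ distTriang S)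
    (p : A ⟶ q.jls.obj (q.jst.obj N)) (hp : u ≫ p = q.adjJ.unit.app N)
    {W : S} (hW : IsLocal q W) (ψ : N⟦(1 : ℤ)⟧ ⟶ W) : d ≫ ψ = 0 := by
  obtain ⟨ψ', rfl⟩ := factor_through_unit_shift q hq N hW ψ
  have h0 : d ≫ u⟦(1 : ℤ)⟧' = 0 := comp_distTriang_mor_zero₃₁ _ hT
  rw [← hp, Functor.map_comp, Category.assoc, reassoc_of% h0, zero_comp]

/-- Naturality of the base-change map. -/
theorem bcApp_naturality {M₁ M₂ : S'} (m : M₁ ⟶ M₂) :
    q.jst.map (q.fls.map m) ≫ q.bcApp M₂ = q.bcApp M₁ ≫ q.gls.map (q.jpst.map m) := by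
  have n1 : q.jst.map (q.fls.map m) ≫ q.adjG.unit.app (q.jst.obj (q.fls.obj M₂)) =
      q.adjG.unit.app (q.jst.obj (q.fls.obj M₁)) ≫
        q.gls.map (q.gst.map (q.jst.map (q.fls.map m))) :=
    q.adjG.unit.naturality (q.jst.map (q.fls.map m))
  have n2 : q.gst.map (q.jst.map (q.fls.map m)) ≫ q.e.hom.app (q.fls.obj M₂) =
      q.e.hom.app (q.fls.obj M₁) ≫ q.jpst.map (q.fst.map (q.fls.map m)) :=
    q.e.hom.naturality (q.fls.map m)
  have n3 : q.fst.map (q.fls.map m) ≫ q.adjF.counit.app M₂ = q.adjF.counit.app M₁ ≫ m :=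
    q.adjF.counit.naturality m
  unfold MVSq.bcApp
  rw [reassoc_of% n1]
  simp only [Category.assoc, ← Functor.map_comp]
  rw [reassoc_of% n2, ← Functor.map_comp, n3]

/-- `j^* f_*` sends maps inverted by `j'^*` to isomorphisms. -/
theorem isIso_jst_fls_map (hq : q.IsMV) {M₁ M₂ : S'} (m : M₁ ⟶ M₂)
    (hm : IsIso (q.jpst.map m)) : IsIso (q.jst.map (q.fls.map m)) := by
  haveI := hq.isIso_bcApp M₁
  haveI := hq.isIso_bcApp M₂
  have hnat := bcApp_naturality q m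
  have : q.jst.map (q.fls.map m) =
      q.bcApp M₁ ≫ q.gls.map (q.jpst.map m) ≫ inv (q.bcApp M₂) := by
    rw [← Category.assoc, ← hnat, Category.assoc, IsIso.hom_inv_id, Category.comp_id]
  rw [this]
  infer_instance

/-- `j^* f_*` kills objects killed by `j'^*`. -/
theorem isZero_jst_fls (hq : q.IsMV) (M : S') (hM : IsZero (q.jpst.obj M)) :
    IsZero (q.jst.obj (q.fls.obj M)) := by
  haveI := hq.isIso_bcApp M
  have hg : IsZero (q.gls.obj (q.jpst.obj M)) := by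
    rw [IsZero.iff_id_eq_zero]
    exact (q.adjG.homEquiv _ _).symm.injective (hM.eq_of_tgt _ _)
  exact hg.of_iso (asIso (q.bcApp M))

/-- `j^* f_* f^*` of the unit of `j` is invertible. -/
theorem isIso_jst_fls_fst_unit (hq : q.IsMV) (N : S) :
    IsIso (q.jst.map (q.fls.map (q.fst.map (q.adjJ.unit.app N)))) := by
  haveI := isIso_jst_unit q hq N
  haveI h1 : IsIso (q.jpst.map (q.fst.map (q.adjJ.unit.app N))) := by
    have hn : q.gst.map (q.jst.map (q.adjJ.unit.app N)) ≫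
        q.e.hom.app (q.jls.obj (q.jst.obj N)) =
        q.e.hom.app N ≫ q.jpst.map (q.fst.map (q.adjJ.unit.app N)) :=
      q.e.hom.naturality (q.adjJ.unit.app N)
    have : q.jpst.map (q.fst.map (q.adjJ.unit.app N)) =
        q.e.inv.app N ≫ q.gst.map (q.jst.map (q.adjJ.unit.app N)) ≫
          q.e.hom.app (q.jls.obj (q.jst.obj N)) := by
      rw [hn, Iso.inv_hom_id_app_assoc]
    rw [this]
    infer_instance
  haveI := hq.isIso_bcApp (q.fst.obj N)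
  haveI := hq.isIso_bcApp (q.fst.obj (q.jls.obj (q.jst.obj N)))
  have hnat : q.jst.map (q.fls.map (q.fst.map (q.adjJ.unit.app N))) ≫
      q.bcApp (q.fst.obj (q.jls.obj (q.jst.obj N))) =
      q.bcApp (q.fst.obj N) ≫ q.gls.map (q.jpst.map (q.fst.map (q.adjJ.unit.app N))) :=
    bcApp_naturality q (q.fst.map (q.adjJ.unit.app N))
  have : q.jst.map (q.fls.map (q.fst.map (q.adjJ.unit.app N))) =
      q.bcApp (q.fst.obj N) ≫ q.gls.map (q.jpst.map (q.fst.map (q.adjJ.unit.app N))) ≫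
        inv (q.bcApp (q.fst.obj (q.jls.obj (q.jst.obj N)))) := by
    rw [← Category.assoc, ← hnat, Category.assoc, IsIso.hom_inv_id, Category.comp_id]
  rw [this]
  infer_instance

/-- The cone of `N ⟶ j_* j^* N ⊞ f_* f^* N` is local. -/
theorem isLocal_cone (hq : q.IsMV) (N : S) {C' : S}
    (v' : q.jls.obj (q.jst.obj N) ⊞ q.fls.obj (q.fst.obj N) ⟶ C') (d' : C' ⟶ N⟦(1 : ℤ)⟧)
    (hT : Triangle.mk (biprod.lift (q.adjJ.unit.app N) (q.adjF.unit.app N)) v' d' ∈ distTriang S) :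
    IsLocal q C' := by
  intro Z hZ g
  have hB : IsLocal q (q.jls.obj (q.jst.obj N)) := isLocal_jls q _
  obtain ⟨hinj, hsurj⟩ := unitF_comp_bijective_aux q hq N Z hZ
  have hγ : g ≫ d' = 0 := by
    apply shift_trick q (q.adjF.unit.app N)
      (fun Z' hZ' g' hg' => (unitF_comp_bijective_aux q hq N Z' hZ').1 g' hg') 1 Z hZ
    have h0 : d' ≫ (biprod.lift (q.adjJ.unit.app N) (q.adjF.unit.app N))⟦(1 : ℤ)⟧' = 0 :=
      comp_distTriang_mor_zero₃₁ _ hT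
    have e : (q.adjF.unit.app N)⟦(1 : ℤ)⟧' =
        (biprod.lift (q.adjJ.unit.app N) (q.adjF.unit.app N))⟦(1 : ℤ)⟧' ≫
          (biprod.snd)⟦(1 : ℤ)⟧' := by
      rw [← Functor.map_comp]
      congr 1
      simp
    rw [Category.assoc, e, ← Category.assoc d', h0, zero_comp, comp_zero]
  obtain ⟨h, rfl⟩ := coyoneda₃' hT g hγ
  obtain ⟨h₀, hh₀⟩ := hsurj (h ≫ biprod.snd)
  have hh : h = h₀ ≫ biprod.lift (q.adjJ.unit.app N) (q.adjF.unit.app N) := by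
    apply biprod.hom_ext
    · rw [Category.assoc, biprod.lift_fst]
      exact (hB Z hZ _).trans (hB Z hZ _).symm
    · rw [Category.assoc, biprod.lift_snd]
      exact hh₀.symm
  have h12 : biprod.lift (q.adjJ.unit.app N) (q.adjF.unit.app N) ≫ v' = 0 :=
    comp_distTriang_mor_zero₁₂ _ hT
  rw [hh, Category.assoc, h12, comp_zero]

end Groth.Agent.Lib.Helper24.MVSq
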