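import Groth.Agent.Lib.Helper24.KSAbstract
import Groth.Agent.Lib.Helper26.RefShB
import Groth.Agent.Lib.Helper17.DevBasic
import Groth.Agent.S0002

set_option autoImplicit false
set_option maxHeartbeats 400000
set_option linter.style.haveILetI false
set_option linter.unusedSectionVars false
set_option linter.unusedVariables false

/-!
# Krull–Schmidt (Atiyah) for coherent sheaves on a proper scheme over a field

`Hom(F, G)` embeds `k`-linearly in `H⁰(X, 𝓗om(F, G))`, which is finite-dimensional by the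
finiteness theorem (S0002) since the sheaf Hom of coherent modules is coherent.  The abstract
Krull–Schmidt theorem then applies.
-/

universe u
open CategoryTheory CategoryTheory.Limits AlgebraicGeometry TopologicalSpace Opposite

noncomputable section

namespace Groth.Agent.Lib.Helper24.KSCoh

open Groth.Agent.Lib.Helper23.T2

variable {X : Scheme.{u}} {F G : X.Modules}

theorem stalkMapₗ_add (φ ψ : F ⟶ G) (x : X) :
    RefHull.stalkMapₗ (φ + ψ) x = RefHull.stalkMapₗ φ x + RefHull.stalkMapₗ ψ x := by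
  apply LinearMap.ext
  intro v
  obtain ⟨V, hV, m, rfl⟩ := TopCat.Presheaf.exists_germ_eq F.presheaf v
  have h : (φ + ψ).app V m = φ.app V m + ψ.app V m := rfl
  rw [LinearMap.add_apply, RefHull.stalkMapₗ_germ, RefHull.stalkMapₗ_germ,
    RefHull.stalkMapₗ_germ, h, map_add]

theorem ofHom_add (φ ψ : F ⟶ G) (U : X.Opens) :
    RefHull.ofHom (φ + ψ) U = RefHull.ofHom φ U + RefHull.ofHom ψ U := by
  apply Subtype.ext
  funext x
  exact stalkMapₗ_add φ ψ x.1

theorem ofHom_top_injective (φ ψ : F ⟶ G)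
    (h : RefHull.ofHom φ (⊤ : X.Opens) = RefHull.ofHom ψ ⊤) : φ = ψ := by
  apply Scheme.Modules.hom_ext
  intro W
  ext s
  refine TopCat.Presheaf.section_ext ⟨G.presheaf, G.isSheaf⟩ W _ _ fun y hy => ?_
  have h2 : RefHull.stalkMapₗ φ y = RefHull.stalkMapₗ ψ y :=
    congrArg (fun t : Γ(RefHull.homSh F G, ⊤) => t.1 ⟨y, Opens.mem_top y⟩) h
  have h3 := RefHull.stalkMapₗ_germ φ y hy s
  have h4 := RefHull.stalkMapₗ_germ ψ y hy s
  rw [h2] at h3
  exact h3.symm.trans h4

theorem isCoh_of_retract {M A : X.Modules} (hM : Coh.IsCoh M) (i : A ⟶ M) (r : M ⟶ A)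
    (h : i ≫ r = 𝟙 A) : Coh.IsCoh A := by
  have hq : (𝟙 M - r ≫ i) ≫ r = 0 := by
    rw [Preadditive.sub_comp, Category.id_comp, Category.assoc, h, Category.comp_id, sub_self]
  let e : cokernel (𝟙 M - r ≫ i) ≅ A :=
    { hom := cokernel.desc _ r hq
      inv := i ≫ cokernel.π _
      hom_inv_id := by
        rw [← cancel_epi (cokernel.π (𝟙 M - r ≫ i)), cokernel.π_desc_assoc, Category.comp_id]
        have h5 := cokernel.condition (𝟙 M - r ≫ i)
        rw [Preadditive.sub_comp, Category.id_comp, Category.assoc, sub_eq_zero] at h5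
        exact h5.symm
      inv_hom_id := by rw [Category.assoc, cokernel.π_desc, h] }
  exact Groth.Agent.Lib.Helper17.DevBasic.isCoh_of_iso e
    (Groth.Agent.Lib.Helper17.DevBasic.isCoh_cokernel _ hM.1 hM)

theorem isCoh_summands {M A B : X.Modules} (hM : Coh.IsCoh M) (e : M ≅ A ⊞ B) :
    Coh.IsCoh A ∧ Coh.IsCoh B :=
  ⟨isCoh_of_retract hM (biprod.inl ≫ e.inv) (e.hom ≫ biprod.fst) (by simp),
   isCoh_of_retract hM (biprod.inr ≫ e.inv) (e.hom ≫ biprod.snd) (by simp)⟩

section Over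

variable (k : Type u) [Field k] [X.Over (Spec (CommRingCat.of k))]

theorem stalkMapₗ_smul (a : k) (φ : F ⟶ G) (x : X) :
    RefHull.stalkMapₗ (a • φ) x =
      X.presheaf.germ ⊤ x (Opens.mem_top x) (Coh.toGlobal (X ↘ Spec (CommRingCat.of k)) a) •
        RefHull.stalkMapₗ φ x := by
  apply LinearMap.ext
  intro v
  obtain ⟨V, hV, m, rfl⟩ := TopCat.Presheaf.exists_germ_eq F.presheaf v
  rw [LinearMap.smul_apply, RefHull.stalkMapₗ_germ, RefHull.stalkMapₗ_germ,
    KLin.smul_app_apply, Mero.germ_smul, TopCat.Presheaf.germ_res_apply]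

variable (X) in
/-- The image of a scalar in the global functions. -/
def gl (a : k) : Γ(X, ⊤) := Coh.toGlobal (X ↘ Spec (CommRingCat.of k)) a

theorem ofHom_smul (a : k) (φ : F ⟶ G) :
    RefHull.ofHom (a • φ) (⊤ : X.Opens) = gl X k a • RefHull.ofHom φ (⊤ : X.Opens) := by
  apply Subtype.ext
  funext x
  exact stalkMapₗ_smul k a φ x.1

/-- `Hom(F, G) → H⁰(X, 𝓗om(F, G))`, `k`-linear. -/
def homToH0 (F G : X.Modules) : (F ⟶ G) →ₗ[k] Coh.HH X (RefHull.homSh F G) 0 where
  toFun φ := (H0equiv (RefHull.homSh F G)).symm (RefHull.ofHom φ ⊤)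
  map_add' φ ψ := by
    show (H0equiv (RefHull.homSh F G)).symm (RefHull.ofHom (φ + ψ) ⊤) =
      (H0equiv (RefHull.homSh F G)).symm (RefHull.ofHom φ ⊤) +
      (H0equiv (RefHull.homSh F G)).symm (RefHull.ofHom ψ ⊤)
    rw [ofHom_add]
    exact map_add (H0equiv (RefHull.homSh F G)).symm _ _
  map_smul' a φ := by
    show (H0equiv (RefHull.homSh F G)).symm (RefHull.ofHom (a • φ) ⊤) =
      a • (H0equiv (RefHull.homSh F G)).symm (RefHull.ofHom φ ⊤)
    rw [ofHom_smul]
    exact (H0equiv (RefHull.homSh F G)).symm.map_smul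
      (Coh.toGlobal (X ↘ Spec (CommRingCat.of k)) a) _

theorem homToH0_injective (F G : X.Modules) : Function.Injective (homToH0 k F G) := by
  intro φ ψ h
  apply ofHom_top_injective
  exact (H0equiv (RefHull.homSh F G)).symm.injective h

theorem finite_hom [IsProper (X ↘ Spec (CommRingCat.of k))] (hF : Coh.IsCoh F)
    (hG : Coh.IsCoh G) : Module.Finite k (F ⟶ G) := by
  haveI : IsLocallyNoetherian X :=
    LocallyOfFiniteType.isLocallyNoetherian (X ↘ Spec (CommRingCat.of k))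
  have hH : Coh.IsCoh (RefHull.homSh F G) :=
    Groth.Agent.Lib.Helper26.RefSh.isCoh_homSh F G hF hG
  haveI : Module.Finite k (Coh.HH X (RefHull.homSh F G) 0) :=
    Groth.Agent.S0002.result k X _ hH 0
  exact Module.Finite.of_injective (homToH0 k F G) (homToH0_injective k F G)

attribute [local instance] Abelian.hasFiniteBiproducts

open Groth.Agent.Lib.Helper24.KS in
/-- Krull–Schmidt for coherent modules on a proper scheme over a field. -/
theorem main [IsProper (X ↘ Spec (CommRingCat.of k))] (F : X.Modules) (hF : Coh.IsCoh F) :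
    (∃ (n : ℕ) (Fs : Fin n → X.Modules),
      (∀ i, (¬ IsZero (Fs i) ∧
        ∀ A B : X.Modules, Nonempty ((Fs i) ≅ A ⊞ B) → IsZero A ∨ IsZero B)) ∧
      Nonempty (F ≅ ∐ Fs)) ∧
    (∀ (n m : ℕ) (Fs : Fin n → X.Modules) (Gs : Fin m → X.Modules),
      (∀ i, (¬ IsZero (Fs i) ∧
        ∀ A B : X.Modules, Nonempty ((Fs i) ≅ A ⊞ B) → IsZero A ∨ IsZero B)) →
      (∀ j, (¬ IsZero (Gs j) ∧
        ∀ A B : X.Modules, Nonempty ((Gs j) ≅ A ⊞ B) → IsZero A ∨ IsZero B)) →
      Nonempty (F ≅ ∐ Fs) → Nonempty (F ≅ ∐ Gs) →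
      ∃ e : Fin n ≃ Fin m, ∀ i, Nonempty (Fs i ≅ Gs (e i))) := by
  have hfin : ∀ M : X.Modules, Coh.IsCoh M → Module.Finite k (M ⟶ M) :=
    fun M hM => finite_hom k hM hM
  constructor
  · obtain ⟨n, Fs, hFs, ⟨e⟩⟩ := exists_decomp (k := k) (C := X.Modules) Coh.IsCoh hfin
      (fun M A B hM e => isCoh_summands hM e) _ F hF (Nat.lt_succ_self _)
    exact ⟨n, Fs, fun i => hFs i, ⟨e ≪≫ biproduct.isoCoproduct Fs⟩⟩
  · intro n m Fs Gs hFs hGs ⟨eF⟩ ⟨eG⟩
    have hcohF : ∀ i, Coh.IsCoh (Fs i) := fun i =>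
      isCoh_of_retract hF (biproduct.ι Fs i ≫ (biproduct.isoCoproduct Fs).hom ≫ eF.inv)
        (eF.hom ≫ (biproduct.isoCoproduct Fs).inv ≫ biproduct.π Fs i) (by simp)
    have hcohG : ∀ j, Coh.IsCoh (Gs j) := fun j =>
      isCoh_of_retract hF (biproduct.ι Gs j ≫ (biproduct.isoCoproduct Gs).hom ≫ eG.inv)
        (eG.hom ≫ (biproduct.isoCoproduct Gs).inv ≫ biproduct.π Gs j) (by simp)
    have hLF : ∀ i, LocalEnd (Fs i) := fun i => by
      haveI := hfin (Fs i) (hcohF i)
      exact localEnd_of_finite (k := k) (hFs i)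
    have hLG : ∀ j, LocalEnd (Gs j) := fun j => by
      haveI := hfin (Gs j) (hcohG j)
      exact localEnd_of_finite (k := k) (hGs j)
    exact krullSchmidt n (Fin n) (Fin m) Fs Gs (Fintype.card_fin n) hLF hLG
      (biproduct.isoCoproduct Fs ≪≫ eF.symm ≪≫ eG ≪≫ (biproduct.isoCoproduct Gs).symm)

end Over

end Groth.Agent.Lib.Helper24.KSCoh
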