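import Mathlib
import Groth.Prelude.Def_Pi1
import Groth.Agent.Lib.Helper8.NormalSmooth

/-!
# A connected finite etale cover of a normal integral scheme is a normal integral scheme
-/

set_option autoImplicit false
set_option maxHeartbeats 400000

universe u

namespace Groth.Agent.Lib.Helper24.FEtNormal

open CategoryTheory AlgebraicGeometry TopologicalSpace

/-- A connected space with a finite set `G` of points such that every point is a specialization
of a point of `G`, uniquely, is irreducible. -/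
theorem irreducibleSpace_of_finite_generic {Y : Type*} [TopologicalSpace Y] [ConnectedSpace Y]
    (G : Set Y) (hG : G.Finite) (h1 : ∀ y : Y, ∃ g ∈ G, g ⤳ y)
    (h2 : ∀ (y g g' : Y), g ∈ G → g' ∈ G → g ⤳ y → g' ⤳ y → g = g') :
    IrreducibleSpace Y := by
  obtain ⟨y₀⟩ := (inferInstance : Nonempty Y)
  obtain ⟨g, hg, -⟩ := h1 y₀
  have hclosed : IsClosed (closure {g} : Set Y) := isClosed_closure
  have hopen : IsOpen (closure {g} : Set Y) := by
    have hc : (closure {g} : Set Y)ᶜ = ⋃ g' ∈ G \ {g}, closure {g'} := by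
      ext y
      simp only [Set.mem_compl_iff, Set.mem_iUnion, Set.mem_diff, Set.mem_singleton_iff,
        exists_prop]
      constructor
      · intro hy
        obtain ⟨g', hg', hs⟩ := h1 y
        refine ⟨g', ⟨hg', ?_⟩, specializes_iff_mem_closure.mp hs⟩
        rintro rfl
        exact hy (specializes_iff_mem_closure.mp hs)
      · rintro ⟨g', ⟨hg', hne⟩, hy⟩ hy'
        exact hne (h2 y g' g hg' hg (specializes_iff_mem_closure.mpr hy)
          (specializes_iff_mem_closure.mpr hy'))
    rw [← isClosed_compl_iff, hc]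
    exact (hG.subset Set.diff_subset).isClosed_biUnion (fun _ _ => isClosed_closure)
  have huniv : (closure {g} : Set Y) = Set.univ :=
    IsClopen.eq_univ ⟨hclosed, hopen⟩ ⟨g, subset_closure rfl⟩
  have hirr : IsIrreducible (Set.univ : Set Y) := huniv ▸ isIrreducible_singleton.closure
  exact { isPreirreducible_univ := hirr.isPreirreducible, toNonempty := ⟨g⟩ }

theorem isIntegrallyClosed_sections {X : Scheme.{u}} [IsIntegral X] (hX : Pi1.IsNormalScheme X)
    {U : X.Opens} (hU : IsAffineOpen U) [Nonempty U] : IsIntegrallyClosed Γ(X, U) := by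
  refine IsIntegrallyClosed.of_localization_maximal (fun p _ hp => ?_)
  haveI : p.IsPrime := hp.isPrime
  have hy : hU.fromSpec ⟨p, inferInstance⟩ ∈ U := (hU.isoSpec.inv _).2
  letI : Algebra Γ(X, U) (X.presheaf.stalk (hU.fromSpec ⟨p, inferInstance⟩)) :=
    TopCat.Presheaf.algebra_section_stalk X.presheaf ⟨hU.fromSpec ⟨p, inferInstance⟩, hy⟩
  haveI : IsLocalization.AtPrime (X.presheaf.stalk (hU.fromSpec ⟨p, inferInstance⟩)) p :=
    hU.isLocalization_stalk' ⟨p, inferInstance⟩ hy
  haveI := (hX (hU.fromSpec ⟨p, inferInstance⟩)).2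
  haveI := (hX (hU.fromSpec ⟨p, inferInstance⟩)).1
  exact IsIntegrallyClosed.of_equiv (IsLocalization.algEquiv p.primeCompl
    (X.presheaf.stalk (hU.fromSpec ⟨p, inferInstance⟩)) (Localization.AtPrime p)).toRingEquiv

theorem main {X : Scheme.{u}} [IsIntegral X] (hX : Pi1.IsNormalScheme X) (Y : FEt.Cat X)
    [ConnectedSpace Y.left] : IsIntegral Y.left ∧ Pi1.IsNormalScheme Y.left := by
  have hY : IsFinite Y.hom ∧ Etale Y.hom := Y.prop
  obtain ⟨f, hf⟩ : ∃ f : Y.left ⟶ X, f = Y.hom := ⟨_, rfl⟩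
  haveI : IsFinite f := hf ▸ hY.1
  haveI : Etale f := hf ▸ hY.2
  have hnormal : Pi1.IsNormalScheme Y.left := by
    intro y
    obtain ⟨U, hU, hfy, -⟩ := Opens.isBasis_iff_nbhd.mp X.isBasis_affineOpens
      (Opens.mem_top (f y))
    obtain ⟨V, hV, hyV, hVU⟩ := Opens.isBasis_iff_nbhd.mp Y.left.isBasis_affineOpens
      (show y ∈ f ⁻¹ᵁ U from hfy)
    haveI : Nonempty U := ⟨⟨f y, hfy⟩⟩
    haveI : Nonempty V := ⟨⟨y, hyV⟩⟩
    have het : (f.appLE U V hVU).hom.Etale :=
      HasRingHomProperty.appLE (P := @Etale) f inferInstance ⟨U, hU⟩ ⟨V, hV⟩ hVU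
    letI : Algebra Γ(X, U) Γ(Y.left, V) := (f.appLE U V hVU).hom.toAlgebra
    haveI : Algebra.Etale Γ(X, U) Γ(Y.left, V) := het
    haveI : IsIntegrallyClosed Γ(X, U) := isIntegrallyClosed_sections hX hU
    have hV' : IsAffineOpen V := hV
    letI := Y.left.presheaf.algebra_section_stalk ⟨y, hyV⟩
    haveI := hV'.isLocalization_stalk ⟨y, hyV⟩
    obtain ⟨hd, hc⟩ := Groth.Agent.Lib.Helper8.NormalSmooth.isDomain_isIntegrallyClosed_of_etale
      Γ(X, U) Γ(Y.left, V) (hV'.primeIdealOf ⟨y, hyV⟩).asIdeal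
    let e := IsLocalization.algEquiv (hV'.primeIdealOf ⟨y, hyV⟩).asIdeal.primeCompl
      (Localization.AtPrime (hV'.primeIdealOf ⟨y, hyV⟩).asIdeal) (Y.left.presheaf.stalk y)
    exact ⟨MulEquiv.isDomain _ e.symm.toRingEquiv.toMulEquiv,
      IsIntegrallyClosed.of_equiv e.toRingEquiv⟩
  haveI : ∀ y, IsDomain (Y.left.presheaf.stalk y) := fun y => (hnormal y).1
  haveI : IsReduced Y.left := isReduced_of_isReduced_stalk Y.left
  haveI : IrreducibleSpace Y.left := by
    apply irreducibleSpace_of_finite_generic (Y := ↥Y.left) (f ⁻¹' {genericPoint X})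
      (f.finite_preimage_singleton _)
    · intro y
      obtain ⟨y', hy', hfy'⟩ := (Flat.generalizingMap f) (genericPoint_specializes (f y))
      exact ⟨y', hfy', hy'⟩
    · intro y g g' hg hg' hgy hg'y
      let z : PrimeSpectrum (Y.left.presheaf.stalk y) := ⟨⊥, Ideal.bot_prime⟩
      obtain ⟨y₀, hy₀⟩ : ∃ y₀, y₀ = (Y.left.fromSpecStalk y) z := ⟨_, rfl⟩
      have key : ∀ g₁ : Y.left, g₁ ∈ f ⁻¹' {genericPoint X} → g₁ ⤳ y → g₁ = y₀ := by
        intro g₁ hg₁ hg₁y
        obtain ⟨q, rfl⟩ : g₁ ∈ Set.range (Y.left.fromSpecStalk y) := by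
          rw [Scheme.range_fromSpecStalk]
          exact hg₁y
        have h1 : z ⤳ q := (PrimeSpectrum.le_iff_specializes z q).mp
          (show (⊥ : Ideal _) ≤ q.asIdeal from bot_le)
        have h2 : y₀ ⤳ (Y.left.fromSpecStalk y) q := by
          rw [hy₀]
          exact h1.map (Y.left.fromSpecStalk y).continuous
        have hg₁' : f ((Y.left.fromSpecStalk y) q) = genericPoint X := hg₁
        have h3 : f y₀ = genericPoint X := by
          have h4 : f y₀ ⤳ genericPoint X := by
            have := h2.map f.continuous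
            rwa [hg₁'] at this
          exact (h4.antisymm (genericPoint_specializes _)).eq
        have hd := f.isDiscrete_preimage_singleton (genericPoint X)
        haveI : DiscreteTopology ↥(f ⁻¹' {genericPoint X}) := hd.to_subtype
        have hab : (⟨y₀, h3⟩ : ↥(f ⁻¹' {genericPoint X})) ⤳ ⟨_, hg₁⟩ :=
          (Topology.IsInducing.subtypeVal.specializes_iff).mp h2
        exact (congrArg Subtype.val hab.eq).symm
      rw [key g hg hgy, key g' hg' hg'y]
  exact ⟨isIntegral_of_irreducibleSpace_of_isReduced Y.left, hnormal⟩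

end Groth.Agent.Lib.Helper24.FEtNormal
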