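import Mathlib
import Groth.Agent.Lib.Helper15.ThickLift

/-!
# Helper library (helper24): lifts of étale schemes along a thickening — basic theory

For a surjective closed immersion `i : S₀ ⟶ S` and an `S₀`-scheme `a : V ⟶ S₀`, an `EtLift i a` is an
étale `S`-scheme `p : Y ⟶ S` together with `ι : V ⟶ Y` making `V` the base change of `Y` along `i`.
Lifts are functorial in `V` (unique lifting of morphisms to étale schemes along thickenings),
unique up to unique isomorphism, and restrict along open immersions.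
-/

set_option autoImplicit false
set_option maxHeartbeats 400000
universe u

namespace Groth.Agent.Lib.Helper24.EtThick

open CategoryTheory Limits AlgebraicGeometry
open Groth.Agent.Lib.Helper15

variable {S S₀ : Scheme.{u}} (i : S₀ ⟶ S)

/-- A lift of the `S₀`-scheme `a : V ⟶ S₀` to an étale `S`-scheme. -/
structure EtLift {V : Scheme.{u}} (a : V ⟶ S₀) where
  /-- the lifted scheme -/
  Y : Scheme.{u}
  /-- its structure morphism -/
  p : Y ⟶ S
  /-- the thickening -/
  ι : V ⟶ Y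
  etale : Etale p
  isPullback : IsPullback ι a p i

namespace EtLift

variable {i}
variable {V V₁ V₂ V₃ : Scheme.{u}} {a : V ⟶ S₀} {a₁ : V₁ ⟶ S₀} {a₂ : V₂ ⟶ S₀} {a₃ : V₃ ⟶ S₀}

lemma w (L : EtLift i a) : L.ι ≫ L.p = a ≫ i := L.isPullback.w

/-- Transport along an equality of structure morphisms. -/
def ofEq {a a' : V ⟶ S₀} (h : a = a') (L : EtLift i a) : EtLift i a' where
  Y := L.Y
  p := L.p
  ι := L.ι
  etale := L.etale
  isPullback := h ▸ L.isPullback

section thick

variable [IsClosedImmersion i] [Surjective i]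

lemma isClosedImmersion_ι (L : EtLift i a) : IsClosedImmersion L.ι :=
  MorphismProperty.of_isPullback (P := @IsClosedImmersion) L.isPullback.flip ‹_›

lemma surjective_ι (L : EtLift i a) : Surjective L.ι :=
  MorphismProperty.of_isPullback (P := @Surjective) L.isPullback.flip ‹_›

lemma injective_ι (L : EtLift i a) : Function.Injective L.ι.base :=
  haveI := L.isClosedImmersion_ι
  L.ι.isClosedEmbedding.injective

lemma surjective_ι_base (L : EtLift i a) : Function.Surjective L.ι.base :=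
  haveI := L.surjective_ι
  L.ι.surjective

lemma isHomeomorph_ι (L : EtLift i a) : IsHomeomorph L.ι.base :=
  haveI := L.isClosedImmersion_ι
  isHomeomorph_iff_isEmbedding_surjective.mpr
    ⟨L.ι.isClosedEmbedding.isEmbedding, L.surjective_ι_base⟩

theorem exists_map (L₁ : EtLift i a₁) (L₂ : EtLift i a₂) (w : V₁ ⟶ V₂) (hw : w ≫ a₂ = a₁) :
    ∃ T : L₁.Y ⟶ L₂.Y, T ≫ L₂.p = L₁.p ∧ L₁.ι ≫ T = w ≫ L₂.ι := by
  haveI := L₂.etale
  haveI := L₁.isClosedImmersion_ι
  haveI := L₁.surjective_ι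
  refine ThickLift.exists_lift L₂.p L₁.p L₁.ι (w ≫ L₂.ι) ?_
  rw [Category.assoc, L₂.w, ← Category.assoc, hw, L₁.w]

/-- The unique morphism of lifts over a morphism `w` of `S₀`-schemes. -/
noncomputable def map (L₁ : EtLift i a₁) (L₂ : EtLift i a₂) (w : V₁ ⟶ V₂) (hw : w ≫ a₂ = a₁) :
    L₁.Y ⟶ L₂.Y :=
  (exists_map L₁ L₂ w hw).choose

@[reassoc]
lemma map_p (L₁ : EtLift i a₁) (L₂ : EtLift i a₂) (w : V₁ ⟶ V₂) (hw : w ≫ a₂ = a₁) :
    map L₁ L₂ w hw ≫ L₂.p = L₁.p :=
  (exists_map L₁ L₂ w hw).choose_spec.1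

@[reassoc]
lemma ι_map (L₁ : EtLift i a₁) (L₂ : EtLift i a₂) (w : V₁ ⟶ V₂) (hw : w ≫ a₂ = a₁) :
    L₁.ι ≫ map L₁ L₂ w hw = w ≫ L₂.ι :=
  (exists_map L₁ L₂ w hw).choose_spec.2

lemma map_unique (L₁ : EtLift i a₁) (L₂ : EtLift i a₂) (w : V₁ ⟶ V₂) (hw : w ≫ a₂ = a₁)
    (T : L₁.Y ⟶ L₂.Y) (h1 : T ≫ L₂.p = L₁.p) (h2 : L₁.ι ≫ T = w ≫ L₂.ι) :
    T = map L₁ L₂ w hw := by
  haveI := L₂.etale
  haveI := L₁.isClosedImmersion_ι
  haveI := L₁.surjective_ι
  exact ThickLift.unique_lift L₂.p L₁.p L₁.ι T (map L₁ L₂ w hw) h1 (map_p L₁ L₂ w hw)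
    (h2.trans (ι_map L₁ L₂ w hw).symm)

lemma map_id (L : EtLift i a) : map L L (𝟙 V) (Category.id_comp a) = 𝟙 L.Y :=
  (map_unique L L (𝟙 V) (Category.id_comp a) (𝟙 L.Y) (Category.id_comp _)
    (by rw [Category.comp_id, Category.id_comp])).symm

lemma map_comp (L₁ : EtLift i a₁) (L₂ : EtLift i a₂) (L₃ : EtLift i a₃)
    (w : V₁ ⟶ V₂) (hw : w ≫ a₂ = a₁) (w' : V₂ ⟶ V₃) (hw' : w' ≫ a₃ = a₂) :
    map L₁ L₂ w hw ≫ map L₂ L₃ w' hw' =
      map L₁ L₃ (w ≫ w') (by rw [Category.assoc, hw', hw]) := by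
  apply map_unique
  · rw [Category.assoc, map_p, map_p]
  · rw [ι_map_assoc, ι_map, Category.assoc]

lemma map_congr (L₁ : EtLift i a₁) (L₂ : EtLift i a₂) (w w' : V₁ ⟶ V₂) (hw : w ≫ a₂ = a₁)
    (h : w = w') : map L₁ L₂ w hw = map L₁ L₂ w' (h ▸ hw) := by
  subst h; rfl

/-- Two lifts of the same `S₀`-scheme are isomorphic. -/
instance isIso_map_id (L₁ L₂ : EtLift i a) : IsIso (map L₁ L₂ (𝟙 V) (Category.id_comp a)) := by
  refine ⟨map L₂ L₁ (𝟙 V) (Category.id_comp a), ?_, ?_⟩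
  · rw [map_comp, ← map_id L₁]
    exact map_congr _ _ _ _ _ (Category.id_comp _)
  · rw [map_comp, ← map_id L₂]
    exact map_congr _ _ _ _ _ (Category.id_comp _)

/-- The open subset of the lift corresponding to the range of an open immersion into `V`. -/
noncomputable def imageOpens (L : EtLift i a) {V' : Scheme.{u}} (w : V' ⟶ V) [IsOpenImmersion w] :
    L.Y.Opens :=
  ⟨L.ι.base '' Set.range w.base, L.isHomeomorph_ι.isOpenMap _ w.isOpenEmbedding.isOpen_range⟩

lemma mem_imageOpens (L : EtLift i a) {V' : Scheme.{u}} (w : V' ⟶ V) [IsOpenImmersion w]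
    (x : V) : L.ι.base x ∈ L.imageOpens w ↔ x ∈ Set.range w.base :=
  L.injective_ι.mem_set_image

/-- Restriction of a lift along an open immersion. -/
noncomputable def restrict (L : EtLift i a) {V' : Scheme.{u}} (w : V' ⟶ V) [IsOpenImmersion w] :
    EtLift i (w ≫ a) where
  Y := (L.imageOpens w : Scheme.{u})
  p := (L.imageOpens w).ι ≫ L.p
  ι := IsOpenImmersion.lift (L.imageOpens w).ι (w ≫ L.ι) (by
    rw [Scheme.Opens.range_ι]
    rintro _ ⟨x, rfl⟩
    rw [Scheme.Hom.comp_apply]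
    exact (L.mem_imageOpens w _).mpr ⟨x, rfl⟩)
  etale := by
    haveI := L.etale
    infer_instance
  isPullback := by
    refine IsPullback.paste_vert ?_ L.isPullback
    refine IsOpenImmersion.isPullback _ w _ L.ι (IsOpenImmersion.lift_fac _ _ _).symm ?_
    rw [Scheme.Opens.opensRange_ι]
    ext x
    exact L.mem_imageOpens w x

/-- The open immersion from the restricted lift into the lift. -/
noncomputable def restrictι (L : EtLift i a) {V' : Scheme.{u}} (w : V' ⟶ V) [IsOpenImmersion w] :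
    (L.restrict w).Y ⟶ L.Y :=
  (L.imageOpens w).ι

instance (L : EtLift i a) {V' : Scheme.{u}} (w : V' ⟶ V) [IsOpenImmersion w] :
    IsOpenImmersion (L.restrictι w) := by
  have h : IsOpenImmersion (L.imageOpens w).ι := inferInstance
  exact h

lemma restrict_p (L : EtLift i a) {V' : Scheme.{u}} (w : V' ⟶ V) [IsOpenImmersion w] :
    (L.restrict w).p = L.restrictι w ≫ L.p := rfl

@[reassoc]
lemma restrict_ι (L : EtLift i a) {V' : Scheme.{u}} (w : V' ⟶ V) [IsOpenImmersion w] :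
    (L.restrict w).ι ≫ L.restrictι w = w ≫ L.ι := by
  change IsOpenImmersion.lift (L.imageOpens w).ι (w ≫ L.ι) _ ≫ (L.imageOpens w).ι = w ≫ L.ι
  exact IsOpenImmersion.lift_fac _ _ _

/-- The morphism of lifts over an open immersion is an open immersion. -/
theorem isOpenImmersion_map (L₁ : EtLift i a₁) (L₂ : EtLift i a₂) (w : V₁ ⟶ V₂)
    [IsOpenImmersion w] (hw : w ≫ a₂ = a₁) : IsOpenImmersion (map L₁ L₂ w hw) := by
  subst hw
  have h : map L₁ (L₂.restrict w) (𝟙 V₁) (Category.id_comp _) ≫ L₂.restrictι w =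
      map L₁ L₂ w rfl := by
    apply map_unique
    · rw [Category.assoc, ← restrict_p, map_p]
    · rw [ι_map_assoc, Category.id_comp, restrict_ι]
  rw [← h]
  infer_instance

end thick

end EtLift

end Groth.Agent.Lib.Helper24.EtThick
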