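import Mathlib
import Groth.Agent.Lib.Helper24.EtThickBasic
import Groth.Agent.Lib.Helper8.H1CotEtale

/-!
# Helper library (helper24): local existence of lifts of étale schemes along a thickening
-/

set_option autoImplicit false
set_option maxHeartbeats 400000
set_option linter.style.haveILetI false
universe u

namespace Groth.Agent.Lib.Helper24.EtThick

open CategoryTheory Limits AlgebraicGeometry

/-- A commutative square of rings `A → E`, `A → A₀`, `E → C`, `A₀ → C` in which `A → A₀` and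
`E → C` are surjective and the kernel of `E → C` is generated by the kernel of `A → A₀` is a
pushout. -/
theorem isPushout_of_surjective {A A₀ E C : CommRingCat.{u}} (α : A ⟶ E) (φ : A ⟶ A₀)
    (π : E ⟶ C) (ψ : A₀ ⟶ C) (comm : α ≫ π = φ ≫ ψ) (hφ : Function.Surjective φ.hom)
    (hπ : Function.Surjective π.hom)
    (hker : RingHom.ker π.hom = (RingHom.ker φ.hom).map α.hom) :
    IsPushout α φ π ψ := by
  have hle : ∀ (T : CommRingCat.{u}) (f : E ⟶ T) (g : A₀ ⟶ T), α ≫ f = φ ≫ g →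
      RingHom.ker π.hom ≤ RingHom.ker f.hom := by
    intro T f g hfg
    rw [hker, Ideal.map_le_iff_le_comap]
    intro a ha
    rw [Ideal.mem_comap, RingHom.mem_ker]
    have h1 : f.hom (α.hom a) = g.hom (φ.hom a) :=
      congrArg (fun k : A ⟶ T => k.hom a) hfg
    rw [h1, (RingHom.mem_ker).mp ha, map_zero]
  have key : ∀ (T : CommRingCat.{u}) (f : E ⟶ T) (g : A₀ ⟶ T), α ≫ f = φ ≫ g →
      ∃ d : C ⟶ T, ∀ x, d.hom (π.hom x) = f.hom x := by
    intro T f g hfg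
    refine ⟨CommRingCat.ofHom (RingHom.liftOfRightInverse π.hom (Function.surjInv hπ)
      (Function.rightInverse_surjInv hπ) ⟨f.hom, hle T f g hfg⟩), fun x => ?_⟩
    exact RingHom.liftOfRightInverse_comp_apply π.hom _ (Function.rightInverse_surjInv hπ)
      ⟨f.hom, hle T f g hfg⟩ x
  choose d hd using key
  refine ⟨⟨comm⟩, ⟨PushoutCocone.IsColimit.mk _ (fun s => d _ s.inl s.inr s.condition)
    ?_ ?_ ?_⟩⟩
  · intro s
    ext x
    exact hd _ s.inl s.inr s.condition x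
  · intro s
    ext a₀
    obtain ⟨a, rfl⟩ := hφ a₀
    have h1 : ψ.hom (φ.hom a) = π.hom (α.hom a) :=
      (congrArg (fun k : A ⟶ C => k.hom a) comm).symm
    have h2 : s.inl.hom (α.hom a) = s.inr.hom (φ.hom a) :=
      congrArg (fun k : A ⟶ s.pt => k.hom a) s.condition
    change (d _ s.inl s.inr s.condition).hom (ψ.hom (φ.hom a)) = _
    rw [h1, hd, h2]
  · intro s m h1 h2
    ext c
    obtain ⟨x, rfl⟩ := hπ c
    have h3 : m.hom (π.hom x) = s.inl.hom x := congrArg (fun k : E ⟶ s.pt => k.hom x) h1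
    change m.hom (π.hom x) = (d _ s.inl s.inr s.condition).hom (π.hom x)
    rw [h3, hd]

/-- Local existence of lifts of étale schemes along a thickening: every point of an étale
`S₀`-scheme has an open neighbourhood which lifts to an étale `S`-scheme. -/
theorem exists_local_lift {S S₀ : Scheme.{u}} (i : S₀ ⟶ S) [IsClosedImmersion i] [Surjective i]
    {Y₀ : Scheme.{u}} (q₀ : Y₀ ⟶ S₀) [Etale q₀] (y : Y₀) :
    ∃ V : Y₀.Opens, y ∈ V ∧ Nonempty (EtLift i (V.ι ≫ q₀)) := by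
  obtain ⟨U, hU, hyU, -⟩ := exists_isAffineOpen_mem_and_subset (X := S)
    (x := i.base (q₀.base y)) (U := ⊤) trivial
  have hU₀ : IsAffineOpen (i ⁻¹ᵁ U) := hU.preimage i
  have hy' : y ∈ q₀ ⁻¹ᵁ (i ⁻¹ᵁ U) := hyU
  obtain ⟨V, hV, hyV, hVU⟩ := exists_isAffineOpen_mem_and_subset hy'
  have e : V ≤ q₀ ⁻¹ᵁ (i ⁻¹ᵁ U) := hVU
  refine ⟨V, hyV, ?_⟩
  let φ : Γ(S, U) ⟶ Γ(S₀, i ⁻¹ᵁ U) := i.appLE U (i ⁻¹ᵁ U) le_rfl
  let ψ : Γ(S₀, i ⁻¹ᵁ U) ⟶ Γ(Y₀, V) := q₀.appLE (i ⁻¹ᵁ U) V e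
  have hφ : Function.Surjective φ.hom := by
    have := i.app_surjective U hU
    rwa [Scheme.Hom.app_eq_appLE] at this
  have hψ : ψ.hom.Etale := q₀.etale_appLE hU₀ hV e
  letI alg1 : Algebra Γ(S, U) Γ(S₀, i ⁻¹ᵁ U) := φ.hom.toAlgebra
  letI alg2 : Algebra Γ(S₀, i ⁻¹ᵁ U) Γ(Y₀, V) := ψ.hom.toAlgebra
  letI alg3 : Algebra Γ(S, U) Γ(Y₀, V) := (ψ.hom.comp φ.hom).toAlgebra
  haveI : IsScalarTower Γ(S, U) Γ(S₀, i ⁻¹ᵁ U) Γ(Y₀, V) :=
    IsScalarTower.of_algebraMap_eq (fun _ => rfl)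
  haveI : Algebra.Etale Γ(S₀, i ⁻¹ᵁ U) Γ(Y₀, V) := hψ
  obtain ⟨E, _, _, hE, π, hπ, hker⟩ :=
    Groth.Agent.Lib.Helper8.H1CotEtale.exists_etale_lift_surjective
      Γ(S, U) Γ(S₀, i ⁻¹ᵁ U) Γ(Y₀, V) hφ
  let α : Γ(S, U) ⟶ CommRingCat.of E := CommRingCat.ofHom (algebraMap Γ(S, U) E)
  let πc : CommRingCat.of E ⟶ Γ(Y₀, V) := CommRingCat.ofHom π.toRingHom
  have comm : α ≫ πc = φ ≫ ψ := by
    ext a
    exact π.commutes a
  have hpo : IsPushout α φ πc ψ := isPushout_of_surjective α φ πc ψ comm hφ hπ hker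
  have hsq1 := isPullback_SpecMap_of_isPushout α φ πc ψ hpo
  have hsq2 : IsPullback (Spec.map φ) hU₀.fromSpec hU.fromSpec i := by
    refine IsOpenImmersion.isPullback _ _ _ _
      (IsAffineOpen.SpecMap_appLE_fromSpec i hU hU₀ le_rfl).symm ?_
    rw [hU.opensRange_fromSpec, hU₀.opensRange_fromSpec]
  have hsq := hsq1.paste_vert hsq2
  have h3 : Spec.map ψ ≫ hU₀.fromSpec = hV.fromSpec ≫ q₀ :=
    IsAffineOpen.SpecMap_appLE_fromSpec q₀ hU₀ hV e
  rw [h3] at hsq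
  have hα : α.hom.Etale := RingHom.etale_algebraMap.mpr hE
  haveI : Etale (Spec.map α) := (HasRingHomProperty.Spec_iff (P := @Etale)).mpr hα
  let L : EtLift i (hV.fromSpec ≫ q₀) :=
    { Y := Spec (CommRingCat.of E)
      p := Spec.map α ≫ hU.fromSpec
      ι := Spec.map πc
      etale := inferInstance
      isPullback := hsq }
  exact ⟨(L.restrict hV.isoSpec.hom).ofEq (by rw [← Category.assoc, hV.isoSpec_hom_fromSpec])⟩

end Groth.Agent.Lib.Helper24.EtThick
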