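import Mathlib
import Groth.Agent.Lib.Helper26.HenselFEtLift
import Groth.Agent.Lib.Helper24.EtThickLocal
import Groth.Prelude.Def_FEt

/-!
# Helper library (helper24): finite étale covers of a henselian pair

For a henselian pair `(A, I)`, base change along `Spec (A/I) ⟶ Spec A` is an equivalence between
the categories of finite étale covers.  The ring-level inputs are helper26's `HenselFEt*` files;
this file does the scheme-level plumbing.
-/

set_option autoImplicit false
set_option maxHeartbeats 400000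
set_option linter.style.haveILetI false
universe u

namespace Groth.Agent.Lib.Helper24.HensFEt

open CategoryTheory Limits AlgebraicGeometry TensorProduct
open Groth.Agent.Lib.Helper26.HenselTFAE Groth.Agent.Lib.Helper26.HenselFEt
  Groth.Agent.Lib.Helper26.HenselFEtLift

section Ring

/-- Unique lifting of maps from an étale algebra to a finite algebra over a henselian pair. -/
theorem existsUnique_ringHom_lift {A : Type u} [CommRing A] (I : Ideal A) [HenselianRing A I]
    {B₁ B₂ B₁' : Type u} [CommRing B₁] [CommRing B₂] [CommRing B₁']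
    (a₁ : A →+* B₁) (a₂ : A →+* B₂) (q : B₁ →+* B₁') (γ : B₂ →+* B₁')
    (h₁ : a₁.Finite) (h₂ : a₂.Etale) (hq : Function.Surjective q)
    (hker : RingHom.ker q = I.map a₁) (hc : γ.comp a₂ = q.comp a₁) :
    ∃! φ : B₂ →+* B₁, φ.comp a₂ = a₁ ∧ q.comp φ = γ := by
  letI alg1 : Algebra A B₁ := a₁.toAlgebra
  letI alg2 : Algebra A B₂ := a₂.toAlgebra
  haveI : Module.Finite A B₁ := h₁
  haveI : Algebra.Etale A B₂ := h₂
  haveI : Algebra.IsIntegral A B₁ := Algebra.IsIntegral.of_finite A B₁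
  haveI hB₁ : HenselianRing B₁ (I.map (algebraMap A B₁)) := Groth.Agent.S0526.result A I B₁
  have hI : I ≤ Ideal.jacobson ⊥ := HenselianRing.jac
  obtain ⟨J, hJ⟩ : ∃ J : Ideal B₁, J = I.map (algebraMap A B₁) := ⟨_, rfl⟩
  haveI hB₁' : HenselianRing B₁ J := hJ ▸ hB₁
  have hkerJ : RingHom.ker q = J := hker.trans hJ.symm
  have hq0 : ∀ b ∈ J, q b = 0 := fun b hb => by
    rw [← RingHom.mem_ker, hkerJ]; exact hb
  have hēinj : Function.Injective (Ideal.Quotient.lift J q hq0) :=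
    RingHom.lift_injective_of_ker_le_ideal J hq0 hkerJ.le
  have hēsurj : Function.Surjective (Ideal.Quotient.lift J q hq0) :=
    Ideal.Quotient.lift_surjective_of_surjective J hq0 hq
  let e : B₁ ⧸ J ≃+* B₁' := RingEquiv.ofBijective (Ideal.Quotient.lift J q hq0) ⟨hēinj, hēsurj⟩
  have he : ∀ b, e (Ideal.Quotient.mk J b) = q b := fun b => rfl
  let g : B₂ →ₐ[A] B₁ ⧸ J :=
    { toRingHom := e.symm.toRingHom.comp γ
      commutes' := fun a => by
        show e.symm (γ (a₂ a)) = algebraMap A (B₁ ⧸ J) a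
        have h1 : γ (a₂ a) = q (a₁ a) := RingHom.congr_fun hc a
        rw [h1, ← he, RingEquiv.symm_apply_apply]
        rfl }
  let σ : B₁ ⊗[A] B₂ →ₐ[B₁] B₁ ⧸ J :=
    Algebra.TensorProduct.lift (Algebra.ofId B₁ _) g (fun _ _ => Commute.all _ _)
  obtain ⟨τ, hτ⟩ := liftsEtale_of_henselianRing J (B₁ ⊗[A] B₂) σ
  let φ : B₂ →ₐ[A] B₁ := (τ.restrictScalars A).comp
    (Algebra.TensorProduct.includeRight : B₂ →ₐ[A] B₁ ⊗[A] B₂)
  have hφq : ∀ b, q (φ b) = γ b := by
    intro b
    have h1 := DFunLike.congr_fun hτ ((1 : B₁) ⊗ₜ[A] b)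
    have h2 : σ ((1 : B₁) ⊗ₜ[A] b) = g b := by simp [σ]
    have h3 : Ideal.Quotient.mk J (φ b) = e.symm (γ b) := by
      rw [h2] at h1
      exact h1
    rw [← he, h3, RingEquiv.apply_symm_apply]
  refine ⟨φ.toRingHom, ⟨?_, ?_⟩, ?_⟩
  · ext a; exact φ.commutes a
  · ext b; exact hφq b
  · rintro φ' ⟨h1', h2'⟩
    let φA' : B₂ →ₐ[A] B₁ :=
      { toRingHom := φ', commutes' := fun a => RingHom.congr_fun h1' a }
    have hsub : ∀ s, φA' s - φ s ∈ I.map (algebraMap A B₁) := by
      intro s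
      show φ' s - φ s ∈ I.map (algebraMap A B₁)
      rw [← hJ, ← hkerJ, RingHom.mem_ker, map_sub, hφq, ← RingHom.comp_apply, h2', sub_self]
    have : φA' = φ := algHom_eq_of_sub_mem I hI φA' φ hsub
    rw [← this]

/-- In a pushout square of commutative rings along a surjection, the opposite map is surjective
and its kernel is generated by the kernel of the surjection. -/
theorem surjective_and_ker_of_isPushout {A A₀ B B₀ : CommRingCat.{u}} {a : A ⟶ B} {p : A ⟶ A₀}
    {q : B ⟶ B₀} {s : A₀ ⟶ B₀} (H : IsPushout a p q s) (hp : Function.Surjective p.hom) :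
    Function.Surjective q.hom ∧ RingHom.ker q.hom = (RingHom.ker p.hom).map a.hom := by
  obtain ⟨J, hJ⟩ : ∃ J : Ideal B, J = (RingHom.ker p.hom).map a.hom := ⟨_, rfl⟩
  let m : B ⟶ CommRingCat.of (B ⧸ J) := CommRingCat.ofHom (Ideal.Quotient.mk J)
  have hle : RingHom.ker p.hom ≤ RingHom.ker ((Ideal.Quotient.mk J).comp a.hom) := by
    intro x hx
    rw [RingHom.mem_ker, RingHom.comp_apply, Ideal.Quotient.eq_zero_iff_mem, hJ]
    exact Ideal.mem_map_of_mem _ hx
  let ψ : A₀ ⟶ CommRingCat.of (B ⧸ J) := CommRingCat.ofHom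
    (RingHom.liftOfRightInverse p.hom (Function.surjInv hp) (Function.rightInverse_surjInv hp)
      ⟨(Ideal.Quotient.mk J).comp a.hom, hle⟩)
  have comm : a ≫ m = p ≫ ψ := by
    ext x
    exact (RingHom.liftOfRightInverse_comp_apply p.hom _ (Function.rightInverse_surjInv hp)
      ⟨(Ideal.Quotient.mk J).comp a.hom, hle⟩ x).symm
  have H' : IsPushout a p m ψ :=
    EtThick.isPushout_of_surjective a p m ψ comm hp Ideal.Quotient.mk_surjective (by
      show RingHom.ker (Ideal.Quotient.mk J) = (RingHom.ker p.hom).map a.hom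
      rw [Ideal.mk_ker, hJ])
  obtain ⟨θ, hθ⟩ : ∃ θ : CommRingCat.of (B ⧸ J) ≅ B₀, m ≫ θ.hom = q :=
    ⟨H'.isoIsPushout _ _ H, IsPushout.inl_isoIsPushout_hom _ _ H' H⟩
  have hbij : Function.Bijective θ.hom.hom := ConcreteCategory.bijective_of_isIso θ.hom
  have hq : q.hom = θ.hom.hom.comp (Ideal.Quotient.mk J) := by
    rw [← hθ]; rfl
  refine ⟨?_, ?_⟩
  · rw [hq, RingHom.coe_comp]; exact hbij.2.comp Ideal.Quotient.mk_surjective
  · ext b
    rw [RingHom.mem_ker, hq, RingHom.comp_apply, map_eq_zero_iff _ hbij.1,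
      Ideal.Quotient.eq_zero_iff_mem, hJ]

end Ring

section Scheme

/-- Morphisms between affine schemes are determined by, and can be prescribed on, global
sections. -/
theorem exists_hom_appTop {X Y : Scheme.{u}} [IsAffine X] [IsAffine Y]
    (φ : Γ(Y, ⊤) →+* Γ(X, ⊤)) : ∃ f : X ⟶ Y, f.appTop.hom = φ := by
  obtain ⟨φc, hφc⟩ : ∃ φc : Γ(Y, ⊤) ⟶ Γ(X, ⊤), φc.hom = φ := ⟨CommRingCat.ofHom φ, rfl⟩
  refine ⟨X.isoSpec.hom ≫ Spec.map φc ≫ Y.isoSpec.inv, ?_⟩
  rw [← hφc]
  congr 1
  apply Spec.map_injective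
  rw [← cancel_epi X.isoSpec.hom, Scheme.isoSpec_hom_naturality]
  simp

variable (A : Type u) [CommRing A] (I : Ideal A)

/-- The closed immersion `Spec (A/I) ⟶ Spec A`. -/
noncomputable abbrev incl : Spec (CommRingCat.of (A ⧸ I)) ⟶ Spec (CommRingCat.of A) :=
  Spec.map (CommRingCat.ofHom (Ideal.Quotient.mk I))

variable [HenselianRing A I]

theorem existsUnique_lift {X' Y' : Scheme.{u}} (x : X' ⟶ Spec (CommRingCat.of A))
    (y : Y' ⟶ Spec (CommRingCat.of A)) [IsFinite x] [IsFinite y] [Etale y]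
    (g : pullback x (incl A I) ⟶ Y') (hg : g ≫ y = pullback.fst x (incl A I) ≫ x) :
    ∃! f : X' ⟶ Y', f ≫ y = x ∧ pullback.fst x (incl A I) ≫ f = g := by
  haveI : IsAffine X' := isAffine_of_isAffineHom x
  haveI : IsAffine Y' := isAffine_of_isAffineHom y
  obtain ⟨e, he⟩ : ∃ e : CommRingCat.of A ⟶ Γ(Spec (CommRingCat.of A), ⊤),
    e = (Scheme.ΓSpecIso (CommRingCat.of A)).inv := ⟨_, rfl⟩
  haveI : IsIso e := by rw [he]; infer_instance
  have hpb : IsPullback (pullback.fst x (incl A I)) (pullback.snd x (incl A I)) x (incl A I) :=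
    IsPullback.of_hasPullback _ _
  have hpo := isPushout_appTop_of_isPullback hpb
  have hpo' : IsPushout (e ≫ x.appTop) (e ≫ (incl A I).appTop)
      (pullback.fst x (incl A I)).appTop (pullback.snd x (incl A I)).appTop :=
    hpo.of_iso (asIso e).symm (Iso.refl _) (Iso.refl _) (Iso.refl _) (by simp) (by simp)
      (by simp) (by simp)
  have hp : e ≫ (incl A I).appTop = CommRingCat.ofHom (Ideal.Quotient.mk I) ≫
      (Scheme.ΓSpecIso (CommRingCat.of (A ⧸ I))).inv := by
    rw [he]; exact (Scheme.ΓSpecIso_inv_naturality _).symm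
  obtain ⟨p, hp'⟩ : ∃ p, p = e ≫ (incl A I).appTop := ⟨_, rfl⟩
  have hbij := ConcreteCategory.bijective_of_isIso
    (Scheme.ΓSpecIso (CommRingCat.of (A ⧸ I))).inv
  have hpsurj : Function.Surjective p.hom := by
    rw [hp', hp, CommRingCat.hom_comp, RingHom.coe_comp]
    exact hbij.2.comp Ideal.Quotient.mk_surjective
  have hpker : RingHom.ker p.hom = I := by
    rw [hp', hp]
    ext a
    rw [RingHom.mem_ker, CommRingCat.hom_comp, RingHom.comp_apply]
    erw [map_eq_zero_iff _ hbij.1]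
    exact Ideal.Quotient.eq_zero_iff_mem
  rw [← hp'] at hpo'
  obtain ⟨hqsurj, hqker⟩ := surjective_and_ker_of_isPushout hpo' hpsurj
  rw [hpker] at hqker
  have hebij := ConcreteCategory.bijective_of_isIso e
  have h₁ : (e ≫ x.appTop).hom.Finite := by
    rw [CommRingCat.hom_comp]
    exact RingHom.Finite.comp x.finite_appTop (RingHom.Finite.of_surjective _ hebij.2)
  have h₂ : (e ≫ y.appTop).hom.Etale := by
    rw [CommRingCat.hom_comp]
    exact RingHom.Etale.stableUnderComposition _ _ (RingHom.Etale.of_bijective hebij)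
      ((HasRingHomProperty.iff_of_isAffine (P := @Etale)).mp inferInstance)
  have hc0 : y.appTop ≫ g.appTop = x.appTop ≫ (pullback.fst x (incl A I)).appTop := by
    rw [← Scheme.Hom.comp_appTop, ← Scheme.Hom.comp_appTop, hg]
  have hc : g.appTop.hom.comp (e ≫ y.appTop).hom =
      (pullback.fst x (incl A I)).appTop.hom.comp (e ≫ x.appTop).hom := by
    rw [← CommRingCat.hom_comp, ← CommRingCat.hom_comp, Category.assoc, Category.assoc, hc0]
  obtain ⟨φ, ⟨hφ1, hφ2⟩, hφu⟩ := existsUnique_ringHom_lift I (e ≫ x.appTop).hom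
    (e ≫ y.appTop).hom (pullback.fst x (incl A I)).appTop.hom g.appTop.hom h₁ h₂ hqsurj hqker hc
  obtain ⟨f, hf⟩ := exists_hom_appTop (X := X') (Y := Y') φ
  have hfy : f ≫ y = x := by
    apply ext_of_isAffine
    rw [Scheme.Hom.comp_appTop, ← cancel_epi e]
    apply CommRingCat.hom_ext
    rw [← Category.assoc, CommRingCat.hom_comp, hf]
    exact hφ1
  have hfg : pullback.fst x (incl A I) ≫ f = g := by
    apply ext_of_isAffine
    rw [Scheme.Hom.comp_appTop]
    apply CommRingCat.hom_ext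
    rw [CommRingCat.hom_comp, hf]
    exact hφ2
  refine ⟨f, ⟨hfy, hfg⟩, ?_⟩
  rintro f' ⟨h1, h2⟩
  have e1 : f'.appTop.hom = φ := by
    apply hφu
    refine ⟨?_, ?_⟩
    · rw [← CommRingCat.hom_comp, Category.assoc, ← Scheme.Hom.comp_appTop, h1]
    · rw [← CommRingCat.hom_comp, ← Scheme.Hom.comp_appTop, h2]
  apply ext_of_isAffine
  apply CommRingCat.hom_ext
  rw [e1, hf]

theorem faithful : (MorphismProperty.Over.pullback FEt.prop.{u} ⊤ (incl A I)).Faithful := by
  constructor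
  intro X Y φ ψ h
  have hX : IsFinite X.hom ∧ Etale X.hom := X.prop
  have hY : IsFinite Y.hom ∧ Etale Y.hom := Y.prop
  haveI := hX.1
  haveI := hY.1
  haveI := hY.2
  have e1 : ((MorphismProperty.Over.pullback FEt.prop ⊤ (incl A I)).map φ).left ≫
      pullback.fst Y.hom (incl A I) = pullback.fst X.hom (incl A I) ≫ φ.left :=
    pullback.lift_fst _ _ _
  have e2 : ((MorphismProperty.Over.pullback FEt.prop ⊤ (incl A I)).map ψ).left ≫
      pullback.fst Y.hom (incl A I) = pullback.fst X.hom (incl A I) ≫ ψ.left :=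
    pullback.lift_fst _ _ _
  have h1 : pullback.fst X.hom (incl A I) ≫ φ.left = pullback.fst X.hom (incl A I) ≫ ψ.left := by
    rw [← e1, ← e2, h]
  apply MorphismProperty.Over.Hom.ext
  have hg : (pullback.fst X.hom (incl A I) ≫ φ.left) ≫ Y.hom =
      pullback.fst X.hom (incl A I) ≫ X.hom := by
    rw [Category.assoc, MorphismProperty.Over.w φ]
  obtain ⟨f, -, hu⟩ := existsUnique_lift A I X.hom Y.hom
    (pullback.fst X.hom (incl A I) ≫ φ.left) hg
  rw [hu φ.left ⟨MorphismProperty.Over.w φ, rfl⟩,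
    hu ψ.left ⟨MorphismProperty.Over.w ψ, h1.symm⟩]

theorem full : (MorphismProperty.Over.pullback FEt.prop.{u} ⊤ (incl A I)).Full := by
  constructor
  intro X Y h
  have hX : IsFinite X.hom ∧ Etale X.hom := X.prop
  have hY : IsFinite Y.hom ∧ Etale Y.hom := Y.prop
  haveI := hX.1
  haveI := hY.1
  haveI := hY.2
  let hl : pullback X.hom (incl A I) ⟶ pullback Y.hom (incl A I) := h.left
  have hw : hl ≫ pullback.snd Y.hom (incl A I) = pullback.snd X.hom (incl A I) :=
    MorphismProperty.Over.w h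
  have h₀ : (hl ≫ pullback.fst Y.hom (incl A I)) ≫ Y.hom =
      pullback.fst X.hom (incl A I) ≫ X.hom := by
    rw [Category.assoc, pullback.condition, ← Category.assoc, hw, pullback.condition]
  obtain ⟨f, ⟨hf1, hf2⟩, -⟩ := existsUnique_lift A I X.hom Y.hom
    (hl ≫ pullback.fst Y.hom (incl A I)) h₀
  refine ⟨MorphismProperty.Over.homMk f hf1 trivial, ?_⟩
  apply MorphismProperty.Over.Hom.ext
  change (pullback.lift (pullback.fst X.hom (incl A I) ≫ f) (pullback.snd X.hom (incl A I)) _ :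
    pullback X.hom (incl A I) ⟶ pullback Y.hom (incl A I)) = hl
  apply pullback.hom_ext
  · rw [pullback.lift_fst]
    exact hf2
  · rw [pullback.lift_snd]
    exact hw.symm

theorem essSurj : (MorphismProperty.Over.pullback FEt.prop.{u} ⊤ (incl A I)).EssSurj := by
  constructor
  intro Y₀
  have hY₀ : IsFinite Y₀.hom ∧ Etale Y₀.hom := Y₀.prop
  obtain ⟨y₀, hy₀⟩ : ∃ y₀ : Y₀.left ⟶ Spec (CommRingCat.of (A ⧸ I)), y₀ = Y₀.hom := ⟨_, rfl⟩
  haveI : IsFinite y₀ := hy₀ ▸ hY₀.1
  haveI : Etale y₀ := hy₀ ▸ hY₀.2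
  haveI : IsAffine Y₀.left := isAffine_of_isAffineHom y₀
  obtain ⟨ψ, hψ⟩ : ∃ ψ : CommRingCat.of (A ⧸ I) ⟶ Γ(Y₀.left, ⊤),
    ψ = (Scheme.ΓSpecIso (CommRingCat.of (A ⧸ I))).inv ≫ y₀.appTop := ⟨_, rfl⟩
  have hebij := ConcreteCategory.bijective_of_isIso
    (Scheme.ΓSpecIso (CommRingCat.of (A ⧸ I))).inv
  have hψfin : ψ.hom.Finite := by
    rw [hψ, CommRingCat.hom_comp]
    exact RingHom.Finite.comp y₀.finite_appTop (RingHom.Finite.of_surjective _ hebij.2)
  have hψet : ψ.hom.Etale := by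
    rw [hψ, CommRingCat.hom_comp]
    exact RingHom.Etale.stableUnderComposition _ _ (RingHom.Etale.of_bijective hebij)
      ((HasRingHomProperty.iff_of_isAffine (P := @Etale)).mp inferInstance)
  letI alg1 : Algebra (A ⧸ I) Γ(Y₀.left, ⊤) := ψ.hom.toAlgebra
  letI alg2 : Algebra A Γ(Y₀.left, ⊤) := (ψ.hom.comp (Ideal.Quotient.mk I)).toAlgebra
  haveI : IsScalarTower A (A ⧸ I) Γ(Y₀.left, ⊤) := IsScalarTower.of_algebraMap_eq (fun _ => rfl)
  haveI : Algebra.Etale (A ⧸ I) Γ(Y₀.left, ⊤) := hψet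
  haveI : Module.Finite (A ⧸ I) Γ(Y₀.left, ⊤) := hψfin
  haveI : Module.FinitePresentation (A ⧸ I) Γ(Y₀.left, ⊤) :=
    Module.FinitePresentation.of_finite_of_finitePresentation (A ⧸ I) Γ(Y₀.left, ⊤)
  obtain ⟨B', _, _, _, π, hπ, hkerπ⟩ := exists_etale_lift A I Γ(Y₀.left, ⊤)
  obtain ⟨B, _, _, hBfin, hBet, φ, hφ, hkerφ⟩ := exists_finite_etale (I := I) HenselianRing.jac
    (liftsFactorizations_of_liftsEtale I (liftsEtale_of_henselianRing I)) B' Γ(Y₀.left, ⊤) π hπ
    hkerπ
  let α : CommRingCat.of A ⟶ CommRingCat.of B := CommRingCat.ofHom (algebraMap A B)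
  let πc : CommRingCat.of B ⟶ Γ(Y₀.left, ⊤) := CommRingCat.ofHom φ.toRingHom
  let m : CommRingCat.of A ⟶ CommRingCat.of (A ⧸ I) := CommRingCat.ofHom (Ideal.Quotient.mk I)
  have comm : α ≫ πc = m ≫ ψ := by
    ext a
    exact φ.commutes a
  have hpo : IsPushout α m πc ψ :=
    EtThick.isPushout_of_surjective α m πc ψ comm Ideal.Quotient.mk_surjective hφ (by
      show RingHom.ker φ.toRingHom = (RingHom.ker (Ideal.Quotient.mk I)).map (algebraMap A B)
      rw [Ideal.mk_ker]; exact hkerφ)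
  have hsq1 := isPullback_SpecMap_of_isPushout α m πc ψ hpo
  have hψ' : Y₀.left.isoSpec.hom ≫ Spec.map ψ = y₀ := by
    rw [hψ, Spec.map_comp, ← Category.assoc, Scheme.isoSpec_hom_naturality, Category.assoc,
      Scheme.isoSpec_Spec_hom, ← Spec.map_comp, Iso.inv_hom_id, Spec.map_id, Category.comp_id]
  have hpb : IsPullback (Y₀.left.isoSpec.hom ≫ Spec.map πc) y₀ (Spec.map α) (incl A I) :=
    hsq1.of_iso Y₀.left.isoSpec.symm (Iso.refl _) (Iso.refl _) (Iso.refl _) (by simp)
      (by rw [← hψ']; simp) (by simp) (by simp [m])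
  have hα1 : IsFinite (Spec.map α) :=
    (IsFinite.SpecMap_iff α).mpr (RingHom.finite_algebraMap.mpr hBfin)
  have hα2 : Etale (Spec.map α) :=
    (HasRingHomProperty.Spec_iff (P := @Etale)).mpr (RingHom.etale_algebraMap.mpr hBet)
  subst hy₀
  refine ⟨MorphismProperty.Over.mk ⊤ (Spec.map α) ⟨hα1, hα2⟩,
    ⟨MorphismProperty.Over.isoMk hpb.isoPullback.symm ?_⟩⟩
  exact hpb.isoPullback_inv_snd

theorem isEquivalence :
    (FEt.restrict (Spec.map (CommRingCat.ofHom (Ideal.Quotient.mk I)))).IsEquivalence := by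
  haveI := faithful A I
  haveI := full A I
  haveI := essSurj A I
  show (MorphismProperty.Over.pullback FEt.prop.{u} ⊤ (incl A I)).IsEquivalence
  exact { }

end Scheme

end Groth.Agent.Lib.Helper24.HensFEt
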