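import Mathlib
import Groth.Agent.Lib.Helper24.ClopenIdem
import Groth.Agent.Lib.Helper24.HensFEt

/-!
# Helper library (helper24): henselian pairs and henselian couples

`(A, I)` is a henselian pair iff `(Spec A, Spec A/I)` is a henselian couple (open-closed subsets
lift uniquely along finite morphisms).
-/

set_option autoImplicit false
set_option maxHeartbeats 400000
set_option linter.style.haveILetI false
universe u

namespace Groth.Agent.Lib.Helper24.HensCouple

open CategoryTheory Limits AlgebraicGeometry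
open Groth.Agent.Lib.Helper26.HenselTFAE Groth.Agent.Lib.Helper26.HenselIdem
open Groth.Agent.Lib.Helper24.ClopenIdem Groth.Agent.Lib.Helper24.HensFEt

/-- Bijectivity on idempotents for a surjection only depends on the kernel. -/
theorem bijOn_idem_iff_of_ker {B B' : Type*} [CommRing B] [CommRing B'] (ψ : B →+* B')
    (hψ : Function.Surjective ψ) (K : Ideal B) (hK : RingHom.ker ψ = K) :
    Set.BijOn ψ {e | IsIdempotentElem e} {e | IsIdempotentElem e} ↔
      Set.BijOn (Ideal.Quotient.mk K) {e | IsIdempotentElem e} {e | IsIdempotentElem e} := by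
  subst hK
  have hmem : ∀ b b' : B, ψ b = ψ b' ↔
      Ideal.Quotient.mk (RingHom.ker ψ) b = Ideal.Quotient.mk (RingHom.ker ψ) b' := by
    intro b b'
    rw [Ideal.Quotient.eq, RingHom.mem_ker, map_sub, sub_eq_zero]
  have hidem : ∀ b : B, IsIdempotentElem (ψ b) ↔
      IsIdempotentElem (Ideal.Quotient.mk (RingHom.ker ψ) b) := by
    intro b
    unfold IsIdempotentElem
    rw [← map_mul, ← map_mul, hmem]
  constructor
  · intro h
    refine ⟨fun u hu => IsIdempotentElem.map hu _, ?_, ?_⟩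
    · intro u hu u' hu' huu'
      exact h.injOn hu hu' ((hmem u u').mpr huu')
    · intro w hw
      obtain ⟨b, rfl⟩ := Ideal.Quotient.mk_surjective w
      obtain ⟨u, hu, hub⟩ := h.surjOn ((hidem b).mpr hw)
      exact ⟨u, hu, (hmem u b).mp hub⟩
  · intro h
    refine ⟨fun u hu => IsIdempotentElem.map hu _, ?_, ?_⟩
    · intro u hu u' hu' huu'
      exact h.injOn hu hu' ((hmem u u').mp huu')
    · intro v hv
      obtain ⟨b, rfl⟩ := hψ v
      obtain ⟨u, hu, hub⟩ := h.surjOn ((hidem b).mp hv)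
      exact ⟨u, hu, (hmem u b).mpr hub⟩

/-- Global sections of the reduction modulo `I` of an affine scheme over `Spec A`. -/
theorem fst_appTop_surjective_ker (A : Type u) [CommRing A] (I : Ideal A) {Y : Scheme.{u}}
    [IsAffine Y] (g : Y ⟶ Spec (CommRingCat.of A)) :
    Function.Surjective (pullback.fst g (incl A I)).appTop.hom ∧
      RingHom.ker (pullback.fst g (incl A I)).appTop.hom =
        I.map ((Scheme.ΓSpecIso (CommRingCat.of A)).inv ≫ g.appTop).hom := by
  obtain ⟨e, he⟩ : ∃ e : CommRingCat.of A ⟶ Γ(Spec (CommRingCat.of A), ⊤),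
    e = (Scheme.ΓSpecIso (CommRingCat.of A)).inv := ⟨_, rfl⟩
  haveI : IsIso e := by rw [he]; infer_instance
  have hpb : IsPullback (pullback.fst g (incl A I)) (pullback.snd g (incl A I)) g (incl A I) :=
    IsPullback.of_hasPullback _ _
  have hpo := isPushout_appTop_of_isPullback hpb
  have hpo' : IsPushout (e ≫ g.appTop) (e ≫ (incl A I).appTop)
      (pullback.fst g (incl A I)).appTop (pullback.snd g (incl A I)).appTop :=
    hpo.of_iso (asIso e).symm (Iso.refl _) (Iso.refl _) (Iso.refl _) (by simp) (by simp)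
      (by simp) (by simp)
  have hp : e ≫ (incl A I).appTop = CommRingCat.ofHom (Ideal.Quotient.mk I) ≫
      (Scheme.ΓSpecIso (CommRingCat.of (A ⧸ I))).inv := by
    rw [he]; exact (Scheme.ΓSpecIso_inv_naturality _).symm
  obtain ⟨p, hp'⟩ : ∃ p, p = e ≫ (incl A I).appTop := ⟨_, rfl⟩
  have hbij := ConcreteCategory.bijective_of_isIso
    (Scheme.ΓSpecIso (CommRingCat.of (A ⧸ I))).inv
  have hpsurj : Function.Surjective p.hom := by
    rw [hp', hp, CommRingCat.hom_comp, RingHom.coe_comp]
    exact hbij.2.comp Ideal.Quotient.mk_surjective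
  have hpker : RingHom.ker p.hom = I := by
    rw [hp', hp]
    ext a
    rw [RingHom.mem_ker, CommRingCat.hom_comp, RingHom.comp_apply]
    erw [map_eq_zero_iff _ hbij.1]
    exact Ideal.Quotient.eq_zero_iff_mem
  rw [← hp'] at hpo'
  obtain ⟨hqsurj, hqker⟩ := surjective_and_ker_of_isPushout hpo' hpsurj
  rw [hpker] at hqker
  rw [← he]
  exact ⟨hqsurj, hqker⟩

theorem clopen_lift_of_henselian (A : Type u) [CommRing A] (I : Ideal A) [HenselianRing A I]
    (Y : Scheme.{u}) (g : Y ⟶ Spec (CommRingCat.of A)) (hg : IsFinite g) :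
    ∀ V : Set ↥(pullback g (incl A I)), IsClopen V →
      ∃! U : Set ↥Y, IsClopen U ∧ (pullback.fst g (incl A I)).base ⁻¹' U = V := by
  haveI := hg
  haveI : IsAffine Y := isAffine_of_isAffineHom g
  rw [clopen_lift_iff_bijOn]
  obtain ⟨hsurj, hker⟩ := fst_appTop_surjective_ker A I g
  obtain ⟨a, ha⟩ : ∃ a : A →+* Γ(Y, ⊤),
    a = ((Scheme.ΓSpecIso (CommRingCat.of A)).inv ≫ g.appTop).hom := ⟨_, rfl⟩
  have hafin : a.Finite := by
    rw [ha, CommRingCat.hom_comp]
    exact RingHom.Finite.comp g.finite_appTop (RingHom.Finite.of_surjective _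
      (ConcreteCategory.bijective_of_isIso (Scheme.ΓSpecIso (CommRingCat.of A)).inv).2)
  letI : Algebra A Γ(Y, ⊤) := a.toAlgebra
  haveI : Module.Finite A Γ(Y, ⊤) := hafin
  haveI : Algebra.IsIntegral A Γ(Y, ⊤) := Algebra.IsIntegral.of_finite A _
  rw [bijOn_idem_iff_of_ker _ hsurj (I.map a) (by rw [hker, ha])]
  exact bijOn_idempotents I HenselianRing.jac
    (liftsFactorizations_of_liftsEtale I (liftsEtale_of_henselianRing I)) Γ(Y, ⊤)

theorem henselian_of_clopen_lift (A : Type u) [CommRing A] (I : Ideal A)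
    (H : ∀ (Y : Scheme.{u}) (g : Y ⟶ Spec (CommRingCat.of A)), IsFinite g →
      ∀ V : Set ↥(pullback g (incl A I)), IsClopen V →
        ∃! U : Set ↥Y, IsClopen U ∧ (pullback.fst g (incl A I)).base ⁻¹' U = V) :
    HenselianRing A I := by
  apply henselianRing_of_bijOn_finite
  intro B _ _ hB
  obtain ⟨α, hα⟩ : ∃ α : CommRingCat.of A ⟶ CommRingCat.of B,
    α = CommRingCat.ofHom (algebraMap A B) := ⟨_, rfl⟩
  have hfin : IsFinite (Spec.map α) := by
    rw [hα]
    exact (IsFinite.SpecMap_iff _).mpr (RingHom.finite_algebraMap.mpr hB)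
  have h1 := (clopen_lift_iff_bijOn (pullback.fst (Spec.map α) (incl A I))).mp
    (H _ (Spec.map α) hfin)
  obtain ⟨hsurj, hker⟩ := fst_appTop_surjective_ker A I (Spec.map α)
  obtain ⟨θ, hθ⟩ : ∃ θ : CommRingCat.of B ⟶ Γ(Spec (CommRingCat.of B), ⊤),
    θ = (Scheme.ΓSpecIso (CommRingCat.of B)).inv := ⟨_, rfl⟩
  have hθbij : Function.Bijective θ.hom := by
    rw [hθ]; exact ConcreteCategory.bijective_of_isIso _
  have hnat : (Scheme.ΓSpecIso (CommRingCat.of A)).inv ≫ (Spec.map α).appTop = α ≫ θ := by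
    rw [hθ]; exact (Scheme.ΓSpecIso_inv_naturality α).symm
  rw [hnat] at hker
  obtain ⟨φ, hφ⟩ : ∃ φ : Γ(Spec (CommRingCat.of B), ⊤) →+*
      Γ(pullback (Spec.map α) (incl A I), ⊤),
    φ = (pullback.fst (Spec.map α) (incl A I)).appTop.hom := ⟨_, rfl⟩
  rw [← hφ] at h1 hsurj hker
  have hψsurj : Function.Surjective (φ.comp θ.hom) := by
    rw [RingHom.coe_comp]; exact hsurj.comp hθbij.2
  have hψker : RingHom.ker (φ.comp θ.hom) = I.map (algebraMap A B) := by
    ext b
    rw [RingHom.mem_ker, RingHom.comp_apply, ← RingHom.mem_ker, hker, CommRingCat.hom_comp,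
      ← Ideal.map_map, hα]
    constructor
    · intro hb
      obtain ⟨x, hx, hxb⟩ := (Ideal.mem_map_iff_of_surjective θ.hom hθbij.2).mp hb
      rw [← hθbij.1 hxb]
      exact hx
    · intro hb
      exact Ideal.mem_map_of_mem _ hb
  have hθidem : Set.BijOn θ.hom {e | IsIdempotentElem e} {e | IsIdempotentElem e} := by
    refine ⟨fun u hu => IsIdempotentElem.map hu _, hθbij.1.injOn, ?_⟩
    intro w hw
    obtain ⟨b, rfl⟩ := hθbij.2 w
    refine ⟨b, ?_, rfl⟩
    apply hθbij.1
    rw [map_mul]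
    exact hw
  have hψbij : Set.BijOn (φ.comp θ.hom) {e | IsIdempotentElem e} {e | IsIdempotentElem e} := by
    rw [RingHom.coe_comp]
    exact h1.comp hθidem
  exact (bijOn_idem_iff_of_ker _ hψsurj _ hψker).mp hψbij

end Groth.Agent.Lib.Helper24.HensCouple
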