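import Mathlib
import Groth.Prelude.Def_FlatCA
import Groth.Agent.Lib.Helper24.EssFPInj
import Groth.Agent.Lib.Helper9.FiberAss

/-!
# Universally injective multiplication maps (Stacks 10.128, "critère de platitude par fibres"
  consequence) (helper24)
-/

set_option autoImplicit false
set_option maxHeartbeats 400000
set_option linter.style.haveILetI false
universe u

open TensorProduct

namespace Groth.Agent.Lib.Helper24.EssFPUnivInj

open Groth.Agent.Lib.Helper9

section

variable {R S : Type u} [CommRing R] [IsLocalRing R] [CommRing S] [Algebra R S]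
  (N : Type u) [AddCommGroup N] [Module S N] [Module R N] [IsScalarTower R S N]

section

attribute [local instance] Algebra.TensorProduct.rightAlgebra

lemma mem_of_smul_mem {s : S} (hs : s ∈ FlatCA.nzdFiber R S N) {x : N}
    (hx : s • x ∈ (IsLocalRing.maximalIdeal R).map (algebraMap R S) • (⊤ : Submodule S N)) :
    x ∈ (IsLocalRing.maximalIdeal R).map (algebraMap R S) • (⊤ : Submodule S N) := by
  have h1 : (1 : (IsLocalRing.maximalIdeal R).Fiber S) ⊗ₜ[S] (s • x) = 0 :=
    FiberAss.one_tmul_eq_zero_of_mem (IsLocalRing.maximalIdeal R) S N hx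
  have h2 : s • ((1 : (IsLocalRing.maximalIdeal R).Fiber S) ⊗ₜ[S] x) = 0 := by
    rw [← h1, TensorProduct.tmul_smul]
  have h3 : (1 : (IsLocalRing.maximalIdeal R).Fiber S) ⊗ₜ[S] x = 0 :=
    (mem_nonZeroSMulDivisors_iff.1 hs) _ h2
  obtain ⟨r, hr, hrx⟩ :=
    FiberAss.exists_smul_mem_of_toFiber_eq_zero (IsLocalRing.maximalIdeal R) S N h3
  have hu : IsUnit r := IsLocalRing.notMem_maximalIdeal.mp hr
  obtain ⟨v, rfl⟩ := hu
  have := Submodule.smul_of_tower_mem _ (↑v⁻¹ : R) hrx
  rwa [smul_smul, Units.inv_mul, one_smul] at this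

end

lemma rTensor_lsmul (Q : Type u) [AddCommGroup Q] [Module R Q] (s : S) (z : N ⊗[R] Q) :
    ((LinearMap.lsmul S N s).restrictScalars R).rTensor Q z = s • z := by
  induction z using TensorProduct.induction_on with
  | zero => simp
  | tmul n q => simp [TensorProduct.smul_tmul']
  | add a b ha hb => rw [map_add, ha, hb, smul_add]

variable [IsLocalRing S] [IsLocalHom (algebraMap R S)]
  {S₀ : Type u} [CommRing S₀] [Algebra R S₀] [Algebra S₀ S] [IsScalarTower R S₀ S]
  [Algebra.FinitePresentation R S₀] (T : Submonoid S₀) [IsLocalization T S]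
  [Module.FinitePresentation S N] [Module.Flat R N]

include T in
theorem univInj_smul (s : S) (hs : s ∈ FlatCA.nzdFiber R S N) :
    FlatCA.UnivInj R ((LinearMap.lsmul S N s).restrictScalars R) := by
  obtain ⟨u, hu⟩ : ∃ u : N →ₗ[S] N, u = LinearMap.lsmul S N s := ⟨_, rfl⟩
  have hu' : ∀ x : N, u x ∈ (IsLocalRing.maximalIdeal R).map (algebraMap R S) •
        (⊤ : Submodule S N) →
      x ∈ (IsLocalRing.maximalIdeal R).map (algebraMap R S) • (⊤ : Submodule S N) := by
    intro x hx
    rw [hu, LinearMap.lsmul_apply] at hx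
    exact mem_of_smul_mem N hs hx
  obtain ⟨hinj, hflat⟩ := EssFPInj.injective_and_flat_coker T u hu'
  rw [← hu]
  intro Q _ _
  have hex : Function.Exact (u.restrictScalars R)
      ((LinearMap.range u).mkQ.restrictScalars R) := LinearMap.exact_map_mkQ_range u
  have hsurj : Function.Surjective ((LinearMap.range u).mkQ.restrictScalars R) :=
    Submodule.mkQ_surjective (LinearMap.range u)
  have hinj' : Function.Injective (u.restrictScalars R) := hinj
  exact LinearMap.lTensor_injective_of_exact_of_flat
    ((LinearMap.range u).mkQ.restrictScalars R) hsurj (u.restrictScalars R) hinj' hex Q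

include T in
theorem univInj_mk :
    FlatCA.UnivInj R
      ((LocalizedModule.mkLinearMap (FlatCA.nzdFiber R S N) N).restrictScalars R) := by
  intro Q _ _
  rw [LinearMap.lTensor_inj_iff_rTensor_inj, injective_iff_map_eq_zero]
  intro z hz
  have hz' : AlgebraTensorModule.rTensor R Q
      (LocalizedModule.mkLinearMap (FlatCA.nzdFiber R S N) N) z = 0 := hz
  obtain ⟨⟨s, hs⟩, hsz⟩ := (IsLocalizedModule.eq_zero_iff (FlatCA.nzdFiber R S N) _).1 hz'
  have h4 : ((LinearMap.lsmul S N s).restrictScalars R).rTensor Q z = 0 := by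
    rw [rTensor_lsmul]
    exact hsz
  have h5 : Function.Injective (((LinearMap.lsmul S N s).restrictScalars R).rTensor Q) :=
    (LinearMap.lTensor_inj_iff_rTensor_inj _ _).1 (univInj_smul N T s hs Q)
  exact h5 (h4.trans (map_zero _).symm)

end

end Groth.Agent.Lib.Helper24.EssFPUnivInj
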