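import Mathlib
import Groth.Prelude.Def_FlatCA
import Groth.Agent.Lib.Helper24.EssFPUnivInj
import Groth.Agent.Lib.Helper9.FiberAss

/-!
# Universal injectivity of `N → S' ⊗_S N` for flat coverings of the associated points of the
closed fibre (helper24)
-/

set_option autoImplicit false
set_option maxHeartbeats 400000
set_option linter.style.haveILetI false
universe u

open TensorProduct

namespace Groth.Agent.Lib.Helper24.EssFPCover

open Groth.Agent.Lib.Helper9 Groth.Agent.Lib.Helper24.EssFPUnivInj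

/-- If `1 ⊗ z = 0` in `S' ⊗_S W` with `S'` flat over `S`, then `Ann(z) S' = S'`. -/
lemma map_ann_eq_top {S : Type u} [CommRing S] (S' : Type u) [CommRing S'] [Algebra S S']
    [Module.Flat S S'] {W : Type u} [AddCommGroup W] [Module S W] (z : W)
    (hz : (1 : S') ⊗ₜ[S] z = 0) :
    ((Submodule.span S {z}).annihilator).map (algebraMap S S') = ⊤ := by
  have h1 : ∑ i : Fin 1, (fun _ => z : Fin 1 → W) i ⊗ₜ[S] (fun _ => (1 : S') : Fin 1 → S') i =
      (0 : W ⊗[S] S') := by
    have := congrArg (TensorProduct.comm S S' W) hz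
    simpa using this
  obtain ⟨k, a, y, h2, h3⟩ :=
    TensorProduct.vanishesTrivially_of_sum_tmul_eq_zero_of_rTensor_injective S
      (Module.Flat.rTensor_preserves_injective_linearMap _ (Submodule.injective_subtype _)) h1
  rw [Ideal.eq_top_iff_one]
  have h4 : (1 : S') = ∑ j, a 0 j • y j := h2 0
  have h5 : ∀ j, a 0 j • z = 0 := by
    intro j
    simpa using h3 j
  rw [h4]
  refine Ideal.sum_mem _ (fun j _ => ?_)
  rw [Algebra.smul_def]
  refine Ideal.mul_mem_right _ _ (Ideal.mem_map_of_mem _ ?_)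
  rw [Submodule.mem_annihilator_span_singleton]
  exact h5 j

section fibre

attribute [local instance] Algebra.TensorProduct.rightAlgebra

variable {R S : Type u} [CommRing R] [IsLocalRing R] [CommRing S] [Algebra R S]
  (N : Type u) [AddCommGroup N] [Module S N]

variable (R S) in
lemma iota_surjective :
    Function.Surjective (FiberAss.iota (IsLocalRing.maximalIdeal R) S) := by
  intro x
  obtain ⟨r, hr, s, hs⟩ := Ideal.Fiber.exists_smul_eq_one_tmul (IsLocalRing.maximalIdeal R) x
  have hu : IsUnit r := IsLocalRing.notMem_maximalIdeal.mp hr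
  obtain ⟨v, rfl⟩ := hu
  refine ⟨(↑v⁻¹ : R) • s, ?_⟩
  show (1 : (IsLocalRing.maximalIdeal R).ResidueField) ⊗ₜ[R] ((↑v⁻¹ : R) • s) = x
  rw [TensorProduct.tmul_smul, ← hs, smul_smul, Units.inv_mul, one_smul]

variable (R S) in
lemma isNoetherianRing_fiber [Algebra.EssFiniteType R S] :
    IsNoetherianRing ((IsLocalRing.maximalIdeal R).Fiber S) :=
  Algebra.EssFiniteType.isNoetherianRing (IsLocalRing.maximalIdeal R).ResidueField _

lemma finite_ass [IsNoetherianRing ((IsLocalRing.maximalIdeal R).Fiber S)] [Module.Finite S N] :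
    (associatedPrimes S (((IsLocalRing.maximalIdeal R).Fiber S) ⊗[S] N)).Finite := by
  have hfin := associatedPrimes.finite ((IsLocalRing.maximalIdeal R).Fiber S)
    (((IsLocalRing.maximalIdeal R).Fiber S) ⊗[S] N)
  have hsurj := iota_surjective R S
  refine (hfin.image (Ideal.comap (FiberAss.iota (IsLocalRing.maximalIdeal R) S))).subset ?_
  rintro q ⟨hq, x, hx⟩
  obtain ⟨P, hPdef⟩ : ∃ P : Ideal ((IsLocalRing.maximalIdeal R).Fiber S),
      P = ((⊥ : Submodule ((IsLocalRing.maximalIdeal R).Fiber S)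
        (((IsLocalRing.maximalIdeal R).Fiber S) ⊗[S] N)).colon {x}).radical := ⟨_, rfl⟩
  have hcomap : P.comap (FiberAss.iota (IsLocalRing.maximalIdeal R) S) = q := by
    rw [hx, hPdef]
    ext s
    rw [Ideal.mem_comap, Ideal.mem_radical_iff, Ideal.mem_radical_iff]
    constructor
    · rintro ⟨n, hn⟩
      refine ⟨n, ?_⟩
      rw [Submodule.mem_colon_singleton, Submodule.mem_bot] at hn ⊢
      rw [FiberAss.smul_eq, map_pow]
      exact hn
    · rintro ⟨n, hn⟩
      refine ⟨n, ?_⟩
      rw [Submodule.mem_colon_singleton, Submodule.mem_bot] at hn ⊢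
      rw [FiberAss.smul_eq, map_pow] at hn
      exact hn
  have hP : P.IsPrime := by
    have h1 : P = q.map (FiberAss.iota (IsLocalRing.maximalIdeal R) S) := by
      rw [← hcomap, Ideal.map_comap_of_surjective _ hsurj]
    have hk : RingHom.ker (FiberAss.iota (IsLocalRing.maximalIdeal R) S) ≤ q := by
      rw [← hcomap, RingHom.ker_eq_comap_bot]
      exact Ideal.comap_mono bot_le
    rw [h1]
    haveI := hq
    exact Ideal.map_isPrime_of_surjective hsurj hk
  refine ⟨P, ?_, hcomap⟩
  show (⊥ : Submodule ((IsLocalRing.maximalIdeal R).Fiber S)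
    (((IsLocalRing.maximalIdeal R).Fiber S) ⊗[S] N)).IsAssociatedPrime P
  exact ⟨hP, x, hPdef⟩

lemma mem_nzd_of_notMem_ass [IsNoetherianRing ((IsLocalRing.maximalIdeal R).Fiber S)] (s : S)
    (hs : ∀ q ∈ associatedPrimes S (((IsLocalRing.maximalIdeal R).Fiber S) ⊗[S] N), s ∉ q) :
    s ∈ nonZeroSMulDivisors S (((IsLocalRing.maximalIdeal R).Fiber S) ⊗[S] N) := by
  rw [mem_nonZeroSMulDivisors_iff]
  intro m hm
  by_contra hm0
  have hmem : FiberAss.iota (IsLocalRing.maximalIdeal R) S s ∈
      {r : (IsLocalRing.maximalIdeal R).Fiber S |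
        ∃ x : ((IsLocalRing.maximalIdeal R).Fiber S) ⊗[S] N, x ≠ 0 ∧ r • x = 0} :=
    ⟨m, hm0, by rw [← FiberAss.smul_eq]; exact hm⟩
  rw [← biUnion_associatedPrimes_eq_zero_divisors ((IsLocalRing.maximalIdeal R).Fiber S)
    (((IsLocalRing.maximalIdeal R).Fiber S) ⊗[S] N)] at hmem
  obtain ⟨P, hP, hsP⟩ := Set.mem_iUnion₂.1 hmem
  obtain ⟨hPprime, x, hx⟩ := isAssociatedPrime_iff.1 hP
  refine hs (P.comap (FiberAss.iota (IsLocalRing.maximalIdeal R) S)) ?_ hsP
  show (⊥ : Submodule S (((IsLocalRing.maximalIdeal R).Fiber S) ⊗[S] N)).IsAssociatedPrime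
    (P.comap (FiberAss.iota (IsLocalRing.maximalIdeal R) S))
  have hcol : P.comap (FiberAss.iota (IsLocalRing.maximalIdeal R) S) =
      (⊥ : Submodule S (((IsLocalRing.maximalIdeal R).Fiber S) ⊗[S] N)).colon {x} := by
    ext a
    rw [Ideal.mem_comap, hx, Submodule.mem_colon_singleton, Submodule.mem_colon_singleton,
      Submodule.mem_bot, Submodule.mem_bot, FiberAss.smul_eq]
  refine ⟨Ideal.comap_isPrime _ P, x, ?_⟩
  rw [← hcol]
  exact (Ideal.IsPrime.radical (Ideal.comap_isPrime _ P)).symm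

end fibre

section main

variable {R S : Type u} [CommRing R] [IsLocalRing R] [CommRing S] [Algebra R S]
  (N : Type u) [AddCommGroup N] [Module S N] [Module R N] [IsScalarTower R S N]

lemma assoc_rTensor_mk (S' : Type u) [CommRing S'] [Algebra S S'] [Algebra R S']
    [IsScalarTower R S S'] (Q : Type u) [AddCommGroup Q] [Module R Q] (z : N ⊗[R] Q) :
    TensorProduct.AlgebraTensorModule.assoc R S S' S' N Q
      (((TensorProduct.mk S S' N 1).restrictScalars R).rTensor Q z) = (1 : S') ⊗ₜ[S] z := by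
  induction z using TensorProduct.induction_on with
  | zero => simp
  | tmul n q => rfl
  | add a b ha hb => rw [map_add, map_add, ha, hb, TensorProduct.tmul_add]

variable [IsLocalRing S] [IsLocalHom (algebraMap R S)]
  {S₀ : Type u} [CommRing S₀] [Algebra R S₀] [Algebra S₀ S] [IsScalarTower R S₀ S]
  [Algebra.FinitePresentation R S₀] (T : Submonoid S₀) [IsLocalization T S]
  [Module.FinitePresentation S N] [Module.Flat R N]

include T in
theorem univInj_mk_tensor (S' : Type u) [CommRing S'] [Algebra S S'] [Algebra R S']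
    [IsScalarTower R S S'] [Module.Flat S S']
    (h : ∀ q ∈ associatedPrimes S (FlatCA.fiberMod (IsLocalRing.maximalIdeal R) S N),
      ∃ q' : Ideal S', q'.IsPrime ∧ q'.comap (algebraMap S S') = q) :
    FlatCA.UnivInj R ((TensorProduct.mk S S' N 1).restrictScalars R) := by
  classical
  intro Q _ _
  rw [LinearMap.lTensor_inj_iff_rTensor_inj, injective_iff_map_eq_zero]
  intro z hz
  have h1 : (1 : S') ⊗ₜ[S] z = 0 := by
    rw [← assoc_rTensor_mk N S' Q z, hz, map_zero]
  have h2 := map_ann_eq_top S' z h1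
  haveI : Algebra.EssFiniteType S₀ S := Algebra.EssFiniteType.of_isLocalization S T
  haveI : Algebra.EssFiniteType R S := Algebra.EssFiniteType.comp R S₀ S
  haveI := isNoetherianRing_fiber R S
  have hfin : (associatedPrimes S
      (FlatCA.fiberMod (IsLocalRing.maximalIdeal R) S N)).Finite :=
    finite_ass (R := R) (S := S) N
  have h3 : ¬ (((Submodule.span S {z}).annihilator : Set S) ⊆
      ⋃ i ∈ (↑hfin.toFinset : Set (Ideal S)), ((fun q : Ideal S => q) i : Set S)) := by
    rw [Ideal.subset_union_prime (s := hfin.toFinset) (f := fun q : Ideal S => q) ⊤ ⊤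
      (fun i hi _ _ => ((hfin.mem_toFinset).1 hi).isPrime)]
    rintro ⟨q, hq, hJq⟩
    obtain ⟨q', hq', hqq'⟩ := h q ((hfin.mem_toFinset).1 hq)
    have h4 : ((Submodule.span S {z}).annihilator).map (algebraMap S S') ≤ q' :=
      Ideal.map_le_iff_le_comap.2 (hqq' ▸ hJq)
    rw [h2] at h4
    exact hq'.ne_top (top_le_iff.1 h4)
  obtain ⟨s, hsJ, hs⟩ := Set.not_subset.1 h3
  have hs' : ∀ q ∈ associatedPrimes S (FlatCA.fiberMod (IsLocalRing.maximalIdeal R) S N),
      s ∉ q := by
    intro q hq hsq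
    exact hs (Set.mem_iUnion₂.2 ⟨q, Finset.mem_coe.2 ((hfin.mem_toFinset).2 hq), hsq⟩)
  have hsnzd : s ∈ FlatCA.nzdFiber R S N := mem_nzd_of_notMem_ass N s hs'
  have h4 : s • z = 0 := (Submodule.mem_annihilator_span_singleton z s).1 hsJ
  have h5 := (LinearMap.lTensor_inj_iff_rTensor_inj _ _).1 (univInj_smul N T s hsnzd Q)
  exact h5 (by rw [rTensor_lsmul, h4, map_zero])

end main

end Groth.Agent.Lib.Helper24.EssFPCover
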