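/-
Helper24 library (EssFPInj2): Stacks 046Y without assuming the base ring local.
-/
import Mathlib
import Groth.Agent.Lib.Helper24.EssFPInj

set_option autoImplicit false
set_option maxHeartbeats 400000
set_option linter.style.haveILetI false
universe u
open TensorProduct

namespace Groth.Agent.Lib.Helper24.EssFPInj

open Groth.Agent.Lib.Helper14.FlatOpen Groth.Agent.Lib.Helper14.FlatStage

set_option maxHeartbeats 1600000 in
/-- **Stacks 046Y**, base ring not assumed local. -/
theorem injective_and_flat_coker' {R S M N : Type u} [CommRing R] [CommRing S]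
    [IsLocalRing S] [Algebra R S]
    {S₀ : Type u} [CommRing S₀] [Algebra R S₀] [Algebra S₀ S] [IsScalarTower R S₀ S]
    [Algebra.FinitePresentation R S₀] (T : Submonoid S₀) [IsLocalization T S]
    [AddCommGroup M] [Module S M] [Module R M] [IsScalarTower R S M]
    [Module.FinitePresentation S M]
    [AddCommGroup N] [Module S N] [Module R N] [IsScalarTower R S N]
    [Module.FinitePresentation S N] [Module.Flat R N]
    (u : M →ₗ[S] N)
    (hu : ∀ x : M, u x ∈ ((IsLocalRing.maximalIdeal S).comap (algebraMap R S)).map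
        (algebraMap R S) • (⊤ : Submodule S N) →
      x ∈ ((IsLocalRing.maximalIdeal S).comap (algebraMap R S)).map (algebraMap R S) •
        (⊤ : Submodule S M)) :
    Function.Injective u ∧ Module.Flat R (N ⧸ LinearMap.range u) := by
  classical
  obtain ⟨𝔪, h𝔪⟩ : ∃ 𝔪 : Ideal R,
      𝔪 = (IsLocalRing.maximalIdeal S).comap (algebraMap R S) := ⟨_, rfl⟩
  obtain ⟨I, hI⟩ : ∃ I : Ideal S, I = 𝔪.map (algebraMap R S) := ⟨_, rfl⟩
  rw [← h𝔪, ← hI] at hu
  let q : Ideal S₀ := (IsLocalRing.maximalIdeal S).comap (algebraMap S₀ S)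
  haveI : q.IsPrime := Ideal.comap_isPrime _ _
  haveI : IsLocalization.AtPrime S q :=
    Groth.Agent.Lib.Helper22.EssFP.atPrime_of_isLocalization_of_isLocalRing T
  have hq𝔪 : q.comap (algebraMap R S₀) = 𝔪 := by
    rw [h𝔪, Ideal.comap_comap, ← IsScalarTower.algebraMap_eq]
  have hrfg : (LinearMap.range u).FG := by
    rw [LinearMap.range_eq_map]; exact Module.Finite.fg_top.map u
  haveI hWfp : Module.FinitePresentation S (N ⧸ LinearMap.range u) :=
    Module.finitePresentation_of_surjective (LinearMap.range u).mkQ (Submodule.mkQ_surjective _)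
      (by rw [Submodule.ker_mkQ]; exact hrfg)
  letI mS₀W : Module S₀ (N ⧸ LinearMap.range u) := Module.compHom _ (algebraMap S₀ S)
  haveI t1 : IsScalarTower S₀ S (N ⧸ LinearMap.range u) := ⟨fun a s w => by
    show (a • s) • w = algebraMap S₀ S a • (s • w)
    rw [Algebra.smul_def, mul_smul]⟩
  haveI t2 : IsScalarTower R S₀ (N ⧸ LinearMap.range u) := ⟨fun r a w => by
    show algebraMap S₀ S (r • a) • w = r • (algebraMap S₀ S a • w)
    rw [Algebra.smul_def, map_mul, ← IsScalarTower.algebraMap_apply R S₀ S, mul_smul,
      algebraMap_smul]⟩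
  have htopN : (I • (⊤ : Submodule S N)).restrictScalars R = 𝔪 • (⊤ : Submodule R N) := by
    rw [hI, Ideal.smul_restrictScalars, Submodule.restrictScalars_top]
  have htopM : (I • (⊤ : Submodule S M)).restrictScalars R = 𝔪 • (⊤ : Submodule R M) := by
    rw [hI, Ideal.smul_restrictScalars, Submodule.restrictScalars_top]
  have key : ∀ z ∈ 𝔪 • (⊤ : Submodule R M), u z ∈ 𝔪 • (LinearMap.range u).restrictScalars R := by
    intro z hz
    refine Submodule.smul_induction_on hz ?_ ?_
    · intro a ha m _
      have : u (a • m) = a • u m := by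
        rw [← algebraMap_smul S a m, map_smul, algebraMap_smul]
      rw [this]
      exact Submodule.smul_mem_smul ha
        ((Submodule.restrictScalars_mem R (LinearMap.range u) (u m)).2 (LinearMap.mem_range_self u m))
    · intro z₁ z₂ h₁ h₂
      rw [map_add]; exact add_mem h₁ h₂
  have hTorR : Function.Injective
      (𝔪.subtype.rTensor (N ⧸ (LinearMap.range u).restrictScalars R)) := by
    apply rTensor_injective_of_inter
    intro y hy hy𝔪
    obtain ⟨x, rfl⟩ := (Submodule.restrictScalars_mem R (LinearMap.range u) y).1 hy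
    have h1 : u x ∈ I • (⊤ : Submodule S N) := by
      have h2 : u x ∈ (I • (⊤ : Submodule S N)).restrictScalars R := by rw [htopN]; exact hy𝔪
      exact h2
    have h3 := hu x h1
    have h4 : x ∈ 𝔪 • (⊤ : Submodule R M) := by
      rw [← htopM]; exact h3
    exact key x h4
  have hTor : Function.Injective
      ((q.comap (algebraMap R S₀)).subtype.rTensor (N ⧸ LinearMap.range u)) := by
    rw [hq𝔪]
    exact rTensor_injective_congr
      (Submodule.Quotient.restrictScalarsEquiv R (LinearMap.range u)) 𝔪 hTorR
  obtain ⟨hWflat, hker⟩ := core (R := R) (S₀ := S₀) (S := S) (W := N ⧸ LinearMap.range u) q hTor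
  haveI := hWflat
  refine ⟨?_, hWflat⟩
  haveI hkfp : Module.FinitePresentation S (LinearMap.ker (LinearMap.range u).mkQ) :=
    hker (LinearMap.range u).mkQ (Submodule.mkQ_surjective _)
  haveI hrfp : Module.FinitePresentation S (LinearMap.range u) :=
    Module.FinitePresentation.of_equiv (LinearEquiv.ofEq _ _ (Submodule.ker_mkQ _))
  have hKfg : (LinearMap.ker u).FG := by
    have := Module.FinitePresentation.fg_ker u.rangeRestrict u.surjective_rangeRestrict
    rwa [LinearMap.ker_rangeRestrict] at this
  haveI hJflat : Module.Flat R (LinearMap.range u) :=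
    Groth.Agent.Lib.Helper9.FlatCoker.flat_of_exact_ker
      ((LinearMap.range u).subtype.restrictScalars R) ((LinearMap.range u).mkQ.restrictScalars R)
      (Submodule.subtype_injective _) (Submodule.mkQ_surjective _)
      (fun y => LinearMap.exact_subtype_mkQ (LinearMap.range u) y)
  have hKle : LinearMap.ker u ≤ I • LinearMap.ker u := by
    intro x hx
    have hinj : Function.Injective
        (((LinearMap.ker u).restrictScalars R).subtype.lTensor (R ⧸ 𝔪)) :=
      LinearMap.lTensor_injective_of_exact_of_flat (u.rangeRestrict.restrictScalars R)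
        u.surjective_rangeRestrict ((LinearMap.ker u).restrictScalars R).subtype
        (Submodule.subtype_injective _) (by
          intro y
          constructor
          · intro hy
            have hy0 : u y = 0 := congrArg Subtype.val hy
            exact ⟨⟨y, hy0⟩, rfl⟩
          · rintro ⟨z, rfl⟩
            exact Subtype.ext z.2) (R ⧸ 𝔪)
    have hx𝔪 : x ∈ 𝔪 • (⊤ : Submodule R M) := by
      have h3 := hu x (by rw [LinearMap.mem_ker.1 hx]; exact zero_mem _)
      rw [← htopM]; exact h3
    have h1 := (lTensor_quot_injective_iff ((LinearMap.ker u).restrictScalars R) 𝔪).1 hinj x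
      hx hx𝔪
    have h2 : x ∈ (I • LinearMap.ker u).restrictScalars R := by
      rw [hI, Ideal.smul_restrictScalars]; exact h1
    exact h2
  have hIjac : I ≤ Ideal.jacobson ⊥ := by
    rw [IsLocalRing.jacobson_eq_maximalIdeal ⊥ bot_ne_top, hI, h𝔪]
    exact Ideal.map_comap_le
  have hK0 := Submodule.eq_bot_of_le_smul_of_le_jacobson_bot I (LinearMap.ker u) hKfg hKle hIjac
  exact LinearMap.ker_eq_bot.1 hK0

end Groth.Agent.Lib.Helper24.EssFPInj
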