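import Mathlib
import Groth.Prelude.Def_FlatCA
import Groth.Agent.Lib.Helper24.EssFPInj2
import Groth.Agent.Lib.Helper24.EssFPCover
import Groth.Agent.Lib.Helper9.FiberAss
import Groth.Agent.Lib.Helper14.FlatOpen.Open

/-!
# Universal injectivity of `N → S' ⊗_S N` for flat coverings of the associated points of the
fibres, global version over a finitely presented algebra (helper24)
-/

set_option autoImplicit false
set_option maxHeartbeats 400000
set_option linter.style.haveILetI false
universe u

open TensorProduct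

namespace Groth.Agent.Lib.Helper24.EssFPGlobal

open Groth.Agent.Lib.Helper9

section gen

variable {R S : Type u} [CommRing R] [CommRing S] [Algebra R S]
  (N : Type u) [AddCommGroup N] [Module S N] [Module R N] [IsScalarTower R S N]

lemma rTensor_lsmul' (Q : Type u) [AddCommGroup Q] [Module R Q] (s : S) (z : N ⊗[R] Q) :
    ((LinearMap.lsmul S N s).restrictScalars R).rTensor Q z = s • z := by
  induction z using TensorProduct.induction_on with
  | zero => simp
  | tmul n q => simp [TensorProduct.smul_tmul']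
  | add a b ha hb => rw [map_add, ha, hb, smul_add]

lemma assoc_rTensor_mk' (S' : Type u) [CommRing S'] [Algebra S S'] [Algebra R S']
    [IsScalarTower R S S'] (Q : Type u) [AddCommGroup Q] [Module R Q] (z : N ⊗[R] Q) :
    TensorProduct.AlgebraTensorModule.assoc R S S' S' N Q
      (((TensorProduct.mk S S' N 1).restrictScalars R).rTensor Q z) = (1 : S') ⊗ₜ[S] z := by
  induction z using TensorProduct.induction_on with
  | zero => simp
  | tmul n q => rfl
  | add a b ha hb => rw [map_add, map_add, ha, hb, TensorProduct.tmul_add]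

theorem univInj_smul' [IsLocalRing S]
    {S₀ : Type u} [CommRing S₀] [Algebra R S₀] [Algebra S₀ S] [IsScalarTower R S₀ S]
    [Algebra.FinitePresentation R S₀] (T : Submonoid S₀) [IsLocalization T S]
    [Module.FinitePresentation S N] [Module.Flat R N] (s : S)
    (hs : ∀ x : N, s • x ∈ ((IsLocalRing.maximalIdeal S).comap (algebraMap R S)).map
        (algebraMap R S) • (⊤ : Submodule S N) →
      x ∈ ((IsLocalRing.maximalIdeal S).comap (algebraMap R S)).map (algebraMap R S) •
        (⊤ : Submodule S N)) :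
    FlatCA.UnivInj R ((LinearMap.lsmul S N s).restrictScalars R) := by
  obtain ⟨u, hu⟩ : ∃ u : N →ₗ[S] N, u = LinearMap.lsmul S N s := ⟨_, rfl⟩
  have hu' : ∀ x : N, u x ∈ ((IsLocalRing.maximalIdeal S).comap (algebraMap R S)).map
        (algebraMap R S) • (⊤ : Submodule S N) →
      x ∈ ((IsLocalRing.maximalIdeal S).comap (algebraMap R S)).map (algebraMap R S) •
        (⊤ : Submodule S N) := by
    intro x hx
    rw [hu, LinearMap.lsmul_apply] at hx
    exact hs x hx
  obtain ⟨hinj, hflat⟩ := EssFPInj.injective_and_flat_coker' T u hu'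
  rw [← hu]
  intro Q _ _
  have hex : Function.Exact (u.restrictScalars R)
      ((LinearMap.range u).mkQ.restrictScalars R) := LinearMap.exact_map_mkQ_range u
  have hsurj : Function.Surjective ((LinearMap.range u).mkQ.restrictScalars R) :=
    Submodule.mkQ_surjective (LinearMap.range u)
  have hinj' : Function.Injective (u.restrictScalars R) := hinj
  exact LinearMap.lTensor_injective_of_exact_of_flat
    ((LinearMap.range u).mkQ.restrictScalars R) hsurj (u.restrictScalars R) hinj' hex Q

end gen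

section fibre

attribute [local instance] Algebra.TensorProduct.rightAlgebra

variable {R S : Type u} [CommRing R] [CommRing S] [Algebra R S] (p₀ : Ideal R) [p₀.IsPrime]

lemma isUnit_algebraMap_fiber {r : R} (hr : r ∉ p₀) :
    IsUnit (algebraMap R (p₀.Fiber S) r) := by
  rw [IsScalarTower.algebraMap_apply R p₀.ResidueField (p₀.Fiber S)]
  exact (isUnit_iff_ne_zero.2
    (fun h0 => hr (Ideal.algebraMap_residueField_eq_zero.1 h0))).map _

lemma fiberIdeal_comap (P : Ideal (p₀.Fiber S)) :
    FlatCA.fiberIdeal p₀ (P.comap (FiberAss.iota p₀ S)) = P := by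
  show (P.comap (FiberAss.iota p₀ S)).map (FiberAss.iota p₀ S) = P
  refine le_antisymm Ideal.map_comap_le ?_
  intro f hf
  obtain ⟨r, hr, a, ha⟩ := Ideal.Fiber.exists_smul_eq_one_tmul p₀ f
  have hu := isUnit_algebraMap_fiber (S := S) p₀ hr
  have h1 : algebraMap R (p₀.Fiber S) r * f = FiberAss.iota p₀ S a := by
    rw [← Algebra.smul_def, ha]
    rfl
  have h2 : a ∈ P.comap (FiberAss.iota p₀ S) := by
    rw [Ideal.mem_comap, ← h1]
    exact Ideal.mul_mem_left _ _ hf
  have h3 : algebraMap R (p₀.Fiber S) r * f ∈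
      (P.comap (FiberAss.iota p₀ S)).map (FiberAss.iota p₀ S) := by
    rw [h1]
    exact Ideal.mem_map_of_mem _ h2
  exact (Ideal.unit_mul_mem_iff_mem _ hu).1 h3

lemma liesOver_comap (P : Ideal (p₀.Fiber S)) [P.IsPrime] :
    (P.comap (FiberAss.iota p₀ S)).LiesOver p₀ := by
  have h1 : p₀ = P.under R := Ideal.LiesOver.over
  have h2 : ∀ x, x ∈ p₀ ↔ algebraMap R (p₀.Fiber S) x ∈ P := fun x =>
    (SetLike.ext_iff.mp h1 x).trans Ideal.mem_comap
  refine ⟨?_⟩
  ext x
  have h3 : FiberAss.iota p₀ S (algebraMap R S x) = algebraMap R (p₀.Fiber S) x :=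
    (Algebra.TensorProduct.includeRight (R := R) (A := p₀.ResidueField) (B := S)).commutes x
  rw [h2, ← h3]
  rfl

variable (N : Type u) [AddCommGroup N] [Module S N]

lemma exists_mem_nzd_aux [Algebra.EssFiniteType R S] [Module.Finite S N] (J : Ideal S)
    (hcov : ∀ P ∈ associatedPrimes (p₀.Fiber S) ((p₀.Fiber S) ⊗[S] N),
      ¬ J ≤ P.comap (FiberAss.iota p₀ S)) :
    ∃ j ∈ J, ∀ m : (p₀.Fiber S) ⊗[S] N, j • m = 0 → m = 0 := by
  classical
  haveI : IsNoetherianRing (p₀.Fiber S) :=
    Algebra.EssFiniteType.isNoetherianRing p₀.ResidueField _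
  have hfin := associatedPrimes.finite (p₀.Fiber S) ((p₀.Fiber S) ⊗[S] N)
  have h3 : ¬ ((J : Set S) ⊆ ⋃ P ∈ (↑hfin.toFinset : Set (Ideal (p₀.Fiber S))),
      (((fun P : Ideal (p₀.Fiber S) => P.comap (FiberAss.iota p₀ S)) P : Ideal S) : Set S)) := by
    rw [Ideal.subset_union_prime (s := hfin.toFinset)
      (f := fun P : Ideal (p₀.Fiber S) => P.comap (FiberAss.iota p₀ S)) ⊤ ⊤
      (fun P hP _ _ => by
        haveI := ((hfin.mem_toFinset).1 hP).isPrime
        exact Ideal.comap_isPrime _ _)]
    rintro ⟨P, hP, hJP⟩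
    exact hcov P ((hfin.mem_toFinset).1 hP) hJP
  obtain ⟨j, hjJ, hj⟩ := Set.not_subset.1 h3
  refine ⟨j, hjJ, ?_⟩
  intro m hm
  by_contra hm0
  have hmem : FiberAss.iota p₀ S j ∈
      {r : p₀.Fiber S | ∃ x : (p₀.Fiber S) ⊗[S] N, x ≠ 0 ∧ r • x = 0} :=
    ⟨m, hm0, by rw [← FiberAss.smul_eq]; exact hm⟩
  rw [← biUnion_associatedPrimes_eq_zero_divisors (p₀.Fiber S) ((p₀.Fiber S) ⊗[S] N)] at hmem
  obtain ⟨P, hP, hjP⟩ := Set.mem_iUnion₂.1 hmem
  exact hj (Set.mem_iUnion₂.2 ⟨P, Finset.mem_coe.2 ((hfin.mem_toFinset).2 hP), hjP⟩)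

variable [Module R N] [IsScalarTower R S N]

lemma exists_mem_nzd [Algebra.EssFiniteType R S] [Module.Finite S N] (J : Ideal S)
    (hcov : ∀ P ∈ associatedPrimes (p₀.Fiber S) (FlatCA.fiberMod p₀ S N),
      ¬ J ≤ P.comap (FiberAss.iota p₀ S)) :
    ∃ j ∈ J, ∀ m : FlatCA.fiberMod p₀ S N, j • m = 0 → m = 0 :=
  exists_mem_nzd_aux p₀ N J hcov

lemma mem_of_smul_mem_localized_aux (q₀ : Ideal S) [q₀.IsPrime]
    (hp₀ : q₀.comap (algebraMap R S) = p₀) (j : S)
    (hj : ∀ m : (p₀.Fiber S) ⊗[S] N, j • m = 0 → m = 0)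
    (x : LocalizedModule q₀.primeCompl N)
    (hx : (algebraMap S (Localization.AtPrime q₀) j) • x ∈
      ((p₀.map (algebraMap R S)).map (algebraMap S (Localization.AtPrime q₀))) •
        (⊤ : Submodule (Localization.AtPrime q₀) (LocalizedModule q₀.primeCompl N))) :
    x ∈ ((p₀.map (algebraMap R S)).map (algebraMap S (Localization.AtPrime q₀))) •
        (⊤ : Submodule (Localization.AtPrime q₀) (LocalizedModule q₀.primeCompl N)) := by
  have hloc : ((p₀.map (algebraMap R S)).map (algebraMap S (Localization.AtPrime q₀))) •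
        (⊤ : Submodule (Localization.AtPrime q₀) (LocalizedModule q₀.primeCompl N)) =
      Submodule.localized' (Localization.AtPrime q₀) q₀.primeCompl
        (LocalizedModule.mkLinearMap q₀.primeCompl N)
        ((p₀.map (algebraMap R S)) • (⊤ : Submodule S N)) := by
    rw [Submodule.localized'_smul, Ideal.localized'_eq_map, Submodule.localized'_top]
  rw [hloc] at hx ⊢
  obtain ⟨⟨n, c⟩, hnc⟩ := IsLocalizedModule.mk'_surjective q₀.primeCompl
    (LocalizedModule.mkLinearMap q₀.primeCompl N) x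
  have hxe : x = IsLocalizedModule.mk' (LocalizedModule.mkLinearMap q₀.primeCompl N) n c :=
    hnc.symm
  rw [hxe] at hx ⊢
  rw [algebraMap_smul, ← IsLocalizedModule.mk'_smul, Submodule.mem_localized'] at hx
  obtain ⟨m, hm, c', hmc⟩ := hx
  obtain ⟨d, hd⟩ := (IsLocalizedModule.mk'_eq_mk'_iff _ m (j • n) c' c).1 hmc
  have h2 : j • (((d : S) * (c' : S)) • n) ∈
      (p₀.map (algebraMap R S)) • (⊤ : Submodule S N) := by
    have h2' : j • (((d : S) * (c' : S)) • n) = d • c • m := by
      rw [← hd]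
      simp only [Submonoid.smul_def, smul_smul]
      congr 1
      ring
    rw [h2']
    simp only [Submonoid.smul_def]
    exact Submodule.smul_mem _ _ (Submodule.smul_mem _ _ hm)
  have h3 : (1 : p₀.Fiber S) ⊗ₜ[S] (j • (((d : S) * (c' : S)) • n)) = 0 :=
    FiberAss.one_tmul_eq_zero_of_mem p₀ S N h2
  have h4 : j • ((1 : p₀.Fiber S) ⊗ₜ[S] (((d : S) * (c' : S)) • n)) = 0 := by
    rw [← h3]
    exact (TensorProduct.tmul_smul j _ _).symm
  have h5 := hj _ h4
  obtain ⟨r, hr, hrn⟩ := FiberAss.exists_smul_mem_of_toFiber_eq_zero p₀ S N h5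
  have hrq : algebraMap R S r ∉ q₀ := by
    intro hmem
    apply hr
    rw [← hp₀]
    exact hmem
  refine (Submodule.mem_localized' _ _ _ _ _).2
    ⟨((⟨algebraMap R S r, hrq⟩ : q₀.primeCompl) * d * c') • n, ?_,
      (⟨algebraMap R S r, hrq⟩ : q₀.primeCompl) * d * c' * c, ?_⟩
  · have h6 : ((⟨algebraMap R S r, hrq⟩ : q₀.primeCompl) * d * c') • n =
        r • (((d : S) * (c' : S)) • n) := by
      rw [Submonoid.smul_def, ← algebraMap_smul S r, smul_smul]
      congr 1
      simp only [Submonoid.coe_mul]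
      ring
    rw [h6]
    exact hrn
  · exact IsLocalizedModule.mk'_cancel_left _ n _ c

lemma mem_of_smul_mem_localized (q₀ : Ideal S) [q₀.IsPrime]
    (hp₀ : q₀.comap (algebraMap R S) = p₀) (j : S)
    (hj : ∀ m : FlatCA.fiberMod p₀ S N, j • m = 0 → m = 0)
    (x : LocalizedModule q₀.primeCompl N)
    (hx : (algebraMap S (Localization.AtPrime q₀) j) • x ∈
      ((p₀.map (algebraMap R S)).map (algebraMap S (Localization.AtPrime q₀))) •
        (⊤ : Submodule (Localization.AtPrime q₀) (LocalizedModule q₀.primeCompl N))) :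
    x ∈ ((p₀.map (algebraMap R S)).map (algebraMap S (Localization.AtPrime q₀))) •
        (⊤ : Submodule (Localization.AtPrime q₀) (LocalizedModule q₀.primeCompl N)) :=
  mem_of_smul_mem_localized_aux p₀ N q₀ hp₀ j hj x hx

end fibre

section main

variable {R S : Type u} [CommRing R] [CommRing S] [Algebra R S] [Algebra.FinitePresentation R S]
  (N : Type u) [AddCommGroup N] [Module S N] [Module R N] [IsScalarTower R S N]
  [Module.FinitePresentation S N] [Module.Flat R N]

set_option maxHeartbeats 1600000 in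
theorem univInj_mk_tensor_global (S' : Type u) [CommRing S'] [Algebra S S'] [Algebra R S']
    [IsScalarTower R S S'] [Module.Flat S S']
    (h : ∀ (p : Ideal R) (q : Ideal S) [p.IsPrime] [q.IsPrime] [q.LiesOver p],
      FlatCA.fiberIdeal p q ∈ associatedPrimes (p.Fiber S) (FlatCA.fiberMod p S N) →
      ∃ q' : Ideal S', q'.IsPrime ∧ q'.comap (algebraMap S S') = q) :
    FlatCA.UnivInj R ((TensorProduct.mk S S' N 1).restrictScalars R) := by
  classical
  intro Q _ _
  rw [LinearMap.lTensor_inj_iff_rTensor_inj, injective_iff_map_eq_zero]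
  intro z hz
  have h1 : (1 : S') ⊗ₜ[S] z = 0 := by
    rw [← assoc_rTensor_mk' N S' Q z, hz, map_zero]
  have h2 := EssFPCover.map_ann_eq_top S' z h1
  by_contra hz0
  have hJne : (Submodule.span S {z}).annihilator ≠ ⊤ := by
    intro htop
    apply hz0
    have h1' : (1 : S) ∈ (Submodule.span S {z}).annihilator := by
      rw [htop]
      exact Submodule.mem_top
    rw [Submodule.mem_annihilator_span_singleton, one_smul] at h1'
    exact h1'
  obtain ⟨q₀, hq₀max, hJq₀⟩ := Ideal.exists_le_maximal _ hJne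
  haveI : q₀.IsPrime := hq₀max.isPrime
  obtain ⟨p₀, hp₀⟩ : ∃ p₀ : Ideal R, q₀.comap (algebraMap R S) = p₀ := ⟨_, rfl⟩
  haveI : p₀.IsPrime := by
    rw [← hp₀]
    exact Ideal.comap_isPrime _ _
  obtain ⟨j, hjJ, hj⟩ := exists_mem_nzd p₀ N ((Submodule.span S {z}).annihilator) (by
    intro P hP hJP
    haveI : P.IsPrime := hP.isPrime
    haveI : (P.comap (FiberAss.iota p₀ S)).IsPrime := Ideal.comap_isPrime _ _
    haveI : (P.comap (FiberAss.iota p₀ S)).LiesOver p₀ := liesOver_comap p₀ P
    obtain ⟨q', hq', hqq'⟩ := h p₀ (P.comap (FiberAss.iota p₀ S)) (by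
      rw [fiberIdeal_comap]
      exact hP)
    have h4 : ((Submodule.span S {z}).annihilator).map (algebraMap S S') ≤ q' :=
      Ideal.map_le_iff_le_comap.2 (hqq' ▸ hJP)
    rw [h2] at h4
    exact hq'.ne_top (top_le_iff.1 h4))
  haveI hflat₁ : Module.Flat R (LocalizedModule q₀.primeCompl N) :=
    Groth.Agent.Lib.Helper14.FlatOpen.flat_of_isLocalizedModule (A := R) q₀.primeCompl
      (LocalizedModule.mkLinearMap q₀.primeCompl N) inferInstance
  have hmax : (IsLocalRing.maximalIdeal (Localization.AtPrime q₀)).comap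
      (algebraMap R (Localization.AtPrime q₀)) = p₀ := by
    rw [IsScalarTower.algebraMap_eq R S (Localization.AtPrime q₀), ← Ideal.comap_comap]
    have h5 : (IsLocalRing.maximalIdeal (Localization.AtPrime q₀)).comap
        (algebraMap S (Localization.AtPrime q₀)) = q₀ := Localization.AtPrime.under_maximalIdeal
    rw [h5, hp₀]
  have hI : ((IsLocalRing.maximalIdeal (Localization.AtPrime q₀)).comap
      (algebraMap R (Localization.AtPrime q₀))).map (algebraMap R (Localization.AtPrime q₀)) =
      (p₀.map (algebraMap R S)).map (algebraMap S (Localization.AtPrime q₀)) := by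
    rw [hmax, Ideal.map_map, ← IsScalarTower.algebraMap_eq]
  have huniv := univInj_smul' (R := R) (S := Localization.AtPrime q₀)
    (LocalizedModule q₀.primeCompl N) (S₀ := S) q₀.primeCompl
    (algebraMap S (Localization.AtPrime q₀) j) (by
      intro x hx
      rw [hI] at hx ⊢
      exact mem_of_smul_mem_localized p₀ N q₀ hp₀ j hj x hx)
  have hkey : ∀ w : N ⊗[R] Q, (algebraMap S (Localization.AtPrime q₀) j) •
      (AlgebraTensorModule.rTensor R Q (LocalizedModule.mkLinearMap q₀.primeCompl N) w) =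
      AlgebraTensorModule.rTensor R Q (LocalizedModule.mkLinearMap q₀.primeCompl N) (j • w) := by
    intro w
    rw [map_smul, algebraMap_smul]
  have hz₁ : AlgebraTensorModule.rTensor R Q
      (LocalizedModule.mkLinearMap q₀.primeCompl N) z = 0 := by
    have h5 := (LinearMap.lTensor_inj_iff_rTensor_inj _ _).1 (huniv Q)
    apply h5
    rw [map_zero, rTensor_lsmul', hkey,
      (Submodule.mem_annihilator_span_singleton z j).1 hjJ, map_zero]
  obtain ⟨c, hc⟩ := (IsLocalizedModule.eq_zero_iff q₀.primeCompl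
    (AlgebraTensorModule.rTensor R Q (LocalizedModule.mkLinearMap q₀.primeCompl N))).1 hz₁
  have hcJ : (c : S) ∈ (Submodule.span S {z}).annihilator := by
    rw [Submodule.mem_annihilator_span_singleton]
    exact hc
  exact c.2 (hJq₀ hcJ)

end main

end Groth.Agent.Lib.Helper24.EssFPGlobal
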