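import Mathlib
import Groth.Prelude.Def_RegImm
import Groth.Agent.Lib.Helper12.DimFT2
import Groth.Agent.Lib.Helper14.Syntomic

/-!
# Localizations of global / local complete intersections over a field (helper24)
-/

set_option autoImplicit false
set_option maxHeartbeats 400000
universe u
open Groth.Agent.Lib.Helper12

namespace Groth.Agent.Lib.Helper24.LocCI

section dim

variable (k : Type u) [Field k]

lemma ringKrullDim_mvPolynomial (n : ℕ) :
    ringKrullDim (MvPolynomial (Fin n) k) = ((n : ℕ) : WithBot ℕ∞) := by
  rw [MvPolynomial.ringKrullDim_of_isNoetherianRing, ringKrullDim_eq_zero_of_field, Nat.card_fin,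
    zero_add]

/-- A global complete intersection is equidimensional. -/
theorem equidim_of_ci {S : Type u} [CommRing S] [Algebra k S] (n c : ℕ)
    (φ : MvPolynomial (Fin n) k →ₐ[k] S) (r : Fin c → MvPolynomial (Fin n) k)
    (hsurj : Function.Surjective φ)
    (hker : RingHom.ker φ.toRingHom = Ideal.span (Set.range r))
    (hdim : ringKrullDim S = ((n - c : ℕ) : WithBot ℕ∞)) :
    ∀ P ∈ minimalPrimes S, ringKrullDim (S ⧸ P) = ((n - c : ℕ) : WithBot ℕ∞) := by
  intro P hP
  haveI hPp : P.IsPrime := hP.1.1
  apply le_antisymm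
  · rw [← hdim]; exact ringKrullDim_quotient_le P
  · haveI h𝔭 : (P.comap φ.toRingHom).IsPrime := Ideal.comap_isPrime _ _
    have hmin : P.comap φ.toRingHom ∈ (Ideal.span (Set.range r)).minimalPrimes := by
      rw [← hker]
      have h1 := Ideal.comap_minimalPrimes_eq_of_surjective (f := φ.toRingHom) hsurj ⊥
      rw [← RingHom.ker_eq_comap_bot] at h1
      rw [h1]
      exact ⟨P, hP, rfl⟩
    have hht : (P.comap φ.toRingHom).height ≤ (c : ℕ∞) := by
      classical
      refine (Ideal.height_le_spanRank_toENat_of_mem_minimalPrimes _ _ hmin).trans ?_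
      rw [Submodule.spanRank_toENat_eq_iInf_finset_card]
      refine (iInf_le _ ⟨Finset.image r Finset.univ, by simp⟩).trans ?_
      have h2 : (Finset.image r Finset.univ).card ≤ c :=
        Finset.card_image_le.trans (by simp)
      exact_mod_cast h2
    have hsum := DimFT2.height_add_coheight' k (MvPolynomial (Fin n) k) n
      (ringKrullDim_mvPolynomial k n) ⟨P.comap φ.toRingHom, h𝔭⟩
    have hquot : ringKrullDim (S ⧸ P) =
        ringKrullDim (MvPolynomial (Fin n) k ⧸ P.comap φ.toRingHom) := by
      have e : (MvPolynomial (Fin n) k ⧸ P.comap φ.toRingHom) ≃+* (S ⧸ P) :=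
        RingEquiv.ofBijective (Ideal.quotientMap P φ.toRingHom le_rfl)
          ⟨Ideal.quotientMap_injective, Ideal.quotientMap_surjective hsurj⟩
      exact (ringKrullDim_eq_of_ringEquiv e).symm
    rw [hquot, DimFT.ringKrullDim_quotient_eq_coheight ⟨P.comap φ.toRingHom, h𝔭⟩]
    have hh : Order.height (⟨P.comap φ.toRingHom, h𝔭⟩ : PrimeSpectrum (MvPolynomial (Fin n) k))
        ≤ (c : ℕ∞) := by
      rw [← PrimeSpectrum.height_eq_orderHeight]
      exact hht
    have ha : Order.height (⟨P.comap φ.toRingHom, h𝔭⟩ :
        PrimeSpectrum (MvPolynomial (Fin n) k)) ≠ ⊤ :=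
      ne_top_of_le_ne_top (ENat.natCast_ne_top c) hh
    have hb : Order.coheight (⟨P.comap φ.toRingHom, h𝔭⟩ :
        PrimeSpectrum (MvPolynomial (Fin n) k)) ≠ ⊤ := by
      intro hb
      rw [hb, add_top] at hsum
      exact ENat.top_ne_natCast n hsum
    obtain ⟨a', ha'⟩ := ENat.ne_top_iff_exists.mp ha
    obtain ⟨b', hb'⟩ := ENat.ne_top_iff_exists.mp hb
    rw [← ha', ← hb'] at hsum
    rw [← ha'] at hh
    rw [← hb']
    have h1 : a' + b' = n := by exact_mod_cast hsum
    have h2 : a' ≤ c := by exact_mod_cast hh
    have h3 : n - c ≤ b' := by omega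
    have h4 : ((n - c : ℕ) : ℕ∞) ≤ (b' : ℕ∞) := by exact_mod_cast h3
    exact WithBot.coe_le_coe.mpr h4

/-- Nonempty basic opens of an equidimensional finite type algebra have full dimension. -/
theorem dim_away_of_equidim {S : Type u} [CommRing S] [Algebra k S] [Algebra.FiniteType k S]
    (d : ℕ) (h : ∀ P ∈ minimalPrimes S, ringKrullDim (S ⧸ P) = ((d : ℕ) : WithBot ℕ∞)) (g : S)
    [Nontrivial (Localization.Away g)] :
    ringKrullDim (Localization.Away g) = ((d : ℕ) : WithBot ℕ∞) := by
  apply le_antisymm
  · have h1 : ringKrullDim (Localization.Away g) ≤ ringKrullDim S := by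
      refine Order.krullDim_le_of_strictMono
        (PrimeSpectrum.comap (algebraMap S (Localization.Away g))) ?_
      exact Monotone.strictMono_of_injective (fun a b hab => Ideal.comap_mono hab)
        (PrimeSpectrum.localization_comap_injective (Localization.Away g) (Submonoid.powers g))
    exact h1.trans (DimFT2.ringKrullDim_le_of_minimalPrimes d (fun P hP _ => (h P hP).le))
  · obtain ⟨M, hM⟩ := Ideal.exists_maximal (Localization.Away g)
    haveI := hM.isPrime
    let q : PrimeSpectrum S := ⟨M.comap (algebraMap S (Localization.Away g)), inferInstance⟩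
    have hgq : g ∉ q.asIdeal := fun hg =>
      hM.ne_top (Ideal.eq_top_of_isUnit_mem _ hg (IsLocalization.Away.algebraMap_isUnit g))
    obtain ⟨m, hm, hqm, hmU⟩ := DimFT2.exists_isMaximal_mem_of_mem_open k S q
      (PrimeSpectrum.basicOpen g : Set (PrimeSpectrum S)) (PrimeSpectrum.basicOpen g).2 hgq
    have hgm : g ∉ m.asIdeal := hmU
    have hht : (Order.height m : ℕ∞) + Order.coheight m = d :=
      DimFT2.height_add_coheight_of_equidim k S d (fun P hP _ => h P hP) m
    have hco : Order.coheight m = 0 := by
      rw [Order.coheight_eq_zero]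
      intro z hz
      have h1 : m.asIdeal ≤ z.asIdeal := hz
      have h2 : z.asIdeal = m.asIdeal := (hm.eq_of_le z.2.ne_top h1).symm
      exact le_of_eq (PrimeSpectrum.ext h2)
    rw [hco, add_zero] at hht
    haveI : m.asIdeal.IsPrime := m.2
    have hdisj : Disjoint (Submonoid.powers g : Set S) (m.asIdeal : Set S) := by
      rw [Set.disjoint_left]
      rintro _ ⟨j, rfl⟩ hj
      exact hgm (Ideal.IsPrime.mem_of_pow_mem inferInstance j hj)
    have h1 := IsLocalization.height_map_of_disjoint (S := Localization.Away g)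
      (Submonoid.powers g) m.asIdeal hdisj
    have hprime : (m.asIdeal.map (algebraMap S (Localization.Away g))).IsPrime :=
      IsLocalization.isPrime_of_isPrime_disjoint (Submonoid.powers g) _ m.asIdeal m.2 hdisj
    have h2 := Ideal.height_le_ringKrullDim_of_ne_top hprime.ne_top
    rw [h1, PrimeSpectrum.height_eq_orderHeight m, hht] at h2
    exact h2

end dim

section pres

open MvPolynomial

variable {k : Type u} [Field k] {S : Type u} [CommRing S] [Algebra k S]

/-- A presentation of `S_g` with one more generator and one more relation. -/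
theorem exists_pres_away (n c : ℕ) (φ : MvPolynomial (Fin n) k →ₐ[k] S)
    (r : Fin c → MvPolynomial (Fin n) k) (hsurj : Function.Surjective φ)
    (hker : RingHom.ker φ.toRingHom = Ideal.span (Set.range r)) (g : S) :
    ∃ (φ' : MvPolynomial (Fin (n + 1)) k →ₐ[k] Localization.Away g)
      (r' : Fin (c + 1) → MvPolynomial (Fin (n + 1)) k),
      Function.Surjective φ' ∧ RingHom.ker φ'.toRingHom = Ideal.span (Set.range r') := by
  obtain ⟨G, hG⟩ := hsurj g
  set L := Localization.Away g with hL
  set v : Fin n → L := fun i => algebraMap S L (φ (X i)) with hv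
  set u : L := IsLocalization.Away.invSelf g with hu_def
  set φ' : MvPolynomial (Fin (n + 1)) k →ₐ[k] L := aeval (Fin.cons u v : Fin (n + 1) → L) with hφ'
  set r' : Fin (c + 1) → MvPolynomial (Fin (n + 1)) k :=
    Fin.cons (rename Fin.succ G * X 0 - 1) (fun i => rename Fin.succ (r i)) with hr'
  have hcomp : (aeval v : MvPolynomial (Fin n) k →ₐ[k] L) =
      (IsScalarTower.toAlgHom k S L).comp φ :=
    MvPolynomial.algHom_ext (fun i => by simp [hv])
  have L1 : ∀ p : MvPolynomial (Fin n) k, φ' (rename Fin.succ p) = algebraMap S L (φ p) := by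
    intro p
    rw [hφ', aeval_rename]
    have h1 : ((Fin.cons u v : Fin (n + 1) → L) ∘ Fin.succ) = v := by
      funext i; simp
    rw [h1, hcomp]
    rfl
  have hu : algebraMap S L g * u = 1 := IsLocalization.Away.mul_invSelf g
  have hφ'0 : φ' (X 0) = u := by rw [hφ', aeval_X, Fin.cons_zero]
  refine ⟨φ', r', ?_, ?_⟩
  · intro z
    obtain ⟨m, a, ha⟩ := IsLocalization.Away.surj g z
    obtain ⟨a', rfl⟩ := hsurj a
    refine ⟨rename Fin.succ a' * X 0 ^ m, ?_⟩
    rw [map_mul, map_pow, L1, hφ'0, ← ha, mul_assoc, ← mul_pow, hu, one_pow, mul_one]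
  · apply le_antisymm
    · -- kernel ≤ span
      intro F hF
      set J := Ideal.span (Set.range r') with hJ
      set mkJ := Ideal.Quotient.mk J with hmkJ
      set g₀ : MvPolynomial (Fin n) k →+* (MvPolynomial (Fin (n + 1)) k ⧸ J) :=
        mkJ.comp (rename Fin.succ : MvPolynomial (Fin n) k →ₐ[k] _).toRingHom with hg₀
      have hle : RingHom.ker φ.toRingHom ≤ RingHom.ker g₀ := by
        rw [hker, Ideal.span_le]
        rintro _ ⟨i, rfl⟩
        rw [SetLike.mem_coe, RingHom.mem_ker]
        exact Ideal.Quotient.eq_zero_iff_mem.mpr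
          (Ideal.subset_span ⟨Fin.succ i, by simp [hr']⟩)
      set τ : S →+* (MvPolynomial (Fin (n + 1)) k ⧸ J) :=
        φ.toRingHom.liftOfSurjective hsurj ⟨g₀, hle⟩ with hτ_def
      have hτ : ∀ a, τ (φ a) = g₀ a := fun a =>
        φ.toRingHom.liftOfRightInverse_comp_apply _ _ ⟨g₀, hle⟩ a
      have hτg : τ g * mkJ (X 0) = 1 := by
        have h1 : mkJ (rename Fin.succ G * X 0 - 1) = 0 :=
          Ideal.Quotient.eq_zero_iff_mem.mpr (Ideal.subset_span ⟨0, by simp [hr']⟩)
        rw [map_sub, map_mul, map_one, sub_eq_zero] at h1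
        rw [← hG, hτ]
        exact h1
      set σ : L →+* (MvPolynomial (Fin (n + 1)) k ⧸ J) :=
        IsLocalization.Away.lift g (g := τ) (IsUnit.of_mul_eq_one _ hτg) with hσ_def
      have hσ : ∀ s, σ (algebraMap S L s) = τ s := fun s => IsLocalization.Away.lift_eq _ _ s
      have hσu : σ u = mkJ (X 0) := by
        have h1 : τ g * σ u = 1 := by rw [← hσ, ← map_mul, hu, map_one]
        calc σ u = σ u * (τ g * mkJ (X 0)) := by rw [hτg, mul_one]
          _ = (τ g * σ u) * mkJ (X 0) := by ring
          _ = mkJ (X 0) := by rw [h1, one_mul]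
      have hcomp2 : σ.comp φ'.toRingHom = mkJ := by
        apply MvPolynomial.ringHom_ext
        · intro a
          have h1 : φ' (C a) = algebraMap S L (φ (C a)) := by
            rw [← L1]; simp
          rw [RingHom.comp_apply]
          show σ (φ' (C a)) = mkJ (C a)
          rw [h1, hσ, hτ, hg₀]
          simp
        · intro i
          rw [RingHom.comp_apply]
          show σ (φ' (X i)) = mkJ (X i)
          cases i using Fin.cases with
          | zero => rw [hφ'0, hσu]
          | succ j =>
            have h1 : φ' (X j.succ) = algebraMap S L (φ (X j)) := by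
              rw [← L1]; simp
            rw [h1, hσ, hτ, hg₀]
            simp
      have h2 : mkJ F = 0 := by
        rw [← hcomp2, RingHom.comp_apply]
        have : φ'.toRingHom F = 0 := hF
        rw [this, map_zero]
      exact Ideal.Quotient.eq_zero_iff_mem.mp h2
    · rw [Ideal.span_le]
      rintro _ ⟨j, rfl⟩
      rw [SetLike.mem_coe, RingHom.mem_ker]
      show φ' (r' j) = 0
      cases j using Fin.cases with
      | zero =>
        have h1 : r' 0 = rename Fin.succ G * X 0 - 1 := by simp [hr']
        rw [h1, map_sub, map_mul, map_one, L1, hG, hφ'0, hu, sub_self]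
      | succ i =>
        have h1 : r' i.succ = rename Fin.succ (r i) := by simp [hr']
        have h2 : φ (r i) = 0 := by
          have : r i ∈ RingHom.ker φ.toRingHom := by
            rw [hker]; exact Ideal.subset_span ⟨i, rfl⟩
          exact this
        rw [h1, L1, h2, map_zero]

end pres

section main

variable (k : Type u) [Field k] (S : Type u) [CommRing S] [Algebra k S] [Algebra.FiniteType k S]

theorem isGlobalCI_away (g : S) (h : Synt.IsGlobalCI k S) :
    Synt.IsGlobalCI k (Localization.Away g) := by
  by_cases hL : Subsingleton (Localization.Away g)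
  · exact Or.inl hL
  haveI : Nontrivial (Localization.Away g) := not_subsingleton_iff_nontrivial.mp hL
  rcases h with h | ⟨n, c, hcn, φ, r, hsurj, hker, hdim⟩
  · exfalso
    apply hL
    have h1 : (0 : S) = 1 := Subsingleton.elim _ _
    have h2 : (0 : Localization.Away g) = 1 := by
      rw [← map_zero (algebraMap S (Localization.Away g)), h1, map_one]
    exact subsingleton_of_zero_eq_one h2
  · obtain ⟨φ', r', hs', hk'⟩ := exists_pres_away n c φ r hsurj hker g
    refine Or.inr ⟨n + 1, c + 1, by omega, φ', r', hs', hk', ?_⟩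
    rw [dim_away_of_equidim k (n - c) (equidim_of_ci k n c φ r hsurj hker hdim) g]
    have : n + 1 - (c + 1) = n - c := by omega
    rw [this]

theorem isLCIOver_away (g : S) (h : Synt.IsLCIOver k S) :
    Synt.IsLCIOver k (Localization.Away g) := by
  haveI : Algebra.FinitePresentation S (Localization.Away g) :=
    IsLocalization.Away.finitePresentation g
  haveI : Algebra.FiniteType k (Localization.Away g) :=
    Algebra.FiniteType.trans (S := S) inferInstance inferInstance
  refine ⟨inferInstance, fun P => ?_⟩
  obtain ⟨h₀, hh₀, hCI⟩ :=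
    h.2 ⟨P.asIdeal.comap (algebraMap S (Localization.Away g)), inferInstance⟩
  haveI : Algebra.FinitePresentation S (Localization.Away h₀) :=
    IsLocalization.Away.finitePresentation h₀
  haveI : Algebra.FiniteType k (Localization.Away h₀) :=
    Algebra.FiniteType.trans (S := S) inferInstance inferInstance
  have h1 := isGlobalCI_away k (Localization.Away h₀) (algebraMap S (Localization.Away h₀) g) hCI
  refine ⟨algebraMap S (Localization.Away g) h₀, hh₀, ?_⟩
  haveI i1 : IsLocalization.Away (h₀ * g)
      (Localization.Away (algebraMap S (Localization.Away h₀) g)) :=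
    IsLocalization.Away.mul' (Localization.Away h₀) _ h₀ g
  haveI i2 : IsLocalization.Away (h₀ * g)
      (Localization.Away (algebraMap S (Localization.Away g) h₀)) :=
    IsLocalization.Away.mul (Localization.Away g) _ g h₀
  let e : Localization.Away (algebraMap S (Localization.Away h₀) g) ≃ₐ[S]
      Localization.Away (algebraMap S (Localization.Away g) h₀) :=
    IsLocalization.algEquiv (Submonoid.powers (h₀ * g)) _ _
  exact Groth.Agent.Lib.Helper14.isGlobalCI_of_algEquiv (e.restrictScalars k) h1

theorem main (g : S) :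
    (Synt.IsGlobalCI k S → Synt.IsGlobalCI k (Localization.Away g)) ∧
      (Synt.IsLCIOver k S → Synt.IsLCIOver k (Localization.Away g)) :=
  ⟨isGlobalCI_away k S g, isLCIOver_away k S g⟩

end main

end Groth.Agent.Lib.Helper24.LocCI
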