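import Mathlib
import Groth.Prelude.Def_RegImm
import Groth.Agent.Lib.Helper24.LocCI
import Groth.Agent.Lib.Helper6.SyntCover
import Groth.Agent.Lib.Helper14.Syntomic

/-!
# Syntomic ring maps form a local property of ring homomorphisms (helper24)

`Q f := IsSyntomic` (w.r.t. `f.toAlgebra`) satisfies `RingHom.PropertyIsLocal` and is stable
under composition with localizations at the source; hence `affineLocally Q` has the usual
affine-local characterisations.
-/

set_option autoImplicit false
set_option maxHeartbeats 400000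
set_option linter.style.haveILetI false

universe u

open TensorProduct Synt

namespace Groth.Agent.Lib.Helper24.SyntLocal

open Groth.Agent.Lib.Helper6.SyntCover (isLCIOver_of_algEquiv)

/-! ### Transport along semilinear isomorphisms -/

theorem isGlobalCI_of_semilinear {κ κ' C : Type u} [Field κ] [Field κ'] [CommRing C]
    [Algebra κ C] [Algebra κ' C] (σ : κ ≃+* κ')
    (h : ∀ x, algebraMap κ C x = algebraMap κ' C (σ x))
    (H : IsGlobalCI κ C) : IsGlobalCI κ' C := by
  rcases H with H | ⟨n, c, hc, φ, r, hsurj, hker, hdim⟩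
  · exact Or.inl H
  · have hcomp : ∀ q : MvPolynomial (Fin n) κ,
        (MvPolynomial.aeval (R := κ') (fun i => φ (MvPolynomial.X i)))
          (MvPolynomial.map (σ : κ →+* κ') q) = φ q := by
      intro q
      induction q using MvPolynomial.induction_on with
      | C a =>
        rw [MvPolynomial.map_C, MvPolynomial.aeval_C, ← MvPolynomial.algebraMap_eq, φ.commutes]
        exact (h a).symm
      | add p q hp hq => rw [map_add, map_add, map_add, hp, hq]
      | mul_X p i hp => rw [map_mul, map_mul, map_mul, hp, MvPolynomial.map_X, MvPolynomial.aeval_X]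
    refine Or.inr ⟨n, c, hc, MvPolynomial.aeval (fun i => φ (MvPolynomial.X i)),
      fun j => MvPolynomial.map (σ : κ →+* κ') (r j), ?_, ?_, hdim⟩
    · intro y
      obtain ⟨q, rfl⟩ := hsurj y
      exact ⟨MvPolynomial.map (σ : κ →+* κ') q, hcomp q⟩
    · apply le_antisymm
      · intro q hq
        have hq0 : MvPolynomial.map (σ : κ →+* κ')
            (MvPolynomial.map (σ.symm : κ' →+* κ) q) = q := by
          rw [MvPolynomial.map_map]
          have : ((σ : κ →+* κ').comp (σ.symm : κ' →+* κ)) = RingHom.id κ' := by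
            ext x; simp
          rw [this, MvPolynomial.map_id]
        have hmem : MvPolynomial.map (σ.symm : κ' →+* κ) q ∈ RingHom.ker φ.toRingHom := by
          rw [RingHom.mem_ker]
          show φ _ = 0
          rw [← hcomp, hq0]
          exact hq
        rw [hker] at hmem
        rw [← hq0]
        have hle : Ideal.map (MvPolynomial.map (σ : κ →+* κ')) (Ideal.span (Set.range r)) ≤
            Ideal.span (Set.range fun j => MvPolynomial.map (σ : κ →+* κ') (r j)) := by
          rw [Ideal.map_span]
          apply Ideal.span_mono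
          rintro _ ⟨_, ⟨j, rfl⟩, rfl⟩
          exact ⟨j, rfl⟩
        exact hle (Ideal.mem_map_of_mem _ hmem)
      · rw [Ideal.span_le]
        rintro _ ⟨j, rfl⟩
        rw [SetLike.mem_coe, RingHom.mem_ker]
        show (MvPolynomial.aeval _) _ = 0
        rw [hcomp]
        have : r j ∈ RingHom.ker φ.toRingHom := by
          rw [hker]; exact Ideal.subset_span ⟨j, rfl⟩
        exact this

theorem isLCIOver_of_semilinear {κ κ' B : Type u} [Field κ] [Field κ'] [CommRing B]
    [Algebra κ B] [Algebra κ' B] (σ : κ ≃+* κ')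
    (h : ∀ x, algebraMap κ B x = algebraMap κ' B (σ x))
    (H : IsLCIOver κ B) : IsLCIOver κ' B := by
  obtain ⟨hft, hloc⟩ := H
  refine ⟨?_, fun p => ?_⟩
  · obtain ⟨s, hs⟩ := hft.out
    have key : ∀ x ∈ Algebra.adjoin κ (s : Set B), x ∈ Algebra.adjoin κ' (s : Set B) := by
      intro x hx
      induction hx using Algebra.adjoin_induction with
      | mem x hx => exact Algebra.subset_adjoin hx
      | algebraMap a => rw [h a]; exact Subalgebra.algebraMap_mem _ _
      | add x y _ _ hx hy => exact add_mem hx hy
      | mul x y _ _ hx hy => exact mul_mem hx hy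
    exact ⟨⟨s, eq_top_iff.mpr fun x _ => key x (hs ▸ Algebra.mem_top)⟩⟩
  · obtain ⟨g, hg, hG⟩ := hloc p
    refine ⟨g, hg, isGlobalCI_of_semilinear σ (fun x => ?_) hG⟩
    rw [IsScalarTower.algebraMap_apply κ B (Localization.Away g),
      IsScalarTower.algebraMap_apply κ' B (Localization.Away g), h]

theorem isLCIOver_of_semilinearEquiv {κ κ' B B' : Type u} [Field κ] [Field κ'] [CommRing B]
    [CommRing B'] [Algebra κ B] [Algebra κ' B'] (σ : κ ≃+* κ') (e : B ≃+* B')
    (h : ∀ x, e (algebraMap κ B x) = algebraMap κ' B' (σ x)) (H : IsLCIOver κ B) :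
    IsLCIOver κ' B' := by
  letI : Algebra κ B' := ((algebraMap κ' B').comp (σ : κ →+* κ')).toAlgebra
  have e' : B ≃ₐ[κ] B' := AlgEquiv.ofRingEquiv (f := e) (fun x => h x)
  exact isLCIOver_of_semilinear σ (fun x => rfl) (isLCIOver_of_algEquiv e' H)

theorem isLCIOver_iff_of_semilinearEquiv {κ κ' B B' : Type u} [Field κ] [Field κ'] [CommRing B]
    [CommRing B'] [Algebra κ B] [Algebra κ' B'] (σ : κ ≃+* κ') (e : B ≃+* B')
    (h : ∀ x, e (algebraMap κ B x) = algebraMap κ' B' (σ x)) :
    IsLCIOver κ B ↔ IsLCIOver κ' B' :=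
  ⟨isLCIOver_of_semilinearEquiv σ e h, isLCIOver_of_semilinearEquiv σ.symm e.symm (fun y => by
    apply e.injective
    rw [RingEquiv.apply_symm_apply, h, RingEquiv.apply_symm_apply])⟩

theorem isLCIOver_of_subsingleton (k B : Type u) [Field k] [CommRing B] [Algebra k B]
    [Subsingleton B] : IsLCIOver k B := by
  refine ⟨Algebra.FiniteType.of_surjective (Algebra.ofId k B)
    (fun b => ⟨0, Subsingleton.elim _ _⟩), fun p => ?_⟩
  exact (p.isPrime.ne_top ((Ideal.eq_top_iff_one _).mpr
    (by rw [Subsingleton.elim (1 : B) 0]; exact zero_mem _))).elim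

/-! ### Fibres of a localization of the target -/

theorem isLCIOver_tensor_away (R S T K : Type u) [CommRing R] [CommRing S] [CommRing T] [Field K]
    [Algebra R S] [Algebra S T] [Algebra R T] [IsScalarTower R S T] [Algebra R K]
    (s : S) [IsLocalization.Away s T] (h : IsLCIOver K (K ⊗[R] S)) :
    IsLCIOver K (K ⊗[R] T) := by
  letI : Algebra (K ⊗[R] S) (K ⊗[R] T) :=
    (Algebra.TensorProduct.map (AlgHom.id R K) (IsScalarTower.toAlgHom R S T)).toAlgebra
  haveI : IsScalarTower K (K ⊗[R] S) (K ⊗[R] T) :=
    .of_algebraMap_eq <| by intro; simp [RingHom.algebraMap_toAlgebra]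
  haveI hloc := IsLocalization.tensorProduct_tensorProduct_right R K (.powers s) T
    (by ext; simp [RingHom.algebraMap_toAlgebra])
  haveI : IsLocalization.Away ((1 : K) ⊗ₜ[R] s) (K ⊗[R] T) := by
    simpa only [IsLocalization.Away, Submonoid.map_powers,
      Algebra.TensorProduct.includeRight_apply] using hloc
  haveI : Algebra.FiniteType K (K ⊗[R] S) := h.1
  have h1 : IsLCIOver K (Localization.Away ((1 : K) ⊗ₜ[R] s)) :=
    LocCI.isLCIOver_away K (K ⊗[R] S) _ h
  let e : Localization.Away ((1 : K) ⊗ₜ[R] s) ≃ₐ[K ⊗[R] S] K ⊗[R] T :=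
    IsLocalization.algEquiv (.powers ((1 : K) ⊗ₜ[R] s)) _ _
  exact isLCIOver_of_algEquiv (e.restrictScalars K) h1

/-- All fibres are local complete intersections. -/
def FibLCI (R S : Type u) [CommRing R] [CommRing S] [Algebra R S] : Prop :=
  ∀ p : PrimeSpectrum R, IsLCIOver p.asIdeal.ResidueField (p.asIdeal.Fiber S)

theorem fibLCI_away_target (R S T : Type u) [CommRing R] [CommRing S] [CommRing T]
    [Algebra R S] [Algebra S T] [Algebra R T] [IsScalarTower R S T] (s : S)
    [IsLocalization.Away s T] (h : FibLCI R S) : FibLCI R T :=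
  fun p => isLCIOver_tensor_away R S T p.asIdeal.ResidueField s (h p)

theorem isSyntomic_away_target (R S T : Type u) [CommRing R] [CommRing S] [CommRing T]
    [Algebra R S] [Algebra S T] [Algebra R T] [IsScalarTower R S T] (s : S)
    [IsLocalization.Away s T] (h : IsSyntomic R S) : IsSyntomic R T := by
  obtain ⟨h1, h2, h3⟩ := h
  haveI : Module.Flat S T := IsLocalization.flat T (Submonoid.powers s)
  haveI : Algebra.FinitePresentation S T := IsLocalization.Away.finitePresentation s
  exact ⟨Module.Flat.trans R S T, Algebra.FinitePresentation.trans R S T,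
    fibLCI_away_target R S T s h3⟩

/-! ### Fibres over a localization of the base -/

theorem isLCIOver_fiber_iff_of_isLocalization (R R' S : Type u) [CommRing R] [CommRing R']
    [CommRing S] [Algebra R R'] [Algebra R' S] [Algebra R S] [IsScalarTower R R' S]
    (M : Submonoid R) [IsLocalization M R']
    (p : Ideal R) [p.IsPrime] (p' : Ideal R') [p'.IsPrime]
    (hp : p = p'.comap (algebraMap R R')) :
    IsLCIOver p.ResidueField (p.Fiber S) ↔ IsLCIOver p'.ResidueField (p'.Fiber S) := by
  have hbij := (RingHom.surjectiveOnStalks_of_isLocalization M R').residueFieldMap_bijective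
    p p' hp
  let σ : p.ResidueField ≃+* p'.ResidueField := RingEquiv.ofBijective _ hbij
  have hσ : ∀ x : R, σ (algebraMap R p.ResidueField x) = algebraMap R p'.ResidueField x := by
    intro x
    show Ideal.ResidueField.map p p' (algebraMap R R') hp (algebraMap R _ x) = _
    rw [Ideal.ResidueField.map_algebraMap]
    exact (IsScalarTower.algebraMap_apply R R' p'.ResidueField x).symm
  let σA : p.ResidueField ≃ₐ[R] p'.ResidueField := AlgEquiv.ofRingEquiv (f := σ) hσ
  let e₂ : p.ResidueField ⊗[R] S ≃ₐ[R] p'.ResidueField ⊗[R] S :=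
    Algebra.TensorProduct.congr σA AlgEquiv.refl
  haveI : TensorProduct.CompatibleSMul R R' p'.ResidueField S :=
    IsLocalization.tensorProduct_compatibleSMul M R' _ _
  let e₁ : p'.ResidueField ⊗[R'] S ≃ₐ[p'.ResidueField] p'.ResidueField ⊗[R] S :=
    Algebra.TensorProduct.equivOfCompatibleSMul R R' p'.ResidueField p'.ResidueField S
  have hA : IsLCIOver p.ResidueField (p.ResidueField ⊗[R] S) ↔
      IsLCIOver p'.ResidueField (p'.ResidueField ⊗[R] S) :=
    isLCIOver_iff_of_semilinearEquiv σ e₂.toRingEquiv (fun x => by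
      show e₂ (algebraMap _ _ x) = _
      rw [Algebra.TensorProduct.algebraMap_apply, Algebra.TensorProduct.algebraMap_apply]
      simp [e₂, σA])
  exact hA.trans ⟨isLCIOver_of_algEquiv e₁.symm, isLCIOver_of_algEquiv e₁⟩

theorem fibLCI_iff_of_isLocalization (R R' S : Type u) [CommRing R] [CommRing R']
    [CommRing S] [Algebra R R'] [Algebra R' S] [Algebra R S] [IsScalarTower R R' S]
    (M : Submonoid R) [IsLocalization M R'] : FibLCI R' S ↔ FibLCI R S := by
  constructor
  · intro h p
    by_cases hd : Disjoint (M : Set R) (p.asIdeal : Set R)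
    · haveI hp' : (p.asIdeal.map (algebraMap R R')).IsPrime :=
        IsLocalization.isPrime_of_isPrime_disjoint M R' p.asIdeal p.isPrime hd
      have hc : (p.asIdeal.map (algebraMap R R')).comap (algebraMap R R') = p.asIdeal :=
        IsLocalization.comap_map_of_isPrime_disjoint M R' p.isPrime hd
      exact (isLCIOver_fiber_iff_of_isLocalization R R' S M p.asIdeal
        (p.asIdeal.map (algebraMap R R')) hc.symm).mpr (h ⟨_, hp'⟩)
    · rw [Set.not_disjoint_iff] at hd
      obtain ⟨m, hmM, hmp⟩ := hd
      haveI : Subsingleton (p.asIdeal.ResidueField ⊗[R] S) := by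
        have hu : IsUnit (algebraMap R S m) := by
          rw [IsScalarTower.algebraMap_apply R R' S]
          exact (IsLocalization.map_units R' (⟨m, hmM⟩ : M)).map _
        obtain ⟨v, hv⟩ := hu.exists_right_inv
        have h0 : algebraMap R p.asIdeal.ResidueField m = 0 :=
          Ideal.algebraMap_residueField_eq_zero.mpr hmp
        have h10 : (1 : p.asIdeal.ResidueField ⊗[R] S) = 0 := by
          rw [Algebra.TensorProduct.one_def, ← hv, ← Algebra.smul_def, ← TensorProduct.smul_tmul,
            Algebra.smul_def, h0, zero_mul, TensorProduct.zero_tmul]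
        exact subsingleton_of_zero_eq_one h10.symm
      exact isLCIOver_of_subsingleton _ _
  · intro h p'
    haveI hcp : (p'.asIdeal.comap (algebraMap R R')).IsPrime := Ideal.comap_isPrime _ _
    exact (isLCIOver_fiber_iff_of_isLocalization R R' S M
      (p'.asIdeal.comap (algebraMap R R')) p'.asIdeal rfl).mp
      (h ⟨p'.asIdeal.comap (algebraMap R R'), hcp⟩)

theorem isSyntomic_of_away_source (R R' S : Type u) [CommRing R] [CommRing R']
    [CommRing S] [Algebra R R'] [Algebra R' S] [Algebra R S] [IsScalarTower R R' S]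
    (r : R) [IsLocalization.Away r R'] (h : IsSyntomic R' S) : IsSyntomic R S := by
  obtain ⟨h1, h2, h3⟩ := h
  haveI : Module.Flat R R' := IsLocalization.flat R' (Submonoid.powers r)
  haveI : Algebra.FinitePresentation R R' := IsLocalization.Away.finitePresentation r
  exact ⟨Module.Flat.trans R R' S, Algebra.FinitePresentation.trans R R' S,
    (fibLCI_iff_of_isLocalization R R' S (Submonoid.powers r)).mp h3⟩

/-! ### The ring hom property -/

/-- `f` is a syntomic ring homomorphism. -/
def Q {R S : Type u} [CommRing R] [CommRing S] (f : R →+* S) : Prop :=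
  @IsSyntomic R _ S _ f.toAlgebra

theorem isSyntomic_congr_algebra {R S : Type u} [CommRing R] [CommRing S] (a b : Algebra R S)
    (h : ∀ r, @algebraMap R S _ _ a r = @algebraMap R S _ _ b r)
    (H : @IsSyntomic R _ S _ a) : @IsSyntomic R _ S _ b := by
  have : a = b := Algebra.algebra_ext _ _ h
  subst this
  exact H

theorem Q_stableTarget : RingHom.StableUnderCompositionWithLocalizationAwayTarget (@Q) := by
  intro R S T _ _ _ _ s _ f hf
  letI := f.toAlgebra
  letI := ((algebraMap S T).comp f).toAlgebra
  haveI : IsScalarTower R S T := IsScalarTower.of_algebraMap_eq' rfl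
  exact isSyntomic_away_target R S T s hf

theorem Q_stableSource : RingHom.StableUnderCompositionWithLocalizationAwaySource (@Q) := by
  intro R R' S _ _ _ _ r _ f hf
  letI := f.toAlgebra
  letI := (f.comp (algebraMap R R')).toAlgebra
  haveI : IsScalarTower R R' S := IsScalarTower.of_algebraMap_eq' rfl
  exact isSyntomic_of_away_source R R' S r hf

theorem Q_ofLocalizationSpanTarget : RingHom.OfLocalizationSpanTarget (@Q) := by
  rw [RingHom.ofLocalizationSpanTarget_iff_finite]
  intro R S _ _ f s hs H
  letI := f.toAlgebra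
  refine Groth.Agent.Lib.Helper14.isSyntomic_of_localization_span_eq_top R S s hs (fun g hg => ?_)
  refine isSyntomic_congr_algebra _ _ (fun r => ?_) (H ⟨g, hg⟩)
  exact (IsScalarTower.algebraMap_apply R S (Localization.Away g) r).symm

theorem Q_localizationAwayPreserves : RingHom.LocalizationAwayPreserves (@Q) := by
  intro R S _ _ f r R' S' _ _ _ _ _ _ hf
  refine ⟨RingHom.Flat.propertyIsLocal.localizationAwayPreserves f r R' S' hf.1,
    RingHom.finitePresentation_isLocal.localizationAwayPreserves f r R' S' hf.2.1, ?_⟩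
  letI := f.toAlgebra
  letI := ((algebraMap S S').comp f).toAlgebra
  letI := (IsLocalization.Away.map R' S' f r).toAlgebra
  haveI : IsScalarTower R S S' := .of_algebraMap_eq' rfl
  haveI : IsScalarTower R R' S' := .of_algebraMap_eq' (by
    rw [RingHom.algebraMap_toAlgebra, RingHom.algebraMap_toAlgebra]
    exact (IsLocalization.map_comp _).symm)
  have h1 : FibLCI R S' := fibLCI_away_target R S S' (f r) hf.2.2
  exact (fibLCI_iff_of_isLocalization R R' S' (Submonoid.powers r)).mpr h1

theorem Q_isLocal : RingHom.PropertyIsLocal (@Q) where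
  localizationAwayPreserves := Q_localizationAwayPreserves
  ofLocalizationSpanTarget := Q_ofLocalizationSpanTarget
  ofLocalizationSpan := Q_ofLocalizationSpanTarget.ofLocalizationSpan Q_stableSource
  StableUnderCompositionWithLocalizationAwayTarget := Q_stableTarget

end Groth.Agent.Lib.Helper24.SyntLocal
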