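import Mathlib
import Groth.Prelude.Def_RegImm
import Groth.Agent.Lib.Helper24.SyntLocal

/-!
# Syntomic morphisms of schemes: affine-local characterisation (helper24)
-/

set_option autoImplicit false
set_option maxHeartbeats 400000

universe u

open AlgebraicGeometry CategoryTheory Synt

namespace Groth.Agent.Lib.Helper24.SyntLocalSch

open Groth.Agent.Lib.Helper24.SyntLocal

/-- The morphism property induced by syntomic ring maps. -/
def P : MorphismProperty Scheme.{u} := affineLocally (@Q)

instance : HasRingHomProperty P (@Q) := ⟨Q_isLocal, rfl⟩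

theorem P_iff_isSyntomicMor {X S : Scheme.{u}} (f : X ⟶ S) : P f ↔ IsSyntomicMor f := by
  rw [HasRingHomProperty.iff_exists_appLE (P := P) Q_stableSource]
  constructor
  · intro h x
    obtain ⟨U, V, hx, e, hQ⟩ := h x
    exact ⟨V, U, e, hx, hQ⟩
  · intro h x
    obtain ⟨U, V, e, hx, hQ⟩ := h x
    exact ⟨V, U, hx, e, hQ⟩

theorem isSyntomicMor_iff_forall_affineOpens {X S : Scheme.{u}} (f : X ⟶ S) :
    IsSyntomicMor f ↔
      ∀ (U : X.affineOpens) (V : S.affineOpens) (e : U.1 ≤ f ⁻¹ᵁ V.1),
        letI := (f.appLE V.1 U.1 e).hom.toAlgebra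
        IsSyntomic Γ(S, V.1) Γ(X, U.1) := by
  rw [← P_iff_isSyntomicMor, HasRingHomProperty.iff_appLE (P := P)]
  exact ⟨fun h U V e => h V U e, fun h U V e => h V U e⟩

end Groth.Agent.Lib.Helper24.SyntLocalSch
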