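import Mathlib
import Groth.Prelude.Def_Flat
import Groth.Agent.Lib.Helper12.FibreDimFP

/-!
# Local dimension of fibres of a ring map, in terms of `topFibreDim` (helper24)
-/

set_option autoImplicit false
set_option maxHeartbeats 400000

universe u

open AlgebraicGeometry CategoryTheory TensorProduct Groth.Agent.Lib.Helper12

namespace Groth.Agent.Lib.Helper24.FibreLocDim

variable (R S : Type u) [CommRing R] [CommRing S] [Algebra R S]

theorem topFibreDim_eq (q : PrimeSpectrum S) :
    TopFibreDim.topFibreDim (PrimeSpectrum.comap (algebraMap R S)) q =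
      FlatMor.localDim (PrimeSpectrum ((PrimeSpectrum.comap (algebraMap R S) q).asIdeal.Fiber S))
        (PrimeSpectrum.preimageHomeomorphFiber R S (PrimeSpectrum.comap (algebraMap R S) q)
          ⟨q, rfl⟩) := by
  unfold TopFibreDim.topFibreDim
  exact TopFibreDim.localDim_homeomorph
    (PrimeSpectrum.preimageHomeomorphFiber R S (PrimeSpectrum.comap (algebraMap R S) q)) ⟨q, rfl⟩

theorem forall_fibre_iff (q : PrimeSpectrum S) (n : ℕ) :
    (∀ Q : PrimeSpectrum ((q.asIdeal.under R).Fiber S),
        Q.asIdeal.comap (Algebra.TensorProduct.includeRight.toRingHom) = q.asIdeal →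
          FlatMor.localDim (PrimeSpectrum ((q.asIdeal.under R).Fiber S)) Q ≤ (n : WithBot ℕ∞)) ↔
      TopFibreDim.topFibreDim (PrimeSpectrum.comap (algebraMap R S)) q ≤ (n : WithBot ℕ∞) := by
  rw [topFibreDim_eq]
  constructor
  · intro h
    refine h (PrimeSpectrum.preimageHomeomorphFiber R S (PrimeSpectrum.comap (algebraMap R S) q)
          ⟨q, rfl⟩) ?_
    exact congrArg PrimeSpectrum.asIdeal
      (Chevalley.comap_includeRight_apply (PrimeSpectrum.comap (algebraMap R S) q) q rfl)
  · intro h Q hQ
    have hQ' : Q = PrimeSpectrum.preimageHomeomorphFiber R S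
        (PrimeSpectrum.comap (algebraMap R S) q) ⟨q, rfl⟩ := by
      apply Chevalley.comap_includeRight_injective (PrimeSpectrum.comap (algebraMap R S) q)
      rw [Chevalley.comap_includeRight_apply]
      exact PrimeSpectrum.ext hQ
    rw [hQ']
    exact h

theorem isOpen_set [Algebra.FiniteType R S] (n : ℕ) :
    IsOpen {q : PrimeSpectrum S |
      TopFibreDim.topFibreDim (PrimeSpectrum.comap (algebraMap R S)) q ≤ (n : WithBot ℕ∞)} :=
  Chevalley.isOpen_setOf_topFibreDim_le' (algebraMap R S)
    (RingHom.finiteType_algebraMap.mpr inferInstance) n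

theorem isCompact_set [Algebra.FinitePresentation R S] (n : ℕ) :
    IsCompact {q : PrimeSpectrum S |
      TopFibreDim.topFibreDim (PrimeSpectrum.comap (algebraMap R S)) q ≤ (n : WithBot ℕ∞)} := by
  have h := FibreDimFP.isCompact_setOf_fibreDimAt_le_Spec (CommRingCat.ofHom (algebraMap R S))
    (by
      show (algebraMap R S).FinitePresentation
      exact RingHom.finitePresentation_algebraMap.mpr inferInstance) n
  have heq : ∀ q : PrimeSpectrum S,
      FlatMor.fibreDimAt (Spec.map (CommRingCat.ofHom (algebraMap R S))) q =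
        TopFibreDim.topFibreDim (PrimeSpectrum.comap (algebraMap R S)) q := fun q => by
    rw [TopFibreDim.fibreDimAt_eq_topFibreDim]
    rfl
  have hset : {q : PrimeSpectrum S |
      TopFibreDim.topFibreDim (PrimeSpectrum.comap (algebraMap R S)) q ≤ (n : WithBot ℕ∞)} =
      {q : PrimeSpectrum S |
        FlatMor.fibreDimAt (Spec.map (CommRingCat.ofHom (algebraMap R S))) q ≤ (n : WithBot ℕ∞)} :=
    Set.ext fun q => by rw [Set.mem_setOf_eq, Set.mem_setOf_eq, heq q]
  rw [hset]
  exact h

theorem main [Algebra.FinitePresentation R S] (n : ℕ) :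
    IsOpen {q : PrimeSpectrum S | ∀ Q : PrimeSpectrum ((q.asIdeal.under R).Fiber S),
        Q.asIdeal.comap (Algebra.TensorProduct.includeRight.toRingHom) = q.asIdeal →
          FlatMor.localDim (PrimeSpectrum ((q.asIdeal.under R).Fiber S)) Q ≤ (n : WithBot ℕ∞)} ∧
      IsCompact {q : PrimeSpectrum S | ∀ Q : PrimeSpectrum ((q.asIdeal.under R).Fiber S),
        Q.asIdeal.comap (Algebra.TensorProduct.includeRight.toRingHom) = q.asIdeal →
          FlatMor.localDim (PrimeSpectrum ((q.asIdeal.under R).Fiber S)) Q ≤ (n : WithBot ℕ∞)} := by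
  simp only [forall_fibre_iff]
  exact ⟨isOpen_set R S n, isCompact_set R S n⟩

end Groth.Agent.Lib.Helper24.FibreLocDim
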