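import Mathlib
import Groth.Prelude.Def_RegImm
import Groth.Prelude.Def_Flat
import Groth.Agent.Lib.Helper24.LocCI
import Groth.Agent.Lib.Helper24.FibreLocDim
import Groth.Agent.Lib.Helper12.DimFT
import Groth.Agent.Lib.Helper12.DimFT2
import Groth.Agent.Lib.Helper12.TopFibreDim
import Groth.Agent.Lib.Helper12.Chevalley

/-!
# Localizing a presented algebra to a relative global complete intersection (helper24)
-/

set_option autoImplicit false
set_option maxHeartbeats 400000
set_option linter.style.haveILetI false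

universe u

open TensorProduct Synt AlgebraicGeometry Groth.Agent.Lib.Helper12 MvPolynomial

namespace Groth.Agent.Lib.Helper24.RelGCIAway

section pres

variable {R : Type u} [CommRing R] {S : Type u} [CommRing S] [Algebra R S]

/-- A presentation of `S_g` with one more generator (last) and one more relation (last). -/
theorem exists_pres_away_snoc (n c : ℕ) (φ : MvPolynomial (Fin n) R →ₐ[R] S)
    (r : Fin c → MvPolynomial (Fin n) R) (hsurj : Function.Surjective φ)
    (hker : RingHom.ker φ.toRingHom = Ideal.span (Set.range r)) (G : MvPolynomial (Fin n) R) :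
    ∃ φ' : MvPolynomial (Fin (n + 1)) R →ₐ[R] Localization.Away (φ G),
      Function.Surjective φ' ∧ RingHom.ker φ'.toRingHom = Ideal.span (Set.range
        (Fin.snoc (fun i => rename Fin.castSucc (r i))
          (rename Fin.castSucc G * X (Fin.last n) - 1) :
          Fin (c + 1) → MvPolynomial (Fin (n + 1)) R)) := by
  obtain ⟨g, hg⟩ : ∃ g : S, g = φ G := ⟨_, rfl⟩
  rw [← hg]
  set L := Localization.Away g with hL
  set v : Fin n → L := fun i => algebraMap S L (φ (X i)) with hv
  set u : L := IsLocalization.Away.invSelf g with hu_def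
  set φ' : MvPolynomial (Fin (n + 1)) R →ₐ[R] L := aeval (Fin.snoc v u : Fin (n + 1) → L) with hφ'
  set r' : Fin (c + 1) → MvPolynomial (Fin (n + 1)) R :=
    Fin.snoc (fun i => rename Fin.castSucc (r i))
      (rename Fin.castSucc G * X (Fin.last n) - 1) with hr'
  have hcomp : (aeval v : MvPolynomial (Fin n) R →ₐ[R] L) =
      (IsScalarTower.toAlgHom R S L).comp φ :=
    MvPolynomial.algHom_ext (fun i => by simp [hv])
  have L1 : ∀ p : MvPolynomial (Fin n) R,
      φ' (rename Fin.castSucc p) = algebraMap S L (φ p) := by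
    intro p
    rw [hφ', aeval_rename]
    have h1 : ((Fin.snoc v u : Fin (n + 1) → L) ∘ Fin.castSucc) = v := by
      funext i; simp
    rw [h1, hcomp]
    rfl
  have hu : algebraMap S L g * u = 1 := IsLocalization.Away.mul_invSelf g
  have hφ'l : φ' (X (Fin.last n)) = u := by rw [hφ', aeval_X, Fin.snoc_last]
  have hr'l : r' (Fin.last c) = rename Fin.castSucc G * X (Fin.last n) - 1 := by
    rw [hr', Fin.snoc_last]
  have hr'c : ∀ i : Fin c, r' (Fin.castSucc i) = rename Fin.castSucc (r i) := by
    intro i; rw [hr', Fin.snoc_castSucc]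
  refine ⟨φ', ?_, ?_⟩
  · intro z
    obtain ⟨m, a, ha⟩ := IsLocalization.Away.surj g z
    obtain ⟨a', rfl⟩ := hsurj a
    refine ⟨rename Fin.castSucc a' * X (Fin.last n) ^ m, ?_⟩
    rw [map_mul, map_pow, L1, hφ'l, ← ha, mul_assoc, ← mul_pow, hu, one_pow, mul_one]
  · apply le_antisymm
    · intro F hF
      set J := Ideal.span (Set.range r') with hJ
      set mkJ := Ideal.Quotient.mk J with hmkJ
      set g₀ : MvPolynomial (Fin n) R →+* (MvPolynomial (Fin (n + 1)) R ⧸ J) :=
        mkJ.comp (rename Fin.castSucc : MvPolynomial (Fin n) R →ₐ[R] _).toRingHom with hg₀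
      have hle : RingHom.ker φ.toRingHom ≤ RingHom.ker g₀ := by
        rw [hker, Ideal.span_le]
        rintro _ ⟨i, rfl⟩
        rw [SetLike.mem_coe, RingHom.mem_ker]
        exact Ideal.Quotient.eq_zero_iff_mem.mpr
          (Ideal.subset_span ⟨Fin.castSucc i, hr'c i⟩)
      set τ : S →+* (MvPolynomial (Fin (n + 1)) R ⧸ J) :=
        φ.toRingHom.liftOfSurjective hsurj ⟨g₀, hle⟩ with hτ_def
      have hτ : ∀ a, τ (φ a) = g₀ a := fun a =>
        φ.toRingHom.liftOfRightInverse_comp_apply _ _ ⟨g₀, hle⟩ a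
      have hτg : τ g * mkJ (X (Fin.last n)) = 1 := by
        have h1 : mkJ (rename Fin.castSucc G * X (Fin.last n) - 1) = 0 :=
          Ideal.Quotient.eq_zero_iff_mem.mpr (Ideal.subset_span ⟨Fin.last c, hr'l⟩)
        rw [map_sub, map_mul, map_one, sub_eq_zero] at h1
        rw [hg, hτ]
        exact h1
      set σ : L →+* (MvPolynomial (Fin (n + 1)) R ⧸ J) :=
        IsLocalization.Away.lift g (g := τ) (IsUnit.of_mul_eq_one _ hτg) with hσ_def
      have hσ : ∀ s, σ (algebraMap S L s) = τ s := fun s => IsLocalization.Away.lift_eq _ _ s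
      have hσu : σ u = mkJ (X (Fin.last n)) := by
        have h1 : τ g * σ u = 1 := by rw [← hσ, ← map_mul, hu, map_one]
        calc σ u = σ u * (τ g * mkJ (X (Fin.last n))) := by rw [hτg, mul_one]
          _ = (τ g * σ u) * mkJ (X (Fin.last n)) := by ring
          _ = mkJ (X (Fin.last n)) := by rw [h1, one_mul]
      have hcomp2 : σ.comp φ'.toRingHom = mkJ := by
        apply MvPolynomial.ringHom_ext
        · intro a
          have h1 : φ' (C a) = algebraMap S L (φ (C a)) := by
            rw [← L1]; simp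
          rw [RingHom.comp_apply]
          show σ (φ' (C a)) = mkJ (C a)
          rw [h1, hσ, hτ, hg₀]
          simp
        · intro i
          rw [RingHom.comp_apply]
          show σ (φ' (X i)) = mkJ (X i)
          cases i using Fin.lastCases with
          | last => rw [hφ'l, hσu]
          | cast j =>
            have h1 : φ' (X j.castSucc) = algebraMap S L (φ (X j)) := by
              rw [← L1]; simp
            rw [h1, hσ, hτ, hg₀]
            simp
      have h2 : mkJ F = 0 := by
        rw [← hcomp2, RingHom.comp_apply]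
        have : φ'.toRingHom F = 0 := hF
        rw [this, map_zero]
      exact Ideal.Quotient.eq_zero_iff_mem.mp h2
    · rw [Ideal.span_le]
      rintro _ ⟨j, rfl⟩
      rw [SetLike.mem_coe, RingHom.mem_ker]
      show φ' (r' j) = 0
      cases j using Fin.lastCases with
      | last =>
        rw [hr'l, map_sub, map_mul, map_one, L1, ← hg, hφ'l, hu, sub_self]
      | cast i =>
        have h2 : φ (r i) = 0 := by
          have : r i ∈ RingHom.ker φ.toRingHom := by
            rw [hker]; exact Ideal.subset_span ⟨i, rfl⟩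
          exact this
        rw [hr'c, L1, h2, map_zero]

theorem exists_awayEquiv (n c : ℕ) (F : Fin c → MvPolynomial (Fin n) R)
    (h : MvPolynomial (Fin n) R) :
    Nonempty (Localization.Away (Ideal.Quotient.mk (Ideal.span (Set.range F)) h) ≃ₐ[R]
      RelGCIRing R (n + 1) (c + 1)
        (Fin.snoc (fun i => rename Fin.castSucc (F i))
          (rename Fin.castSucc h * X (Fin.last n) - 1))) := by
  obtain ⟨φ', hs', hk'⟩ := exists_pres_away_snoc (S := RelGCIRing R n c F) n c
    (Ideal.Quotient.mkₐ R (Ideal.span (Set.range F))) F Ideal.Quotient.mk_surjective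
    (by ext x; rw [RingHom.mem_ker]; exact Ideal.Quotient.eq_zero_iff_mem) h
  have hk'' : Ideal.span (Set.range
      (Fin.snoc (fun i => rename Fin.castSucc (F i))
        (rename Fin.castSucc h * X (Fin.last n) - 1) :
        Fin (c + 1) → MvPolynomial (Fin (n + 1)) R)) = RingHom.ker φ' := hk'.symm
  exact ⟨((Ideal.quotientEquivAlgOfEq R hk'').trans
    (Ideal.quotientKerAlgEquivOfSurjective hs')).symm⟩

end pres

section dim

/-- Krull's height theorem: every irreducible component of `k[x_1..x_n]/(r_1..r_c)` has dimension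
at least `n - c`. -/
theorem dim_quot_ge (k : Type u) [Field k] {S : Type u} [CommRing S] [Algebra k S] (n c : ℕ)
    (φ : MvPolynomial (Fin n) k →ₐ[k] S) (r : Fin c → MvPolynomial (Fin n) k)
    (hsurj : Function.Surjective φ)
    (hker : RingHom.ker φ.toRingHom = Ideal.span (Set.range r))
    (P : Ideal S) (hP : P ∈ minimalPrimes S) :
    ((n - c : ℕ) : WithBot ℕ∞) ≤ ringKrullDim (S ⧸ P) := by
  haveI hPp : P.IsPrime := hP.1.1
  haveI h𝔭 : (P.comap φ.toRingHom).IsPrime := Ideal.comap_isPrime _ _
  have hmin : P.comap φ.toRingHom ∈ (Ideal.span (Set.range r)).minimalPrimes := by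
    rw [← hker]
    have h1 := Ideal.comap_minimalPrimes_eq_of_surjective (f := φ.toRingHom) hsurj ⊥
    rw [← RingHom.ker_eq_comap_bot] at h1
    rw [h1]
    exact ⟨P, hP, rfl⟩
  have hht : (P.comap φ.toRingHom).height ≤ (c : ℕ∞) := by
    classical
    refine (Ideal.height_le_spanRank_toENat_of_mem_minimalPrimes _ _ hmin).trans ?_
    rw [Submodule.spanRank_toENat_eq_iInf_finset_card]
    refine (iInf_le _ ⟨Finset.image r Finset.univ, by simp⟩).trans ?_
    have h2 : (Finset.image r Finset.univ).card ≤ c :=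
      Finset.card_image_le.trans (by simp)
    exact_mod_cast h2
  have hsum := DimFT2.height_add_coheight' k (MvPolynomial (Fin n) k) n
    (LocCI.ringKrullDim_mvPolynomial k n) ⟨P.comap φ.toRingHom, h𝔭⟩
  have hquot : ringKrullDim (S ⧸ P) =
      ringKrullDim (MvPolynomial (Fin n) k ⧸ P.comap φ.toRingHom) := by
    have e : (MvPolynomial (Fin n) k ⧸ P.comap φ.toRingHom) ≃+* (S ⧸ P) :=
      RingEquiv.ofBijective (Ideal.quotientMap P φ.toRingHom le_rfl)
        ⟨Ideal.quotientMap_injective, Ideal.quotientMap_surjective hsurj⟩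
    exact (ringKrullDim_eq_of_ringEquiv e).symm
  rw [hquot, DimFT.ringKrullDim_quotient_eq_coheight ⟨P.comap φ.toRingHom, h𝔭⟩]
  have hh : Order.height (⟨P.comap φ.toRingHom, h𝔭⟩ : PrimeSpectrum (MvPolynomial (Fin n) k))
      ≤ (c : ℕ∞) := by
    rw [← PrimeSpectrum.height_eq_orderHeight]
    exact hht
  have ha : Order.height (⟨P.comap φ.toRingHom, h𝔭⟩ :
      PrimeSpectrum (MvPolynomial (Fin n) k)) ≠ ⊤ :=
    ne_top_of_le_ne_top (ENat.natCast_ne_top c) hh
  have hb : Order.coheight (⟨P.comap φ.toRingHom, h𝔭⟩ :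
      PrimeSpectrum (MvPolynomial (Fin n) k)) ≠ ⊤ := by
    intro hb
    rw [hb, add_top] at hsum
    exact ENat.top_ne_natCast n hsum
  obtain ⟨a', ha'⟩ := ENat.ne_top_iff_exists.mp ha
  obtain ⟨b', hb'⟩ := ENat.ne_top_iff_exists.mp hb
  rw [← ha', ← hb'] at hsum
  rw [← ha'] at hh
  rw [← hb']
  have h1 : a' + b' = n := by exact_mod_cast hsum
  have h2 : a' ≤ c := by exact_mod_cast hh
  have h3 : n - c ≤ b' := by omega
  have h4 : ((n - c : ℕ) : ℕ∞) ≤ (b' : ℕ∞) := by exact_mod_cast h3
  exact WithBot.coe_le_coe.mpr h4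

/-- The same bound for the fibres of a presented algebra. -/
theorem fibre_dim_quot_ge (R : Type u) [CommRing R] (N K : ℕ)
    (G : Fin K → MvPolynomial (Fin N) R)
    (κ : Type u) [Field κ] [Algebra R κ] {B : Type u} [CommRing B] [Algebra κ B]
    (e : (κ ⊗[R] RelGCIRing R N K G) ≃ₐ[κ] B) (P : Ideal B) (hP : P ∈ minimalPrimes B) :
    ((N - K : ℕ) : WithBot ℕ∞) ≤ ringKrullDim (B ⧸ P) := by
  let P' := (Algebra.Presentation.naive (v := G)).baseChange κ
  have hk : P'.ker = RingHom.ker (MvPolynomial.aeval P'.val).toRingHom :=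
    P'.ker_eq_ker_aeval_val
  refine dim_quot_ge κ N K (e.toAlgHom.comp (MvPolynomial.aeval P'.val))
    P'.relation (fun b => ?_) ?_ P hP
  · obtain ⟨y, hy⟩ := P'.aeval_val_surjective (e.symm b)
    exact ⟨y, by
      show e (MvPolynomial.aeval P'.val y) = b
      rw [hy, AlgEquiv.apply_symm_apply]⟩
  rw [P'.span_range_relation_eq_ker, hk]
  ext x
  simp only [RingHom.mem_ker]
  change e (MvPolynomial.aeval P'.val x) = 0 ↔ MvPolynomial.aeval P'.val x = 0
  exact EmbeddingLike.map_eq_zero_iff

theorem dim_quot_le_localDim (k B : Type u) [Field k] [CommRing B] [Algebra k B]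
    [Algebra.FiniteType k B] (Q : PrimeSpectrum B) :
    ringKrullDim (B ⧸ Q.asIdeal) ≤ FlatMor.localDim (PrimeSpectrum B) Q := by
  rw [DimFT2.localDim_primeSpectrum k B Q, DimFT.ringKrullDim_quotient_eq_coheight Q]
  exact WithBot.coe_le_coe.mpr le_add_self

theorem localDim_le_ringKrullDim (k B : Type u) [Field k] [CommRing B] [Algebra k B]
    [Algebra.FiniteType k B] (Q : PrimeSpectrum B) :
    FlatMor.localDim (PrimeSpectrum B) Q ≤ ringKrullDim B := by
  rw [DimFT2.localDim_primeSpectrum k B Q]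
  haveI : Nonempty (PrimeSpectrum B) := ⟨Q⟩
  have h1 : Order.krullDim (PrimeSpectrum B) =
      ↑(⨆ a : PrimeSpectrum B, Order.height a + Order.coheight a) :=
    Order.krullDim_eq_iSup_height_add_coheight_of_nonempty
  have h2 : Order.height Q + Order.coheight Q ≤
      ⨆ a : PrimeSpectrum B, Order.height a + Order.coheight a :=
    le_iSup (fun a : PrimeSpectrum B => Order.height a + Order.coheight a) Q
  show _ ≤ Order.krullDim (PrimeSpectrum B)
  rw [h1]
  exact WithBot.coe_le_coe.mpr h2

end dim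

section transfer

/-- A uniform bound on the fibre dimension at all points bounds the local dimension of every
fibre ring at every point. -/
theorem localDim_le_of_topFibreDim_le (R T : Type u) [CommRing R] [CommRing T] [Algebra R T]
    (m : WithBot ℕ∞)
    (hall : ∀ q' : PrimeSpectrum T,
      TopFibreDim.topFibreDim (PrimeSpectrum.comap (algebraMap R T)) q' ≤ m)
    (p' : PrimeSpectrum R) (Q : PrimeSpectrum (p'.asIdeal.Fiber T)) :
    FlatMor.localDim (PrimeSpectrum (p'.asIdeal.Fiber T)) Q ≤ m := by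
  obtain ⟨⟨q', hq'⟩, hx⟩ : ∃ x, x = (PrimeSpectrum.preimageHomeomorphFiber R T p').symm Q :=
    ⟨_, rfl⟩
  have hq'' : PrimeSpectrum.comap (algebraMap R T) q' = p' := hq'
  subst hq''
  have h1 := hall q'
  rw [FibreLocDim.topFibreDim_eq] at h1
  have h2 : PrimeSpectrum.preimageHomeomorphFiber R T
      (PrimeSpectrum.comap (algebraMap R T) q') ⟨q', hq'⟩ = Q := by
    rw [hx, Homeomorph.apply_symm_apply]
  rw [← h2]
  exact h1

/-- A bound on the dimension of a fibre ring bounds the fibre dimension at all points over it. -/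
theorem topFibreDim_le_of_fibre_dim_le (R S : Type u) [CommRing R] [CommRing S] [Algebra R S]
    [Algebra.FiniteType R S] (p' : PrimeSpectrum R) (m : WithBot ℕ∞)
    (hdim : ringKrullDim (p'.asIdeal.Fiber S) ≤ m)
    (q : PrimeSpectrum S) (hq : PrimeSpectrum.comap (algebraMap R S) q = p') :
    TopFibreDim.topFibreDim (PrimeSpectrum.comap (algebraMap R S)) q ≤ m := by
  subst hq
  rw [FibreLocDim.topFibreDim_eq]
  exact (localDim_le_ringKrullDim
    (PrimeSpectrum.comap (algebraMap R S) q).asIdeal.ResidueField _ _).trans hdim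

/-- Fibre dimensions of a localization (up to isomorphism) are fibre dimensions of the ring. -/
theorem topFibreDim_le_of_algEquiv_away (R S T : Type u) [CommRing R] [CommRing S] [CommRing T]
    [Algebra R S] [Algebra R T] (g : S) (e : Localization.Away g ≃ₐ[R] T) (m : WithBot ℕ∞)
    (hU : ∀ q : PrimeSpectrum S, g ∉ q.asIdeal →
      TopFibreDim.topFibreDim (PrimeSpectrum.comap (algebraMap R S)) q ≤ m)
    (q' : PrimeSpectrum T) :
    TopFibreDim.topFibreDim (PrimeSpectrum.comap (algebraMap R T)) q' ≤ m := by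
  let ψ : S →+* T := (e : Localization.Away g →+* T).comp (algebraMap S (Localization.Away g))
  letI : Algebra S T := ψ.toAlgebra
  let e' : Localization.Away g ≃ₐ[S] T :=
    AlgEquiv.ofRingEquiv (f := e.toRingEquiv) (fun x => rfl)
  haveI : IsLocalization.Away g T :=
    IsLocalization.isLocalization_of_algEquiv (Submonoid.powers g) e'
  have hj : Topology.IsOpenEmbedding (PrimeSpectrum.comap (algebraMap S T)) :=
    PrimeSpectrum.localization_away_isOpenEmbedding T g
  have hcomp : (algebraMap S T).comp (algebraMap R S) = algebraMap R T := by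
    ext a
    show e (algebraMap S (Localization.Away g) (algebraMap R S a)) = algebraMap R T a
    rw [← IsScalarTower.algebraMap_apply R S (Localization.Away g), e.commutes]
  have hfj : (PrimeSpectrum.comap (algebraMap R S)) ∘ (PrimeSpectrum.comap (algebraMap S T)) =
      PrimeSpectrum.comap (algebraMap R T) := by
    funext x
    rw [Function.comp_apply, ← PrimeSpectrum.comap_comp_apply, hcomp]
  rw [← TopFibreDim.topFibreDim_congr hfj q',
    TopFibreDim.topFibreDim_comp_isOpenEmbedding _ _ hj q']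
  apply hU
  intro hmem
  have h1 : algebraMap S T g ∈ q'.asIdeal := hmem
  exact q'.isPrime.ne_top
    (Ideal.eq_top_of_isUnit_mem _ h1 (IsLocalization.Away.algebraMap_isUnit g))

end transfer

section main

theorem exists_mem_minimalPrimes (B : Type u) [CommRing B] [Nontrivial B] :
    ∃ P : Ideal B, P ∈ minimalPrimes B := by
  have hne : (⊥ : Ideal B) ≠ ⊤ := bot_ne_top
  obtain ⟨⟨P, hP⟩⟩ := Ideal.nonempty_minimalPrimes hne
  exact ⟨P, hP⟩

/-- If all points of `D(g)` have fibre dimension at most `n - c`, then any presentation of `S_g`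
with `N - K = n - c` is a relative global complete intersection. -/
theorem isRelGCI_of_algEquiv_away (R : Type u) [CommRing R] (n c N K : ℕ) (hKN : K ≤ N)
    (hNK : N - K = n - c) (F : Fin c → MvPolynomial (Fin n) R)
    (G : Fin K → MvPolynomial (Fin N) R)
    (g : RelGCIRing R n c F) (e : Localization.Away g ≃ₐ[R] RelGCIRing R N K G)
    (hU : ∀ q : PrimeSpectrum (RelGCIRing R n c F), g ∉ q.asIdeal →
      TopFibreDim.topFibreDim (PrimeSpectrum.comap (algebraMap R (RelGCIRing R n c F))) q ≤
        ((n - c : ℕ) : WithBot ℕ∞)) :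
    IsRelGCI R N K G := by
  have hall : ∀ q' : PrimeSpectrum (RelGCIRing R N K G),
      TopFibreDim.topFibreDim (PrimeSpectrum.comap (algebraMap R (RelGCIRing R N K G))) q' ≤
        ((n - c : ℕ) : WithBot ℕ∞) :=
    topFibreDim_le_of_algEquiv_away R (RelGCIRing R n c F) (RelGCIRing R N K G) g e _ hU
  intro p' hnt
  refine ⟨hKN, ?_⟩
  rw [hNK]
  apply le_antisymm
  · refine DimFT2.ringKrullDim_le_of_minimalPrimes
      (B := p'.asIdeal.Fiber (RelGCIRing R N K G)) _ (fun P hP hPp => ?_)
    exact (dim_quot_le_localDim p'.asIdeal.ResidueField _ ⟨P, hPp⟩).trans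
      (localDim_le_of_topFibreDim_le R _ _ hall p' ⟨P, hPp⟩)
  · obtain ⟨P, hP⟩ := exists_mem_minimalPrimes (p'.asIdeal.Fiber (RelGCIRing R N K G))
    have h1 := fibre_dim_quot_ge R N K G p'.asIdeal.ResidueField AlgEquiv.refl P hP
    rw [hNK] at h1
    exact h1.trans (ringKrullDim_quotient_le P)

/-- An ideal meeting no point of the fibre over `p` contains an element which becomes a unit
in the fibre ring. -/
theorem exists_unit_mem (R S : Type u) [CommRing R] [CommRing S] [Algebra R S] (p : Ideal R)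
    [p.IsPrime] (J : Ideal S)
    (hJ : ∀ q : PrimeSpectrum S,
      PrimeSpectrum.comap (algebraMap R S) q = ⟨p, inferInstance⟩ → ¬ J ≤ q.asIdeal) :
    ∃ g ∈ J, IsUnit ((1 : p.ResidueField) ⊗ₜ[R] g : p.Fiber S) := by
  have h1p : (1 : R) ∉ p := (Ideal.ne_top_iff_one p).mp (Ideal.IsPrime.ne_top inferInstance)
  let ι : S →ₐ[R] p.Fiber S := Algebra.TensorProduct.includeRight
  have htop : J.map ι.toRingHom = ⊤ := by
    by_contra hne
    obtain ⟨M, hM, hle⟩ := Ideal.exists_le_maximal _ hne
    haveI := hM.isPrime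
    let Q : PrimeSpectrum (p.Fiber S) := ⟨M, inferInstance⟩
    let x := (PrimeSpectrum.preimageHomeomorphFiber R S ⟨p, inferInstance⟩).symm Q
    have hx2 : PrimeSpectrum.comap (algebraMap R S) x.1 = ⟨p, inferInstance⟩ := x.2
    apply hJ x.1 hx2
    intro j hj
    show ι.toRingHom j ∈ M
    exact hle (Ideal.mem_map_of_mem _ hj)
  have key : ∀ x ∈ J.map ι.toRingHom,
      ∃ r ∉ p, ∃ j ∈ J, r • x = (1 : p.ResidueField) ⊗ₜ[R] j := by
    intro x hx
    change x ∈ Submodule.span (p.Fiber S) (ι.toRingHom '' (J : Set S)) at hx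
    induction hx using Submodule.span_induction with
    | mem x hx =>
      obtain ⟨j, hj, rfl⟩ := hx
      exact ⟨1, h1p, j, hj, by rw [one_smul]; rfl⟩
    | zero => exact ⟨1, h1p, 0, J.zero_mem, by rw [smul_zero, TensorProduct.tmul_zero]⟩
    | add x y _ _ hx hy =>
      obtain ⟨r₁, hr₁, j₁, hj₁, e₁⟩ := hx
      obtain ⟨r₂, hr₂, j₂, hj₂, e₂⟩ := hy
      refine ⟨r₁ * r₂, fun h => (Ideal.IsPrime.mem_or_mem inferInstance h).elim hr₁ hr₂,
        r₂ • j₁ + r₁ • j₂,
        J.add_mem (Submodule.smul_of_tower_mem J r₂ hj₁) (Submodule.smul_of_tower_mem J r₁ hj₂),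
        ?_⟩
      have h1 : (r₁ * r₂) • x = (1 : p.ResidueField) ⊗ₜ[R] (r₂ • j₁) := by
        rw [mul_comm, mul_smul, e₁, ← TensorProduct.tmul_smul]
      have h2 : (r₁ * r₂) • y = (1 : p.ResidueField) ⊗ₜ[R] (r₁ • j₂) := by
        rw [mul_smul, e₂, ← TensorProduct.tmul_smul]
      rw [smul_add, h1, h2, ← TensorProduct.tmul_add]
    | smul b x _ hx =>
      obtain ⟨r, hr, j, hj, e⟩ := hx
      obtain ⟨r', hr', s, e'⟩ := Ideal.Fiber.exists_smul_eq_one_tmul (p := p) b
      refine ⟨r' * r, fun h => (Ideal.IsPrime.mem_or_mem inferInstance h).elim hr' hr,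
        s * j, J.mul_mem_left s hj, ?_⟩
      rw [smul_eq_mul, ← smul_mul_smul_comm, e', e, Algebra.TensorProduct.tmul_mul_tmul, one_mul]
  obtain ⟨r, hr, g, hg, e1⟩ := key 1 (by rw [htop]; trivial)
  refine ⟨g, hg, ?_⟩
  rw [← e1]
  have h1 : IsUnit (algebraMap R p.ResidueField r) :=
    IsUnit.mk0 _ (by rwa [Ne, Ideal.algebraMap_residueField_eq_zero])
  have h2 : IsUnit (algebraMap p.ResidueField (p.Fiber S) (algebraMap R p.ResidueField r)) :=
    h1.map _
  rw [← IsScalarTower.algebraMap_apply, Algebra.algebraMap_eq_smul_one] at h2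
  exact h2

theorem main9173 (R : Type u) [CommRing R] (n c : ℕ) (F : Fin c → MvPolynomial (Fin n) R)
    (p : Ideal R) [p.IsPrime]
    (hp : c ≤ n ∧ ringKrullDim (p.Fiber (RelGCIRing R n c F)) = ((n - c : ℕ) : WithBot ℕ∞)) :
    ∃ h : MvPolynomial (Fin n) R,
      IsUnit ((1 : p.ResidueField) ⊗ₜ[R] (Ideal.Quotient.mk (Ideal.span (Set.range F)) h) :
        p.Fiber (RelGCIRing R n c F)) ∧
      IsRelGCI R (n + 1) (c + 1)
        (Fin.snoc (fun i => rename Fin.castSucc (F i))
          (rename Fin.castSucc h * X (Fin.last n) - 1)) ∧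
      Nonempty (Localization.Away (Ideal.Quotient.mk (Ideal.span (Set.range F)) h) ≃ₐ[R]
        RelGCIRing R (n + 1) (c + 1)
          (Fin.snoc (fun i => rename Fin.castSucc (F i))
            (rename Fin.castSucc h * X (Fin.last n) - 1))) := by
  have hUopen := FibreLocDim.isOpen_set R (RelGCIRing R n c F) (n - c)
  obtain ⟨J, hJ⟩ := (PrimeSpectrum.isClosed_iff_zeroLocus_ideal _).mp hUopen.isClosed_compl
  obtain ⟨g, hgJ, hgu⟩ := exists_unit_mem R (RelGCIRing R n c F) p J (fun q hq hle => by
    have h1 : q ∈ PrimeSpectrum.zeroLocus (J : Set (RelGCIRing R n c F)) := hle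
    rw [← hJ] at h1
    exact h1 (topFibreDim_le_of_fibre_dim_le R (RelGCIRing R n c F) ⟨p, inferInstance⟩ _
      hp.2.le q hq))
  obtain ⟨h, rfl⟩ := Ideal.Quotient.mk_surjective g
  obtain ⟨e⟩ := exists_awayEquiv n c F h
  refine ⟨h, hgu, ?_, ⟨e⟩⟩
  refine isRelGCI_of_algEquiv_away R n c (n + 1) (c + 1) (by omega) (by omega) F _ _ e
    (fun q hq => ?_)
  by_contra hcon
  have h1 : q ∈ PrimeSpectrum.zeroLocus (J : Set (RelGCIRing R n c F)) := by
    rw [← hJ]; exact hcon
  exact hq (h1 hgJ)

end main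

end Groth.Agent.Lib.Helper24.RelGCIAway
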