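import Mathlib
import Groth.Prelude.Def_RegImm
import Groth.Agent.Lib.Helper4.Unmixed2
import Groth.Agent.Lib.Helper12.DimFT2
import Groth.Agent.Lib.Helper22.QRegNoeth
import Groth.Agent.Lib.Helper22.KoszRegQuot
import Groth.Agent.Lib.Helper1.KRegIdeal9
import Groth.Agent.Lib.Helper6.LciCM
import Groth.Agent.Lib.Helper24.RelGCIAway
import Groth.Agent.Lib.Helper24.LocCI

/-!
# Local characterisations of complete intersections over a field (helper24)

For `S = k[x_1..x_n]/I`, `q` a prime of `S`, `q'` its preimage and `c = ht q' - ht q`: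
`S_g` is a global complete intersection for some `g ∉ q` iff `I k[x]_{q'}` is generated by `c`
elements iff it is generated by a regular sequence.
-/

set_option autoImplicit false
set_option maxHeartbeats 400000
set_option linter.style.haveILetI false
set_option linter.unusedSectionVars false
universe u

open RingTheory.Sequence MvPolynomial IsLocalRing

namespace Groth.Agent.Lib.Helper24.CIGen

open Groth.Agent.Lib.Helper12 Groth.Agent.Lib.Helper1 Groth.Agent.Lib.Helper4

section general

/-- A regular sequence has no repeated elements. -/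
theorem nodup_of_isRegular {A : Type*} [CommRing A] (rs : List A) (h : IsRegular A rs) :
    rs.Nodup := by
  have key : ∀ i j : Fin rs.length, i < j → rs.get i = rs.get j → False := by
    intro i j hlt hij
    have hreg : IsSMulRegular (A ⧸ (Ideal.ofList (rs.take j) • ⊤ : Submodule A A)) rs[j] :=
      h.toIsWeaklyRegular.regular_mod_prev j j.2
    have hlen : (i : ℕ) < (rs.take j).length := by
      rw [List.length_take]
      exact lt_min hlt i.2
    have hmemi : rs.get i ∈ rs.take j := by
      have := List.getElem_mem hlen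
      rw [List.getElem_take] at this
      rw [List.get_eq_getElem]
      exact this
    have hmem : rs[j] ∈ (Ideal.ofList (rs.take j) • ⊤ : Submodule A A) := by
      rw [smul_eq_mul, Ideal.mul_top]
      have h1 : rs[j] = rs.get i := hij.symm
      rw [h1]
      exact Ideal.subset_span hmemi
    have h0 : rs[j] • (Submodule.Quotient.mk (1 : A) :
        A ⧸ (Ideal.ofList (rs.take j) • ⊤ : Submodule A A)) = rs[j] • 0 := by
      rw [smul_zero, ← Submodule.Quotient.mk_smul]
      refine (Submodule.Quotient.mk_eq_zero _).mpr ?_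
      have h5 : rs[j] • (1 : A) = rs[j] := by rw [smul_eq_mul, mul_one]
      rw [h5]
      exact hmem
    have h1 := hreg h0
    have h2 : (1 : A) ∈ (Ideal.ofList (rs.take j) • ⊤ : Submodule A A) :=
      (Submodule.Quotient.mk_eq_zero _).mp h1
    apply h.top_ne_smul
    symm
    rw [eq_top_iff]
    intro x _
    rw [smul_eq_mul, Ideal.mul_top] at h2 ⊢
    have h3 : (1 : A) ∈ Ideal.ofList rs :=
      Ideal.span_mono (fun y hy => List.mem_of_mem_take hy) h2
    have := Ideal.mul_mem_left _ x h3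
    rwa [mul_one] at this
  rw [List.nodup_iff_injective_get]
  intro i j hij
  by_contra hne
  rcases lt_or_gt_of_ne hne with hlt | hlt
  · exact key i j hlt hij
  · exact key j i hlt hij.symm

/-- `dim (B_Q / I B_Q) = ht (Q / I)`. -/
theorem ringKrullDim_locQuot {B : Type*} [CommRing B] (I Q : Ideal B) [Q.IsPrime] (hIQ : I ≤ Q) :
    ringKrullDim (Localization.AtPrime Q ⧸ I.map (algebraMap B (Localization.AtPrime Q))) =
      ((Q.map (Ideal.Quotient.mk I)).height : WithBot ℕ∞) := by
  have hsurj : Function.Surjective (Ideal.Quotient.mk I) := Ideal.Quotient.mk_surjective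
  haveI hQ' : (Q.map (Ideal.Quotient.mk I)).IsPrime :=
    Ideal.map_isPrime_of_surjective hsurj (by rwa [Ideal.mk_ker])
  have hcomap : (Q.map (Ideal.Quotient.mk I)).comap (Ideal.Quotient.mk I) = Q := by
    rw [Ideal.comap_map_of_surjective _ hsurj, ← RingHom.ker_eq_comap_bot, Ideal.mk_ker,
      sup_eq_left.mpr hIQ]
  have hsub : Algebra.algebraMapSubmonoid (B ⧸ I) Q.primeCompl =
      (Q.map (Ideal.Quotient.mk I)).primeCompl := by
    ext x
    constructor
    · rintro ⟨y, hy, rfl⟩
      intro hmem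
      apply hy
      have : y ∈ (Q.map (Ideal.Quotient.mk I)).comap (Ideal.Quotient.mk I) := hmem
      rwa [hcomap] at this
    · intro hx
      obtain ⟨y, rfl⟩ := hsurj x
      refine ⟨y, ?_, rfl⟩
      intro hy
      exact hx (Ideal.mem_map_of_mem _ hy)
  haveI : IsLocalization.AtPrime
      (Localization.AtPrime Q ⧸ I.map (algebraMap B (Localization.AtPrime Q)))
      (Q.map (Ideal.Quotient.mk I)) := by
    rw [IsLocalization.AtPrime, ← hsub]
    infer_instance
  exact IsLocalization.AtPrime.ringKrullDim_eq_height (Q.map (Ideal.Quotient.mk I))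
    (Localization.AtPrime Q ⧸ I.map (algebraMap B (Localization.AtPrime Q)))

theorem map_le_maximalIdeal {B : Type*} [CommRing B] (I Q : Ideal B) [Q.IsPrime] (hIQ : I ≤ Q) :
    I.map (algebraMap B (Localization.AtPrime Q)) ≤ maximalIdeal (Localization.AtPrime Q) := by
  rw [← IsLocalization.AtPrime.map_eq_maximalIdeal Q (Localization.AtPrime Q)]
  exact Ideal.map_mono hIQ

theorem isRegular_of_weak {B : Type*} [CommRing B] (I Q : Ideal B) [Q.IsPrime] (hIQ : I ≤ Q)
    (rs : List (Localization.AtPrime Q)) (h : IsWeaklyRegular (Localization.AtPrime Q) rs)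
    (hrs : Ideal.ofList rs = I.map (algebraMap B (Localization.AtPrime Q))) :
    IsRegular (Localization.AtPrime Q) rs := by
  refine ⟨h, ?_⟩
  intro htop
  rw [smul_eq_mul, Ideal.mul_top, hrs] at htop
  have h1 := map_le_maximalIdeal I Q hIQ
  rw [← htop] at h1
  exact (IsLocalRing.maximalIdeal.isMaximal _).ne_top (top_le_iff.mp h1)

/-- A Koszul-regular sequence in the maximal ideal of a Noetherian local ring is regular. -/
theorem isWeaklyRegular_of_koszul {A : Type u} [CommRing A] [IsNoetherianRing A] [IsLocalRing A]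
    (rs : List A) (h1 : LCI.IsKoszulRegularSeq A rs) (hm : ∀ r ∈ rs, r ∈ maximalIdeal A) :
    IsWeaklyRegular A rs := by
  have h2 : CAlgX.IsH1Regular rs.get := fun a ha =>
    H10KL.h1_of_isZero_homology A rs (h1 (-1) (by norm_num)) a ha
  have h3 := Groth.Agent.Lib.Helper14.H1Reg.qr_of_h1 rs.get h2
  have hjac : ∀ i, rs.get i ∈ Ring.jacobson A := by
    intro i
    rw [IsLocalRing.ringJacobson_eq_maximalIdeal]
    exact hm _ (List.get_mem rs i)
  have hreg := Groth.Agent.Lib.Helper14.QuasiRegReg.isWeaklyRegular_of_qr _ hjac h3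
  rwa [List.ofFn_get] at hreg

/-- (5) ⇒ (2). -/
theorem card_of_regular {P : Type u} [CommRing P] [IsNoetherianRing P] (I Q : Ideal P) [Q.IsPrime]
    (hIQ : I ≤ Q) (c : ℕ)
    (hc : (c : ℕ∞) + (Q.map (Ideal.Quotient.mk I)).height = Q.height)
    (rs : List (Localization.AtPrime Q)) (hreg : IsRegular (Localization.AtPrime Q) rs)
    (hrs : Ideal.ofList rs = I.map (algebraMap P (Localization.AtPrime Q))) :
    ∃ s : Finset (Localization.AtPrime Q), s.card = c ∧
      Ideal.span (s : Set (Localization.AtPrime Q)) =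
        I.map (algebraMap P (Localization.AtPrime Q)) := by
  classical
  haveI : IsNoetherianRing (Localization.AtPrime Q) :=
    IsLocalization.isNoetherianRing Q.primeCompl _ inferInstance
  have hnd := nodup_of_isRegular rs hreg
  have hlen := ringKrullDim_add_length_eq_ringKrullDim_of_isRegular rs hreg
  rw [ringKrullDim_eq_of_ringEquiv (Ideal.quotEquivOfEq hrs), ringKrullDim_locQuot I Q hIQ,
    IsLocalization.AtPrime.ringKrullDim_eq_height Q (Localization.AtPrime Q)] at hlen
  have hQfin : Q.height ≠ ⊤ := Ideal.height_ne_top (Ideal.IsPrime.ne_top inferInstance)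
  obtain ⟨a, ha⟩ := ENat.ne_top_iff_exists.mp hQfin
  have hle : (Q.map (Ideal.Quotient.mk I)).height ≤ Q.height := by
    rw [← hc]; exact le_add_self
  obtain ⟨b, hb⟩ := ENat.ne_top_iff_exists.mp (ne_top_of_le_ne_top hQfin hle)
  rw [← ha, ← hb] at hlen hc
  have h1 : b + rs.length = a := by exact_mod_cast hlen
  have h2 : c + b = a := by exact_mod_cast hc
  have h3 : rs.length = c := by omega
  refine ⟨rs.toFinset, ?_, ?_⟩
  · rw [List.toFinset_card_of_nodup hnd, h3]
  · rw [← hrs, Ideal.ofList, List.coe_toFinset]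

/-- From a Koszul-regular presentation near `Q` to a regular sequence in the local ring. -/
theorem exists_regular_of_near {P : Type u} [CommRing P] [IsNoetherianRing P] (I Q : Ideal P)
    [Q.IsPrime] (hIQ : I ≤ Q) (G : P) (hG : G ∉ Q) (N : ℕ) (h : KRegIdeal.IsKRegNear I G N) :
    ∃ rs : List (Localization.AtPrime Q), IsRegular (Localization.AtPrime Q) rs ∧
      Ideal.ofList rs = I.map (algebraMap P (Localization.AtPrime Q)) := by
  haveI : IsNoetherianRing (Localization.AtPrime Q) :=
    IsLocalization.isNoetherianRing Q.primeCompl _ inferInstance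
  obtain ⟨l, -, hl, hK⟩ := h.forall_loc (Localization.Away G)
  have hunit : IsUnit (algebraMap P (Localization.AtPrime Q) G) :=
    IsLocalization.map_units (Localization.AtPrime Q) (⟨G, hG⟩ : Q.primeCompl)
  let ψ : Localization.Away G →+* Localization.AtPrime Q := IsLocalization.Away.lift G hunit
  letI : Algebra (Localization.Away G) (Localization.AtPrime Q) := ψ.toAlgebra
  haveI : IsScalarTower P (Localization.Away G) (Localization.AtPrime Q) :=
    IsScalarTower.of_algebraMap_eq (fun a => (IsLocalization.Away.lift_eq G hunit a).symm)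
  have hle : Submonoid.powers G ≤ Q.primeCompl := Submonoid.powers_le.mpr hG
  haveI : IsLocalization (Q.primeCompl.map (algebraMap P (Localization.Away G)))
      (Localization.AtPrime Q) :=
    IsLocalization.isLocalization_of_submonoid_le (Localization.Away G) (Localization.AtPrime Q)
      (Submonoid.powers G) Q.primeCompl hle
  haveI : Module.Flat (Localization.Away G) (Localization.AtPrime Q) :=
    IsLocalization.flat (Localization.AtPrime Q)
      (Q.primeCompl.map (algebraMap P (Localization.Away G)))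
  have hl' := KoszulConcat.isKoszulRegularSeq_map_of_flat (B := Localization.AtPrime Q) l hl
  have hmap : Ideal.ofList (l.map (algebraMap (Localization.Away G) (Localization.AtPrime Q))) =
      I.map (algebraMap P (Localization.AtPrime Q)) := by
    rw [RegComp.ofList_map, ← hK, Ideal.map_map, ← IsScalarTower.algebraMap_eq]
  refine ⟨_, isRegular_of_weak I Q hIQ _ ?_ hmap, hmap⟩
  apply isWeaklyRegular_of_koszul _ hl'
  intro r hr
  apply map_le_maximalIdeal I Q hIQ
  rw [← hmap]
  exact Ideal.subset_span hr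

theorem nontrivial_away {S : Type*} [CommRing S] (q : Ideal S) [q.IsPrime] (g : S) (hg : g ∉ q) :
    Nontrivial (Localization.Away g) := by
  by_contra hn
  rw [not_nontrivial_iff_subsingleton] at hn
  have h0 : algebraMap S (Localization.Away g) 1 = 0 := Subsingleton.elim _ _
  rw [IsLocalization.map_eq_zero_iff (Submonoid.powers g)] at h0
  obtain ⟨⟨_, j, rfl⟩, hm⟩ := h0
  have hm' : g ^ j = 0 := by simpa using hm
  apply hg
  apply Ideal.IsPrime.mem_of_pow_mem inferInstance j
  rw [hm']
  exact q.zero_mem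

/-- A global complete intersection over a field is a local complete intersection in the
Koszul sense. -/
theorem isLCI_of_isGlobalCI (k T : Type u) [Field k] [CommRing T] [Algebra k T] [Nontrivial T]
    (h : Synt.IsGlobalCI k T) : LCI.IsLCI k T := by
  rcases h with hsub | ⟨m, d, hdm, φ, r, hsurj, hker, hdim⟩
  · exact absurd hsub (not_subsingleton T)
  have hft : Algebra.FiniteType k T := Algebra.FiniteType.of_surjective φ hsurj
  refine ⟨hft, m, φ, hsurj, ?_⟩
  rw [hker]
  have e : (MvPolynomial (Fin m) k ⧸ Ideal.span (Set.range r)) ≃+* T :=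
    (Ideal.quotEquivOfEq hker.symm).trans
      (RingHom.quotientKerEquivOfSurjective (f := φ.toRingHom) hsurj)
  have hdim' : ringKrullDim (MvPolynomial (Fin m) k ⧸ Ideal.span (Set.range r)) =
      ((m - d : ℕ) : WithBot ℕ∞) := by
    rw [ringKrullDim_eq_of_ringEquiv e]
    exact hdim
  have hJ := Groth.Agent.Lib.Helper6.LciCM.height_eq k m d hdm r hdim'
  apply Groth.Agent.Lib.Helper22.KoszRegQuot.isKoszulRegularIdeal_of_local
  intro 𝔭 _ hJP
  have hI : Ideal.ofList (List.ofFn (fun i => algebraMap _ (Localization.AtPrime 𝔭) (r i))) =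
      (Ideal.span (Set.range r)).map (algebraMap _ (Localization.AtPrime 𝔭)) := by
    apply le_antisymm
    · change Ideal.span {x | x ∈ List.ofFn _} ≤ _
      apply Ideal.span_le.2
      intro x hx
      have hx' : x ∈ List.ofFn (fun i => algebraMap _ (Localization.AtPrime 𝔭) (r i)) := hx
      rw [List.mem_ofFn] at hx'
      obtain ⟨i, rfl⟩ := hx'
      exact Ideal.mem_map_of_mem _ (Ideal.subset_span ⟨i, rfl⟩)
    · apply Ideal.map_le_iff_le_comap.2
      apply Ideal.span_le.2
      rintro _ ⟨i, rfl⟩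
      change algebraMap _ (Localization.AtPrime 𝔭) (r i) ∈ Ideal.span {x | x ∈ List.ofFn _}
      apply Ideal.subset_span
      change _ ∈ List.ofFn _
      rw [List.mem_ofFn]
      exact ⟨i, rfl⟩
  have hxs : ∀ x ∈ List.ofFn (fun i => algebraMap _ (Localization.AtPrime 𝔭) (r i)),
      x ∈ maximalIdeal (Localization.AtPrime 𝔭) := by
    intro x hx
    rw [List.mem_ofFn] at hx
    obtain ⟨i, rfl⟩ := hx
    exact (IsLocalization.AtPrime.to_map_mem_maximal_iff (Localization.AtPrime 𝔭) 𝔭 (r i)).mpr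
      (hJP (Ideal.subset_span ⟨i, rfl⟩))
  have hlen : (List.ofFn (fun i => algebraMap _ (Localization.AtPrime 𝔭) (r i))).length = d :=
    List.length_ofFn
  have hh : (((List.ofFn (fun i => algebraMap _ (Localization.AtPrime 𝔭) (r i))).length : ℕ) : ℕ∞) ≤
      (Ideal.ofList (List.ofFn (fun i => algebraMap _ (Localization.AtPrime 𝔭) (r i)))).height := by
    rw [hI, hlen, ← IsLocalization.height_under 𝔭.primeCompl, ← hJ]
    exact Ideal.height_mono Ideal.le_comap_map
  obtain ⟨hreg, -, -⟩ := Unmixed.unmixed_local (Localization.AtPrime 𝔭) _ hxs hh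
  exact ⟨_, hreg, hI.symm⟩

end general

section general2

/-- Lift generators of `I P_Q` to `P`, and clear denominators. -/
theorem exists_gens {P : Type u} [CommRing P] [IsNoetherianRing P] (I Q : Ideal P) [Q.IsPrime]
    (c : ℕ) (s : Finset (Localization.AtPrime Q)) (hs : s.card = c)
    (hspan : Ideal.span (s : Set (Localization.AtPrime Q)) =
      I.map (algebraMap P (Localization.AtPrime Q))) :
    ∃ F : Fin c → P, (∀ i, F i ∈ I) ∧ ∃ G₀ : P, G₀ ∉ Q ∧
      ∀ x ∈ I, G₀ * x ∈ Ideal.span (Set.range F) := by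
  classical
  have hlift : ∀ x : Localization.AtPrime Q, x ∈ s → ∃ f : P, f ∈ I ∧ ∃ u : P, u ∉ Q ∧
      x * algebraMap P (Localization.AtPrime Q) u = algebraMap P (Localization.AtPrime Q) f := by
    intro x hx
    have hxJ : x ∈ I.map (algebraMap P (Localization.AtPrime Q)) := by
      rw [← hspan]
      exact Ideal.subset_span hx
    obtain ⟨⟨⟨f, hf⟩, ⟨u, hu⟩⟩, h⟩ :=
      (IsLocalization.mem_map_algebraMap_iff Q.primeCompl (Localization.AtPrime Q)).mp hxJ
    exact ⟨f, hf, u, Ideal.mem_primeCompl_iff.mp hu, h⟩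
  choose! f hfI u huQ hfu using hlift
  let e : Fin c ≃ s := (s.equivFinOfCardEq hs).symm
  let F : Fin c → P := fun i => f (e i)
  have hFI : ∀ i, F i ∈ I := fun i => hfI _ (e i).2
  have hA : I.map (algebraMap P (Localization.AtPrime Q)) ≤
      (Ideal.span (Set.range F)).map (algebraMap P (Localization.AtPrime Q)) := by
    rw [← hspan, Ideal.span_le]
    intro x hx
    have hx' : x ∈ s := hx
    have hunit : IsUnit (algebraMap P (Localization.AtPrime Q) (u x)) :=
      IsLocalization.map_units (Localization.AtPrime Q) (⟨u x, huQ x hx'⟩ : Q.primeCompl)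
    have hmem : algebraMap P (Localization.AtPrime Q) (f x) ∈
        (Ideal.span (Set.range F)).map (algebraMap P (Localization.AtPrime Q)) := by
      apply Ideal.mem_map_of_mem
      apply Ideal.subset_span
      refine ⟨e.symm ⟨x, hx'⟩, ?_⟩
      show f (e (e.symm ⟨x, hx'⟩)) = f x
      rw [Equiv.apply_symm_apply]
    rw [← hfu x hx'] at hmem
    exact (Ideal.mul_unit_mem_iff_mem _ hunit).mp hmem
  have hB : ∀ b : P, b ∈ I → ∃ w : P, w ∉ Q ∧ w * b ∈ Ideal.span (Set.range F) := by
    intro b hb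
    have h1 : algebraMap P (Localization.AtPrime Q) b ∈
        (Ideal.span (Set.range F)).map (algebraMap P (Localization.AtPrime Q)) :=
      hA (Ideal.mem_map_of_mem _ hb)
    obtain ⟨⟨⟨y, hy⟩, ⟨v, hv⟩⟩, h⟩ :=
      (IsLocalization.mem_map_algebraMap_iff Q.primeCompl (Localization.AtPrime Q)).mp h1
    have h' : algebraMap P (Localization.AtPrime Q) (b * v) =
        algebraMap P (Localization.AtPrime Q) y := by
      rw [map_mul]
      exact h
    obtain ⟨⟨w, hw⟩, hwe⟩ :=
      (IsLocalization.eq_iff_exists Q.primeCompl (Localization.AtPrime Q)).mp h'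
    have hwe' : w * (b * v) = w * y := hwe
    refine ⟨w * v, ?_, ?_⟩
    · intro hmem
      rcases Ideal.IsPrime.mem_or_mem inferInstance hmem with h2 | h2
      · exact Ideal.mem_primeCompl_iff.mp hw h2
      · exact Ideal.mem_primeCompl_iff.mp hv h2
    · have h3 : w * v * b = w * y := by
        rw [← hwe']
        ring
      rw [h3]
      exact Ideal.mul_mem_left _ _ hy
  choose! w hwQ hwF using hB
  obtain ⟨t, ht⟩ : ∃ t : Finset P, Submodule.span P (t : Set P) = I := IsNoetherian.noetherian I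
  have htI : ∀ b ∈ t, b ∈ I := by
    intro b hb
    rw [← ht]
    exact Submodule.subset_span hb
  refine ⟨F, hFI, ∏ b ∈ t, w b, ?_, ?_⟩
  · rw [Ideal.IsPrime.prod_mem_iff]
    rintro ⟨b, hb, hmem⟩
    exact hwQ b (htI b hb) hmem
  · intro x hx
    rw [← ht] at hx
    refine Submodule.span_induction
      (p := fun x _ => (∏ b ∈ t, w b) * x ∈ Ideal.span (Set.range F)) ?_ ?_ ?_ ?_ hx
    · intro b hb
      obtain ⟨z, hz⟩ := Finset.dvd_prod_of_mem w hb
      rw [hz, mul_comm (w b) z, mul_assoc]
      exact Ideal.mul_mem_left _ _ (hwF b (htI b hb))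
    · rw [mul_zero]
      exact Ideal.zero_mem _
    · intro x y _ _ hx hy
      rw [mul_add]
      exact Ideal.add_mem _ hx hy
    · intro a x _ hx
      rw [smul_eq_mul, mul_left_comm]
      exact Ideal.mul_mem_left _ _ hx

/-- An element outside `q` lying in all minimal primes not contained in `q`. -/
theorem exists_avoid {S : Type*} [CommRing S] [IsNoetherianRing S] (q : Ideal S) [q.IsPrime] :
    ∃ g₁ : S, g₁ ∉ q ∧ ∀ P₀ ∈ minimalPrimes S, ¬ P₀ ≤ q → g₁ ∈ P₀ := by
  classical
  have hfin : (minimalPrimes S).Finite := minimalPrimes.finite_of_isNoetherianRing S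
  have hex : ∀ P₀ : Ideal S, ¬ P₀ ≤ q → ∃ a : S, a ∈ P₀ ∧ a ∉ q :=
    fun P₀ h => SetLike.not_le_iff_exists.mp h
  choose! a ha1 ha2 using hex
  refine ⟨∏ P₀ ∈ hfin.toFinset.filter (fun P₀ => ¬ P₀ ≤ q), a P₀, ?_, ?_⟩
  · rw [Ideal.IsPrime.prod_mem_iff]
    rintro ⟨P₀, hP₀, hmem⟩
    rw [Finset.mem_filter] at hP₀
    exact ha2 P₀ hP₀.2 hmem
  · intro P₀ hP₀ hle
    have hmem : P₀ ∈ hfin.toFinset.filter (fun P₀ => ¬ P₀ ≤ q) := by
      rw [Finset.mem_filter, Set.Finite.mem_toFinset]
      exact ⟨hP₀, hle⟩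
    obtain ⟨z, hz⟩ := Finset.dvd_prod_of_mem a hmem
    rw [hz]
    exact Ideal.mul_mem_right _ _ (ha1 P₀ hle)

theorem span_snoc_le {R : Type*} [CommRing R] {a b : ℕ} (u : Fin a → R) (v : Fin b → R) (E : R)
    (h1 : ∀ i, u i ∈ Ideal.span (Set.range (Fin.snoc v E : Fin (b + 1) → R))) :
    Ideal.span (Set.range (Fin.snoc u E : Fin (a + 1) → R)) ≤
      Ideal.span (Set.range (Fin.snoc v E : Fin (b + 1) → R)) := by
  rw [Ideal.span_le]
  rintro _ ⟨j, rfl⟩
  refine Fin.lastCases ?_ (fun i => ?_) j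
  · rw [Fin.snoc_last]
    exact Ideal.subset_span ⟨Fin.last b, by rw [Fin.snoc_last]⟩
  · rw [Fin.snoc_castSucc]
    exact h1 i

theorem span_snoc_eq {R : Type*} [CommRing R] {a b : ℕ} (u : Fin a → R) (v : Fin b → R) (E : R)
    (h1 : ∀ i, u i ∈ Ideal.span (Set.range (Fin.snoc v E : Fin (b + 1) → R)))
    (h2 : ∀ j, v j ∈ Ideal.span (Set.range (Fin.snoc u E : Fin (a + 1) → R))) :
    Ideal.span (Set.range (Fin.snoc u E : Fin (a + 1) → R)) =
      Ideal.span (Set.range (Fin.snoc v E : Fin (b + 1) → R)) :=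
  le_antisymm (span_snoc_le u v E h1) (span_snoc_le v u E h2)

theorem coheight_comap_mk {P : Type u} [CommRing P] (I : Ideal P) (q : Ideal (P ⧸ I))
    [q.IsPrime] :
    Order.coheight (⟨q, inferInstance⟩ : PrimeSpectrum (P ⧸ I)) =
      Order.coheight (⟨q.comap (Ideal.Quotient.mk I), inferInstance⟩ : PrimeSpectrum P) := by
  have e : P ⧸ q.comap (Ideal.Quotient.mk I) ≃+* (P ⧸ I) ⧸ q :=
    RingEquiv.ofBijective (Ideal.quotientMap q (Ideal.Quotient.mk I) le_rfl)
      ⟨Ideal.quotientMap_injective, Ideal.quotientMap_surjective Ideal.Quotient.mk_surjective⟩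
  have h1 := DimFT.ringKrullDim_quotient_eq_coheight (⟨q, inferInstance⟩ : PrimeSpectrum (P ⧸ I))
  have h2 := DimFT.ringKrullDim_quotient_eq_coheight
    (⟨q.comap (Ideal.Quotient.mk I), inferInstance⟩ : PrimeSpectrum P)
  have h3 := ringKrullDim_eq_of_ringEquiv e
  have h4 : ((Order.coheight (⟨q, inferInstance⟩ : PrimeSpectrum (P ⧸ I)) : ℕ∞) : WithBot ℕ∞) =
      ((Order.coheight (⟨q.comap (Ideal.Quotient.mk I), inferInstance⟩ : PrimeSpectrum P) : ℕ∞) :
        WithBot ℕ∞) := by
    rw [← h1, ← h2]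
    exact h3.symm
  exact WithBot.coe_injective h4

end general2

section main

variable (k : Type u) [Field k] (n : ℕ) (I : Ideal (MvPolynomial (Fin n) k))
  (q : Ideal (MvPolynomial (Fin n) k ⧸ I)) [q.IsPrime]

theorem le_comap_mk : I ≤ q.comap (Ideal.Quotient.mk I) := by
  intro x hx
  rw [Ideal.mem_comap, Ideal.Quotient.eq_zero_iff_mem.mpr hx]
  exact q.zero_mem

/-- (1) ⇒ (5). -/
theorem h15 (g : MvPolynomial (Fin n) k ⧸ I) (hg : g ∉ q)
    (hci : Synt.IsGlobalCI k (Localization.Away g)) :
    ∃ rs : List (Localization.AtPrime (q.comap (Ideal.Quotient.mk I))),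
      IsRegular (Localization.AtPrime (q.comap (Ideal.Quotient.mk I))) rs ∧
      Ideal.ofList rs =
        I.map (algebraMap _ (Localization.AtPrime (q.comap (Ideal.Quotient.mk I)))) := by
  haveI hnt : Nontrivial (Localization.Away g) := nontrivial_away q g hg
  have hlci := isLCI_of_isGlobalCI k (Localization.Away g) hci
  obtain ⟨G₀, rfl⟩ := Ideal.Quotient.mk_surjective g
  have hIQ := le_comap_mk k n I q
  have hkerα : RingHom.ker (Ideal.Quotient.mkₐ k I).toRingHom = I := by
    ext x
    rw [RingHom.mem_ker]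
    exact Ideal.Quotient.eq_zero_iff_mem
  haveI : IsLocalization.Away ((Ideal.Quotient.mkₐ k I) G₀)
      (Localization.Away (Ideal.Quotient.mk I G₀)) :=
    (inferInstance : IsLocalization.Away (Ideal.Quotient.mk I G₀)
      (Localization.Away (Ideal.Quotient.mk I G₀)))
  obtain ⟨G, hG, N, hnear⟩ := KRegIdeal.exists_isKRegNear_of_isLCI_away k
    (MvPolynomial (Fin n) k ⧸ I) n (Ideal.Quotient.mkₐ k I) Ideal.Quotient.mk_surjective G₀
    (Localization.Away (Ideal.Quotient.mk I G₀)) hlci
    (q.comap (Ideal.Quotient.mk I)) (by rw [hkerα]; exact hIQ) hg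
  rw [hkerα] at hnear
  exact exists_regular_of_near I (q.comap (Ideal.Quotient.mk I)) hIQ G hG N hnear


theorem height_add_coheight_eq (c : ℕ)
    (hc : (c : ℕ∞) + q.height = (q.comap (Ideal.Quotient.mk I)).height) :
    c ≤ n ∧ Order.height (⟨q, inferInstance⟩ : PrimeSpectrum (MvPolynomial (Fin n) k ⧸ I)) +
      Order.coheight (⟨q, inferInstance⟩ : PrimeSpectrum (MvPolynomial (Fin n) k ⧸ I)) =
        ((n - c : ℕ) : ℕ∞) := by
  have h1 := DimFT2.height_add_coheight' k (MvPolynomial (Fin n) k) n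
    (LocCI.ringKrullDim_mvPolynomial k n)
    (⟨q.comap (Ideal.Quotient.mk I), inferInstance⟩ : PrimeSpectrum (MvPolynomial (Fin n) k))
  have h2 : (q.comap (Ideal.Quotient.mk I)).height = Order.height
      (⟨q.comap (Ideal.Quotient.mk I), inferInstance⟩ : PrimeSpectrum (MvPolynomial (Fin n) k)) :=
    PrimeSpectrum.height_eq_orderHeight
      (⟨q.comap (Ideal.Quotient.mk I), inferInstance⟩ : PrimeSpectrum (MvPolynomial (Fin n) k))
  have h3 : q.height = Order.height
      (⟨q, inferInstance⟩ : PrimeSpectrum (MvPolynomial (Fin n) k ⧸ I)) :=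
    PrimeSpectrum.height_eq_orderHeight
      (⟨q, inferInstance⟩ : PrimeSpectrum (MvPolynomial (Fin n) k ⧸ I))
  have h4 := coheight_comap_mk I q
  rw [h2, h3] at hc
  rw [← h4] at h1
  generalize (⟨q, inferInstance⟩ : PrimeSpectrum (MvPolynomial (Fin n) k ⧸ I)) = y at *
  generalize (⟨q.comap (Ideal.Quotient.mk I), inferInstance⟩ :
    PrimeSpectrum (MvPolynomial (Fin n) k)) = y' at *
  have hle1 : Order.height y' ≤ (n : ℕ∞) := by rw [← h1]; exact le_self_add
  have hle2 : Order.coheight y ≤ (n : ℕ∞) := by rw [← h1]; exact le_add_self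
  have hle3 : Order.height y ≤ Order.height y' := by rw [← hc]; exact le_add_self
  obtain ⟨a', ha'⟩ := ENat.ne_top_iff_exists.mp (ne_top_of_le_ne_top (ENat.coe_ne_top n) hle1)
  obtain ⟨b, hb⟩ := ENat.ne_top_iff_exists.mp (ne_top_of_le_ne_top (ENat.coe_ne_top n) hle2)
  obtain ⟨a, ha⟩ := ENat.ne_top_iff_exists.mp
    (ne_top_of_le_ne_top (ENat.coe_ne_top n) (hle3.trans hle1))
  rw [← ha', ← hb] at h1
  rw [← ha', ← ha] at hc
  rw [← ha, ← hb]
  have h1' : a' + b = n := by exact_mod_cast h1
  have hc' : c + a = a' := by exact_mod_cast hc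
  refine ⟨by omega, ?_⟩
  have h5 : a + b = n - c := by omega
  exact_mod_cast h5

theorem dim_away_eq (c : ℕ)
    (hc : (c : ℕ∞) + q.height = (q.comap (Ideal.Quotient.mk I)).height)
    (g : MvPolynomial (Fin n) k ⧸ I) (hgq : g ∉ q)
    (hmin : ∀ P₀ ∈ minimalPrimes (MvPolynomial (Fin n) k ⧸ I), g ∉ P₀ → P₀ ≤ q)
    (hlow : ∀ 𝔓 ∈ minimalPrimes (Localization.Away g),
      ((n - c : ℕ) : WithBot ℕ∞) ≤ ringKrullDim (Localization.Away g ⧸ 𝔓)) :
    ringKrullDim (Localization.Away g) = ((n - c : ℕ) : WithBot ℕ∞) := by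
  haveI : Nontrivial (Localization.Away g) := nontrivial_away q g hgq
  haveI : Algebra.FiniteType k (MvPolynomial (Fin n) k ⧸ I) :=
    Algebra.FiniteType.of_surjective (Ideal.Quotient.mkₐ k I) Ideal.Quotient.mk_surjective
  obtain ⟨hcn, hsum⟩ := height_add_coheight_eq k n I q c hc
  apply le_antisymm
  · refine DimFT2.ringKrullDim_le_of_minimalPrimes (B := Localization.Away g) _
      (fun 𝔓 h𝔓 h𝔓p => ?_)
    haveI := h𝔓p
    obtain ⟨x, hx⟩ : ∃ x : PrimeSpectrum (Localization.Away g), x = ⟨𝔓, h𝔓p⟩ := ⟨_, rfl⟩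
    have hf : StrictMono (PrimeSpectrum.comap
        (algebraMap (MvPolynomial (Fin n) k ⧸ I) (Localization.Away g))) :=
      Monotone.strictMono_of_injective (fun a b hab => Ideal.comap_mono hab)
        (PrimeSpectrum.localization_comap_injective (Localization.Away g) (Submonoid.powers g))
    have h1 : Order.coheight x ≤ Order.coheight (PrimeSpectrum.comap
        (algebraMap (MvPolynomial (Fin n) k ⧸ I) (Localization.Away g)) x) :=
      Order.coheight_le_coheight_apply_of_strictMono _ hf x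
    obtain ⟨P₁, hP₁, hP₁le⟩ := Ideal.exists_minimalPrimes_le
      (I := (⊥ : Ideal (MvPolynomial (Fin n) k ⧸ I)))
      (J := (PrimeSpectrum.comap
        (algebraMap (MvPolynomial (Fin n) k ⧸ I) (Localization.Away g)) x).asIdeal) bot_le
    haveI hP₁p : P₁.IsPrime := hP₁.1.1
    have hg0 : g ∉ (PrimeSpectrum.comap
        (algebraMap (MvPolynomial (Fin n) k ⧸ I) (Localization.Away g)) x).asIdeal := by
      intro hmem
      have hmem' : algebraMap (MvPolynomial (Fin n) k ⧸ I) (Localization.Away g) g ∈ 𝔓 := by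
        rw [hx] at hmem
        exact hmem
      have hu : IsUnit (algebraMap (MvPolynomial (Fin n) k ⧸ I) (Localization.Away g) g) :=
        IsLocalization.Away.algebraMap_isUnit g
      exact h𝔓p.ne_top (Ideal.eq_top_of_isUnit_mem _ hmem' hu)
    have hg1 : g ∉ P₁ := fun h => hg0 (hP₁le h)
    have hP₁q : P₁ ≤ q := hmin P₁ hP₁ hg1
    have h2 : Order.coheight (PrimeSpectrum.comap
        (algebraMap (MvPolynomial (Fin n) k ⧸ I) (Localization.Away g)) x) ≤
        Order.coheight (⟨P₁, hP₁p⟩ : PrimeSpectrum (MvPolynomial (Fin n) k ⧸ I)) :=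
      Order.coheight_anti (show (⟨P₁, hP₁p⟩ : PrimeSpectrum (MvPolynomial (Fin n) k ⧸ I)) ≤
        PrimeSpectrum.comap
          (algebraMap (MvPolynomial (Fin n) k ⧸ I) (Localization.Away g)) x from hP₁le)
    have h3 := DimFT2.ringKrullDim_quotient_le_height_add_coheight k
      (MvPolynomial (Fin n) k ⧸ I) P₁ ⟨q, inferInstance⟩ hP₁q
    have h4 : ringKrullDim (Localization.Away g ⧸ 𝔓) = (Order.coheight x : WithBot ℕ∞) := by
      rw [hx]
      exact DimFT.ringKrullDim_quotient_eq_coheight
        (⟨𝔓, h𝔓p⟩ : PrimeSpectrum (Localization.Away g))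
    have h5 := DimFT.ringKrullDim_quotient_eq_coheight
      (⟨P₁, hP₁p⟩ : PrimeSpectrum (MvPolynomial (Fin n) k ⧸ I))
    calc ringKrullDim (Localization.Away g ⧸ 𝔓) = (Order.coheight x : WithBot ℕ∞) := h4
      _ ≤ (Order.coheight (⟨P₁, hP₁p⟩ : PrimeSpectrum (MvPolynomial (Fin n) k ⧸ I)) :
          WithBot ℕ∞) := WithBot.coe_le_coe.mpr (h1.trans h2)
      _ = ringKrullDim ((MvPolynomial (Fin n) k ⧸ I) ⧸ P₁) := h5.symm
      _ ≤ _ := h3
      _ = ((n - c : ℕ) : WithBot ℕ∞) := by rw [hsum]; rfl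
  · obtain ⟨𝔓, h𝔓⟩ := RelGCIAway.exists_mem_minimalPrimes (Localization.Away g)
    exact (hlow 𝔓 h𝔓).trans (ringKrullDim_quotient_le 𝔓)

/-- (2) ⇒ (1). -/
theorem h21 (c : ℕ)
    (hc : (c : ℕ∞) + q.height = (q.comap (Ideal.Quotient.mk I)).height)
    (s : Finset (Localization.AtPrime (q.comap (Ideal.Quotient.mk I)))) (hs : s.card = c)
    (hspan : Ideal.span (s : Set (Localization.AtPrime (q.comap (Ideal.Quotient.mk I)))) =
      I.map (algebraMap _ (Localization.AtPrime (q.comap (Ideal.Quotient.mk I))))) :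
    ∃ g : MvPolynomial (Fin n) k ⧸ I, g ∉ q ∧ Synt.IsGlobalCI k (Localization.Away g) := by
  classical
  obtain ⟨F, hFI, G₀, hG₀, hG₀F⟩ :=
    exists_gens I (q.comap (Ideal.Quotient.mk I)) c s hs hspan
  obtain ⟨g₁, hg₁q, hg₁min⟩ := exists_avoid q
  obtain ⟨G₁, rfl⟩ := Ideal.Quotient.mk_surjective g₁
  obtain ⟨m, b, hb⟩ := Submodule.fg_iff_exists_fin_generating_family.mp
    (IsNoetherian.noetherian I)
  have hbI : Ideal.span (Set.range b) = I := hb
  have hφker : RingHom.ker (Ideal.Quotient.mkₐ k I).toRingHom = Ideal.span (Set.range b) := by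
    rw [hbI]
    ext x
    rw [RingHom.mem_ker]
    exact Ideal.Quotient.eq_zero_iff_mem
  obtain ⟨φ', hsurj', hker'⟩ := RelGCIAway.exists_pres_away_snoc n m (Ideal.Quotient.mkₐ k I) b
    Ideal.Quotient.mk_surjective hφker (G₀ * G₁)
  have hgq : (Ideal.Quotient.mkₐ k I) (G₀ * G₁) ∉ q := by
    show Ideal.Quotient.mk I (G₀ * G₁) ∉ q
    rw [map_mul]
    intro hmem
    rcases Ideal.IsPrime.mem_or_mem inferInstance hmem with h | h
    · exact hG₀ h
    · exact hg₁q h
  refine ⟨(Ideal.Quotient.mkₐ k I) (G₀ * G₁), hgq, ?_⟩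
  have hkerF : RingHom.ker φ'.toRingHom = Ideal.span (Set.range
      (Fin.snoc (fun i => rename Fin.castSucc (F i))
        (rename Fin.castSucc (G₀ * G₁) * X (Fin.last n) - 1) :
        Fin (c + 1) → MvPolynomial (Fin (n + 1)) k)) := by
    rw [hker']
    apply span_snoc_eq
    · intro i
      show rename Fin.castSucc (b i) ∈ _
      have hρF : Ideal.span (Set.range F) ≤ Ideal.comap
          (rename Fin.castSucc : MvPolynomial (Fin n) k →ₐ[k] MvPolynomial (Fin (n + 1)) k)
          (Ideal.span (Set.range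
            (Fin.snoc (fun i => rename Fin.castSucc (F i))
              (rename Fin.castSucc (G₀ * G₁) * X (Fin.last n) - 1) :
              Fin (c + 1) → MvPolynomial (Fin (n + 1)) k))) := by
        rw [Ideal.span_le]
        rintro _ ⟨i, rfl⟩
        rw [SetLike.mem_coe, Ideal.mem_comap]
        exact Ideal.subset_span ⟨Fin.castSucc i, by rw [Fin.snoc_castSucc]⟩
      have hbi : b i ∈ I := by
        rw [← hbI]
        exact Ideal.subset_span ⟨i, rfl⟩
      have h1 : rename Fin.castSucc (G₀ * G₁ * b i) ∈ Ideal.span (Set.range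
            (Fin.snoc (fun i => rename Fin.castSucc (F i))
              (rename Fin.castSucc (G₀ * G₁) * X (Fin.last n) - 1) :
              Fin (c + 1) → MvPolynomial (Fin (n + 1)) k)) := by
        apply hρF
        have h2 : G₀ * G₁ * b i = G₁ * (G₀ * b i) := by ring
        rw [h2]
        exact Ideal.mul_mem_left _ _ (hG₀F _ hbi)
      have hE : (rename Fin.castSucc (G₀ * G₁) * X (Fin.last n) - 1 :
          MvPolynomial (Fin (n + 1)) k) ∈ Ideal.span (Set.range
            (Fin.snoc (fun i => rename Fin.castSucc (F i))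
              (rename Fin.castSucc (G₀ * G₁) * X (Fin.last n) - 1) :
              Fin (c + 1) → MvPolynomial (Fin (n + 1)) k)) :=
        Ideal.subset_span ⟨Fin.last c, by rw [Fin.snoc_last]⟩
      have heq : rename Fin.castSucc (b i) =
          X (Fin.last n) * rename Fin.castSucc (G₀ * G₁ * b i) -
            (rename Fin.castSucc (G₀ * G₁) * X (Fin.last n) - 1) * rename Fin.castSucc (b i) := by
        rw [map_mul (rename Fin.castSucc) (G₀ * G₁) (b i)]
        ring
      rw [heq]
      exact Ideal.sub_mem _ (Ideal.mul_mem_left _ _ h1) (Ideal.mul_mem_right _ _ hE)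
    · intro j
      show rename Fin.castSucc (F j) ∈ _
      have hρb : Ideal.span (Set.range b) ≤ Ideal.comap
          (rename Fin.castSucc : MvPolynomial (Fin n) k →ₐ[k] MvPolynomial (Fin (n + 1)) k)
          (Ideal.span (Set.range
            (Fin.snoc (fun i => rename Fin.castSucc (b i))
              (rename Fin.castSucc (G₀ * G₁) * X (Fin.last n) - 1) :
              Fin (m + 1) → MvPolynomial (Fin (n + 1)) k))) := by
        rw [Ideal.span_le]
        rintro _ ⟨i, rfl⟩
        rw [SetLike.mem_coe, Ideal.mem_comap]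
        exact Ideal.subset_span ⟨Fin.castSucc i, by rw [Fin.snoc_castSucc]⟩
      exact hρb (by rw [hbI]; exact hFI j)
  obtain ⟨hcn, -⟩ := height_add_coheight_eq k n I q c hc
  refine Or.inr ⟨n + 1, c + 1, by omega, φ', _, hsurj', hkerF, ?_⟩
  rw [Nat.add_sub_add_right]
  apply dim_away_eq k n I q c hc _ hgq
  · intro P₀ hP₀ hgP
    by_contra hnle
    apply hgP
    show Ideal.Quotient.mk I (G₀ * G₁) ∈ P₀
    rw [map_mul]
    exact Ideal.mul_mem_left _ _ (hg₁min P₀ hP₀ hnle)
  · intro 𝔓 h𝔓
    have h6 := RelGCIAway.dim_quot_ge k (n + 1) (c + 1) φ' _ hsurj' hkerF 𝔓 h𝔓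
    rwa [Nat.add_sub_add_right] at h6

theorem main (c : ℕ)
    (hc : (c : ℕ∞) + q.height = (q.comap (Ideal.Quotient.mk I)).height) :
    ((∃ g : MvPolynomial (Fin n) k ⧸ I, g ∉ q ∧ Synt.IsGlobalCI k (Localization.Away g)) ↔
        ∃ s : Finset (Localization.AtPrime (q.comap (Ideal.Quotient.mk I))), s.card = c ∧
          Ideal.span (s : Set _) =
            I.map (algebraMap _ (Localization.AtPrime (q.comap (Ideal.Quotient.mk I))))) ∧
      ((∃ g : MvPolynomial (Fin n) k ⧸ I, g ∉ q ∧ Synt.IsGlobalCI k (Localization.Away g)) ↔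
        ∃ rs : List (Localization.AtPrime (q.comap (Ideal.Quotient.mk I))),
          RingTheory.Sequence.IsRegular (Localization.AtPrime (q.comap (Ideal.Quotient.mk I))) rs ∧
          Ideal.ofList rs =
            I.map (algebraMap _ (Localization.AtPrime (q.comap (Ideal.Quotient.mk I))))) := by
  have hIQ := le_comap_mk k n I q
  have hmap : (q.comap (Ideal.Quotient.mk I)).map (Ideal.Quotient.mk I) = q :=
    Ideal.map_comap_of_surjective _ Ideal.Quotient.mk_surjective q
  have hc' : (c : ℕ∞) + ((q.comap (Ideal.Quotient.mk I)).map (Ideal.Quotient.mk I)).height =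
      (q.comap (Ideal.Quotient.mk I)).height := by
    rw [hmap]
    exact hc
  have h52 := card_of_regular I (q.comap (Ideal.Quotient.mk I)) hIQ c hc'
  refine ⟨⟨?_, ?_⟩, ⟨?_, ?_⟩⟩
  · rintro ⟨g, hg, hci⟩
    obtain ⟨rs, hreg, hrs⟩ := h15 k n I q g hg hci
    exact h52 rs hreg hrs
  · rintro ⟨s, hs, hspan⟩
    exact h21 k n I q c hc s hs hspan
  · rintro ⟨g, hg, hci⟩
    exact h15 k n I q g hg hci
  · rintro ⟨rs, hreg, hrs⟩
    obtain ⟨s, hs, hspan⟩ := h52 rs hreg hrs
    exact h21 k n I q c hc s hs hspan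

end main

end Groth.Agent.Lib.Helper24.CIGen
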