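import Mathlib
import Groth.Prelude.Def_FlatCA

/-!
# Standard shrinking of a one-step dévissage: localization bookkeeping
-/

set_option autoImplicit false
set_option maxHeartbeats 400000
set_option linter.style.haveILetI false
set_option linter.unusedSectionVars false
set_option linter.unusedVariables false

universe u

namespace Groth.Agent.Lib.Helper24.Shrink

open TensorProduct

theorem disjoint_powers {A : Type u} [CommRing A] (P : Ideal A) [hP : P.IsPrime] (a : A)
    (ha : a ∉ P) : Disjoint (↑(Submonoid.powers a) : Set A) (P : Set A) := by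
  rw [Set.disjoint_left]
  rintro _ ⟨k, rfl⟩ hk
  exact ha (hP.mem_of_pow_mem k hk)

theorem liesOver_loc {A B A' B' : Type u} [CommRing A] [CommRing B] [CommRing A'] [CommRing B']
    [Algebra A B] [Algebra A A'] [Algebra B B'] [Algebra A' B'] [Algebra A B']
    [IsScalarTower A A' B'] [IsScalarTower A B B']
    (M : Submonoid A) [IsLocalization M A'] (M' : Submonoid B) [IsLocalization M' B']
    (P : Ideal B) [hP : P.IsPrime] (hd : Disjoint (M' : Set B) (P : Set B))
    (𝔭 : Ideal A) [hP𝔭 : P.LiesOver 𝔭] :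
    (P.map (algebraMap B B')).LiesOver (𝔭.map (algebraMap A A')) := by
  constructor
  show 𝔭.map (algebraMap A A') = (P.map (algebraMap B B')).comap (algebraMap A' B')
  have h1 : (P.map (algebraMap B B')).comap (algebraMap B B') = P :=
    IsLocalization.under_map_of_isPrime_disjoint M' B' hP hd
  have h2 : ((P.map (algebraMap B B')).comap (algebraMap A' B')).comap (algebraMap A A') = 𝔭 := by
    rw [Ideal.comap_comap, ← IsScalarTower.algebraMap_eq, IsScalarTower.algebraMap_eq A B B',
      ← Ideal.comap_comap, h1]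
    exact hP𝔭.over.symm
  have h3 : (((P.map (algebraMap B B')).comap (algebraMap A' B')).comap (algebraMap A A')).map
      (algebraMap A A') = (P.map (algebraMap B B')).comap (algebraMap A' B') :=
    IsLocalization.map_under M A' _
  rw [← h3, h2]

theorem prime_eq_map_of_comap_eq {A A' : Type u} [CommRing A] [CommRing A'] [Algebra A A']
    (M : Submonoid A) [IsLocalization M A'] (𝔭 : Ideal A) (P : Ideal A')
    (h : P.comap (algebraMap A A') = 𝔭) : P = 𝔭.map (algebraMap A A') := by
  rw [← h]
  exact (IsLocalization.map_under M A' P).symm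

theorem uniq_loc {D C D' C' : Type u} [CommRing D] [CommRing C] [CommRing D'] [CommRing C']
    [Algebra D C] [Algebra D D'] [Algebra C C'] [Algebra D' C'] [Algebra D C']
    [IsScalarTower D D' C'] [IsScalarTower D C C']
    (M : Submonoid D) [IsLocalization M D'] (M' : Submonoid C) [IsLocalization M' C']
    (y : Ideal D) [hy : y.IsPrime] (hdy : Disjoint (M : Set D) (y : Set D))
    (z : Ideal C) [z.IsPrime]
    (h3 : ∀ (z₁ : Ideal C) [z₁.IsPrime], z₁.LiesOver y → z₁ = z)
    (z₂ : Ideal C') [z₂.IsPrime] (h : z₂.LiesOver (y.map (algebraMap D D'))) :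
    z₂ = z.map (algebraMap C C') := by
  have e : z₂.comap (algebraMap D' C') = y.map (algebraMap D D') := h.over.symm
  have hz1 : (z₂.comap (algebraMap C C')).LiesOver y := by
    constructor
    show y = (z₂.comap (algebraMap C C')).comap (algebraMap D C)
    rw [Ideal.comap_comap, ← IsScalarTower.algebraMap_eq, IsScalarTower.algebraMap_eq D D' C',
      ← Ideal.comap_comap, e]
    exact (IsLocalization.under_map_of_isPrime_disjoint M D' hy hdy).symm
  have h0 := h3 (z₂.comap (algebraMap C C')) hz1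
  rw [← h0]
  exact (IsLocalization.map_under M' C' z₂).symm

theorem comap_surjective_loc {R D Rg Dy : Type u} [CommRing R] [CommRing D] [CommRing Rg]
    [CommRing Dy] [Algebra R D] [Algebra R Rg] [Algebra D Dy] [Algebra Rg Dy] [Algebra R Dy]
    [IsScalarTower R Rg Dy] [IsScalarTower R D Dy]
    (g : R) [IsLocalization.Away g Rg] (hY : D) [IsLocalization.Away hY Dy]
    (himg : ∀ P : Ideal R, P.IsPrime → g ∉ P →
      ∃ Q : Ideal D, Q.IsPrime ∧ hY ∉ Q ∧ Q.comap (algebraMap R D) = P) :
    Function.Surjective (PrimeSpectrum.comap (algebraMap Rg Dy)) := by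
  intro P'
  have hgP : g ∉ P'.asIdeal.comap (algebraMap R Rg) := fun h =>
    P'.isPrime.ne_top (Ideal.eq_top_of_isUnit_mem _ h (IsLocalization.Away.algebraMap_isUnit g))
  obtain ⟨Q, hQ, hYQ, hQP⟩ := himg _ inferInstance hgP
  haveI := hQ
  have hd := disjoint_powers Q hY hYQ
  have hQ' : (Q.map (algebraMap D Dy)).IsPrime :=
    IsLocalization.isPrime_of_isPrime_disjoint (Submonoid.powers hY) Dy Q hQ hd
  refine ⟨⟨Q.map (algebraMap D Dy), hQ'⟩, ?_⟩
  apply PrimeSpectrum.ext
  show (Q.map (algebraMap D Dy)).comap (algebraMap Rg Dy) = P'.asIdeal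
  have h1 : ((Q.map (algebraMap D Dy)).comap (algebraMap Rg Dy)).comap (algebraMap R Rg) =
      P'.asIdeal.comap (algebraMap R Rg) := by
    rw [Ideal.comap_comap, ← IsScalarTower.algebraMap_eq, IsScalarTower.algebraMap_eq R D Dy,
      ← Ideal.comap_comap]
    have h0 : (Q.map (algebraMap D Dy)).comap (algebraMap D Dy) = Q :=
      IsLocalization.under_map_of_isPrime_disjoint (Submonoid.powers hY) Dy hQ hd
    rw [h0, hQP]
  calc (Q.map (algebraMap D Dy)).comap (algebraMap Rg Dy)
      = (((Q.map (algebraMap D Dy)).comap (algebraMap Rg Dy)).comap (algebraMap R Rg)).map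
          (algebraMap R Rg) := (IsLocalization.map_under (Submonoid.powers g) Rg _).symm
    _ = (P'.asIdeal.comap (algebraMap R Rg)).map (algebraMap R Rg) := by rw [h1]
    _ = P'.asIdeal := IsLocalization.map_under (Submonoid.powers g) Rg _

theorem surj_loc {S C Sx Cz : Type u} [CommRing S] [CommRing C] [CommRing Sx] [CommRing Cz]
    [Algebra S C] [Algebra S Sx] [Algebra C Cz] [Algebra Sx Cz] [Algebra S Cz]
    [IsScalarTower S Sx Cz] [IsScalarTower S C Cz]
    (hX : S) (hZ : C) [IsLocalization.Away hX Sx] [IsLocalization.Away hZ Cz]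
    (hXZ : algebraMap S C hX = hZ) (hsurj : Function.Surjective (algebraMap S C)) :
    Function.Surjective (algebraMap Sx Cz) := by
  intro c'
  obtain ⟨c, ⟨_, k, rfl⟩, rfl⟩ := IsLocalization.exists_mk'_eq (Submonoid.powers hZ) c'
  obtain ⟨s, rfl⟩ := hsurj c
  refine ⟨IsLocalization.mk' Sx s (⟨hX ^ k, k, rfl⟩ : Submonoid.powers hX), ?_⟩
  rw [IsLocalization.eq_mk'_iff_mul_eq]
  show algebraMap Sx Cz (IsLocalization.mk' Sx s (⟨hX ^ k, k, rfl⟩ : Submonoid.powers hX)) *
    algebraMap C Cz (hZ ^ k) = algebraMap C Cz (algebraMap S C s)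
  have h1 : algebraMap C Cz (hZ ^ k) = algebraMap Sx Cz (algebraMap S Sx (hX ^ k)) := by
    rw [← hXZ, ← map_pow, ← IsScalarTower.algebraMap_apply S C Cz,
      IsScalarTower.algebraMap_apply S Sx Cz]
  have h2 : IsLocalization.mk' Sx s (⟨hX ^ k, k, rfl⟩ : Submonoid.powers hX) *
      algebraMap S Sx (hX ^ k) = algebraMap S Sx s :=
    IsLocalization.mk'_spec Sx s (⟨hX ^ k, k, rfl⟩ : Submonoid.powers hX)
  rw [h1, ← map_mul, h2, ← IsScalarTower.algebraMap_apply S Sx Cz,
    IsScalarTower.algebraMap_apply S C Cz]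

theorem finite_loc {D C Dy Cz : Type u} [CommRing D] [CommRing C] [CommRing Dy] [CommRing Cz]
    [Algebra D C] [Algebra D Dy] [Algebra C Cz] [Algebra Dy Cz] [Algebra D Cz]
    [IsScalarTower D Dy Cz] [IsScalarTower D C Cz]
    (hY : D) (hZ : C) [IsLocalization.Away hY Dy] [hl : IsLocalization.Away hZ Cz]
    (hZY : hZ = algebraMap D C hY) [Module.Finite D C] : Module.Finite Dy Cz := by
  haveI : IsLocalization (Algebra.algebraMapSubmonoid C (Submonoid.powers hY)) Cz := by
    rw [Algebra.algebraMapSubmonoid_powers, ← hZY]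
    exact hl
  exact Module.Finite.of_isLocalization D C (Submonoid.powers hY)

theorem fp_loc {S C Sx Cz : Type u} [CommRing S] [CommRing C] [CommRing Sx] [CommRing Cz]
    [Algebra S C] [Algebra S Sx] [Algebra C Cz] [Algebra Sx Cz] [Algebra S Cz]
    [IsScalarTower S Sx Cz] [IsScalarTower S C Cz]
    (hX : S) (hZ : C) [IsLocalization.Away hX Sx] [IsLocalization.Away hZ Cz]
    [Algebra.FinitePresentation S C] : Algebra.FinitePresentation Sx Cz := by
  haveI : Algebra.FinitePresentation C Cz := IsLocalization.Away.finitePresentation hZ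
  haveI : Algebra.FinitePresentation S Cz := Algebra.FinitePresentation.trans S C Cz
  haveI : Algebra.FinitePresentation S Sx := IsLocalization.Away.finitePresentation hX
  haveI : Algebra.FiniteType S Sx := inferInstance
  exact Algebra.FinitePresentation.of_restrict_scalars_finitePresentation S Sx Cz

theorem equiv_loc {S C : Type u} [CommRing S] [CommRing C] [Algebra S C]
    {N G : Type u} [AddCommGroup N] [Module S N] [AddCommGroup G] [Module C G] [Module S G]
    [IsScalarTower S C G] (e : N ≃ₗ[S] G) (hX : S) (hZ : C) (hXZ : algebraMap S C hX = hZ)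
    {Sx : Type u} [CommRing Sx] [Algebra S Sx] [IsLocalization.Away hX Sx]
    {Nx Gz : Type u} [AddCommGroup Nx] [Module S Nx] [Module Sx Nx] [IsScalarTower S Sx Nx]
    [AddCommGroup Gz] [Module C Gz] [Module S Gz] [IsScalarTower S C Gz] [Module Sx Gz]
    [IsScalarTower S Sx Gz]
    (f : N →ₗ[S] Nx) [IsLocalizedModule (Submonoid.powers hX) f]
    (f' : G →ₗ[C] Gz) [hf' : IsLocalizedModule (Submonoid.powers hZ) f'] :
    Nonempty (Nx ≃ₗ[Sx] Gz) := by
  subst hXZ
  haveI : IsLocalizedModule (Submonoid.powers hX) (f'.restrictScalars S) :=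
    IsLocalizedModule.restrictScalars_powers hX f'
  haveI : IsLocalizedModule (Submonoid.powers hX) ((f'.restrictScalars S).comp e.toLinearMap) :=
    IsLocalizedModule.of_linearEquiv_right (Submonoid.powers hX) (f'.restrictScalars S) e
  exact ⟨LinearEquiv.extendScalarsOfIsLocalization (Submonoid.powers hX) Sx
    (IsLocalizedModule.linearEquiv (Submonoid.powers hX) f
      ((f'.restrictScalars S).comp e.toLinearMap))⟩

/-- transport of transcendence bases along isomorphisms of field extensions -/
theorem field_transfer {K L K' L' : Type u} [Field K] [Field L] [Field K'] [Field L']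
    [Algebra K L] [Algebra K' L'] (a : K →+* K') (b : L →+* L')
    (ha : Function.Bijective a) (hb : Function.Bijective b)
    (hcomm : (algebraMap K' L').comp a = b.comp (algebraMap K L))
    (h : ∃ (ι : Type u) (x : ι → L), IsTranscendenceBasis K x ∧
      IntermediateField.adjoin K (Set.range x) = ⊤) :
    ∃ (ι : Type u) (x : ι → L'), IsTranscendenceBasis K' x ∧
      IntermediateField.adjoin K' (Set.range x) = ⊤ := by
  obtain ⟨ι, x, hx, hadj⟩ := h
  refine ⟨ι, b ∘ x, ?_, ?_⟩
  · have hAI : AlgebraicIndependent K' (b ∘ x) :=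
      hx.1.ringHom_of_comp_eq a b ha.2 hb.1 hcomm
    refine ⟨hAI, fun s hs hsub => ?_⟩
    have ht : AlgebraicIndependent K ((↑) : (b ⁻¹' s) → L) := by
      refine AlgebraicIndependent.of_ringHom_of_comp_eq a b ?_ ha.1 hcomm
      exact hs.comp (fun u : (b ⁻¹' s) => (⟨b u.1, u.2⟩ : s))
        (fun u v huv => Subtype.ext (hb.1 (congrArg Subtype.val huv)))
    have hsub' : Set.range x ⊆ b ⁻¹' s := by
      rintro _ ⟨i, rfl⟩
      exact hsub ⟨i, rfl⟩
    have heq := hx.2 (b ⁻¹' s) ht hsub'
    rw [Set.range_comp, heq, Set.image_preimage_eq _ hb.2]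
  · rw [eq_top_iff]
    rintro l' -
    obtain ⟨l, rfl⟩ := hb.2 l'
    have hl : l ∈ IntermediateField.adjoin K (Set.range x) := by
      rw [hadj]; trivial
    induction hl using IntermediateField.adjoin_induction with
    | mem l hl =>
      obtain ⟨i, rfl⟩ := hl
      exact IntermediateField.subset_adjoin _ _ ⟨i, rfl⟩
    | algebraMap k =>
      have h0 : b (algebraMap K L k) = algebraMap K' L' (a k) :=
        (RingHom.congr_fun hcomm k).symm
      rw [h0]
      exact IntermediateField.algebraMap_mem _ _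
    | add l₁ l₂ _ _ h₁ h₂ =>
      rw [map_add]
      exact add_mem h₁ h₂
    | inv l _ h₁ =>
      rw [map_inv₀]
      exact inv_mem h₁
    | mul l₁ l₂ _ _ h₁ h₂ =>
      rw [map_mul]
      exact mul_mem h₁ h₂

theorem purelyTranscendental_transfer {R D R' D' : Type u} [CommRing R] [CommRing D]
    [CommRing R'] [CommRing D']
    [Algebra R D] [Algebra R' D'] [Algebra R R'] [Algebra D D'] [Algebra R D']
    [IsScalarTower R R' D'] [IsScalarTower R D D']
    (p : Ideal R) [p.IsPrime] (y : Ideal D) [y.IsPrime] [hyp : y.LiesOver p]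
    (p' : Ideal R') [p'.IsPrime] (y' : Ideal D') [y'.IsPrime] [hy'p' : y'.LiesOver p']
    [hp'p : p'.LiesOver p] [hy'y : y'.LiesOver y]
    (hbp : Function.Bijective (Ideal.ResidueField.map p p' (algebraMap R R') hp'p.over))
    (hby : Function.Bijective (Ideal.ResidueField.map y y' (algebraMap D D') hy'y.over))
    (h : FlatCA.PurelyTranscendental p y) : FlatCA.PurelyTranscendental p' y' := by
  unfold FlatCA.PurelyTranscendental at h ⊢
  letI : Algebra p.ResidueField y.ResidueField :=
    (Ideal.ResidueField.mapₐ p y (Algebra.ofId R D) hyp.over).toRingHom.toAlgebra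
  letI : Algebra p'.ResidueField y'.ResidueField :=
    (Ideal.ResidueField.mapₐ p' y' (Algebra.ofId R' D') hy'p'.over).toRingHom.toAlgebra
  have hcomm : (algebraMap p'.ResidueField y'.ResidueField).comp
      (Ideal.ResidueField.map p p' (algebraMap R R') hp'p.over) =
      (Ideal.ResidueField.map y y' (algebraMap D D') hy'y.over).comp
        (algebraMap p.ResidueField y.ResidueField) := by
    apply Ideal.ResidueField.ringHom_ext
    ext r
    simp only [RingHom.comp_apply, RingHom.algebraMap_toAlgebra, AlgHom.toRingHom_eq_coe,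
      RingHom.coe_coe, Ideal.ResidueField.mapₐ_apply, Ideal.ResidueField.map_algebraMap,
      Algebra.ofId_apply]
    congr 1
    rw [← IsScalarTower.algebraMap_apply R R' D', ← IsScalarTower.algebraMap_apply R D D']
  exact field_transfer _ _ hbp hby hcomm h

section Scheme

open AlgebraicGeometry CategoryTheory Limits

theorem flat_of_smoothRelDim {R D : Type u} [CommRing R] [CommRing D] [Algebra R D] (n : ℕ)
    (h : FlatCA.SmoothRelDim n R D) : Module.Flat R D := by
  have h1 : Smooth (Spec.map (CommRingCat.ofHom (algebraMap R D))) :=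
    SmoothOfRelativeDimension.smooth n _
  have h2 : Flat (Spec.map (CommRingCat.ofHom (algebraMap R D))) := inferInstance
  have h3 := (HasRingHomProperty.Spec_iff (P := @Flat)).mp h2
  exact RingHom.flat_algebraMap_iff.mp h3

theorem fp_of_smoothRelDim' {R D : Type u} [CommRing R] [CommRing D] [Algebra R D] (n : ℕ)
    (h : FlatCA.SmoothRelDim n R D) : Algebra.FinitePresentation R D := by
  have h1 : Smooth (Spec.map (CommRingCat.ofHom (algebraMap R D))) :=
    SmoothOfRelativeDimension.smooth n _
  have h2 : LocallyOfFinitePresentation (Spec.map (CommRingCat.ofHom (algebraMap R D))) :=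
    inferInstance
  have h3 := (HasRingHomProperty.Spec_iff (P := @LocallyOfFinitePresentation)).mp h2
  exact RingHom.finitePresentation_algebraMap.mp h3

theorem exists_g_image {R D : Type u} [CommRing R] [CommRing D] [Algebra R D] (n : ℕ)
    (hsm : FlatCA.SmoothRelDim n R D)
    (p : Ideal R) [hp : p.IsPrime] (y : Ideal D) [hy : y.IsPrime] [hyp : y.LiesOver p]
    (w : D) (hw : w ∉ y) :
    ∃ g : R, g ∉ p ∧ ∀ P : Ideal R, P.IsPrime → g ∉ P →
      ∃ Q : Ideal D, Q.IsPrime ∧ w ∉ Q ∧ Q.comap (algebraMap R D) = P := by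
  haveI := flat_of_smoothRelDim n hsm
  haveI := fp_of_smoothRelDim' n hsm
  have hopen := PrimeSpectrum.isOpenMap_comap_of_hasGoingDown_of_finitePresentation
    (R := R) (S := D)
  have hO : IsOpen (PrimeSpectrum.comap (algebraMap R D) ''
      (PrimeSpectrum.basicOpen w : Set (PrimeSpectrum D))) :=
    hopen _ (PrimeSpectrum.basicOpen w).isOpen
  have hmem : (⟨p, hp⟩ : PrimeSpectrum R) ∈ PrimeSpectrum.comap (algebraMap R D) ''
      (PrimeSpectrum.basicOpen w : Set (PrimeSpectrum D)) :=
    ⟨⟨y, hy⟩, hw, PrimeSpectrum.ext hyp.over.symm⟩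
  obtain ⟨_, ⟨g, rfl⟩, hpg, hsub⟩ :=
    PrimeSpectrum.isTopologicalBasis_basic_opens.exists_subset_of_mem_open hmem hO
  refine ⟨g, hpg, fun P hP hgP => ?_⟩
  obtain ⟨Q, hQw, hQP⟩ := hsub (show (⟨P, hP⟩ : PrimeSpectrum R) ∈
    (PrimeSpectrum.basicOpen g : Set (PrimeSpectrum R)) from hgP)
  exact ⟨Q.asIdeal, Q.isPrime, hQw, congrArg PrimeSpectrum.asIdeal hQP⟩

theorem smooth_geomIrred_loc {R D Rg Dy : Type u} [CommRing R] [CommRing D] [CommRing Rg]
    [CommRing Dy] [Algebra R D] [Algebra R Rg] [Algebra D Dy] [Algebra Rg Dy] [Algebra R Dy]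
    [IsScalarTower R Rg Dy] [IsScalarTower R D Dy]
    (g : R) [IsLocalization.Away g Rg] (hY : D) [IsLocalization.Away hY Dy] (n : ℕ)
    (hsm : FlatCA.SmoothRelDim n R D) (hgi : FlatCA.GeomIrredFibres R D)
    (hsurj : Function.Surjective (PrimeSpectrum.comap (algebraMap Rg Dy))) :
    FlatCA.SmoothRelDim n Rg Dy ∧ FlatCA.GeomIrredFibres Rg Dy := by
  obtain ⟨G, hG⟩ : ∃ G, G = Spec.map (CommRingCat.ofHom (algebraMap R D)) := ⟨_, rfl⟩
  obtain ⟨j, hj⟩ : ∃ j, j = Spec.map (CommRingCat.ofHom (algebraMap R Rg)) := ⟨_, rfl⟩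
  obtain ⟨a, ha⟩ : ∃ a, a = Spec.map (CommRingCat.ofHom (algebraMap D Dy)) := ⟨_, rfl⟩
  obtain ⟨b, hb⟩ : ∃ b, b = Spec.map (CommRingCat.ofHom (algebraMap Rg Dy)) := ⟨_, rfl⟩
  have hcomm : a ≫ G = b ≫ j := by
    rw [ha, hG, hb, hj, ← Spec.map_comp, ← Spec.map_comp, ← CommRingCat.ofHom_comp,
      ← CommRingCat.ofHom_comp, ← IsScalarTower.algebraMap_eq, ← IsScalarTower.algebraMap_eq]
  haveI : IsOpenImmersion j := hj ▸ IsOpenImmersion.of_isLocalization g
  haveI : IsOpenImmersion a := ha ▸ IsOpenImmersion.of_isLocalization hY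
  haveI hsmG : SmoothOfRelativeDimension n G := hG ▸ hsm
  haveI hgiG : GeometricallyIrreducible G := hG ▸ hgi
  obtain ⟨k, hk⟩ : ∃ k : Spec (CommRingCat.of Dy) ⟶ pullback G j, k = pullback.lift a b hcomm :=
    ⟨_, rfl⟩
  have hk1 : k ≫ pullback.fst G j = a := by rw [hk]; exact pullback.lift_fst _ _ _
  have hk2 : k ≫ pullback.snd G j = b := by rw [hk]; exact pullback.lift_snd _ _ _
  haveI : IsOpenImmersion (k ≫ pullback.fst G j) := by rw [hk1]; infer_instance
  haveI : IsOpenImmersion k := IsOpenImmersion.of_comp k (pullback.fst G j)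
  haveI := smoothOfRelativeDimension_isStableUnderBaseChange n
  haveI : SmoothOfRelativeDimension n (pullback.snd G j) :=
    MorphismProperty.pullback_snd (P := @SmoothOfRelativeDimension n) G j hsmG
  constructor
  · have h0 : SmoothOfRelativeDimension (0 + n) (k ≫ pullback.snd G j) := inferInstance
    rw [zero_add, hk2, hb] at h0
    exact h0
  · haveI : AlgebraicGeometry.Surjective (k ≫ pullback.snd G j) := by
      rw [hk2, hb]
      exact ⟨fun x => by obtain ⟨x', hx'⟩ := hsurj x; exact ⟨x', hx'⟩⟩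
    have h0 : GeometricallyIrreducible (k ≫ pullback.snd G j) := inferInstance
    rw [hk2, hb] at h0
    exact h0

end Scheme

end Groth.Agent.Lib.Helper24.Shrink
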