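import Mathlib
import Groth.Prelude.Def_RegImm
import Groth.Prelude.Def_Flat
import Groth.Agent.Lib.Helper24.LocCI
import Groth.Agent.Lib.Helper12.DimFT2
import Groth.Agent.Lib.Helper12.TopFibreDim

/-!
# Fibre dimension of a relative global complete intersection (helper24)
-/

set_option autoImplicit false
set_option maxHeartbeats 400000
set_option linter.style.haveILetI false

universe u

open TensorProduct Synt AlgebraicGeometry Groth.Agent.Lib.Helper12

namespace Groth.Agent.Lib.Helper24.RelGCIDim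

/-- The fibres of a presented algebra are presented by the same equations; if the dimension is
right, they are equidimensional. -/
theorem fibre_equidim (R : Type u) [CommRing R] (n c : ℕ) (F : Fin c → MvPolynomial (Fin n) R)
    (κ : Type u) [Field κ] [Algebra R κ] {B : Type u} [CommRing B] [Algebra κ B]
    (e : (κ ⊗[R] RelGCIRing R n c F) ≃ₐ[κ] B)
    (hdim : ringKrullDim B = ((n - c : ℕ) : WithBot ℕ∞)) :
    ∀ P ∈ minimalPrimes B, ringKrullDim (B ⧸ P) = ((n - c : ℕ) : WithBot ℕ∞) := by
  let P' := (Algebra.Presentation.naive (v := F)).baseChange κ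
  have hk : P'.ker = RingHom.ker (MvPolynomial.aeval P'.val).toRingHom :=
    P'.ker_eq_ker_aeval_val
  refine LocCI.equidim_of_ci κ n c (e.toAlgHom.comp (MvPolynomial.aeval P'.val))
    P'.relation (fun b => ?_) ?_ hdim
  · obtain ⟨y, hy⟩ := P'.aeval_val_surjective (e.symm b)
    exact ⟨y, by
      show e (MvPolynomial.aeval P'.val y) = b
      rw [hy, AlgEquiv.apply_symm_apply]⟩
  rw [P'.span_range_relation_eq_ker, hk]
  ext x
  simp only [RingHom.mem_ker]
  change e (MvPolynomial.aeval P'.val x) = 0 ↔ MvPolynomial.aeval P'.val x = 0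
  exact EmbeddingLike.map_eq_zero_iff

theorem localDim_fibre_eq (R : Type u) [CommRing R] (n c : ℕ)
    (F : Fin c → MvPolynomial (Fin n) R)
    (hF : IsRelGCI R n c F) (p : PrimeSpectrum R)
    (q : PrimeSpectrum (p.asIdeal.Fiber (RelGCIRing R n c F))) :
    FlatMor.localDim (PrimeSpectrum (p.asIdeal.Fiber (RelGCIRing R n c F))) q =
      ((n - c : ℕ) : WithBot ℕ∞) := by
  haveI : Nontrivial (p.asIdeal.Fiber (RelGCIRing R n c F)) := q.nontrivial
  obtain ⟨-, hdim⟩ := hF p this
  rw [DimFT2.localDim_primeSpectrum p.asIdeal.ResidueField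
    (p.asIdeal.Fiber (RelGCIRing R n c F)) q]
  have := DimFT2.height_add_coheight_of_equidim p.asIdeal.ResidueField
    (p.asIdeal.Fiber (RelGCIRing R n c F)) (n - c)
    (fun P hP _ => fibre_equidim R n c F _ AlgEquiv.refl hdim P hP) q
  rw [this]
  rfl

theorem topFibreDim_eq (R : Type u) [CommRing R] (n c : ℕ) (F : Fin c → MvPolynomial (Fin n) R)
    (hF : IsRelGCI R n c F) (x : PrimeSpectrum (RelGCIRing R n c F)) :
    TopFibreDim.topFibreDim (PrimeSpectrum.comap (algebraMap R (RelGCIRing R n c F))) x =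
      ((n - c : ℕ) : WithBot ℕ∞) := by
  unfold TopFibreDim.topFibreDim
  rw [TopFibreDim.localDim_homeomorph (PrimeSpectrum.preimageHomeomorphFiber R
    (RelGCIRing R n c F) (PrimeSpectrum.comap (algebraMap R (RelGCIRing R n c F)) x)) ⟨x, rfl⟩]
  exact localDim_fibre_eq R n c F hF _ _

theorem fibreDimAt_eq (R : Type u) [CommRing R] (n c : ℕ) (F : Fin c → MvPolynomial (Fin n) R)
    (hF : IsRelGCI R n c F) (x : ↑(Spec (CommRingCat.of (RelGCIRing R n c F)))) :
    FlatMor.fibreDimAt (Spec.map (CommRingCat.ofHom (algebraMap R (RelGCIRing R n c F)))) x =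
      ((n - c : ℕ) : WithBot ℕ∞) := by
  rw [TopFibreDim.fibreDimAt_eq_topFibreDim]
  exact topFibreDim_eq R n c F hF x

end Groth.Agent.Lib.Helper24.RelGCIDim
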