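import Mathlib
import Groth.Prelude.Def_RegImm
import Groth.Agent.Lib.Helper24.CIGen
import Groth.Agent.Lib.Helper24.FibreLocDim
import Groth.Agent.Lib.Helper24.SyntLocal
import Groth.Agent.Lib.Helper14.LocalIso
import Groth.Agent.Lib.Helper1.KDesc3
import Groth.Agent.Lib.Helper24.RelGCIAway
import Groth.Agent.Lib.Helper6.SyntCover

/-!
# A syntomic algebra is locally a relative global complete intersection (helper24)
-/

set_option autoImplicit false
set_option maxHeartbeats 400000
set_option linter.style.haveILetI false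
set_option linter.unusedSectionVars false
universe u

open MvPolynomial TensorProduct

namespace Groth.Agent.Lib.Helper24.SyntRelGCI

open Groth.Agent.Lib.Helper12 Groth.Agent.Lib.Helper1

section General

/-- Localizing an `R`-flat `A`-module at a submonoid of `A` keeps it `R`-flat. -/
theorem flat_localizedModule {R A M : Type*} [CommRing R] [CommRing A] [Algebra R A]
    [AddCommGroup M] [Module R M] [Module A M] [IsScalarTower R A M] [Module.Flat R M]
    (S : Submonoid A) : Module.Flat R (LocalizedModule S M) := by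
  rw [Module.Flat.iff_lTensor_injectiveₛ]
  intro P _ _ N
  rw [← TensorProduct.AlgebraTensorModule.coe_lTensor (A := A)]
  rw [← IsLocalizedModule.map_lTensor (R := R) (S := S) (f := N.subtype)
    (g := LocalizedModule.mkLinearMap S M)]
  apply IsLocalizedModule.map_injective
  rw [TensorProduct.AlgebraTensorModule.coe_lTensor]
  exact Module.Flat.lTensor_preserves_injective_linearMap N.subtype N.injective_subtype

/-- Membership in an extended ideal of a localization at a prime, pulled back. -/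
theorem exists_notMem_mul_mem {B : Type*} [CommRing B] (J Q : Ideal B) [Q.IsPrime] (z : B)
    (h : algebraMap B (Localization.AtPrime Q) z ∈ J.map (algebraMap B (Localization.AtPrime Q))) :
    ∃ G₀ : B, G₀ ∉ Q ∧ G₀ * z ∈ J := by
  obtain ⟨⟨⟨y, hy⟩, ⟨v, hv⟩⟩, h1⟩ :=
    (IsLocalization.mem_map_algebraMap_iff Q.primeCompl (Localization.AtPrime Q)).mp h
  have h' : algebraMap B (Localization.AtPrime Q) (z * v) =
      algebraMap B (Localization.AtPrime Q) y := by
    rw [map_mul]
    exact h1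
  obtain ⟨⟨w, hw⟩, hwe⟩ :=
    (IsLocalization.eq_iff_exists Q.primeCompl (Localization.AtPrime Q)).mp h'
  have hwe' : w * (z * v) = w * y := hwe
  refine ⟨w * v, ?_, ?_⟩
  · intro hmem
    rcases Ideal.IsPrime.mem_or_mem inferInstance hmem with h2 | h2
    · exact Ideal.mem_primeCompl_iff.mp hw h2
    · exact Ideal.mem_primeCompl_iff.mp hv h2
  · have h3 : w * v * z = w * y := by
      rw [← hwe']
      ring
    rw [h3]
    exact Ideal.mul_mem_left _ _ hy

end General

section ResidueField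

variable {R : Type u} [CommRing R] (p : Ideal R) [p.IsPrime] (n : ℕ)

/-- every element of the residue field is a fraction with denominator outside `p` -/
theorem den1 (a : p.ResidueField) :
    ∃ s : R, s ∉ p ∧ ∃ r : R, algebraMap R p.ResidueField r = algebraMap R p.ResidueField s * a := by
  obtain ⟨⟨x, ⟨y, hy⟩⟩, h⟩ := IsLocalization.surj (nonZeroDivisors (R ⧸ p)) a
  obtain ⟨r, rfl⟩ := Ideal.Quotient.mk_surjective x
  obtain ⟨s, rfl⟩ := Ideal.Quotient.mk_surjective y
  have hs : s ∉ p := by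
    intro hs
    have h0 : Ideal.Quotient.mk p s = 0 := Ideal.Quotient.eq_zero_iff_mem.mpr hs
    exact (nonZeroDivisors.ne_zero hy) h0
  refine ⟨s, hs, r, ?_⟩
  have h1 : a * algebraMap (R ⧸ p) p.ResidueField (Ideal.Quotient.mk p s) =
      algebraMap (R ⧸ p) p.ResidueField (Ideal.Quotient.mk p r) := h
  rw [Ideal.algebraMap_quotient_residueField_mk, Ideal.algebraMap_quotient_residueField_mk] at h1
  rw [← h1, mul_comm]

theorem isUnit_C (s : R) (hs : s ∉ p) :
    IsUnit (C (algebraMap R p.ResidueField s) : MvPolynomial (Fin n) p.ResidueField) := by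
  apply IsUnit.map
  apply IsUnit.mk0
  rwa [Ne, Ideal.algebraMap_residueField_eq_zero]

/-- clearing denominators of a polynomial over the residue field -/
theorem den_poly (z : MvPolynomial (Fin n) p.ResidueField) :
    ∃ s : R, s ∉ p ∧ ∃ w : MvPolynomial (Fin n) R,
      map (algebraMap R p.ResidueField) w = C (algebraMap R p.ResidueField s) * z := by
  induction z using MvPolynomial.induction_on with
  | C a =>
    obtain ⟨s, hs, r, hr⟩ := den1 p a
    refine ⟨s, hs, C r, ?_⟩
    rw [map_C, hr, C_mul]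
  | add z₁ z₂ h₁ h₂ =>
    obtain ⟨s₁, hs₁, w₁, hw₁⟩ := h₁
    obtain ⟨s₂, hs₂, w₂, hw₂⟩ := h₂
    refine ⟨s₁ * s₂, fun h => (Ideal.IsPrime.mem_or_mem inferInstance h).elim hs₁ hs₂,
      C s₂ * w₁ + C s₁ * w₂, ?_⟩
    have e1 : (C (algebraMap R p.ResidueField (s₁ * s₂)) : MvPolynomial (Fin n) p.ResidueField) =
        C (algebraMap R p.ResidueField s₁) * C (algebraMap R p.ResidueField s₂) := by
      rw [map_mul, C_mul]
    rw [map_add, map_mul, map_mul, hw₁, hw₂, map_C, map_C, e1]
    generalize (C (algebraMap R p.ResidueField s₁) : MvPolynomial (Fin n) p.ResidueField) = a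
    generalize (C (algebraMap R p.ResidueField s₂) : MvPolynomial (Fin n) p.ResidueField) = b
    rw [mul_add, ← mul_assoc, ← mul_assoc, mul_comm b a]
  | mul_X z i h =>
    obtain ⟨s, hs, w, hw⟩ := h
    refine ⟨s, hs, w * X i, ?_⟩
    rw [map_mul, hw, map_X, mul_assoc]

/-- clearing denominators inside an extended ideal -/
theorem den_ideal (J : Ideal (MvPolynomial (Fin n) R)) (z : MvPolynomial (Fin n) p.ResidueField)
    (hz : z ∈ J.map (map (algebraMap R p.ResidueField))) :
    ∃ s : R, s ∉ p ∧ ∃ w ∈ J,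
      map (algebraMap R p.ResidueField) w = C (algebraMap R p.ResidueField s) * z := by
  have h1p : (1 : R) ∉ p := (Ideal.ne_top_iff_one p).mp (Ideal.IsPrime.ne_top inferInstance)
  refine Submodule.span_induction (p := fun z _ => ∃ s : R, s ∉ p ∧ ∃ w ∈ J,
      map (algebraMap R p.ResidueField) w = C (algebraMap R p.ResidueField s) * z) ?_ ?_ ?_ ?_ hz
  · intro x hx
    obtain ⟨j, hj, rfl⟩ := hx
    exact ⟨1, h1p, j, hj, by rw [map_one, C_1, one_mul]⟩
  · exact ⟨1, h1p, 0, J.zero_mem, by rw [map_zero, mul_zero]⟩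
  · intro x y _ _ hx hy
    obtain ⟨s₁, hs₁, w₁, hw₁J, hw₁⟩ := hx
    obtain ⟨s₂, hs₂, w₂, hw₂J, hw₂⟩ := hy
    refine ⟨s₁ * s₂, fun h => (Ideal.IsPrime.mem_or_mem inferInstance h).elim hs₁ hs₂,
      C s₂ * w₁ + C s₁ * w₂,
      J.add_mem (J.mul_mem_left _ hw₁J) (J.mul_mem_left _ hw₂J), ?_⟩
    have e1 : (C (algebraMap R p.ResidueField (s₁ * s₂)) : MvPolynomial (Fin n) p.ResidueField) =
        C (algebraMap R p.ResidueField s₁) * C (algebraMap R p.ResidueField s₂) := by
      rw [map_mul, C_mul]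
    rw [map_add, map_mul, map_mul, hw₁, hw₂, map_C, map_C, e1]
    generalize (C (algebraMap R p.ResidueField s₁) : MvPolynomial (Fin n) p.ResidueField) = a
    generalize (C (algebraMap R p.ResidueField s₂) : MvPolynomial (Fin n) p.ResidueField) = b
    rw [mul_add, ← mul_assoc, ← mul_assoc, mul_comm b a]
  · intro a x _ hx
    obtain ⟨s, hs, w, hwJ, hw⟩ := hx
    obtain ⟨s', hs', a', ha'⟩ := den_poly p n a
    refine ⟨s' * s, fun h => (Ideal.IsPrime.mem_or_mem inferInstance h).elim hs' hs,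
      a' * w, J.mul_mem_left _ hwJ, ?_⟩
    have e1 : (C (algebraMap R p.ResidueField (s' * s)) : MvPolynomial (Fin n) p.ResidueField) =
        C (algebraMap R p.ResidueField s') * C (algebraMap R p.ResidueField s) := by
      rw [map_mul, C_mul]
    rw [map_mul, ha', hw, e1, smul_eq_mul]
    generalize (C (algebraMap R p.ResidueField s') : MvPolynomial (Fin n) p.ResidueField) = c'
    generalize (C (algebraMap R p.ResidueField s) : MvPolynomial (Fin n) p.ResidueField) = c
    rw [mul_assoc, mul_assoc, mul_left_comm a c x]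

/-- primes of `κ(p)[x]` are determined by their contraction to `R[x]` -/
theorem prime_le_of_comap_le (Q₁ Q₂ : Ideal (MvPolynomial (Fin n) p.ResidueField)) [Q₂.IsPrime]
    (h : Q₁.comap (map (algebraMap R p.ResidueField)) ≤
      Q₂.comap (map (algebraMap R p.ResidueField))) : Q₁ ≤ Q₂ := by
  intro z hz
  obtain ⟨s, hs, w, hw⟩ := den_poly p n z
  have h1 : w ∈ Q₁.comap (map (algebraMap R p.ResidueField)) := by
    rw [Ideal.mem_comap, hw]
    exact Q₁.mul_mem_left _ hz
  have h2 := h h1
  rw [Ideal.mem_comap, hw] at h2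
  exact (Ideal.unit_mul_mem_iff_mem Q₂ (isUnit_C p n s hs)).mp h2

theorem prime_eq_of_comap_eq (Q₁ Q₂ : Ideal (MvPolynomial (Fin n) p.ResidueField)) [Q₁.IsPrime]
    [Q₂.IsPrime]
    (h : Q₁.comap (map (algebraMap R p.ResidueField)) =
      Q₂.comap (map (algebraMap R p.ResidueField))) : Q₁ = Q₂ :=
  le_antisymm (prime_le_of_comap_le p n Q₁ Q₂ h.le) (prime_le_of_comap_le p n Q₂ Q₁ h.ge)

theorem ker_map_residueField :
    RingHom.ker (map (algebraMap R p.ResidueField) :
      MvPolynomial (Fin n) R →+* MvPolynomial (Fin n) p.ResidueField) = p.map C := by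
  rw [MvPolynomial.ker_map, Ideal.ker_algebraMap_residueField]

/-- a prime of `R[x]` over `p` comes from a prime of `κ(p)[x]` -/
theorem exists_prime_comap (q' : Ideal (MvPolynomial (Fin n) R)) [q'.IsPrime]
    (hp : q'.comap (algebraMap R (MvPolynomial (Fin n) R)) = p) :
    ∃ Q : Ideal (MvPolynomial (Fin n) p.ResidueField), Q.IsPrime ∧
      Q.comap (map (algebraMap R p.ResidueField)) = q' := by
  let σ : p.ResidueField →+* q'.ResidueField :=
    Ideal.ResidueField.map p q' (algebraMap R (MvPolynomial (Fin n) R)) hp.symm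
  let θ : MvPolynomial (Fin n) p.ResidueField →+* q'.ResidueField :=
    eval₂Hom σ (fun i => algebraMap (MvPolynomial (Fin n) R) q'.ResidueField (X i))
  have hθ : θ.comp (map (algebraMap R p.ResidueField)) =
      algebraMap (MvPolynomial (Fin n) R) q'.ResidueField := by
    apply MvPolynomial.ringHom_ext
    · intro r
      show θ (map (algebraMap R p.ResidueField) (C r)) = _
      rw [map_C]
      show eval₂Hom σ _ (C _) = _
      rw [eval₂Hom_C]
      exact Ideal.ResidueField.map_algebraMap p q' _ hp.symm r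
    · intro i
      show θ (map (algebraMap R p.ResidueField) (X i)) = _
      rw [map_X]
      show eval₂Hom σ _ (X i) = _
      rw [eval₂Hom_X']
  refine ⟨RingHom.ker θ, RingHom.ker_isPrime θ, ?_⟩
  rw [RingHom.comap_ker, hθ, Ideal.ker_algebraMap_residueField]

end ResidueField


section Fibre

variable (R : Type u) [CommRing R] (n m : ℕ) (J : Fin m → MvPolynomial (Fin n) R)
  (κ : Type u) [Field κ] [Algebra R κ]

/-- the canonical map `κ[x] → κ ⊗ R[x]/(J)` -/
noncomputable def phiT : MvPolynomial (Fin n) κ →ₐ[κ] κ ⊗[R] Synt.RelGCIRing R n m J :=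
  MvPolynomial.aeval ((Algebra.Presentation.naive (v := J)).baseChange κ).val

theorem phiT_surjective : Function.Surjective (phiT R n m J κ) :=
  ((Algebra.Presentation.naive (v := J)).baseChange κ).aeval_val_surjective

theorem ker_phiT : RingHom.ker (phiT R n m J κ) =
    Ideal.span (Set.range fun i => map (algebraMap R κ) (J i)) :=
  ((Algebra.Presentation.naive (v := J)).span_range_relation_eq_ker_baseChange κ).symm

theorem phiT_map (y : MvPolynomial (Fin n) R) :
    phiT R n m J κ (map (algebraMap R κ) y) =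
      (1 : κ) ⊗ₜ[R] (Ideal.Quotient.mk (Ideal.span (Set.range J)) y) := by
  unfold phiT
  rw [aeval_map_algebraMap κ]
  have h : (MvPolynomial.aeval (R := R)
      ((Algebra.Presentation.naive (v := J)).baseChange κ).val) =
      (Algebra.TensorProduct.includeRight :
        Synt.RelGCIRing R n m J →ₐ[R] κ ⊗[R] Synt.RelGCIRing R n m J).comp
        (Ideal.Quotient.mkₐ R (Ideal.span (Set.range J))) := by
    apply MvPolynomial.algHom_ext
    intro i
    rw [aeval_X]
    rfl
  rw [h]
  rfl

/-- the fibre of a presented algebra -/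
noncomputable def fibEquiv :
    (MvPolynomial (Fin n) κ ⧸ Ideal.span (Set.range fun i => map (algebraMap R κ) (J i))) ≃ₐ[κ]
      κ ⊗[R] Synt.RelGCIRing R n m J :=
  (Ideal.quotientEquivAlgOfEq κ (ker_phiT R n m J κ).symm).trans
    (Ideal.quotientKerAlgEquivOfSurjective (phiT_surjective R n m J κ))

theorem fibEquiv_mk (z : MvPolynomial (Fin n) κ) :
    fibEquiv R n m J κ (Ideal.Quotient.mk _ z) = phiT R n m J κ z := rfl

theorem isLCIOver_fibre (p : Ideal R) [p.IsPrime]
    (h : Synt.IsSyntomic R (Synt.RelGCIRing R n m J)) :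
    Synt.IsLCIOver p.ResidueField (MvPolynomial (Fin n) p.ResidueField ⧸
      Ideal.span (Set.range fun i => map (algebraMap R p.ResidueField) (J i))) :=
  Groth.Agent.Lib.Helper6.SyntCover.isLCIOver_of_algEquiv (fibEquiv R n m J p.ResidueField).symm
    (h.2.2 ⟨p, inferInstance⟩)

/-- the fibre dimension at a point of a presented algebra, computed in `κ(p)[x]/(J)` -/
theorem topFibreDim_relGCI (p : Ideal R) [p.IsPrime]
    (q : PrimeSpectrum (Synt.RelGCIRing R n m J))
    (hp : (PrimeSpectrum.comap (algebraMap R (Synt.RelGCIRing R n m J)) q).asIdeal = p) :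
    ∃ 𝔮 : PrimeSpectrum (MvPolynomial (Fin n) p.ResidueField ⧸
        Ideal.span (Set.range fun i => map (algebraMap R p.ResidueField) (J i))),
      (𝔮.asIdeal.comap (Ideal.Quotient.mk _)).comap (map (algebraMap R p.ResidueField)) =
        q.asIdeal.comap (Ideal.Quotient.mk (Ideal.span (Set.range J))) ∧
      TopFibreDim.topFibreDim (PrimeSpectrum.comap (algebraMap R (Synt.RelGCIRing R n m J))) q =
        ((Order.height 𝔮 + Order.coheight 𝔮 : ℕ∞) : WithBot ℕ∞) := by
  subst hp
  obtain ⟨Y, hY⟩ : ∃ Y, Y = PrimeSpectrum.preimageHomeomorphFiber R (Synt.RelGCIRing R n m J)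
      (PrimeSpectrum.comap (algebraMap R (Synt.RelGCIRing R n m J)) q) ⟨q, rfl⟩ := ⟨_, rfl⟩
  have h1 : PrimeSpectrum.comap (Algebra.TensorProduct.includeRight :
      Synt.RelGCIRing R n m J →ₐ[R] _).toRingHom Y = q := by
    rw [hY]
    exact Chevalley.comap_includeRight_apply _ q rfl
  refine ⟨(PrimeSpectrum.comapEquiv (fibEquiv R n m J _).toRingEquiv).symm Y, ?_, ?_⟩
  · ext y
    have h2 : fibEquiv R n m J _ (Ideal.Quotient.mk _ (map (algebraMap R _) y)) =
        (1 : (PrimeSpectrum.comap (algebraMap R (Synt.RelGCIRing R n m J))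
          q).asIdeal.ResidueField) ⊗ₜ[R] (Ideal.Quotient.mk (Ideal.span (Set.range J)) y) :=
      (fibEquiv_mk R n m J _ _).trans (phiT_map R n m J _ y)
    have h3 : (Ideal.Quotient.mk (Ideal.span (Set.range J)) y ∈ q.asIdeal) =
        (((1 : (PrimeSpectrum.comap (algebraMap R (Synt.RelGCIRing R n m J))
          q).asIdeal.ResidueField) ⊗ₜ[R] (Ideal.Quotient.mk (Ideal.span (Set.range J)) y)) ∈
            Y.asIdeal) :=
      (congrArg (fun z : PrimeSpectrum (Synt.RelGCIRing R n m J) =>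
        Ideal.Quotient.mk (Ideal.span (Set.range J)) y ∈ z.asIdeal) h1).symm
    rw [Ideal.mem_comap, Ideal.mem_comap, Ideal.mem_comap, h3, ← h2]
    rfl
  · have hloc := DimFT2.localDim_primeSpectrum
      (PrimeSpectrum.comap (algebraMap R (Synt.RelGCIRing R n m J)) q).asIdeal.ResidueField
      ((PrimeSpectrum.comap (algebraMap R (Synt.RelGCIRing R n m J)) q).asIdeal.Fiber
        (Synt.RelGCIRing R n m J)) Y
    rw [FibreLocDim.topFibreDim_eq, ← hY, Order.height_orderIso, Order.coheight_orderIso]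
    exact hloc

end Fibre

section FieldLocLen

variable (k : Type u) [Field k] (n : ℕ) (I : Ideal (MvPolynomial (Fin n) k))
  (q : Ideal (MvPolynomial (Fin n) k ⧸ I)) [q.IsPrime]

/-- LCI over a field: the ideal of relations is locally generated by a Koszul-regular
sequence. -/
theorem exists_locLen (h : Synt.IsLCIOver k (MvPolynomial (Fin n) k ⧸ I)) :
    ∃ N : ℕ, KDesc.LocLen I (q.comap (Ideal.Quotient.mk I)) N := by
  obtain ⟨g, hg, hci⟩ := h.2 ⟨q, inferInstance⟩
  haveI hnt : Nontrivial (Localization.Away g) := CIGen.nontrivial_away q g hg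
  have hlci := CIGen.isLCI_of_isGlobalCI k (Localization.Away g) hci
  obtain ⟨G₀, rfl⟩ := Ideal.Quotient.mk_surjective g
  have hIQ := CIGen.le_comap_mk k n I q
  have hkerα : RingHom.ker (Ideal.Quotient.mkₐ k I).toRingHom = I := by
    ext x
    rw [RingHom.mem_ker]
    exact Ideal.Quotient.eq_zero_iff_mem
  haveI : IsLocalization.Away ((Ideal.Quotient.mkₐ k I) G₀)
      (Localization.Away (Ideal.Quotient.mk I G₀)) :=
    (inferInstance : IsLocalization.Away (Ideal.Quotient.mk I G₀)
      (Localization.Away (Ideal.Quotient.mk I G₀)))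
  obtain ⟨G, hG, N, hnear⟩ := KRegIdeal.exists_isKRegNear_of_isLCI_away k
    (MvPolynomial (Fin n) k ⧸ I) n (Ideal.Quotient.mkₐ k I) Ideal.Quotient.mk_surjective G₀
    (Localization.Away (Ideal.Quotient.mk I G₀)) hlci
    (q.comap (Ideal.Quotient.mk I)) (by rw [hkerα]; exact hIQ) hg
  rw [hkerα] at hnear
  exact ⟨N, KDesc.IsKRegNear.locLen hnear _ hG⟩

end FieldLocLen

section LocLenGen

theorem locLen_congr {B : Type u} [CommRing B] (J : Ideal B) (q q' : Ideal B) [q.IsPrime]
    [q'.IsPrime] (h : q = q') (N : ℕ) (hL : KDesc.LocLen J q N) : KDesc.LocLen J q' N := by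
  subst h
  exact hL

/-- the dimension formula for a local Koszul-regular presentation -/
theorem height_of_locLen {P : Type u} [CommRing P] [IsNoetherianRing P] (I Q : Ideal P)
    [Q.IsPrime] (hIQ : I ≤ Q) (N : ℕ) (h : KDesc.LocLen I Q N) :
    (N : ℕ∞) + (Q.map (Ideal.Quotient.mk I)).height = Q.height := by
  haveI : IsNoetherianRing (Localization.AtPrime Q) :=
    IsLocalization.isNoetherianRing Q.primeCompl _ inferInstance
  obtain ⟨l, hlen, hl, hJ⟩ := h
  have hm : ∀ r ∈ l, r ∈ IsLocalRing.maximalIdeal (Localization.AtPrime Q) := by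
    intro r hr
    apply CIGen.map_le_maximalIdeal I Q hIQ
    rw [hJ]
    exact Ideal.subset_span hr
  have hw := CIGen.isWeaklyRegular_of_koszul l hl hm
  have hreg := CIGen.isRegular_of_weak I Q hIQ l hw hJ.symm
  have hdim := ringKrullDim_add_length_eq_ringKrullDim_of_isRegular l hreg
  rw [ringKrullDim_eq_of_ringEquiv (Ideal.quotEquivOfEq hJ.symm),
    CIGen.ringKrullDim_locQuot I Q hIQ,
    IsLocalization.AtPrime.ringKrullDim_eq_height Q (Localization.AtPrime Q)] at hdim
  have hQfin : Q.height ≠ ⊤ := Ideal.height_ne_top (Ideal.IsPrime.ne_top inferInstance)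
  obtain ⟨a, ha⟩ := ENat.ne_top_iff_exists.mp hQfin
  haveI hQ' : (Q.map (Ideal.Quotient.mk I)).IsPrime :=
    Ideal.map_isPrime_of_surjective Ideal.Quotient.mk_surjective (by rwa [Ideal.mk_ker])
  have hQ'fin : (Q.map (Ideal.Quotient.mk I)).height ≠ ⊤ :=
    Ideal.height_ne_top (Ideal.IsPrime.ne_top hQ')
  obtain ⟨b, hb⟩ := ENat.ne_top_iff_exists.mp hQ'fin
  rw [← ha, ← hb] at hdim
  rw [← ha, ← hb, ← hlen]
  have h1 : b + l.length = a := by exact_mod_cast hdim
  have h2 : l.length + b = a := by omega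
  exact_mod_cast h2

theorem ofList_map_eq_span_range {A B : Type*} [CommRing A] [CommRing B] (g : A → B)
    (f : List A) : Ideal.ofList (f.map g) = Ideal.span (Set.range fun i => g (f.get i)) := by
  unfold Ideal.ofList
  congr 1
  ext x
  simp only [Set.mem_ofPred_eq, List.mem_map, Set.mem_range]
  constructor
  · rintro ⟨a, ha, rfl⟩
    obtain ⟨i, rfl⟩ := List.mem_iff_get.mp ha
    exact ⟨i, rfl⟩
  · rintro ⟨i, rfl⟩
    exact ⟨f.get i, List.get_mem f i, rfl⟩

/-- generators of `I B_𝔔` coming from `I`, for a ring map `μ : A → B` -/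
theorem exists_generators_map {A B : Type u} [CommRing A] [CommRing B] (μ : A →+* B)
    (I : Ideal A) (𝔔 : Ideal B) [𝔔.IsPrime] (N : ℕ) (h : KDesc.LocLen (I.map μ) 𝔔 N) :
    ∃ f : List A, f.length = N ∧ (∀ x ∈ f, x ∈ I) ∧
      (I.map μ).map (algebraMap B (Localization.AtPrime 𝔔)) =
        Ideal.ofList (f.map (fun a => algebraMap B (Localization.AtPrime 𝔔) (μ a))) := by
  letI : Algebra A B := μ.toAlgebra
  obtain ⟨f, hlen, hfI, hgen⟩ := KDesc.LocLen.exists_generators I 𝔔 N h
  refine ⟨f, hlen, hfI, ?_⟩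
  rw [Ideal.map_map]
  have e : algebraMap A (Localization.AtPrime 𝔔) =
      (algebraMap B (Localization.AtPrime 𝔔)).comp μ :=
    IsScalarTower.algebraMap_eq A B _
  rw [e] at hgen
  exact hgen

end LocLenGen


section Main

variable (R : Type u) [CommRing R] (n m : ℕ) (b : Fin m → MvPolynomial (Fin n) R)

/-- D1: local generators of the fibre ideal coming from `(b)`. -/
theorem exists_gens_fibre (p : Ideal R) [p.IsPrime]
    (hsynt : Synt.IsSyntomic R (Synt.RelGCIRing R n m b))
    (q : Ideal (Synt.RelGCIRing R n m b)) [q.IsPrime]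
    (hp : q.comap (algebraMap R (Synt.RelGCIRing R n m b)) = p) :
    ∃ (𝔔 : Ideal (MvPolynomial (Fin n) p.ResidueField)) (_ : 𝔔.IsPrime)
      (f : List (MvPolynomial (Fin n) R)),
      𝔔.comap (map (algebraMap R p.ResidueField)) =
        q.comap (Ideal.Quotient.mk (Ideal.span (Set.range b))) ∧
      (∀ x ∈ f, x ∈ Ideal.span (Set.range b)) ∧
      KDesc.LocLen (Ideal.span (Set.range fun i => map (algebraMap R p.ResidueField) (f.get i)))
        𝔔 f.length ∧
      (Ideal.span (Set.range fun i => map (algebraMap R p.ResidueField) (f.get i))).map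
          (algebraMap _ (Localization.AtPrime 𝔔)) =
        (Ideal.span (Set.range fun i => map (algebraMap R p.ResidueField) (b i))).map
          (algebraMap _ (Localization.AtPrime 𝔔)) := by
  classical
  have hq'p : (q.comap (Ideal.Quotient.mk (Ideal.span (Set.range b)))).comap
      (algebraMap R (MvPolynomial (Fin n) R)) = p := by
    rw [← hp, Ideal.comap_comap]
    rfl
  obtain ⟨𝔔₀, h𝔔₀p, h𝔔₀⟩ := exists_prime_comap p n
    (q.comap (Ideal.Quotient.mk (Ideal.span (Set.range b)))) hq'p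
  haveI := h𝔔₀p
  obtain ⟨Ibar, hIbar⟩ : ∃ Ibar : Ideal (MvPolynomial (Fin n) p.ResidueField), Ibar =
    Ideal.span (Set.range fun i => map (algebraMap R p.ResidueField) (b i)) := ⟨_, rfl⟩
  have hIle : Ibar ≤ 𝔔₀ := by
    rw [hIbar, Ideal.span_le]
    rintro _ ⟨i, rfl⟩
    have h1 : b i ∈ 𝔔₀.comap (map (algebraMap R p.ResidueField)) := by
      rw [h𝔔₀, Ideal.mem_comap,
        Ideal.Quotient.eq_zero_iff_mem.mpr (Ideal.subset_span (Set.mem_range_self i))]
      exact q.zero_mem
    exact h1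
  have hlci : Synt.IsLCIOver p.ResidueField (MvPolynomial (Fin n) p.ResidueField ⧸ Ibar) := by
    rw [hIbar]
    exact isLCIOver_fibre R n m b p hsynt
  have hsurj : Function.Surjective (Ideal.Quotient.mk Ibar) := Ideal.Quotient.mk_surjective
  haveI hQ₁ : (𝔔₀.map (Ideal.Quotient.mk Ibar)).IsPrime :=
    Ideal.map_isPrime_of_surjective hsurj (by rwa [Ideal.mk_ker])
  have hcomap : (𝔔₀.map (Ideal.Quotient.mk Ibar)).comap (Ideal.Quotient.mk Ibar) = 𝔔₀ := by
    rw [Ideal.comap_map_of_surjective _ hsurj, ← RingHom.ker_eq_comap_bot, Ideal.mk_ker,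
      sup_eq_left.mpr hIle]
  obtain ⟨N, hLL⟩ := exists_locLen p.ResidueField n Ibar (𝔔₀.map (Ideal.Quotient.mk Ibar)) hlci
  have hLL₀ : KDesc.LocLen Ibar 𝔔₀ N := locLen_congr _ _ _ hcomap N hLL
  refine ⟨𝔔₀, h𝔔₀p, ?_⟩
  have hImap : (Ideal.span (Set.range b)).map (map (algebraMap R p.ResidueField)) = Ibar := by
    rw [hIbar, Ideal.map_span, ← Set.range_comp]
    rfl
  have hLL₁ : KDesc.LocLen
      ((Ideal.span (Set.range b)).map (map (algebraMap R p.ResidueField))) 𝔔₀ N := by
    rw [hImap]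
    exact hLL₀
  obtain ⟨f, rfl, hfI, hgen⟩ := exists_generators_map (map (algebraMap R p.ResidueField))
    (Ideal.span (Set.range b)) 𝔔₀ _ hLL₁
  rw [hImap] at hgen
  have hF : (Ideal.span (Set.range fun i => map (algebraMap R p.ResidueField) (f.get i))).map
      (algebraMap _ (Localization.AtPrime 𝔔₀)) = Ibar.map (algebraMap _ _) := by
    rw [hgen, ofList_map_eq_span_range, Ideal.map_span, ← Set.range_comp]
    rfl
  refine ⟨f, h𝔔₀, hfI, ?_, ?_⟩
  · obtain ⟨l, hlen, hl, hJ⟩ := hLL₀
    exact ⟨l, hlen, hl, hF.trans hJ⟩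
  · rw [← hIbar]
    exact hF

/-- D2: the key membership. -/
theorem key_mem {R : Type u} [CommRing R] (p : Ideal R) [p.IsPrime] (n : ℕ)
    (q' : Ideal (MvPolynomial (Fin n) R))
    (𝔔 : Ideal (MvPolynomial (Fin n) p.ResidueField)) [𝔔.IsPrime]
    (h𝔔 : 𝔔.comap (map (algebraMap R p.ResidueField)) = q')
    (I F : Ideal (MvPolynomial (Fin n) R))
    (hFI : (F.map (map (algebraMap R p.ResidueField))).map
        (algebraMap _ (Localization.AtPrime 𝔔)) =
      (I.map (map (algebraMap R p.ResidueField))).map (algebraMap _ (Localization.AtPrime 𝔔)))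
    (y : MvPolynomial (Fin n) R) (hy : y ∈ I) :
    ∃ G' : MvPolynomial (Fin n) R, G' ∉ q' ∧ G' * y ∈ F ⊔ p.map C := by
  classical
  haveI hq'prime : q'.IsPrime := by rw [← h𝔔]; infer_instance
  have h1 : algebraMap _ (Localization.AtPrime 𝔔) (map (algebraMap R p.ResidueField) y) ∈
      (F.map (map (algebraMap R p.ResidueField))).map
        (algebraMap _ (Localization.AtPrime 𝔔)) := by
    rw [hFI]
    exact Ideal.mem_map_of_mem _ (Ideal.mem_map_of_mem _ hy)
  obtain ⟨G₀, hG₀, hG₀y⟩ := exists_notMem_mul_mem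
    (F.map (map (algebraMap R p.ResidueField))) 𝔔 (map (algebraMap R p.ResidueField) y) h1
  obtain ⟨s, hs, w, hw⟩ := den_poly p n G₀
  have hwq : w ∉ q' := by
    intro hmem
    rw [← h𝔔, Ideal.mem_comap, hw] at hmem
    exact hG₀ ((Ideal.unit_mul_mem_iff_mem 𝔔 (isUnit_C p n s hs)).mp hmem)
  have h2 : map (algebraMap R p.ResidueField) (w * y) ∈
      F.map (map (algebraMap R p.ResidueField)) := by
    rw [map_mul, hw, mul_assoc]
    exact Ideal.mul_mem_left _ _ hG₀y
  obtain ⟨s', hs', w', hw'F, hw'⟩ := den_ideal p n F _ h2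
  have hCs' : (C s' : MvPolynomial (Fin n) R) ∉ q' := by
    intro hmem
    rw [← h𝔔, Ideal.mem_comap, map_C] at hmem
    exact (Ideal.IsPrime.ne_top inferInstance)
      (Ideal.eq_top_of_isUnit_mem _ hmem (isUnit_C p n s' hs'))
  refine ⟨C s' * w, ?_, ?_⟩
  · intro hmem
    rcases Ideal.IsPrime.mem_or_mem hq'prime hmem with h | h
    · exact hCs' h
    · exact hwq h
  · have hker : C s' * w * y - w' ∈ p.map (C : R →+* MvPolynomial (Fin n) R) := by
      rw [← ker_map_residueField p n, RingHom.mem_ker, map_sub, hw', mul_assoc, map_mul, map_C,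
        sub_self]
    have hdec : C s' * w * y = w' + (C s' * w * y - w') := by ring
    rw [hdec]
    exact Ideal.add_mem _ (Ideal.mem_sup_left hw'F) (Ideal.mem_sup_right hker)

/-- D3a: the quotient map `R[x]/(F) → R[x]/(b)` is a local isomorphism at `q`. -/
theorem local_iso (c : ℕ) (F : Fin c → MvPolynomial (Fin n) R)
    (φ : Synt.RelGCIRing R n c F →ₐ[R] Synt.RelGCIRing R n m b)
    (hφ : ∀ y, φ (Ideal.Quotient.mk _ y) = Ideal.Quotient.mk _ y)
    [Module.Flat R (Synt.RelGCIRing R n m b)]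
    [Algebra.FinitePresentation R (Synt.RelGCIRing R n m b)]
    (q : Ideal (Synt.RelGCIRing R n m b)) [q.IsPrime] (p : Ideal R)
    (hp : q.comap (algebraMap R (Synt.RelGCIRing R n m b)) = p)
    (hkey : ∀ y ∈ Ideal.span (Set.range b), ∃ G' : MvPolynomial (Fin n) R,
      G' ∉ q.comap (Ideal.Quotient.mk (Ideal.span (Set.range b))) ∧
        G' * y ∈ Ideal.span (Set.range F) ⊔ p.map C) :
    ∃ g : Synt.RelGCIRing R n c F, g ∉ q.comap φ ∧
      Function.Bijective (Localization.awayMap φ.toRingHom g) := by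
  haveI : Algebra.FiniteType R (Synt.RelGCIRing R n c F) :=
    Algebra.FiniteType.of_surjective (Ideal.Quotient.mkₐ R _) (Ideal.Quotient.mkₐ_surjective R _)
  have hsurj : Function.Surjective φ := by
    intro z
    obtain ⟨y, rfl⟩ := Ideal.Quotient.mk_surjective z
    exact ⟨Ideal.Quotient.mk _ y, hφ y⟩
  refine Groth.Agent.Lib.Helper14.exists_awayMap_bijective_of_iso_mod_ideal_of_flat R
    (Synt.RelGCIRing R n c F) (Synt.RelGCIRing R n m b) p φ hsurj (q.comap φ) ?_ ?_ ?_
  · rw [Ideal.map_le_iff_le_comap]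
    intro r hr
    rw [Ideal.mem_comap, Ideal.mem_comap, AlgHom.commutes]
    rw [← hp] at hr
    exact hr
  · intro j hj
    obtain ⟨y, rfl⟩ := Ideal.Quotient.mk_surjective j
    have hy : y ∈ Ideal.span (Set.range b) := by
      rw [hφ] at hj
      exact Ideal.Quotient.eq_zero_iff_mem.mp hj
    obtain ⟨G', hG', hG'y⟩ := hkey y hy
    obtain ⟨a, ha, d, hd, had⟩ := Submodule.mem_sup.mp hG'y
    have hGq : Ideal.Quotient.mk (Ideal.span (Set.range F)) G' ∉ q.comap φ := by
      intro hmem
      rw [Ideal.mem_comap, hφ] at hmem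
      exact hG' hmem
    have hmem1 : Ideal.Quotient.mk (Ideal.span (Set.range F)) (G' * y) ∈
        p.map (algebraMap R (Synt.RelGCIRing R n c F)) := by
      rw [← had, map_add, Ideal.Quotient.eq_zero_iff_mem.mpr ha, zero_add]
      have h3 : (p.map (C : R →+* MvPolynomial (Fin n) R)).map
          (Ideal.Quotient.mk (Ideal.span (Set.range F))) =
          p.map (algebraMap R (Synt.RelGCIRing R n c F)) := by
        rw [Ideal.map_map]
        rfl
      rw [← h3]
      exact Ideal.mem_map_of_mem _ hd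
    have hmem2 : algebraMap _ (Localization.AtPrime (q.comap φ))
        (Ideal.Quotient.mk (Ideal.span (Set.range F)) (G' * y)) ∈
        p.map (algebraMap R (Localization.AtPrime (q.comap φ))) := by
      rw [IsScalarTower.algebraMap_eq R (Synt.RelGCIRing R n c F)
        (Localization.AtPrime (q.comap φ)), ← Ideal.map_map]
      exact Ideal.mem_map_of_mem _ hmem1
    rw [map_mul, map_mul] at hmem2
    have hunit : IsUnit (algebraMap (Synt.RelGCIRing R n c F) (Localization.AtPrime (q.comap φ))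
        (Ideal.Quotient.mk (Ideal.span (Set.range F)) G')) :=
      IsLocalization.map_units (Localization.AtPrime (q.comap φ))
        (⟨_, hGq⟩ : (q.comap φ).primeCompl)
    exact (Ideal.unit_mul_mem_iff_mem _ hunit).mp hmem2
  · letI : Module (Synt.RelGCIRing R n c F) (Synt.RelGCIRing R n m b) :=
      φ.toRingHom.toModule
    haveI : IsScalarTower R (Synt.RelGCIRing R n c F) (Synt.RelGCIRing R n m b) :=
      ⟨fun r s x => by
        show φ (r • s) * x = r • (φ s * x)
        rw [map_smul, smul_mul_assoc]⟩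
    exact flat_localizedModule (q.comap φ).primeCompl

/-- D3b: the fibre dimension at a point where the fibre ideal is locally generated by a
Koszul-regular sequence of length `c`. -/
theorem topFibreDim_eq_of_locLen (p : Ideal R) [p.IsPrime] (c : ℕ)
    (F : Fin c → MvPolynomial (Fin n) R)
    (q₉ : PrimeSpectrum (Synt.RelGCIRing R n c F))
    (hp : (PrimeSpectrum.comap (algebraMap R (Synt.RelGCIRing R n c F)) q₉).asIdeal = p)
    (𝔔 : Ideal (MvPolynomial (Fin n) p.ResidueField)) [𝔔.IsPrime]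
    (h𝔔 : 𝔔.comap (map (algebraMap R p.ResidueField)) =
      q₉.asIdeal.comap (Ideal.Quotient.mk (Ideal.span (Set.range F))))
    (hLL : KDesc.LocLen
      (Ideal.span (Set.range fun i => map (algebraMap R p.ResidueField) (F i))) 𝔔 c) :
    c ≤ n ∧
      TopFibreDim.topFibreDim (PrimeSpectrum.comap (algebraMap R (Synt.RelGCIRing R n c F))) q₉ =
        ((n - c : ℕ) : WithBot ℕ∞) := by
  obtain ⟨𝔮, h𝔮, hdim⟩ := topFibreDim_relGCI R n c F p q₉ hp
  haveI := 𝔮.isPrime
  have h1 : 𝔮.asIdeal.comap (Ideal.Quotient.mk _) = 𝔔 :=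
    prime_eq_of_comap_eq p n _ _ (h𝔮.trans h𝔔.symm)
  have hFle : Ideal.span (Set.range fun i => map (algebraMap R p.ResidueField) (F i)) ≤ 𝔔 := by
    rw [← h1]
    exact CIGen.le_comap_mk p.ResidueField n _ 𝔮.asIdeal
  have h2 : 𝔔.map (Ideal.Quotient.mk
      (Ideal.span (Set.range fun i => map (algebraMap R p.ResidueField) (F i)))) =
      𝔮.asIdeal := by
    rw [← h1]
    exact Ideal.map_comap_of_surjective _ Ideal.Quotient.mk_surjective _
  have h3 := height_of_locLen _ 𝔔 hFle c hLL
  rw [h2, ← h1] at h3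
  obtain ⟨hcn, hsum⟩ := CIGen.height_add_coheight_eq p.ResidueField n _ 𝔮.asIdeal c h3
  refine ⟨hcn, ?_⟩
  rw [hdim]
  have hsum' : Order.height 𝔮 + Order.coheight 𝔮 = ((n - c : ℕ) : ℕ∞) := hsum
  rw [hsum']
  rfl

/-- D3c: a syntomic algebra presented as `R[x]/(b)` is, near any prime, a relative global
complete intersection. -/
theorem exists_relGCI_away_of_quot (hsynt : Synt.IsSyntomic R (Synt.RelGCIRing R n m b))
    (q : Ideal (Synt.RelGCIRing R n m b)) [q.IsPrime] :
    ∃ g : Synt.RelGCIRing R n m b, g ∉ q ∧ ∃ (N K : ℕ) (G : Fin K → MvPolynomial (Fin N) R),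
      Synt.IsRelGCI R N K G ∧
        Nonempty (Localization.Away g ≃ₐ[R] Synt.RelGCIRing R N K G) := by
  classical
  obtain ⟨p, hp⟩ : ∃ p, q.comap (algebraMap R (Synt.RelGCIRing R n m b)) = p := ⟨_, rfl⟩
  haveI : p.IsPrime := by rw [← hp]; infer_instance
  obtain ⟨𝔔, h𝔔p, f, h𝔔, hfI, hLL, hFI⟩ := exists_gens_fibre R n m b p hsynt q hp
  haveI := h𝔔p
  have hle : Ideal.span (Set.range f.get) ≤ Ideal.span (Set.range b) := by
    rw [Ideal.span_le]
    rintro _ ⟨i, rfl⟩
    exact hfI _ (List.get_mem f i)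
  haveI := hsynt.1
  haveI := hsynt.2.1
  have hkey : ∀ y ∈ Ideal.span (Set.range b), ∃ G' : MvPolynomial (Fin n) R,
      G' ∉ q.comap (Ideal.Quotient.mk (Ideal.span (Set.range b))) ∧
        G' * y ∈ Ideal.span (Set.range f.get) ⊔ p.map C := by
    intro y hy
    refine key_mem p n _ 𝔔 h𝔔 (Ideal.span (Set.range b)) (Ideal.span (Set.range f.get)) ?_ y hy
    have e1 : ∀ {k : ℕ} (v : Fin k → MvPolynomial (Fin n) R),
        (Ideal.span (Set.range v)).map (map (algebraMap R p.ResidueField)) =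
          Ideal.span (Set.range fun i => map (algebraMap R p.ResidueField) (v i)) := by
      intro k v
      rw [Ideal.map_span, ← Set.range_comp]
      rfl
    rw [e1, e1]
    exact hFI
  obtain ⟨φ₉, hφ₉⟩ : ∃ φ₉ : Synt.RelGCIRing R n f.length f.get →ₐ[R] Synt.RelGCIRing R n m b,
      ∀ y, φ₉ (Ideal.Quotient.mk _ y) = Ideal.Quotient.mk _ y :=
    ⟨Ideal.Quotient.factorₐ R hle, fun y => rfl⟩
  obtain ⟨g₉, hg₉, hbij⟩ := local_iso R n m b f.length f.get φ₉ hφ₉ q p hp hkey
  have hp₉ : (PrimeSpectrum.comap (algebraMap R (Synt.RelGCIRing R n f.length f.get))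
      (⟨q.comap φ₉, inferInstance⟩ : PrimeSpectrum (Synt.RelGCIRing R n f.length f.get))).asIdeal =
      p := by
    rw [← hp]
    ext r
    show φ₉ (algebraMap R _ r) ∈ q ↔ algebraMap R _ r ∈ q
    rw [AlgHom.commutes]
  have h𝔔₉ : 𝔔.comap (map (algebraMap R p.ResidueField)) =
      (⟨q.comap φ₉, inferInstance⟩ :
        PrimeSpectrum (Synt.RelGCIRing R n f.length f.get)).asIdeal.comap
        (Ideal.Quotient.mk (Ideal.span (Set.range f.get))) := by
    rw [h𝔔]
    ext y
    show Ideal.Quotient.mk _ y ∈ q ↔ φ₉ (Ideal.Quotient.mk _ y) ∈ q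
    rw [hφ₉]
  obtain ⟨hcn, hdim⟩ := topFibreDim_eq_of_locLen R n p f.length f.get _ hp₉ 𝔔 h𝔔₉ hLL
  have hopen := FibreLocDim.isOpen_set R (Synt.RelGCIRing R n f.length f.get) (n - f.length)
  obtain ⟨_, ⟨g₂, rfl⟩, hq₉g₂, hsub⟩ :=
    PrimeSpectrum.isTopologicalBasis_basic_opens.exists_subset_of_mem_open
      (show (⟨q.comap φ₉, inferInstance⟩ : PrimeSpectrum (Synt.RelGCIRing R n f.length f.get)) ∈
        {q' : PrimeSpectrum (Synt.RelGCIRing R n f.length f.get) |
          TopFibreDim.topFibreDim (PrimeSpectrum.comap (algebraMap R _)) q' ≤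
            ((n - f.length : ℕ) : WithBot ℕ∞)} from hdim.le) hopen
  have hg₂ : g₂ ∉ q.comap φ₉ := hq₉g₂
  obtain ⟨g, hg_def⟩ : ∃ g, g = g₉ * g₂ := ⟨_, rfl⟩
  have hgq : g ∉ q.comap φ₉ := by
    rw [hg_def]
    exact fun h => (Ideal.IsPrime.mem_or_mem inferInstance h).elim hg₉ hg₂
  have hbij' : Function.Bijective (Localization.awayMap φ₉.toRingHom g) := by
    rw [hg_def]
    exact Localization.awayMap_bijective_of_dvd _ (Dvd.intro _ rfl) hbij
  have hU : ∀ q' : PrimeSpectrum (Synt.RelGCIRing R n f.length f.get), g ∉ q'.asIdeal →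
      TopFibreDim.topFibreDim (PrimeSpectrum.comap (algebraMap R _)) q' ≤
        ((n - f.length : ℕ) : WithBot ℕ∞) := by
    intro q' hq'
    apply hsub
    show g₂ ∉ q'.asIdeal
    intro h2
    exact hq' (by rw [hg_def]; exact Ideal.mul_mem_left _ _ h2)
  obtain ⟨h, rfl⟩ := Ideal.Quotient.mk_surjective g
  obtain ⟨e₂⟩ := RelGCIAway.exists_awayEquiv n f.length f.get h
  have hrel := RelGCIAway.isRelGCI_of_algEquiv_away R n f.length (n + 1) (f.length + 1)
    (by omega) (by omega) f.get _ _ e₂ hU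
  refine ⟨φ₉ (Ideal.Quotient.mk _ h), hgq, n + 1, f.length + 1, _, hrel, ⟨?_⟩⟩
  exact (AlgEquiv.ofBijective (Localization.awayMapₐ φ₉ (Ideal.Quotient.mk _ h))
    hbij').symm.trans e₂

end Main

section General2

/-- **A syntomic algebra is locally a relative global complete intersection.** -/
theorem exists_relGCI_away (R S : Type u) [CommRing R] [CommRing S] [Algebra R S]
    (hsynt : Synt.IsSyntomic R S) (q : Ideal S) [q.IsPrime] :
    ∃ g : S, g ∉ q ∧ ∃ (N K : ℕ) (G : Fin K → MvPolynomial (Fin N) R),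
      Synt.IsRelGCI R N K G ∧
        Nonempty (Localization.Away g ≃ₐ[R] Synt.RelGCIRing R N K G) := by
  obtain ⟨n, φ, hφ, hfg⟩ := hsynt.2.1.out
  obtain ⟨m, b, hb⟩ := Submodule.fg_iff_exists_fin_generating_family.mp hfg
  have hker : Ideal.span (Set.range b) = RingHom.ker φ := hb
  let e : Synt.RelGCIRing R n m b ≃ₐ[R] S :=
    (Ideal.quotientEquivAlgOfEq R hker).trans (Ideal.quotientKerAlgEquivOfSurjective hφ)
  have hsynt₀ : Synt.IsSyntomic R (Synt.RelGCIRing R n m b) :=
    Groth.Agent.Lib.Helper6.SyntCover.isSyntomic_of_algEquiv e.symm hsynt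
  obtain ⟨g₀, hg₀, N, K, G, hG, ⟨e₀⟩⟩ :=
    exists_relGCI_away_of_quot R n m b hsynt₀ (q.comap (e : Synt.RelGCIRing R n m b →ₐ[R] S))
  have hbij : Function.Bijective
      (Localization.awayMap (e : Synt.RelGCIRing R n m b →ₐ[R] S).toRingHom g₀) := by
    refine ⟨Localization.awayMap_injective_iff.mpr fun a ha => ⟨0, ?_⟩,
      Localization.awayMap_surjective_iff.mpr fun a => ⟨e.symm a, 0, ?_⟩⟩
    · have h0 : a = 0 := e.injective (by rw [map_zero]; exact ha)
      rw [h0, mul_zero]
    · rw [pow_zero, one_mul]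
      exact e.apply_symm_apply a
  refine ⟨e g₀, hg₀, N, K, G, hG, ⟨?_⟩⟩
  exact (AlgEquiv.ofBijective
    (Localization.awayMapₐ (e : Synt.RelGCIRing R n m b →ₐ[R] S) g₀) hbij).symm.trans e₀

end General2

end Groth.Agent.Lib.Helper24.SyntRelGCI
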