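import Mathlib
import Groth.Prelude.Def_RegImm
import Groth.Agent.Lib.Helper24.SyntRelGCI
import Groth.Agent.Lib.Helper4.GorLCI
import Groth.Agent.Lib.Helper1.KDesc4
import Groth.Agent.Lib.Helper1.KRegIdeal10
import Groth.Agent.Lib.Helper1.KRegIdeal9
import Groth.Agent.Lib.Helper22.RelGCIReg

/-!
# Syntomic = flat + local complete intersection (helper24)

* `isSyntomic_of_flat_of_isLCI`: a flat lci algebra is syntomic (base change of Koszul-regular
  ideals with flat quotient, via helper4/helper14's Koszul base change).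
* `isLCI_of_isSyntomic`: a syntomic algebra is lci (locally a relative global complete
  intersection, `SyntRelGCI.exists_relGCI_away`, and helper22's Koszul-regularity of those).
-/

set_option autoImplicit false
set_option maxHeartbeats 400000
set_option linter.style.haveILetI false
set_option linter.unusedSectionVars false
universe u

open MvPolynomial TensorProduct

namespace Groth.Agent.Lib.Helper24.FlatLCISynt

open Groth.Agent.Lib.Helper12 Groth.Agent.Lib.Helper1

section BaseChange

variable (A : Type u) [CommRing A] (n : ℕ) (I : Ideal (MvPolynomial (Fin n) A))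
  (κ : Type u) [Field κ] [Algebra A κ]

/-- base change of a Koszul-regular ideal with flat quotient, tensor form -/
theorem isKoszulRegularIdeal_map_tensor
    (hflI : Module.Flat A (MvPolynomial (Fin n) A ⧸ I)) (hK : LCI.IsKoszulRegularIdeal I) :
    LCI.IsKoszulRegularIdeal (I.map (algebraMap (MvPolynomial (Fin n) A)
      (MvPolynomial (Fin n) A ⊗[A] κ))) := by
  rw [KRegIdeal.isKoszulRegularIdeal_iff]
  intro Q hJQ
  haveI := Q.isPrime
  have hq'p : (Q.asIdeal.comap (algebraMap (MvPolynomial (Fin n) A)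
      (MvPolynomial (Fin n) A ⊗[A] κ))).IsPrime := Ideal.comap_isPrime _ _
  have hIq' : I ≤ Q.asIdeal.comap (algebraMap (MvPolynomial (Fin n) A)
      (MvPolynomial (Fin n) A ⊗[A] κ)) := fun x hx => hJQ (Ideal.mem_map_of_mem _ hx)
  obtain ⟨g, hg, l, hl, hspan⟩ := hK ⟨_, hq'p⟩ hIq'
  haveI hfl1 : Module.Flat A (Localization.Away g) :=
    Module.Flat.trans A (MvPolynomial (Fin n) A) (Localization.Away g)
  haveI hfl2 : Module.Flat A (Localization.Away g ⧸ Ideal.ofList l) := by
    haveI : IsScalarTower A (MvPolynomial (Fin n) A ⧸ I)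
        (Localization.Away g ⧸ I.map (algebraMap (MvPolynomial (Fin n) A)
          (Localization.Away g))) := by
      refine IsScalarTower.of_algebraMap_eq (R := A) (S := MvPolynomial (Fin n) A ⧸ I)
        (A := Localization.Away g ⧸ I.map (algebraMap (MvPolynomial (Fin n) A)
          (Localization.Away g))) (fun a => ?_)
      rw [IsScalarTower.algebraMap_apply A (MvPolynomial (Fin n) A) (MvPolynomial (Fin n) A ⧸ I),
        IsScalarTower.algebraMap_apply A (Localization.Away g)
          (Localization.Away g ⧸ I.map (algebraMap (MvPolynomial (Fin n) A)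
            (Localization.Away g))),
        IsScalarTower.algebraMap_apply A (MvPolynomial (Fin n) A) (Localization.Away g)]
      rfl
    haveI : Module.Flat (MvPolynomial (Fin n) A ⧸ I)
        (Localization.Away g ⧸ I.map (algebraMap (MvPolynomial (Fin n) A)
          (Localization.Away g))) :=
      IsLocalization.flat _ (Algebra.algebraMapSubmonoid (MvPolynomial (Fin n) A ⧸ I)
        (Submonoid.powers g))
    have h3 : Module.Flat A
        (Localization.Away g ⧸ I.map (algebraMap (MvPolynomial (Fin n) A)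
          (Localization.Away g))) :=
      Module.Flat.trans A (MvPolynomial (Fin n) A ⧸ I) _
    rw [hspan] at h3
    exact h3
  have hreg1 := Groth.Agent.Lib.Helper4.GorLCI.koszulRegular_tensor (A := A)
    (B := Localization.Away g) l
    ((Groth.Agent.Lib.Helper14.KoszulFun.isKoszulRegularSeq_iff _ l).mp hl) κ
  obtain ⟨algTR, htower, hloc1⟩ := Groth.Agent.Lib.Helper4.GorLCI.exists_algebra_away A n κ g
  letI := algTR
  haveI := htower
  haveI := hloc1
  refine ⟨algebraMap (MvPolynomial (Fin n) A) (MvPolynomial (Fin n) A ⊗[A] κ) g, hg, l.length,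
    Localization.Away g ⊗[A] κ, inferInstance, algTR, hloc1,
    l.map (algebraMap (Localization.Away g) (Localization.Away g ⊗[A] κ)), by simp,
    (Groth.Agent.Lib.Helper14.KoszulFun.isKoszulRegularSeq_iff _ _).mpr hreg1, ?_⟩
  calc (I.map (algebraMap (MvPolynomial (Fin n) A) (MvPolynomial (Fin n) A ⊗[A] κ))).map
        (algebraMap (MvPolynomial (Fin n) A ⊗[A] κ) (Localization.Away g ⊗[A] κ))
      = I.map (algebraMap (MvPolynomial (Fin n) A) (Localization.Away g ⊗[A] κ)) := by
        rw [Ideal.map_map, ← IsScalarTower.algebraMap_eq]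
    _ = (I.map (algebraMap (MvPolynomial (Fin n) A) (Localization.Away g))).map
          (algebraMap (Localization.Away g) (Localization.Away g ⊗[A] κ)) := by
        rw [Ideal.map_map, ← IsScalarTower.algebraMap_eq]
    _ = Ideal.ofList (l.map (algebraMap (Localization.Away g)
          (Localization.Away g ⊗[A] κ))) := by
        rw [hspan]
        exact Ideal.map_ofList _ l

/-- base change of a Koszul-regular ideal with flat quotient, polynomial form -/
theorem isKoszulRegularIdeal_map_residue
    (hflI : Module.Flat A (MvPolynomial (Fin n) A ⧸ I)) (hK : LCI.IsKoszulRegularIdeal I) :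
    LCI.IsKoszulRegularIdeal (I.map (map (algebraMap A κ) :
      MvPolynomial (Fin n) A →+* MvPolynomial (Fin n) κ)) := by
  have h1 := isKoszulRegularIdeal_map_tensor A n I κ hflI hK
  let eT : MvPolynomial (Fin n) κ ≃+* MvPolynomial (Fin n) A ⊗[A] κ :=
    ((MvPolynomial.algebraTensorAlgEquiv (σ := Fin n) A κ).symm.toRingEquiv).trans
      (Algebra.TensorProduct.comm A κ (MvPolynomial (Fin n) A)).toRingEquiv
  have heT : ∀ y : MvPolynomial (Fin n) A, eT (map (algebraMap A κ) y) = y ⊗ₜ[A] (1 : κ) := by
    intro y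
    show (Algebra.TensorProduct.comm A κ _)
      ((algebraTensorAlgEquiv (σ := Fin n) A κ).symm (map (algebraMap A κ) y)) = _
    have h0 : (algebraTensorAlgEquiv (σ := Fin n) A κ).symm (map (algebraMap A κ) y) =
        (1 : κ) ⊗ₜ[A] y := by
      rw [AlgEquiv.symm_apply_eq, algebraTensorAlgEquiv_tmul, one_smul]
    rw [h0, Algebra.TensorProduct.comm_tmul]
  have halg : ∀ y : MvPolynomial (Fin n) A, algebraMap (MvPolynomial (Fin n) A)
      (MvPolynomial (Fin n) A ⊗[A] κ) y = y ⊗ₜ[A] (1 : κ) := fun y => rfl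
  have h2 := KRegIdeal.isKoszulRegularIdeal_comap_equiv eT _ h1
  convert h2 using 1
  apply le_antisymm
  · rw [Ideal.map_le_iff_le_comap]
    intro y hy
    rw [Ideal.mem_comap, Ideal.mem_comap]
    show eT (map (algebraMap A κ) y) ∈ _
    rw [heT, ← halg]
    exact Ideal.mem_map_of_mem _ hy
  · intro x hx
    rw [Ideal.mem_comap] at hx
    have h3 : I.map (algebraMap (MvPolynomial (Fin n) A) (MvPolynomial (Fin n) A ⊗[A] κ)) ≤
        (I.map (map (algebraMap A κ) : MvPolynomial (Fin n) A →+* MvPolynomial (Fin n) κ)).comap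
          (eT.symm : MvPolynomial (Fin n) A ⊗[A] κ →+* MvPolynomial (Fin n) κ) := by
      rw [Ideal.map_le_iff_le_comap]
      intro y hy
      rw [Ideal.mem_comap, Ideal.mem_comap]
      have h4 : (eT.symm : MvPolynomial (Fin n) A ⊗[A] κ →+* MvPolynomial (Fin n) κ)
          (algebraMap (MvPolynomial (Fin n) A) (MvPolynomial (Fin n) A ⊗[A] κ) y) =
          map (algebraMap A κ) y := by
        show eT.symm _ = _
        rw [RingEquiv.symm_apply_eq, heT, halg]
      rw [h4]
      exact Ideal.mem_map_of_mem _ hy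
    have h5 := h3 hx
    rw [Ideal.mem_comap] at h5
    have h6 : (eT.symm : MvPolynomial (Fin n) A ⊗[A] κ →+* MvPolynomial (Fin n) κ)
        ((eT : MvPolynomial (Fin n) κ →+* MvPolynomial (Fin n) A ⊗[A] κ) x) = x :=
      eT.symm_apply_apply x
    rw [h6] at h5
    exact h5

end BaseChange

section Field

/-- over a field, the quotient of a polynomial ring by a Koszul-regular ideal is a local
complete intersection in the sense of `Synt.IsLCIOver` -/
theorem isLCIOver_of_isKoszulRegularIdeal (k : Type u) [Field k] (n : ℕ)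
    (I : Ideal (MvPolynomial (Fin n) k)) (hK : LCI.IsKoszulRegularIdeal I) :
    Synt.IsLCIOver k (MvPolynomial (Fin n) k ⧸ I) := by
  classical
  refine ⟨Algebra.FiniteType.of_surjective (Ideal.Quotient.mkₐ k I)
    (Ideal.Quotient.mkₐ_surjective k I), fun 𝔮 => ?_⟩
  haveI := 𝔮.isPrime
  have hIQ := CIGen.le_comap_mk k n I 𝔮.asIdeal
  rw [KRegIdeal.isKoszulRegularIdeal_iff] at hK
  obtain ⟨G, hG, N, hnear⟩ := hK ⟨𝔮.asIdeal.comap (Ideal.Quotient.mk I), inferInstance⟩ hIQ
  have hLL : KDesc.LocLen I (𝔮.asIdeal.comap (Ideal.Quotient.mk I)) N :=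
    KDesc.IsKRegNear.locLen hnear _ hG
  have hmap : (𝔮.asIdeal.comap (Ideal.Quotient.mk I)).map (Ideal.Quotient.mk I) = 𝔮.asIdeal :=
    Ideal.map_comap_of_surjective _ Ideal.Quotient.mk_surjective _
  have hc := SyntRelGCI.height_of_locLen I _ hIQ N hLL
  rw [hmap] at hc
  obtain ⟨l, hlen, hl, hJ⟩ := hLL
  haveI : IsNoetherianRing (Localization.AtPrime (𝔮.asIdeal.comap (Ideal.Quotient.mk I))) :=
    IsLocalization.isNoetherianRing (𝔮.asIdeal.comap (Ideal.Quotient.mk I)).primeCompl _
      inferInstance
  have hm : ∀ r ∈ l, r ∈ IsLocalRing.maximalIdeal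
      (Localization.AtPrime (𝔮.asIdeal.comap (Ideal.Quotient.mk I))) := by
    intro r hr
    apply CIGen.map_le_maximalIdeal I _ hIQ
    rw [hJ]
    exact Ideal.subset_span hr
  have hw := CIGen.isWeaklyRegular_of_koszul l hl hm
  have hreg := CIGen.isRegular_of_weak I _ hIQ l hw hJ.symm
  have hnd := CIGen.nodup_of_isRegular l hreg
  exact CIGen.h21 k n I 𝔮.asIdeal N hc l.toFinset
    (by rw [List.toFinset_card_of_nodup hnd, hlen])
    (by rw [hJ, Ideal.ofList, List.coe_toFinset])

end Field

section Main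

/-- a presented algebra with Koszul-regular ideal of relations and flat over the base is
syntomic -/
theorem isSyntomic_relGCIRing_of_isKoszulRegularIdeal (R : Type u) [CommRing R] (n m : ℕ)
    (b : Fin m → MvPolynomial (Fin n) R)
    (hK : LCI.IsKoszulRegularIdeal (Ideal.span (Set.range b)))
    (hfl : Module.Flat R (Synt.RelGCIRing R n m b)) :
    Synt.IsSyntomic R (Synt.RelGCIRing R n m b) := by
  refine ⟨hfl, Algebra.FinitePresentation.quotient (Submodule.fg_span (Set.finite_range b)),
    fun p => ?_⟩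
  have h1 := isKoszulRegularIdeal_map_residue R n (Ideal.span (Set.range b))
    p.asIdeal.ResidueField hfl hK
  have hImap : (Ideal.span (Set.range b)).map (map (algebraMap R p.asIdeal.ResidueField)) =
      Ideal.span (Set.range fun i => map (algebraMap R p.asIdeal.ResidueField) (b i)) := by
    rw [Ideal.map_span, ← Set.range_comp]
    rfl
  rw [hImap] at h1
  have h2 := isLCIOver_of_isKoszulRegularIdeal p.asIdeal.ResidueField n _ h1
  exact Groth.Agent.Lib.Helper6.SyntCover.isLCIOver_of_algEquiv
    (SyntRelGCI.fibEquiv R n m b p.asIdeal.ResidueField) h2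

/-- **flat + lci ⇒ syntomic** -/
theorem isSyntomic_of_flat_of_isLCI (R S : Type u) [CommRing R] [CommRing S] [Algebra R S]
    (hfl : Module.Flat R S) (h : LCI.IsLCI R S) : Synt.IsSyntomic R S := by
  obtain ⟨-, n, φ, hφ, hK⟩ := h
  have hfg := KDesc.fg_of_isKoszulRegularIdeal _ hK
  obtain ⟨m, b, hb⟩ := Submodule.fg_iff_exists_fin_generating_family.mp hfg
  have hker : Ideal.span (Set.range b) = RingHom.ker φ.toRingHom := hb
  have hker' : Ideal.span (Set.range b) = RingHom.ker φ := hb
  let e : Synt.RelGCIRing R n m b ≃ₐ[R] S :=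
    (Ideal.quotientEquivAlgOfEq R hker').trans (Ideal.quotientKerAlgEquivOfSurjective hφ)
  have hfl₀ : Module.Flat R (Synt.RelGCIRing R n m b) :=
    Module.Flat.of_linearEquiv e.toLinearEquiv
  have hK₀ : LCI.IsKoszulRegularIdeal (Ideal.span (Set.range b)) := by
    rw [hker]
    exact hK
  exact Groth.Agent.Lib.Helper6.SyntCover.isSyntomic_of_algEquiv e
    (isSyntomic_relGCIRing_of_isKoszulRegularIdeal R n m b hK₀ hfl₀)

/-- a relative global complete intersection is lci -/
theorem isLCI_relGCI (R : Type u) [CommRing R] (N K : ℕ) (G : Fin K → MvPolynomial (Fin N) R)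
    (hG : Synt.IsRelGCI R N K G) : LCI.IsLCI R (Synt.RelGCIRing R N K G) := by
  have hof : Ideal.ofList (List.ofFn G) = Ideal.span (Set.range G) := by
    unfold Ideal.ofList
    congr 1
    ext x
    simp [List.mem_ofFn]
  refine ⟨Algebra.FiniteType.of_surjective (Ideal.Quotient.mkₐ R _)
    (Ideal.Quotient.mkₐ_surjective R _), N, Ideal.Quotient.mkₐ R _,
    Ideal.Quotient.mkₐ_surjective R _, ?_⟩
  have hker : RingHom.ker (Ideal.Quotient.mkₐ R (Ideal.span (Set.range G))).toRingHom =
      Ideal.ofList (List.ofFn G) := by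
    rw [hof]
    ext x
    rw [RingHom.mem_ker]
    exact Ideal.Quotient.eq_zero_iff_mem
  rw [hker]
  exact KRegIdeal.isKoszulRegularIdeal_ofList _
    (Groth.Agent.Lib.Helper22.RelGCIReg.isKoszulRegularSeq R N K G hG)

/-- **syntomic ⇒ lci** -/
theorem isLCI_of_isSyntomic (R S : Type u) [CommRing R] [CommRing S] [Algebra R S]
    (h : Synt.IsSyntomic R S) : LCI.IsLCI R S := by
  let s : Set S := {g | LCI.IsLCI R (Localization.Away g)}
  have hs : Ideal.span s = ⊤ := by
    by_contra hne
    obtain ⟨M, hM, hle⟩ := Ideal.exists_le_maximal _ hne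
    haveI : M.IsPrime := hM.isPrime
    obtain ⟨g, hg, N, K, G, hG, ⟨e⟩⟩ := SyntRelGCI.exists_relGCI_away R S h M
    have hlci : LCI.IsLCI R (Synt.RelGCIRing R N K G) := isLCI_relGCI R N K G hG
    have hgs : g ∈ s := KRegIdeal.isLCI_of_algEquiv e.symm hlci
    exact hg (hle (Ideal.subset_span hgs))
  exact KRegIdeal.isLCI_of_span_eq_top R S s hs (fun u hu =>
    ⟨Localization.Away u, inferInstance, inferInstance, inferInstance, inferInstance,
      inferInstance, hu⟩)

theorem isSyntomic_iff (R S : Type u) [CommRing R] [CommRing S] [Algebra R S] :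
    Synt.IsSyntomic R S ↔ Module.Flat R S ∧ LCI.IsLCI R S :=
  ⟨fun h => ⟨h.1, isLCI_of_isSyntomic R S h⟩, fun h => isSyntomic_of_flat_of_isLCI R S h.1 h.2⟩

end Main

end Groth.Agent.Lib.Helper24.FlatLCISynt
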