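import Groth.Agent.Lib.Helper8.H1CotEtale
import Groth.Agent.Lib.Helper20.Lift

/-!
# Helper library (helper24): Frobenius liftability over `W₂(k)` passes to étale algebras.
-/

set_option autoImplicit false
set_option maxHeartbeats 400000
universe u v

namespace Groth.Agent.Lib.Helper24.FrobLiftEtale

open FrobAlg

/-- Lifting through a surjection with nilpotent kernel for a formally smooth algebra, in
ring-hom form (no algebra structures on the targets). -/
theorem exists_lift_ringHom {R S T T' : Type*} [CommRing R] [CommRing S] [CommRing T]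
    [CommRing T'] [Algebra R S] [Algebra.FormallySmooth R S]
    (q : T →+* T') (hq : Function.Surjective q) (hnil : IsNilpotent (RingHom.ker q))
    (a : R →+* T) (g : S →+* T') (hg : g.comp (algebraMap R S) = q.comp a) :
    ∃ h : S →+* T, h.comp (algebraMap R S) = a ∧ q.comp h = g := by
  letI : Algebra R T := a.toAlgebra
  letI : Algebra R T' := (q.comp a).toAlgebra
  let qA : T →ₐ[R] T' := { q with commutes' := fun r => rfl }
  let gA : S →ₐ[R] T' := { g with commutes' := fun r => RingHom.congr_fun hg r }
  have hqA : Function.Surjective qA := hq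
  have hnilA : IsNilpotent (RingHom.ker (qA : T →+* T')) := hnil
  let h := Algebra.FormallySmooth.liftOfSurjective gA qA hqA hnilA
  refine ⟨h.toRingHom, ?_, ?_⟩
  · exact RingHom.ext fun r => h.commutes r
  · exact RingHom.ext fun x =>
      Algebra.FormallySmooth.liftOfSurjective_apply gA qA hqA hnilA x

/-- The `p`-th power map as a ring endomorphism of a ring in which `p = 0` (no nontriviality
assumption). -/
noncomputable def powHom (p : ℕ) [Fact p.Prime] (R : Type*) [CommRing R] (h : (p : R) = 0) :
    R →+* R where
  toFun x := x ^ p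
  map_one' := one_pow _
  map_mul' x y := mul_pow x y p
  map_zero' := zero_pow (Fact.out : p.Prime).ne_zero
  map_add' x y := by
    rw [Groth.Agent.Lib.Helper20.add_pow_eq_Wp (Fact.out : p.Prime), h, zero_mul, add_zero]

theorem powHom_apply (p : ℕ) [Fact p.Prime] (R : Type*) [CommRing R] (h : (p : R) = 0) (x : R) :
    powHom p R h x = x ^ p := rfl

theorem isFLiftable_of_etale
    (p : ℕ) [Fact p.Prime] (k : Type u) [Field k] [IsAlgClosed k] [CharP k p]
    (A C : Type v) [CommRing A] [CommRing C] [Algebra k A] [Algebra k C]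
    [Algebra A C] [IsScalarTower k A C] [Algebra.Etale A C]
    (hA : FrobAlg.IsFLiftable p k A) : FrobAlg.IsFLiftable p k C := by
  obtain ⟨B, _, ι, π, Φ, h⟩ := hA
  haveI : ExpChar k p := ExpChar.prime (Fact.out : p.Prime)
  haveI : PerfectRing k p := PerfectField.toPerfectRing p
  have hlift : IsLift p k A B ι π := h.toIsLift
  letI : Algebra B A := π.toAlgebra
  letI : Algebra B C := ((algebraMap A C).comp π).toAlgebra
  haveI : IsScalarTower B A C := IsScalarTower.of_algebraMap_eq (fun _ => rfl)
  obtain ⟨E, _, _, hE, πC, hπC, hker⟩ :=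
    Groth.Agent.Lib.Helper8.H1CotEtale.exists_etale_lift_surjective B A C h.surj
  haveI := hE
  let ιC : W2 p k →+* E := (algebraMap B E).comp ι
  have hpC : (p : C) = 0 := by
    rw [← map_natCast (algebraMap k C), CharP.cast_eq_zero, map_zero]
  have hBC : ∀ b : B, algebraMap B C b = algebraMap A C (π b) := fun b => rfl
  -- kernel of `πC` is `(p)`, hence nilpotent
  have hkerq : RingHom.ker πC.toRingHom = Ideal.span {(p : E)} := by
    rw [hker]
    have h1 : RingHom.ker (algebraMap B A) = Ideal.span {(p : B)} :=
      Groth.Agent.Lib.Helper20.lift_ker_eq_span hlift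
    rw [h1, Ideal.map_span, Set.image_singleton, map_natCast]
  have hnil : IsNilpotent (RingHom.ker πC.toRingHom) := by
    refine ⟨2, ?_⟩
    rw [hkerq, Ideal.span_singleton_pow, sq, Groth.Agent.Lib.Helper20.lift_p_mul_p_eq_zero ιC]
    simp
  -- the Frobenius-twisted lifting problem
  let a : B →+* E := (algebraMap B E).comp Φ
  let g : E →+* C := (powHom p C hpC).comp πC.toRingHom
  have hg : g.comp (algebraMap B E) = πC.toRingHom.comp a := by
    refine RingHom.ext fun b => ?_
    show (πC (algebraMap B E b)) ^ p = πC (algebraMap B E (Φ b))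
    rw [πC.commutes, πC.commutes, hBC, hBC, h.red, map_pow]
  obtain ⟨ΦC, hΦ1, hΦ2⟩ := exists_lift_ringHom πC.toRingHom hπC hnil a g hg
  refine ⟨E, inferInstance, ιC, πC.toRingHom, ΦC, ?_⟩
  refine { flat := ?_, surj := hπC, ker_eq := ?_, comm := ?_, semi := ?_, red := ?_ }
  · exact RingHom.Flat.comp hlift.flat (RingHom.flat_algebraMap_iff.mpr inferInstance)
  · rw [hker, show RingHom.ker (algebraMap B A) = RingHom.ker π from rfl, h.ker_eq, Ideal.map_map]
  · refine RingHom.ext fun w => ?_
    have h1 : π (ι w) = algebraMap k A (res p k w) := RingHom.congr_fun h.comm w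
    show πC (algebraMap B E (ι w)) = algebraMap k C (res p k w)
    rw [πC.commutes, hBC, h1, ← IsScalarTower.algebraMap_apply k A C]
  · refine RingHom.ext fun w => ?_
    have h1 : ΦC (algebraMap B E (ι w)) = algebraMap B E (Φ (ι w)) :=
      RingHom.congr_fun hΦ1 (ι w)
    have h2 : Φ (ι w) = ι (sigma p k w) := RingHom.congr_fun h.semi w
    show ΦC (algebraMap B E (ι w)) = algebraMap B E (ι (sigma p k w))
    rw [h1, h2]
  · intro x
    exact RingHom.congr_fun hΦ2 x

end Groth.Agent.Lib.Helper24.FrobLiftEtale
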