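import Mathlib
import Groth.Prelude.Def_RegImm
import Groth.Agent.Lib.Helper24.FlatLCISynt
import Groth.Agent.Lib.Helper1.KDesc12
import Groth.Agent.Lib.Helper1.SmDesc3
import Groth.Agent.Lib.Helper1.LciComp
import Groth.Agent.Lib.Helper22.SyntCM

/-!
# Flat + Koszul at every point = syntomic, for morphisms of schemes (helper24)
-/

set_option autoImplicit false
set_option maxHeartbeats 400000
set_option linter.style.haveILetI false
universe u

open CategoryTheory CategoryTheory.Limits AlgebraicGeometry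

namespace Groth.Agent.Lib.Helper24.KoszulSynt

open Groth.Agent.Lib.Helper1

section SpecMap

theorem ker_SpecMap_appTop {R S : CommRingCat.{u}} (φ : R ⟶ S) :
    RingHom.ker ((Spec.map φ).app ⊤).hom =
      (RingHom.ker φ.hom).comap
        ((Scheme.ΓSpecIso R).commRingCatIsoToRingEquiv : Γ(Spec R, ⊤) →+* R) := by
  have hnat : (Spec.map φ).appTop ≫ (Scheme.ΓSpecIso S).hom = (Scheme.ΓSpecIso R).hom ≫ φ :=
    Scheme.ΓSpecIso_naturality φ
  ext x
  rw [Ideal.mem_comap, RingHom.mem_ker, RingHom.mem_ker]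
  have h2 : (Scheme.ΓSpecIso S).hom.hom (((Spec.map φ).app ⊤).hom x) =
      φ.hom ((Scheme.ΓSpecIso R).commRingCatIsoToRingEquiv x) :=
    congr($hnat x)
  constructor
  · intro h
    change φ.hom ((Scheme.ΓSpecIso R).commRingCatIsoToRingEquiv x) = 0
    rw [← h2]
    have h5 : ((Spec.map φ).app ⊤).hom x = (0 : Γ(Spec S, ⊤)) := h
    exact (congrArg (Scheme.ΓSpecIso S).hom.hom h5).trans (map_zero _)
  · intro h
    have h3 : (Scheme.ΓSpecIso S).hom.hom (((Spec.map φ).app ⊤).hom x) = 0 := h2.trans h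
    have hinj := (ConcreteCategory.bijective_of_isIso (Scheme.ΓSpecIso S).hom).1
    exact hinj (h3.trans (map_zero _).symm)

theorem isRegularImmersion_SpecMap_of_ideal {R S : CommRingCat.{u}} (φ : R ⟶ S)
    (hφ : Function.Surjective φ.hom) (hK : LCI.IsKoszulRegularIdeal (RingHom.ker φ.hom)) :
    RegImm.IsRegularImmersion .koszul (Spec.map φ) := by
  haveI hcl : IsClosedImmersion (Spec.map φ) := IsClosedImmersion.spec_of_surjective φ hφ
  have hV : IsAffineOpen (⊤ : (Spec R).Opens) := isAffineOpen_top _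
  have hK' : LCI.IsKoszulRegularIdeal (RingHom.ker ((Spec.map φ).app ⊤).hom) := by
    rw [ker_SpecMap_appTop]
    exact KRegIdeal.isKoszulRegularIdeal_comap_equiv _ _ hK
  refine ⟨inferInstance, fun t => ?_⟩
  exact KDesc.isRegularImmersionAt_of_isKoszulRegularIdeal (Spec.map φ) hV (hV.preimage _)
    ((Spec.map φ).app_surjective ⊤ hV) hK' t trivial

theorem isKoszulRegularIdeal_ker_of_isRegularImmersion_SpecMap {R S : CommRingCat.{u}}
    (φ : R ⟶ S) (hφ : Function.Surjective φ.hom)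
    (hi : RegImm.IsRegularImmersion .koszul (Spec.map φ)) :
    LCI.IsKoszulRegularIdeal (RingHom.ker φ.hom) := by
  haveI hcl : IsClosedImmersion (Spec.map φ) := IsClosedImmersion.spec_of_surjective φ hφ
  have hV : IsAffineOpen (⊤ : (Spec R).Opens) := isAffineOpen_top _
  have h1 := KDesc.isKoszulRegularIdeal_ker_of_isRegularImmersion (Spec.map φ) hi hV
    (hV.preimage _) ((Spec.map φ).app_surjective ⊤ hV)
  rw [ker_SpecMap_appTop] at h1
  have h2 := KRegIdeal.isKoszulRegularIdeal_comap_equiv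
    (Scheme.ΓSpecIso R).commRingCatIsoToRingEquiv.symm _ h1
  convert h2 using 1
  ext x
  rw [Ideal.mem_comap, Ideal.mem_comap]
  have h3 : ((Scheme.ΓSpecIso R).commRingCatIsoToRingEquiv : Γ(Spec R, ⊤) →+* R)
      (((Scheme.ΓSpecIso R).commRingCatIsoToRingEquiv.symm : R →+* Γ(Spec R, ⊤)) x) = x :=
    (Scheme.ΓSpecIso R).commRingCatIsoToRingEquiv.apply_symm_apply x
  rw [h3]

end SpecMap

section Chart

variable {X S : Scheme.{u}} (f : X ⟶ S)

/-- the standard factorisation of an affine chart through an affine space -/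
theorem chart_comm {U : X.Opens} {V : S.Opens} (hU : IsAffineOpen U) (hV : IsAffineOpen V)
    (e : U ≤ f ⁻¹ᵁ V) (n : ℕ) (ψ' : CommRingCat.of (MvPolynomial (Fin n) Γ(S, V)) ⟶ Γ(X, U))
    (hcomp : CommRingCat.ofHom (algebraMap Γ(S, V) (MvPolynomial (Fin n) Γ(S, V))) ≫ ψ' =
      f.appLE V U e) :
    (hU.isoSpec.hom ≫ Spec.map ψ') ≫
      (Spec.map (CommRingCat.ofHom (algebraMap Γ(S, V) (MvPolynomial (Fin n) Γ(S, V)))) ≫
        hV.fromSpec) = U.ι ≫ f := by
  rw [Category.assoc, ← Category.assoc (Spec.map ψ'), ← Spec.map_comp, hcomp,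
    IsAffineOpen.SpecMap_appLE_fromSpec f hV hU e, ← Category.assoc]
  rw [hU.isoSpec_hom_fromSpec]

theorem smooth_chart {V : S.Opens} (hV : IsAffineOpen V) (n : ℕ) :
    Smooth (Spec.map (CommRingCat.ofHom (algebraMap Γ(S, V) (MvPolynomial (Fin n) Γ(S, V)))) ≫
      hV.fromSpec) := by
  haveI : Smooth (Spec.map (CommRingCat.ofHom
      (algebraMap Γ(S, V) (MvPolynomial (Fin n) Γ(S, V))))) := by
    rw [HasRingHomProperty.Spec_iff (P := @Smooth)]
    change (algebraMap Γ(S, V) (MvPolynomial (Fin n) Γ(S, V))).Smooth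
    rw [RingHom.smooth_algebraMap]
    exact ⟨inferInstance, inferInstance⟩
  haveI : IsOpenImmersion hV.fromSpec := hV.isOpenImmersion_fromSpec
  haveI : Smooth hV.fromSpec := inferInstance
  exact smooth_comp _ _

/-- a chart with lci ring map gives the Koszul property at the points of the chart -/
theorem isKoszulAt_of_isLCI (x : X) {U : X.Opens} {V : S.Opens} (hU : IsAffineOpen U)
    (hV : IsAffineOpen V) (e : U ≤ f ⁻¹ᵁ V) (hx : x ∈ U)
    (h : letI := (f.appLE V U e).hom.toAlgebra; LCI.IsLCI Γ(S, V) Γ(X, U)) :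
    Synt.IsKoszulAt f x := by
  letI alg : Algebra Γ(S, V) Γ(X, U) := (f.appLE V U e).hom.toAlgebra
  obtain ⟨-, n, α, hα, hK⟩ := h
  let ψ' : CommRingCat.of (MvPolynomial (Fin n) Γ(S, V)) ⟶ Γ(X, U) :=
    CommRingCat.ofHom α.toRingHom
  have hcomp : CommRingCat.ofHom (algebraMap Γ(S, V) (MvPolynomial (Fin n) Γ(S, V))) ≫ ψ' =
      f.appLE V U e := by
    ext a
    exact α.commutes a
  haveI : IsClosedImmersion (Spec.map ψ') := IsClosedImmersion.spec_of_surjective ψ' hα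
  haveI hsm := smooth_chart hV n
  have hjπ := chart_comm f hU hV e n ψ' hcomp
  have hreg : RegImm.IsRegularImmersion .koszul (Spec.map ψ') :=
    isRegularImmersion_SpecMap_of_ideal ψ' hα hK
  have hj : RegImm.IsRegularImmersion .koszul (hU.isoSpec.hom ≫ Spec.map ψ') :=
    LciComp.isRegularImmersion_comp _ _ hreg (RegMore.isRegularImmersion_of_isIso _)
  refine ⟨U, Spec _, hU.isoSpec.hom ≫ Spec.map ψ', _, hx, ?_, hj, hsm, hjπ⟩
  rw [← hjπ]
  infer_instance

/-- if `f` is Koszul at every point then all its affine charts are lci ring maps -/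
theorem isLCI_of_forall_isKoszulAt (hf : ∀ x : X, Synt.IsKoszulAt f x) {U : X.Opens}
    {V : S.Opens} (hU : IsAffineOpen U) (hV : IsAffineOpen V) (e : U ≤ f ⁻¹ᵁ V) :
    letI := (f.appLE V U e).hom.toAlgebra
    LCI.IsLCI Γ(S, V) Γ(X, U) := by
  letI alg : Algebra Γ(S, V) Γ(X, U) := (f.appLE V U e).hom.toAlgebra
  change LCI.IsLCI Γ(S, V) Γ(X, U)
  haveI hlft : LocallyOfFiniteType f := KDesc.locallyOfFiniteType_of_forall_isKoszulAt hf
  haveI hft : Algebra.FiniteType Γ(S, V) Γ(X, U) :=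
    HasRingHomProperty.appLE (P := @LocallyOfFiniteType) f inferInstance ⟨V, hV⟩ ⟨U, hU⟩ e
  obtain ⟨n, ψ, hψ⟩ := Algebra.FiniteType.iff_quotient_mvPolynomial''.mp hft
  let ψ' : CommRingCat.of (MvPolynomial (Fin n) Γ(S, V)) ⟶ Γ(X, U) :=
    CommRingCat.ofHom ψ.toRingHom
  have hcomp : CommRingCat.ofHom (algebraMap Γ(S, V) (MvPolynomial (Fin n) Γ(S, V))) ≫ ψ' =
      f.appLE V U e := by
    ext a
    exact ψ.commutes a
  haveI : IsClosedImmersion (Spec.map ψ') := IsClosedImmersion.spec_of_surjective ψ' hψ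
  haveI hsm := smooth_chart hV n
  have hjπ := chart_comm f hU hV e n ψ' hcomp
  have hfU : ∀ u : (U : Scheme.{u}), Synt.IsKoszulAt (U.ι ≫ f) u := fun u =>
    LciComp.isKoszulAt_comp U.ι f u (KDesc.isKoszulAt_of_smooth U.ι u) (hf (U.ι u))
  haveI : IsImmersion (hU.isoSpec.hom ≫ Spec.map ψ') := inferInstance
  have hj : RegImm.IsRegularImmersion .koszul (hU.isoSpec.hom ≫ Spec.map ψ') :=
    SmDesc.isRegularImmersion_of_isKoszulAt (U.ι ≫ f) hfU _ _ hjπ
  have hreg : RegImm.IsRegularImmersion .koszul (Spec.map ψ') := by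
    have h1 := LciComp.isRegularImmersion_comp _ _ hj
      (RegMore.isRegularImmersion_of_isIso hU.isoSpec.inv)
    rwa [Iso.inv_hom_id_assoc] at h1
  exact ⟨hft, n, ψ, hψ, isKoszulRegularIdeal_ker_of_isRegularImmersion_SpecMap ψ' hψ hreg⟩

end Chart

section Main

variable {X S : Scheme.{u}} (f : X ⟶ S)

theorem main : (Flat f ∧ ∀ x : X, Synt.IsKoszulAt f x) ↔ Synt.IsSyntomicMor f := by
  constructor
  · rintro ⟨hflat, hK⟩ x
    obtain ⟨_, ⟨V : S.Opens, hV, rfl⟩, hxV, -⟩ :=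
      S.isBasis_affineOpens.exists_subset_of_mem_open (Set.mem_univ (f x)) isOpen_univ
    obtain ⟨_, ⟨U : X.Opens, hU, rfl⟩, hxU, hUV⟩ :=
      X.isBasis_affineOpens.exists_subset_of_mem_open (show x ∈ f ⁻¹ᵁ V from hxV) (f ⁻¹ᵁ V).2
    have e : U ≤ f ⁻¹ᵁ V := hUV
    refine ⟨⟨U, hU⟩, ⟨V, hV⟩, e, hxU, ?_⟩
    have hfl : (f.appLE V U e).hom.Flat :=
      HasRingHomProperty.appLE (P := @Flat) f hflat ⟨V, hV⟩ ⟨U, hU⟩ e
    exact @FlatLCISynt.isSyntomic_of_flat_of_isLCI _ _ _ _ (f.appLE V U e).hom.toAlgebra hfl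
      (isLCI_of_forall_isKoszulAt f hK hU hV e)
  · intro hf
    refine ⟨Groth.Agent.Lib.Helper22.SyntCM.flat_of_isSyntomicMor f hf, fun x => ?_⟩
    obtain ⟨U, V, e, hx, hsynt⟩ := hf x
    exact isKoszulAt_of_isLCI f x U.2 V.2 e hx
      (@FlatLCISynt.isLCI_of_isSyntomic _ _ _ _ (f.appLE V.1 U.1 e).hom.toAlgebra hsynt)

end Main

end Groth.Agent.Lib.Helper24.KoszulSynt
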