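import Mathlib
import Groth.Prelude.Def_RegImm
import Groth.Agent.Lib.Helper22.SmoothLCI
import Groth.Agent.Lib.Helper14.Syntomic

/-!
# Smooth morphisms are syntomic
-/

set_option autoImplicit false
set_option maxHeartbeats 400000

universe u

namespace Groth.Agent.Lib.Helper24.SmoothSynt

open TensorProduct AlgebraicGeometry CategoryTheory

theorem isSyntomic_of_isStandardSmooth (R T : Type u) [CommRing R] [CommRing T] [Algebra R T]
    [Algebra.IsStandardSmooth R T] : Synt.IsSyntomic R T := by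
  refine ⟨inferInstance, inferInstance, fun pr => ⟨inferInstance, fun Q => ?_⟩⟩
  refine ⟨1, fun h => Q.isPrime.ne_top ((Ideal.eq_top_iff_one _).mpr h), ?_⟩
  have hG := Groth.Agent.Lib.Helper22.SmoothLCI.isGlobalCI_of_isStandardSmooth
    pr.asIdeal.ResidueField (pr.asIdeal.ResidueField ⊗[R] T)
  exact Groth.Agent.Lib.Helper14.isGlobalCI_of_algEquiv
    ((IsLocalization.atOne (pr.asIdeal.ResidueField ⊗[R] T)
      (Localization.Away (1 : pr.asIdeal.ResidueField ⊗[R] T))).restrictScalars
        pr.asIdeal.ResidueField) hG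

theorem main {X S : Scheme.{u}} (f : X ⟶ S) [Smooth f] : Synt.IsSyntomicMor f := by
  intro x
  obtain ⟨V, hV, U, hU, hxU, e, hsm⟩ := Smooth.exists_isStandardSmooth f x
  refine ⟨⟨U, hU⟩, ⟨V, hV⟩, e, hxU, ?_⟩
  letI := (f.appLE V U e).hom.toAlgebra
  haveI : Algebra.IsStandardSmooth Γ(S, V) Γ(X, U) := hsm
  exact isSyntomic_of_isStandardSmooth _ _

end Groth.Agent.Lib.Helper24.SmoothSynt
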