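import Mathlib
import Groth.Agent.Lib.Helper24.ClopenIdem
import Groth.Agent.Lib.Helper26.HenselIdemAdjoin
import Groth.Agent.Lib.Helper26.HenselFEt

/-!
# Helper library (helper24): a henselian couple `(X, X₀)` with `X` qcqs gives a henselian pair
of global sections
-/

set_option autoImplicit false
set_option maxHeartbeats 400000
set_option linter.style.haveILetI false
universe u

namespace Groth.Agent.Lib.Helper24.HensGlobal

open CategoryTheory Limits AlgebraicGeometry TensorProduct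
open Groth.Agent.Lib.Helper24.ClopenIdem

section Ring

/-- In a pushout square of commutative rings along a flat map, the kernel of the base-changed map
is generated by the kernel of the original map. -/
theorem ker_inr_of_isPushout_of_flat {B R₀ C P : CommRingCat.{u}} {β : B ⟶ R₀} {γ : B ⟶ C}
    {inl : R₀ ⟶ P} {inr : C ⟶ P} (H : IsPushout β γ inl inr) (hγ : γ.hom.Flat) :
    RingHom.ker inr.hom ≤ (RingHom.ker β.hom).map γ.hom := by
  letI alg1 : Algebra B R₀ := β.hom.toAlgebra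
  letI alg2 : Algebra B C := γ.hom.toAlgebra
  haveI : Module.Flat B C := hγ
  have H' := CommRingCat.isPushout_tensorProduct B R₀ C
  have H'' : IsPushout β γ
      (CommRingCat.ofHom (S := R₀ ⊗[B] C) Algebra.TensorProduct.includeLeftRingHom)
      (CommRingCat.ofHom (S := R₀ ⊗[B] C) Algebra.TensorProduct.includeRight.toRingHom) := H'
  obtain ⟨θ, hθ⟩ : ∃ θ : CommRingCat.of (R₀ ⊗[B] C) ≅ P,
      CommRingCat.ofHom (S := R₀ ⊗[B] C) Algebra.TensorProduct.includeRight.toRingHom ≫ θ.hom =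
        inr :=
    ⟨H''.isoIsPushout _ _ H, IsPushout.inr_isoIsPushout_hom _ _ H'' H⟩
  intro c hc
  rw [RingHom.mem_ker] at hc
  have h1 : θ.hom.hom ((1 : R₀) ⊗ₜ[B] c) = 0 := by
    rw [← hθ] at hc
    exact hc
  have h2 : (1 : R₀) ⊗ₜ[B] c = 0 := by
    have hinj := (ConcreteCategory.bijective_of_isIso θ.hom).1
    apply hinj
    rw [map_zero]
    exact h1
  let ι : (B ⧸ RingHom.ker β.hom) →ₐ[B] R₀ :=
    Ideal.Quotient.liftₐ (RingHom.ker β.hom) (Algebra.ofId B R₀)
      (fun a ha => RingHom.mem_ker.mp ha)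
  have hιinj : Function.Injective ι := by
    rw [injective_iff_map_eq_zero]
    intro x hx
    obtain ⟨a, rfl⟩ := Ideal.Quotient.mk_surjective x
    rw [Ideal.Quotient.eq_zero_iff_mem]
    exact RingHom.mem_ker.mpr hx
  have hflat := Module.Flat.rTensor_preserves_injective_linearMap (M := C) ι.toLinearMap hιinj
  have h3 : (1 : B ⧸ RingHom.ker β.hom) ⊗ₜ[B] c = 0 := by
    apply hflat
    rw [map_zero, LinearMap.rTensor_tmul, AlgHom.toLinearMap_apply, map_one]
    exact h2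
  exact Groth.Agent.Lib.Helper26.HenselFEt.mem_map_of_tmul_eq_zero (RingHom.ker β.hom) c h3

end Ring

section Scheme

theorem appLE_top_top {X Y : Scheme.{u}} (f : X ⟶ Y) (e : (⊤ : X.Opens) ≤ f ⁻¹ᵁ ⊤) :
    f.appLE ⊤ ⊤ e = f.appTop := by
  rw [Scheme.Hom.appLE]
  have h : X.presheaf.map (homOfLE e).op = 𝟙 _ := X.presheaf.map_id _
  rw [h]; exact Category.comp_id _

/-- Flat base change for global sections over an affine base. -/
theorem isPushout_appTop_of_flat {X Y S T : Scheme.{u}} {f : T ⟶ S} {g : Y ⟶ X} {iX : X ⟶ S}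
    {iY : Y ⟶ T} (H : IsPullback g iY iX f) [Flat f] [IsAffine S] [IsAffine T] [CompactSpace X]
    [QuasiSeparatedSpace X] : IsPushout iX.appTop f.appTop g.appTop iY.appTop := by
  have hUY : (⊤ : Y.Opens) = g ⁻¹ᵁ ⊤ ⊓ iY ⁻¹ᵁ ⊤ := by
    ext x; simp
  have h := isIso_pushoutSection_of_isQuasiSeparated_of_flat_right H (US := ⊤) (UT := ⊤)
    (UX := ⊤) le_top le_top hUY (isAffineOpen_top S) (isAffineOpen_top T) isCompact_univ
    isQuasiSeparated_univ
  have h2 := (isIso_pushoutSection_iff H le_top le_top hUY).mp h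
  rw [appLE_top_top, appLE_top_top, appLE_top_top, appLE_top_top] at h2
  exact h2

variable {X X₀ : Scheme.{u}} (i : X₀ ⟶ X)

theorem isUnit_of_appTop_eq_one [IsClosedImmersion i]
    (hX : ∀ (Y : Scheme.{u}) (g : Y ⟶ X), IsFinite g →
      ∀ V : Set ↥(pullback g i), IsClopen V →
        ∃! U : Set ↥Y, IsClopen U ∧ (pullback.fst g i).base ⁻¹' U = V)
    (s : Γ(X, ⊤)) (hs : i.appTop.hom s = 1) : IsUnit s := by
  let Zc : TopologicalSpace.Closeds X :=
    ⟨(X.basicOpen s : Set X)ᶜ, (X.basicOpen s).isOpen.isClosed_compl⟩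
  obtain ⟨𝓘, h𝓘⟩ : ∃ 𝓘 : X.IdealSheafData, 𝓘 = Scheme.IdealSheafData.vanishingIdeal Zc :=
    ⟨_, rfl⟩
  have hrange : Set.range 𝓘.subschemeι = (X.basicOpen s : Set X)ᶜ := by
    rw [Scheme.IdealSheafData.range_subschemeι, h𝓘,
      Scheme.IdealSheafData.coe_support_vanishingIdeal]
    rfl
  have hpre : i ⁻¹ᵁ X.basicOpen s = ⊤ := by
    rw [Scheme.preimage_basicOpen_top]
    have : i.appTop s = 1 := hs
    rw [this, Scheme.basicOpen_one]
  haveI : IsEmpty ↥(pullback 𝓘.subschemeι i) := by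
    constructor
    intro w
    have h1 : 𝓘.subschemeι (pullback.fst 𝓘.subschemeι i w) =
        i (pullback.snd 𝓘.subschemeι i w) :=
      congrArg (fun q => q.base w) (pullback.condition (f := 𝓘.subschemeι) (g := i))
    have h2 : 𝓘.subschemeι (pullback.fst 𝓘.subschemeι i w) ∈ (X.basicOpen s : Set X)ᶜ := by
      rw [← hrange]; exact ⟨_, rfl⟩
    have h3 : i (pullback.snd 𝓘.subschemeι i w) ∈ X.basicOpen s := by
      have : pullback.snd 𝓘.subschemeι i w ∈ i ⁻¹ᵁ X.basicOpen s := by rw [hpre]; trivial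
      exact this
    rw [h1] at h2
    exact h2 h3
  obtain ⟨U, -, hU⟩ := hX _ 𝓘.subschemeι inferInstance ∅ isClopen_empty
  have e1 : (∅ : Set 𝓘.subscheme) = U := hU ∅ ⟨isClopen_empty, Set.eq_empty_of_isEmpty _⟩
  have e2 : (Set.univ : Set 𝓘.subscheme) = U :=
    hU Set.univ ⟨isClopen_univ, Set.eq_empty_of_isEmpty _⟩
  have hempty : IsEmpty 𝓘.subscheme := by
    constructor
    intro y
    have : y ∈ (∅ : Set 𝓘.subscheme) := by rw [e1, ← e2]; trivial
    exact this
  have hD : ∀ x : X, x ∈ X.basicOpen s := by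
    intro x
    by_contra hx
    have : x ∈ Set.range 𝓘.subschemeι := by rw [hrange]; exact hx
    obtain ⟨y, -⟩ := this
    exact hempty.false y
  apply X.toLocallyRingedSpace.toRingedSpace.isUnit_of_isUnit_germ ⊤ s
  intro x hx
  exact (X.mem_basicOpen_top s x).mp (hD x)

theorem ker_le_jacobson [IsClosedImmersion i]
    (hX : ∀ (Y : Scheme.{u}) (g : Y ⟶ X), IsFinite g →
      ∀ V : Set ↥(pullback g i), IsClopen V →
        ∃! U : Set ↥Y, IsClopen U ∧ (pullback.fst g i).base ⁻¹' U = V) :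
    RingHom.ker i.appTop.hom ≤ Ideal.jacobson ⊥ := by
  intro x hx
  rw [Ideal.mem_jacobson_bot]
  intro y
  apply isUnit_of_appTop_eq_one i hX
  rw [map_add, map_mul, RingHom.mem_ker.mp hx, zero_mul, zero_add, map_one]

set_option maxHeartbeats 1600000 in
open Polynomial in
theorem surjOn_adjoinRoot [IsClosedImmersion i] [CompactSpace X] [QuasiSeparatedSpace X]
    (hX : ∀ (Y : Scheme.{u}) (g : Y ⟶ X), IsFinite g →
      ∀ V : Set ↥(pullback g i), IsClopen V →
        ∃! U : Set ↥Y, IsClopen U ∧ (pullback.fst g i).base ⁻¹' U = V)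
    (f : (Γ(X, ⊤) : Type u)[X]) (hf : f.Monic) :
    Set.SurjOn (Ideal.Quotient.mk (Ideal.map (algebraMap (Γ(X, ⊤) : Type u) (AdjoinRoot f))
        (RingHom.ker i.appTop.hom)))
      {e : AdjoinRoot f | IsIdempotentElem e} {e | IsIdempotentElem e} := by
  haveI : Module.Free (Γ(X, ⊤) : Type u) (AdjoinRoot f) := hf.free_adjoinRoot
  haveI : Module.Finite (Γ(X, ⊤) : Type u) (AdjoinRoot f) := hf.finite_adjoinRoot
  obtain ⟨γ, hγ⟩ : ∃ γ : Γ(X, ⊤) ⟶ CommRingCat.of (AdjoinRoot f),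
    γ = CommRingCat.ofHom (algebraMap (Γ(X, ⊤) : Type u) (AdjoinRoot f)) := ⟨_, rfl⟩
  have hγflat : γ.hom.Flat := by
    rw [hγ]; exact RingHom.flat_algebraMap_iff.mpr inferInstance
  have hγfin : γ.hom.Finite := by
    rw [hγ]; exact RingHom.finite_algebraMap.mpr inferInstance
  haveI : Flat (Spec.map γ) := (HasRingHomProperty.Spec_iff (P := @Flat)).mpr hγflat
  haveI : IsFinite (Spec.map γ) := (IsFinite.SpecMap_iff γ).mpr hγfin
  obtain ⟨σ, hσ⟩ : ∃ σ : X ⟶ Spec Γ(X, ⊤), σ = X.toSpecΓ := ⟨_, rfl⟩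
  obtain ⟨g, hg⟩ : ∃ g : pullback σ (Spec.map γ) ⟶ X, g = pullback.fst σ (Spec.map γ) :=
    ⟨_, rfl⟩
  obtain ⟨h, hh⟩ : ∃ h : pullback σ (Spec.map γ) ⟶ Spec (CommRingCat.of (AdjoinRoot f)),
    h = pullback.snd σ (Spec.map γ) := ⟨_, rfl⟩
  haveI : IsFinite g := by rw [hg]; infer_instance
  have sq2 : IsPullback g h σ (Spec.map γ) := by
    rw [hg, hh]; exact IsPullback.of_hasPullback _ _
  have hpo1 : IsPushout σ.appTop (Spec.map γ).appTop g.appTop h.appTop :=
    isPushout_appTop_of_flat sq2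
  have hσtop : σ.appTop = (Scheme.ΓSpecIso Γ(X, ⊤)).hom := by
    rw [hσ, Scheme.toSpecΓ_appTop]
  haveI : IsIso σ.appTop := by rw [hσtop]; infer_instance
  haveI : IsIso h.appTop := hpo1.isIso_inr_of_isIso
  obtain ⟨κ, hκ⟩ : ∃ κ : CommRingCat.of (AdjoinRoot f) ⟶ Γ(pullback σ (Spec.map γ), ⊤),
    κ = (Scheme.ΓSpecIso (CommRingCat.of (AdjoinRoot f))).inv ≫ h.appTop := ⟨_, rfl⟩
  haveI : IsIso κ := by rw [hκ]; infer_instance
  have hκbij : Function.Bijective κ.hom := ConcreteCategory.bijective_of_isIso κ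
  have hγκ : γ ≫ κ = g.appTop := by
    rw [hκ, ← Category.assoc, Scheme.ΓSpecIso_inv_naturality, Category.assoc, ← hpo1.w, hσtop,
      Iso.inv_hom_id_assoc]
  -- the reduction
  have hb := (clopen_lift_iff_bijOn (pullback.fst g i)).mp (hX _ g inferInstance)
  obtain ⟨pr, hpr⟩ : ∃ pr : pullback g i ⟶ pullback σ (Spec.map γ), pr = pullback.fst g i :=
    ⟨_, rfl⟩
  rw [← hpr] at hb
  haveI : CompactSpace X₀ := i.isClosedEmbedding.compactSpace
  haveI : QuasiSeparatedSpace X₀ := quasiSeparatedSpace_of_quasiSeparated i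
  have sq1 : IsPullback (pullback.snd g i) pr i g := by
    rw [hpr]; exact (IsPullback.of_hasPullback g i).flip
  have sq : IsPullback (pullback.snd g i) (pr ≫ h) (i ≫ σ) (Spec.map γ) := sq1.paste_vert sq2
  have hpo2 : IsPushout (i ≫ σ).appTop (Spec.map γ).appTop (pullback.snd g i).appTop
      (pr ≫ h).appTop := isPushout_appTop_of_flat sq
  have hflat' : (Spec.map γ).appTop.hom.Flat :=
    (HasRingHomProperty.iff_of_isAffine (P := @Flat)).mp inferInstance
  have hker := ker_inr_of_isPushout_of_flat hpo2 hflat'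
  -- the map `C → Γ(Y₀)`
  obtain ⟨lam, hlam⟩ : ∃ lam : AdjoinRoot f →+* Γ(pullback g i, ⊤),
    lam = pr.appTop.hom.comp κ.hom := ⟨_, rfl⟩
  have hlam1 : ∀ c, lam c = 0 →
      c ∈ Ideal.map (algebraMap (Γ(X, ⊤) : Type u) (AdjoinRoot f)) (RingHom.ker i.appTop.hom) := by
    intro c hc
    have hc1 : (Scheme.ΓSpecIso (CommRingCat.of (AdjoinRoot f))).inv.hom c ∈
        RingHom.ker (pr ≫ h).appTop.hom := by
      rw [RingHom.mem_ker]
      rw [hlam, hκ] at hc
      rw [Scheme.Hom.comp_appTop]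
      exact hc
    have hc2 := Ideal.mem_map_of_mem (Scheme.ΓSpecIso (CommRingCat.of (AdjoinRoot f))).hom.hom
      (hker hc1)
    have hc3 : (Scheme.ΓSpecIso (CommRingCat.of (AdjoinRoot f))).hom.hom
        ((Scheme.ΓSpecIso (CommRingCat.of (AdjoinRoot f))).inv.hom c) = c := by
      rw [← RingHom.comp_apply, ← CommRingCat.hom_comp, Iso.inv_hom_id]
      rfl
    rw [hc3, Ideal.map_map, ← CommRingCat.hom_comp, Scheme.ΓSpecIso_naturality,
      CommRingCat.hom_comp, ← Ideal.map_map] at hc2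
    refine Ideal.map_mono ?_ (by rw [hγ] at hc2; exact hc2)
    rw [Ideal.map_le_iff_le_comap]
    intro x hx
    rw [Ideal.mem_comap, RingHom.mem_ker]
    rw [RingHom.mem_ker, Scheme.Hom.comp_appTop, hσtop] at hx
    exact hx
  have he0 : ∀ b, algebraMap (Γ(X, ⊤) : Type u) (AdjoinRoot f) b = γ.hom b := by
    intro b; rw [hγ]; rfl
  have he1 : ∀ b, κ.hom (γ.hom b) = g.appTop.hom b := by
    intro b
    have := congrArg (fun q => q.hom b) hγκ
    exact this
  have he2 : ∀ b, pr.appTop.hom (g.appTop.hom b) =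
      (pullback.snd g i).appTop.hom (i.appTop.hom b) := by
    intro b
    have h5 : (pullback.snd g i ≫ i).appTop = (pr ≫ g).appTop := by rw [sq1.w]
    rw [Scheme.Hom.comp_appTop, Scheme.Hom.comp_appTop] at h5
    have := congrArg (fun q => q.hom b) h5
    exact this.symm
  have hlam2 : ∀ c ∈ Ideal.map (algebraMap (Γ(X, ⊤) : Type u) (AdjoinRoot f))
      (RingHom.ker i.appTop.hom), lam c = 0 := by
    have : Ideal.map (algebraMap (Γ(X, ⊤) : Type u) (AdjoinRoot f)) (RingHom.ker i.appTop.hom) ≤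
        RingHom.ker lam := by
      rw [Ideal.map_le_iff_le_comap]
      intro b hb'
      rw [Ideal.mem_comap, RingHom.mem_ker, hlam, RingHom.comp_apply, he0, he1, he2,
        RingHom.mem_ker.mp hb', map_zero]
    exact fun c hc => RingHom.mem_ker.mp (this hc)
  -- lifting idempotents
  intro w hw
  obtain ⟨c₀, rfl⟩ := Ideal.Quotient.mk_surjective w
  have hw' : c₀ * c₀ - c₀ ∈ Ideal.map (algebraMap (Γ(X, ⊤) : Type u) (AdjoinRoot f))
      (RingHom.ker i.appTop.hom) := by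
    rw [← Ideal.Quotient.eq, map_mul]
    exact hw
  have hlamidem : IsIdempotentElem (lam c₀) := by
    have := hlam2 _ hw'
    rw [map_sub, map_mul, sub_eq_zero] at this
    exact this
  have hlamc₀ : lam c₀ = pr.appTop.hom (κ.hom c₀) := by rw [hlam]; rfl
  rw [hlamc₀] at hlamidem
  obtain ⟨u, hu, hupr⟩ := hb.surjOn hlamidem
  obtain ⟨c₁, rfl⟩ := hκbij.2 u
  refine ⟨c₁, ?_, ?_⟩
  · apply hκbij.1
    rw [map_mul]
    exact hu
  · rw [Ideal.Quotient.eq]
    apply hlam1
    rw [map_sub, sub_eq_zero, hlamc₀]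
    rw [hlam]
    exact hupr

theorem henselianRing_globalSections [IsClosedImmersion i] [CompactSpace X]
    [QuasiSeparatedSpace X]
    (hX : ∀ (Y : Scheme.{u}) (g : Y ⟶ X), IsFinite g →
      ∀ V : Set ↥(pullback g i), IsClopen V →
        ∃! U : Set ↥Y, IsClopen U ∧ (pullback.fst g i).base ⁻¹' U = V) :
    HenselianRing (Γ(X, ⊤) : Type u) (RingHom.ker i.appTop.hom) :=
  Groth.Agent.Lib.Helper26.HenselIdemAdjoin.henselianRing_of_surjOn_adjoinRoot _
    (ker_le_jacobson i hX) (fun f hf => surjOn_adjoinRoot i hX f hf)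

end Scheme

end Groth.Agent.Lib.Helper24.HensGlobal
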