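import Mathlib
import Groth.Prelude.Def_RegImm
import Groth.Prelude.Def_Flat
import Groth.Agent.Lib.Helper24.RelGCIAway

/-!
# Spreading a relative global complete intersection out of a closed subscheme of the base
(helper24)
-/

set_option autoImplicit false
set_option maxHeartbeats 400000
set_option linter.style.haveILetI false

universe u

open TensorProduct Synt AlgebraicGeometry Groth.Agent.Lib.Helper12 MvPolynomial

namespace Groth.Agent.Lib.Helper24.RelGCIQuot

open Groth.Agent.Lib.Helper24.RelGCIAway

section top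

/-- Precomposition with an embedding which is onto the fibre does not change the fibre
dimension. -/
theorem topFibreDim_comp_embedding {X Y W : Type*} [TopologicalSpace X] [TopologicalSpace Y]
    [TopologicalSpace W] (f : X → Y) (i : W → X) (hi : Topology.IsEmbedding i) (x : W)
    (hsurj : ∀ z : X, f z = f (i x) → z ∈ Set.range i) :
    TopFibreDim.topFibreDim (f ∘ i) x = TopFibreDim.topFibreDim f (i x) := by
  unfold TopFibreDim.topFibreDim
  have hemb : Topology.IsEmbedding ((f ⁻¹' {f (i x)}).restrictPreimage i) :=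
    Set.restrictPreimage_isEmbedding _ hi
  have hsur : Function.Surjective ((f ⁻¹' {f (i x)}).restrictPreimage i) := by
    rintro ⟨z, hz⟩
    obtain ⟨w, rfl⟩ := hsurj z hz
    exact ⟨⟨w, hz⟩, rfl⟩
  have hopen : Topology.IsOpenEmbedding ((f ⁻¹' {f (i x)}).restrictPreimage i) :=
    ⟨hemb, by rw [hsur.range_eq]; exact isOpen_univ⟩
  exact SchemeDimFT.localDim_eq_of_isOpenEmbedding _ hopen ⟨x, rfl⟩

end top

section quot

variable (R : Type u) [CommRing R] (n c : ℕ) (F : Fin c → MvPolynomial (Fin n) R) (I : Ideal R)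

/-- The reduction map `R[x]/(F) → (R/I)[x]/(F mod I)`. -/
noncomputable def quotMap : RelGCIRing R n c F →+*
    RelGCIRing (R ⧸ I) n c (fun i => MvPolynomial.map (Ideal.Quotient.mk I) (F i)) :=
  Ideal.Quotient.lift (Ideal.span (Set.range F))
    ((Ideal.Quotient.mk (Ideal.span
      (Set.range fun i => MvPolynomial.map (Ideal.Quotient.mk I) (F i)))).comp
        (MvPolynomial.map (Ideal.Quotient.mk I)))
    (by
      intro a ha
      rw [RingHom.comp_apply, Ideal.Quotient.eq_zero_iff_mem]
      have hle : Ideal.span (Set.range F) ≤ (Ideal.span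
          (Set.range fun i => MvPolynomial.map (Ideal.Quotient.mk I) (F i))).comap
            (MvPolynomial.map (Ideal.Quotient.mk I)) := by
        rw [Ideal.span_le]
        rintro _ ⟨i, rfl⟩
        exact Ideal.subset_span ⟨i, rfl⟩
      exact hle ha)

theorem quotMap_mk (a : MvPolynomial (Fin n) R) :
    quotMap R n c F I (Ideal.Quotient.mk _ a) =
      Ideal.Quotient.mk _ (MvPolynomial.map (Ideal.Quotient.mk I) a) := rfl

theorem quotMap_surjective : Function.Surjective (quotMap R n c F I) :=
  Ideal.Quotient.lift_surjective_of_surjective _ _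
    (Ideal.Quotient.mk_surjective.comp
      (MvPolynomial.map_surjective _ Ideal.Quotient.mk_surjective))

theorem quotMap_algebraMap (a : R) :
    quotMap R n c F I (algebraMap R (RelGCIRing R n c F) a) =
      algebraMap (R ⧸ I)
        (RelGCIRing (R ⧸ I) n c (fun i => MvPolynomial.map (Ideal.Quotient.mk I) (F i)))
        (Ideal.Quotient.mk I a) := by
  show quotMap R n c F I (Ideal.Quotient.mk _ (C a)) =
    Ideal.Quotient.mk _ (C (Ideal.Quotient.mk I a))
  rw [quotMap_mk, MvPolynomial.map_C]

theorem ker_quotMap_le :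
    RingHom.ker (quotMap R n c F I) ≤ I.map (algebraMap R (RelGCIRing R n c F)) := by
  intro s hs
  obtain ⟨G, rfl⟩ := Ideal.Quotient.mk_surjective s
  rw [RingHom.mem_ker, quotMap_mk] at hs
  have h1 : MvPolynomial.map (Ideal.Quotient.mk I) G ∈ Ideal.span
      (Set.range fun i => MvPolynomial.map (Ideal.Quotient.mk I) (F i)) :=
    Ideal.Quotient.eq_zero_iff_mem.mp hs
  have h2 : Ideal.span (Set.range fun i => MvPolynomial.map (Ideal.Quotient.mk I) (F i)) =
      (Ideal.span (Set.range F)).map (MvPolynomial.map (Ideal.Quotient.mk I)) := by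
    rw [Ideal.map_span, ← Set.range_comp]
    rfl
  rw [h2] at h1
  obtain ⟨G', hG', hGG'⟩ := (Ideal.mem_map_iff_of_surjective _
    (MvPolynomial.map_surjective _ Ideal.Quotient.mk_surjective)).mp h1
  have h3 : G - G' ∈ RingHom.ker
      (MvPolynomial.map (Ideal.Quotient.mk I) : MvPolynomial (Fin n) R →+* _) := by
    rw [RingHom.mem_ker, map_sub, hGG', sub_self]
  rw [MvPolynomial.ker_map, Ideal.mk_ker] at h3
  have h4 : Ideal.Quotient.mk (Ideal.span (Set.range F)) G =
      Ideal.Quotient.mk (Ideal.span (Set.range F)) (G - G') := by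
    rw [map_sub, Ideal.Quotient.eq_zero_iff_mem.mpr hG', sub_zero]
  rw [h4]
  have h5 : (I.map (C : R →+* MvPolynomial (Fin n) R)).map
      (Ideal.Quotient.mk (Ideal.span (Set.range F))) =
      I.map (algebraMap R (RelGCIRing R n c F)) := by
    rw [Ideal.map_map]
    rfl
  rw [← h5]
  exact Ideal.mem_map_of_mem _ h3

/-- Points of `V(IS)` have the fibre dimension of the reduction. -/
theorem topFibreDim_le_of_map_le
    (hI : IsRelGCI (R ⧸ I) n c (fun i => MvPolynomial.map (Ideal.Quotient.mk I) (F i)))
    (q : PrimeSpectrum (RelGCIRing R n c F))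
    (hq : I.map (algebraMap R (RelGCIRing R n c F)) ≤ q.asIdeal) :
    c ≤ n ∧ TopFibreDim.topFibreDim
      (PrimeSpectrum.comap (algebraMap R (RelGCIRing R n c F))) q ≤
        ((n - c : ℕ) : WithBot ℕ∞) := by
  have hπs := quotMap_surjective R n c F I
  have hqr : q ∈ Set.range (PrimeSpectrum.comap (quotMap R n c F I)) := by
    rw [range_comap_of_surjective _ _ hπs]
    exact (ker_quotMap_le R n c F I).trans hq
  obtain ⟨x, rfl⟩ := hqr
  haveI : Nontrivial ((PrimeSpectrum.comap (algebraMap (R ⧸ I)
      (RelGCIRing (R ⧸ I) n c (fun i => MvPolynomial.map (Ideal.Quotient.mk I) (F i))))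
        x).asIdeal.Fiber
      (RelGCIRing (R ⧸ I) n c (fun i => MvPolynomial.map (Ideal.Quotient.mk I) (F i)))) :=
    (PrimeSpectrum.nonempty_iff_nontrivial).mp
      ⟨PrimeSpectrum.preimageHomeomorphFiber _ _ _ ⟨x, rfl⟩⟩
  obtain ⟨hcn, hdim⟩ := hI _ this
  refine ⟨hcn, ?_⟩
  have h1 := topFibreDim_le_of_fibre_dim_le (R ⧸ I)
    (RelGCIRing (R ⧸ I) n c (fun i => MvPolynomial.map (Ideal.Quotient.mk I) (F i)))
    _ _ hdim.le x rfl
  have hsq : (PrimeSpectrum.comap (algebraMap R (RelGCIRing R n c F))) ∘
      (PrimeSpectrum.comap (quotMap R n c F I)) =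
      (PrimeSpectrum.comap (Ideal.Quotient.mk I)) ∘
        (PrimeSpectrum.comap (algebraMap (R ⧸ I)
          (RelGCIRing (R ⧸ I) n c
            (fun i => MvPolynomial.map (Ideal.Quotient.mk I) (F i))))) := by
    funext y
    simp only [Function.comp_apply]
    rw [← PrimeSpectrum.comap_comp_apply, ← PrimeSpectrum.comap_comp_apply]
    congr 1
    ext a
    exact quotMap_algebraMap R n c F I a
  have hcond : ∀ z : PrimeSpectrum (RelGCIRing R n c F),
      PrimeSpectrum.comap (algebraMap R (RelGCIRing R n c F)) z =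
        PrimeSpectrum.comap (algebraMap R (RelGCIRing R n c F))
          (PrimeSpectrum.comap (quotMap R n c F I) x) →
      z ∈ Set.range (PrimeSpectrum.comap (quotMap R n c F I)) := by
    intro z hz
    rw [range_comap_of_surjective _ _ hπs]
    refine (ker_quotMap_le R n c F I).trans ?_
    rw [Ideal.map_le_iff_le_comap]
    intro a ha
    have h2 : a ∈ (PrimeSpectrum.comap (algebraMap R (RelGCIRing R n c F)) z).asIdeal := by
      rw [hz]
      show quotMap R n c F I (algebraMap R (RelGCIRing R n c F) a) ∈ x.asIdeal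
      rw [quotMap_algebraMap, Ideal.Quotient.eq_zero_iff_mem.mpr ha, map_zero]
      exact x.asIdeal.zero_mem
    exact h2
  rw [← topFibreDim_comp_embedding (PrimeSpectrum.comap (algebraMap R (RelGCIRing R n c F)))
      (PrimeSpectrum.comap (quotMap R n c F I))
      (PrimeSpectrum.isEmbedding_comap_of_surjective _ _ hπs) x hcond,
    TopFibreDim.topFibreDim_congr hsq x,
    TopFibreDim.topFibreDim_comp_injective _ _
      (PrimeSpectrum.comap_injective_of_surjective _ Ideal.Quotient.mk_surjective) x]
  exact h1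

theorem main9172
    (hI : IsRelGCI (R ⧸ I) n c (fun i => MvPolynomial.map (Ideal.Quotient.mk I) (F i))) :
    ∃ h : MvPolynomial (Fin n) R,
      Ideal.Quotient.mk (I.map (algebraMap R (RelGCIRing R n c F)))
        (Ideal.Quotient.mk (Ideal.span (Set.range F)) h) = 1 ∧
      IsRelGCI R (n + 1) (c + 1)
        (Fin.snoc (fun i => rename Fin.castSucc (F i))
          (rename Fin.castSucc h * X (Fin.last n) - 1)) ∧
      Nonempty (Localization.Away (Ideal.Quotient.mk (Ideal.span (Set.range F)) h) ≃ₐ[R]
        RelGCIRing R (n + 1) (c + 1)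
          (Fin.snoc (fun i => rename Fin.castSucc (F i))
            (rename Fin.castSucc h * X (Fin.last n) - 1))) := by
  by_cases hcn : c ≤ n
  · have hUopen := FibreLocDim.isOpen_set R (RelGCIRing R n c F) (n - c)
    obtain ⟨J, hJ⟩ := (PrimeSpectrum.isClosed_iff_zeroLocus_ideal _).mp hUopen.isClosed_compl
    have hsup : J ⊔ I.map (algebraMap R (RelGCIRing R n c F)) = ⊤ := by
      by_contra hne
      obtain ⟨M, hM, hle⟩ := Ideal.exists_le_maximal _ hne
      haveI := hM.isPrime
      have h1 := (topFibreDim_le_of_map_le R n c F I hI ⟨M, inferInstance⟩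
        (le_sup_right.trans hle)).2
      have h2 : (⟨M, inferInstance⟩ : PrimeSpectrum (RelGCIRing R n c F)) ∈
          PrimeSpectrum.zeroLocus (J : Set (RelGCIRing R n c F)) :=
        le_sup_left.trans hle
      rw [← hJ] at h2
      exact h2 h1
    have h1mem : (1 : RelGCIRing R n c F) ∈ J ⊔ I.map (algebraMap R (RelGCIRing R n c F)) := by
      rw [hsup]; exact Submodule.mem_top
    obtain ⟨j, hj, i, hi, hji⟩ := Submodule.mem_sup.mp h1mem
    obtain ⟨h, rfl⟩ := Ideal.Quotient.mk_surjective j
    obtain ⟨e⟩ := exists_awayEquiv n c F h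
    refine ⟨h, ?_, ?_, ⟨e⟩⟩
    · rw [← map_one (Ideal.Quotient.mk (I.map (algebraMap R (RelGCIRing R n c F)))), ← hji,
        map_add, Ideal.Quotient.eq_zero_iff_mem.mpr hi, add_zero]
    · refine isRelGCI_of_algEquiv_away R n c (n + 1) (c + 1) (by omega) (by omega) F _ _ e
        (fun q hq => ?_)
      by_contra hcon
      have h1 : q ∈ PrimeSpectrum.zeroLocus (J : Set (RelGCIRing R n c F)) := by
        rw [← hJ]; exact hcon
      exact hq (h1 hj)
  · have htop : I.map (algebraMap R (RelGCIRing R n c F)) = ⊤ := by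
      by_contra hne
      obtain ⟨M, hM, hle⟩ := Ideal.exists_le_maximal _ hne
      haveI := hM.isPrime
      exact hcn (topFibreDim_le_of_map_le R n c F I hI ⟨M, inferInstance⟩ hle).1
    obtain ⟨e⟩ := exists_awayEquiv n c F 0
    refine ⟨0, ?_, ?_, ⟨e⟩⟩
    · have hss : Subsingleton
          (RelGCIRing R n c F ⧸ I.map (algebraMap R (RelGCIRing R n c F))) := by
        rw [htop]; exact Ideal.Quotient.subsingleton_iff.mpr rfl
      exact Subsingleton.elim _ _
    · intro p' hnt
      exfalso
      haveI h0 : Subsingleton (Localization.Away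
          (Ideal.Quotient.mk (Ideal.span (Set.range F)) (0 : MvPolynomial (Fin n) R))) :=
        IsLocalization.subsingleton (M := Submonoid.powers
          (Ideal.Quotient.mk (Ideal.span (Set.range F)) (0 : MvPolynomial (Fin n) R)))
          ⟨1, by simp⟩
      have hT : (1 : RelGCIRing R (n + 1) (c + 1)
          (Fin.snoc (fun i => rename Fin.castSucc (F i))
            (rename Fin.castSucc (0 : MvPolynomial (Fin n) R) * X (Fin.last n) - 1))) = 0 := by
        apply e.symm.injective
        exact Subsingleton.elim _ _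
      have h10 : (1 : p'.asIdeal.Fiber (RelGCIRing R (n + 1) (c + 1)
          (Fin.snoc (fun i => rename Fin.castSucc (F i))
            (rename Fin.castSucc (0 : MvPolynomial (Fin n) R) * X (Fin.last n) - 1)))) = 0 := by
        rw [Algebra.TensorProduct.one_def, hT, TensorProduct.tmul_zero]
      exact (not_subsingleton_iff_nontrivial.mpr hnt) (subsingleton_of_zero_eq_one h10.symm)

end quot

end Groth.Agent.Lib.Helper24.RelGCIQuot
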