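import Mathlib

/-!
# An abstract residue computation for the Adams–Riemann–Roch formula of an elementary projection
(helper24)

`A → B` rings, `u ∈ B` a root of `p ∈ A[X]`, `f : B → A` an `A`-linear functional with
`f(u^i) = δ_{i0}` for `i ≤ r`, where a unit multiple of `p` is monic of degree `r + 1`.  If
`expand_j P = p · Q` with `deg Q ≤ (j-1)(r+1)`, `Q(0) = 1`, and `P` is a multiple of a monic `P'` of
degree `r+1`, then `f(z(u^j))` is the constant coefficient of `(contract_j Q · z) mod P'`.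
-/

set_option autoImplicit false
open Polynomial

namespace Groth.Agent.Lib.Helper24.ARRFunctional

universe u v
variable {A : Type u} {B : Type v} [CommRing A] [CommRing B]

theorem contract_C_mul {j : ℕ} (hj : j ≠ 0) (c : A) (Y : A[X]) :
    contract j (C c * Y) = C c * contract j Y := by
  ext m
  rw [coeff_contract hj, coeff_C_mul, coeff_C_mul, coeff_contract hj]

theorem contract_expand_mul {j : ℕ} (hj : j ≠ 0) (P Y : A[X]) :
    contract j (expand A j P * Y) = P * contract j Y := by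
  rw [mul_comm, contract_mul_expand hj, mul_comm]

section

variable (ι : A →+* B) (f : B →+ A) (hf : ∀ a b, f (ι a * b) = a * f b)
  (j r : ℕ) (hj : j ≠ 0) (u : B)
  (p p' Q P P' : A[X]) (c cP : A)
  (hp' : p'.Monic) (hp'deg : p'.natDegree = r + 1) (hpp' : p' = C c * p)
  (hP' : P'.Monic) (hP'deg : P'.natDegree = r + 1) (hPP' : P = C cP * P')
  (hQdeg : Q.natDegree ≤ (j - 1) * (r + 1)) (hQ0 : Q.coeff 0 = 1)
  (hPQ : expand A j P = p * Q)
  (hu : eval₂ ι u p = 0)
  (hfu : ∀ i : ℕ, i ≤ r → f (u ^ i) = if i = 0 then 1 else 0)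

/-- the functional `Y ↦ [(contract_j (Q Y)) mod P']_0` -/
noncomputable def G (hj : j ≠ 0) : A[X] →+ A :=
  AddMonoidHom.mk' (fun Y => ((contract j (Q * Y)) %ₘ P').coeff 0) (by
    intro Y Z
    rw [mul_add, contract_add hj, add_modByMonic, coeff_add])

theorem G_apply (Y : A[X]) : G j Q P' hj Y = ((contract j (Q * Y)) %ₘ P').coeff 0 := rfl

theorem G_C_mul (a : A) (Y : A[X]) : G j Q P' hj (C a * Y) = a * G j Q P' hj Y := by
  rw [G_apply, G_apply, mul_left_comm, contract_C_mul hj, ← smul_eq_C_mul, smul_modByMonic,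
    coeff_smul, smul_eq_mul]

include hP' hPP' hPQ in
theorem G_p_mul (Y : A[X]) : G j Q P' hj (p * Y) = 0 := by
  rw [G_apply, ← mul_assoc, mul_comm Q p, ← hPQ, contract_expand_mul hj]
  have : P * contract j Y %ₘ P' = 0 := by
    rw [modByMonic_eq_zero_iff_dvd hP', hPP']
    exact Dvd.intro_left (C cP) (by ring) |>.mul_right _
  rw [this, coeff_zero]

include hP' hP'deg hQdeg hQ0 in
theorem G_X_pow (i : ℕ) (hi : i ≤ r) : G j Q P' hj (X ^ i) = if i = 0 then 1 else 0 := by
  rcases subsingleton_or_nontrivial A with h | h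
  · exact Subsingleton.elim _ _
  rw [G_apply]
  have hdeg : (contract j (Q * X ^ i)).degree < P'.degree := by
    rw [degree_eq_natDegree hP'.ne_zero, hP'deg, degree_lt_iff_coeff_zero]
    intro m hm
    rw [coeff_contract hj]
    apply coeff_eq_zero_of_natDegree_lt
    have h1 : (Q * X ^ i).natDegree ≤ (j - 1) * (r + 1) + i :=
      natDegree_mul_le.trans (Nat.add_le_add hQdeg (natDegree_X_pow_le i))
    have h2 : (r + 1) * j ≤ m * j := Nat.mul_le_mul_right j hm
    have h3 : (j - 1) * (r + 1) + (r + 1) = (r + 1) * j := by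
      have : j - 1 + 1 = j := Nat.sub_add_cancel (Nat.pos_of_ne_zero hj)
      calc (j - 1) * (r + 1) + (r + 1) = (j - 1 + 1) * (r + 1) := by ring
        _ = (r + 1) * j := by rw [this, mul_comm]
    omega
  rw [(modByMonic_eq_self_iff hP').mpr hdeg, coeff_contract hj, zero_mul, coeff_mul_X_pow']
  by_cases h0 : i = 0
  · subst h0; simp [hQ0]
  · rw [if_neg h0, if_neg]; omega

include hf hj hp' hp'deg hpp' hP' hP'deg hPP' hQdeg hQ0 hPQ hu hfu in
/-- `f(Y(u)) = G(Y)` for all polynomials `Y` -/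
theorem f_eval_eq (Y : A[X]) : f (eval₂ ι u Y) = G j Q P' hj Y := by
  rcases subsingleton_or_nontrivial A with h | h
  · exact Subsingleton.elim _ _
  set F : A[X] →+ A := f.comp (eval₂RingHom ι u).toAddMonoidHom with hF
  have hFa : ∀ Y, F Y = f (eval₂ ι u Y) := fun Y => rfl
  have hFC : ∀ (a : A) (Y : A[X]), F (C a * Y) = a * F Y := by
    intro a Y
    rw [hFa, hFa, eval₂_mul, eval₂_C, hf]
  have hFp : ∀ Y : A[X], F (p * Y) = 0 := by
    intro Y
    rw [hFa, eval₂_mul, hu, zero_mul, map_zero]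
  have hFX : ∀ i ≤ r, F (X ^ i) = G j Q P' hj (X ^ i) := by
    intro i hi
    rw [hFa, eval₂_pow, eval₂_X, hfu i hi, G_X_pow j r hj Q P' hP' hP'deg hQdeg hQ0 i hi]
  rw [← hFa]
  have hdecomp := modByMonic_add_div Y p'
  have hR : (Y %ₘ p').natDegree < r + 1 := by
    rw [← hp'deg]
    exact natDegree_modByMonic_lt Y hp' (by
      intro h1
      rw [h1, natDegree_one] at hp'deg
      omega)
  have h1 : F (p' * (Y /ₘ p')) = G j Q P' hj (p' * (Y /ₘ p')) := by
    rw [hpp', mul_assoc, mul_left_comm, hFp,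
      G_p_mul j hj p Q P P' cP hP' hPP' hPQ]
  have h2 : F (Y %ₘ p') = G j Q P' hj (Y %ₘ p') := by
    rw [as_sum_range_C_mul_X_pow' _ hR, map_sum, map_sum]
    refine Finset.sum_congr rfl fun i hi => ?_
    have hi' : i ≤ r := by have := Finset.mem_range.mp hi; omega
    rw [hFC, G_C_mul j hj, hFX i hi']
  calc F Y = F (Y %ₘ p' + p' * (Y /ₘ p')) := by rw [hdecomp]
    _ = G j Q P' hj (Y %ₘ p' + p' * (Y /ₘ p')) := by rw [map_add, map_add, h1, h2]
    _ = G j Q P' hj Y := by rw [hdecomp]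

include hf hj hp' hp'deg hpp' hP' hP'deg hPP' hQdeg hQ0 hPQ hu hfu in
/-- `f(z(u^j)) = [(contract_j Q · z) mod P']_0` -/
theorem f_eval_pow_eq (z : A[X]) :
    f (eval₂ ι (u ^ j) z) = ((contract j Q * z) %ₘ P').coeff 0 := by
  have h := f_eval_eq ι f hf j r hj u p p' Q P P' c cP hp' hp'deg hpp' hP' hP'deg hPP' hQdeg hQ0
    hPQ hu hfu (expand A j z)
  rw [G_apply, contract_mul_expand hj] at h
  rw [← h]
  congr 1
  rw [eval₂_eq_eval_map, eval₂_eq_eval_map, map_expand, expand_eval]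

include hf hj hp' hp'deg hpp' hP' hP'deg hPP' hQdeg hQ0 hPQ hu hfu in
/-- the assembled statement -/
theorem main (w : B)
    (h5 : eval₂ ι u Q = (j : B) * eval₂ ι (u ^ j) (contract j Q))
    (h6 : ∃ z d : A[X], contract j Q * z = 1 + P * d)
    (h7 : w * eval₂ ι u Q = 1) (i : ℕ) (hi : i ≤ r) :
    f ((j : B) * w * u ^ (i * j)) = if i = 0 then 1 else 0 := by
  rcases subsingleton_or_nontrivial A with h | h
  · exact Subsingleton.elim _ _
  obtain ⟨z, d, hzd⟩ := h6
  have hPu : eval₂ ι (u ^ j) P = 0 := by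
    have : eval₂ ι u (expand A j P) = eval₂ ι (u ^ j) P := by
      rw [eval₂_eq_eval_map, eval₂_eq_eval_map, map_expand, expand_eval]
    rw [← this, hPQ, eval₂_mul, hu, zero_mul]
  have h8 : eval₂ ι (u ^ j) (contract j Q) * eval₂ ι (u ^ j) z = 1 := by
    rw [← eval₂_mul, hzd, eval₂_add, eval₂_mul, hPu, zero_mul, add_zero, eval₂_one]
  have h9 : (j : B) * w = eval₂ ι (u ^ j) z := by
    calc (j : B) * w = (w * ((j : B) * eval₂ ι (u ^ j) (contract j Q))) * eval₂ ι (u ^ j) z := by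
          rw [mul_assoc w, mul_assoc, h8]; ring
      _ = eval₂ ι (u ^ j) z := by rw [← h5, h7, one_mul]
  have h10 : (j : B) * w * u ^ (i * j) = eval₂ ι (u ^ j) (z * X ^ i) := by
    rw [eval₂_mul, eval₂_pow, eval₂_X, h9, ← pow_mul, mul_comm j i]
  rw [h10, f_eval_pow_eq ι f hf j r hj u p p' Q P P' c cP hp' hp'deg hpp' hP' hP'deg hPP' hQdeg
    hQ0 hPQ hu hfu, ← mul_assoc, hzd, add_mul, one_mul, add_modByMonic]
  have h11 : P * d * X ^ i %ₘ P' = 0 := by
    rw [modByMonic_eq_zero_iff_dvd hP', hPP']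
    exact (Dvd.intro_left (C cP) (by ring) |>.mul_right _).mul_right _
  have h12 : (X ^ i : A[X]) %ₘ P' = X ^ i := by
    rw [modByMonic_eq_self_iff hP', degree_eq_natDegree hP'.ne_zero, hP'deg, degree_X_pow]
    exact_mod_cast Nat.lt_succ_of_le hi
  rw [h11, add_zero, h12, coeff_X_pow]
  by_cases h0 : i = 0
  · rw [if_pos h0, if_pos h0.symm]
  · rw [if_neg h0, if_neg (Ne.symm h0)]

end

end Groth.Agent.Lib.Helper24.ARRFunctional
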