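import Mathlib

/-!
# The operator `E_j = expand_j ∘ contract_j` on polynomials and a universal divisibility (helper24)

`E j Y` keeps the monomials of `Y` whose exponent is divisible by `j`.  Main result: for elements
`y_1, …, y_n` of a commutative ring, with `Q = ∏ (X^{j-1} + X^{j-2} y_k + … + y_k^{j-1})` and
`p = ∏ (X - y_k)`, the polynomial `p` divides `j · E_j(Q) - Q`.
-/

set_option autoImplicit false
open Polynomial

namespace Groth.Agent.Lib.Helper24.ContractE

universe u v
variable {A : Type u} [CommRing A]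

/-- the part of `Y` in exponents divisible by `j` -/
noncomputable def E (j : ℕ) (Y : A[X]) : A[X] := expand A j (contract j Y)

theorem coeff_E {j : ℕ} (hj : j ≠ 0) (Y : A[X]) (m : ℕ) :
    (E j Y).coeff m = if j ∣ m then Y.coeff m else 0 := by
  unfold E
  rw [coeff_expand (Nat.pos_of_ne_zero hj)]
  split_ifs with h
  · rw [coeff_contract hj, Nat.div_mul_cancel h]
  · rfl

theorem E_add {j : ℕ} (hj : j ≠ 0) (Y Z : A[X]) : E j (Y + Z) = E j Y + E j Z := by
  ext m
  rw [coeff_add, coeff_E hj, coeff_E hj, coeff_E hj, coeff_add]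
  split_ifs <;> simp

theorem E_zero {j : ℕ} (hj : j ≠ 0) : E j (0 : A[X]) = 0 := by
  ext m
  rw [coeff_E hj]; simp

theorem E_sum {j : ℕ} (hj : j ≠ 0) {ι : Type*} (s : Finset ι) (F : ι → A[X]) :
    E j (∑ i ∈ s, F i) = ∑ i ∈ s, E j (F i) := by
  classical
  induction s using Finset.induction_on with
  | empty => simp [E_zero hj]
  | insert a s ha ih => rw [Finset.sum_insert ha, Finset.sum_insert ha, E_add hj, ih]

theorem E_C_mul {j : ℕ} (hj : j ≠ 0) (c : A) (Y : A[X]) : E j (C c * Y) = C c * E j Y := by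
  ext m
  rw [coeff_C_mul, coeff_E hj, coeff_E hj, coeff_C_mul]
  split_ifs <;> simp

theorem E_monomial {j : ℕ} (hj : j ≠ 0) (k : ℕ) (c : A) :
    E j (monomial k c) = if j ∣ k then monomial k c else 0 := by
  ext m
  rw [coeff_E hj]
  by_cases hk : j ∣ k
  · rw [if_pos hk, coeff_monomial]
    by_cases hm : j ∣ m
    · rw [if_pos hm]
    · rw [if_neg hm, if_neg]
      rintro rfl
      exact hm hk
  · rw [if_neg hk, coeff_zero, coeff_monomial]
    by_cases hm : j ∣ m
    · rw [if_pos hm, if_neg]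
      rintro rfl
      exact hk hm
    · rw [if_neg hm]

theorem map_E {B : Type v} [CommRing B] {j : ℕ} (hj : j ≠ 0) (φ : A →+* B) (Y : A[X]) :
    (E j Y).map φ = E j (Y.map φ) := by
  unfold E
  rw [map_expand, map_contract hj]

theorem eval_E (j : ℕ) (Y : A[X]) (x : A) : eval x (E j Y) = eval (x ^ j) (contract j Y) := by
  unfold E
  rw [expand_eval]

/-- counting the `b < j` with `j ∣ b + m` -/
theorem sum_dvd_add (j : ℕ) (hj : j ≠ 0) (m : ℕ) :
    ∑ b ∈ Finset.range j, (if j ∣ b + m then (1 : ℕ) else 0) = 1 := by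
  induction m with
  | zero =>
    rw [Finset.sum_eq_single 0]
    · simp
    · intro b hb hb0
      rw [if_neg]
      intro h
      rw [add_zero] at h
      exact hb0 (Nat.eq_zero_of_dvd_of_lt h (Finset.mem_range.mp hb))
    · intro h
      exact absurd (Finset.mem_range.mpr (Nat.pos_of_ne_zero hj)) h
  | succ m ih =>
    have h1 := Finset.sum_range_succ' (fun b => if j ∣ b + m then (1 : ℕ) else 0) j
    have h2 := Finset.sum_range_succ (fun b => if j ∣ b + m then (1 : ℕ) else 0) j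
    have h3 : (if j ∣ j + m then (1 : ℕ) else 0) = if j ∣ 0 + m then (1 : ℕ) else 0 := by
      simp only [zero_add, Nat.dvd_add_right (dvd_refl j)]
    have h4 : ∑ b ∈ Finset.range j, (if j ∣ b + (m + 1) then (1 : ℕ) else 0) =
        ∑ b ∈ Finset.range j, (if j ∣ b + 1 + m then (1 : ℕ) else 0) :=
      Finset.sum_congr rfl fun b _ => by rw [show b + (m + 1) = b + 1 + m by ring]
    rw [h4]
    rw [h1] at h2
    rw [h3] at h2
    omega

theorem card_filter_dvd_add (j : ℕ) (hj : j ≠ 0) (m : ℕ) :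
    ((Finset.range j).filter fun b => j ∣ b + m).card = 1 := by
  rw [Finset.card_filter]
  exact sum_dvd_add j hj m

/-- `Φ̃_j(X, y) = ∑_{a<j} X^a y^{j-1-a}` -/
noncomputable def Phit (j : ℕ) (y : A) : A[X] :=
  ∑ a ∈ Finset.range j, monomial a (y ^ (j - 1 - a))

theorem eval_Phit (j : ℕ) (y : A) : eval y (Phit j y) = (j : A) * y ^ (j - 1) := by
  unfold Phit
  rw [eval_finsetSum]
  have : ∀ a ∈ Finset.range j, eval y (monomial a (y ^ (j - 1 - a))) = y ^ (j - 1) := by
    intro a ha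
    rw [eval_monomial, ← pow_add]
    congr 1
    have := Finset.mem_range.mp ha
    omega
  rw [Finset.sum_congr rfl this, Finset.sum_const, Finset.card_range, nsmul_eq_mul]

theorem map_Phit {B : Type v} [CommRing B] (φ : A →+* B) (j : ℕ) (y : A) :
    (Phit j y).map φ = Phit j (φ y) := by
  unfold Phit
  rw [Polynomial.map_sum]
  refine Finset.sum_congr rfl fun a _ => ?_
  rw [map_monomial, map_pow]

theorem eval_E_Phit_mul_monomial {j : ℕ} (hj : j ≠ 0) (y : A) (m : ℕ) (c : A) :
    eval y (E j (Phit j y * monomial m c)) = y ^ (j - 1) * eval y (monomial m c) := by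
  classical
  unfold Phit
  rw [Finset.sum_mul, E_sum hj, eval_finsetSum]
  have h1 : ∀ b ∈ Finset.range j,
      eval y (E j (monomial b (y ^ (j - 1 - b)) * monomial m c)) =
        if j ∣ b + m then y ^ (j - 1) * (c * y ^ m) else 0 := by
    intro b hb
    have hb' := Finset.mem_range.mp hb
    rw [monomial_mul_monomial, E_monomial hj]
    split_ifs with h
    · rw [eval_monomial]
      have : y ^ (b + m) = y ^ b * y ^ m := pow_add y b m
      have h2 : y ^ (j - 1) = y ^ (j - 1 - b) * y ^ b := by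
        rw [← pow_add]; congr 1; omega
      rw [this, h2]; ring
    · exact eval_zero
  rw [Finset.sum_congr rfl h1, Finset.sum_ite, Finset.sum_const_zero, add_zero, Finset.sum_const,
    card_filter_dvd_add j hj m, one_smul, eval_monomial]

theorem eval_E_Phit_mul {j : ℕ} (hj : j ≠ 0) (y : A) (W : A[X]) :
    eval y (E j (Phit j y * W)) = y ^ (j - 1) * eval y W := by
  induction W using Polynomial.induction_on' with
  | add p q hp hq => rw [mul_add, E_add hj, eval_add, hp, hq, eval_add, mul_add]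
  | monomial n a => exact eval_E_Phit_mul_monomial hj y n a

/-- the single-factor divisibility -/
theorem X_sub_C_dvd {j : ℕ} (hj : j ≠ 0) (y : A) (W : A[X]) :
    X - C y ∣ (j : A[X]) * E j (Phit j y * W) - Phit j y * W := by
  rw [dvd_iff_isRoot, IsRoot, eval_sub, eval_mul, eval_mul, eval_natCast, eval_E_Phit_mul hj,
    eval_Phit]
  ring

section Universal

/-- `∏_k Φ̃_j(X, y_k)` -/
noncomputable def Qt (j : ℕ) {n : ℕ} (y : Fin n → A) : A[X] := ∏ k, Phit j (y k)

/-- `∏_k (X - y_k)` -/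
noncomputable def pt {n : ℕ} (y : Fin n → A) : A[X] := ∏ k, (X - C (y k))

theorem map_Qt {B : Type v} [CommRing B] (φ : A →+* B) (j : ℕ) {n : ℕ} (y : Fin n → A) :
    (Qt j y).map φ = Qt j (fun k => φ (y k)) := by
  unfold Qt
  rw [Polynomial.map_prod]
  exact Finset.prod_congr rfl fun k _ => map_Phit φ j (y k)

theorem map_pt {B : Type v} [CommRing B] (φ : A →+* B) {n : ℕ} (y : Fin n → A) :
    (pt y).map φ = pt (fun k => φ (y k)) := by
  unfold pt
  rw [Polynomial.map_prod]
  exact Finset.prod_congr rfl fun k _ => by rw [Polynomial.map_sub, map_X, map_C]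

theorem isRoot_univ {j : ℕ} (hj : j ≠ 0) {n : ℕ} (y : Fin n → A) (k : Fin n) :
    IsRoot ((j : A[X]) * E j (Qt j y) - Qt j y) (y k) := by
  classical
  have h : Qt j y = Phit j (y k) * ∏ i ∈ Finset.univ.erase k, Phit j (y i) := by
    unfold Qt
    exact (Finset.mul_prod_erase _ (fun i => Phit j (y i)) (Finset.mem_univ k)).symm
  rw [h, ← dvd_iff_isRoot]
  exact X_sub_C_dvd hj (y k) _

theorem pt_dvd_univ {j : ℕ} (hj : j ≠ 0) (n : ℕ) :
    pt (MvPolynomial.X : Fin n → MvPolynomial (Fin n) ℤ) ∣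
      (j : (MvPolynomial (Fin n) ℤ)[X]) * E j (Qt j (MvPolynomial.X : Fin n → MvPolynomial (Fin n) ℤ)) -
        Qt j (MvPolynomial.X : Fin n → MvPolynomial (Fin n) ℤ) := by
  classical
  set Z := (j : (MvPolynomial (Fin n) ℤ)[X]) *
      E j (Qt j (MvPolynomial.X : Fin n → MvPolynomial (Fin n) ℤ)) -
        Qt j (MvPolynomial.X : Fin n → MvPolynomial (Fin n) ℤ) with hZ
  by_cases h0 : Z = 0
  · rw [h0]; exact dvd_zero _
  have h1 : pt (MvPolynomial.X : Fin n → MvPolynomial (Fin n) ℤ) =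
      (((Finset.univ : Finset (Fin n)).val.map
        (MvPolynomial.X : Fin n → MvPolynomial (Fin n) ℤ)).map fun a => X - C a).prod := by
    unfold pt
    rw [Multiset.map_map]
    rfl
  rw [h1, Multiset.prod_X_sub_C_dvd_iff_le_roots h0]
  have hnd : ((Finset.univ : Finset (Fin n)).val.map
      (MvPolynomial.X : Fin n → MvPolynomial (Fin n) ℤ)).Nodup :=
    Multiset.Nodup.map (MvPolynomial.X_injective) Finset.univ.nodup
  rw [Multiset.le_iff_subset hnd]
  intro a ha
  obtain ⟨k, -, rfl⟩ := Multiset.mem_map.mp ha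
  rw [mem_roots h0]
  exact isRoot_univ hj _ k

theorem pt_dvd {j : ℕ} (hj : j ≠ 0) {n : ℕ} (y : Fin n → A) :
    pt y ∣ (j : A[X]) * E j (Qt j y) - Qt j y := by
  have h := pt_dvd_univ hj n
  have h2 := Polynomial.map_dvd
    ((MvPolynomial.aeval y : MvPolynomial (Fin n) ℤ →ₐ[ℤ] A) : MvPolynomial (Fin n) ℤ →+* A) h
  rw [map_pt, Polynomial.map_sub, Polynomial.map_mul, map_E hj, map_Qt, Polynomial.map_natCast] at h2
  simpa using h2

/-- `∏_k (1 - l_k X)` -/
noncomputable def pv {n : ℕ} (l : Fin n → A) : A[X] := ∏ k, (1 - C (l k) * X)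

/-- `∏_k ∑_{a<j} (l_k X)^a` -/
noncomputable def Qv (j : ℕ) {n : ℕ} (l : Fin n → A) : A[X] :=
  ∏ k, ∑ a ∈ Finset.range j, (C (l k) * X) ^ a

theorem Phit_eq (j : ℕ) (l y : A) (h : l * y = 1) :
    Phit j y = C (y ^ (j - 1)) * ∑ a ∈ Finset.range j, (C l * X) ^ a := by
  unfold Phit
  rw [Finset.mul_sum]
  refine Finset.sum_congr rfl fun a ha => ?_
  have ha' := Finset.mem_range.mp ha
  rw [mul_pow, ← C_pow, ← mul_assoc, ← C_mul, C_mul_X_pow_eq_monomial]
  congr 1
  have h2 : y ^ (j - 1) = y ^ (j - 1 - a) * y ^ a := by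
    rw [← pow_add]; congr 1; omega
  rw [h2, mul_assoc, ← mul_pow, mul_comm y l, h, one_pow, mul_one]

theorem pv_dvd {j : ℕ} (hj : j ≠ 0) {n : ℕ} (l y : Fin n → A) (h : ∀ k, l k * y k = 1) :
    pv l ∣ (j : A[X]) * E j (Qv j l) - Qv j l := by
  have h1 : Qt j y = C (∏ k, y k ^ (j - 1)) * Qv j l := by
    unfold Qt Qv
    rw [map_prod, ← Finset.prod_mul_distrib]
    exact Finset.prod_congr rfl fun k _ => Phit_eq j (l k) (y k) (h k)
  have h2 : pt y = C (∏ k, (-y k)) * pv l := by
    unfold pt pv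
    rw [map_prod, ← Finset.prod_mul_distrib]
    refine Finset.prod_congr rfl fun k _ => ?_
    rw [mul_sub, mul_one, ← mul_assoc, ← C_mul, neg_mul, mul_comm (y k), h k, C_neg, C_neg, C_1]
    ring
  have h3 := pt_dvd hj y
  rw [h1, E_C_mul hj] at h3
  have h4 : pv l ∣ C (∏ k, y k ^ (j - 1)) * ((j : A[X]) * E j (Qv j l) - Qv j l) := by
    refine (Dvd.intro_left _ h2.symm).trans ?_
    convert h3 using 1
    ring
  have h5 : C (∏ k, l k ^ (j - 1)) * C (∏ k, y k ^ (j - 1)) = (1 : A[X]) := by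
    rw [← C_mul, ← Finset.prod_mul_distrib]
    have : ∀ k ∈ (Finset.univ : Finset (Fin n)), l k ^ (j - 1) * y k ^ (j - 1) = 1 := by
      intro k _
      rw [← mul_pow, h k, one_pow]
    rw [Finset.prod_congr rfl this, Finset.prod_const_one, C_1]
  have h6 := Dvd.dvd.mul_left h4 (C (∏ k, l k ^ (j - 1)))
  rwa [← mul_assoc, h5, one_mul] at h6

theorem natDegree_C_mul_X_le (a : A) : (C a * X : A[X]).natDegree ≤ 1 :=
  (natDegree_C_mul_le a X).trans natDegree_X_le

theorem natDegree_one_sub_C_mul_X_le (a : A) : (1 - C a * X : A[X]).natDegree ≤ 1 := by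
  refine (natDegree_sub_le _ _).trans ?_
  rw [natDegree_one]
  exact max_le (Nat.zero_le _) (natDegree_C_mul_X_le a)

theorem pv_natDegree_le {n : ℕ} (l : Fin n → A) : (pv l).natDegree ≤ n := by
  unfold pv
  refine (natDegree_prod_le _ _).trans ?_
  calc ∑ k : Fin n, (1 - C (l k) * X : A[X]).natDegree ≤ ∑ _k : Fin n, 1 :=
        Finset.sum_le_sum fun k _ => natDegree_one_sub_C_mul_X_le (l k)
    _ = n := by simp

theorem pv_coeff_top {n : ℕ} (l : Fin n → A) : (pv l).coeff n = (-1) ^ n * ∏ k, l k := by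
  unfold pv
  have h := coeff_prod_of_natDegree_le (s := (Finset.univ : Finset (Fin n)))
    (fun k => (1 - C (l k) * X : A[X])) 1 (fun k _ => natDegree_one_sub_C_mul_X_le (l k))
  rw [Finset.card_univ, Fintype.card_fin, mul_one] at h
  rw [h]
  have h2 : ∀ k ∈ (Finset.univ : Finset (Fin n)), (1 - C (l k) * X : A[X]).coeff 1 = -1 * l k := by
    intro k _
    rw [coeff_sub, coeff_one, coeff_C_mul, coeff_X_one]
    simp
  rw [Finset.prod_congr rfl h2, Finset.prod_mul_distrib, Finset.prod_const, Finset.card_univ,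
    Fintype.card_fin]

theorem pv_coeff_zero {n : ℕ} (l : Fin n → A) : (pv l).coeff 0 = 1 := by
  unfold pv
  rw [coeff_zero_eq_eval_zero, eval_prod]
  simp

theorem Qv_natDegree_le (j : ℕ) {n : ℕ} (l : Fin n → A) : (Qv j l).natDegree ≤ (j - 1) * n := by
  unfold Qv
  refine (natDegree_prod_le _ _).trans ?_
  have h : ∀ k ∈ (Finset.univ : Finset (Fin n)),
      (∑ a ∈ Finset.range j, (C (l k) * X) ^ a : A[X]).natDegree ≤ j - 1 := by
    intro k _
    refine natDegree_sum_le_of_forall_le _ _ fun a ha => ?_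
    have ha' := Finset.mem_range.mp ha
    refine natDegree_pow_le.trans ?_
    calc a * (C (l k) * X : A[X]).natDegree ≤ a * 1 :=
          Nat.mul_le_mul_left a (natDegree_C_mul_X_le (l k))
      _ ≤ j - 1 := by omega
  calc ∑ k : Fin n, (∑ a ∈ Finset.range j, (C (l k) * X) ^ a : A[X]).natDegree
      ≤ ∑ _k : Fin n, (j - 1) := Finset.sum_le_sum h
    _ = (j - 1) * n := by simp [mul_comm]

theorem Qv_coeff_zero {j : ℕ} (hj : j ≠ 0) {n : ℕ} (l : Fin n → A) : (Qv j l).coeff 0 = 1 := by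
  unfold Qv
  rw [coeff_zero_eq_eval_zero, eval_prod]
  have h : ∀ k ∈ (Finset.univ : Finset (Fin n)),
      eval 0 (∑ a ∈ Finset.range j, (C (l k) * X) ^ a : A[X]) = 1 := by
    intro k _
    rw [eval_finsetSum]
    rw [Finset.sum_eq_single 0]
    · simp
    · intro a _ ha
      simp [ha]
    · intro h
      exact absurd (Finset.mem_range.mpr (Nat.pos_of_ne_zero hj)) h
  rw [Finset.prod_congr rfl h, Finset.prod_const_one]

theorem pv_mul_Qv (j : ℕ) {n : ℕ} (l : Fin n → A) :
    pv l * Qv j l = expand A j (pv fun k => l k ^ j) := by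
  unfold pv Qv
  rw [← Finset.prod_mul_distrib, map_prod]
  refine Finset.prod_congr rfl fun k _ => ?_
  rw [mul_neg_geom_sum, map_sub, map_one, map_mul, expand_C, expand_X, mul_pow, ← C_pow]

/-- normalising a polynomial with invertible top coefficient -/
theorem exists_monic_normalization [Nontrivial A] (Y : A[X]) (n : ℕ) (hdeg : Y.natDegree ≤ n)
    (hu : IsUnit (Y.coeff n)) :
    ∃ (c : A) (Y' : A[X]), Y'.Monic ∧ Y'.natDegree = n ∧ Y' = C c * Y ∧ Y = C (Y.coeff n) * Y' := by
  obtain ⟨v, hv⟩ := hu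
  have hne : Y.coeff n ≠ 0 := by rw [← hv]; exact v.ne_zero
  have hnd : Y.natDegree = n := natDegree_eq_of_le_of_coeff_ne_zero hdeg hne
  have hlead : Y.leadingCoeff = Y.coeff n := by rw [leadingCoeff, hnd]
  have h1 : (↑v⁻¹ : A) * Y.leadingCoeff = 1 := by rw [hlead, ← hv, Units.inv_mul]
  refine ⟨(↑v⁻¹ : A), C (↑v⁻¹ : A) * Y, monic_C_mul_of_mul_leadingCoeff_eq_one h1, ?_, rfl, ?_⟩
  · rw [natDegree_C_mul_of_mul_ne_zero (by rw [h1]; exact one_ne_zero), hnd]
  · rw [← mul_assoc, ← C_mul, ← hv, Units.mul_inv, C_1, one_mul]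

end Universal

section Geom

/-- the geometric sum `1 + X + ⋯ + X^{j-1}` -/
noncomputable def geom (j : ℕ) : A[X] := ∑ a ∈ Finset.range j, X ^ a

theorem Phit_one (j : ℕ) : Phit j (1 : A) = geom j := by
  unfold Phit geom
  refine Finset.sum_congr rfl fun a _ => ?_
  rw [one_pow, X_pow_eq_monomial]

theorem eval_one_geom (j : ℕ) : eval 1 (geom j : A[X]) = j := by
  unfold geom
  rw [eval_finsetSum]
  simp

theorem one_sub_mul_geom (j : ℕ) : (1 - X) * (geom j : A[X]) = 1 - X ^ j := by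
  unfold geom
  exact mul_neg_geom_sum X j

theorem contract_one_sub_pow_mul_geom_pow {j : ℕ} (hj : j ≠ 0) (n : ℕ) :
    contract j (((1 - X) ^ n * (geom j) ^ n : A[X])) = (1 - X) ^ n := by
  rw [← mul_pow, one_sub_mul_geom]
  have : ((1 - X ^ j) ^ n : A[X]) = expand A j ((1 - X) ^ n) := by
    rw [map_pow, map_sub, map_one, expand_X]
  rw [this, contract_expand (hp := hj)]

theorem eval_one_contract_geom_pow {j : ℕ} (hj : j ≠ 0) (m : ℕ) :
    eval 1 (contract j ((geom j) ^ (m + 1) : A[X])) = (j : A) ^ m := by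
  have h := eval_E j ((geom j) ^ (m + 1) : A[X]) 1
  rw [one_pow] at h
  rw [← h, pow_succ', ← Phit_one, eval_E_Phit_mul hj, one_pow, one_mul, eval_pow, Phit_one,
    eval_one_geom]

end Geom

end Groth.Agent.Lib.Helper24.ContractE
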