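import Groth.Agent.Lib.Helper24.LamGam

/-!
# Ring homomorphisms between test rings which map monomials to monomials are λ-homomorphisms (helper24)
-/

set_option autoImplicit false
set_option linter.unusedSectionVars false
universe u v w

namespace Groth.Agent.Lib.Helper24.LamHom

open LambdaRing MvPolynomial Groth.Agent.Lib.Helper20 Groth.Agent.Lib.Helper24.LamTest
  Groth.Agent.Lib.Helper24.LamOrd

section General

variable {A : Type u} {B : Type v} [CommRing A] [CommRing B] [LambdaOps A] [LambdaOps B]

/-- a λ-homomorphism commutes with the γ-operations -/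
theorem map_gamma (φ : A →+* B) (hφ : ∀ (n : ℕ) (a : A), φ (LambdaOps.lam n a) = LambdaOps.lam n (φ a))
    (k : ℕ) (a : A) : φ (gamma k a) = gamma k (φ a) := by
  unfold gamma
  split_ifs with h
  · rw [map_one]
  · rw [map_sum]
    apply Finset.sum_congr rfl
    intro j _
    rw [map_mul, map_natCast]
    split_ifs
    · rw [map_zero]
    · rw [hφ]

end General

section Test

variable {σ : Type v} {τ : Type w}

theorem map_lineU {R S : Type*} [CommRing R] [CommRing S] (φ : R →+* S) (u : R) :
    PowerSeries.map φ (lineU u : PowerSeries R) = (lineU (φ u) : PowerSeries S) := by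
  simp [lineU_val]

/-- a ring homomorphism of test rings mapping monomials to monomials is a λ-homomorphism -/
theorem map_lamU (φ : MvPolynomial σ ℤ →+* MvPolynomial τ ℤ)
    (hφ : ∀ m : σ →₀ ℕ, ∃ m' : τ →₀ ℕ, φ (mon σ m) = mon τ m') (f : MvPolynomial σ ℤ) :
    Units.map (PowerSeries.map φ).toMonoidHom (lamU f) = lamU (φ f) := by
  induction f using MvPolynomial.induction_on' with
  | monomial m c =>
    obtain ⟨m', hm'⟩ := hφ m
    have h1 : φ (monomial m c) = monomial m' c := by
      have e : (monomial m c : MvPolynomial σ ℤ) = c • mon σ m := by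
        rw [mon, MvPolynomial.smul_monomial, smul_eq_mul, mul_one]
      have e' : (monomial m' c : MvPolynomial τ ℤ) = c • mon τ m' := by
        rw [mon, MvPolynomial.smul_monomial, smul_eq_mul, mul_one]
      rw [e, e', map_zsmul, hm']
    rw [h1, lamU_monomial, lamU_monomial, map_zpow]
    congr 1
    apply Units.ext
    rw [Units.coe_map]
    show PowerSeries.map φ (lineU (mon σ m) : PowerSeries _) = _
    rw [map_lineU, hm']
  | add p q hp hq =>
    rw [lamU_add, map_mul, hp, hq, map_add, lamU_add]

theorem lam_map (φ : MvPolynomial σ ℤ →+* MvPolynomial τ ℤ)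
    (hφ : ∀ m : σ →₀ ℕ, ∃ m' : τ →₀ ℕ, φ (mon σ m) = mon τ m') (n : ℕ) (f : MvPolynomial σ ℤ) :
    φ (LambdaOps.lam n f) = LambdaOps.lam n (φ f) := by
  have h := congrArg (fun F : (PowerSeries (MvPolynomial τ ℤ))ˣ =>
    PowerSeries.coeff n (F : PowerSeries (MvPolynomial τ ℤ))) (map_lamU φ hφ f)
  simp only [Units.coe_map] at h
  have h2 : PowerSeries.coeff n (PowerSeries.map φ (lamU f : PowerSeries (MvPolynomial σ ℤ))) =
      φ (PowerSeries.coeff n (lamU f : PowerSeries (MvPolynomial σ ℤ))) := PowerSeries.coeff_map φ n _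
  exact h2.symm.trans h

/-- `rename` along any map is a λ-homomorphism of test rings -/
theorem lam_rename (g : σ → τ) (n : ℕ) (f : MvPolynomial σ ℤ) :
    rename g (LambdaOps.lam n f) = LambdaOps.lam n (rename g f) := by
  have h := lam_map (rename g : MvPolynomial σ ℤ →ₐ[ℤ] MvPolynomial τ ℤ).toRingHom (fun m => by
    refine ⟨Finsupp.mapDomain g m, ?_⟩
    show rename g (monomial m 1) = _
    rw [rename_monomial]) n f
  exact h

theorem gamma_rename (g : σ → τ) (k : ℕ) (f : MvPolynomial σ ℤ) :
    rename g (gamma k f) = gamma k (rename g f) :=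
  map_gamma (rename g : MvPolynomial σ ℤ →ₐ[ℤ] MvPolynomial τ ℤ).toRingHom
    (fun n a => lam_rename g n a) k f

theorem tau_rename (g : σ → τ) (f : MvPolynomial σ ℤ) :
    tau τ (rename g f) = rename g (tau σ f) := by
  have h : (tau τ).comp (rename g) = (rename g).comp (tau σ) := by
    apply MvPolynomial.algHom_ext
    intro a
    simp
  exact AlgHom.congr_fun h f

end Test

end Groth.Agent.Lib.Helper24.LamHom
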