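import Groth.Agent.Lib.Helper24.PosGam
import Groth.Agent.Lib.Helper24.LamHom

/-!
# The γ-filtration of a λ-ring with positive structure (helper24)
-/

set_option autoImplicit false
set_option linter.unusedSectionVars false
set_option maxHeartbeats 400000
universe u

namespace Groth.Agent.Lib.Helper24.PosFil

open LambdaRing Groth.Agent.Lib.Helper20 Groth.Agent.Lib.Helper24.PosGam

variable {K : Type u} [CommRing K] [LambdaOps K] (P : PosStructure K)

/-- the generators of the γ-filtration -/
def pgens (n : ℕ) : Set K :=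
  {y | ∃ l : List (ℕ × K), (∀ p ∈ l, P.aug p.2 = 0) ∧ n ≤ (l.map Prod.fst).sum ∧
    y = (l.map fun p => gamma p.1 p.2).prod}

theorem gammaFiltration_zero : gammaFiltration P 0 = ⊤ := by
  unfold gammaFiltration
  rw [if_pos rfl]

theorem gammaFiltration_of_ne_zero {n : ℕ} (hn : n ≠ 0) :
    gammaFiltration P n = AddSubgroup.closure (pgens P n) := by
  unfold gammaFiltration
  rw [if_neg hn]
  rfl

theorem pgens_subset (n : ℕ) : pgens P n ⊆ (gammaFiltration P n : Set K) := by
  intro y hy
  rcases Nat.eq_zero_or_pos n with h0 | hn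
  · rw [h0, gammaFiltration_zero]
    exact AddSubgroup.mem_top _
  · rw [gammaFiltration_of_ne_zero P hn.ne']
    exact AddSubgroup.subset_closure hy

theorem pgens_mul {a b : ℕ} {y z : K} (hy : y ∈ pgens P a) (hz : z ∈ pgens P b) :
    y * z ∈ pgens P (a + b) := by
  obtain ⟨l1, h1, hs1, rfl⟩ := hy
  obtain ⟨l2, h2, hs2, rfl⟩ := hz
  refine ⟨l1 ++ l2, ?_, ?_, ?_⟩
  · intro p hp
    rcases List.mem_append.mp hp with h | h
    · exact h1 p h
    · exact h2 p h
  · rw [List.map_append, List.sum_append]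
    omega
  · rw [List.map_append, List.prod_append]

theorem sub_aug_mem_pgens (a : K) : a - ((P.aug a : ℤ) : K) ∈ pgens P 1 := by
  refine ⟨[(1, a - ((P.aug a : ℤ) : K))], ?_, ?_, ?_⟩
  · intro p hp
    rw [List.mem_singleton] at hp
    rw [hp]
    simp
  · simp
  · simp [GammaBasic.gamma_one_apply]

theorem pgens_antitone {a b : ℕ} (h : a ≤ b) : pgens P b ⊆ pgens P a := by
  rintro y ⟨l, hl, hs, rfl⟩
  exact ⟨l, hl, h.trans hs, rfl⟩

theorem antitone {a b : ℕ} (h : a ≤ b) : gammaFiltration P b ≤ gammaFiltration P a := by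
  rcases Nat.eq_zero_or_pos a with h0 | ha
  · rw [h0, gammaFiltration_zero]
    exact le_top
  · rw [gammaFiltration_of_ne_zero P ha.ne', gammaFiltration_of_ne_zero P (by omega : b ≠ 0)]
    exact AddSubgroup.closure_mono (pgens_antitone P h)

/-- the terms of the γ-filtration are ideals -/
theorem mul_mem_left (n : ℕ) (a : K) {x : K} (hx : x ∈ gammaFiltration P n) :
    a * x ∈ gammaFiltration P n := by
  rcases Nat.eq_zero_or_pos n with h0 | hn
  · rw [h0, gammaFiltration_zero]
    exact AddSubgroup.mem_top _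
  · rw [gammaFiltration_of_ne_zero P hn.ne'] at hx ⊢
    induction hx using AddSubgroup.closure_induction with
    | mem y hy =>
      have e : a * y = (a - ((P.aug a : ℤ) : K)) * y + (P.aug a) • y := by
        rw [zsmul_eq_mul]; ring
      rw [e]
      refine add_mem (AddSubgroup.subset_closure ?_)
        (AddSubgroup.zsmul_mem _ (AddSubgroup.subset_closure hy) _)
      exact pgens_antitone P (by omega) (pgens_mul P (sub_aug_mem_pgens P a) hy)
    | zero => rw [mul_zero]; exact zero_mem _
    | add x y _ _ hx hy => rw [mul_add]; exact add_mem hx hy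
    | neg x _ hx => rw [mul_neg]; exact neg_mem hx

theorem mul_mem {m n : ℕ} {x y : K} (hx : x ∈ gammaFiltration P m) (hy : y ∈ gammaFiltration P n) :
    x * y ∈ gammaFiltration P (m + n) := by
  rcases Nat.eq_zero_or_pos m with h0 | hm
  · rw [h0, zero_add]
    exact mul_mem_left P n x hy
  rcases Nat.eq_zero_or_pos n with h0 | hn
  · rw [h0, add_zero, mul_comm]
    exact mul_mem_left P m y hx
  rw [gammaFiltration_of_ne_zero P hm.ne'] at hx
  rw [gammaFiltration_of_ne_zero P hn.ne'] at hy
  rw [gammaFiltration_of_ne_zero P (by omega : m + n ≠ 0)]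
  induction hx using AddSubgroup.closure_induction with
  | mem x hxg =>
    induction hy using AddSubgroup.closure_induction with
    | mem y hyg => exact AddSubgroup.subset_closure (pgens_mul P hxg hyg)
    | zero => rw [mul_zero]; exact zero_mem _
    | add y z _ _ hy hz => rw [mul_add]; exact add_mem hy hz
    | neg y _ hy => rw [mul_neg]; exact neg_mem hy
  | zero => rw [zero_mul]; exact zero_mem _
  | add x z _ _ hx hz => rw [add_mul]; exact add_mem hx hz
  | neg x _ hx => rw [neg_mul]; exact neg_mem hx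

theorem gamma_mem (r : ℕ) {x : K} (hx : P.aug x = 0) : gamma r x ∈ gammaFiltration P r := by
  apply pgens_subset
  refine ⟨[(r, x)], ?_, ?_, ?_⟩
  · intro p hp
    rw [List.mem_singleton] at hp
    rw [hp]
    exact hx
  · simp
  · simp

/-- the terms of the γ-filtration as ideals -/
def filIdeal (n : ℕ) : Ideal K where
  carrier := gammaFiltration P n
  add_mem' := fun ha hb => add_mem ha hb
  zero_mem' := zero_mem _
  smul_mem' := fun c _ hx => mul_mem_left P n c hx

theorem mem_filIdeal {n : ℕ} {x : K} : x ∈ filIdeal P n ↔ x ∈ gammaFiltration P n := Iff.rfl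

theorem filIdeal_eq (n : ℕ) : filIdeal P n = gammaFil (P.aug : K →+* ℤ) n := by
  apply le_antisymm
  · intro x hx
    rw [mem_filIdeal] at hx
    rcases Nat.eq_zero_or_pos n with h0 | hn
    · rw [h0]
      have : (1 : K) ∈ gammaFil (P.aug : K →+* ℤ) 0 :=
        Ideal.subset_span ⟨[], by simp, by simp, by simp⟩
      rw [(Ideal.eq_top_iff_one _).mpr this]
      exact Submodule.mem_top
    · rw [gammaFiltration_of_ne_zero P hn.ne'] at hx
      induction hx using AddSubgroup.closure_induction with
      | mem y hy => exact Ideal.subset_span hy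
      | zero => exact Ideal.zero_mem _
      | add x y _ _ hx hy => exact Ideal.add_mem _ hx hy
      | neg x _ hx => exact neg_mem hx
  · exact Ideal.span_le.mpr fun y hy => pgens_subset P n hy

theorem mem_gammaFil_iff {n : ℕ} {x : K} :
    x ∈ gammaFil (P.aug : K →+* ℤ) n ↔ x ∈ gammaFiltration P n := by
  rw [← filIdeal_eq]
  rfl

/-- `λ_{-1}(q) ∈ F^d` for `q` positive of augmentation `d` -/
theorem lamAlt_mem {q : K} (hq : q ∈ P.pos) :
    (∑ i ∈ Finset.range ((P.aug q).toNat + 1), (-1 : K) ^ i * LambdaOps.lam i q) ∈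
      gammaFiltration P (P.aug q).toNat := by
  have h := gamma_top hq
  have h2 : (∑ i ∈ Finset.range ((P.aug q).toNat + 1), (-1 : K) ^ i * LambdaOps.lam i q) =
      (-1) ^ (P.aug q).toNat * gamma (P.aug q).toNat (q - ((P.aug q).toNat : K)) := by
    rw [h, ← mul_assoc, ← pow_add, Even.neg_one_pow ⟨_, rfl⟩, one_mul]
  rw [h2]
  apply mul_mem_left
  apply gamma_mem
  rw [map_sub, map_natCast, natCast_toNat_aug hq, sub_self]

section Push

variable {KY KX : Type u} [CommRing KY] [LambdaOps KY] [CommRing KX] [LambdaOps KX]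
  (PY : PosStructure KY) (PX : PosStructure KX)
  (g : KY →+* KX) (hg : IsLambdaHom g) (hgaug : ∀ y : KY, PX.aug (g y) = PY.aug y)
  (hgsurj : Function.Surjective g)

include hg hgaug hgsurj in
theorem exists_list_preimage (l : List (ℕ × KX)) (hl : ∀ p ∈ l, PX.aug p.2 = 0) :
    ∃ l' : List (ℕ × KY), (∀ p ∈ l', PY.aug p.2 = 0) ∧ (l'.map Prod.fst).sum = (l.map Prod.fst).sum ∧
      g (l'.map fun p => gamma p.1 p.2).prod = (l.map fun p => gamma p.1 p.2).prod := by
  induction l with
  | nil => exact ⟨[], by simp, by simp, by simp⟩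
  | cons p l ih =>
    obtain ⟨l', h1, h2, h3⟩ := ih fun q hq => hl q (List.mem_cons_of_mem _ hq)
    obtain ⟨y, hy⟩ := hgsurj p.2
    refine ⟨(p.1, y) :: l', ?_, ?_, ?_⟩
    · intro q hq
      rcases List.mem_cons.mp hq with rfl | hq
      · show PY.aug y = 0
        rw [← hgaug, hy]
        exact hl p List.mem_cons_self
      · exact h1 q hq
    · simp only [List.map_cons, List.sum_cons, h2]
    · simp only [List.map_cons, List.prod_cons, map_mul, h3]
      rw [LamHom.map_gamma g hg, hy]

include hg hgaug hgsurj in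
theorem exists_preimage (m : ℕ) {x : KX} (hx : x ∈ gammaFiltration PX m) :
    ∃ y ∈ gammaFiltration PY m, g y = x := by
  rcases Nat.eq_zero_or_pos m with h0 | hm
  · obtain ⟨y, hy⟩ := hgsurj x
    refine ⟨y, ?_, hy⟩
    rw [h0, gammaFiltration_zero]
    exact AddSubgroup.mem_top _
  · rw [gammaFiltration_of_ne_zero PX hm.ne'] at hx
    induction hx using AddSubgroup.closure_induction with
    | mem x hxg =>
      obtain ⟨l, hl, hs, rfl⟩ := hxg
      obtain ⟨l', h1, h2, h3⟩ := exists_list_preimage PY PX g hg hgaug hgsurj l hl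
      exact ⟨_, pgens_subset PY m ⟨l', h1, h2 ▸ hs, rfl⟩, h3⟩
    | zero => exact ⟨0, zero_mem _, map_zero _⟩
    | add x z _ _ hx hz =>
      obtain ⟨y1, h1, e1⟩ := hx
      obtain ⟨y2, h2, e2⟩ := hz
      exact ⟨y1 + y2, add_mem h1 h2, by rw [map_add, e1, e2]⟩
    | neg x _ hx =>
      obtain ⟨y1, h1, e1⟩ := hx
      exact ⟨-y1, neg_mem h1, by rw [map_neg, e1]⟩

include hg hgaug hgsurj in
/-- **S8143** -/
theorem push_mem (p : KX →+ KY) (hproj : ∀ (y : KY) (x : KX), p (g y * x) = y * p x)
    (q : KY) (hq : q ∈ PY.pos)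
    (hp1 : p 1 = ∑ i ∈ Finset.range ((PY.aug q).toNat + 1), (-1 : KY) ^ i * LambdaOps.lam i q)
    (m : ℕ) (x : KX) (hx : x ∈ gammaFiltration PX m) :
    p x ∈ gammaFiltration PY (m + (PY.aug q).toNat) := by
  obtain ⟨y, hy, rfl⟩ := exists_preimage PY PX g hg hgaug hgsurj m hx
  have h := hproj y 1
  rw [mul_one] at h
  rw [h, hp1]
  exact mul_mem PY hy (lamAlt_mem PY hq)

end Push

end Groth.Agent.Lib.Helper24.PosFil
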