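import Groth.Agent.Lib.Helper24.PosSpecial
import Groth.Agent.Lib.Helper24.PosFil
import Groth.Agent.Lib.Helper24.ContractE
import Groth.Agent.Lib.Helper6.LambdaAdams
import Groth.Agent.Lib.Helper3.LambdaAdams

/-!
# λ-ring inputs for the Adams–Riemann–Roch formula of an elementary projection (helper24)
-/

set_option autoImplicit false
set_option linter.unusedSectionVars false
universe u

namespace Groth.Agent.Lib.Helper24.ARRLam

open LambdaRing Groth.Agent.Lib.Helper6.LambdaBasic

variable {K : Type u} [CommRing K] [LambdaOps K] (P : PosStructure K)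

section Twist

open PowerSeries

/-- `λ_t(z w) = λ_{wt}(z)` for a line element `w` and positive `z` -/
theorem lamSeries_mul_line_pos (hK : HasSplitting K P) {w : K} (hw : P.IsLine w) {z : K}
    (hz : z ∈ P.pos) : lamSeries (z * w) = rescale w (lamSeries z) := by
  obtain ⟨L, g, hg, -, s, hs, hsum⟩ := Groth.Agent.Lib.Helper3.LambdaAdams.exists_split hK z hz
  obtain ⟨x, hx⟩ := Groth.Agent.Lib.Helper6.LambdaAdams.exists_fin_family s
  have hline : ∀ i, L.posStr.IsLine (x i) := fun i =>
    hs _ (by rw [← hx]; exact Multiset.mem_map_of_mem x (Finset.mem_univ_val i))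
  have hsum' : ∑ i, x i = g z := by
    change (Multiset.map x Finset.univ.val).sum = g z
    rw [hx, hsum]
  have hgw : L.posStr.IsLine (g w) := Groth.Agent.Lib.Helper3.LambdaAdams.isLine_map hg hw
  have hline' : ∀ i, L.posStr.IsLine (x i * g w) := fun i => isLine_mul _ (hline i) hgw
  have hinj : Function.Injective (PowerSeries.map g) := by
    intro a b hab
    ext k
    have := congrArg (coeff k) hab
    rw [coeff_map, coeff_map] at this
    exact hg.injective this
  apply hinj
  rw [Groth.Agent.Lib.Helper6.LambdaAdams.map_lamSeries g hg.isLambdaHom, map_mul, ← hsum',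
    Finset.sum_mul,
    Groth.Agent.Lib.Helper6.LambdaAdams.lamSeries_sum L.posStr (fun i => x i * g w) hline']
  have h2 : PowerSeries.map g (rescale w (lamSeries z)) = rescale (g w) (lamSeries (g z)) := by
    ext k
    rw [coeff_map, coeff_rescale, coeff_rescale, map_mul, map_pow,
      ← Groth.Agent.Lib.Helper6.LambdaAdams.map_lamSeries g hg.isLambdaHom, coeff_map]
  rw [h2, ← hsum', Groth.Agent.Lib.Helper6.LambdaAdams.lamSeries_sum L.posStr x hline, map_prod]
  refine Finset.prod_congr rfl fun i _ => ?_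
  ext k
  rw [coeff_rescale]
  rcases k with _ | _ | k
  · simp
  · simp [mul_comm]
  · simp [coeff_one, coeff_X]

theorem lamSeries_neg (z : K) : lamSeries (-z) * lamSeries z = 1 := by
  rw [← lamSeries_add, neg_add_cancel, lamSeries_zero]

/-- `λ_t(z w) = λ_{wt}(z)` for a line element `w` and every `z` -/
theorem lamSeries_mul_line (hK : HasSplitting K P) {w : K} (hw : P.IsLine w) (z : K) :
    lamSeries (z * w) = rescale w (lamSeries z) := by
  obtain ⟨a, b, ha, hb, rfl⟩ := P.exists_sub z
  have h1 := lamSeries_mul_line_pos P hK hw ha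
  have h2 := lamSeries_mul_line_pos P hK hw hb
  have h3 : lamSeries ((a - b) * w) * lamSeries (b * w) = lamSeries (a * w) := by
    rw [← lamSeries_add]; congr 1; ring
  have h4 : rescale w (lamSeries (a - b)) * rescale w (lamSeries b) = rescale w (lamSeries a) := by
    rw [← map_mul, ← lamSeries_add, sub_add_cancel]
  have hu : IsUnit (lamSeries (b * w)) := by
    rw [isUnit_iff_constantCoeff, constantCoeff_lamSeries]
    exact isUnit_one
  apply hu.mul_right_cancel
  rw [h3, h1, ← h4, h2]

theorem lam_mul_line (hK : HasSplitting K P) {w : K} (hw : P.IsLine w) (z : K) (k : ℕ) :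
    LambdaOps.lam k (z * w) = LambdaOps.lam k z * w ^ k := by
  have h := congrArg (coeff k) (lamSeries_mul_line P hK hw z)
  rw [coeff_rescale, lamSeries, coeff_mk, lamSeries, coeff_mk] at h
  rw [h, mul_comm]

/-- twisting by the inverse of a line element -/
theorem lam_mul_inv_line (hK : HasSplitting K P) {w v : K} (hw : P.IsLine w) (hv : v * w = 1)
    (z : K) (k : ℕ) : LambdaOps.lam k (z * v) = LambdaOps.lam k z * v ^ k := by
  have h := lam_mul_line P hK hw (z * v) k
  rw [mul_assoc, hv, mul_one] at h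
  rw [h, mul_assoc, ← mul_pow, mul_comm w v, hv, one_pow, mul_one]

end Twist

section Nil

/-- elements of augmentation zero are nilpotent when the γ-filtration is finite -/
theorem pow_eq_zero_of_aug (N : ℕ) (hN : gammaFiltration P N = ⊥) (y : K) (hy : P.aug y = 0) :
    y ^ N = 0 := by
  have h1 : y ∈ gammaFiltration P 1 := by
    have := PosFil.pgens_subset P 1 (PosFil.sub_aug_mem_pgens P y)
    rwa [hy, Int.cast_zero, sub_zero] at this
  have h2 : ∀ m : ℕ, y ^ m ∈ gammaFiltration P m := by
    intro m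
    induction m with
    | zero => rw [PosFil.gammaFiltration_zero]; exact AddSubgroup.mem_top _
    | succ m ih => rw [pow_succ]; exact PosFil.mul_mem P ih h1
  have h3 := h2 N
  rw [hN] at h3
  exact (AddSubgroup.mem_bot).mp h3

end Nil

section Polys

open Polynomial Groth.Agent.Lib.Helper24.ContractE

/-- ring homomorphisms commute with `aeval` of integer polynomials (any `ℤ`-algebra instances) -/
theorem map_aeval_int' {S : Type*} {B : Type*} [CommRing S] [CommRing B] [Algebra ℤ S]
    [Algebra ℤ B] {τ : Type*} (φ : S →+* B) (g : τ → S) (q : MvPolynomial τ ℤ) :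
    φ (MvPolynomial.aeval g q) = MvPolynomial.aeval (fun i => φ (g i)) q := by
  induction q using MvPolynomial.induction_on with
  | C a => rw [MvPolynomial.aeval_C, MvPolynomial.aeval_C, eq_intCast, eq_intCast, map_intCast]
  | add p q hp hq => rw [map_add, map_add, map_add, hp, hq]
  | mul_X p i hp => rw [map_mul, map_mul, map_mul, hp, MvPolynomial.aeval_X, MvPolynomial.aeval_X]

variable (e : K) (n j : ℕ)

/-- `p^∨ = ∑_{i ≤ n} (-1)^i λ^i(e) X^i` -/
noncomputable def pK : K[X] :=
  ∑ i ∈ Finset.range (n + 1), C ((-1 : K) ^ i * LambdaOps.lam i e) * X ^ i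

/-- `Q^∨ = B_{j,n}(λ^1(e) X, …, λ^n(e) X^n)` -/
noncomputable def QK : K[X] :=
  MvPolynomial.aeval (fun i : Fin n => C (LambdaOps.lam (i.1 + 1) e) * X ^ (i.1 + 1))
    (KRR.bottPoly j n)

/-- `P^∨`, with `expand_j P^∨ = p^∨ Q^∨` -/
noncomputable def PK : K[X] := contract j (pK e n * QK e n j)

theorem pK_natDegree_le : (pK e n).natDegree ≤ n := by
  unfold pK
  refine natDegree_sum_le_of_forall_le _ _ fun i hi => ?_
  have := Finset.mem_range.mp hi
  exact (natDegree_C_mul_X_pow_le _ i).trans (by omega)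

theorem pK_coeff (i : ℕ) (hi : i ≤ n) :
    (pK e n).coeff i = (-1 : K) ^ i * LambdaOps.lam i e := by
  unfold pK
  rw [finsetSum_coeff, Finset.sum_eq_single i]
  · rw [coeff_C_mul, coeff_X_pow, if_pos rfl, mul_one]
  · intro b _ hb
    rw [coeff_C_mul, coeff_X_pow, if_neg (Ne.symm hb), mul_zero]
  · intro h
    exact absurd (Finset.mem_range.mpr (by omega)) h

section Split

variable {L : Type u} [CommRing L] [LambdaOps L] (PL : PosStructure L) (g : K →+* L)
  (hg : IsLambdaHom g) (x : Fin n → L) (hx : ∀ i, PL.IsLine (x i)) (hsum : ∑ i, x i = g e)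

theorem prod_C_mul_X (t : Finset (Fin n)) :
    ∏ l ∈ t, (C (x l) * X : L[X]) = C (∏ l ∈ t, x l) * X ^ t.card := by
  rw [Finset.prod_mul_distrib, Finset.prod_const, map_prod]

include hg hx hsum in
theorem sum_powersetCard_eq (k : ℕ) :
    ∑ t ∈ Finset.powersetCard k (Finset.univ : Finset (Fin n)), ∏ l ∈ t, (C (x l) * X : L[X]) =
      C (g (LambdaOps.lam k e)) * X ^ k := by
  rw [hg, ← hsum, Groth.Agent.Lib.Helper6.LambdaAdams.lam_sum PL x hx, map_sum, Finset.sum_mul]
  refine Finset.sum_congr rfl fun t ht => ?_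
  rw [prod_C_mul_X, (Finset.mem_powersetCard.1 ht).2]

include hg hx hsum in
theorem map_pK : (pK e n).map g = pv x := by
  unfold pK pv
  have h : ∀ i : Fin n, (1 - C (x i) * X : L[X]) = 1 + (-(C (x i) * X)) := fun i =>
    sub_eq_add_neg _ _
  simp only [h]
  rw [Finset.prod_one_add, Finset.sum_powerset, Finset.card_univ, Fintype.card_fin,
    Polynomial.map_sum]
  refine Finset.sum_congr rfl fun k _ => ?_
  rw [Polynomial.map_mul, Polynomial.map_pow, map_X, map_C, map_mul, map_pow, map_neg, map_one,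
    C_mul, mul_assoc, ← sum_powersetCard_eq e n PL g hg x hx hsum k, Finset.mul_sum]
  refine Finset.sum_congr rfl fun t ht => ?_
  rw [Finset.prod_neg, (Finset.mem_powersetCard.1 ht).2, C_pow, C_neg, C_1]

include hg hx hsum in
theorem map_QK : (QK e n j).map g = Qv j x := by
  unfold QK
  have h1 := map_aeval_int' (Polynomial.mapRingHom g)
    (fun i : Fin n => C (LambdaOps.lam (i.1 + 1) e) * X ^ (i.1 + 1)) (KRR.bottPoly j n)
  rw [coe_mapRingHom] at h1
  rw [h1]
  have h2 : (fun i : Fin n => Polynomial.map g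
      (C (LambdaOps.lam (i.1 + 1) e) * X ^ (i.1 + 1))) =
      fun i : Fin n => ∑ t ∈ Finset.powersetCard (i.1 + 1) (Finset.univ : Finset (Fin n)),
        ∏ l ∈ t, (C (x l) * X : L[X]) := by
    funext i
    rw [sum_powersetCard_eq e n PL g hg x hx hsum, Polynomial.map_mul,
      Polynomial.map_pow, map_X, map_C]
  rw [h2]
  have h3 := Groth.Agent.Lib.Helper6.LambdaAdams.aeval_bottPoly j n (fun l => (C (x l) * X : L[X]))
  unfold Qv
  rw [← h3]
  congr 2

include hg hx hsum in
theorem map_PK (hj : j ≠ 0) : (PK e n j).map g = pv fun k => x k ^ j := by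
  unfold PK
  rw [map_contract hj, Polynomial.map_mul, map_pK e n PL g hg x hx hsum,
    map_QK e n j PL g hg x hx hsum, pv_mul_Qv, contract_expand (hp := hj)]

include hg hx hsum in
theorem expand_PK (hj : j ≠ 0) (hinj : Function.Injective g) :
    expand K j (PK e n j) = pK e n * QK e n j := by
  apply Polynomial.map_injective g hinj
  rw [map_expand, map_PK e n j PL g hg x hx hsum hj, Polynomial.map_mul,
    map_pK e n PL g hg x hx hsum, map_QK e n j PL g hg x hx hsum, pv_mul_Qv]

include hg hx hsum in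
theorem QK_natDegree_le (hinj : Function.Injective g) : (QK e n j).natDegree ≤ (j - 1) * n := by
  rw [← natDegree_map_eq_of_injective hinj, map_QK e n j PL g hg x hx hsum]
  exact Qv_natDegree_le j x

include hg hx hsum in
theorem QK_coeff_zero (hj : j ≠ 0) (hinj : Function.Injective g) : (QK e n j).coeff 0 = 1 := by
  apply hinj
  rw [← coeff_map, map_QK e n j PL g hg x hx hsum, Qv_coeff_zero hj, map_one]

include hg hx hsum in
theorem PK_natDegree_le (hj : j ≠ 0) (hinj : Function.Injective g) :
    (PK e n j).natDegree ≤ n := by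
  rw [← natDegree_map_eq_of_injective hinj, map_PK e n j PL g hg x hx hsum hj]
  exact pv_natDegree_le _

include hg hx hsum in
theorem PK_coeff_top (hj : j ≠ 0) (hinj : Function.Injective g) :
    (PK e n j).coeff n = (-1) ^ n * (LambdaOps.lam n e) ^ j := by
  apply hinj
  rw [← coeff_map, map_PK e n j PL g hg x hx hsum hj, pv_coeff_top, map_mul, map_pow, map_pow,
    map_neg, map_one, hg, ← hsum, Groth.Agent.Lib.Helper6.LambdaAdams.lam_sum PL x hx]
  have : Finset.powersetCard n (Finset.univ : Finset (Fin n)) = {Finset.univ} := by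
    have := Finset.powersetCard_self (Finset.univ : Finset (Fin n))
    rwa [Finset.card_univ, Fintype.card_fin] at this
  rw [this, Finset.sum_singleton, Finset.prod_pow]

end Split

section Facts

/-- the facts about `pK`, `QK`, `PK` obtained from a splitting of `e` -/
theorem poly_facts (hK : HasSplitting K P) (he : e ∈ P.pos) (haug : P.aug e = n) (hj : j ≠ 0) :
    expand K j (PK e n j) = pK e n * QK e n j ∧ (QK e n j).natDegree ≤ (j - 1) * n ∧
      (QK e n j).coeff 0 = 1 ∧ (PK e n j).natDegree ≤ n ∧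
      (PK e n j).coeff n = (-1) ^ n * (LambdaOps.lam n e) ^ j := by
  obtain ⟨L, g, hg, -, s, hs, hsum⟩ := Groth.Agent.Lib.Helper3.LambdaAdams.exists_split hK e he
  obtain ⟨x, hx⟩ := Groth.Agent.Lib.Helper6.LambdaAdams.exists_fin_family s
  have hline : ∀ i, L.posStr.IsLine (x i) := fun i =>
    hs _ (by rw [← hx]; exact Multiset.mem_map_of_mem x (Finset.mem_univ_val i))
  have hsum' : ∑ i, x i = g e := by
    change (Multiset.map x Finset.univ.val).sum = g e
    rw [hx, hsum]
  have hn : s.card = n := by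
    have h1 : L.posStr.aug (∑ i, x i) = (s.card : ℤ) := by
      rw [map_sum]
      simp only [(hline _).2, Finset.sum_const, Finset.card_univ, Fintype.card_fin, nsmul_eq_mul,
        mul_one]
    rw [hsum', hg.aug_comp, haug] at h1
    exact_mod_cast h1.symm
  subst hn
  exact ⟨expand_PK e s.card j L.posStr g hg.isLambdaHom x hline hsum' hj hg.injective,
    QK_natDegree_le e s.card j L.posStr g hg.isLambdaHom x hline hsum' hg.injective,
    QK_coeff_zero e s.card j L.posStr g hg.isLambdaHom x hline hsum' hj hg.injective,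
    PK_natDegree_le e s.card j L.posStr g hg.isLambdaHom x hline hsum' hj hg.injective,
    PK_coeff_top e s.card j L.posStr g hg.isLambdaHom x hline hsum' hj hg.injective⟩

end Facts

section Aug

include P in
theorem aug_lam_nat (hK : HasSplitting K P) (haug : P.aug e = n) (i : ℕ) :
    P.aug (LambdaOps.lam i e) = (Nat.choose n i : ℤ) := by
  rw [Groth.Agent.Lib.Helper24.PosSpecial.aug_lam hK, haug, Ring.choose_natCast]

theorem map_aug_pK (hK : HasSplitting K P) (haug : P.aug e = n) :
    (pK e n).map P.aug = (1 - X) ^ n := by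
  unfold pK
  rw [Polynomial.map_sum, sub_eq_neg_add, add_pow]
  refine Finset.sum_congr rfl fun i _ => ?_
  rw [Polynomial.map_mul, Polynomial.map_pow, map_X, map_C, map_mul, map_pow, map_neg, map_one,
    aug_lam_nat P e n hK haug, one_pow, mul_one, neg_pow (X : ℤ[X]), C_mul, C_pow, C_neg, C_1]
  simp only [Int.cast_natCast, map_natCast]
  ring

theorem map_aug_QK (hK : HasSplitting K P) (haug : P.aug e = n) :
    (QK e n j).map P.aug = (geom j) ^ n := by
  unfold QK
  have h1 := map_aeval_int' (Polynomial.mapRingHom P.aug)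
    (fun i : Fin n => C (LambdaOps.lam (i.1 + 1) e) * X ^ (i.1 + 1)) (KRR.bottPoly j n)
  rw [coe_mapRingHom] at h1
  rw [h1]
  have h2 : (fun i : Fin n => Polynomial.map P.aug
      (C (LambdaOps.lam (i.1 + 1) e) * X ^ (i.1 + 1))) =
      fun i : Fin n => ∑ t ∈ Finset.powersetCard (i.1 + 1) (Finset.univ : Finset (Fin n)),
        ∏ _l ∈ t, (X : ℤ[X]) := by
    funext i
    rw [Polynomial.map_mul, Polynomial.map_pow, map_X, map_C, aug_lam_nat P e n hK haug]
    have : ∀ t ∈ Finset.powersetCard (i.1 + 1) (Finset.univ : Finset (Fin n)),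
        ∏ _l ∈ t, (X : ℤ[X]) = X ^ (i.1 + 1) := by
      intro t ht
      rw [Finset.prod_const, (Finset.mem_powersetCard.1 ht).2]
    rw [Finset.sum_congr rfl this, Finset.sum_const, Finset.card_powersetCard, Finset.card_univ,
      Fintype.card_fin, nsmul_eq_mul]
    simp
  rw [h2]
  have h3 := Groth.Agent.Lib.Helper6.LambdaAdams.aeval_bottPoly j n (fun _ => (X : ℤ[X]))
  have h4 : (geom j : ℤ[X]) ^ n = ∏ _i : Fin n, ∑ k ∈ Finset.range j, (X : ℤ[X]) ^ k := by
    rw [Finset.prod_const, Finset.card_univ, Fintype.card_fin]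
    rfl
  rw [h4, ← h3]
  congr 2

theorem map_aug_PK (hK : HasSplitting K P) (haug : P.aug e = n) (hj : j ≠ 0) :
    (PK e n j).map P.aug = (1 - X) ^ n := by
  unfold PK
  rw [map_contract hj, Polynomial.map_mul, map_aug_pK P e n hK haug, map_aug_QK P e n j hK haug,
    contract_one_sub_pow_mul_geom_pow hj]

theorem eval_one_contract_QK (hK : HasSplitting K P) (m : ℕ) (haug : P.aug e = (m + 1 : ℕ))
    (hj : j ≠ 0) :
    eval 1 ((contract j (QK e (m + 1) j)).map P.aug) = (j : ℤ) ^ m := by
  rw [map_contract hj, map_aug_QK P e (m + 1) j hK haug, eval_one_contract_geom_pow hj]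

end Aug

section Ext

variable {Ke : Type u} [CommRing Ke] [LambdaOps Ke] (Pe : PosStructure Ke) (ι : K →+* Ke)

theorem pow_sub_mul_inv_pow {B : Type*} [CommRing B] (l v : B) (h : v * l = 1) (n i : ℕ)
    (hi : i ≤ n) : l ^ (n - i) * v ^ n = v ^ i := by
  have h1 : v ^ n = v ^ (n - i) * v ^ i := by rw [← pow_add]; congr 1; omega
  rw [h1, ← mul_assoc, ← mul_pow, mul_comm l v, h, one_pow, one_mul]

/-- the inverse of a root of `∑ (-1)^i λ^i(e) X^{n-i}` is a root of `pK` -/
theorem eval₂_inv_pK (l v : Ke) (h : v * l = 1)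
    (hroot : ∑ i ∈ Finset.range (n + 1), ι ((-1 : K) ^ i * LambdaOps.lam i e) * l ^ (n - i) = 0) :
    eval₂ ι v (pK e n) = 0 := by
  unfold pK
  rw [eval₂_finsetSum]
  have h2 : ∀ i ∈ Finset.range (n + 1),
      eval₂ ι v (C ((-1 : K) ^ i * LambdaOps.lam i e) * X ^ i) =
        (ι ((-1 : K) ^ i * LambdaOps.lam i e) * l ^ (n - i)) * v ^ n := by
    intro i hi
    have hi' := Finset.mem_range.mp hi
    rw [eval₂_mul, eval₂_C, eval₂_pow, eval₂_X, mul_assoc, pow_sub_mul_inv_pow l v h n i (by omega)]
  rw [Finset.sum_congr rfl h2, ← Finset.sum_mul, hroot, zero_mul]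

include P in
theorem eval₂_inv_pK' (hn : (P.aug e).toNat = n) (l v : Ke) (h : v * l = 1)
    (hroot : eval₂ ι l (KRR.extPoly P e) = 0) : eval₂ ι v (pK e n) = 0 := by
  apply eval₂_inv_pK e n ι l v h
  rw [KRR.extPoly, hn, eval₂_finsetSum] at hroot
  rw [← hroot]
  refine Finset.sum_congr rfl fun i _ => ?_
  rw [eval₂_mul, eval₂_C, eval₂_pow, eval₂_X]

include Pe in
/-- `Q^∨(u) = j · (contract_j Q^∨)(u^j)` for a root `u` of `p^∨` -/
theorem eval₂_QK_eq (hsplit : HasSplitting Ke Pe) (hext : IsExtension P Pe ι) (he : e ∈ P.pos)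
    (haug : P.aug e = n) (hj : j ≠ 0) (u : Ke) (hu : eval₂ ι u (pK e n) = 0) :
    eval₂ ι u (QK e n j) = (j : Ke) * eval₂ ι (u ^ j) (contract j (QK e n j)) := by
  obtain ⟨L, g, hg, -, s, hs, hsum⟩ :=
    Groth.Agent.Lib.Helper3.LambdaAdams.exists_split hsplit (ι e) (hext.pos_subset e he)
  obtain ⟨x, hx⟩ := Groth.Agent.Lib.Helper6.LambdaAdams.exists_fin_family s
  have hline : ∀ i, L.posStr.IsLine (x i) := fun i =>
    hs _ (by rw [← hx]; exact Multiset.mem_map_of_mem x (Finset.mem_univ_val i))
  have hsum' : ∑ i, x i = g (ι e) := by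
    change (Multiset.map x Finset.univ.val).sum = g (ι e)
    rw [hx, hsum]
  have hn : s.card = n := by
    have h1 : L.posStr.aug (∑ i, x i) = (s.card : ℤ) := by
      rw [map_sum]
      simp only [(hline _).2, Finset.sum_const, Finset.card_univ, Fintype.card_fin, nsmul_eq_mul,
        mul_one]
    rw [hsum', hg.aug_comp, hext.aug_comp, haug] at h1
    exact_mod_cast h1.symm
  subst hn
  set G : K →+* L.carrier := g.comp ι with hG
  have hGlam : IsLambdaHom G := fun i z => by
    rw [hG, RingHom.comp_apply, RingHom.comp_apply, hext.isLambdaHom, hg.isLambdaHom]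
  have hsumG : ∑ i, x i = G e := hsum'
  set y : Fin s.card → L.carrier := fun k =>
    ((isUnit_of_isLine L.posStr (hline k)).unit⁻¹ : L.carrierˣ) with hy
  have hxy : ∀ k, x k * y k = 1 := fun k => by
    rw [hy]
    exact IsUnit.mul_val_inv (isUnit_of_isLine L.posStr (hline k))
  have hdvd := pv_dvd hj x y hxy
  set Z : K[X] := (j : K[X]) * E j (QK e s.card j) - QK e s.card j with hZ
  have hZmap : Z.map G = (j : L.carrier[X]) * E j (Qv j x) - Qv j x := by
    rw [hZ, Polynomial.map_sub, Polynomial.map_mul, Polynomial.map_natCast, map_E hj,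
      map_QK e s.card j L.posStr G hGlam x hline hsumG]
  have h0 : eval (g u) (pv x) = 0 := by
    rw [← map_pK e s.card L.posStr G hGlam x hline hsumG, eval_map, hG, ← hom_eval₂, hu, map_zero]
  have h1 : eval (g u) (Z.map G) = 0 := by
    rw [hZmap]
    exact eval_eq_zero_of_dvd_of_eval_eq_zero hdvd h0
  rw [eval_map, hG, ← hom_eval₂] at h1
  have h2 : eval₂ ι u Z = 0 := hg.injective (by rw [h1, map_zero])
  rw [hZ, eval₂_sub, eval₂_mul, eval₂_natCast, sub_eq_zero] at h2
  rw [← h2]
  congr 1
  unfold E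
  rw [eval₂_eq_eval_map, eval₂_eq_eval_map, map_expand, expand_eval]

include Pe in
/-- Bott's class of `ι(e) · v`, `v` the inverse of a line element, as a value of `Q^∨` -/
theorem bott_eq_eval₂ (hsplit : HasSplitting Ke Pe) (hext : IsExtension P Pe ι)
    (haug : P.aug e = n) {l v : Ke} (hl : Pe.IsLine l) (hv : v * l = 1) :
    KRR.bott Pe j (ι e * v) = eval₂ ι v (QK e n j) := by
  have haugv : Pe.aug v = 1 := by
    have := congrArg Pe.aug hv
    rw [map_mul, hl.2, mul_one, map_one] at this
    exact this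
  have hn : (Pe.aug (ι e * v)).toNat = n := by
    rw [map_mul, hext.aug_comp, haug, haugv, mul_one, Int.toNat_natCast]
  rw [Groth.Agent.Lib.Helper6.LambdaAdams.bott_eq Pe j (ι e * v) n hn]
  unfold QK
  have h1 := map_aeval_int' (Polynomial.eval₂RingHom ι v)
    (fun i : Fin n => C (LambdaOps.lam (i.1 + 1) e) * X ^ (i.1 + 1)) (KRR.bottPoly j n)
  rw [coe_eval₂RingHom] at h1
  rw [h1]
  congr 2
  funext i
  rw [eval₂_mul, eval₂_C, eval₂_pow, eval₂_X, hext.isLambdaHom,
    lam_mul_inv_line Pe hsplit hl hv]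

include Pe in
theorem aug_bott (hsplit : HasSplitting Ke Pe) (z : Ke) (haug : Pe.aug z = n) :
    Pe.aug (KRR.bott Pe j z) = (j : ℤ) ^ n := by
  have hn : (Pe.aug z).toNat = n := by rw [haug, Int.toNat_natCast]
  rw [Groth.Agent.Lib.Helper6.LambdaAdams.bott_eq Pe j z n hn,
    Groth.Agent.Lib.Helper24.PosSpecial.map_aeval_int Pe.aug]
  have h2 : (fun i : Fin n => Pe.aug (LambdaOps.lam (i.1 + 1) z)) =
      fun i : Fin n => ∑ t ∈ Finset.powersetCard (i.1 + 1) (Finset.univ : Finset (Fin n)),
        ∏ _l ∈ t, (1 : ℤ) := by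
    funext i
    rw [aug_lam_nat Pe z n hsplit haug]
    simp
  rw [h2, Groth.Agent.Lib.Helper6.LambdaAdams.aeval_bottPoly j n (fun _ => (1 : ℤ))]
  simp

end Ext

end Polys

end Groth.Agent.Lib.Helper24.ARRLam
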