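import Mathlib

/-!
# A unit criterion modulo a polynomial, over a ring with nilpotent augmentation kernel (helper24)
-/

set_option autoImplicit false
open Polynomial

namespace Groth.Agent.Lib.Helper24.ARRUnit

universe u v

theorem ringHom_eq_eval₂ {A : Type u} {κ : Type v} [CommRing A] [CommRing κ] (g : A[X] →+* κ)
    (Y : A[X]) : g Y = eval₂ (g.comp C) (g X) Y := by
  conv_lhs => rw [← eval₂_C_X (p := Y)]
  rw [hom_eval₂]

theorem exists_inverse_mod {K : Type u} {A : Type v} [CommRing K] [CommRing A] (φ : K →+* A)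
    (ε : K →+* ℤ) (hnil : ∀ k : K, IsNilpotent (φ k - ((ε k : ℤ) : A))) (j : ℕ)
    (hjA : IsUnit (j : A)) (PK qK : K[X]) (n m : ℕ) (hn : n ≠ 0)
    (hP : PK.map ε = (1 - X) ^ n) (hq : eval 1 (qK.map ε) = (j : ℤ) ^ m) :
    ∃ z d : A[X], qK.map φ * z = 1 + PK.map φ * d := by
  set I : Ideal A[X] := Ideal.span {PK.map φ} with hI
  have hunit : IsUnit (Ideal.Quotient.mk I (qK.map φ)) := by
    by_contra hnu
    obtain ⟨M, hM, hqM⟩ := exists_max_ideal_of_mem_nonunits (mem_nonunits_iff.mpr hnu)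
    haveI := hM
    letI : Field ((A[X] ⧸ I) ⧸ M) := Ideal.Quotient.field M
    set π : A[X] →+* (A[X] ⧸ I) ⧸ M := (Ideal.Quotient.mk M).comp (Ideal.Quotient.mk I) with hπ
    set χ : A →+* (A[X] ⧸ I) ⧸ M := π.comp C with hχ
    set v := π X with hv
    have hχφ : χ.comp φ = (Int.castRingHom ((A[X] ⧸ I) ⧸ M)).comp ε := by
      ext k
      have h1 : IsNilpotent (χ (φ k - ((ε k : ℤ) : A))) := (hnil k).map χ
      have h2 := h1.eq_zero
      rw [map_sub, map_intCast, sub_eq_zero] at h2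
      simpa using h2
    have hmapP : (PK.map φ).map χ = (1 - X) ^ n := by
      rw [Polynomial.map_map, hχφ, ← Polynomial.map_map, hP]
      simp
    have hmapq : (qK.map φ).map χ = (qK.map ε).map (Int.castRingHom _) := by
      rw [Polynomial.map_map, hχφ, ← Polynomial.map_map]
    have hπP : π (PK.map φ) = 0 := by
      rw [hπ, RingHom.comp_apply]
      have : Ideal.Quotient.mk I (PK.map φ) = 0 :=
        Ideal.Quotient.eq_zero_iff_mem.mpr (Ideal.mem_span_singleton_self _)
      rw [this, map_zero]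
    have hv1 : v = 1 := by
      rw [ringHom_eq_eval₂ π, ← hχ, ← hv, eval₂_eq_eval_map, hmapP, eval_pow, eval_sub, eval_one,
        eval_X] at hπP
      have := pow_eq_zero_iff hn |>.mp hπP
      exact (sub_eq_zero.mp this).symm
    have hπq : π (qK.map φ) = 0 := by
      rw [hπ, RingHom.comp_apply]
      exact Ideal.Quotient.eq_zero_iff_mem.mpr hqM
    rw [ringHom_eq_eval₂ π, ← hχ, ← hv, hv1, eval₂_eq_eval_map, hmapq, eval_map, eval₂_at_one, hq]
      at hπq
    have hjκ : IsUnit (χ (j : A)) := hjA.map χ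
    rw [map_natCast] at hjκ
    have : ((j : ℕ) : (A[X] ⧸ I) ⧸ M) ^ m = 0 := by
      simpa using hπq
    exact (hjκ.pow m).ne_zero this
  obtain ⟨s, hs⟩ := hunit.exists_right_inv
  obtain ⟨z, rfl⟩ := Ideal.Quotient.mk_surjective s
  rw [← map_mul, ← map_one (Ideal.Quotient.mk I), Ideal.Quotient.eq, hI,
    Ideal.mem_span_singleton'] at hs
  obtain ⟨d, hd⟩ := hs
  exact ⟨z, d, by rw [mul_comm (PK.map φ) d, hd]; ring⟩

end Groth.Agent.Lib.Helper24.ARRUnit
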