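import Groth.Agent.Lib.Helper24.ARRLam
import Groth.Agent.Lib.Helper24.ARRFunctional
import Groth.Agent.Lib.Helper24.ARRUnit
import Groth.Agent.Lib.Helper6.LambdaExt

/-!
# Adams–Riemann–Roch for the model elementary projection (helper24)
-/

set_option autoImplicit false
set_option linter.unusedSectionVars false
set_option maxHeartbeats 1000000
universe v

open scoped TensorProduct
open LambdaRing Polynomial

namespace Groth.Agent.Lib.Helper24.ARRMain

open Groth.Agent.Lib.Helper24.ARRLam Groth.Agent.Lib.Helper24.ContractE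

section Tensor

variable (R : Type) [CommRing R] {K Ke : Type v} [CommRing K] [CommRing Ke]

/-- `k ↦ 1 ⊗ k` -/
noncomputable def inc (K : Type v) [CommRing K] : K →+* R ⊗[ℤ] K :=
  (Algebra.TensorProduct.includeRight : K →ₐ[ℤ] R ⊗[ℤ] K).toRingHom

theorem inc_apply (k : K) : inc R K k = (1 : R) ⊗ₜ[ℤ] k := rfl

/-- `R ⊗ ι` -/
noncomputable def tmap (ι : K →+* Ke) : R ⊗[ℤ] K →+* R ⊗[ℤ] Ke :=
  (Algebra.TensorProduct.map (AlgHom.id ℤ R) ι.toIntAlgHom).toRingHom

theorem tmap_tmul (ι : K →+* Ke) (r : R) (k : K) :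
    tmap R ι (r ⊗ₜ[ℤ] k) = r ⊗ₜ[ℤ] ι k := by
  unfold tmap
  simp

theorem tmap_comp_inc (ι : K →+* Ke) : (tmap R ι).comp (inc R K) = (inc R Ke).comp ι := by
  ext k
  simp only [RingHom.comp_apply, inc_apply, tmap_tmul]

variable [Algebra K Ke]

/-- `R ⊗ f` -/
noncomputable def tfun (f : Ke →ₗ[K] K) : R ⊗[ℤ] Ke →+ R ⊗[ℤ] K :=
  (LinearMap.lTensor R f.toAddMonoidHom.toIntLinearMap).toAddMonoidHom

theorem tfun_tmul (f : Ke →ₗ[K] K) (r : R) (y : Ke) :
    tfun R f (r ⊗ₜ[ℤ] y) = r ⊗ₜ[ℤ] f y := by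
  unfold tfun
  simp

theorem tfun_mul (f : Ke →ₗ[K] K) (a : R ⊗[ℤ] K) (b : R ⊗[ℤ] Ke) :
    tfun R f (tmap R (algebraMap K Ke) a * b) = a * tfun R f b := by
  induction a using TensorProduct.induction_on with
  | zero => simp
  | add a a' ha ha' => rw [map_add, add_mul, map_add, ha, ha', add_mul]
  | tmul r k =>
    induction b using TensorProduct.induction_on with
    | zero => simp
    | add b b' hb hb' => rw [mul_add, map_add, hb, hb', map_add, mul_add]
    | tmul r' y =>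
      rw [tmap_tmul, Algebra.TensorProduct.tmul_mul_tmul, tfun_tmul, tfun_tmul,
        Algebra.TensorProduct.tmul_mul_tmul, ← Algebra.smul_def, map_smul, smul_eq_mul]

end Tensor

section Unit

variable (R : Type) [CommRing R] (K : Type v) [CommRing K]

theorem isUnit_natCast_tensor (j : ℕ) (hjR : IsUnit ((j : ℕ) : R)) :
    IsUnit ((j : ℕ) : R ⊗[ℤ] K) := by
  have h := hjR.map (Algebra.TensorProduct.includeLeftRingHom : R →+* R ⊗[ℤ] K)
  rwa [map_natCast] at h

end Unit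

theorem isUnit_natCast_away (j : ℕ) : IsUnit ((j : ℕ) : Localization.Away (j : ℤ)) := by
  have h := IsLocalization.Away.algebraMap_isUnit (S := Localization.Away (j : ℤ)) (j : ℤ)
  rwa [eq_intCast, Int.cast_natCast] at h

section ExtPoly

variable {K : Type v} [CommRing K] [LambdaOps K] (P : PosStructure K)

theorem extPoly_eq (e : K) (n : ℕ) (hn : (P.aug e).toNat = n) :
    KRR.extPoly P e = X ^ n + ∑ i ∈ Finset.range n,
      C ((-1 : K) ^ (i + 1) * LambdaOps.lam (i + 1) e) * X ^ (n - (i + 1)) := by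
  unfold KRR.extPoly
  rw [hn, Finset.sum_range_succ', pow_zero, one_mul, LambdaOps.lam_zero, C_1, one_mul,
    Nat.sub_zero, add_comm]

theorem extPoly_degree_lt (e : K) (n : ℕ) :
    (∑ i ∈ Finset.range n,
      C ((-1 : K) ^ (i + 1) * LambdaOps.lam (i + 1) e) * X ^ (n - (i + 1)) : K[X]).degree <
      (n : WithBot ℕ) := by
  rw [degree_lt_iff_coeff_zero]
  intro m hm
  rw [finsetSum_coeff]
  refine Finset.sum_eq_zero fun i hi => ?_
  have := Finset.mem_range.mp hi
  rw [coeff_C_mul, coeff_X_pow, if_neg (by omega), mul_zero]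

theorem extPoly_monic (e : K) (n : ℕ) (hn : (P.aug e).toNat = n) : (KRR.extPoly P e).Monic := by
  rw [extPoly_eq P e n hn]
  exact monic_X_pow_add (extPoly_degree_lt e n)

theorem extPoly_natDegree [Nontrivial K] (e : K) (n : ℕ) (hn : (P.aug e).toNat = n) :
    (KRR.extPoly P e).natDegree = n := by
  rw [extPoly_eq P e n hn]
  apply natDegree_eq_of_degree_eq_some
  rw [degree_add_eq_left_of_degree_lt, degree_X_pow]
  rw [degree_X_pow]
  exact extPoly_degree_lt e n

include P in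
theorem nontrivial_of_pos : Nontrivial K := by
  refine ⟨0, 1, fun h => ?_⟩
  have := congrArg P.aug h
  rw [map_zero, map_one] at this
  exact zero_ne_one this

/-- every element of `K_e` is a `K`-combination of `ℓ^{-i}`, `0 ≤ i ≤ r` -/
theorem exists_repr (e : K) (r : ℕ) (hn : (P.aug e).toNat = r + 1)
    (linv : AdjoinRoot (KRR.extPoly P e)) (hlinv : linv * AdjoinRoot.root (KRR.extPoly P e) = 1)
    (x : AdjoinRoot (KRR.extPoly P e)) :
    ∃ b : ℕ → K, x = ∑ k ∈ Finset.range (r + 1),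
      AdjoinRoot.of (KRR.extPoly P e) (b k) * linv ^ (r - k) := by
  haveI := nontrivial_of_pos P
  have hmon := extPoly_monic P e (r + 1) hn
  have hdeg := extPoly_natDegree P e (r + 1) hn
  obtain ⟨Y, hY⟩ := AdjoinRoot.mk_surjective (x * AdjoinRoot.root (KRR.extPoly P e) ^ r)
  have h1 : AdjoinRoot.mk (KRR.extPoly P e) Y =
      AdjoinRoot.mk (KRR.extPoly P e) (Y %ₘ KRR.extPoly P e) := by
    rw [AdjoinRoot.mk_eq_mk]
    refine ⟨Y /ₘ KRR.extPoly P e, ?_⟩
    have := modByMonic_add_div Y (KRR.extPoly P e)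
    rw [sub_eq_iff_eq_add, add_comm]
    exact this.symm
  have hR : (Y %ₘ KRR.extPoly P e).natDegree < r + 1 := by
    rw [← hdeg]
    exact natDegree_modByMonic_lt Y hmon (by
      intro h2
      rw [h2, natDegree_one] at hdeg
      omega)
  refine ⟨fun k => (Y %ₘ KRR.extPoly P e).coeff k, ?_⟩
  have h2 : x * AdjoinRoot.root (KRR.extPoly P e) ^ r =
      ∑ k ∈ Finset.range (r + 1), AdjoinRoot.of (KRR.extPoly P e)
        ((Y %ₘ KRR.extPoly P e).coeff k) * AdjoinRoot.root (KRR.extPoly P e) ^ k := by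
    rw [← hY, h1]
    conv_lhs => rw [as_sum_range_C_mul_X_pow' _ hR]
    rw [map_sum]
    refine Finset.sum_congr rfl fun k _ => ?_
    rw [map_mul, map_pow, AdjoinRoot.mk_C, AdjoinRoot.mk_X]
  have h3 : x = x * AdjoinRoot.root (KRR.extPoly P e) ^ r * linv ^ r := by
    rw [mul_assoc, ← mul_pow, mul_comm _ linv, hlinv, one_pow, mul_one]
  rw [h3, h2, Finset.sum_mul]
  refine Finset.sum_congr rfl fun k hk => ?_
  have hk' := Finset.mem_range.mp hk
  rw [mul_assoc]
  congr 1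
  have := pow_sub_mul_inv_pow (AdjoinRoot.root (KRR.extPoly P e)) linv hlinv r (r - k) (by omega)
  rwa [show r - (r - k) = k by omega] at this

end ExtPoly

section Main

variable (R : Type) [CommRing R]
variable {K : Type v} [CommRing K] [LambdaOps K] (P : PosStructure K)

theorem sigma_zero (e : K) : KRR.sigma 0 e = 1 := by
  unfold KRR.sigma KRR.sigmaSeries
  rw [PowerSeries.coeff_zero_eq_constantCoeff_apply, PowerSeries.constantCoeff_invOfUnit]
  simp

variable (hK : HasSplitting K P) (e : K) (he : e ∈ P.pos) (r : ℕ) (hr : P.aug e = r + 1)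
  {Ke : Type v} [CommRing Ke] [Algebra K Ke] [LambdaOps Ke]
  (Pe : PosStructure Ke) (ℓ : Ke)
  (hext : IsExtension P Pe (algebraMap K Ke))
  (hline : Pe.IsLine ℓ)
  (hsplit : HasSplitting Ke Pe) (N : ℕ)
  (hN : gammaFiltration Pe N = ⊥)
  (hroot : eval₂ (algebraMap K Ke) ℓ (KRR.extPoly P e) = 0)
  (f : Ke →ₗ[K] K)
  (linv : Ke) (hlinv : linv * ℓ = 1)
  (hfv1 : f 1 = 1) (hfv2 : ∀ n : ℕ, 1 ≤ n → n ≤ r → f (linv ^ n) = 0)
  (hspan : ∀ x : Ke, ∃ b : ℕ → K, x = ∑ k ∈ Finset.range (r + 1),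
    algebraMap K Ke (b k) * linv ^ (r - k))
  (j : ℕ) (hj : 1 ≤ j) (hjR : IsUnit ((j : ℕ) : R))

include hr hext hline hsplit hN hlinv hjR in
/-- `1 ⊗ θ^j(e ℓ⁻¹)` is a unit -/
theorem partA : ∃ w : R ⊗[ℤ] Ke,
    w * ((1 : R) ⊗ₜ[ℤ] KRR.bott Pe j (algebraMap K Ke e * linv)) = 1 := by
  have haug : P.aug e = ((r + 1 : ℕ) : ℤ) := by rw [hr]; push_cast; ring
  have haugv : Pe.aug linv = 1 := by
    have := congrArg Pe.aug hlinv
    rw [map_mul, hline.2, mul_one, map_one] at this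
    exact this
  have haugz : Pe.aug (algebraMap K Ke e * linv) = ((r + 1 : ℕ) : ℤ) := by
    rw [map_mul, hext.aug_comp, haug, haugv, mul_one]
  set θ := KRR.bott Pe j (algebraMap K Ke e * linv) with hθ
  have hεθ : Pe.aug θ = (j : ℤ) ^ (r + 1) := aug_bott (r + 1) j Pe hsplit _ haugz
  set ν := θ - ((j : ℕ) : Ke) ^ (r + 1) with hν
  have hεν : Pe.aug ν = 0 := by
    rw [hν, map_sub, hεθ, map_pow, map_natCast]
    simp
  have hνN : ν ^ N = 0 := pow_eq_zero_of_aug Pe N hN ν hεν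
  have h1 : (1 : R) ⊗ₜ[ℤ] θ = ((j : ℕ) : R ⊗[ℤ] Ke) ^ (r + 1) +
      (1 : R) ⊗ₜ[ℤ] ν := by
    have : θ = ((j : ℕ) : Ke) ^ (r + 1) + ν := by rw [hν]; ring
    conv_lhs => rw [this]
    rw [TensorProduct.tmul_add]
    congr 1
    rw [← inc_apply, map_pow, map_natCast]
  have h2 : IsNilpotent ((1 : R) ⊗ₜ[ℤ] ν : R ⊗[ℤ] Ke) := by
    refine ⟨N, ?_⟩
    rw [← inc_apply, ← map_pow, hνN, map_zero]
  have h3 : IsUnit ((1 : R) ⊗ₜ[ℤ] θ : R ⊗[ℤ] Ke) := by
    rw [h1]
    exact h2.isUnit_add_left_of_commute ((isUnit_natCast_tensor R _ j hjR).pow (r + 1))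
      (Commute.all _ _)
  obtain ⟨w, hw⟩ := h3.exists_left_inv
  exact ⟨w, hw⟩

include hK he hr hext hline hsplit hN hroot hlinv hfv1 hfv2 hj hjR in
/-- the values of `(R ⊗ f)(j w ℓ^{-ij})` -/
theorem partB_basis (w : R ⊗[ℤ] Ke)
    (hw : w * ((1 : R) ⊗ₜ[ℤ] KRR.bott Pe j (algebraMap K Ke e * linv)) = 1)
    (i : ℕ) (hi : i ≤ r) :
    tfun R f (((j : ℕ) : R ⊗[ℤ] Ke) * w *
      (inc R (Ke) linv) ^ (i * j)) = if i = 0 then 1 else 0 := by
  rcases subsingleton_or_nontrivial (R ⊗[ℤ] K) with hsub | hnt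
  · exact Subsingleton.elim _ _
  haveI := nontrivial_of_pos P
  have hj0 : j ≠ 0 := by omega
  have hm : (P.aug e).toNat = r + 1 := by rw [hr]; norm_cast
  have haug : P.aug e = ((r + 1 : ℕ) : ℤ) := by rw [hr]; push_cast; ring
  obtain ⟨hexp, hQdeg, hQ0, hPdeg, hPtop⟩ := poly_facts P e (r + 1) j hK he haug hj0
  have hunit : IsUnit (LambdaOps.lam (r + 1) e) := by
    have := P.isUnit_lam e he
    rwa [hm] at this
  obtain ⟨c, p', hp'mon, hp'deg, hpp', -⟩ := exists_monic_normalization (pK e (r + 1)) (r + 1)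
    (pK_natDegree_le e (r + 1)) (by
      rw [pK_coeff e (r + 1) (r + 1) le_rfl]
      exact ((isUnit_one.neg).pow (r + 1)).mul hunit)
  obtain ⟨c2, P', hP'mon, hP'deg, -, hPP'⟩ := exists_monic_normalization (PK e (r + 1) j) (r + 1)
    hPdeg (by
      rw [hPtop]
      exact ((isUnit_one.neg).pow (r + 1)).mul (hunit.pow j))
  have huK : eval₂ (algebraMap K Ke) linv (pK e (r + 1)) = 0 :=
    eval₂_inv_pK' P e (r + 1) (algebraMap K Ke) hm ℓ linv hlinv hroot
  have hnil : ∀ k : K, IsNilpotent (inc R K k - ((P.aug k : ℤ) : R ⊗[ℤ] K)) := by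
    intro k
    refine ⟨N, ?_⟩
    have h1 : inc R K k - ((P.aug k : ℤ) : R ⊗[ℤ] K) = inc R K (k - ((P.aug k : ℤ) : K)) := by
      rw [map_sub, map_intCast]
    have h2 : (k - ((P.aug k : ℤ) : K)) ^ N = 0 := by
      apply hext.injective
      rw [map_pow, map_zero]
      apply pow_eq_zero_of_aug Pe N hN
      rw [hext.aug_comp, map_sub, map_intCast]
      simp
    rw [h1, ← map_pow, h2, map_zero]
  have h6 := Groth.Agent.Lib.Helper24.ARRUnit.exists_inverse_mod (inc R K) P.aug hnil j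
    (isUnit_natCast_tensor R K j hjR) (PK e (r + 1) j) (contract j (QK e (r + 1) j)) (r + 1) r
    (Nat.succ_ne_zero r) (map_aug_PK P e (r + 1) j hK haug hj0)
    (eval_one_contract_QK P e j hK r haug hj0)
  rw [map_contract hj0] at h6
  have hcomp := tmap_comp_inc R (algebraMap K Ke)
  have hθ : KRR.bott Pe j (algebraMap K Ke e * linv) =
      eval₂ (algebraMap K Ke) linv (QK e (r + 1) j) :=
    bott_eq_eval₂ P e (r + 1) j Pe _ hsplit hext haug hline hlinv
  refine Groth.Agent.Lib.Helper24.ARRFunctional.main (tmap R (algebraMap K Ke))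
    (tfun R f) (tfun_mul R f) j r hj0
    (inc R (Ke) linv)
    ((pK e (r + 1)).map (inc R K)) (p'.map (inc R K)) ((QK e (r + 1) j).map (inc R K))
    ((PK e (r + 1) j).map (inc R K)) (P'.map (inc R K)) (inc R K c)
    (inc R K ((PK e (r + 1) j).coeff (r + 1)))
    (hp'mon.map _) (by rw [hp'mon.natDegree_map, hp'deg])
    (by rw [hpp', Polynomial.map_mul, map_C])
    (hP'mon.map _) (by rw [hP'mon.natDegree_map, hP'deg])
    (by conv_lhs => rw [hPP']
        rw [Polynomial.map_mul, map_C])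
    ((natDegree_map_le).trans hQdeg) (by rw [coeff_map, hQ0, map_one])
    (by rw [← map_expand, hexp, Polynomial.map_mul])
    (by rw [eval₂_map, hcomp, ← hom_eval₂, huK, map_zero])
    (fun i hi => ?_) w ?_ h6 ?_ i hi
  · rw [← map_pow, inc_apply, tfun_tmul]
    by_cases h0 : i = 0
    · subst h0
      rw [if_pos rfl, pow_zero, hfv1]
      rfl
    · rw [if_neg h0, hfv2 i (by omega) hi, TensorProduct.tmul_zero]
  · rw [← map_contract hj0, eval₂_map, eval₂_map, hcomp, ← map_pow, ← hom_eval₂, ← hom_eval₂,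
      ← map_natCast (inc R (Ke)) j, ← map_mul]
    congr 1
    exact eval₂_QK_eq P e (r + 1) j Pe _ hsplit hext he haug hj0 linv huK
  · rw [eval₂_map, hcomp, ← hom_eval₂, ← hθ, inc_apply]
    exact hw

include hK he hr hext hline hsplit hN hroot hlinv hfv1 hfv2 hspan hj hjR in
/-- Adams–Riemann–Roch for the model elementary projection, over any ring `R` in which `j` is
invertible -/
theorem main :
    (∃ w : R ⊗[ℤ] Ke,
      w * ((1 : R) ⊗ₜ[ℤ] KRR.bott Pe j (algebraMap K Ke e * linv)) = 1) ∧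
    ∀ w : R ⊗[ℤ] Ke,
      w * ((1 : R) ⊗ₜ[ℤ] KRR.bott Pe j (algebraMap K Ke e * linv)) = 1 →
      ∀ x : Ke,
        (1 : R) ⊗ₜ[ℤ] adams P j (f x) =
          LinearMap.lTensor R f.toAddMonoidHom.toIntLinearMap
            (((j : ℕ) : R ⊗[ℤ] Ke) * w *
              ((1 : R) ⊗ₜ[ℤ] adams Pe j x)) := by
  refine ⟨partA R P e r hr Pe ℓ hext hline hsplit N hN linv hlinv j hjR, fun w hw x => ?_⟩
  have hbasis := partB_basis R P hK e he r hr Pe ℓ hext hline hsplit N hN hroot f linv hlinv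
    hfv1 hfv2 j hj hjR w hw
  -- `ψ^j` of the inverse of `ℓ`
  have hψlinv : adams Pe j linv = linv ^ j := by
    have h1 : adams Pe j linv * adams Pe j (ℓ) = 1 := by
      rw [← Groth.Agent.Lib.Helper3.LambdaAdams.adams_mul hsplit, hlinv,
        Groth.Agent.Lib.Helper3.LambdaAdams.adams_one]
    rw [Groth.Agent.Lib.Helper3.LambdaAdams.adams_line Pe _ hline] at h1
    calc adams Pe j linv
        = adams Pe j linv * (ℓ ^ j * linv ^ j) := by
          rw [← mul_pow, mul_comm _ linv, hlinv, one_pow, mul_one]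
      _ = linv ^ j := by rw [← mul_assoc, h1, one_mul]
  -- the statement on the spanning set
  have key : ∀ (b : K) (i : ℕ), i ≤ r →
      (1 : R) ⊗ₜ[ℤ] adams P j (f (algebraMap K Ke b * linv ^ i)) =
        tfun R f (((j : ℕ) : R ⊗[ℤ] Ke) * w *
          ((1 : R) ⊗ₜ[ℤ] adams Pe j (algebraMap K Ke b * linv ^ i))) := by
    intro b i hi
    have h1 : f (algebraMap K Ke b * linv ^ i) = b * f (linv ^ i) := by
      rw [← Algebra.smul_def, map_smul, smul_eq_mul]
    have h2 : adams Pe j (algebraMap K Ke b * linv ^ i) =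
        algebraMap K Ke (adams P j b) * linv ^ (i * j) := by
      rw [Groth.Agent.Lib.Helper3.LambdaAdams.adams_mul hsplit,
        ← Groth.Agent.Lib.Helper3.LambdaAdams.map_adams hext]
      congr 1
      have : adams Pe j (linv ^ i) = (adams Pe j linv) ^ i :=
        map_pow (Groth.Agent.Lib.Helper3.LambdaAdams.adamsHom hsplit j) linv i
      rw [this, hψlinv, ← pow_mul, mul_comm]
    have h3 : ((j : ℕ) : R ⊗[ℤ] Ke) * w *
        ((1 : R) ⊗ₜ[ℤ] (algebraMap K Ke (adams P j b) * linv ^ (i * j))) =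
        tmap R (algebraMap K (Ke)) (inc R K (adams P j b)) *
          (((j : ℕ) : R ⊗[ℤ] Ke) * w *
            (inc R (Ke) linv) ^ (i * j)) := by
      rw [inc_apply, tmap_tmul, ← inc_apply R (algebraMap K Ke (adams P j b)),
        ← inc_apply R (algebraMap K Ke (adams P j b) * linv ^ (i * j)), map_mul, map_pow]
      ring
    rw [h1, h2, h3, tfun_mul, hbasis i hi]
    by_cases h0 : i = 0
    · subst h0
      rw [if_pos rfl, pow_zero, hfv1, mul_one, mul_one, inc_apply]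
    · rw [if_neg h0, hfv2 i (by omega) hi, mul_zero, mul_zero,
        Groth.Agent.Lib.Helper3.LambdaAdams.adams_zero, TensorProduct.tmul_zero]
  -- the general case
  obtain ⟨b, hb⟩ := hspan x
  have hsumf : ∀ (s : Finset ℕ) (y : ℕ → Ke),
      (1 : R) ⊗ₜ[ℤ] adams P j (f (∑ k ∈ s, y k)) = ∑ k ∈ s, (1 : R) ⊗ₜ[ℤ] adams P j (f (y k)) := by
    intro s y
    rw [map_sum, ← TensorProduct.tmul_sum]
    congr 1
    exact map_sum (Groth.Agent.Lib.Helper3.LambdaAdams.adamsHom hK j) _ s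
  have hsumg : ∀ (s : Finset ℕ) (y : ℕ → Ke),
      tfun R f (((j : ℕ) : R ⊗[ℤ] Ke) * w *
        ((1 : R) ⊗ₜ[ℤ] adams Pe j (∑ k ∈ s, y k))) =
      ∑ k ∈ s, tfun R f (((j : ℕ) : R ⊗[ℤ] Ke) * w *
        ((1 : R) ⊗ₜ[ℤ] adams Pe j (y k))) := by
    intro s y
    have : adams Pe j (∑ k ∈ s, y k) = ∑ k ∈ s, adams Pe j (y k) :=
      map_sum (Groth.Agent.Lib.Helper3.LambdaAdams.adamsHom hsplit j) _ s
    rw [this, TensorProduct.tmul_sum, Finset.mul_sum, map_sum]
  change _ = tfun R f _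
  rw [hb, hsumf, hsumg]
  refine Finset.sum_congr rfl fun k hk => ?_
  exact key (b k) (r - k) (Nat.sub_le r k)

end Main

end Groth.Agent.Lib.Helper24.ARRMain
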