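import Groth.Prelude.Def_AlphaP
import Groth.Prelude.Def_CartDual2
import Mathlib

/-!
The dual Hopf algebra of `α_p` (helper24): the functional `y` dual to `x`, the convolution powers of
`y`, self-duality of `α_p`, and the `p`-th power maps of `α_p` and of its dual.
-/

set_option autoImplicit false
set_option linter.unusedSectionVars false
universe u

namespace Groth.Agent.Lib.Helper24.AlphaPDual

open AlphaP CartDual TensorProduct

variable (p : ℕ) [hp : Fact p.Prime] (R : Type u) [CommRing R] [CharP R p]

include hp in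
theorem nontrivial_base : Nontrivial R :=
  CharP.nontrivial_of_char_ne_one (R := R) hp.out.ne_one

/-- Every element is a combination of `1, x, …, x^(p-1)`. -/
theorem exists_repr (a : A p R) : ∃ c : ℕ → R, a = ∑ n ∈ Finset.range p, c n • x p R ^ n := by
  have := nontrivial_base p R
  refine ⟨fun n => if h : n < p then (basis p R).repr a ⟨n, h⟩ else 0, ?_⟩
  rw [← Fin.sum_univ_eq_sum_range
    (fun n => (if h : n < p then (basis p R).repr a ⟨n, h⟩ else 0) • x p R ^ n) p]
  conv_lhs => rw [← (basis p R).sum_repr a]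
  apply Finset.sum_congr rfl
  intro i _
  rw [basis_apply, dif_pos i.2]

/-- The algebra map to the dual numbers sending `x` to `ε`. -/
noncomputable def toDualNumber : A p R →ₐ[R] DualNumber R :=
  lift p R DualNumber.eps
    (pow_eq_zero_of_le hp.out.two_le (by rw [sq]; exact DualNumber.eps_mul_eps))

omit [CharP R p] in
@[simp] theorem toDualNumber_x : toDualNumber p R (x p R) = DualNumber.eps := lift_x _ _

/-- The linear form dual to `x`. -/
noncomputable def y : D R (A p R) :=
  WithConv.toConv ((TrivSqZeroExt.sndHom R R).comp (toDualNumber p R).toLinearMap)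

omit [CharP R p] in
theorem y_apply (a : A p R) : y p R a = (toDualNumber p R a).snd := rfl

theorem fst_toDualNumber (a : A p R) :
    (toDualNumber p R a).fst = Coalgebra.counit (R := R) a := by
  have h : (TrivSqZeroExt.fstHom R R R).comp (toDualNumber p R) =
      Bialgebra.counitAlgHom R (A p R) := by
    apply AlphaP.algHom_ext
    rw [AlgHom.comp_apply, toDualNumber_x, Bialgebra.counitAlgHom_apply, counit_x]
    exact DualNumber.fst_eps
  exact AlgHom.congr_fun h a

/-- `y` is an `ε`-derivation. -/
theorem y_mul (a b : A p R) :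
    y p R (a * b) = Coalgebra.counit (R := R) a * y p R b + y p R a * Coalgebra.counit (R := R) b := by
  rw [y_apply, map_mul, TrivSqZeroExt.snd_mul, fst_toDualNumber, fst_toDualNumber, y_apply, y_apply]
  simp only [smul_eq_mul, MulOpposite.smul_eq_mul_unop, MulOpposite.unop_op]

theorem y_one : y p R 1 = 0 := by
  rw [y_apply, map_one, TrivSqZeroExt.snd_one]

theorem y_x_pow (n : ℕ) : y p R (x p R ^ n) = if n = 1 then 1 else 0 := by
  rw [y_apply, map_pow, toDualNumber_x]
  rcases n with _ | _ | n
  · simp
  · simp [DualNumber.snd_eps]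
  · have h0 : (DualNumber.eps : DualNumber R) ^ (n + 1 + 1) = 0 :=
      pow_eq_zero_of_le (by omega : 2 ≤ n + 1 + 1) (by rw [sq]; exact DualNumber.eps_mul_eps)
    rw [h0]
    simp

theorem counit_x_pow (n : ℕ) :
    Coalgebra.counit (R := R) (x p R ^ n) = if n = 0 then 1 else 0 := by
  have h : Coalgebra.counit (R := R) (x p R ^ n) = Bialgebra.counitAlgHom R (A p R) (x p R ^ n) :=
    rfl
  rw [h, map_pow, Bialgebra.counitAlgHom_apply, counit_x, zero_pow_eq]

theorem comul_x_pow (n : ℕ) : Coalgebra.comul (R := R) (x p R ^ n) =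
    ∑ k ∈ Finset.range (n + 1), n.choose k • ((x p R ^ k) ⊗ₜ[R] (x p R ^ (n - k))) := by
  have h : Coalgebra.comul (R := R) (x p R ^ n) = Bialgebra.comulAlgHom R (A p R) (x p R ^ n) :=
    rfl
  rw [h, map_pow, Bialgebra.comulAlgHom_apply, comul_x, add_pow]
  apply Finset.sum_congr rfl
  intro k _
  rw [Algebra.TensorProduct.tmul_pow, Algebra.TensorProduct.tmul_pow, one_pow, one_pow,
    Algebra.TensorProduct.tmul_mul_tmul, mul_one, one_mul, nsmul_eq_mul']

/-- The convolution product evaluated on a power of `x`. -/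
theorem conv_apply_x_pow (ξ η : D R (A p R)) (n : ℕ) : (ξ * η) (x p R ^ n) =
    ∑ k ∈ Finset.range (n + 1), n.choose k • (ξ (x p R ^ k) * η (x p R ^ (n - k))) := by
  rw [LinearMap.convMul_apply, comul_x_pow, map_sum, map_sum]
  apply Finset.sum_congr rfl
  intro k _
  rw [map_nsmul, map_nsmul, TensorProduct.map_tmul, LinearMap.mul'_apply]

theorem one_apply_x_pow (n : ℕ) :
    (1 : D R (A p R)) (x p R ^ n) = if n = 0 then 1 else 0 := by
  rw [LinearMap.convOne_apply, counit_x_pow]
  rfl

/-- The convolution powers of `y` are the divided-power dual basis up to factorials. -/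
theorem y_pow_apply (i n : ℕ) :
    (y p R ^ i) (x p R ^ n) = if n = i then (i.factorial : R) else 0 := by
  induction i generalizing n with
  | zero =>
    rw [pow_zero, one_apply_x_pow]
    simp
  | succ i ih =>
    rw [pow_succ, conv_apply_x_pow]
    by_cases hni : n = i + 1
    · subst hni
      rw [if_pos rfl, Finset.sum_eq_single i]
      · rw [ih, if_pos rfl, y_x_pow, if_pos (by omega), mul_one, Nat.choose_succ_self_right,
          nsmul_eq_mul, Nat.factorial_succ]
        push_cast
        ring
      · intro k _ hk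
        rw [ih, if_neg hk, zero_mul, smul_zero]
      · intro h
        exact absurd (Finset.mem_range.mpr (by omega)) h
    · rw [if_neg hni]
      apply Finset.sum_eq_zero
      intro k hk
      rw [Finset.mem_range] at hk
      by_cases hki : k = i
      · rw [ih, y_x_pow, if_neg (by omega : ¬ n - k = 1), mul_zero, smul_zero]
      · rw [ih, if_neg hki, zero_mul, smul_zero]

/-- Linear forms on `α_p` agreeing on `1, x, …, x^(p-1)` are equal. -/
theorem dual_ext {ξ η : D R (A p R)} (h : ∀ n < p, ξ (x p R ^ n) = η (x p R ^ n)) : ξ = η := by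
  apply WithConv.ext
  apply LinearMap.ext
  intro a
  obtain ⟨c, rfl⟩ := exists_repr p R a
  rw [map_sum, map_sum]
  apply Finset.sum_congr rfl
  intro n hn
  rw [map_smul, map_smul]
  congr 1
  exact h n (Finset.mem_range.mp hn)

theorem y_pow_p : y p R ^ p = 0 := by
  apply dual_ext
  intro n hn
  rw [y_pow_apply, if_neg (by omega)]
  rfl

theorem y_pow_apply_sum (c : ℕ → R) (n : ℕ) (hn : n < p) :
    (y p R ^ n) (∑ m ∈ Finset.range p, c m • x p R ^ m) = c n * (n.factorial : R) := by
  rw [coe_apply, map_sum]
  rw [Finset.sum_eq_single n]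
  · rw [map_smul, ← coe_apply, y_pow_apply, if_pos rfl, smul_eq_mul]
  · intro m _ hm
    rw [map_smul, ← coe_apply, y_pow_apply, if_neg hm, smul_zero]
  · intro h
    exact absurd (Finset.mem_range.mpr hn) h

theorem isUnit_factorial (n : ℕ) (hn : n < p) : IsUnit (n.factorial : R) := by
  rw [CharP.isUnit_natCast_iff hp.out, hp.out.dvd_factorial]
  omega

/-- An element of `α_p` killed by all `y^n`, `n < p`, is zero. -/
theorem eq_zero_of_forall_y_pow (a : A p R) (h : ∀ n < p, (y p R ^ n) a = 0) : a = 0 := by
  obtain ⟨c, rfl⟩ := exists_repr p R a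
  apply Finset.sum_eq_zero
  intro n hn
  rw [Finset.mem_range] at hn
  have h1 := h n hn
  rw [y_pow_apply_sum p R c n hn] at h1
  have h2 : c n = 0 := (isUnit_factorial p R n hn).mul_left_eq_zero.mp h1
  rw [h2, zero_smul]

/-! ### Self-duality -/

theorem sum_apply {ι : Type*} (s : Finset ι) (f : ι → D R (A p R)) (a : A p R) :
    (∑ i ∈ s, f i) a = ∑ i ∈ s, f i a := by
  have h := map_sum (evalLin R (A p R) a).ofConv f s
  exact h

theorem smul_apply (c : R) (ξ : D R (A p R)) (a : A p R) : (c • ξ) a = c * ξ a := rfl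

/-- `y` is primitive in the dual Hopf algebra. -/
theorem comul_y : Coalgebra.comul (R := R) (y p R) = y p R ⊗ₜ[R] 1 + 1 ⊗ₜ[R] y p R := by
  apply (ev₂ R (A p R)).injective
  apply TensorProduct.ext'
  intro a b
  rw [ev₂_coalgebra_comul_tmul, map_add, LinearMap.add_apply, ev₂_tmul, ev₂_tmul, y_mul,
    LinearMap.convOne_apply, LinearMap.convOne_apply]
  simp only [Algebra.algebraMap_self, RingHom.id_apply]
  ring

theorem counit_y : Coalgebra.counit (R := R) (y p R) = 0 := by
  rw [coalgebra_counit_apply, y_one]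

/-- The algebra map `α_p → D(α_p)` sending `x` to `y`. -/
noncomputable def toDualAlgHom : A p R →ₐ[R] D R (A p R) :=
  lift p R (y p R) (y_pow_p p R)

@[simp] theorem toDualAlgHom_x : toDualAlgHom p R (x p R) = y p R := lift_x _ _

theorem toDualAlgHom_apply_sum (c : ℕ → R) (n : ℕ) (hn : n < p) :
    toDualAlgHom p R (∑ m ∈ Finset.range p, c m • x p R ^ m) (x p R ^ n) =
      c n * (n.factorial : R) := by
  rw [map_sum, sum_apply, Finset.sum_eq_single n]
  · rw [map_smul (toDualAlgHom p R), map_pow (toDualAlgHom p R), toDualAlgHom_x, smul_apply,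
      y_pow_apply, if_pos rfl]
  · intro m _ hm
    rw [map_smul (toDualAlgHom p R), map_pow (toDualAlgHom p R), toDualAlgHom_x, smul_apply,
      y_pow_apply, if_neg (Ne.symm hm), mul_zero]
  · intro h
    exact absurd (Finset.mem_range.mpr hn) h

theorem toDualAlgHom_injective : Function.Injective (toDualAlgHom p R) := by
  rw [injective_iff_map_eq_zero]
  intro a ha
  obtain ⟨c, rfl⟩ := exists_repr p R a
  apply Finset.sum_eq_zero
  intro n hn
  rw [Finset.mem_range] at hn
  have h1 := toDualAlgHom_apply_sum p R c n hn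
  rw [ha] at h1
  have h2 : c n = 0 := (isUnit_factorial p R n hn).mul_left_eq_zero.mp h1.symm
  rw [h2, zero_smul]

theorem toDualAlgHom_surjective : Function.Surjective (toDualAlgHom p R) := by
  intro ξ
  refine ⟨∑ m ∈ Finset.range p, (Ring.inverse (m.factorial : R) * ξ (x p R ^ m)) • x p R ^ m, ?_⟩
  apply dual_ext
  intro n hn
  rw [toDualAlgHom_apply_sum p R _ n hn, mul_comm, ← mul_assoc,
    Ring.mul_inverse_cancel _ (isUnit_factorial p R n hn), one_mul]

/-- The bialgebra map `α_p → D(α_p)` sending `x` to `y`. -/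
noncomputable def toDualBialgHom : A p R →ₐc[R] D R (A p R) :=
  BialgHom.ofAlgHom (toDualAlgHom p R)
    (by
      apply AlphaP.algHom_ext
      rw [AlgHom.comp_apply, toDualAlgHom_x, Bialgebra.counitAlgHom_apply,
        Bialgebra.counitAlgHom_apply, counit_y, counit_x])
    (by
      apply AlphaP.algHom_ext
      rw [AlgHom.comp_apply, AlgHom.comp_apply, toDualAlgHom_x, Bialgebra.comulAlgHom_apply,
        Bialgebra.comulAlgHom_apply, comul_y, comul_x, map_add, Algebra.TensorProduct.map_tmul,
        Algebra.TensorProduct.map_tmul, toDualAlgHom_x, map_one])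

@[simp] theorem toDualBialgHom_x : toDualBialgHom p R (x p R) = y p R := toDualAlgHom_x p R

/-- Self-duality of `α_p`. -/
noncomputable def selfDual : A p R ≃ₐc[R] D R (A p R) :=
  BialgEquiv.ofBijective (toDualBialgHom p R)
    ⟨toDualAlgHom_injective p R, toDualAlgHom_surjective p R⟩

@[simp] theorem selfDual_x : selfDual p R (x p R) = y p R := toDualAlgHom_x p R

/-! ### `p`-th powers -/

/-- In `α_p` the `p`-th power of an element is the `p`-th power of its counit. -/
theorem pow_p_eq (a : A p R) :
    a ^ p = algebraMap R (A p R) (Coalgebra.counit (R := R) a ^ p) := by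
  obtain ⟨c, rfl⟩ := exists_repr p R a
  rw [sum_pow_char, map_sum, sum_pow_char, map_sum]
  apply Finset.sum_congr rfl
  intro n _
  rw [map_smul, counit_x_pow, smul_pow, ← pow_mul, smul_eq_mul, mul_pow]
  by_cases hn : n = 0
  · subst hn
    simp [Algebra.smul_def]
  · rw [if_neg hn, zero_pow hp.out.ne_zero, mul_zero, map_zero, mul_comm n p, pow_mul, x_pow,
      zero_pow hn, smul_zero]

/-- In the dual of `α_p` the `p`-th power of a form is the `p`-th power of its value at `1`. -/
theorem dual_pow_p_eq (ξ : D R (A p R)) :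
    ξ ^ p = algebraMap R (D R (A p R)) (ξ 1 ^ p) := by
  obtain ⟨a, rfl⟩ : ∃ a, selfDual p R a = ξ :=
    ⟨(selfDual p R).symm ξ, (selfDual p R).apply_symm_apply ξ⟩
  have h1 : (selfDual p R a) ^ p = selfDual p R (a ^ p) := (map_pow (selfDual p R) a p).symm
  have h2 : (selfDual p R a) 1 = Coalgebra.counit (R := R) a := by
    rw [← coalgebra_counit_apply]
    exact CoalgHomClass.counit_comp_apply (selfDual p R) a
  rw [h1, pow_p_eq, h2]
  exact AlgHomClass.commutes (selfDual p R) _

end Groth.Agent.Lib.Helper24.AlphaPDual
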