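import Mathlib
import Groth.Prelude.Def_W4c5normfunctorschNorm

/-!
# Symmetric tensors preserve the alternating relations (helper24)

For `P` finitely generated projective over `R`, every tensor of `T^d(P)` invariant under a
transposition lies in `altSpan` (the span of pure tensors with two equal factors). Since the
factorwise action of `T^d(A)` on `T^d(P)` is equivariant for permutations, a symmetric tensor
maps `altSpan` into itself.
-/

set_option autoImplicit false

namespace Groth.Agent.Lib.Helper24.AltSpan

open scoped TensorProduct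
open PiTensorProduct

universe u

variable {R : Type u} [CommRing R] {P : Type u} [AddCommGroup P] [Module R P] {d : ℕ}

section act

variable {A : Type u} [CommRing A] [Algebra R A] [Module A P] [IsScalarTower R A P]

lemma tpowAct_tprod_tprod (a : Fin d → A) (p : Fin d → P) :
    SymTen.tpowAct R A P d (tprod R a) (tprod R p) = tprod R (fun i => a i • p i) := by
  unfold SymTen.tpowAct
  rw [PiTensorProduct.lift.tprod, MultilinearMap.compLinearMap_apply,
    PiTensorProduct.mapMultilinear_apply, PiTensorProduct.map_tprod]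
  rfl

lemma reindex_tpowAct (σ : Equiv.Perm (Fin d)) (a : ⨂[R] _ : Fin d, A) (x : ⨂[R] _ : Fin d, P) :
    reindex R (fun _ : Fin d => P) σ (SymTen.tpowAct R A P d a x) =
      SymTen.tpowAct R A P d (reindex R (fun _ : Fin d => A) σ a)
        (reindex R (fun _ : Fin d => P) σ x) := by
  induction a using PiTensorProduct.induction_on with
  | smul_tprod r a =>
    induction x using PiTensorProduct.induction_on with
    | smul_tprod s p =>
      simp only [map_smul, LinearMap.smul_apply, reindex_tprod, tpowAct_tprod_tprod]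
    | add x y hx hy => simp only [map_add, hx, hy]
  | add a b ha hb => simp only [map_add, LinearMap.add_apply, ha, hb]

end act

lemma reindex_swap_tprod {i j : Fin d} (p : Fin d → P) (h : p i = p j) :
    reindex R (fun _ : Fin d => P) (Equiv.swap i j) (tprod R p) = tprod R p := by
  rw [reindex_tprod]
  congr 1
  funext k
  rw [Equiv.symm_swap]
  rcases eq_or_ne k i with rfl | hki
  · rw [Equiv.swap_apply_left]
    exact h.symm
  rcases eq_or_ne k j with rfl | hkj
  · rw [Equiv.swap_apply_right]
    exact h
  rw [Equiv.swap_apply_of_ne_of_ne hki hkj]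

lemma pair_mem (q : Fin d → P) {i j : Fin d} (hij : i ≠ j) :
    tprod R q + tprod R (fun k => q (Equiv.swap i j k)) ∈ SymTen.altSpan R P d := by
  classical
  obtain ⟨g, hg⟩ : ∃ g : P → P → ⨂[R] _ : Fin d, P,
    g = fun s t => tprod R (Function.update (Function.update q i s) j t) := ⟨_, rfl⟩
  have hdiag : ∀ s, g s s ∈ SymTen.altSpan R P d := fun s => by
    rw [hg]
    exact Submodule.subset_span ⟨_, i, j, hij, by
      rw [Function.update_of_ne hij, Function.update_self, Function.update_self], rfl⟩
  have hadd' : ∀ s t t', g s (t + t') = g s t + g s t' := fun s t t' => by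
    rw [hg]
    exact (PiTensorProduct.tprod R (s := fun _ : Fin d => P)).map_update_add _ j t t'
  have hadd : ∀ s s' t, g (s + s') t = g s t + g s' t := fun s s' t => by
    rw [hg]
    simp only [Function.update_comm hij]
    exact (PiTensorProduct.tprod R (s := fun _ : Fin d => P)).map_update_add _ i s s'
  have e1 : g (q i) (q j) = tprod R q := by
    rw [hg]
    simp only [Function.update_eq_self]
  have e2 : g (q j) (q i) = tprod R (fun k => q (Equiv.swap i j k)) := by
    rw [hg]
    beta_reduce
    congr 1
    funext k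
    rcases eq_or_ne k j with rfl | hkj
    · rw [Function.update_self, Equiv.swap_apply_right]
    rcases eq_or_ne k i with rfl | hki
    · rw [Function.update_of_ne hkj, Function.update_self, Equiv.swap_apply_left]
    rw [Function.update_of_ne hkj, Function.update_of_ne hki,
      Equiv.swap_apply_of_ne_of_ne hki hkj]
  have e : g (q i + q j) (q i + q j) =
      g (q i) (q i) + g (q i) (q j) + g (q j) (q i) + g (q j) (q j) := by
    rw [hadd, hadd', hadd']
    abel
  have e3 : tprod R q + tprod R (fun k => q (Equiv.swap i j k)) =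
      g (q i + q j) (q i + q j) - g (q i) (q i) - g (q j) (q j) := by
    rw [e, e1, e2]
    abel
  rw [e3]
  exact sub_mem (sub_mem (hdiag _) (hdiag _)) (hdiag _)

lemma one_add_swap_mem {i j : Fin d} (hij : i ≠ j) (z : ⨂[R] _ : Fin d, P) :
    z + reindex R (fun _ : Fin d => P) (Equiv.swap i j) z ∈ SymTen.altSpan R P d := by
  induction z using PiTensorProduct.induction_on with
  | smul_tprod r q =>
    rw [map_smul, ← smul_add, reindex_tprod, Equiv.symm_swap]
    exact Submodule.smul_mem _ _ (pair_mem q hij)
  | add x y hx hy =>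
    rw [map_add]
    have : x + y + (reindex R (fun _ : Fin d => P) (Equiv.swap i j) x +
        reindex R (fun _ : Fin d => P) (Equiv.swap i j) y) =
        (x + reindex R (fun _ : Fin d => P) (Equiv.swap i j) x) +
        (y + reindex R (fun _ : Fin d => P) (Equiv.swap i j) y) := by abel
    rw [this]
    exact add_mem hx hy

lemma map_altSpan {P' : Type u} [AddCommGroup P'] [Module R P'] (f : P →ₗ[R] P')
    {x : ⨂[R] _ : Fin d, P} (hx : x ∈ SymTen.altSpan R P d) :
    PiTensorProduct.map (fun _ : Fin d => f) x ∈ SymTen.altSpan R P' d := by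
  unfold SymTen.altSpan at hx
  induction hx using Submodule.span_induction with
  | mem x hx =>
    obtain ⟨p, i, j, hij, hp, rfl⟩ := hx
    rw [map_tprod]
    refine Submodule.subset_span ⟨_, i, j, hij, ?_, rfl⟩
    show f (p i) = f (p j)
    rw [hp]
  | zero =>
    rw [map_zero]
    exact zero_mem _
  | add x y _ _ hx hy =>
    rw [map_add]
    exact add_mem hx hy
  | smul r x _ hx =>
    rw [map_smul]
    exact Submodule.smul_mem _ _ hx

/-- free case: a tensor invariant under a transposition is in `altSpan`. -/
lemma inv_mem_of_basis {I : Type*} [LinearOrder I] (e : Module.Basis I R P) {i j : Fin d}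
    (hij : i ≠ j) (y : ⨂[R] _ : Fin d, P)
    (hy : reindex R (fun _ : Fin d => P) (Equiv.swap i j) y = y) :
    y ∈ SymTen.altSpan R P d := by
  classical
  obtain ⟨bT, hbT⟩ : ∃ bT : Module.Basis (Fin d → I) R (⨂[R] _ : Fin d, P),
      ∀ q, bT q = tprod R (fun k => e (q k)) :=
    ⟨Basis.piTensorProduct (fun _ => e), fun q => Basis.piTensorProduct_apply _ q⟩
  have hτ : ∀ q, reindex R (fun _ : Fin d => P) (Equiv.swap i j) (bT q) =
      bT (fun k => q (Equiv.swap i j k)) := by
    intro q
    rw [hbT, reindex_tprod, Equiv.symm_swap, hbT]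
  obtain ⟨E, hE⟩ : ∃ E : (⨂[R] _ : Fin d, P) →ₗ[R] (⨂[R] _ : Fin d, P),
      ∀ q, E (bT q) = if q i = q j then bT q else 0 :=
    ⟨bT.constr R _, fun q => bT.constr_basis R _ q⟩
  obtain ⟨L, hL⟩ : ∃ L : (⨂[R] _ : Fin d, P) →ₗ[R] (⨂[R] _ : Fin d, P),
      ∀ q, L (bT q) = if q i < q j then bT q else 0 :=
    ⟨bT.constr R _, fun q => bT.constr_basis R _ q⟩
  obtain ⟨U, hU⟩ : ∃ U : (⨂[R] _ : Fin d, P) →ₗ[R] (⨂[R] _ : Fin d, P),
      ∀ q, U (bT q) = if q j < q i then bT q else 0 :=
    ⟨bT.constr R _, fun q => bT.constr_basis R _ q⟩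
  have hsum : (LinearMap.id : (⨂[R] _ : Fin d, P) →ₗ[R] _) = E + L + U := by
    apply bT.ext
    intro q
    rw [LinearMap.id_apply, LinearMap.add_apply, LinearMap.add_apply, hE, hL, hU]
    rcases lt_trichotomy (q i) (q j) with h | h | h
    · rw [if_neg h.ne, if_pos h, if_neg h.not_gt, zero_add, add_zero]
    · rw [if_pos h, if_neg (h ▸ lt_irrefl _), if_neg (h ▸ lt_irrefl _), add_zero, add_zero]
    · rw [if_neg h.ne', if_neg h.not_gt, if_pos h, zero_add, zero_add]
  have hUτ : U ∘ₗ (reindex R (fun _ : Fin d => P) (Equiv.swap i j)).toLinearMap =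
      (reindex R (fun _ : Fin d => P) (Equiv.swap i j)).toLinearMap ∘ₗ L := by
    apply bT.ext
    intro q
    rw [LinearMap.comp_apply, LinearMap.comp_apply]
    show U (reindex R (fun _ : Fin d => P) (Equiv.swap i j) (bT q)) =
      reindex R (fun _ : Fin d => P) (Equiv.swap i j) (L (bT q))
    rw [hτ, hU, hL]
    simp only [Equiv.swap_apply_left, Equiv.swap_apply_right]
    split_ifs with h
    · rw [hτ]
    · rw [map_zero]
  have hEmem : ∀ z, E z ∈ SymTen.altSpan R P d := by
    intro z
    have h1 : E z ∈ Submodule.map E ⊤ := ⟨z, trivial, rfl⟩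
    rw [← bT.span_eq, Submodule.map_span] at h1
    refine Submodule.span_le.mpr ?_ h1
    rintro _ ⟨_, ⟨q, rfl⟩, rfl⟩
    rw [hE]
    split_ifs with h
    · refine Submodule.subset_span ⟨_, i, j, hij, ?_, hbT q⟩
      show e (q i) = e (q j)
      rw [h]
    · exact zero_mem _
  have h1 : y = E y + L y + U y := by
    conv_lhs => rw [← LinearMap.id_apply (R := R) y, hsum]
    rfl
  have h2 : U y = reindex R (fun _ : Fin d => P) (Equiv.swap i j) (L y) := by
    have := DFunLike.congr_fun hUτ y
    rw [LinearMap.comp_apply, LinearMap.comp_apply] at this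
    have this' : U (reindex R (fun _ : Fin d => P) (Equiv.swap i j) y) =
      reindex R (fun _ : Fin d => P) (Equiv.swap i j) (L y) := this
    rw [hy] at this'
    exact this'
  rw [h1, h2, add_assoc]
  exact add_mem (hEmem y) (one_add_swap_mem hij (L y))

/-- projective case. -/
theorem inv_mem [Module.Finite R P] [Module.Projective R P] {i j : Fin d} (hij : i ≠ j)
    (y : ⨂[R] _ : Fin d, P)
    (hy : reindex R (fun _ : Fin d => P) (Equiv.swap i j) y = y) :
    y ∈ SymTen.altSpan R P d := by
  obtain ⟨n, f, g, -, -, hfg⟩ := Module.Finite.exists_comp_eq_id_of_projective R P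
  obtain ⟨y', hy'⟩ : ∃ y', y' = PiTensorProduct.map (fun _ : Fin d => g) y := ⟨_, rfl⟩
  have h1 : reindex R (fun _ : Fin d => (Fin n → R)) (Equiv.swap i j) y' = y' := by
    have := PiTensorProduct.map_reindex (fun _ : Fin d => g) (Equiv.swap i j) y
    rw [hy] at this
    rw [hy']
    exact this.symm
  have h2 := inv_mem_of_basis (Pi.basisFun R (Fin n)) hij y' h1
  have h3 : y = PiTensorProduct.map (fun _ : Fin d => f) y' := by
    rw [hy', ← LinearMap.comp_apply, ← PiTensorProduct.map_comp, hfg, PiTensorProduct.map_id,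
      LinearMap.id_apply]
  rw [h3]
  exact map_altSpan f h2

/-- symmetric tensors preserve `altSpan`. -/
theorem tpowAct_mem {A : Type u} [CommRing A] [Algebra R A] [Module A P] [IsScalarTower R A P]
    [Module.Finite R P] [Module.Projective R P] (a : ⨂[R] _ : Fin d, A)
    (ha : a ∈ SymTen.TS R A d) (x : ⨂[R] _ : Fin d, P) (hx : x ∈ SymTen.altSpan R P d) :
    SymTen.tpowAct R A P d a x ∈ SymTen.altSpan R P d := by
  unfold SymTen.altSpan at hx
  induction hx using Submodule.span_induction with
  | mem x hx =>
    obtain ⟨p, i, j, hij, hp, rfl⟩ := hx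
    apply inv_mem hij
    rw [reindex_tpowAct, (SymTen.mem_TS_iff R A d a).mp ha, reindex_swap_tprod p hp]
  | zero =>
    rw [map_zero]
    exact zero_mem _
  | add x y _ _ hx hy =>
    rw [map_add]
    exact add_mem hx hy
  | smul r x _ hx =>
    rw [map_smul]
    exact Submodule.smul_mem _ _ hx

end Groth.Agent.Lib.Helper24.AltSpan
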