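import Mathlib
import Groth.Agent.Lib.Helper8.ModColim

/-!
# Directed presentations of modules by finitely presented modules

Element-level recognition of directed colimits in `ModuleCat`, directed unions, quotient
presentations, and the presentation of an arbitrary module as a directed colimit of finitely
presented modules.
-/

set_option maxHeartbeats 400000
set_option linter.style.haveILetI false
set_option linter.unusedSectionVars false
set_option autoImplicit false

universe u

open CategoryTheory CategoryTheory.Limits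

namespace Groth.Agent.Lib.Helper24.FpColim

variable {A : Type u} [CommRing A]

section Crit

variable {J : Type u} [Preorder J] {D : J ⥤ ModuleCat.{u} A}

/-- element-level description of a directed colimit of modules -/
structure IsDirColim (c : Cocone D) : Prop where
  surj : ∀ x : c.pt, ∃ (j : J) (y : D.obj j), c.ι.app j y = x
  inj : ∀ (j : J) (y : D.obj j), c.ι.app j y = 0 →
    ∃ (k : J) (h : j ≤ k), D.map (homOfLE h) y = 0

lemma w_apply (c : Cocone D) {j k : J} (f : j ⟶ k) (y : D.obj j) :
    c.ι.app k (D.map f y) = c.ι.app j y := by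
  rw [← ModuleCat.comp_apply, c.w]

variable [IsDirected J (· ≤ ·)] [Nonempty J]

lemma IsDirColim.eq_of_eq {c : Cocone D} (hc : IsDirColim c) (s : Cocone D)
    {j j' : J} (y : D.obj j) (y' : D.obj j') (h : c.ι.app j y = c.ι.app j' y') :
    s.ι.app j y = s.ι.app j' y' := by
  obtain ⟨k, hjk, hj'k⟩ := exists_ge_ge j j'
  have h0 : c.ι.app k (D.map (homOfLE hjk) y - D.map (homOfLE hj'k) y') = 0 := by
    rw [map_sub, w_apply, w_apply, h, sub_self]
  obtain ⟨l, hkl, hl⟩ := hc.inj k _ h0
  rw [map_sub, sub_eq_zero] at hl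
  calc s.ι.app j y = s.ι.app l (D.map (homOfLE hkl) (D.map (homOfLE hjk) y)) := by
        rw [w_apply, w_apply]
    _ = s.ι.app l (D.map (homOfLE hkl) (D.map (homOfLE hj'k) y')) := by rw [hl]
    _ = s.ι.app j' y' := by rw [w_apply, w_apply]

/-- the underlying function of the descent map -/
noncomputable def IsDirColim.descFun {c : Cocone D} (hc : IsDirColim c) (s : Cocone D)
    (x : c.pt) : s.pt :=
  s.ι.app (hc.surj x).choose ((hc.surj x).choose_spec.choose)

lemma IsDirColim.descFun_eq {c : Cocone D} (hc : IsDirColim c) (s : Cocone D) {j : J}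
    (y : D.obj j) : hc.descFun s (c.ι.app j y) = s.ι.app j y := by
  unfold IsDirColim.descFun
  exact hc.eq_of_eq s _ _ ((hc.surj (c.ι.app j y)).choose_spec.choose_spec)

/-- the descent map as a linear map -/
noncomputable def IsDirColim.descLin {c : Cocone D} (hc : IsDirColim c) (s : Cocone D) :
    c.pt →ₗ[A] s.pt where
  toFun := hc.descFun s
  map_add' x x' := by
    obtain ⟨j, y, hy⟩ := hc.surj x
    obtain ⟨j', y', hy'⟩ := hc.surj x'
    obtain ⟨k, hjk, hj'k⟩ := exists_ge_ge j j'
    have e1 : x + x' = c.ι.app k (D.map (homOfLE hjk) y + D.map (homOfLE hj'k) y') := by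
      rw [map_add, w_apply, w_apply, hy, hy']
    have e2 : hc.descFun s x = s.ι.app j y := by rw [← hy, hc.descFun_eq]
    have e3 : hc.descFun s x' = s.ι.app j' y' := by rw [← hy', hc.descFun_eq]
    rw [e1, hc.descFun_eq, e2, e3, map_add, w_apply, w_apply]
  map_smul' a x := by
    obtain ⟨j, y, hy⟩ := hc.surj x
    have e1 : a • x = c.ι.app j (a • y) := by rw [map_smul, hy]
    have e2 : hc.descFun s x = s.ι.app j y := by rw [← hy, hc.descFun_eq]
    rw [e1, hc.descFun_eq, e2, map_smul, RingHom.id_apply]

lemma IsDirColim.descLin_apply {c : Cocone D} (hc : IsDirColim c) (s : Cocone D) {j : J}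
    (y : D.obj j) : hc.descLin s (c.ι.app j y) = s.ι.app j y := hc.descFun_eq s y

/-- an element-level directed colimit is a colimit -/
noncomputable def IsDirColim.isColimit {c : Cocone D} (hc : IsDirColim c) : IsColimit c where
  desc s := ModuleCat.ofHom (hc.descLin s)
  fac s j := by
    apply ModuleCat.hom_ext
    apply LinearMap.ext
    intro y
    exact hc.descLin_apply s y
  uniq s m hm := by
    apply ModuleCat.hom_ext
    apply LinearMap.ext
    intro x
    obtain ⟨j, y, rfl⟩ := hc.surj x
    change m (c.ι.app j y) = hc.descLin s (c.ι.app j y)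
    rw [hc.descLin_apply, ← hm j, ModuleCat.comp_apply]

/-- extend a cocone along a map out of its point -/
def extendCocone (c : Cocone D) {M' : ModuleCat.{u} A} (f : c.pt ⟶ M') : Cocone D where
  pt := M'
  ι := { app := fun j => c.ι.app j ≫ f
         naturality := fun j j' g => by
          rw [← Category.assoc, c.w]
          simp }

lemma extendCocone_isDirColim {c : Cocone D} (hc : IsDirColim c) {M' : ModuleCat.{u} A}
    (e : c.pt ≅ M') : IsDirColim (extendCocone c e.hom) where
  surj x := by
    obtain ⟨j, y, hy⟩ := hc.surj (e.inv x)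
    refine ⟨j, y, ?_⟩
    change e.hom (c.ι.app j y) = x
    rw [hy, ← ModuleCat.comp_apply, e.inv_hom_id]
    rfl
  inj j y hy := by
    apply hc.inj j y
    have h1 : e.hom (c.ι.app j y) = 0 := hy
    have h2 : e.inv (e.hom (c.ι.app j y)) = 0 := by rw [h1, map_zero]
    rw [← ModuleCat.comp_apply, e.hom_inv_id] at h2
    exact h2

/-- maps from a finitely presented module to a directed colimit factor through a stage -/
lemma hom_factors {c : Cocone D} (hc : IsColimit c)
    (P : ModuleCat.{u} A) [Module.FinitePresentation A P] (g : P ⟶ c.pt) :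
    ∃ (j : J) (φ : P ⟶ D.obj j), φ ≫ c.ι.app j = g := by
  let e := (colimit.isColimit D).coconePointUniqueUpToIso hc
  obtain ⟨j, φ, hφ⟩ := Groth.Agent.Lib.Helper8.modColim_hom_factors D P (g ≫ e.inv)
  refine ⟨j, φ, ?_⟩
  have h1 : colimit.ι D j ≫ e.hom = c.ι.app j :=
    IsColimit.comp_coconePointUniqueUpToIso_hom (colimit.isColimit D) hc j
  rw [← h1, ← Category.assoc, hφ, Category.assoc, e.inv_hom_id, Category.comp_id]

end Crit

section Union

variable {K : Type u} [Preorder K]
  (N : ModuleCat.{u} A) (G : K → Submodule A N) (hG : Monotone G)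

/-- a monotone family of submodules as a functor -/
def unionFunctor : K ⥤ ModuleCat.{u} A where
  obj k := ModuleCat.of A (G k)
  map {k k'} f := ModuleCat.ofHom (Submodule.inclusion (hG (leOfHom f)))
  map_id k := by
    apply ModuleCat.hom_ext
    exact LinearMap.ext fun x => rfl
  map_comp f g := by
    apply ModuleCat.hom_ext
    exact LinearMap.ext fun x => rfl

/-- the cocone of inclusions -/
def unionCocone : Cocone (unionFunctor N G hG) where
  pt := N
  ι := { app := fun k => ModuleCat.ofHom (G k).subtype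
         naturality := fun k k' f => by
          apply ModuleCat.hom_ext
          exact LinearMap.ext fun x => rfl }

lemma unionCocone_isDirColim (hex : ∀ x : N, ∃ k, x ∈ G k) :
    IsDirColim (unionCocone N G hG) where
  surj x := by
    obtain ⟨k, hk⟩ := hex x
    exact ⟨k, (⟨x, hk⟩ : G k), rfl⟩
  inj j y hy := by
    refine ⟨j, le_rfl, ?_⟩
    have hy' : (G j).subtype y = 0 := hy
    have h2 : (y : G j) = (0 : G j) := Subtype.ext hy'
    have h3 : y = (0 : (unionFunctor N G hG).obj j) := h2
    rw [h3, map_zero]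

end Union

section Quot

variable {K : Type u} [Preorder K] {E : K ⥤ ModuleCat.{u} A} (cN : Cocone E)
  (Q : Submodule A cN.pt)

/-- index set for the quotient presentation -/
structure RIdx : Type u where
  k : K
  L : Submodule A (E.obj k)
  fg : L.FG
  le : L.map (cN.ι.app k).hom ≤ Q

instance : Preorder (RIdx cN Q) where
  le p q := p.k ≤ q.k ∧ ∀ h : p.k ≤ q.k, p.L ≤ q.L.comap (E.map (homOfLE h)).hom
  le_refl p := ⟨le_rfl, fun h x hx => by
    change (E.map (homOfLE h)).hom x ∈ p.L
    have e : homOfLE h = 𝟙 p.k := Subsingleton.elim _ _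
    rw [e, E.map_id]
    exact hx⟩
  le_trans p q r h1 h2 := ⟨h1.1.trans h2.1, fun h x hx => by
    change (E.map (homOfLE h)).hom x ∈ r.L
    have e : homOfLE h = homOfLE h1.1 ≫ homOfLE h2.1 := Subsingleton.elim _ _
    rw [e, E.map_comp]
    exact h2.2 h2.1 (h1.2 h1.1 hx)⟩

lemma RIdx.le_def (p q : RIdx cN Q) :
    p ≤ q ↔ p.k ≤ q.k ∧ ∀ h : p.k ≤ q.k, p.L ≤ q.L.comap (E.map (homOfLE h)).hom := Iff.rfl

instance [IsDirected K (· ≤ ·)] : IsDirected (RIdx cN Q) (· ≤ ·) where
  directed p q := by
    obtain ⟨k, hpk, hqk⟩ := exists_ge_ge p.k q.k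
    have h1 : (cN.ι.app k).hom ∘ₗ (E.map (homOfLE hpk)).hom = (cN.ι.app p.k).hom := by
      rw [← ModuleCat.hom_comp, cN.w]
    have h2 : (cN.ι.app k).hom ∘ₗ (E.map (homOfLE hqk)).hom = (cN.ι.app q.k).hom := by
      rw [← ModuleCat.hom_comp, cN.w]
    refine ⟨⟨k, p.L.map (E.map (homOfLE hpk)).hom ⊔ q.L.map (E.map (homOfLE hqk)).hom,
      (p.fg.map _).sup (q.fg.map _), ?_⟩, ⟨hpk, fun h => ?_⟩, ⟨hqk, fun h => ?_⟩⟩
    · rw [Submodule.map_sup, ← Submodule.map_comp, ← Submodule.map_comp, h1, h2]
      exact sup_le p.le q.le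
    · exact Submodule.map_le_iff_le_comap.1 le_sup_left
    · exact Submodule.map_le_iff_le_comap.1 le_sup_right

instance [Nonempty K] : Nonempty (RIdx cN Q) :=
  ⟨⟨Classical.arbitrary K, ⊥, Submodule.fg_bot, by rw [Submodule.map_bot]; exact bot_le⟩⟩

/-- the diagram of quotients -/
noncomputable def quotFunctor : RIdx cN Q ⥤ ModuleCat.{u} A where
  obj p := ModuleCat.of A (E.obj p.k ⧸ p.L)
  map {p q} f := ModuleCat.ofHom
    (Submodule.mapQ p.L q.L (E.map (homOfLE (leOfHom f).1)).hom ((leOfHom f).2 _))
  map_id p := by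
    apply ModuleCat.hom_ext
    apply Submodule.linearMap_qext
    apply LinearMap.ext
    intro x
    change Submodule.Quotient.mk ((E.map (homOfLE (leOfHom (𝟙 p)).1)).hom x) =
      Submodule.Quotient.mk x
    have e : homOfLE (leOfHom (𝟙 p)).1 = 𝟙 p.k := Subsingleton.elim _ _
    rw [e, E.map_id]
    rfl
  map_comp {p q r} f g := by
    apply ModuleCat.hom_ext
    apply Submodule.linearMap_qext
    apply LinearMap.ext
    intro x
    change Submodule.Quotient.mk ((E.map (homOfLE (leOfHom (f ≫ g)).1)).hom x) =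
      Submodule.Quotient.mk ((E.map (homOfLE (leOfHom g).1)).hom
        ((E.map (homOfLE (leOfHom f).1)).hom x))
    have e : homOfLE (leOfHom (f ≫ g)).1 = homOfLE (leOfHom f).1 ≫ homOfLE (leOfHom g).1 :=
      Subsingleton.elim _ _
    rw [e, E.map_comp]
    rfl

lemma quotFunctor_map_mk {p q : RIdx cN Q} (f : p ⟶ q) (x : E.obj p.k) :
    (quotFunctor cN Q).map f (Submodule.Quotient.mk x : E.obj p.k ⧸ p.L) =
      (Submodule.Quotient.mk ((E.map (homOfLE (leOfHom f).1)) x) : E.obj q.k ⧸ q.L) := rfl

/-- the cocone of quotients over the quotient of the colimit -/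
noncomputable def quotCocone : Cocone (quotFunctor cN Q) where
  pt := ModuleCat.of A (cN.pt ⧸ Q)
  ι := { app := fun p => ModuleCat.ofHom
          (Submodule.mapQ p.L Q (cN.ι.app p.k).hom (Submodule.map_le_iff_le_comap.1 p.le))
         naturality := fun p q f => by
          apply ModuleCat.hom_ext
          apply Submodule.linearMap_qext
          apply LinearMap.ext
          intro x
          change Submodule.Quotient.mk ((cN.ι.app q.k).hom
            ((E.map (homOfLE (leOfHom f).1)).hom x)) = Submodule.Quotient.mk ((cN.ι.app p.k).hom x)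
          congr 1
          exact w_apply cN _ x }

lemma quotCocone_ι_mk (p : RIdx cN Q) (x : E.obj p.k) :
    (quotCocone cN Q).ι.app p (Submodule.Quotient.mk x : E.obj p.k ⧸ p.L) =
      (Submodule.Quotient.mk (cN.ι.app p.k x) : cN.pt ⧸ Q) := rfl

lemma quotCocone_isDirColim
    (hs : ∀ x : cN.pt, ∃ (k : K) (y : E.obj k), cN.ι.app k y = x) :
    IsDirColim (quotCocone cN Q) where
  surj z := by
    obtain ⟨x, rfl⟩ := Submodule.Quotient.mk_surjective Q z
    obtain ⟨k, y, rfl⟩ := hs x
    exact ⟨⟨k, ⊥, Submodule.fg_bot, by rw [Submodule.map_bot]; exact bot_le⟩,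
      (Submodule.Quotient.mk y : E.obj k ⧸ (⊥ : Submodule A (E.obj k))), rfl⟩
  inj p z hz := by
    obtain ⟨y, rfl⟩ := Submodule.Quotient.mk_surjective p.L z
    have hy : (cN.ι.app p.k).hom y ∈ Q := by
      have h1 : (Submodule.Quotient.mk ((cN.ι.app p.k).hom y) : cN.pt ⧸ Q) = 0 := hz
      exact (Submodule.Quotient.mk_eq_zero Q).1 h1
    refine ⟨⟨p.k, p.L ⊔ Submodule.span A {y}, p.fg.sup (Submodule.fg_span_singleton y), ?_⟩,
      ⟨le_rfl, fun h x hx => ?_⟩, ?_⟩
    · rw [Submodule.map_sup, Submodule.map_span, Set.image_singleton]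
      exact sup_le p.le ((Submodule.span_singleton_le_iff_mem _ _).2 hy)
    · change (E.map (homOfLE h)).hom x ∈ p.L ⊔ Submodule.span A {y}
      have e : homOfLE h = 𝟙 p.k := Subsingleton.elim _ _
      rw [e, E.map_id]
      exact Submodule.mem_sup_left hx
    · rw [quotFunctor_map_mk]
      apply (Submodule.Quotient.mk_eq_zero _).2
      have e : ∀ h : p.k ≤ p.k, homOfLE h = 𝟙 p.k := fun h => Subsingleton.elim _ _
      rw [e, E.map_id]
      exact Submodule.mem_sup_right (Submodule.mem_span_singleton_self y)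

lemma quotFunctor_fp (hfp : ∀ k, Module.FinitePresentation A (E.obj k)) (p : RIdx cN Q) :
    Module.FinitePresentation A ((quotFunctor cN Q).obj p) := by
  haveI := hfp p.k
  change Module.FinitePresentation A (E.obj p.k ⧸ p.L)
  exact Module.finitePresentation_of_surjective p.L.mkQ (Submodule.mkQ_surjective _)
    (by rw [Submodule.ker_mkQ]; exact p.fg)

end Quot

section Pres

/-- every module is a directed colimit of finitely presented modules -/
theorem exists_fpPres (M : ModuleCat.{u} A) :
    ∃ (J : Type u) (_ : Preorder J) (_ : IsDirected J (· ≤ ·)) (_ : Nonempty J)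
      (D : J ⥤ ModuleCat.{u} A) (c : Cocone D), c.pt = M ∧ IsDirColim c ∧
      ∀ j, Module.FinitePresentation A (D.obj j) := by
  classical
  let N : ModuleCat.{u} A := ModuleCat.of A (M →₀ A)
  let G : Finset M → Submodule A N := fun S => Finsupp.supported A A (S : Set M)
  have hG : Monotone G := fun S T h => Finsupp.supported_mono (by exact_mod_cast h)
  have hex : ∀ x : N, ∃ S, x ∈ G S := fun x =>
    ⟨(x : M →₀ A).support, (Finsupp.mem_supported _ _).2 (le_refl _)⟩
  have hU : IsDirColim (unionCocone N G hG) := unionCocone_isDirColim N G hG hex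
  let π : (M →₀ A) →ₗ[A] M := Finsupp.linearCombination A id
  have hπ : Function.Surjective π := Finsupp.linearCombination_id_surjective A M
  let Q : Submodule A (unionCocone N G hG).pt := LinearMap.ker π
  have hR : IsDirColim (quotCocone (unionCocone N G hG) Q) :=
    quotCocone_isDirColim (unionCocone N G hG) Q hU.surj
  let e : ((unionCocone N G hG).pt ⧸ Q) ≃ₗ[A] M := π.quotKerEquivOfSurjective hπ
  refine ⟨RIdx (unionCocone N G hG) Q, inferInstance, inferInstance, inferInstance,
    quotFunctor (unionCocone N G hG) Q,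
    extendCocone (quotCocone (unionCocone N G hG) Q) (e.toModuleIso).hom, rfl,
    extendCocone_isDirColim hR e.toModuleIso, ?_⟩
  intro p
  refine quotFunctor_fp (unionCocone N G hG) Q (fun S => ?_) p
  haveI : Finite ((S : Set M)) := S.finite_toSet.to_subtype
  exact Module.FinitePresentation.of_equiv
    (Finsupp.supportedEquivFinsupp (M := A) (R := A) (S : Set M)).symm

end Pres

end Groth.Agent.Lib.Helper24.FpColim
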