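import Mathlib
import Groth.Agent.Lib.Helper24.FpColimA

/-!
# Presenting a morphism of modules as a directed colimit of morphisms of finitely presented modules
-/

set_option maxHeartbeats 400000
set_option linter.style.haveILetI false
set_option linter.unusedSectionVars false
set_option autoImplicit false

universe u

open CategoryTheory CategoryTheory.Limits

namespace Groth.Agent.Lib.Helper24.FpColim

variable {A : Type u} [CommRing A]

section Basic

variable {J : Type u} [Preorder J] (D : J ⥤ ModuleCat.{u} A)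

/-- transition map along an inequality -/
def mapLE {j k : J} (h : j ≤ k) : D.obj j ⟶ D.obj k := D.map (homOfLE h)

lemma mapLE_refl (j : J) (h : j ≤ j) : mapLE D h = 𝟙 (D.obj j) := by
  have e : homOfLE h = 𝟙 j := Subsingleton.elim _ _
  unfold mapLE
  rw [e, D.map_id]

lemma mapLE_trans {j k l : J} (h₁ : j ≤ k) (h₂ : k ≤ l) :
    mapLE D h₁ ≫ mapLE D h₂ = mapLE D (h₁.trans h₂) := by
  unfold mapLE
  rw [← D.map_comp]
  rfl

lemma mapLE_trans_assoc {j k l : J} (h₁ : j ≤ k) (h₂ : k ≤ l) {X : ModuleCat.{u} A}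
    (g : D.obj l ⟶ X) :
    mapLE D h₁ ≫ mapLE D h₂ ≫ g = mapLE D (h₁.trans h₂) ≫ g := by
  rw [← Category.assoc, mapLE_trans]

variable {D}

/-- leg of a cocone with a clean codomain -/
def leg (c : Cocone D) (j : J) : D.obj j ⟶ c.pt := c.ι.app j

lemma mapLE_leg (c : Cocone D) {j k : J} (h : j ≤ k) : mapLE D h ≫ leg c k = leg c j :=
  c.w (homOfLE h)

lemma mapLE_leg_assoc (c : Cocone D) {j k : J} (h : j ≤ k) {X : ModuleCat.{u} A}
    (g : c.pt ⟶ X) : mapLE D h ≫ leg c k ≫ g = leg c j ≫ g := by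
  rw [← Category.assoc, mapLE_leg]

variable [IsDirected J (· ≤ ·)] [Nonempty J]

/-- maps from a finitely presented module factor through a stage (clean form) -/
lemma hom_factors' {c : Cocone D} (hc : IsColimit c)
    (P : ModuleCat.{u} A) [Module.FinitePresentation A P] (g : P ⟶ c.pt) :
    ∃ (j : J) (φ : P ⟶ D.obj j), φ ≫ leg c j = g := hom_factors hc P g

/-- two maps from a finite module which agree in the colimit agree at a later stage -/
lemma hom_eq_at_stage {c : Cocone D} (hc : IsColimit c)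
    (P : ModuleCat.{u} A) [Module.Finite A P] {j : J} (φ ψ : P ⟶ D.obj j)
    (h : φ ≫ leg c j = ψ ≫ leg c j) :
    ∃ (k : J) (hjk : j ≤ k), φ ≫ mapLE D hjk = ψ ≫ mapLE D hjk := by
  let e := (colimit.isColimit D).coconePointUniqueUpToIso hc
  have h1 : colimit.ι D j ≫ e.hom = leg c j :=
    IsColimit.comp_coconePointUniqueUpToIso_hom (colimit.isColimit D) hc j
  have h2 : φ ≫ colimit.ι D j = ψ ≫ colimit.ι D j := by
    rw [← cancel_mono e.hom, Category.assoc, Category.assoc, h1, h]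
  obtain ⟨l, g, hg⟩ := Groth.Agent.Lib.Helper8.modColim_hom_eq_at_stage D P φ ψ h2
  exact ⟨l, leOfHom g, hg⟩

end Basic

section Arrow

variable {JM JN : Type u} [Preorder JM] [Preorder JN]
  {DM : JM ⥤ ModuleCat.{u} A} {DN : JN ⥤ ModuleCat.{u} A}
  (cM : Cocone DM) (cN : Cocone DN) (f : cM.pt ⟶ cN.pt)

/-- index set of the arrow presentation -/
structure AIdx : Type u where
  j : JM
  k : JN
  φ : DM.obj j ⟶ DN.obj k
  comm : φ ≫ leg cN k = leg cM j ≫ f

instance : Preorder (AIdx cM cN f) where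
  le a b := a.j ≤ b.j ∧ a.k ≤ b.k ∧
    ∀ (h : a.j ≤ b.j) (h' : a.k ≤ b.k), a.φ ≫ mapLE DN h' = mapLE DM h ≫ b.φ
  le_refl a := ⟨le_rfl, le_rfl, fun h h' => by
    rw [mapLE_refl, mapLE_refl, Category.comp_id, Category.id_comp]⟩
  le_trans a b c h1 h2 := ⟨h1.1.trans h2.1, h1.2.1.trans h2.2.1, fun h h' => by
    rw [← mapLE_trans DN h1.2.1 h2.2.1, ← Category.assoc, h1.2.2 h1.1 h1.2.1, Category.assoc,
      h2.2.2 h2.1 h2.2.1, ← Category.assoc, mapLE_trans]⟩

variable {cM cN f}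

lemma AIdx.le_iff (a b : AIdx cM cN f) : a ≤ b ↔ a.j ≤ b.j ∧ a.k ≤ b.k ∧
    ∀ (h : a.j ≤ b.j) (h' : a.k ≤ b.k), a.φ ≫ mapLE DN h' = mapLE DM h ≫ b.φ := Iff.rfl

lemma AIdx.j_mono : Monotone (AIdx.j : AIdx cM cN f → JM) := fun _ _ h => h.1

lemma AIdx.k_mono : Monotone (AIdx.k : AIdx cM cN f → JN) := fun _ _ h => h.2.1

variable (cM cN f)

/-- the diagram of sources -/
def srcF : AIdx cM cN f ⥤ ModuleCat.{u} A := (AIdx.j_mono (cM := cM) (cN := cN) (f := f)).functor ⋙ DM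

/-- the diagram of targets -/
def tgtF : AIdx cM cN f ⥤ ModuleCat.{u} A := (AIdx.k_mono (cM := cM) (cN := cN) (f := f)).functor ⋙ DN

lemma srcF_map {a b : AIdx cM cN f} (g : a ⟶ b) :
    (srcF cM cN f).map g = mapLE DM (leOfHom g).1 := rfl

lemma tgtF_map {a b : AIdx cM cN f} (g : a ⟶ b) :
    (tgtF cM cN f).map g = mapLE DN (leOfHom g).2.1 := rfl

/-- the natural transformation of stage maps -/
def arrowNat : srcF cM cN f ⟶ tgtF cM cN f where
  app a := a.φ
  naturality a b g := by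
    rw [srcF_map, tgtF_map]
    exact ((leOfHom g).2.2 _ _).symm

/-- the source cocone -/
def srcCocone : Cocone (srcF cM cN f) := cM.whisker _

/-- the target cocone -/
def tgtCocone : Cocone (tgtF cM cN f) := cN.whisker _

lemma srcCocone_ι_app (a : AIdx cM cN f) (y : DM.obj a.j) :
    (srcCocone cM cN f).ι.app a y = leg cM a.j y := rfl

lemma tgtCocone_ι_app (a : AIdx cM cN f) (y : DN.obj a.k) :
    (tgtCocone cM cN f).ι.app a y = leg cN a.k y := rfl

variable [IsDirected JM (· ≤ ·)] [Nonempty JM] [IsDirected JN (· ≤ ·)] [Nonempty JN]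

section WithHyps

variable (hcN : IsColimit cN) (hfp : ∀ j, Module.FinitePresentation A (DM.obj j))
include hcN hfp

lemma exists_idx (j : JM) : ∃ (k : JN) (φ : DM.obj j ⟶ DN.obj k),
    φ ≫ leg cN k = leg cM j ≫ f := by
  haveI := hfp j
  exact hom_factors' hcN (DM.obj j) (leg cM j ≫ f)

lemma exists_equalize {j j' : JM} (h : j ≤ j') {k k₀ k₁ : JN}
    (φ : DM.obj j ⟶ DN.obj k) (comm : φ ≫ leg cN k = leg cM j ≫ f)
    (φ₀ : DM.obj j' ⟶ DN.obj k₀) (comm₀ : φ₀ ≫ leg cN k₀ = leg cM j' ≫ f)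
    (h1 : k ≤ k₁) (h0 : k₀ ≤ k₁) :
    ∃ (k₂ : JN) (h2 : k₁ ≤ k₂),
      φ ≫ mapLE DN (h1.trans h2) = mapLE DM h ≫ φ₀ ≫ mapLE DN (h0.trans h2) := by
  haveI := hfp j
  have e : (φ ≫ mapLE DN h1) ≫ leg cN k₁ = (mapLE DM h ≫ φ₀ ≫ mapLE DN h0) ≫ leg cN k₁ := by
    rw [Category.assoc, mapLE_leg, comm, Category.assoc, Category.assoc, mapLE_leg, comm₀,
      mapLE_leg_assoc]
  obtain ⟨k₂, h2, hk⟩ := hom_eq_at_stage hcN (DM.obj j) _ _ e
  refine ⟨k₂, h2, ?_⟩
  rw [Category.assoc, mapLE_trans, Category.assoc, Category.assoc, mapLE_trans] at hk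
  exact hk

lemma AIdx.isDirected_of : IsDirected (AIdx cM cN f) (· ≤ ·) where
  directed a b := by
    obtain ⟨j', ha, hb⟩ := exists_ge_ge a.j b.j
    obtain ⟨k₀, φ₀, comm₀⟩ := exists_idx cM cN f hcN hfp j'
    obtain ⟨k₁', h1a', h0'⟩ := exists_ge_ge a.k k₀
    obtain ⟨k₁, h11, h1b⟩ := exists_ge_ge k₁' b.k
    obtain ⟨k₂, h2, hk2⟩ := exists_equalize cM cN f hcN hfp ha a.φ a.comm φ₀ comm₀
      (h1a'.trans h11) (h0'.trans h11)
    obtain ⟨k₃, h3, hk3⟩ := exists_equalize cM cN f hcN hfp hb b.φ b.comm φ₀ comm₀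
      (h1b.trans h2) ((h0'.trans h11).trans h2)
    refine ⟨⟨j', k₃, φ₀ ≫ mapLE DN (((h0'.trans h11).trans h2).trans h3), ?_⟩,
      ⟨ha, ((h1a'.trans h11).trans h2).trans h3, fun _ _ => ?_⟩,
      ⟨hb, (h1b.trans h2).trans h3, fun _ _ => hk3⟩⟩
    · rw [Category.assoc, mapLE_leg, comm₀]
    · have := congrArg (fun g => g ≫ mapLE DN h3) hk2
      simp only [Category.assoc, mapLE_trans] at this
      exact this

lemma AIdx.nonempty_of : Nonempty (AIdx cM cN f) := by
  obtain ⟨k, φ, comm⟩ := exists_idx cM cN f hcN hfp (Classical.arbitrary JM)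
  exact ⟨⟨_, k, φ, comm⟩⟩

lemma srcCocone_isDirColim (hM : IsDirColim cM) : IsDirColim (srcCocone cM cN f) where
  surj x := by
    obtain ⟨j, y, hy⟩ := hM.surj x
    obtain ⟨k, φ, comm⟩ := exists_idx cM cN f hcN hfp j
    exact ⟨⟨j, k, φ, comm⟩, y, hy⟩
  inj a y hy := by
    obtain ⟨j', h, hy'⟩ := hM.inj a.j y hy
    obtain ⟨k₀, φ₀, comm₀⟩ := exists_idx cM cN f hcN hfp j'
    obtain ⟨k₁, h1, h0⟩ := exists_ge_ge a.k k₀
    obtain ⟨k₂, h2, hk⟩ := exists_equalize cM cN f hcN hfp h a.φ a.comm φ₀ comm₀ h1 h0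
    refine ⟨⟨j', k₂, φ₀ ≫ mapLE DN (h0.trans h2), ?_⟩, ⟨h, h1.trans h2, fun _ _ => hk⟩, ?_⟩
    · rw [Category.assoc, mapLE_leg, comm₀]
    · exact hy'

lemma tgtCocone_isDirColim (hN : IsDirColim cN) : IsDirColim (tgtCocone cM cN f) where
  surj x := by
    obtain ⟨k, y, hy⟩ := hN.surj x
    obtain ⟨a₀⟩ := AIdx.nonempty_of cM cN f hcN hfp
    obtain ⟨k', h1, h2⟩ := exists_ge_ge a₀.k k
    refine ⟨⟨a₀.j, k', a₀.φ ≫ mapLE DN h1, ?_⟩, mapLE DN h2 y, ?_⟩
    · rw [Category.assoc, mapLE_leg, a₀.comm]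
    · change (leg cN k').hom ((mapLE DN h2).hom y) = x
      rw [← hy]
      exact congrArg (fun g => g.hom y) (mapLE_leg cN h2)
  inj a y hy := by
    obtain ⟨k', h, hy'⟩ := hN.inj a.k y hy
    refine ⟨⟨a.j, k', a.φ ≫ mapLE DN h, ?_⟩, ⟨le_rfl, h, fun h₁ h₂ => ?_⟩, ?_⟩
    · rw [Category.assoc, mapLE_leg, a.comm]
    · rw [mapLE_refl, Category.id_comp]
    · exact hy'

end WithHyps

/-! ### The kernel diagram -/

/-- the kernel of a stage map -/
def kerObj (a : AIdx cM cN f) : ModuleCat.{u} A := ModuleCat.of A (LinearMap.ker a.φ.hom)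

lemma kerMap_aux {a b : AIdx cM cN f} (h : a ≤ b) (x : DM.obj a.j)
    (hx : x ∈ LinearMap.ker a.φ.hom) : (mapLE DM h.1).hom x ∈ LinearMap.ker b.φ.hom := by
  rw [LinearMap.mem_ker] at hx ⊢
  have e := congrArg (fun g => g.hom x) (h.2.2 h.1 h.2.1)
  change (mapLE DN h.2.1).hom (a.φ.hom x) = b.φ.hom ((mapLE DM h.1).hom x) at e
  rw [← e, hx, map_zero]

/-- transition maps between kernels -/
def kerMap {a b : AIdx cM cN f} (h : a ≤ b) : kerObj cM cN f a ⟶ kerObj cM cN f b :=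
  ModuleCat.ofHom (LinearMap.restrict (mapLE DM h.1).hom (kerMap_aux cM cN f h))

lemma kerMap_apply_coe {a b : AIdx cM cN f} (h : a ≤ b) (x : LinearMap.ker a.φ.hom) :
    ((kerMap cM cN f h).hom x).1 = (mapLE DM h.1).hom x.1 := rfl

/-- the diagram of kernels -/
def kerF : AIdx cM cN f ⥤ ModuleCat.{u} A where
  obj := kerObj cM cN f
  map g := kerMap cM cN f (leOfHom g)
  map_id a := by
    apply ModuleCat.hom_ext; apply LinearMap.ext; intro x
    apply Subtype.ext
    change (mapLE DM (leOfHom (𝟙 a)).1).hom x.1 = x.1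
    rw [mapLE_refl]
    rfl
  map_comp {a b c} g g' := by
    apply ModuleCat.hom_ext; apply LinearMap.ext; intro x
    apply Subtype.ext
    change (mapLE DM (leOfHom (g ≫ g')).1).hom x.1 =
      (mapLE DM (leOfHom g').1).hom ((mapLE DM (leOfHom g).1).hom x.1)
    rw [← mapLE_trans DM (leOfHom g).1 (leOfHom g').1]
    rfl

/-- inclusion of the kernels -/
def kerIncl : kerF cM cN f ⟶ srcF cM cN f where
  app a := ModuleCat.ofHom (LinearMap.ker a.φ.hom).subtype
  naturality a b g := by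
    apply ModuleCat.hom_ext; apply LinearMap.ext; intro x
    rfl

lemma kerCocone_aux (a : AIdx cM cN f) (x : DM.obj a.j) (hx : x ∈ LinearMap.ker a.φ.hom) :
    (leg cM a.j).hom x ∈ LinearMap.ker f.hom := by
  rw [LinearMap.mem_ker] at hx ⊢
  have e := congrArg (fun g => g.hom x) a.comm
  change (leg cN a.k).hom (a.φ.hom x) = f.hom ((leg cM a.j).hom x) at e
  rw [← e, hx, map_zero]

/-- the cocone of kernels over the kernel -/
def kerCocone : Cocone (kerF cM cN f) where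
  pt := ModuleCat.of A (LinearMap.ker f.hom)
  ι := { app := fun a => ModuleCat.ofHom
          (LinearMap.restrict (leg cM a.j).hom (kerCocone_aux cM cN f a))
         naturality := fun a b g => by
          apply ModuleCat.hom_ext; apply LinearMap.ext; intro x
          apply Subtype.ext
          change (leg cM b.j).hom ((mapLE DM (leOfHom g).1).hom x.1) =
            (leg cM a.j).hom x.1
          rw [← mapLE_leg cM (leOfHom g).1]
          rfl }

lemma kerCocone_ι_coe (a : AIdx cM cN f) (x : LinearMap.ker a.φ.hom) :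
    (((kerCocone cM cN f).ι.app a).hom x).1 = (leg cM a.j).hom x.1 := rfl

lemma kerCocone_isDirColim (hM' : IsDirColim (srcCocone cM cN f))
    (hN' : IsDirColim (tgtCocone cM cN f)) : IsDirColim (kerCocone cM cN f) where
  surj x := by
    obtain ⟨a, y, hy⟩ := hM'.surj (x : LinearMap.ker f.hom).1
    have hy' : (leg cM a.j).hom y = (x : LinearMap.ker f.hom).1 := hy
    have h0 : (tgtCocone cM cN f).ι.app a (a.φ.hom y) = 0 := by
      have e := congrArg (fun g => g.hom y) a.comm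
      change (leg cN a.k).hom (a.φ.hom y) = f.hom ((leg cM a.j).hom y) at e
      change (leg cN a.k).hom (a.φ.hom y) = 0
      rw [e, hy']
      exact (x : LinearMap.ker f.hom).2
    obtain ⟨b, hab, hb⟩ := hN'.inj a _ h0
    have hb' : (mapLE DN hab.2.1).hom (a.φ.hom y) = 0 := hb
    have hmem : (mapLE DM hab.1).hom y ∈ LinearMap.ker b.φ.hom := by
      rw [LinearMap.mem_ker]
      have e := congrArg (fun g => g.hom y) (hab.2.2 hab.1 hab.2.1)
      change (mapLE DN hab.2.1).hom (a.φ.hom y) = b.φ.hom ((mapLE DM hab.1).hom y) at e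
      rw [← e, hb']
    refine ⟨b, (⟨(mapLE DM hab.1).hom y, hmem⟩ : LinearMap.ker b.φ.hom), ?_⟩
    apply Subtype.ext
    change (leg cM b.j).hom ((mapLE DM hab.1).hom y) = (x : LinearMap.ker f.hom).1
    rw [← hy', ← mapLE_leg cM hab.1]
    rfl
  inj a y hy := by
    have h1 : (srcCocone cM cN f).ι.app a (y : LinearMap.ker a.φ.hom).1 = 0 := by
      have := congrArg Subtype.val hy
      exact this
    obtain ⟨b, hab, hb⟩ := hM'.inj a _ h1
    refine ⟨b, hab, ?_⟩
    apply Subtype.ext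
    exact hb

end Arrow

end Groth.Agent.Lib.Helper24.FpColim
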