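import Mathlib
import Groth.Prelude.Def_FlatCA
import Groth.Prelude.Def_Flat
import Groth.Agent.Lib.Helper12.UnramBC

/-!
# Standard shrinking of a one-step dévissage: fibre spectra, supports and dimensions
-/

set_option autoImplicit false
set_option maxHeartbeats 400000
set_option linter.style.haveILetI false
set_option linter.unusedSectionVars false
set_option linter.unusedVariables false

universe u

namespace Groth.Agent.Lib.Helper24.Shrink

open TensorProduct TopologicalSpace Topology

attribute [local instance] Algebra.TensorProduct.rightAlgebra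

/-- The local dimension is invariant under open embeddings. -/
theorem localDim_eq_of_isOpenEmbedding {Y X : Type*} [TopologicalSpace Y] [TopologicalSpace X]
    (f : Y → X) (hf : Topology.IsOpenEmbedding f) (y : Y) :
    FlatMor.localDim Y y = FlatMor.localDim X (f y) := by
  unfold FlatMor.localDim
  apply le_antisymm
  · refine le_iInf fun W => ?_
    let V : {V : Opens Y // y ∈ V} := ⟨⟨f ⁻¹' W.1, W.1.2.preimage hf.continuous⟩, W.2⟩
    refine (iInf_le (fun V : {V : Opens Y // y ∈ V} => topologicalKrullDim (V.1 : Set Y)) V).trans ?_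
    exact (Set.restrictPreimage_isInducing (W.1 : Set X) hf.isInducing).topologicalKrullDim_le
  · refine le_iInf fun V => ?_
    let W : {W : Opens X // f y ∈ W} :=
      ⟨⟨f '' V.1, hf.isOpenMap _ V.1.2⟩, ⟨y, V.2, rfl⟩⟩
    refine (iInf_le (fun W : {W : Opens X // f y ∈ W} => topologicalKrullDim (W.1 : Set X)) W).trans ?_
    exact (IsHomeomorph.topologicalKrullDim_eq _
      (hf.isEmbedding.homeomorphImage (V.1 : Set Y)).isHomeomorph).ge

theorem localDim_le_top {X : Type*} [TopologicalSpace X] (x : X) :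
    FlatMor.localDim X x ≤ topologicalKrullDim X :=
  iInf_le_of_le ⟨⊤, trivial⟩ (topologicalKrullDim_subspace_le X _)

/-- The dimension of the support of a finite module is the topological dimension of the
support. -/
theorem supportDim_eq_top {A : Type u} [CommRing A] {M : Type u} [AddCommGroup M] [Module A M]
    [Module.Finite A M] :
    Module.supportDim A M = topologicalKrullDim (Module.support A M) := by
  rw [Module.supportDim_eq_ringKrullDim_quotient_annihilator,
    ← PrimeSpectrum.topologicalKrullDim_eq_ringKrullDim]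
  have hsurj : Function.Surjective (Ideal.Quotient.mk (Module.annihilator A M)) :=
    Ideal.Quotient.mk_surjective
  have hemb := PrimeSpectrum.isClosedEmbedding_comap_of_surjective
    (A ⧸ Module.annihilator A M) (Ideal.Quotient.mk (Module.annihilator A M)) hsurj
  have hrange : Set.range (PrimeSpectrum.comap (Ideal.Quotient.mk (Module.annihilator A M))) =
      Module.support A M := by
    rw [range_comap_of_surjective _ _ hsurj, Ideal.mk_ker, Module.support_eq_zeroLocus]
  have h1 := IsHomeomorph.topologicalKrullDim_eq _ hemb.isEmbedding.toHomeomorph.isHomeomorph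
  rw [h1]
  exact congrArg (fun s : Set (PrimeSpectrum A) => topologicalKrullDim ↥s) hrange

section Fib

variable {R S : Type u} [CommRing R] [CommRing S] [Algebra R S] (p : Ideal R) [hp : p.IsPrime]

/-- contraction of a prime of the fibre ring to `S`. -/
noncomputable def cS (x : PrimeSpectrum (p.Fiber S)) : PrimeSpectrum S :=
  PrimeSpectrum.comap
    (Algebra.TensorProduct.includeRight (R := R) (A := p.ResidueField) (B := S)).toRingHom x

theorem cS_eq (x : PrimeSpectrum (p.Fiber S)) :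
    cS p x = ((PrimeSpectrum.preimageHomeomorphFiber R S ⟨p, hp⟩).symm x).1 := rfl

theorem cS_isEmbedding : IsEmbedding (cS (S := S) p) :=
  IsEmbedding.subtypeVal.comp (PrimeSpectrum.preimageHomeomorphFiber R S ⟨p, hp⟩).symm.isEmbedding

theorem cS_comap (x : PrimeSpectrum (p.Fiber S)) :
    (cS p x).asIdeal.comap (algebraMap R S) = p := by
  have h := ((PrimeSpectrum.preimageHomeomorphFiber R S ⟨p, hp⟩).symm x).2
  have h2 : PrimeSpectrum.comap (algebraMap R S) (cS p x) = ⟨p, hp⟩ := h
  exact congrArg PrimeSpectrum.asIdeal h2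

theorem exists_cS_eq (Q : PrimeSpectrum S) (h : Q.asIdeal.comap (algebraMap R S) = p) :
    ∃ x : PrimeSpectrum (p.Fiber S), cS p x = Q := by
  have hQ : Q ∈ PrimeSpectrum.comap (algebraMap R S) ⁻¹' {(⟨p, hp⟩ : PrimeSpectrum R)} := by
    show PrimeSpectrum.comap (algebraMap R S) Q = ⟨p, hp⟩
    exact PrimeSpectrum.ext h
  refine ⟨PrimeSpectrum.preimageHomeomorphFiber R S ⟨p, hp⟩ ⟨Q, hQ⟩, ?_⟩
  rw [cS_eq, Homeomorph.symm_apply_apply]

theorem asIdeal_eq_map (x : PrimeSpectrum (p.Fiber S)) :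
    x.asIdeal = FlatCA.fiberIdeal p (cS p x).asIdeal := by
  unfold FlatCA.fiberIdeal
  apply le_antisymm
  · intro a ha
    obtain ⟨r, hr, s, e⟩ := Ideal.Fiber.exists_smul_eq_one_tmul p a
    have hs : s ∈ (cS p x).asIdeal := by
      show (1 : p.ResidueField) ⊗ₜ[R] s ∈ x.asIdeal
      rw [← e]
      exact Submodule.smul_of_tower_mem _ r ha
    have hu : IsUnit (algebraMap R (p.Fiber S) r) := by
      rw [IsScalarTower.algebraMap_apply R p.ResidueField (p.Fiber S) r]
      refine IsUnit.map _ (IsUnit.mk0 _ ?_)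
      rwa [Ne, Ideal.algebraMap_residueField_eq_zero]
    have h1 : (1 : p.ResidueField) ⊗ₜ[R] s ∈ Ideal.map
        (Algebra.TensorProduct.includeRight (R := R) (A := p.ResidueField) (B := S)).toRingHom
        (cS p x).asIdeal := Ideal.mem_map_of_mem _ hs
    have h2 : a = ↑(hu.unit⁻¹) * (r • a) := by
      rw [Algebra.smul_def, ← mul_assoc, IsUnit.val_inv_mul, one_mul]
    rw [h2, e]
    exact Ideal.mul_mem_left _ _ h1
  · rw [Ideal.map_le_iff_le_comap]
    exact le_rfl

end Fib

section FibLoc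

variable {R S R' S' : Type u} [CommRing R] [CommRing S] [CommRing R'] [CommRing S']
  [Algebra R S] [Algebra R R'] [Algebra S S'] [Algebra R' S'] [Algebra R S']
  [IsScalarTower R R' S'] [IsScalarTower R S S']
  (p : Ideal R) [hp : p.IsPrime] (p' : Ideal R') [hp' : p'.IsPrime]

theorem comap_comm (Q' : Ideal S') :
    (Q'.comap (algebraMap S S')).comap (algebraMap R S) =
      (Q'.comap (algebraMap R' S')).comap (algebraMap R R') := by
  rw [Ideal.comap_comap, Ideal.comap_comap, ← IsScalarTower.algebraMap_eq,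
    ← IsScalarTower.algebraMap_eq]

theorem mem_fib (hp'p : p'.comap (algebraMap R R') = p) (x' : PrimeSpectrum (p'.Fiber S')) :
    PrimeSpectrum.comap (algebraMap S S') (cS p' x') ∈
      PrimeSpectrum.comap (algebraMap R S) ⁻¹' {(⟨p, hp⟩ : PrimeSpectrum R)} := by
  show PrimeSpectrum.comap (algebraMap R S) (PrimeSpectrum.comap (algebraMap S S') (cS p' x')) =
    ⟨p, hp⟩
  apply PrimeSpectrum.ext
  show ((cS p' x').asIdeal.comap (algebraMap S S')).comap (algebraMap R S) = p
  rw [comap_comm (R := R) (S := S) (R' := R') (S' := S'), cS_comap, hp'p]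

/-- the map on fibre spectra -/
noncomputable def psi0 (hp'p : p'.comap (algebraMap R R') = p)
    (x' : PrimeSpectrum (p'.Fiber S')) : PrimeSpectrum (p.Fiber S) :=
  PrimeSpectrum.preimageHomeomorphFiber R S ⟨p, hp⟩
    ⟨PrimeSpectrum.comap (algebraMap S S') (cS p' x'), mem_fib p p' hp'p x'⟩

theorem cS_psi0 (hp'p : p'.comap (algebraMap R R') = p) (x' : PrimeSpectrum (p'.Fiber S')) :
    cS p (psi0 p p' hp'p x') = PrimeSpectrum.comap (algebraMap S S') (cS p' x') := by
  rw [cS_eq]
  unfold psi0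
  rw [Homeomorph.symm_apply_apply]

theorem psi0_isEmbedding (hp'p : p'.comap (algebraMap R R') = p)
    (hj : IsOpenEmbedding (PrimeSpectrum.comap (algebraMap S S'))) :
    IsEmbedding (psi0 (S := S) (S' := S') p p' hp'p) := by
  have h1 : IsEmbedding (fun x' : PrimeSpectrum (p'.Fiber S') =>
      PrimeSpectrum.comap (algebraMap S S') (cS p' x')) :=
    hj.isEmbedding.comp (cS_isEmbedding p')
  have h2 := h1.codRestrict
    (PrimeSpectrum.comap (algebraMap R S) ⁻¹' {(⟨p, hp⟩ : PrimeSpectrum R)})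
    (mem_fib p p' hp'p)
  exact (PrimeSpectrum.preimageHomeomorphFiber R S ⟨p, hp⟩).isEmbedding.comp h2

theorem range_psi0 (hp'p : p'.comap (algebraMap R R') = p)
    (huniq : ∀ P : Ideal R', P.IsPrime → P.comap (algebraMap R R') = p → P = p') :
    Set.range (psi0 (S := S) (S' := S') p p' hp'p) =
      cS p ⁻¹' Set.range (PrimeSpectrum.comap (algebraMap S S')) := by
  ext x
  constructor
  · rintro ⟨x', rfl⟩
    exact ⟨cS p' x', (cS_psi0 p p' hp'p x').symm⟩
  · rintro ⟨Q', hQ'⟩
    have h1 : (Q'.asIdeal.comap (algebraMap R' S')).comap (algebraMap R R') = p := by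
      rw [← comap_comm (R := R) (S := S) (R' := R') (S' := S')]
      have h0 := cS_comap p x
      rw [← hQ'] at h0
      exact h0
    have h2 : Q'.asIdeal.comap (algebraMap R' S') = p' :=
      huniq _ inferInstance h1
    obtain ⟨x', hx'⟩ := exists_cS_eq p' Q' h2
    refine ⟨x', ?_⟩
    apply (cS_isEmbedding p).injective
    rw [cS_psi0, hx', hQ']

theorem psi0_isOpenEmbedding (hp'p : p'.comap (algebraMap R R') = p)
    (huniq : ∀ P : Ideal R', P.IsPrime → P.comap (algebraMap R R') = p → P = p')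
    (hj : IsOpenEmbedding (PrimeSpectrum.comap (algebraMap S S'))) :
    IsOpenEmbedding (psi0 (S := S) (S' := S') p p' hp'p) :=
  ⟨psi0_isEmbedding p p' hp'p hj, by
    rw [range_psi0 p p' hp'p huniq]
    exact hj.isOpen_range.preimage (cS_isEmbedding p).continuous⟩

variable {N N' : Type u} [AddCommGroup N] [Module S N] [Module.Finite S N]
  [AddCommGroup N'] [Module S' N'] [Module S N'] [IsScalarTower S S' N'] [Module.Finite S' N']

theorem mem_support_fib_iff (N : Type u) [AddCommGroup N] [Module S N] [Module.Finite S N]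
    (x : PrimeSpectrum (p.Fiber S)) :
    x ∈ Module.support (p.Fiber S) ((p.Fiber S) ⊗[S] N) ↔ cS p x ∈ Module.support S N :=
  Groth.Agent.Lib.Helper12.UnramBC.mem_support_baseChange_iff N x

theorem mem_support_loc_iff (f : N →ₗ[S] N') (hf : IsBaseChange S' f) (Q' : PrimeSpectrum S') :
    Q' ∈ Module.support S' N' ↔
      PrimeSpectrum.comap (algebraMap S S') Q' ∈ Module.support S N := by
  rw [← Groth.Agent.Lib.Helper12.UnramBC.mem_support_baseChange_iff N Q', hf.equiv.support_eq]

theorem mem_support_psi0_iff (hp'p : p'.comap (algebraMap R R') = p)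
    (f : N →ₗ[S] N') (hf : IsBaseChange S' f) (x' : PrimeSpectrum (p'.Fiber S')) :
    x' ∈ Module.support (p'.Fiber S') ((p'.Fiber S') ⊗[S'] N') ↔
      psi0 p p' hp'p x' ∈ Module.support (p.Fiber S) ((p.Fiber S) ⊗[S] N) := by
  rw [mem_support_fib_iff, mem_support_fib_iff, cS_psi0, mem_support_loc_iff f hf]

/-- transfer of the dimension of the fibre support and the local dimension along a localization. -/
theorem dim_transfer (hp'p : p'.comap (algebraMap R R') = p)
    (huniq : ∀ P : Ideal R', P.IsPrime → P.comap (algebraMap R R') = p → P = p')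
    (hj : IsOpenEmbedding (PrimeSpectrum.comap (algebraMap S S')))
    (f : N →ₗ[S] N') (hf : IsBaseChange S' f) (n : ℕ)
    (hdim : Module.supportDim (p.Fiber S) ((p.Fiber S) ⊗[S] N) = n)
    (Q : Ideal S) [hQ : Q.IsPrime] (Q' : Ideal S') [hQ' : Q'.IsPrime]
    (hQ'Q : Q'.comap (algebraMap S S') = Q) (hQ'p' : Q'.comap (algebraMap R' S') = p')
    (h1 : ∃ (ξ : PrimeSpectrum (p.Fiber S))
      (hξ : ξ ∈ Module.support (p.Fiber S) ((p.Fiber S) ⊗[S] N)),
      ξ.asIdeal = FlatCA.fiberIdeal p Q ∧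
      FlatMor.localDim (Module.support (p.Fiber S) ((p.Fiber S) ⊗[S] N)) ⟨ξ, hξ⟩ = n) :
    Module.supportDim (p'.Fiber S') ((p'.Fiber S') ⊗[S'] N') = n ∧
    ∃ (ξ' : PrimeSpectrum (p'.Fiber S'))
      (hξ' : ξ' ∈ Module.support (p'.Fiber S') ((p'.Fiber S') ⊗[S'] N')),
      ξ'.asIdeal = FlatCA.fiberIdeal p' Q' ∧
      FlatMor.localDim (Module.support (p'.Fiber S') ((p'.Fiber S') ⊗[S'] N')) ⟨ξ', hξ'⟩ = n := by
  obtain ⟨ξ, hξ, hξQ, hloc⟩ := h1
  obtain ⟨ξ', hξ'⟩ := exists_cS_eq p' ⟨Q', hQ'⟩ hQ'p'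
  have hξ'Q : ξ'.asIdeal = FlatCA.fiberIdeal p' Q' := by
    rw [asIdeal_eq_map p' ξ', hξ']
  have hQp : Q.comap (algebraMap R S) = p := by
    rw [← hQ'Q, comap_comm (R := R) (S := S) (R' := R') (S' := S'), hQ'p', hp'p]
  obtain ⟨ξ₀, hξ₀⟩ := exists_cS_eq p ⟨Q, hQ⟩ hQp
  have hξ₀ξ : ξ₀ = ξ := by
    apply PrimeSpectrum.ext
    rw [asIdeal_eq_map p ξ₀, hξ₀, hξQ]
  have hpsi : psi0 p p' hp'p ξ' = ξ := by
    apply (cS_isEmbedding p).injective
    rw [cS_psi0, hξ', ← hξ₀ξ, hξ₀]
    exact PrimeSpectrum.ext hQ'Q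
  have hiff := mem_support_psi0_iff (N := N) (N' := N') p p' hp'p f hf
  have hmemξ' : ξ' ∈ Module.support (p'.Fiber S') ((p'.Fiber S') ⊗[S'] N') :=
    (hiff ξ').mpr (hpsi ▸ hξ)
  have hoe := psi0_isOpenEmbedding (S := S) (S' := S') p p' hp'p huniq hj
  let ψ : Module.support (p'.Fiber S') ((p'.Fiber S') ⊗[S'] N') →
      Module.support (p.Fiber S) ((p.Fiber S) ⊗[S] N) :=
    fun t => ⟨psi0 p p' hp'p t.1, (hiff t.1).mp t.2⟩
  have hψc : Continuous ψ :=
    (hoe.continuous.comp continuous_subtype_val).subtype_mk _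
  have hψe : IsEmbedding ψ :=
    IsEmbedding.of_comp hψc continuous_subtype_val (hoe.isEmbedding.comp IsEmbedding.subtypeVal)
  have hrange : Set.range ψ = Subtype.val ⁻¹' Set.range (psi0 (S := S) (S' := S') p p' hp'p) := by
    ext t
    constructor
    · rintro ⟨t', rfl⟩
      exact ⟨t'.1, rfl⟩
    · rintro ⟨x', hx'⟩
      exact ⟨⟨x', (hiff x').mpr (hx' ▸ t.2)⟩, Subtype.ext hx'⟩
  have hψ : IsOpenEmbedding ψ :=
    ⟨hψe, by rw [hrange]; exact hoe.isOpen_range.preimage continuous_subtype_val⟩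
  have hlocT' : FlatMor.localDim (Module.support (p'.Fiber S') ((p'.Fiber S') ⊗[S'] N'))
      ⟨ξ', hmemξ'⟩ = n := by
    rw [localDim_eq_of_isOpenEmbedding ψ hψ ⟨ξ', hmemξ'⟩]
    have h0 : ψ ⟨ξ', hmemξ'⟩ = ⟨ξ, hξ⟩ := Subtype.ext hpsi
    rw [h0]
    exact hloc
  have hdimT : topologicalKrullDim (Module.support (p.Fiber S) ((p.Fiber S) ⊗[S] N)) = n := by
    rw [← supportDim_eq_top]
    exact hdim
  have hdimT' : topologicalKrullDim
      (Module.support (p'.Fiber S') ((p'.Fiber S') ⊗[S'] N')) = n := by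
    apply le_antisymm
    · rw [← hdimT]
      exact hψ.isInducing.topologicalKrullDim_le
    · rw [← hlocT']
      exact localDim_le_top _
  refine ⟨?_, ξ', hmemξ', hξ'Q, hlocT'⟩
  rw [supportDim_eq_top]
  exact hdimT'

end FibLoc

end Groth.Agent.Lib.Helper24.Shrink
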