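import Mathlib
import Groth.Prelude.Def_FlatCA
import Groth.Prelude.Def_Flat
import Groth.Agent.Lib.Helper24.ShrinkA
import Groth.Agent.Lib.Helper24.ShrinkB

/-!
# Base change of a one-step dévissage along a map with bijective residue field: fibres
-/

set_option autoImplicit false
set_option maxHeartbeats 800000
set_option linter.style.haveILetI false
set_option linter.unusedSectionVars false
set_option linter.unusedVariables false

universe u

namespace Groth.Agent.Lib.Helper24.BCDev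

open TensorProduct TopologicalSpace Topology
open Groth.Agent.Lib.Helper24.Shrink

attribute [local instance] Algebra.TensorProduct.rightAlgebra

section Gen

variable {R S R' S' : Type u} [CommRing R] [CommRing S] [CommRing R'] [CommRing S']
  [Algebra R S] [Algebra R R'] [Algebra S S'] [Algebra R' S'] [Algebra R S']
  [IsScalarTower R R' S'] [IsScalarTower R S S']
  (p : Ideal R) [hp : p.IsPrime] (p' : Ideal R') [hp' : p'.IsPrime]

variable {N N' : Type u} [AddCommGroup N] [Module S N] [Module.Finite S N]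
  [AddCommGroup N'] [Module S' N'] [Module S N'] [IsScalarTower S S' N'] [Module.Finite S' N']

/-- transfer of the dimension of the fibre support and the local dimension along an open
embedding of fibre spectra. -/
theorem dim_transfer' (hp'p : p'.comap (algebraMap R R') = p)
    (hoe : IsOpenEmbedding (psi0 (S := S) (S' := S') p p' hp'p))
    (f : N →ₗ[S] N') (hf : IsBaseChange S' f) (n : ℕ)
    (hdim : Module.supportDim (p.Fiber S) ((p.Fiber S) ⊗[S] N) = n)
    (Q : Ideal S) [hQ : Q.IsPrime] (Q' : Ideal S') [hQ' : Q'.IsPrime]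
    (hQ'Q : Q'.comap (algebraMap S S') = Q) (hQ'p' : Q'.comap (algebraMap R' S') = p')
    (h1 : ∃ (ξ : PrimeSpectrum (p.Fiber S))
      (hξ : ξ ∈ Module.support (p.Fiber S) ((p.Fiber S) ⊗[S] N)),
      ξ.asIdeal = FlatCA.fiberIdeal p Q ∧
      FlatMor.localDim (Module.support (p.Fiber S) ((p.Fiber S) ⊗[S] N)) ⟨ξ, hξ⟩ = n) :
    Module.supportDim (p'.Fiber S') ((p'.Fiber S') ⊗[S'] N') = n ∧
    ∃ (ξ' : PrimeSpectrum (p'.Fiber S'))
      (hξ' : ξ' ∈ Module.support (p'.Fiber S') ((p'.Fiber S') ⊗[S'] N')),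
      ξ'.asIdeal = FlatCA.fiberIdeal p' Q' ∧
      FlatMor.localDim (Module.support (p'.Fiber S') ((p'.Fiber S') ⊗[S'] N')) ⟨ξ', hξ'⟩ = n := by
  obtain ⟨ξ, hξ, hξQ, hloc⟩ := h1
  obtain ⟨ξ', hξ'⟩ := exists_cS_eq p' ⟨Q', hQ'⟩ hQ'p'
  have hξ'Q : ξ'.asIdeal = FlatCA.fiberIdeal p' Q' := by
    rw [asIdeal_eq_map p' ξ', hξ']
  have hQp : Q.comap (algebraMap R S) = p := by
    rw [← hQ'Q, comap_comm (R := R) (S := S) (R' := R') (S' := S'), hQ'p', hp'p]
  obtain ⟨ξ₀, hξ₀⟩ := exists_cS_eq p ⟨Q, hQ⟩ hQp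
  have hξ₀ξ : ξ₀ = ξ := by
    apply PrimeSpectrum.ext
    rw [asIdeal_eq_map p ξ₀, hξ₀, hξQ]
  have hpsi : psi0 p p' hp'p ξ' = ξ := by
    apply (cS_isEmbedding p).injective
    rw [cS_psi0, hξ', ← hξ₀ξ, hξ₀]
    exact PrimeSpectrum.ext hQ'Q
  have hiff := mem_support_psi0_iff (N := N) (N' := N') p p' hp'p f hf
  have hmemξ' : ξ' ∈ Module.support (p'.Fiber S') ((p'.Fiber S') ⊗[S'] N') :=
    (hiff ξ').mpr (hpsi ▸ hξ)
  let ψ : Module.support (p'.Fiber S') ((p'.Fiber S') ⊗[S'] N') →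
      Module.support (p.Fiber S) ((p.Fiber S) ⊗[S] N) :=
    fun t => ⟨psi0 p p' hp'p t.1, (hiff t.1).mp t.2⟩
  have hψc : Continuous ψ :=
    (hoe.continuous.comp continuous_subtype_val).subtype_mk _
  have hψe : IsEmbedding ψ :=
    IsEmbedding.of_comp hψc continuous_subtype_val (hoe.isEmbedding.comp IsEmbedding.subtypeVal)
  have hrange : Set.range ψ = Subtype.val ⁻¹' Set.range (psi0 (S := S) (S' := S') p p' hp'p) := by
    ext t
    constructor
    · rintro ⟨t', rfl⟩
      exact ⟨t'.1, rfl⟩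
    · rintro ⟨x', hx'⟩
      exact ⟨⟨x', (hiff x').mpr (hx' ▸ t.2)⟩, Subtype.ext hx'⟩
  have hψ : IsOpenEmbedding ψ :=
    ⟨hψe, by rw [hrange]; exact hoe.isOpen_range.preimage continuous_subtype_val⟩
  have hlocT' : FlatMor.localDim (Module.support (p'.Fiber S') ((p'.Fiber S') ⊗[S'] N'))
      ⟨ξ', hmemξ'⟩ = n := by
    rw [localDim_eq_of_isOpenEmbedding ψ hψ ⟨ξ', hmemξ'⟩]
    have h0 : ψ ⟨ξ', hmemξ'⟩ = ⟨ξ, hξ⟩ := Subtype.ext hpsi
    rw [h0]
    exact hloc
  have hdimT : topologicalKrullDim (Module.support (p.Fiber S) ((p.Fiber S) ⊗[S] N)) = n := by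
    rw [← supportDim_eq_top]
    exact hdim
  have hdimT' : topologicalKrullDim
      (Module.support (p'.Fiber S') ((p'.Fiber S') ⊗[S'] N')) = n := by
    apply le_antisymm
    · rw [← hdimT]
      exact hψ.isInducing.topologicalKrullDim_le
    · rw [← hlocT']
      exact localDim_le_top _
  refine ⟨?_, ξ', hmemξ', hξ'Q, hlocT'⟩
  rw [supportDim_eq_top]
  exact hdimT'

/-- two primes of `S'` over `p'` with the same contraction to `S` agree, if `psi0` is injective -/
theorem unique_over (hp'p : p'.comap (algebraMap R R') = p)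
    (hinj : Function.Injective (psi0 (S := S) (S' := S') p p' hp'p))
    (q₁ q₂ : Ideal S') [hq₁ : q₁.IsPrime] [hq₂ : q₂.IsPrime]
    (h1 : q₁.comap (algebraMap R' S') = p') (h2 : q₂.comap (algebraMap R' S') = p')
    (h : q₁.comap (algebraMap S S') = q₂.comap (algebraMap S S')) : q₁ = q₂ := by
  obtain ⟨x₁, hx₁⟩ := exists_cS_eq p' ⟨q₁, hq₁⟩ h1
  obtain ⟨x₂, hx₂⟩ := exists_cS_eq p' ⟨q₂, hq₂⟩ h2
  have h0 : psi0 (S := S) p p' hp'p x₁ = psi0 (S := S) p p' hp'p x₂ := by
    apply (cS_isEmbedding p).injective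
    rw [cS_psi0 p p' hp'p x₁, cS_psi0 p p' hp'p x₂, hx₁, hx₂]
    exact PrimeSpectrum.ext h
  have hx := hinj h0
  have h3 : (⟨q₁, hq₁⟩ : PrimeSpectrum S') = ⟨q₂, hq₂⟩ := by rw [← hx₁, ← hx₂, hx]
  exact congrArg PrimeSpectrum.asIdeal h3

end Gen

section Theta

variable {R S R' S' : Type u} [CommRing R] [CommRing S] [CommRing R'] [CommRing S']
  [Algebra R S] [Algebra R R'] [Algebra S S'] [Algebra R' S'] [Algebra R S']
  [IsScalarTower R R' S'] [IsScalarTower R S S'] [Algebra.IsPushout R R' S S']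
  (p : Ideal R) [hp : p.IsPrime] (p' : Ideal R') [hp' : p'.IsPrime] [hpp : p'.LiesOver p]
  (hκ : Function.Bijective (Ideal.ResidueField.mapₐ p p' (Algebra.ofId R R') hpp.over))

/-- the isomorphism of fibre rings -/
noncomputable def Theta : p.Fiber S ≃+* p'.Fiber S' :=
  haveI : Algebra.IsPushout R S R' S' := Algebra.IsPushout.symm inferInstance
  (Algebra.TensorProduct.comm R p.ResidueField S).toRingEquiv.trans
  ((Algebra.TensorProduct.congr (AlgEquiv.refl : S ≃ₐ[R] S)
    (AlgEquiv.ofBijective _ hκ)).toRingEquiv.trans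
  ((Algebra.IsPushout.cancelBaseChangeAlg R S R' S' p'.ResidueField).symm.toRingEquiv.trans
  (Algebra.TensorProduct.comm R' S' p'.ResidueField).toRingEquiv))

theorem Theta_apply (s : S) :
    Theta p p' hκ ((1 : p.ResidueField) ⊗ₜ[R] s) =
      (1 : p'.ResidueField) ⊗ₜ[R'] algebraMap S S' s := by
  haveI : Algebra.IsPushout R S R' S' := Algebra.IsPushout.symm inferInstance
  simp [Theta]

theorem psi0_eq_comap :
    psi0 (S := S) (S' := S') p p' hpp.over.symm =
      PrimeSpectrum.comap ((Theta p p' hκ : p.Fiber S ≃+* p'.Fiber S') : p.Fiber S →+* p'.Fiber S') := by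
  funext x'
  apply (cS_isEmbedding p).injective
  rw [cS_psi0]
  apply PrimeSpectrum.ext
  ext s
  show (1 : p'.ResidueField) ⊗ₜ[R'] algebraMap S S' s ∈ x'.asIdeal ↔
    Theta p p' hκ ((1 : p.ResidueField) ⊗ₜ[R] s) ∈ x'.asIdeal
  rw [Theta_apply]

include hκ in
theorem psi0_isHomeomorph :
    IsHomeomorph (psi0 (S := S) (S' := S') p p' hpp.over.symm) := by
  rw [psi0_eq_comap p p' hκ]
  exact PrimeSpectrum.isHomeomorph_comap_of_bijective (Theta p p' hκ).bijective

include hκ in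
/-- the residue field extension at corresponding primes is trivial -/
theorem residue_bijective (y : Ideal S) [hy : y.IsPrime] (y' : Ideal S') [hy' : y'.IsPrime]
    [hy'y : y'.LiesOver y] [hy'p' : y'.LiesOver p'] :
    Function.Bijective (Ideal.ResidueField.map y y' (algebraMap S S') hy'y.over) := by
  obtain ⟨x', hx'⟩ := exists_cS_eq p' ⟨y', hy'⟩ hy'p'.over.symm
  obtain ⟨Θ, hΘ⟩ : ∃ Θ : p.Fiber S ≃+* p'.Fiber S', Θ = Theta p p' hκ := ⟨_, rfl⟩
  have hΘa : ∀ s : S, Θ ((1 : p.ResidueField) ⊗ₜ[R] s) =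
      (1 : p'.ResidueField) ⊗ₜ[R'] algebraMap S S' s := by
    intro s; rw [hΘ]; exact Theta_apply p p' hκ s
  have hy'x' : y' = x'.asIdeal.comap
      (Algebra.TensorProduct.includeRight (R := R') (A := p'.ResidueField) (B := S')).toRingHom :=
    (congrArg PrimeSpectrum.asIdeal hx').symm
  have hyx : y = (x'.asIdeal.comap (Θ : p.Fiber S →+* p'.Fiber S')).comap
      (Algebra.TensorProduct.includeRight (R := R) (A := p.ResidueField) (B := S)).toRingHom := by
    rw [hy'y.over]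
    ext s
    show algebraMap S S' s ∈ y' ↔ Θ ((1 : p.ResidueField) ⊗ₜ[R] s) ∈ x'.asIdeal
    rw [hΘa, hy'x']
    rfl
  have hbi := RingHom.SurjectiveOnStalks.residueFieldMap_bijective
    (RingHom.SurjectiveOnStalks.baseChange' (R := R) (S := p.ResidueField) (T := S)
      (Ideal.surjectiveOnStalks_residueField p))
    y (x'.asIdeal.comap (Θ : p.Fiber S →+* p'.Fiber S')) hyx
  have hbi' := RingHom.SurjectiveOnStalks.residueFieldMap_bijective
    (RingHom.SurjectiveOnStalks.baseChange' (R := R') (S := p'.ResidueField) (T := S')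
      (Ideal.surjectiveOnStalks_residueField p'))
    y' x'.asIdeal hy'x'
  have hbΘ := RingHom.SurjectiveOnStalks.residueFieldMap_bijective
    (RingEquiv.surjectiveOnStalks Θ)
    (x'.asIdeal.comap (Θ : p.Fiber S →+* p'.Fiber S')) x'.asIdeal rfl
  have hcomm : (Ideal.ResidueField.map y' x'.asIdeal _ hy'x').comp
      (Ideal.ResidueField.map y y' (algebraMap S S') hy'y.over) =
      (Ideal.ResidueField.map (x'.asIdeal.comap (Θ : p.Fiber S →+* p'.Fiber S')) x'.asIdeal
        (Θ : p.Fiber S →+* p'.Fiber S') rfl).comp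
      (Ideal.ResidueField.map y (x'.asIdeal.comap (Θ : p.Fiber S →+* p'.Fiber S')) _ hyx) := by
    apply Ideal.ResidueField.ringHom_ext
    ext s
    simp only [RingHom.comp_apply, Ideal.ResidueField.map_algebraMap]
    congr 1
    exact (hΘa s).symm
  refine ⟨RingHom.injective _, fun t => ?_⟩
  obtain ⟨s, hs⟩ := hbΘ.2 (Ideal.ResidueField.map y' x'.asIdeal _ hy'x' t)
  obtain ⟨r, hr⟩ := hbi.2 s
  refine ⟨r, hbi'.1 ?_⟩
  have h0 := RingHom.congr_fun hcomm r
  simp only [RingHom.comp_apply] at h0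
  rw [h0, hr]
  exact hs

end Theta

end Groth.Agent.Lib.Helper24.BCDev
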