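import Mathlib
import Groth.Prelude.Def_FlatCA
import Groth.Prelude.Def_Flat
import Groth.Agent.Lib.Helper24.BCDevA

/-!
# Base change of a one-step dévissage along a map with bijective residue field
-/

set_option autoImplicit false
set_option maxHeartbeats 1600000
set_option linter.style.haveILetI false
set_option linter.unusedSectionVars false
set_option linter.unusedVariables false

universe u

namespace Groth.Agent.Lib.Helper24.BCDev

open TensorProduct
open Groth.Agent.Lib.Helper24.Shrink

theorem surj_of_isPushout {S C S' C' : Type u} [CommRing S] [CommRing C] [CommRing S']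
    [CommRing C'] [Algebra S C] [Algebra S S'] [Algebra C C'] [Algebra S' C'] [Algebra S C']
    [IsScalarTower S S' C'] [IsScalarTower S C C'] [h : Algebra.IsPushout S S' C C']
    (hs : Function.Surjective (algebraMap S C)) : Function.Surjective (algebraMap S' C') := by
  intro x
  have hb : IsBaseChange S' (IsScalarTower.toAlgHom S C C').toLinearMap := h.out
  refine hb.inductionOn x (fun x => ∃ t, algebraMap S' C' t = x) ⟨0, map_zero _⟩ ?_ ?_ ?_
  · intro c
    obtain ⟨s, rfl⟩ := hs c
    refine ⟨algebraMap S S' s, ?_⟩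
    show _ = algebraMap C C' (algebraMap S C s)
    rw [← IsScalarTower.algebraMap_apply S S' C', ← IsScalarTower.algebraMap_apply S C C']
  · rintro s' _ ⟨t, rfl⟩
    exact ⟨s' * t, by rw [map_mul, Algebra.smul_def]⟩
  · rintro _ _ ⟨t₁, rfl⟩ ⟨t₂, rfl⟩
    exact ⟨t₁ + t₂, map_add _ _ _⟩

open AlgebraicGeometry CategoryTheory in
theorem smooth_geomIrred_bc {R D R' D' : Type u} [CommRing R] [CommRing D] [CommRing R']
    [CommRing D'] [Algebra R D] [Algebra R R'] [Algebra D D'] [Algebra R' D'] [Algebra R D']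
    [IsScalarTower R R' D'] [IsScalarTower R D D'] [Algebra.IsPushout R R' D D'] (n : ℕ)
    (hsm : FlatCA.SmoothRelDim n R D) (hgi : FlatCA.GeomIrredFibres R D) :
    FlatCA.SmoothRelDim n R' D' ∧ FlatCA.GeomIrredFibres R' D' := by
  have hpo := CommRingCat.isPushout_of_isPushout R R' D D'
  have hpb := (isPullback_SpecMap_of_isPushout _ _ _ _ hpo).flip
  haveI := smoothOfRelativeDimension_isStableUnderBaseChange n
  exact ⟨MorphismProperty.of_isPullback (P := @SmoothOfRelativeDimension n) hpb hsm,
    MorphismProperty.of_isPullback (P := @GeometricallyIrreducible) hpb hgi⟩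

theorem main39
    (R S : Type u) [CommRing R] [CommRing S] [Algebra R S] [Algebra.FiniteType R S]
    (N : Type u) [AddCommGroup N] [Module S N] [Module R N] [IsScalarTower R S N] [Module.Finite S N]
    (p : Ideal R) [p.IsPrime] (q : Ideal S) [q.IsPrime] [q.LiesOver p]
    (C D G : Type u) [CommRing C] [CommRing D] [Algebra S C] [Algebra R C] [IsScalarTower R S C]
    [Algebra R D] [Algebra D C] [IsScalarTower R D C] [AddCommGroup G] [Module C G] [Module S G]
    [IsScalarTower S C G] (n : ℕ)
    (h : FlatCA.IsOneStepDevissage R S N p C D G n)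
    (z : Ideal C) [z.IsPrime] (y : Ideal D) [y.IsPrime] [z.LiesOver q] [z.LiesOver y] [y.LiesOver p]
    (h1 : ∃ (ξ : PrimeSpectrum (p.Fiber S)) (hξ : ξ ∈ Module.support (p.Fiber S) (FlatCA.fiberMod p S N)),
      ξ.asIdeal = FlatCA.fiberIdeal p q ∧
      FlatMor.localDim (Module.support (p.Fiber S) (FlatCA.fiberMod p S N)) ⟨ξ, hξ⟩ = n)
    (h3 : ∀ (z₁ : Ideal C) [z₁.IsPrime], z₁.LiesOver y → z₁ = z)
    (h4 : FlatCA.PurelyTranscendental p y)
    (R' : Type u) [CommRing R'] [Algebra R R'] (p' : Ideal R') [p'.IsPrime] [hp' : p'.LiesOver p]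
    (hκ : Function.Bijective (Ideal.ResidueField.mapₐ p p' (Algebra.ofId R R') hp'.over))
    (S' C' D' : Type u) [CommRing S'] [CommRing C'] [CommRing D']
    [Algebra R' S'] [Algebra R S'] [Algebra S S'] [IsScalarTower R R' S'] [IsScalarTower R S S']
    [Algebra.IsPushout R R' S S']
    [Algebra R' C'] [Algebra R C'] [Algebra C C'] [IsScalarTower R R' C'] [IsScalarTower R C C']
    [Algebra.IsPushout R R' C C']
    [Algebra R' D'] [Algebra R D'] [Algebra D D'] [IsScalarTower R R' D'] [IsScalarTower R D D']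
    [Algebra.IsPushout R R' D D']
    [Algebra S' C'] [IsScalarTower R' S' C'] [Algebra S C'] [IsScalarTower S S' C'] [IsScalarTower S C C']
    [Algebra D' C'] [IsScalarTower R' D' C'] [Algebra D C'] [IsScalarTower D D' C'] [IsScalarTower D C C']
    (N' : Type u) [AddCommGroup N'] [Module S' N'] [Module R' N'] [IsScalarTower R' S' N']
    [Module S N'] [IsScalarTower S S' N'] (f : N →ₗ[S] N') (hf : IsBaseChange S' f)
    (G' : Type u) [AddCommGroup G'] [Module C' G'] [Module S' G'] [IsScalarTower S' C' G']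
    [Module C G'] [IsScalarTower C C' G'] (g : G →ₗ[C] G') (hg : IsBaseChange C' g)
    (q' : Ideal S') [q'.IsPrime] [q'.LiesOver q] [q'.LiesOver p']
    (z' : Ideal C') [z'.IsPrime] [z'.LiesOver z] [z'.LiesOver p']
    (y' : Ideal D') [y'.IsPrime] [y'.LiesOver y] [y'.LiesOver p'] :
    (∀ (q₁ : Ideal S') [q₁.IsPrime], q₁.LiesOver q → q₁.LiesOver p' → q₁ = q') ∧
    FlatCA.IsOneStepDevissage R' S' N' p' C' D' G' n ∧
    (∃ (ξ' : PrimeSpectrum (p'.Fiber S')) (hξ' : ξ' ∈ Module.support (p'.Fiber S') (FlatCA.fiberMod p' S' N')),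
      ξ'.asIdeal = FlatCA.fiberIdeal p' q' ∧
      FlatMor.localDim (Module.support (p'.Fiber S') (FlatCA.fiberMod p' S' N')) ⟨ξ', hξ'⟩ = n) ∧
    z'.LiesOver q' ∧ z'.LiesOver y' ∧
    (∀ (z₁ : Ideal C') [z₁.IsPrime], z₁.LiesOver y' → z₁ = z') ∧
    FlatCA.PurelyTranscendental p' y' := by
  classical
  obtain ⟨⟨e⟩, hsurjC, hfpC, hfinDC, hfinG, hsm, hgi, hdim⟩ := h
  have hp'p : p'.comap (algebraMap R R') = p := hp'.over.symm
  have hhS := psi0_isHomeomorph (S := S) (S' := S') p p' hκ
  have hhC := psi0_isHomeomorph (S := C) (S' := C') p p' hκ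
  have hhD := psi0_isHomeomorph (S := D) (S' := D') p p' hκ
  have hq'q : q'.comap (algebraMap S S') = q := (Ideal.LiesOver.over (P := q') (p := q)).symm
  have hq'p' : q'.comap (algebraMap R' S') = p' :=
    (Ideal.LiesOver.over (P := q') (p := p')).symm
  have hz'z : z'.comap (algebraMap C C') = z := (Ideal.LiesOver.over (P := z') (p := z)).symm
  have hz'p' : z'.comap (algebraMap R' C') = p' :=
    (Ideal.LiesOver.over (P := z') (p := p')).symm
  have hy'y : y'.comap (algebraMap D D') = y := (Ideal.LiesOver.over (P := y') (p := y)).symm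
  have hy'p' : y'.comap (algebraMap R' D') = p' :=
    (Ideal.LiesOver.over (P := y') (p := p')).symm
  have hzq : z.comap (algebraMap S C) = q := (Ideal.LiesOver.over (P := z) (p := q)).symm
  have hzy : z.comap (algebraMap D C) = y := (Ideal.LiesOver.over (P := z) (p := y)).symm
  -- (4) z' over q'
  have hz'q' : z'.comap (algebraMap S' C') = q' := by
    refine unique_over p p' hp'p hhS.injective _ q' ?_ hq'p' ?_
    · rw [Ideal.comap_comap, ← IsScalarTower.algebraMap_eq, hz'p']
    · rw [Ideal.comap_comap, ← IsScalarTower.algebraMap_eq, IsScalarTower.algebraMap_eq S C C',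
        ← Ideal.comap_comap, hz'z, hzq, hq'q]
  -- (5) z' over y'
  have hz'y' : z'.comap (algebraMap D' C') = y' := by
    refine unique_over p p' hp'p hhD.injective _ y' ?_ hy'p' ?_
    · rw [Ideal.comap_comap, ← IsScalarTower.algebraMap_eq, hz'p']
    · rw [Ideal.comap_comap, ← IsScalarTower.algebraMap_eq, IsScalarTower.algebraMap_eq D C C',
        ← Ideal.comap_comap, hz'z, hzy, hy'y]
  -- pushouts
  haveI tRS'C' : IsScalarTower R S' C' := IsScalarTower.of_algebraMap_eq fun r => by
    rw [IsScalarTower.algebraMap_apply R R' C', IsScalarTower.algebraMap_apply R' S' C',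
      ← IsScalarTower.algebraMap_apply R R' S']
  haveI tRD'C' : IsScalarTower R D' C' := IsScalarTower.of_algebraMap_eq fun r => by
    rw [IsScalarTower.algebraMap_apply R R' C', IsScalarTower.algebraMap_apply R' D' C',
      ← IsScalarTower.algebraMap_apply R R' D']
  haveI pRSR'S' : Algebra.IsPushout R S R' S' := Algebra.IsPushout.symm inferInstance
  haveI pRCR'C' : Algebra.IsPushout R C R' C' := Algebra.IsPushout.symm inferInstance
  haveI pRDR'D' : Algebra.IsPushout R D R' D' := Algebra.IsPushout.symm inferInstance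
  have hPSC : Algebra.IsPushout S C S' C' :=
    (Algebra.IsPushout.comp_iff R S R' (S' := S') (T := C) (T' := C')).mp inferInstance
  haveI hPSC' : Algebra.IsPushout S S' C C' := hPSC.symm
  have hPDC : Algebra.IsPushout D C D' C' :=
    (Algebra.IsPushout.comp_iff R D R' (S' := D') (T := C) (T' := C')).mp inferInstance
  haveI hPDC' : Algebra.IsPushout D D' C C' := hPDC.symm
  haveI : Module.Finite S' N' := Module.Finite.equiv hf.equiv
  have hdt := dim_transfer' (R := R) (S := S) (R' := R') (S' := S') (N := N) (N' := N')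
    p p' hp'p hhS.isOpenEmbedding f hf n hdim q q' hq'q hq'p' h1
  have hsg := smooth_geomIrred_bc (R := R) (D := D) (R' := R') (D' := D') n hsm hgi
  refine ⟨?_, ?_, hdt.2, ⟨hz'q'.symm⟩, ⟨hz'y'.symm⟩, ?_, ?_⟩
  · intro q₁ hq₁ h1q h1p
    haveI := hq₁
    exact unique_over p p' hp'p hhS.injective q₁ q' h1p.over.symm hq'p'
      (h1q.over.symm.trans hq'q.symm)
  · haveI := hfpC
    haveI := hfinDC
    haveI := hfinG
    refine ⟨?_, ?_, ?_, ?_, ?_, hsg.1, hsg.2, hdt.1⟩
    · exact ⟨hf.equiv.symm ≪≫ₗ
        TensorProduct.AlgebraTensorModule.congr (LinearEquiv.refl S' S') e ≪≫ₗ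
        (Algebra.IsPushout.cancelBaseChange S S' C C' G).symm ≪≫ₗ
        hg.equiv.restrictScalars S'⟩
    · exact surj_of_isPushout hsurjC
    · exact Algebra.FinitePresentation.equiv (Algebra.IsPushout.equiv S S' C C')
    · exact Module.Finite.equiv (Algebra.IsPushout.equiv D D' C C').toLinearEquiv
    · exact Module.Finite.equiv hg.equiv
  · intro z₁ hz₁ hz₁y'
    haveI := hz₁
    have hz₁y : z₁.comap (algebraMap D' C') = y' := hz₁y'.over.symm
    have hz₁p' : z₁.comap (algebraMap R' C') = p' := by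
      rw [IsScalarTower.algebraMap_eq R' D' C', ← Ideal.comap_comap, hz₁y, hy'p']
    have hz₁z : z₁.comap (algebraMap C C') = z := by
      refine h3 (z₁.comap (algebraMap C C')) ⟨?_⟩
      show y = (z₁.comap (algebraMap C C')).comap (algebraMap D C)
      rw [Ideal.comap_comap, ← IsScalarTower.algebraMap_eq, IsScalarTower.algebraMap_eq D D' C',
        ← Ideal.comap_comap, hz₁y, hy'y]
    exact unique_over p p' hp'p hhC.injective z₁ z' hz₁p' hz'p' (hz₁z.trans hz'z.symm)
  · haveI : y'.LiesOver y := inferInstance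
    exact purelyTranscendental_transfer p y p' y' hκ
      (residue_bijective (S := D) (S' := D') p p' hκ y y') h4

end Groth.Agent.Lib.Helper24.BCDev
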