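import Mathlib
import Groth.Prelude.Def_FlatCA
import Groth.Prelude.Def_Flat
import Groth.Agent.Lib.Helper24.BCDevB
import Groth.Agent.Lib.Helper12.BaseChange

/-!
# Base change of a one-step dévissage along an arbitrary ring map

The dimension of the support of the fibre module is invariant under extension of the residue
field.
-/

set_option autoImplicit false
set_option maxHeartbeats 1600000
set_option linter.style.haveILetI false
set_option linter.unusedSectionVars false
set_option linter.unusedVariables false

universe u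

namespace Groth.Agent.Lib.Helper24.BCDev

open TensorProduct TopologicalSpace Topology
open Groth.Agent.Lib.Helper24.Shrink

attribute [local instance] Algebra.TensorProduct.rightAlgebra

section Abstract

open AlgebraicGeometry CategoryTheory CategoryTheory.Limits

theorem range_specMap_mk {A : Type u} [CommRing A] (I : Ideal A) :
    Set.range (Spec.map (CommRingCat.ofHom (Ideal.Quotient.mk I))) =
      PrimeSpectrum.zeroLocus (I : Set A) := by
  have hsurj : Function.Surjective (Ideal.Quotient.mk I) := Ideal.Quotient.mk_surjective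
  have h0 := range_comap_of_surjective _ _ hsurj
  rw [Ideal.mk_ker] at h0
  exact h0

/-- the dimension of a closed subset of the spectrum of an algebra of finite type over a field
is invariant under extension of the base field -/
theorem dim_preimage_zeroLocus (k K A : Type u) [Field k] [Field K] [Algebra k K] [CommRing A]
    [Algebra k A] [Algebra.FiniteType k A] (I : Ideal A) :
    topologicalKrullDim ↥(PrimeSpectrum.comap (Algebra.TensorProduct.includeRight
        (R := k) (A := K) (B := A)).toRingHom ⁻¹' PrimeSpectrum.zeroLocus (I : Set A)) =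
      topologicalKrullDim (PrimeSpectrum (A ⧸ I)) := by
  obtain ⟨c, hc⟩ : ∃ c : Spec (CommRingCat.of (A ⧸ I)) ⟶ Spec (CommRingCat.of A),
      c = Spec.map (CommRingCat.ofHom (Ideal.Quotient.mk I)) := ⟨_, rfl⟩
  obtain ⟨sr, hsr⟩ : ∃ sr : Spec (CommRingCat.of (K ⊗[k] A)) ⟶ Spec (CommRingCat.of A),
      sr = Spec.map (CommRingCat.ofHom (Algebra.TensorProduct.includeRight
        (R := k) (A := K) (B := A)).toRingHom) := ⟨_, rfl⟩
  haveI hci : IsClosedImmersion c := by
    rw [hc]; exact IsClosedImmersion.spec_of_surjective _ Ideal.Quotient.mk_surjective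
  have sq2 : IsPullback sr
      (Spec.map (CommRingCat.ofHom (Algebra.TensorProduct.includeLeftRingHom
        (R := k) (A := K) (B := A))))
      (Spec.map (CommRingCat.ofHom (algebraMap k A)))
      (Spec.map (CommRingCat.ofHom (algebraMap k K))) := by
    rw [hsr]
    exact (isPullback_SpecMap_of_isPushout _ _ _ _
      (CommRingCat.isPushout_tensorProduct k K A)).flip
  have sq1 := IsPullback.of_hasPullback c sr
  have big := sq1.paste_vert sq2
  haveI hft1 : LocallyOfFiniteType c := by
    rw [hc, HasRingHomProperty.Spec_iff (P := @LocallyOfFiniteType)]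
    exact RingHom.FiniteType.of_surjective _ Ideal.Quotient.mk_surjective
  haveI hft2 : LocallyOfFiniteType (Spec.map (CommRingCat.ofHom (algebraMap k A))) := by
    rw [HasRingHomProperty.Spec_iff (P := @LocallyOfFiniteType)]
    exact RingHom.finiteType_algebraMap.mpr inferInstance
  have hdimP := Groth.Agent.Lib.Helper12.BaseChange.dim_of_isPullback_field k K
    (algebraMap k K) _ _ _ big
  have hsndE : IsEmbedding (pullback.snd c sr) :=
    (pullback.snd c sr).isClosedEmbedding.isEmbedding
  have hrange : Set.range (pullback.snd c sr) = sr ⁻¹' Set.range c :=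
    Scheme.Pullback.range_snd c sr
  have hrc : Set.range c = PrimeSpectrum.zeroLocus (I : Set A) := by
    rw [hc]; exact range_specMap_mk I
  have d2 := IsHomeomorph.topologicalKrullDim_eq _ hsndE.toHomeomorph.isHomeomorph
  have d3 : topologicalKrullDim ↥(Set.range (pullback.snd c sr)) =
      topologicalKrullDim ↥(sr ⁻¹' Set.range c) :=
    congrArg (fun s : Set _ => topologicalKrullDim ↥s) hrange
  have d4 : topologicalKrullDim ↥(sr ⁻¹' Set.range c) =
      topologicalKrullDim ↥(PrimeSpectrum.comap (Algebra.TensorProduct.includeRight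
        (R := k) (A := K) (B := A)).toRingHom ⁻¹' PrimeSpectrum.zeroLocus (I : Set A)) := by
    rw [hrc, hsr]; rfl
  exact d4.symm.trans (d3.symm.trans (d2.symm.trans hdimP))

end Abstract

section PhiSec

variable {R S R' S' : Type u} [CommRing R] [CommRing S] [CommRing R'] [CommRing S']
  [Algebra R S] [Algebra R R'] [Algebra S S'] [Algebra R' S'] [Algebra R S']
  [IsScalarTower R R' S'] [IsScalarTower R S S'] [Algebra.IsPushout R R' S S']
  (p : Ideal R) [hp : p.IsPrime] (p' : Ideal R') [hp' : p'.IsPrime] [hpp : p'.LiesOver p]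

/-- the residue field extension as an algebra -/
noncomputable def kalg : Algebra p.ResidueField p'.ResidueField :=
  (Ideal.ResidueField.mapₐ p p' (Algebra.ofId R R') hpp.over).toRingHom.toAlgebra

attribute [local instance] kalg

theorem ktower : IsScalarTower R p.ResidueField p'.ResidueField :=
  IsScalarTower.of_algebraMap_eq fun r =>
    ((Ideal.ResidueField.mapₐ p p' (Algebra.ofId R R') hpp.over).commutes r).symm

/-- the fibre ring of the base change is the base change of the fibre ring along the residue
field extension -/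
noncomputable def Phi : p'.ResidueField ⊗[p.ResidueField] (p.Fiber S) ≃+* p'.Fiber S' :=
  haveI : Algebra.IsPushout R S R' S' := Algebra.IsPushout.symm inferInstance
  haveI := ktower p p'
  (Algebra.TensorProduct.cancelBaseChange R p.ResidueField p'.ResidueField
    p'.ResidueField S).toRingEquiv.trans
  ((Algebra.TensorProduct.comm R p'.ResidueField S).toRingEquiv.trans
  ((Algebra.IsPushout.cancelBaseChangeAlg R S R' S' p'.ResidueField).symm.toRingEquiv.trans
  (Algebra.TensorProduct.comm R' S' p'.ResidueField).toRingEquiv))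

theorem Phi_apply (s : S) :
    Phi (S := S) (S' := S') p p'
      ((1 : p'.ResidueField) ⊗ₜ[p.ResidueField] ((1 : p.ResidueField) ⊗ₜ[R] s)) =
      (1 : p'.ResidueField) ⊗ₜ[R'] algebraMap S S' s := by
  haveI : Algebra.IsPushout R S R' S' := Algebra.IsPushout.symm inferInstance
  haveI := ktower p p'
  simp [Phi]

/-- the induced map of fibre rings -/
noncomputable def rho : p.Fiber S →+* p'.Fiber S' :=
  ((Phi (S := S) (S' := S') p p' :
    p'.ResidueField ⊗[p.ResidueField] (p.Fiber S) ≃+* p'.Fiber S') :
    p'.ResidueField ⊗[p.ResidueField] (p.Fiber S) →+* p'.Fiber S').comp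
    (Algebra.TensorProduct.includeRight (R := p.ResidueField) (A := p'.ResidueField)
      (B := p.Fiber S)).toRingHom

theorem rho_apply (s : S) :
    rho (S := S) (S' := S') p p' ((1 : p.ResidueField) ⊗ₜ[R] s) =
      (1 : p'.ResidueField) ⊗ₜ[R'] algebraMap S S' s :=
  Phi_apply p p' s

theorem psi0_eq_comap_rho :
    psi0 (S := S) (S' := S') p p' hpp.over.symm =
      PrimeSpectrum.comap (rho (S := S) (S' := S') p p') := by
  funext x'
  apply (cS_isEmbedding p).injective
  rw [cS_psi0]
  apply PrimeSpectrum.ext
  ext s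
  show (1 : p'.ResidueField) ⊗ₜ[R'] algebraMap S S' s ∈ x'.asIdeal ↔
    rho (S := S) (S' := S') p p' ((1 : p.ResidueField) ⊗ₜ[R] s) ∈ x'.asIdeal
  rw [rho_apply]

/-- invariance of the dimension of the support of the fibre module under base change -/
theorem supportDim_fiber_bc [Algebra.FiniteType R S]
    {N N' : Type u} [AddCommGroup N] [Module S N] [Module.Finite S N]
    [AddCommGroup N'] [Module S' N'] [Module S N'] [IsScalarTower S S' N'] [Module.Finite S' N']
    (f : N →ₗ[S] N') (hf : IsBaseChange S' f) :
    Module.supportDim (p'.Fiber S') ((p'.Fiber S') ⊗[S'] N') =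
      Module.supportDim (p.Fiber S) ((p.Fiber S) ⊗[S] N) := by
  classical
  obtain ⟨I, hI⟩ : ∃ I : Ideal (p.Fiber S),
      I = Module.annihilator (p.Fiber S) ((p.Fiber S) ⊗[S] N) := ⟨_, rfl⟩
  have hsuppI : Module.support (p.Fiber S) ((p.Fiber S) ⊗[S] N) =
      PrimeSpectrum.zeroLocus (I : Set (p.Fiber S)) := by
    rw [hI]; exact Module.support_eq_zeroLocus
  have hR : Module.supportDim (p.Fiber S) ((p.Fiber S) ⊗[S] N) =
      topologicalKrullDim (PrimeSpectrum ((p.Fiber S) ⧸ I)) := by
    rw [hI, Module.supportDim_eq_ringKrullDim_quotient_annihilator,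
      PrimeSpectrum.topologicalKrullDim_eq_ringKrullDim]
  have hL : Module.supportDim (p'.Fiber S') ((p'.Fiber S') ⊗[S'] N') =
      topologicalKrullDim (Module.support (p'.Fiber S') ((p'.Fiber S') ⊗[S'] N')) :=
    supportDim_eq_top
  rw [hL, hR]
  have hiff : ∀ x' : PrimeSpectrum (p'.Fiber S'),
      x' ∈ Module.support (p'.Fiber S') ((p'.Fiber S') ⊗[S'] N') ↔
      (PrimeSpectrum.homeomorphOfRingEquiv (R := p'.ResidueField ⊗[p.ResidueField] (p.Fiber S))
        (S := p'.Fiber S') (Phi (S := S) (S' := S') p p')).symm x' ∈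
        PrimeSpectrum.comap (Algebra.TensorProduct.includeRight
          (R := p.ResidueField) (A := p'.ResidueField) (B := p.Fiber S)).toRingHom ⁻¹'
          PrimeSpectrum.zeroLocus (I : Set (p.Fiber S)) := by
    intro x'
    rw [mem_support_psi0_iff (N := N) (N' := N') p p' hpp.over.symm f hf, psi0_eq_comap_rho,
      hsuppI]
    rfl
  obtain ⟨h, hh⟩ : ∃ h : PrimeSpectrum (p'.Fiber S') ≃ₜ PrimeSpectrum (p'.ResidueField ⊗[p.ResidueField] (p.Fiber S)),
      h = (PrimeSpectrum.homeomorphOfRingEquiv (R := p'.ResidueField ⊗[p.ResidueField] (p.Fiber S))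
        (S := p'.Fiber S') (Phi (S := S) (S' := S') p p')).symm := ⟨_, rfl⟩
  rw [← hh] at hiff
  obtain ⟨Z, hZ⟩ : ∃ Z : Set (PrimeSpectrum (p'.ResidueField ⊗[p.ResidueField] (p.Fiber S))),
      Z = PrimeSpectrum.comap (Algebra.TensorProduct.includeRight
          (R := p.ResidueField) (A := p'.ResidueField) (B := p.Fiber S)).toRingHom ⁻¹'
          PrimeSpectrum.zeroLocus (I : Set (p.Fiber S)) := ⟨_, rfl⟩
  rw [← hZ] at hiff
  have e1 := Homeomorph.subtype h hiff
  have d1 := IsHomeomorph.topologicalKrullDim_eq _ e1.isHomeomorph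
  have d0 := dim_preimage_zeroLocus p.ResidueField p'.ResidueField (p.Fiber S) I
  rw [← hZ] at d0
  exact d1.trans d0

end PhiSec

end Groth.Agent.Lib.Helper24.BCDev
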