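import Mathlib
import Groth.Prelude.Def_FlatCA
import Groth.Prelude.Def_Flat
import Groth.Agent.Lib.Helper24.BCDevC

/-!
# Base change of a one-step dévissage along an arbitrary ring map: assembly
-/

set_option autoImplicit false
set_option maxHeartbeats 1600000
set_option linter.style.haveILetI false
set_option linter.unusedSectionVars false
set_option linter.unusedVariables false

universe u

namespace Groth.Agent.Lib.Helper24.BCDev

open TensorProduct
open Groth.Agent.Lib.Helper24.Shrink

theorem main31
    (R S : Type u) [CommRing R] [CommRing S] [Algebra R S] [Algebra.FiniteType R S]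
    (N : Type u) [AddCommGroup N] [Module S N] [Module R N] [IsScalarTower R S N] [Module.Finite S N]
    (p : Ideal R) [p.IsPrime]
    (C D G : Type u) [CommRing C] [CommRing D] [Algebra S C] [Algebra R C] [IsScalarTower R S C]
    [Algebra R D] [Algebra D C] [IsScalarTower R D C] [AddCommGroup G] [Module C G] [Module S G]
    [IsScalarTower S C G] (n : ℕ)
    (h : FlatCA.IsOneStepDevissage R S N p C D G n)
    (R' : Type u) [CommRing R'] [Algebra R R'] (p' : Ideal R') [p'.IsPrime] [p'.LiesOver p]
    (S' C' D' : Type u) [CommRing S'] [CommRing C'] [CommRing D']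
    [Algebra R' S'] [Algebra R S'] [Algebra S S'] [IsScalarTower R R' S'] [IsScalarTower R S S']
    [Algebra.IsPushout R R' S S']
    [Algebra R' C'] [Algebra R C'] [Algebra C C'] [IsScalarTower R R' C'] [IsScalarTower R C C']
    [Algebra.IsPushout R R' C C']
    [Algebra R' D'] [Algebra R D'] [Algebra D D'] [IsScalarTower R R' D'] [IsScalarTower R D D']
    [Algebra.IsPushout R R' D D']
    [Algebra S' C'] [IsScalarTower R' S' C'] [Algebra S C'] [IsScalarTower S S' C'] [IsScalarTower S C C']
    [Algebra D' C'] [IsScalarTower R' D' C'] [Algebra D C'] [IsScalarTower D D' C'] [IsScalarTower D C C']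
    (N' : Type u) [AddCommGroup N'] [Module S' N'] [Module R' N'] [IsScalarTower R' S' N']
    [Module S N'] [IsScalarTower S S' N'] (f : N →ₗ[S] N') (hf : IsBaseChange S' f)
    (G' : Type u) [AddCommGroup G'] [Module C' G'] [Module S' G'] [IsScalarTower S' C' G']
    [Module C G'] [IsScalarTower C C' G'] (g : G →ₗ[C] G') (hg : IsBaseChange C' g) :
    FlatCA.IsOneStepDevissage R' S' N' p' C' D' G' n := by
  classical
  obtain ⟨⟨e⟩, hsurjC, hfpC, hfinDC, hfinG, hsm, hgi, hdim⟩ := h
  haveI tRS'C' : IsScalarTower R S' C' := IsScalarTower.of_algebraMap_eq fun r => by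
    rw [IsScalarTower.algebraMap_apply R R' C', IsScalarTower.algebraMap_apply R' S' C',
      ← IsScalarTower.algebraMap_apply R R' S']
  haveI tRD'C' : IsScalarTower R D' C' := IsScalarTower.of_algebraMap_eq fun r => by
    rw [IsScalarTower.algebraMap_apply R R' C', IsScalarTower.algebraMap_apply R' D' C',
      ← IsScalarTower.algebraMap_apply R R' D']
  haveI pRSR'S' : Algebra.IsPushout R S R' S' := Algebra.IsPushout.symm inferInstance
  haveI pRCR'C' : Algebra.IsPushout R C R' C' := Algebra.IsPushout.symm inferInstance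
  haveI pRDR'D' : Algebra.IsPushout R D R' D' := Algebra.IsPushout.symm inferInstance
  have hPSC : Algebra.IsPushout S C S' C' :=
    (Algebra.IsPushout.comp_iff R S R' (S' := S') (T := C) (T' := C')).mp inferInstance
  haveI hPSC' : Algebra.IsPushout S S' C C' := hPSC.symm
  have hPDC : Algebra.IsPushout D C D' C' :=
    (Algebra.IsPushout.comp_iff R D R' (S' := D') (T := C) (T' := C')).mp inferInstance
  haveI hPDC' : Algebra.IsPushout D D' C C' := hPDC.symm
  haveI : Module.Finite S' N' := Module.Finite.equiv hf.equiv
  have hsg := smooth_geomIrred_bc (R := R) (D := D) (R' := R') (D' := D') n hsm hgi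
  have hd : Module.supportDim (p'.Fiber S') (FlatCA.fiberMod p' S' N') = n :=
    (supportDim_fiber_bc (S := S) (S' := S') p p' f hf).trans hdim
  haveI := hfpC
  haveI := hfinDC
  haveI := hfinG
  refine ⟨?_, ?_, ?_, ?_, ?_, hsg.1, hsg.2, hd⟩
  · exact ⟨hf.equiv.symm ≪≫ₗ
      TensorProduct.AlgebraTensorModule.congr (LinearEquiv.refl S' S') e ≪≫ₗ
      (Algebra.IsPushout.cancelBaseChange S S' C C' G).symm ≪≫ₗ
      hg.equiv.restrictScalars S'⟩
  · exact surj_of_isPushout hsurjC
  · exact Algebra.FinitePresentation.equiv (Algebra.IsPushout.equiv S S' C C')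
  · exact Module.Finite.equiv (Algebra.IsPushout.equiv D D' C C').toLinearEquiv
  · exact Module.Finite.equiv hg.equiv

end Groth.Agent.Lib.Helper24.BCDev
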