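import Mathlib

/-!
# Basic elements (Eisenbud–Evans): fibrewise linear algebra and avoidance
-/

set_option maxHeartbeats 400000
set_option linter.style.haveILetI false
set_option linter.unusedSectionVars false
set_option autoImplicit false

universe u

open TensorProduct Module

namespace Groth.Agent.Lib.Helper24.BasicEl

variable {A : Type u} [CommRing A] {M : Type u} [AddCommGroup M] [Module A M]

/-- the residue field at a point -/
abbrev κ (p : PrimeSpectrum A) : Type u := p.asIdeal.ResidueField

/-- the fibre of a module at a point -/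
abbrev V (M : Type u) [AddCommGroup M] [Module A M] (p : PrimeSpectrum A) : Type u := κ p ⊗[A] M

/-- reduction to the fibre -/
noncomputable def ν (p : PrimeSpectrum A) : M →ₗ[A] V M p := TensorProduct.mk A (κ p) M 1

lemma ν_apply (p : PrimeSpectrum A) (x : M) : ν p x = (1 : κ p) ⊗ₜ[A] x := rfl

lemma ν_smul (p : PrimeSpectrum A) (a : A) (x : M) :
    ν p (a • x) = algebraMap A (κ p) a • ν p x := by
  rw [map_smul, algebraMap_smul]

/-- the span of the reductions of a family -/
noncomputable def W (p : PrimeSpectrum A) {ι : Type*} (m : ι → M) : Submodule (κ p) (V M p) :=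
  Submodule.span (κ p) (Set.range fun i => ν p (m i))

/-- the rank of a family at a point -/
noncomputable def ρ (p : PrimeSpectrum A) {ι : Type*} (m : ι → M) : ℕ := finrank (κ p) (W p m)

lemma ν_mem_W (p : PrimeSpectrum A) {ι : Type*} (m : ι → M) (i : ι) : ν p (m i) ∈ W p m :=
  Submodule.subset_span ⟨i, rfl⟩

lemma tmul_eq_smul_ν (p : PrimeSpectrum A) (c : κ p) (x : M) : c ⊗ₜ[A] x = c • ν p x := by
  rw [ν_apply, TensorProduct.smul_tmul', smul_eq_mul, mul_one]

lemma span_range_ν (p : PrimeSpectrum A) :
    Submodule.span (κ p) (Set.range (ν (M := M) p)) = ⊤ := by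
  rw [eq_top_iff]
  rintro z -
  induction z using TensorProduct.induction_on with
  | zero => exact Submodule.zero_mem _
  | tmul c x =>
    rw [tmul_eq_smul_ν]
    exact Submodule.smul_mem _ _ (Submodule.subset_span ⟨x, rfl⟩)
  | add a b ha hb => exact Submodule.add_mem _ ha hb

lemma span_ν_image_span (p : PrimeSpectrum A) (S : Set M) :
    Submodule.span (κ p) (ν p '' (Submodule.span A S : Set M)) =
      Submodule.span (κ p) (ν p '' S) := by
  apply le_antisymm
  · rw [Submodule.span_le]
    rintro _ ⟨x, hx, rfl⟩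
    have h : Submodule.span A S ≤
        ((Submodule.span (κ p) (ν p '' S)).restrictScalars A).comap (ν p) :=
      Submodule.span_le.2 fun y hy => Submodule.subset_span ⟨y, hy, rfl⟩
    exact h hx
  · exact Submodule.span_mono (Set.image_mono Submodule.subset_span)

lemma span_ν_image_union (p : PrimeSpectrum A) {ι ι' : Type*} (m : ι → M) (x : ι' → M) :
    Submodule.span (κ p) (ν p '' (Submodule.span A (Set.range m ∪ Set.range x) : Set M)) =
      W p m ⊔ W p x := by
  rw [span_ν_image_span, Set.image_union, Submodule.span_union]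
  unfold W
  congr 2
  · ext z; simp
  · ext z; simp

lemma subsingleton_fibre_quotient_iff (p : PrimeSpectrum A) (N : Submodule A M) :
    Subsingleton (V (M ⧸ N) p) ↔ Submodule.span (κ p) (ν p '' (N : Set M)) = ⊤ := by
  have hex : Function.Exact (LinearMap.lTensor (κ p) N.subtype)
      (LinearMap.lTensor (κ p) N.mkQ) :=
    lTensor_exact (κ p) (LinearMap.exact_subtype_mkQ N) (Submodule.mkQ_surjective N)
  have hsurj : Function.Surjective (LinearMap.lTensor (κ p) N.mkQ) :=
    LinearMap.lTensor_surjective (κ p) (Submodule.mkQ_surjective N)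
  let G : V M p →ₗ[κ p] V (M ⧸ N) p := LinearMap.baseChange (κ p) N.mkQ
  have hker : Submodule.span (κ p) (ν p '' (N : Set M)) ≤ LinearMap.ker G := by
    rw [Submodule.span_le]
    rintro _ ⟨n, hn, rfl⟩
    change G (ν p n) = 0
    rw [ν_apply, LinearMap.baseChange_tmul, Submodule.mkQ_apply,
      (Submodule.Quotient.mk_eq_zero N).2 hn, tmul_zero]
  constructor
  · intro hss
    rw [eq_top_iff]
    rintro z -
    have hz : LinearMap.lTensor (κ p) N.mkQ z = 0 := Subsingleton.elim _ _
    obtain ⟨y, rfl⟩ := (hex z).1 hz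
    clear hz
    induction y using TensorProduct.induction_on with
    | zero => rw [map_zero]; exact Submodule.zero_mem _
    | tmul c n =>
      rw [LinearMap.lTensor_tmul, tmul_eq_smul_ν]
      exact Submodule.smul_mem _ _ (Submodule.subset_span ⟨n, n.2, rfl⟩)
    | add a b ha hb => rw [map_add]; exact Submodule.add_mem _ ha hb
  · intro htop
    have key : ∀ w : V (M ⧸ N) p, w = 0 := by
      intro w
      obtain ⟨z, rfl⟩ := hsurj w
      have hz : z ∈ Submodule.span (κ p) (ν p '' (N : Set M)) := by
        rw [htop]; exact Submodule.mem_top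
      exact LinearMap.mem_ker.1 (hker hz)
    exact ⟨fun w₁ w₂ => by rw [key w₁, key w₂]⟩

section Finite

variable [Module.Finite A M]

lemma ρ_le_card (p : PrimeSpectrum A) {s : ℕ} (x : Fin s → M) : ρ p x ≤ s := by
  have h := finrank_range_le_card (R := κ p) (fun i => ν p (x i))
  rw [Fintype.card_fin] at h
  exact h

lemma ρ_le_finrank (p : PrimeSpectrum A) {ι : Type*} (m : ι → M) :
    ρ p m ≤ finrank (κ p) (V M p) := Submodule.finrank_le _

lemma finrank_sup_le (p : PrimeSpectrum A) {ι ι' : Type*} (m : ι → M) (x : ι' → M) :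
    finrank (κ p) ↥(W p m ⊔ W p x) ≤ ρ p m + ρ p x :=
  Submodule.finrank_add_le_finrank_add_finrank _ _

lemma exists_completion (p : PrimeSpectrum A) :
    ∀ (s : ℕ) (W' : Submodule (κ p) (V M p)),
      finrank (κ p) (V M p) ≤ finrank (κ p) W' + s →
      ∃ x : Fin s → M, W' ⊔ W p x = ⊤ := by
  intro s
  induction s with
  | zero =>
    intro W' h
    refine ⟨fun i => i.elim0, ?_⟩
    have h1 : W' = ⊤ := Submodule.eq_top_of_finrank_eq
      (le_antisymm (Submodule.finrank_le W') (by simpa using h))
    rw [h1, top_sup_eq]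
  | succ s ih =>
    intro W' h
    by_cases hW : W' = ⊤
    · exact ⟨fun _ => 0, by rw [hW, top_sup_eq]⟩
    · have hex : ∃ x₀ : M, ν p x₀ ∉ W' := by
        by_contra hcon
        push Not at hcon
        apply hW
        rw [eq_top_iff, ← span_range_ν p, Submodule.span_le]
        rintro _ ⟨x₀, rfl⟩
        exact hcon x₀
      obtain ⟨x₀, hx₀⟩ := hex
      obtain ⟨W'', hW''⟩ : ∃ W'' : Submodule (κ p) (V M p),
          W'' = W' ⊔ Submodule.span (κ p) {ν p x₀} := ⟨_, rfl⟩
      have hle : W' ≤ W'' := by rw [hW'']; exact le_sup_left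
      have hmem : ν p x₀ ∈ W'' := by
        rw [hW'']
        exact (le_sup_right : Submodule.span (κ p) {ν p x₀} ≤ _)
          (Submodule.mem_span_singleton_self _)
      have hlt : W' < W'' := by
        refine lt_of_le_of_ne hle ?_
        intro heq
        exact hx₀ (heq ▸ hmem)
      have hfr : finrank (κ p) W' < finrank (κ p) W'' := Submodule.finrank_lt_finrank_of_lt hlt
      obtain ⟨x', hx'⟩ := ih W'' (by omega)
      refine ⟨Fin.cons x₀ x', ?_⟩
      rw [eq_top_iff, ← hx', hW'']
      refine sup_le (sup_le le_sup_left ?_) ?_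
      · refine le_trans ?_ le_sup_right
        rw [Submodule.span_le, Set.singleton_subset_iff]
        have h0 : ν p x₀ = ν p ((Fin.cons x₀ x' : Fin (s + 1) → M) 0) := by rw [Fin.cons_zero]
        rw [h0]
        exact ν_mem_W p _ 0
      · refine le_trans ?_ le_sup_right
        apply Submodule.span_mono
        rintro _ ⟨i, rfl⟩
        exact ⟨i.succ, by simp⟩

end Finite

section Step

variable {t : ℕ}

/-- the modified family -/
def modFam (m : Fin (t + 1) → M) (a : Fin t → A) : Fin t → M :=
  fun i => m i.castSucc + a i • m (Fin.last t)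

lemma ν_modFam (p : PrimeSpectrum A) (m : Fin (t + 1) → M) (a : Fin t → A) (i : Fin t) :
    ν p (modFam m a i) =
      ν p (m i.castSucc) + algebraMap A (κ p) (a i) • ν p (m (Fin.last t)) := by
  unfold modFam
  rw [map_add, ν_smul]

lemma ν_castSucc_eq (p : PrimeSpectrum A) (m : Fin (t + 1) → M) (a : Fin t → A) (i : Fin t) :
    ν p (m i.castSucc) =
      ν p (modFam m a i) - algebraMap A (κ p) (a i) • ν p (m (Fin.last t)) := by
  rw [ν_modFam]; abel

lemma W_le_sup (p : PrimeSpectrum A) (m : Fin (t + 1) → M) (a : Fin t → A) :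
    W p m ≤ W p (modFam m a) ⊔ Submodule.span (κ p) {ν p (m (Fin.last t))} := by
  refine Submodule.span_le.2 ?_
  rintro _ ⟨j, rfl⟩
  show ν p (m j) ∈ W p (modFam m a) ⊔ Submodule.span (κ p) {ν p (m (Fin.last t))}
  have hlast : ν p (m (Fin.last t)) ∈
      W p (modFam m a) ⊔ Submodule.span (κ p) {ν p (m (Fin.last t))} :=
    (le_sup_right : Submodule.span (κ p) {ν p (m (Fin.last t))} ≤ _)
      (Submodule.mem_span_singleton_self _)
  refine Fin.lastCases ?_ (fun i => ?_) j
  · exact hlast
  · rw [ν_castSucc_eq p m a i]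
    exact Submodule.sub_mem _
      ((le_sup_left : W p (modFam m a) ≤ _) (ν_mem_W p _ i))
      (Submodule.smul_mem _ _ hlast)

variable [Module.Finite A M]

lemma ρ_le_succ (p : PrimeSpectrum A) (m : Fin (t + 1) → M) (a : Fin t → A) :
    ρ p m ≤ ρ p (modFam m a) + 1 := by
  have h1 : finrank (κ p) (W p m) ≤ finrank (κ p)
      ↥(W p (modFam m a) ⊔ Submodule.span (κ p) {ν p (m (Fin.last t))}) :=
    Submodule.finrank_mono (W_le_sup p m a)
  have h2 := Submodule.finrank_add_le_finrank_add_finrank (W p (modFam m a))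
    (Submodule.span (κ p) {ν p (m (Fin.last t))})
  have h3 : finrank (κ p) (Submodule.span (κ p) ({ν p (m (Fin.last t))} : Set (V M p))) ≤ 1 := by
    refine (finrank_span_le_card ({ν p (m (Fin.last t))} : Set (V M p))).trans ?_
    simp
  unfold ρ
  omega

lemma W_le_of_relation (p : PrimeSpectrum A) (m : Fin (t + 1) → M) (a : Fin t → A)
    (g : Fin (t + 1) → κ p) (hg : ∑ j, g j • ν p (m j) = 0)
    (hL : - g (Fin.last t) + ∑ i : Fin t, g i.castSucc * algebraMap A (κ p) (a i) ≠ 0) :
    W p m ≤ W p (modFam m a) := by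
  have h2 : ∑ i : Fin t, g i.castSucc • ν p (m i.castSucc) =
      - (g (Fin.last t) • ν p (m (Fin.last t))) := by
    rw [Fin.sum_univ_castSucc] at hg
    exact eq_neg_of_add_eq_zero_left hg
  have hsum : ∑ i : Fin t, g i.castSucc • ν p (modFam m a i) =
      (- g (Fin.last t) + ∑ i : Fin t, g i.castSucc * algebraMap A (κ p) (a i)) •
        ν p (m (Fin.last t)) := by
    calc ∑ i : Fin t, g i.castSucc • ν p (modFam m a i)
        = ∑ i : Fin t, (g i.castSucc • ν p (m i.castSucc) +
            (g i.castSucc * algebraMap A (κ p) (a i)) • ν p (m (Fin.last t))) := by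
          refine Finset.sum_congr rfl fun i _ => ?_
          rw [ν_modFam, smul_add, smul_smul]
      _ = ∑ i : Fin t, g i.castSucc • ν p (m i.castSucc) +
            ∑ i : Fin t, (g i.castSucc * algebraMap A (κ p) (a i)) • ν p (m (Fin.last t)) :=
          Finset.sum_add_distrib
      _ = - (g (Fin.last t) • ν p (m (Fin.last t))) +
            (∑ i : Fin t, g i.castSucc * algebraMap A (κ p) (a i)) • ν p (m (Fin.last t)) := by
          rw [h2, Finset.sum_smul]
      _ = _ := by rw [add_smul, neg_smul]
  have hv_mem : ν p (m (Fin.last t)) ∈ W p (modFam m a) := by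
    have h3 : ν p (m (Fin.last t)) =
        (- g (Fin.last t) + ∑ i : Fin t, g i.castSucc * algebraMap A (κ p) (a i))⁻¹ •
          ∑ i : Fin t, g i.castSucc • ν p (modFam m a i) := by
      rw [hsum, smul_smul, inv_mul_cancel₀ hL, one_smul]
    rw [h3]
    exact Submodule.smul_mem _ _
      (Submodule.sum_mem _ fun i _ => Submodule.smul_mem _ _ (ν_mem_W p _ i))
  refine Submodule.span_le.2 ?_
  rintro _ ⟨j, rfl⟩
  show ν p (m j) ∈ W p (modFam m a)
  refine Fin.lastCases ?_ (fun i => ?_) j
  · exact hv_mem
  · rw [ν_castSucc_eq p m a i]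
    exact Submodule.sub_mem _ (ν_mem_W p _ i) (Submodule.smul_mem _ _ hv_mem)

end Step

section Avoid

lemma exists_mem_inf_not_mem (p : PrimeSpectrum A) (T' : Finset (PrimeSpectrum A))
    (h : ∀ q ∈ T', ¬ q.asIdeal ≤ p.asIdeal) :
    ∃ r : A, r ∉ p.asIdeal ∧ ∀ q ∈ T', r ∈ q.asIdeal := by
  classical
  induction T' using Finset.induction_on with
  | empty =>
    exact ⟨1, fun h1 => p.isPrime.ne_top ((Ideal.eq_top_iff_one _).2 h1), by simp⟩
  | insert q T'' hq ih =>
    obtain ⟨r, hr, hrT⟩ := ih (fun q' hq' => h q' (Finset.mem_insert_of_mem hq'))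
    obtain ⟨x, hxq, hxp⟩ := SetLike.not_le_iff_exists.1 (h q (Finset.mem_insert_self _ _))
    refine ⟨r * x, ?_, ?_⟩
    · intro hmem
      rcases p.isPrime.mem_or_mem hmem with h1 | h1
      · exact hr h1
      · exact hxp h1
    · intro q' hq'
      rcases Finset.mem_insert.1 hq' with heq | hq''
      · rw [heq]; exact Ideal.mul_mem_left _ _ hxq
      · exact Ideal.mul_mem_right _ _ (hrT q' hq'')

lemma avoid {t : ℕ} :
    ∀ (n : ℕ) (T : Finset (PrimeSpectrum A)), T.card = n →
    ∀ (c : ∀ p : PrimeSpectrum A, Fin t → κ p) (d : ∀ p : PrimeSpectrum A, κ p),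
    (∀ p ∈ T, d p ≠ 0 ∨ ∃ i, c p i ≠ 0) →
    ∃ a : Fin t → A, ∀ p ∈ T, d p + ∑ i, c p i * algebraMap A (κ p) (a i) ≠ 0 := by
  classical
  intro n
  induction n with
  | zero =>
    intro T hT c d _
    rw [Finset.card_eq_zero] at hT
    subst hT
    exact ⟨fun _ => 0, by simp⟩
  | succ n ih =>
    intro T hT c d hcd
    have hne : T.Nonempty := Finset.card_pos.1 (by omega)
    obtain ⟨p, hp⟩ := Finset.exists_minimal hne
    have hpT : p ∈ T := hp.1
    have hmin : ∀ q ∈ T, q ≤ p → p ≤ q := fun q hq hqp => hp.2 hq hqp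
    have hcard : (T.erase p).card = n := by
      have := Finset.card_erase_of_mem hpT
      omega
    obtain ⟨a, ha⟩ := ih (T.erase p) hcard c d
      (fun q hq => hcd q (Finset.mem_of_mem_erase hq))
    have hnle : ∀ q ∈ T.erase p, ¬ q.asIdeal ≤ p.asIdeal := by
      intro q hq hle
      have hqT := Finset.mem_of_mem_erase hq
      have hqp : q ≤ p := (PrimeSpectrum.asIdeal_le_asIdeal q p).1 hle
      exact (Finset.ne_of_mem_erase hq) (le_antisymm hqp (hmin q hqT hqp))
    obtain ⟨r, hrp, hrq⟩ := exists_mem_inf_not_mem p (T.erase p) hnle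
    by_cases h0 : d p + ∑ i, c p i * algebraMap A (κ p) (a i) ≠ 0
    · refine ⟨a, fun q hq => ?_⟩
      by_cases hqp : q = p
      · rw [hqp]; exact h0
      · exact ha q (Finset.mem_erase.2 ⟨hqp, hq⟩)
    · push Not at h0
      have hi₀ : ∃ i₀, c p i₀ ≠ 0 := by
        rcases hcd p hpT with hd | hc
        · have hsum : ∑ i, c p i * algebraMap A (κ p) (a i) ≠ 0 := by
            intro hs
            rw [hs, add_zero] at h0
            exact hd h0
          obtain ⟨i, _, hi⟩ := Finset.exists_ne_zero_of_sum_ne_zero hsum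
          exact ⟨i, left_ne_zero_of_mul hi⟩
        · exact hc
      obtain ⟨i₀, hi₀⟩ := hi₀
      have key : ∀ q : PrimeSpectrum A,
          ∑ i, c q i * algebraMap A (κ q) ((a + Pi.single i₀ r : Fin t → A) i) =
            ∑ i, c q i * algebraMap A (κ q) (a i) + c q i₀ * algebraMap A (κ q) r := by
        intro q
        have hterm : ∀ i, c q i * algebraMap A (κ q) ((a + Pi.single i₀ r : Fin t → A) i) =
            c q i * algebraMap A (κ q) (a i) +
              c q i * algebraMap A (κ q) ((Pi.single i₀ r : Fin t → A) i) := by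
          intro i
          rw [Pi.add_apply, map_add, mul_add]
        rw [Finset.sum_congr rfl (fun i _ => hterm i), Finset.sum_add_distrib]
        congr 1
        rw [Finset.sum_eq_single i₀]
        · rw [Pi.single_eq_same]
        · intro j _ hj
          rw [Pi.single_eq_of_ne hj, map_zero, mul_zero]
        · intro h
          exact absurd (Finset.mem_univ _) h
      refine ⟨(a + Pi.single i₀ r : Fin t → A), fun q hq => ?_⟩
      rw [key q]
      by_cases hqp : q = p
      · rw [hqp, ← add_assoc, h0, zero_add]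
        exact mul_ne_zero hi₀ (fun h => hrp (Ideal.algebraMap_residueField_eq_zero.1 h))
      · have hq' : q ∈ T.erase p := Finset.mem_erase.2 ⟨hqp, hq⟩
        have hr0 : algebraMap A (κ q) r = 0 :=
          Ideal.algebraMap_residueField_eq_zero.2 (hrq q hq')
        rw [hr0, mul_zero, add_zero]
        exact ha q hq'

end Avoid

end Groth.Agent.Lib.Helper24.BasicEl
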