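import Mathlib
import Groth.Agent.Lib.Helper24.BasicElA

/-!
# Basic elements (Eisenbud–Evans): closed loci, finiteness of critical primes, the main step
-/

set_option maxHeartbeats 400000
set_option linter.style.haveILetI false
set_option linter.unusedSectionVars false
set_option autoImplicit false

universe u

open TensorProduct Module

namespace Groth.Agent.Lib.Helper24.BasicEl

variable {A : Type u} [CommRing A] {M : Type u} [AddCommGroup M] [Module A M]
  [Module.Finite A M]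

/-- the locus where the family has rank at most `w` (for `r` the generic rank) -/
def Ybad {ι : Type*} (m : ι → M) (r w : ℕ) : Set (PrimeSpectrum A) :=
  {p | ∀ s : ℕ, s + w + 1 = r → ∀ x : Fin s → M,
    p ∈ Module.support A (M ⧸ Submodule.span A (Set.range m ∪ Set.range x))}

lemma isClosed_Ybad {ι : Type*} (m : ι → M) (r w : ℕ) : IsClosed (Ybad (A := A) m r w) := by
  have h : Ybad (A := A) m r w = ⋂ (s : ℕ) (_ : s + w + 1 = r) (x : Fin s → M),
      Module.support A (M ⧸ Submodule.span A (Set.range m ∪ Set.range x)) := by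
    ext p
    simp only [Ybad, Set.mem_setOf_eq, Set.mem_iInter]
  rw [h]
  exact isClosed_iInter fun s => isClosed_iInter fun _ => isClosed_iInter fun x =>
    Module.isClosed_support

lemma not_mem_support_iff (p : PrimeSpectrum A) {ι : Type*} (m : ι → M) {s : ℕ}
    (x : Fin s → M) :
    p ∉ Module.support A (M ⧸ Submodule.span A (Set.range m ∪ Set.range x)) ↔
      W p m ⊔ W p x = ⊤ := by
  rw [Module.mem_support_iff_nontrivial_residueField_tensorProduct,
    not_nontrivial_iff_subsingleton, subsingleton_fibre_quotient_iff, span_ν_image_union]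

lemma mem_Ybad_of_ρ_le (p : PrimeSpectrum A) {ι : Type*} (m : ι → M) {r w : ℕ}
    (hr : finrank (κ p) (V M p) = r) (h : ρ p m ≤ w) : p ∈ Ybad m r w := by
  intro s hs x
  by_contra hsupp
  rw [not_mem_support_iff] at hsupp
  have h1 := finrank_sup_le p m x
  rw [hsupp, finrank_top, hr] at h1
  have h2 := ρ_le_card p x
  omega

lemma ρ_le_of_mem_Ybad (p : PrimeSpectrum A) {ι : Type*} (m : ι → M) {r w : ℕ}
    (hr : finrank (κ p) (V M p) = r) (h : p ∈ Ybad m r w) : ρ p m ≤ w := by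
  by_contra hlt
  push Not at hlt
  have hle : ρ p m ≤ r := hr ▸ ρ_le_finrank p m
  obtain ⟨x, hx⟩ := exists_completion p (r - w - 1) (W p m) (by
    rw [hr]
    change r ≤ ρ p m + (r - w - 1)
    omega)
  have hmem := h (r - w - 1) (by omega) x
  exact (not_mem_support_iff p m x).2 hx hmem

lemma finite_minimal_of_isClosed [IsNoetherianRing A] (Y : Set (PrimeSpectrum A))
    (hY : IsClosed Y) : {p | p ∈ Y ∧ ∀ q ∈ Y, q ≤ p → q = p}.Finite := by
  have hYI : PrimeSpectrum.zeroLocus (PrimeSpectrum.vanishingIdeal Y : Set A) = Y := by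
    rw [PrimeSpectrum.zeroLocus_vanishingIdeal_eq_closure, hY.closure_eq]
  have hfin := Ideal.finite_minimalPrimes_of_isNoetherianRing A (PrimeSpectrum.vanishingIdeal Y)
  have hinj : Set.InjOn (PrimeSpectrum.asIdeal (R := A))
      (PrimeSpectrum.asIdeal ⁻¹' (PrimeSpectrum.vanishingIdeal Y).minimalPrimes) :=
    fun a _ b _ h => PrimeSpectrum.ext h
  refine Set.Finite.subset (Set.Finite.preimage hinj hfin) ?_
  rintro p ⟨hpY, hmin⟩
  have hp1 : PrimeSpectrum.vanishingIdeal Y ≤ p.asIdeal := by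
    have : p ∈ PrimeSpectrum.zeroLocus (PrimeSpectrum.vanishingIdeal Y : Set A) := by
      rw [hYI]; exact hpY
    exact (PrimeSpectrum.mem_zeroLocus _ _).1 this
  refine ⟨⟨p.isPrime, hp1⟩, ?_⟩
  rintro J ⟨hJprime, hIJ⟩ hJp
  have hq : (⟨J, hJprime⟩ : PrimeSpectrum A) ∈ Y := by
    rw [← hYI]; exact (PrimeSpectrum.mem_zeroLocus _ _).2 hIJ
  have heq := hmin ⟨J, hJprime⟩ hq ((PrimeSpectrum.asIdeal_le_asIdeal _ _).1 hJp)
  subst heq
  exact le_refl _

variable [IsNoetherianRing A]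

section Main

variable (X : Set (PrimeSpectrum A)) (b : PrimeSpectrum A → ℕ) (r : ℕ)
  (hX1 : ∀ p ∈ X, ∀ q, q < p → q ∈ X ∧ b p < b q)
  (hX2 : ∀ p ∈ X, finrank (κ p) (V M p) = r)

include hX1 hX2

lemma finite_trouble {t : ℕ} (m : Fin (t + 1) → M)
    (hC : ∀ p ∈ X, t + 1 ≤ ρ p m ∨ b p ≤ ρ p m) :
    {p | p ∈ X ∧ ρ p m = b p ∧ b p ≤ t}.Finite := by
  have hsub : {p | p ∈ X ∧ ρ p m = b p ∧ b p ≤ t} ⊆
      ⋃ w ∈ Set.Iic t, {p | p ∈ Ybad m r w ∧ ∀ q ∈ Ybad m r w, q ≤ p → q = p} := by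
    rintro p ⟨hpX, hρ, hbt⟩
    refine Set.mem_iUnion₂.2 ⟨b p, Set.mem_Iic.2 hbt,
      mem_Ybad_of_ρ_le p m (hX2 p hpX) hρ.le, ?_⟩
    intro q hq hqp
    by_contra hne
    have hlt : q < p := lt_of_le_of_ne hqp hne
    obtain ⟨hqX, hbq⟩ := hX1 p hpX q hlt
    have h1 := ρ_le_of_mem_Ybad q m (hX2 q hqX) hq
    have h2 := hC q hqX
    omega
  exact Set.Finite.subset (Set.Finite.biUnion (Set.finite_Iic t) fun w _ =>
    finite_minimal_of_isClosed _ (isClosed_Ybad m r w)) hsub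

lemma step {t : ℕ} (m : Fin (t + 1) → M)
    (hC : ∀ p ∈ X, t + 1 ≤ ρ p m ∨ b p ≤ ρ p m) :
    ∃ a : Fin t → A, ∀ p ∈ X, t ≤ ρ p (modFam m a) ∨ b p ≤ ρ p (modFam m a) := by
  classical
  have hfin := finite_trouble X b r hX1 hX2 m hC
  have hmemT : ∀ p, p ∈ hfin.toFinset ↔ p ∈ X ∧ ρ p m = b p ∧ b p ≤ t := fun p => by
    rw [Set.Finite.mem_toFinset]; rfl
  have hrel : ∀ p : PrimeSpectrum A, ∃ g : Fin (t + 1) → κ p,
      p ∈ hfin.toFinset → (∑ j, g j • ν p (m j) = 0 ∧ ∃ j, g j ≠ 0) := by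
    intro p
    by_cases hp : p ∈ hfin.toFinset
    · obtain ⟨hpX, hρ, hbt⟩ := (hmemT p).1 hp
      have hnli : ¬ LinearIndependent (κ p) (fun j => ν p (m j)) := by
        intro hli
        have h1 := finrank_span_eq_card hli
        rw [Fintype.card_fin] at h1
        have h' : ρ p m = t + 1 := h1
        omega
      obtain ⟨g, hg, hne⟩ := Fintype.not_linearIndependent_iff.1 hnli
      exact ⟨g, fun _ => ⟨hg, hne⟩⟩
    · exact ⟨0, fun h => absurd h hp⟩
  choose g hg using hrel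
  obtain ⟨a, ha⟩ := avoid hfin.toFinset.card hfin.toFinset rfl (fun p i => g p i.castSucc)
    (fun p => - g p (Fin.last t)) (by
      intro p hp
      obtain ⟨_, j, hj⟩ := hg p hp
      rcases Fin.eq_castSucc_or_eq_last j with ⟨i, rfl⟩ | rfl
      · exact Or.inr ⟨i, hj⟩
      · exact Or.inl (neg_ne_zero.2 hj))
  refine ⟨a, fun p hpX => ?_⟩
  have hS1 := ρ_le_succ p m a
  by_cases hp : p ∈ hfin.toFinset
  · obtain ⟨_, hρ, hbt⟩ := (hmemT p).1 hp
    have hle : W p m ≤ W p (modFam m a) :=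
      W_le_of_relation p m a (g p) (hg p hp).1 (ha p hp)
    have hmono : ρ p m ≤ ρ p (modFam m a) := Submodule.finrank_mono hle
    right; omega
  · have hnot : ¬ (ρ p m = b p ∧ b p ≤ t) := fun h => hp ((hmemT p).2 ⟨hpX, h⟩)
    have := hC p hpX
    omega

theorem exists_basic (hb1 : ∀ p ∈ X, 1 ≤ b p) (hbr : ∀ p ∈ X, b p ≤ r) :
    ∃ m₀ : M, ∀ p ∈ X, ν p m₀ ≠ 0 := by
  have key : ∀ (t : ℕ) (m : Fin (t + 1) → M),
      (∀ p ∈ X, t + 1 ≤ ρ p m ∨ b p ≤ ρ p m) → ∃ m₀ : M, ∀ p ∈ X, ν p m₀ ≠ 0 := by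
    intro t
    induction t with
    | zero =>
      intro m hC
      refine ⟨m 0, fun p hpX h0 => ?_⟩
      have hW : W p m = ⊥ := by
        unfold W
        rw [Submodule.span_eq_bot]
        rintro _ ⟨i, rfl⟩
        have hi : i = 0 := @Subsingleton.elim (Fin 1) _ i 0
        rw [hi]; exact h0
      have hρ : ρ p m = 0 := by unfold ρ; rw [hW]; exact finrank_bot _ _
      have h1 := hC p hpX
      have h2 := hb1 p hpX
      omega
    | succ t ih =>
      intro m hC
      obtain ⟨a, ha⟩ := step X b r hX1 hX2 m hC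
      exact ih (modFam m a) ha
  obtain ⟨n, gen, hgen⟩ := Module.Finite.exists_fin (R := A) (M := M)
  refine key n (Fin.cons 0 gen) (fun p hpX => Or.inr ?_)
  have hW : W p (Fin.cons 0 gen : Fin (n + 1) → M) = ⊤ := by
    rw [eq_top_iff, ← span_range_ν p]
    have h1 : Submodule.span (κ p) (ν p '' (Submodule.span A (Set.range gen) : Set M)) =
        Submodule.span (κ p) (ν p '' Set.range gen) := span_ν_image_span p _
    rw [hgen] at h1
    have h2 : (ν p '' ((⊤ : Submodule A M) : Set M)) = Set.range (ν (M := M) p) := by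
      rw [Submodule.top_coe, Set.image_univ]
    rw [h2] at h1
    rw [h1]
    apply Submodule.span_mono
    rintro _ ⟨_, ⟨i, rfl⟩, rfl⟩
    exact ⟨i.succ, by simp⟩
  have hρ : ρ p (Fin.cons 0 gen : Fin (n + 1) → M) = r := by
    unfold ρ; rw [hW, finrank_top]; exact hX2 p hpX
  rw [hρ]; exact hbr p hpX

end Main

end Groth.Agent.Lib.Helper24.BasicEl
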