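import Mathlib
import Groth.Agent.Lib.Helper24.BasicElA

/-!
# Basic elements: local consequences at a prime
-/

set_option maxHeartbeats 400000
set_option linter.style.haveILetI false
set_option linter.unusedSectionVars false
set_option autoImplicit false

universe u

open TensorProduct Module

namespace Groth.Agent.Lib.Helper24.BasicEl

variable {A : Type u} [CommRing A] {M : Type u} [AddCommGroup M] [Module A M]

/-- the local ring at a point -/
abbrev Rl (p : PrimeSpectrum A) : Type u := Localization.AtPrime p.asIdeal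

/-- the multiplicative set at a point -/
abbrev Sl (p : PrimeSpectrum A) : Submonoid A := p.asIdeal.primeCompl

/-- the localized module -/
abbrev El (M : Type u) [AddCommGroup M] [Module A M] (p : PrimeSpectrum A) : Type u :=
  LocalizedModule (Sl p) M

lemma finrank_fibre_of_equiv (p : PrimeSpectrum A) {r : ℕ}
    (e : El M p ≃ₗ[Rl p] (Fin r → Rl p)) : finrank (κ p) (V M p) = r := by
  let e1 : V M p ≃ₗ[κ p] κ p ⊗[Rl p] (Rl p ⊗[A] M) :=
    (AlgebraTensorModule.cancelBaseChange A (Rl p) (κ p) (κ p) M).symm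
  let e2 : (Rl p ⊗[A] M) ≃ₗ[Rl p] (Fin r → Rl p) :=
    (LocalizedModule.equivTensorProduct (Sl p) M).symm ≪≫ₗ e
  let e3 : κ p ⊗[Rl p] (Rl p ⊗[A] M) ≃ₗ[κ p] κ p ⊗[Rl p] (Fin r → Rl p) :=
    LinearEquiv.baseChange (Rl p) (κ p) _ _ e2
  rw [(e1 ≪≫ₗ e3).finrank_eq, Module.finrank_baseChange, Module.finrank_fin_fun]

section Local

variable (p : PrimeSpectrum A) (m₀ : M)

lemma one_tmul_mk_ne_zero (hm₀ : ν p m₀ ≠ 0) :
    ((1 : κ p) ⊗ₜ[Rl p] (LocalizedModule.mk m₀ (1 : Sl p) : El M p)) ≠ 0 := by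
  intro h
  let E1 := (AlgebraTensorModule.cancelBaseChange A (Rl p) (κ p) (κ p) M).symm
  let E2 := LinearEquiv.lTensor (κ p) (LocalizedModule.equivTensorProduct (Sl p) M).symm
  have h1 : E1 ((1 : κ p) ⊗ₜ[A] m₀) = (1 : κ p) ⊗ₜ[Rl p] ((1 : Rl p) ⊗ₜ[A] m₀) :=
    AlgebraTensorModule.cancelBaseChange_symm_tmul A (Rl p) (κ p) _ _
  have h2 : E2 ((1 : κ p) ⊗ₜ[Rl p] ((1 : Rl p) ⊗ₜ[A] m₀)) =
      (1 : κ p) ⊗ₜ[Rl p] (LocalizedModule.mk m₀ (1 : Sl p) : El M p) := by
    rw [LinearEquiv.lTensor_tmul, LocalizedModule.equivTensorProduct_symm_apply_tmul_one]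
  apply hm₀
  have h3 : E2 (E1 (ν p m₀)) = 0 := by rw [ν_apply, h1, h2, h]
  have h4 : E1 (ν p m₀) = 0 := E2.injective (h3.trans (map_zero E2).symm)
  exact E1.injective (h4.trans (map_zero E1).symm)

/-- the localized quotient map -/
noncomputable def gloc : El M p →ₗ[Rl p] El (M ⧸ Submodule.span A {m₀}) p :=
  LocalizedModule.map (Sl p) (Submodule.mkQ (Submodule.span A {m₀}))

/-- the localized orbit map -/
noncomputable def floc : Rl p →ₗ[Rl p] El M p :=
  LinearMap.toSpanSingleton (Rl p) (El M p) (LocalizedModule.mk m₀ 1)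

lemma gloc_mk (n : M) (s : Sl p) :
    gloc p m₀ (LocalizedModule.mk n s) =
      LocalizedModule.mk (Submodule.mkQ (Submodule.span A {m₀}) n) s :=
  LocalizedModule.map_mk _ _ _ _

lemma floc_apply (c : Rl p) : floc p m₀ c = c • (LocalizedModule.mk m₀ 1 : El M p) :=
  LinearMap.toSpanSingleton_apply _ _ _ _

lemma gloc_surjective : Function.Surjective (gloc p m₀) := by
  intro y
  refine LocalizedModule.induction_on (fun q s => ?_) y
  obtain ⟨n, rfl⟩ := Submodule.mkQ_surjective _ q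
  exact ⟨LocalizedModule.mk n s, gloc_mk p m₀ n s⟩

lemma mkQ_self : Submodule.mkQ (Submodule.span A {m₀}) m₀ = 0 :=
  (Submodule.Quotient.mk_eq_zero _).2 (Submodule.mem_span_singleton_self m₀)

lemma gloc_floc (c : Rl p) : gloc p m₀ (floc p m₀ c) = 0 := by
  rw [floc_apply, map_smul, gloc_mk, mkQ_self, LocalizedModule.zero_mk, smul_zero]

lemma gloc_floc_exact : Function.Exact (floc p m₀) (gloc p m₀) := by
  intro y
  constructor
  · refine LocalizedModule.induction_on (fun n s hy => ?_) y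
    rw [gloc_mk, ← LocalizedModule.zero_mk (1 : Sl p), LocalizedModule.mk_eq] at hy
    obtain ⟨u, hu⟩ := hy
    rw [one_smul, smul_zero, smul_zero, Submonoid.smul_def, ← map_smul] at hu
    have hmem : (u : A) • n ∈ Submodule.span A {m₀} :=
      (Submodule.Quotient.mk_eq_zero _).1 hu
    obtain ⟨a, ha⟩ := Submodule.mem_span_singleton.1 hmem
    refine ⟨Localization.mk a (u * s), ?_⟩
    rw [floc_apply, LocalizedModule.mk_smul_mk, mul_one, ha]
    exact LocalizedModule.mk_cancel_common_left u s n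
  · rintro ⟨c, rfl⟩
    exact gloc_floc p m₀ c

lemma lTensor_floc_injective (hm₀ : ν p m₀ ≠ 0) :
    Function.Injective (LinearMap.lTensor (κ p) (floc p m₀)) := by
  rw [injective_iff_map_eq_zero]
  intro z hz
  obtain ⟨c, rfl⟩ : ∃ c : κ p, z = c ⊗ₜ[Rl p] (1 : Rl p) :=
    ⟨TensorProduct.rid (Rl p) (κ p) z, by
      rw [← TensorProduct.rid_symm_apply, LinearEquiv.symm_apply_apply]⟩
  rw [LinearMap.lTensor_tmul] at hz
  have h1 : floc p m₀ 1 = (LocalizedModule.mk m₀ 1 : El M p) := by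
    rw [floc_apply, one_smul]
  rw [h1] at hz
  have h2 : c ⊗ₜ[Rl p] (LocalizedModule.mk m₀ 1 : El M p) =
      c • ((1 : κ p) ⊗ₜ[Rl p] (LocalizedModule.mk m₀ 1 : El M p)) := by
    rw [TensorProduct.smul_tmul', smul_eq_mul, mul_one]
  rw [h2] at hz
  rcases smul_eq_zero.1 hz with hc | hx
  · rw [hc, zero_tmul]
  · exact absurd hx (one_tmul_mk_ne_zero p m₀ hm₀)

theorem local_quotient_free (hm₀ : ν p m₀ ≠ 0) {n : ℕ}
    (e : El M p ≃ₗ[Rl p] (Fin (n + 1) → Rl p)) :
    Function.Injective (floc p m₀) ∧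
      Nonempty (El (M ⧸ Submodule.span A {m₀}) p ≃ₗ[Rl p] (Fin n → Rl p)) := by
  haveI : Module.Free (Rl p) (El M p) := Module.Free.of_equiv e.symm
  haveI : Module.Finite (Rl p) (El M p) := Module.Finite.equiv e.symm
  have hinj := lTensor_floc_injective p m₀ hm₀
  have hsurj := gloc_surjective p m₀
  have hex := gloc_floc_exact p m₀
  haveI : Module.Free (Rl p) (El (M ⧸ Submodule.span A {m₀}) p) :=
    Module.free_of_lTensor_residueField_injective (floc p m₀) (gloc p m₀) hsurj hex hinj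
  haveI : Module.Finite (Rl p) (El (M ⧸ Submodule.span A {m₀}) p) :=
    Module.Finite.of_surjective (gloc p m₀) hsurj
  obtain ⟨l', hl'⟩ :=
    (IsLocalRing.split_injective_iff_lTensor_residueField_injective (floc p m₀)).2 hinj
  have hl : ∀ c, l' (floc p m₀ c) = c := fun c => LinearMap.congr_fun hl' c
  have hfinj : Function.Injective (floc p m₀) := fun c c' h => by rw [← hl c, ← hl c', h]
  refine ⟨hfinj, ?_⟩
  let Φ : El M p →ₗ[Rl p] Rl p × El (M ⧸ Submodule.span A {m₀}) p := l'.prod (gloc p m₀)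
  have hΦ : Function.Bijective Φ := by
    constructor
    · rw [injective_iff_map_eq_zero]
      intro y hy
      have h1 : l' y = 0 := congrArg Prod.fst hy
      have h2 : gloc p m₀ y = 0 := congrArg Prod.snd hy
      obtain ⟨c, rfl⟩ := (hex y).1 h2
      rw [hl] at h1
      rw [h1, map_zero]
    · rintro ⟨c, q⟩
      obtain ⟨y₀, rfl⟩ := hsurj q
      refine ⟨y₀ - floc p m₀ (l' y₀) + floc p m₀ c, ?_⟩
      apply Prod.ext
      · show l' (y₀ - floc p m₀ (l' y₀) + floc p m₀ c) = c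
        rw [map_add, map_sub, hl, hl, sub_self, zero_add]
      · show gloc p m₀ (y₀ - floc p m₀ (l' y₀) + floc p m₀ c) = gloc p m₀ y₀
        rw [map_add, map_sub, gloc_floc, gloc_floc, sub_zero, add_zero]
  have hrank : finrank (Rl p) (El M p) =
      finrank (Rl p) (Rl p × El (M ⧸ Submodule.span A {m₀}) p) :=
    (LinearEquiv.ofBijective Φ hΦ).finrank_eq
  rw [Module.finrank_prod, Module.finrank_self, e.finrank_eq, Module.finrank_fin_fun] at hrank
  have hQ : finrank (Rl p) (El (M ⧸ Submodule.span A {m₀}) p) = n := by omega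
  exact ⟨(Module.finBasisOfFinrankEq (Rl p) _ hQ).equivFun⟩

lemma exists_smul_eq_zero (hm₀ : ν p m₀ ≠ 0) {n : ℕ}
    (e : El M p ≃ₗ[Rl p] (Fin (n + 1) → Rl p)) (a : A) (ha : a • m₀ = 0) :
    ∃ s : Sl p, (s : A) * a = 0 := by
  have hinj := (local_quotient_free p m₀ hm₀ e).1
  have h0 : floc p m₀ (algebraMap A (Rl p) a) = 0 := by
    rw [floc_apply, ← Localization.mk_one_eq_algebraMap, LocalizedModule.mk_smul_mk, ha,
      LocalizedModule.zero_mk]
  have h1 : algebraMap A (Rl p) a = 0 := hinj (h0.trans (map_zero _).symm)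
  exact (IsLocalization.map_eq_zero_iff (Sl p) (Rl p) a).1 h1

end Local

end Groth.Agent.Lib.Helper24.BasicEl
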