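import Mathlib
import Groth.Agent.Lib.Helper24.BasicElB
import Groth.Agent.Lib.Helper24.BasicElC

/-!
# Basic elements: free submodules with free quotient in low height
-/

set_option maxHeartbeats 400000
set_option linter.style.haveILetI false
set_option linter.unusedSectionVars false
set_option autoImplicit false

universe u

open TensorProduct Module

namespace Groth.Agent.Lib.Helper24.BasicEl

variable {A : Type u} [CommRing A] {M : Type u} [AddCommGroup M] [Module A M]

/-- extending a free submodule of a quotient by a torsion-free cyclic submodule -/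
lemma assemble (S₀ : Submodule A M) (m₀ : M) (hm₀S : m₀ ∈ S₀)
    (hgen : ∀ x ∈ S₀, ∃ a : A, a • m₀ = x) (hann : ∀ a : A, a • m₀ = 0 → a = 0)
    {d : ℕ} (N₁ : Submodule A (M ⧸ S₀)) (e₁ : N₁ ≃ₗ[A] (Fin d → A)) :
    ∃ N : Submodule A M, Nonempty (N ≃ₗ[A] (Fin (d + 1) → A)) ∧
      Nonempty ((M ⧸ N) ≃ₗ[A] ((M ⧸ S₀) ⧸ N₁)) := by
  classical
  let bN : Module.Basis (Fin d) A N₁ := Module.Basis.ofEquivFun e₁
  have hlift : ∀ i, ∃ x : M, S₀.mkQ x = (bN i : M ⧸ S₀) := fun i =>
    Submodule.mkQ_surjective _ _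
  choose ñ hñ using hlift
  have hm0 : S₀.mkQ m₀ = 0 := (Submodule.Quotient.mk_eq_zero _).2 hm₀S
  obtain ⟨v, hv⟩ : ∃ v : Fin (d + 1) → M, v = Fin.cons m₀ ñ := ⟨_, rfl⟩
  have hv0 : v 0 = m₀ := by rw [hv, Fin.cons_zero]
  have hvs : ∀ i : Fin d, v i.succ = ñ i := fun i => by rw [hv, Fin.cons_succ]
  have hli : LinearIndependent A v := by
    rw [Fintype.linearIndependent_iff]
    intro c hc
    rw [Fin.sum_univ_succ, hv0] at hc
    simp only [hvs] at hc
    have h1 := congrArg S₀.mkQ hc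
    rw [map_add, map_smul, map_sum, map_zero, hm0, smul_zero, zero_add] at h1
    simp only [map_smul, hñ] at h1
    have h2 : ∑ i, c i.succ • bN i = 0 := by
      apply Subtype.ext
      rw [Submodule.coe_sum]
      simpa using h1
    have h3 := Fintype.linearIndependent_iff.1 bN.linearIndependent (fun i => c i.succ) h2
    have h4 : c 0 = 0 := by
      apply hann
      simpa [h3] using hc
    intro j
    exact Fin.cases h4 (fun i => h3 i) j
  let φ : M →ₗ[A] (M ⧸ S₀) ⧸ N₁ := N₁.mkQ ∘ₗ S₀.mkQ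
  have hφ : Function.Surjective φ :=
    (Submodule.mkQ_surjective _).comp (Submodule.mkQ_surjective _)
  have hφ_apply : ∀ x, φ x = N₁.mkQ (S₀.mkQ x) := fun x => rfl
  have hker : Submodule.span A (Set.range v) = LinearMap.ker φ := by
    apply le_antisymm
    · rw [Submodule.span_le]
      rintro _ ⟨j, rfl⟩
      rw [SetLike.mem_coe, LinearMap.mem_ker, hφ_apply, Submodule.mkQ_apply N₁,
        Submodule.Quotient.mk_eq_zero]
      refine Fin.cases ?_ (fun i => ?_) j
      · rw [hv0, hm0]; exact N₁.zero_mem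
      · rw [hvs, hñ]; exact (bN i).2
    · intro x hx
      rw [LinearMap.mem_ker, hφ_apply, Submodule.mkQ_apply N₁,
        Submodule.Quotient.mk_eq_zero] at hx
      have hy := bN.sum_repr ⟨S₀.mkQ x, hx⟩
      have hy' : ∑ i, (bN.repr ⟨S₀.mkQ x, hx⟩ i) • (bN i : M ⧸ S₀) = S₀.mkQ x := by
        have := congrArg Subtype.val hy
        rw [Submodule.coe_sum] at this
        simpa using this
      have hdiff : x - ∑ i, (bN.repr ⟨S₀.mkQ x, hx⟩ i) • ñ i ∈ S₀ := by
        rw [← Submodule.Quotient.mk_eq_zero S₀, ← Submodule.mkQ_apply, map_sub, map_sum]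
        simp only [map_smul, hñ]
        rw [hy', sub_self]
      have h1 : x - ∑ i, (bN.repr ⟨S₀.mkQ x, hx⟩ i) • ñ i ∈
          Submodule.span A (Set.range v) := by
        obtain ⟨a, ha⟩ := hgen _ hdiff
        rw [← ha]
        exact Submodule.smul_mem _ _ (Submodule.subset_span ⟨0, hv0⟩)
      have h2 : ∑ i, (bN.repr ⟨S₀.mkQ x, hx⟩ i) • ñ i ∈ Submodule.span A (Set.range v) :=
        Submodule.sum_mem _ fun i _ =>
          Submodule.smul_mem _ _ (Submodule.subset_span ⟨i.succ, hvs i⟩)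
      have h3 := Submodule.add_mem _ h1 h2
      rwa [sub_add_cancel] at h3
  refine ⟨Submodule.span A (Set.range v), ⟨(Module.Basis.span hli).equivFun⟩, ?_⟩
  exact ⟨(Submodule.quotEquivOfEq _ _ hker).trans (LinearMap.quotKerEquivOfSurjective φ hφ)⟩

/-- localizing a linear equivalence -/
noncomputable def locEquiv (p : PrimeSpectrum A) {M' : Type u} [AddCommGroup M'] [Module A M']
    (e : M ≃ₗ[A] M') : El M p ≃ₗ[Rl p] El M' p :=
  IsLocalizedModule.mapEquiv (Sl p) (LocalizedModule.mkLinearMap (Sl p) M)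
    (LocalizedModule.mkLinearMap (Sl p) M') (Rl p) e

theorem exists_free_submodule (A : Type u) [CommRing A] [IsNoetherianRing A] (k : ℕ)
    (hAss : ∀ p ∈ associatedPrimes A A, p.height ≤ k) :
    ∀ (d r : ℕ), r = k + d → ∀ (M : Type u) [AddCommGroup M] [Module A M] [Module.Finite A M],
    (∀ p : PrimeSpectrum A, p.asIdeal.height ≤ k →
      Nonempty (El M p ≃ₗ[Rl p] (Fin r → Rl p))) →
    ∃ N : Submodule A M, Nonempty (N ≃ₗ[A] (Fin d → A)) ∧
      ∀ p : PrimeSpectrum A, p.asIdeal.height ≤ k →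
        Nonempty (El (M ⧸ N) p ≃ₗ[Rl p] (Fin k → Rl p)) := by
  intro d
  induction d with
  | zero =>
    intro r hr M _ _ _ hM
    subst hr
    refine ⟨⊥, ⟨LinearEquiv.ofSubsingleton _ _⟩, fun p hp => ?_⟩
    obtain ⟨e⟩ := hM p hp
    exact ⟨(locEquiv p (Submodule.quotEquivOfEqBot (⊥ : Submodule A M) rfl)).trans e⟩
  | succ d ih =>
    intro r hr M _ _ _ hM
    obtain ⟨n, rfl⟩ : ∃ n, r = n + 1 := ⟨k + d, by omega⟩
    have hn : n = k + d := by omega
    have hfin : ∀ p : PrimeSpectrum A, p.asIdeal.height ≤ k →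
        ∃ x : ℕ, p.asIdeal.height = x ∧ x ≤ k := by
      intro p hp
      have hne : p.asIdeal.height ≠ ⊤ := ne_top_of_le_ne_top (ENat.coe_ne_top k) hp
      refine ⟨p.asIdeal.height.toNat, (ENat.coe_toNat hne).symm, ?_⟩
      have h1 : ((p.asIdeal.height.toNat : ℕ) : ℕ∞) ≤ k := by rw [ENat.coe_toNat hne]; exact hp
      exact_mod_cast h1
    have hX1 : ∀ p ∈ {p : PrimeSpectrum A | p.asIdeal.height ≤ k}, ∀ q, q < p →
        q ∈ {p : PrimeSpectrum A | p.asIdeal.height ≤ k} ∧
          k + 1 - p.asIdeal.height.toNat < k + 1 - q.asIdeal.height.toNat := by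
      intro p hp q hqp
      have hp' : p.asIdeal.height ≤ k := hp
      have h1 : q.asIdeal.height + 1 ≤ p.asIdeal.height :=
        Ideal.height_add_one_le_of_lt_of_isPrime ((PrimeSpectrum.asIdeal_lt_asIdeal q p).2 hqp)
      have hq' : q.asIdeal.height ≤ k := le_trans (le_trans le_self_add h1) hp'
      refine ⟨hq', ?_⟩
      obtain ⟨x, hx, hxk⟩ := hfin p hp'
      obtain ⟨y, hy, hyk⟩ := hfin q hq'
      rw [hx, hy] at h1
      rw [hx, hy, ENat.toNat_coe, ENat.toNat_coe]
      have h1' : y + 1 ≤ x := by exact_mod_cast h1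
      omega
    have hX2 : ∀ p ∈ {p : PrimeSpectrum A | p.asIdeal.height ≤ k},
        finrank (κ p) (V M p) = n + 1 := by
      intro p hp
      obtain ⟨e⟩ := hM p hp
      exact finrank_fibre_of_equiv p e
    have hb1 : ∀ p ∈ {p : PrimeSpectrum A | p.asIdeal.height ≤ k},
        1 ≤ k + 1 - p.asIdeal.height.toNat := by
      intro p hp
      obtain ⟨x, hx, hxk⟩ := hfin p hp
      rw [hx, ENat.toNat_coe]
      omega
    have hbr : ∀ p ∈ {p : PrimeSpectrum A | p.asIdeal.height ≤ k},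
        k + 1 - p.asIdeal.height.toNat ≤ n + 1 := by
      intro p _
      omega
    obtain ⟨m₀, hm₀⟩ := exists_basic {p : PrimeSpectrum A | p.asIdeal.height ≤ k}
      (fun p => k + 1 - p.asIdeal.height.toNat) (n + 1) hX1 hX2 hb1 hbr
    have hM₁ : ∀ p : PrimeSpectrum A, p.asIdeal.height ≤ k →
        Nonempty (El (M ⧸ Submodule.span A {m₀}) p ≃ₗ[Rl p] (Fin n → Rl p)) := by
      intro p hp
      obtain ⟨e⟩ := hM p hp
      exact (local_quotient_free p m₀ (hm₀ p hp) e).2
    obtain ⟨N₁, ⟨e₁⟩, hN₁⟩ := ih n hn (M ⧸ Submodule.span A {m₀}) hM₁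
    have hann : ∀ a : A, a • m₀ = 0 → a = 0 := by
      intro a ha
      by_contra hne
      obtain ⟨P, hP, hle⟩ := exists_le_isAssociatedPrime_of_isNoetherianRing A (a : A) hne
      have hPprime : P.IsPrime := hP.isPrime
      have hht : P.height ≤ k := hAss P hP
      obtain ⟨e⟩ := hM ⟨P, hPprime⟩ hht
      obtain ⟨s, hs⟩ := exists_smul_eq_zero ⟨P, hPprime⟩ m₀ (hm₀ ⟨P, hPprime⟩ hht) e a ha
      have hsP : (s : A) ∈ P := hle (Submodule.mem_colon_singleton.2 (by
        rw [smul_eq_mul, hs]; exact Submodule.zero_mem _))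
      exact (Ideal.mem_primeCompl_iff.1 s.2) hsP
    obtain ⟨N, ⟨eN⟩, ⟨eQ⟩⟩ := assemble (Submodule.span A {m₀}) m₀
      (Submodule.mem_span_singleton_self m₀)
      (fun x hx => Submodule.mem_span_singleton.1 hx) hann N₁ e₁
    refine ⟨N, ⟨eN⟩, fun p hp => ?_⟩
    obtain ⟨e₂⟩ := hN₁ p hp
    exact ⟨(locEquiv p eQ).trans e₂⟩

end Groth.Agent.Lib.Helper24.BasicEl
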