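import Mathlib
import Groth.Prelude.Def_FlatCA
import Groth.Prelude.Def_Flat
import Groth.Agent.Lib.Helper24.BCDevB

/-!
# Base change of a complete dévissage datum along a map with bijective residue field: one index
-/

set_option autoImplicit false
set_option maxHeartbeats 1600000
set_option linter.style.haveILetI false
set_option linter.unusedSectionVars false
set_option linter.unusedVariables false

universe u

namespace Groth.Agent.Lib.Helper24.CDevAt

open TensorProduct TopologicalSpace Topology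
open Groth.Agent.Lib.Helper24.Shrink Groth.Agent.Lib.Helper24.BCDev

attribute [local instance] Algebra.TensorProduct.rightAlgebra

section Gen

variable {R S R' S' : Type u} [CommRing R] [CommRing S] [CommRing R'] [CommRing S']
  [Algebra R S] [Algebra R R'] [Algebra S S'] [Algebra R' S'] [Algebra R S']
  [IsScalarTower R R' S'] [IsScalarTower R S S']
  (p : Ideal R) [hp : p.IsPrime] (p' : Ideal R') [hp' : p'.IsPrime]

variable {N N' : Type u} [AddCommGroup N] [Module S N] [Module.Finite S N]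
  [AddCommGroup N'] [Module S' N'] [Module S N'] [IsScalarTower S S' N'] [Module.Finite S' N']

/-- transfer of the local dimension of the fibre support along an open embedding of fibre
spectra. -/
theorem loc_transfer (hp'p : p'.comap (algebraMap R R') = p)
    (hoe : IsOpenEmbedding (psi0 (S := S) (S' := S') p p' hp'p))
    (f : N →ₗ[S] N') (hf : IsBaseChange S' f) (n : ℕ)
    (Q : Ideal S) [hQ : Q.IsPrime] (Q' : Ideal S') [hQ' : Q'.IsPrime]
    (hQ'Q : Q'.comap (algebraMap S S') = Q) (hQ'p' : Q'.comap (algebraMap R' S') = p')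
    (h1 : ∃ (ξ : PrimeSpectrum (p.Fiber S))
      (hξ : ξ ∈ Module.support (p.Fiber S) ((p.Fiber S) ⊗[S] N)),
      ξ.asIdeal = FlatCA.fiberIdeal p Q ∧
      FlatMor.localDim (Module.support (p.Fiber S) ((p.Fiber S) ⊗[S] N)) ⟨ξ, hξ⟩ = n) :
    ∃ (ξ' : PrimeSpectrum (p'.Fiber S'))
      (hξ' : ξ' ∈ Module.support (p'.Fiber S') ((p'.Fiber S') ⊗[S'] N')),
      ξ'.asIdeal = FlatCA.fiberIdeal p' Q' ∧
      FlatMor.localDim (Module.support (p'.Fiber S') ((p'.Fiber S') ⊗[S'] N')) ⟨ξ', hξ'⟩ = n := by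
  obtain ⟨ξ, hξ, hξQ, hloc⟩ := h1
  obtain ⟨ξ', hξ'⟩ := exists_cS_eq p' ⟨Q', hQ'⟩ hQ'p'
  have hξ'Q : ξ'.asIdeal = FlatCA.fiberIdeal p' Q' := by
    rw [asIdeal_eq_map p' ξ', hξ']
  have hQp : Q.comap (algebraMap R S) = p := by
    rw [← hQ'Q, comap_comm (R := R) (S := S) (R' := R') (S' := S'), hQ'p', hp'p]
  obtain ⟨ξ₀, hξ₀⟩ := exists_cS_eq p ⟨Q, hQ⟩ hQp
  have hξ₀ξ : ξ₀ = ξ := by
    apply PrimeSpectrum.ext
    rw [asIdeal_eq_map p ξ₀, hξ₀, hξQ]
  have hpsi : psi0 p p' hp'p ξ' = ξ := by
    apply (cS_isEmbedding p).injective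
    rw [cS_psi0, hξ', ← hξ₀ξ, hξ₀]
    exact PrimeSpectrum.ext hQ'Q
  have hiff := mem_support_psi0_iff (N := N) (N' := N') p p' hp'p f hf
  have hmemξ' : ξ' ∈ Module.support (p'.Fiber S') ((p'.Fiber S') ⊗[S'] N') :=
    (hiff ξ').mpr (hpsi ▸ hξ)
  let ψ : Module.support (p'.Fiber S') ((p'.Fiber S') ⊗[S'] N') →
      Module.support (p.Fiber S) ((p.Fiber S) ⊗[S] N) :=
    fun t => ⟨psi0 p p' hp'p t.1, (hiff t.1).mp t.2⟩
  have hψc : Continuous ψ :=
    (hoe.continuous.comp continuous_subtype_val).subtype_mk _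
  have hψe : IsEmbedding ψ :=
    IsEmbedding.of_comp hψc continuous_subtype_val (hoe.isEmbedding.comp IsEmbedding.subtypeVal)
  have hrange : Set.range ψ = Subtype.val ⁻¹' Set.range (psi0 (S := S) (S' := S') p p' hp'p) := by
    ext t
    constructor
    · rintro ⟨t', rfl⟩
      exact ⟨t'.1, rfl⟩
    · rintro ⟨x', hx'⟩
      exact ⟨⟨x', (hiff x').mpr (hx' ▸ t.2)⟩, Subtype.ext hx'⟩
  have hψ : IsOpenEmbedding ψ :=
    ⟨hψe, by rw [hrange]; exact hoe.isOpen_range.preimage continuous_subtype_val⟩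
  have hlocT' : FlatMor.localDim (Module.support (p'.Fiber S') ((p'.Fiber S') ⊗[S'] N'))
      ⟨ξ', hmemξ'⟩ = n := by
    rw [localDim_eq_of_isOpenEmbedding ψ hψ ⟨ξ', hmemξ'⟩]
    have h0 : ψ ⟨ξ', hmemξ'⟩ = ⟨ξ, hξ⟩ := Subtype.ext hpsi
    rw [h0]
    exact hloc
  exact ⟨ξ', hmemξ', hξ'Q, hlocT'⟩

end Gen

section Over

variable {R S R' S' : Type u} [CommRing R] [CommRing S] [CommRing R'] [CommRing S']
  [Algebra R S] [Algebra R R'] [Algebra S S'] [Algebra R' S'] [Algebra R S']
  [IsScalarTower R R' S'] [IsScalarTower R S S'] [Algebra.IsPushout R R' S S']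
  (p : Ideal R) [hp : p.IsPrime] (p' : Ideal R') [hp' : p'.IsPrime] [hpp : p'.LiesOver p]
  (hκ : Function.Bijective (Ideal.ResidueField.mapₐ p p' (Algebra.ofId R R') hpp.over))

include hκ in
/-- a prime of `S` over `p` is the contraction of a prime of `S'` over `p'` -/
theorem exists_over (y : Ideal S) [hy : y.IsPrime] [hyp : y.LiesOver p] :
    ∃ y' : Ideal S', y'.IsPrime ∧ y'.LiesOver y ∧ y'.LiesOver p' := by
  have hh := psi0_isHomeomorph (S := S) (S' := S') p p' hκ
  obtain ⟨x, hx⟩ := exists_cS_eq p ⟨y, hy⟩ hyp.over.symm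
  obtain ⟨x', hx'⟩ := hh.surjective x
  refine ⟨(cS p' x').asIdeal, (cS p' x').isPrime, ⟨?_⟩, ⟨?_⟩⟩
  · have h := cS_psi0 (S := S) (S' := S') p p' hpp.over.symm x'
    rw [hx', hx] at h
    exact congrArg PrimeSpectrum.asIdeal h
  · exact (cS_comap p' x').symm

end Over

section Step

open AlgebraicGeometry in
/-- the per-index facts for the base-changed complete dévissage datum -/
theorem step
    {R R' : Type u} [CommRing R] [CommRing R'] [Algebra R R']
    (p : Ideal R) [hp : p.IsPrime] (p' : Ideal R') [hp' : p'.IsPrime] [hpp : p'.LiesOver p]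
    (hκ : Function.Bijective (Ideal.ResidueField.mapₐ p p' (Algebra.ofId R R') hpp.over))
    {B A B' A' : Type u} [CommRing B] [CommRing A] [CommRing B'] [CommRing A']
    [Algebra R B] [Algebra R A] [Algebra B A] [IsScalarTower R B A]
    [Algebra R' B'] [Algebra R' A'] [Algebra B' A'] [IsScalarTower R' B' A']
    [Algebra B B'] [Algebra R B'] [IsScalarTower R R' B'] [IsScalarTower R B B']
    [Algebra A A'] [Algebra R A'] [IsScalarTower R R' A'] [IsScalarTower R A A']
    [Algebra B A'] [IsScalarTower B A A'] [IsScalarTower B B' A']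
    [Algebra.IsPushout R R' B B'] [Algebra.IsPushout R R' A A']
    [Module.Finite B A]
    {M M' : Type u} [AddCommGroup M] [Module A M] [Module B M] [IsScalarTower B A M]
    [Module.Finite A M]
    [AddCommGroup M'] [Module A' M'] [Module B' M'] [IsScalarTower B' A' M']
    [Module A M'] [IsScalarTower A A' M']
    (gM : M →ₗ[A] M') (hgM : IsBaseChange A' gM)
    (QB : Ideal B) [hQB : QB.IsPrime] [hQBp : QB.LiesOver p]
    (QA : Ideal A) [hQA : QA.IsPrime] [hQAQB : QA.LiesOver QB]
    (d : ℕ)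
    (hpt : FlatCA.PurelyTranscendental p QB)
    (huniq : ∀ (Q : Ideal A) [Q.IsPrime], Q.LiesOver QB → Q = QA)
    (hsm : FlatCA.SmoothRelDim d R B) (hgi : FlatCA.GeomIrredFibres R B)
    (hloc : ∃ (x : PrimeSpectrum (p.Fiber B))
      (hx : x ∈ Module.support (p.Fiber B) (FlatCA.fiberMod p B M)),
      x.asIdeal = FlatCA.fiberIdeal p QB ∧
      FlatMor.localDim (Module.support (p.Fiber B) (FlatCA.fiberMod p B M)) ⟨x, hx⟩ = d)
    (QB' : Ideal B') [hQB' : QB'.IsPrime] [hQB'p' : QB'.LiesOver p'] [hQB'QB : QB'.LiesOver QB]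
    (QA' : Ideal A') [hQA' : QA'.IsPrime] [hQA'p' : QA'.LiesOver p'] [hQA'QA : QA'.LiesOver QA] :
    QA'.LiesOver QB' ∧ FlatCA.PurelyTranscendental p' QB' ∧
    (∀ (Q : Ideal A') [Q.IsPrime], Q.LiesOver QB' → Q = QA') ∧
    FlatCA.SmoothRelDim d R' B' ∧
    ∃ (x : PrimeSpectrum (p'.Fiber B'))
      (hx : x ∈ Module.support (p'.Fiber B') (FlatCA.fiberMod p' B' M')),
      x.asIdeal = FlatCA.fiberIdeal p' QB' ∧
      FlatMor.localDim (Module.support (p'.Fiber B') (FlatCA.fiberMod p' B' M')) ⟨x, hx⟩ = d := by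
  classical
  have hp'p : p'.comap (algebraMap R R') = p := hpp.over.symm
  have hhB := psi0_isHomeomorph (S := B) (S' := B') p p' hκ
  have hhA := psi0_isHomeomorph (S := A) (S' := A') p p' hκ
  have hQB'QB₀ : QB'.comap (algebraMap B B') = QB := hQB'QB.over.symm
  have hQB'p'₀ : QB'.comap (algebraMap R' B') = p' := hQB'p'.over.symm
  have hQA'QA₀ : QA'.comap (algebraMap A A') = QA := hQA'QA.over.symm
  have hQA'p'₀ : QA'.comap (algebraMap R' A') = p' := hQA'p'.over.symm
  have hQAQB₀ : QA.comap (algebraMap B A) = QB := hQAQB.over.symm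
  -- (1) QA' over QB'
  have h1 : QA'.comap (algebraMap B' A') = QB' := by
    refine unique_over p p' hp'p hhB.injective _ QB' ?_ hQB'p'₀ ?_
    · rw [Ideal.comap_comap, ← IsScalarTower.algebraMap_eq, hQA'p'₀]
    · rw [Ideal.comap_comap, ← IsScalarTower.algebraMap_eq, IsScalarTower.algebraMap_eq B A A',
        ← Ideal.comap_comap, hQA'QA₀, hQAQB₀, hQB'QB₀]
  -- pushouts
  haveI tRB'A' : IsScalarTower R B' A' := IsScalarTower.of_algebraMap_eq fun r => by
    rw [IsScalarTower.algebraMap_apply R R' A', IsScalarTower.algebraMap_apply R' B' A',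
      ← IsScalarTower.algebraMap_apply R R' B']
  haveI pRBR'B' : Algebra.IsPushout R B R' B' := Algebra.IsPushout.symm inferInstance
  haveI pRAR'A' : Algebra.IsPushout R A R' A' := Algebra.IsPushout.symm inferInstance
  have hPBA : Algebra.IsPushout B A B' A' :=
    (Algebra.IsPushout.comp_iff R B R' (S' := B') (T := A) (T' := A')).mp inferInstance
  haveI hPBA' : Algebra.IsPushout B B' A A' := hPBA.symm
  -- the module structure of `B` on `M'` and the `B`-linear map
  letI mBM' : Module B M' := Module.compHom M' (algebraMap B B')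
  haveI tBB'M' : IsScalarTower B B' M' := ⟨fun b b' m => by
    rw [Algebra.smul_def, mul_smul]
    rfl⟩
  let f : M →ₗ[B] M' :=
    { toFun := gM
      map_add' := gM.map_add
      map_smul' := fun b m => by
        show gM (b • m) = algebraMap B B' b • gM m
        calc gM (b • m) = gM (algebraMap B A b • m) := by rw [algebraMap_smul]
          _ = algebraMap B A b • gM m := gM.map_smul _ _
          _ = algebraMap A A' (algebraMap B A b) • gM m := (algebraMap_smul A' _ _).symm
          _ = algebraMap B' A' (algebraMap B B' b) • gM m := by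
                rw [← IsScalarTower.algebraMap_apply B A A', IsScalarTower.algebraMap_apply B B' A']
          _ = algebraMap B B' b • gM m := algebraMap_smul A' _ _ }
  have hf : IsBaseChange B' f := by
    refine IsBaseChange.of_equiv ((Algebra.IsPushout.cancelBaseChange B B' A A' M).symm ≪≫ₗ
      hgM.equiv.restrictScalars B') (fun x => ?_)
    rw [LinearEquiv.trans_apply, Algebra.IsPushout.cancelBaseChange_symm_tmul, map_one]
    exact (hgM.equiv_tmul 1 x).trans (one_smul _ _)
  haveI : Module.Finite B M := Module.Finite.trans A M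
  haveI : Module.Finite B' M' := Module.Finite.equiv hf.equiv
  have hsg := smooth_geomIrred_bc (R := R) (D := B) (R' := R') (D' := B') d hsm hgi
  refine ⟨⟨h1.symm⟩, ?_, ?_, hsg.1, ?_⟩
  · exact purelyTranscendental_transfer p QB p' QB' hκ
      (residue_bijective (S := B) (S' := B') p p' hκ QB QB') hpt
  · intro Q hQ hQQB'
    haveI := hQ
    have hQy : Q.comap (algebraMap B' A') = QB' := hQQB'.over.symm
    have hQp' : Q.comap (algebraMap R' A') = p' := by
      rw [IsScalarTower.algebraMap_eq R' B' A', ← Ideal.comap_comap, hQy, hQB'p'₀]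
    have hQQA : Q.comap (algebraMap A A') = QA := by
      refine huniq (Q.comap (algebraMap A A')) ⟨?_⟩
      show QB = (Q.comap (algebraMap A A')).comap (algebraMap B A)
      rw [Ideal.comap_comap, ← IsScalarTower.algebraMap_eq, IsScalarTower.algebraMap_eq B B' A',
        ← Ideal.comap_comap, hQy, hQB'QB₀]
    exact unique_over p p' hp'p hhA.injective Q QA' hQp' hQA'p'₀ (hQQA.trans hQA'QA₀.symm)
  · exact loc_transfer (R := R) (S := B) (R' := R') (S' := B') (N := M) (N' := M')
      p p' hp'p hhB.isOpenEmbedding f hf d QB QB' hQB'QB₀ hQB'p'₀ hloc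

end Step

end Groth.Agent.Lib.Helper24.CDevAt
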