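import Mathlib
import Groth.Prelude.Def_FlatCA
import Groth.Prelude.Def_Flat
import Groth.Agent.Lib.Helper24.CDevAtA

/-!
# Base change of a complete dévissage datum along a map with bijective residue field
-/

set_option autoImplicit false
set_option maxHeartbeats 1600000
set_option linter.style.haveILetI false
set_option linter.unusedSectionVars false
set_option linter.unusedVariables false

universe u

namespace Groth.Agent.Lib.Helper24.CDevAt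

open TensorProduct
open Groth.Agent.Lib.Helper24.Shrink Groth.Agent.Lib.Helper24.BCDev

open TensorProduct in
theorem main44
    (R S : Type u) [CommRing R] [CommRing S] [Algebra R S] [Algebra.FiniteType R S]
    (N : Type u) [AddCommGroup N] [Module S N] [Module.Finite S N]
    (p : Ideal R) [p.IsPrime] (q : Ideal S) [q.IsPrime] (𝒟 : FlatCA.CompleteDevissage R S N p)
    (𝒜 : FlatCA.CompleteDevissageAt R S N p q 𝒟)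
    (R' : Type u) [CommRing R'] [Algebra R R'] (p' : Ideal R') [p'.IsPrime] [hp' : p'.LiesOver p]
    (hκ : Function.Bijective (Ideal.ResidueField.mapₐ p p' (Algebra.ofId R R') hp'.over))
    (S' : Type u) [CommRing S'] [Algebra R' S'] [Algebra R S'] [Algebra S S'] [IsScalarTower R R' S']
    [IsScalarTower R S S'] [Algebra.IsPushout R R' S S']
    (N' : Type u) [AddCommGroup N'] [Module S' N'] [Module S N'] [IsScalarTower S S' N']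
    (f : N →ₗ[S] N') (hf : IsBaseChange S' f)
    (q' : Ideal S') [q'.IsPrime] [q'.LiesOver q] [q'.LiesOver p']
    (𝒟' : FlatCA.CompleteDevissage R' S' N' p') (hn : 𝒟'.n = 𝒟.n)
    (htail : ∀ i, 𝒟.n ≤ i → ∃ (Q : Ideal (𝒟'.B i)) (P : Ideal (𝒟'.A i)),
      Q.IsPrime ∧ P.IsPrime ∧ Q.LiesOver p' ∧ P.LiesOver Q)
    [aA : ∀ i : Fin 𝒟.n, Algebra (𝒟.A i) (𝒟'.A i)] [rA : ∀ i : Fin 𝒟.n, Algebra R (𝒟'.A i)]
      [∀ i : Fin 𝒟.n, IsScalarTower R (R') (𝒟'.A i)] [∀ i : Fin 𝒟.n, IsScalarTower R (𝒟.A i) (𝒟'.A i)]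
      [aB : ∀ i : Fin 𝒟.n, Algebra (𝒟.B i) (𝒟'.B i)] [rB : ∀ i : Fin 𝒟.n, Algebra R (𝒟'.B i)]
      [∀ i : Fin 𝒟.n, IsScalarTower R (R') (𝒟'.B i)] [∀ i : Fin 𝒟.n, IsScalarTower R (𝒟.B i) (𝒟'.B i)]
      [bA : ∀ i : Fin 𝒟.n, Algebra (𝒟.B i) (𝒟'.A i)] [∀ i : Fin 𝒟.n, IsScalarTower (𝒟.B i) (𝒟.A i) (𝒟'.A i)]
      [∀ i : Fin 𝒟.n, IsScalarTower (𝒟.B i) (𝒟'.B i) (𝒟'.A i)]
      [bA' : ∀ i : Fin 𝒟.n, Algebra (𝒟.B i) (𝒟'.A (i + 1))]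
      [∀ i : Fin 𝒟.n, IsScalarTower (𝒟.B i) (𝒟'.B i) (𝒟'.A (i + 1))]
      [sA : Algebra S (𝒟'.A 0)] [IsScalarTower S (S') (𝒟'.A 0)]
      [mA : ∀ i : Fin 𝒟.n, Module (𝒟.A i) (𝒟'.M i)] [∀ i : Fin 𝒟.n, IsScalarTower (𝒟.A i) (𝒟'.A i) (𝒟'.M i)]
      (gM : ∀ i : Fin 𝒟.n, 𝒟.M i →ₗ[𝒟.A i] 𝒟'.M i)
    (hbc : (letI := aA ⟨0, 𝒟.pos⟩; IsScalarTower S (𝒟.A 0) (𝒟'.A 0)) ∧
      (∀ x : N, 𝒟'.isoN (f x) = gM ⟨0, 𝒟.pos⟩ (𝒟.isoN x)) ∧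
      (∀ (i : Fin 𝒟.n) (h : (i : ℕ) + 1 < 𝒟.n),
        letI := aA ⟨i + 1, h⟩; IsScalarTower (𝒟.B i) (𝒟.A (i + 1)) (𝒟'.A (i + 1))) ∧
      ∀ i : Fin 𝒟.n,
        Algebra.IsPushout R R' (𝒟.A i) (𝒟'.A i) ∧ Algebra.IsPushout R R' (𝒟.B i) (𝒟'.B i) ∧
        IsBaseChange (𝒟'.A i) (gM i)) :
    ∃ 𝒜' : FlatCA.CompleteDevissageAt R' S' N' p' q' 𝒟', 𝒜'.d = 𝒜.d ∧
      ∀ i : Fin 𝒟.n, (𝒜'.qB i).LiesOver (𝒜.qB i) ∧ (𝒜'.qA i).LiesOver (𝒜.qA i) := by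
  classical
  obtain ⟨hb1, hb2, hb3, hb4⟩ := hbc
  haveI := 𝒜.hqB
  haveI := 𝒜.hqA
  haveI := 𝒜.overB
  haveI := 𝒜.overA
  have hp'p : p'.comap (algebraMap R R') = p := hp'.over.symm
  have hq'q : q'.comap (algebraMap S S') = q := (Ideal.LiesOver.over (P := q') (p := q)).symm
  have hq'p' : q'.comap (algebraMap R' S') = p' := (Ideal.LiesOver.over (P := q') (p := p')).symm
  -- existence of the primes at the genuine indices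
  have hexFin : ∀ j : Fin 𝒟.n, ∃ (Q : Ideal (𝒟'.B j)) (P : Ideal (𝒟'.A j)),
      Q.IsPrime ∧ P.IsPrime ∧ Q.LiesOver p' ∧ P.LiesOver p' ∧
      Q.LiesOver (𝒜.qB j) ∧ P.LiesOver (𝒜.qA j) := by
    intro j
    haveI : Algebra.IsPushout R R' (𝒟.B j) (𝒟'.B j) := (hb4 j).2.1
    haveI : Algebra.IsPushout R R' (𝒟.A j) (𝒟'.A j) := (hb4 j).1
    haveI : (𝒜.qA j).LiesOver p := Ideal.LiesOver.trans (𝒜.qA j) (𝒜.qB j) p
    obtain ⟨Q, hQ, hQ1, hQ2⟩ := exists_over (S := 𝒟.B j) (S' := 𝒟'.B j) p p' hκ (𝒜.qB j)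
    obtain ⟨P, hP, hP1, hP2⟩ := exists_over (S := 𝒟.A j) (S' := 𝒟'.A j) p p' hκ (𝒜.qA j)
    exact ⟨Q, P, hQ, hP, hQ2, hP2, hQ1, hP1⟩
  -- the per-index facts
  have hstepFin : ∀ (j : Fin 𝒟.n) (Q : Ideal (𝒟'.B j)) (P : Ideal (𝒟'.A j))
      [hQ : Q.IsPrime] [hP : P.IsPrime] [hQ1 : Q.LiesOver p'] [hP1 : P.LiesOver p']
      [hQ2 : Q.LiesOver (𝒜.qB j)] [hP2 : P.LiesOver (𝒜.qA j)],
      P.LiesOver Q ∧ FlatCA.PurelyTranscendental p' Q ∧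
      (∀ (Q₁ : Ideal (𝒟'.A j)) [Q₁.IsPrime], Q₁.LiesOver Q → Q₁ = P) ∧
      FlatCA.SmoothRelDim (𝒜.d j) R' (𝒟'.B j) ∧
      ∃ (x : PrimeSpectrum (p'.Fiber (𝒟'.B j)))
        (hx : x ∈ Module.support (p'.Fiber (𝒟'.B j)) (FlatCA.fiberMod p' (𝒟'.B j) (𝒟'.M j))),
        x.asIdeal = FlatCA.fiberIdeal p' Q ∧
        FlatMor.localDim (Module.support (p'.Fiber (𝒟'.B j))
          (FlatCA.fiberMod p' (𝒟'.B j) (𝒟'.M j))) ⟨x, hx⟩ = 𝒜.d j := by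
    intro j Q P hQ hP hQ1 hP1 hQ2 hP2
    haveI : Algebra.IsPushout R R' (𝒟.B j) (𝒟'.B j) := (hb4 j).2.1
    haveI : Algebra.IsPushout R R' (𝒟.A j) (𝒟'.A j) := (hb4 j).1
    haveI : Module.Finite (𝒟.B j) (𝒟.A j) := 𝒟.finiteBA j j.2
    haveI : Module.Finite (𝒟.A j) (𝒟.M j) := 𝒟.finiteM j j.2
    exact step p p' hκ (B := 𝒟.B j) (A := 𝒟.A j) (B' := 𝒟'.B j) (A' := 𝒟'.A j)
      (M := 𝒟.M j) (M' := 𝒟'.M j) (gM j) (hb4 j).2.2 (𝒜.qB j) (𝒜.qA j) (𝒜.d j)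
      (𝒜.pureTrans j j.2) (𝒜.uniq j j.2) (𝒜.relDim j j.2) (𝒟.geomIrred j j.2)
      (𝒜.locDim j j.2) Q P
  -- existence of the primes at all indices
  have hex : ∀ i : ℕ, ∃ (Q : Ideal (𝒟'.B i)) (P : Ideal (𝒟'.A i)),
      Q.IsPrime ∧ P.IsPrime ∧ Q.LiesOver p' ∧ P.LiesOver Q ∧ P.LiesOver p' ∧
      ∀ h : i < 𝒟.n, Q.LiesOver (𝒜.qB (⟨i, h⟩ : Fin 𝒟.n)) ∧
        P.LiesOver (𝒜.qA (⟨i, h⟩ : Fin 𝒟.n)) := by
    intro i
    by_cases h : i < 𝒟.n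
    · obtain ⟨Q, P, hQ, hP, hQ1, hP1, hQ2, hP2⟩ := hexFin ⟨i, h⟩
      exact ⟨Q, P, hQ, hP, hQ1, (@hstepFin ⟨i, h⟩ Q P hQ hP hQ1 hP1 hQ2 hP2).1, hP1,
        fun h' => ⟨hQ2, hP2⟩⟩
    · obtain ⟨Q, P, hQ, hP, hQ1, hPQ⟩ := htail i (not_lt.mp h)
      haveI := hQ
      haveI := hP
      haveI := hQ1
      haveI := hPQ
      exact ⟨Q, P, hQ, hP, hQ1, hPQ, Ideal.LiesOver.trans P Q p', fun h' => absurd h' h⟩
  choose qB' qA' hQp hPp hQo hPQ hPp' hrest using hex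
  have hall : ∀ (i : ℕ) (hi : i < 𝒟.n), _ :=
    fun i hi => @hstepFin ⟨i, hi⟩ (qB' i) (qA' i) (hQp i) (hPp i) (hQo i) (hPp' i)
      (hrest i hi).1 (hrest i hi).2
  -- the step compatibility
  have hqStepFin : ∀ (j : Fin 𝒟.n) (h : (j : ℕ) + 1 < 𝒟.n),
      (qA' (j + 1)).comap (algebraMap (𝒟'.B j) (𝒟'.A (j + 1))) = qB' j := by
    intro j h
    letI iaA : Algebra (𝒟.A (j + 1)) (𝒟'.A (j + 1)) := aA ⟨j + 1, h⟩
    haveI it : IsScalarTower (𝒟.B j) (𝒟.A (j + 1)) (𝒟'.A (j + 1)) := hb3 j h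
    haveI : Algebra.IsPushout R R' (𝒟.B j) (𝒟'.B j) := (hb4 j).2.1
    have hhB := psi0_isHomeomorph (S := 𝒟.B j) (S' := 𝒟'.B j) p p' hκ
    have hP2 : (qA' (j + 1)).comap (algebraMap (𝒟.A (j + 1)) (𝒟'.A (j + 1))) = 𝒜.qA (j + 1) :=
      ((hrest (j + 1) h).2).over.symm
    have hQ2 : (qB' j).comap (algebraMap (𝒟.B j) (𝒟'.B j)) = 𝒜.qB j :=
      ((hrest j j.2).1).over.symm
    have hP1 : (qA' (j + 1)).comap (algebraMap R' (𝒟'.A (j + 1))) = p' := (hPp' (j + 1)).over.symm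
    have hQ1 : (qB' j).comap (algebraMap R' (𝒟'.B j)) = p' := (hQo j).over.symm
    haveI := hPp (j + 1)
    haveI := hQp j
    refine unique_over p p' hp'p hhB.injective _ (qB' j) ?_ hQ1 ?_
    · rw [Ideal.comap_comap, ← IsScalarTower.algebraMap_eq, hP1]
    · rw [Ideal.comap_comap, ← IsScalarTower.algebraMap_eq,
        IsScalarTower.algebraMap_eq (𝒟.B j) (𝒟.A (j + 1)) (𝒟'.A (j + 1)),
        ← Ideal.comap_comap, hP2, 𝒜.qStep j h, hQ2]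
  -- the compatibility with `q'`
  have hq0 : (qA' 0).comap (algebraMap S' (𝒟'.A 0)) = q' := by
    letI iaA0 : Algebra (𝒟.A 0) (𝒟'.A 0) := aA ⟨0, 𝒟.pos⟩
    haveI it0 : IsScalarTower S (𝒟.A 0) (𝒟'.A 0) := hb1
    have hhS := psi0_isHomeomorph (S := S) (S' := S') p p' hκ
    have hP2 : (qA' 0).comap (algebraMap (𝒟.A 0) (𝒟'.A 0)) = 𝒜.qA 0 :=
      ((hrest 0 𝒟.pos).2).over.symm
    have hP1 : (qA' 0).comap (algebraMap R' (𝒟'.A 0)) = p' := (hPp' 0).over.symm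
    haveI := hPp 0
    refine unique_over p p' hp'p hhS.injective _ q' ?_ hq'p' ?_
    · rw [Ideal.comap_comap, ← IsScalarTower.algebraMap_eq, hP1]
    · rw [Ideal.comap_comap, ← IsScalarTower.algebraMap_eq,
        IsScalarTower.algebraMap_eq S (𝒟.A 0) (𝒟'.A 0), ← Ideal.comap_comap, hP2, 𝒜.q0, hq'q]
  refine ⟨{ qB := qB', qA := qA', hqB := hQp, hqA := hPp, overB := hQo, overA := hPQ,
            pureTrans := ?_, uniq := ?_, q0 := hq0, qStep := ?_, d := 𝒜.d, relDim := ?_,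
            locDim := ?_ }, rfl, fun j => hrest j j.2⟩
  · intro i hi'
    have hi : i < 𝒟.n := hn ▸ hi'
    exact (hall i hi).2.1
  · intro i hi'
    have hi : i < 𝒟.n := hn ▸ hi'
    exact (hall i hi).2.2.1
  · intro i hi'
    have hi1 : i + 1 < 𝒟.n := hn ▸ hi'
    have hi : i < 𝒟.n := by omega
    exact hqStepFin ⟨i, hi⟩ hi1
  · intro i hi'
    have hi : i < 𝒟.n := hn ▸ hi'
    exact (hall i hi).2.2.2.1
  · intro i hi'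
    have hi : i < 𝒟.n := hn ▸ hi'
    exact (hall i hi).2.2.2.2

end Groth.Agent.Lib.Helper24.CDevAt
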