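import Mathlib
import Groth.Prelude.Def_FlatCA
import Groth.Agent.Lib.Helper14.ReducedSmooth

/-!
# General base change lemmas used for the base change of a complete dévissage
-/

set_option autoImplicit false
set_option maxHeartbeats 800000
set_option linter.style.haveILetI false
set_option linter.unusedSectionVars false
set_option linter.unusedVariables false

universe u

namespace Groth.Agent.Lib.Helper24.CDevBC

open TensorProduct

attribute [local instance] Algebra.TensorProduct.rightAlgebra

/-- base change along the top of a pushout square restricts to base change along the bottom -/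
theorem isBaseChange_of_isPushout
    (R R' T T' : Type u) [CommRing R] [CommRing R'] [CommRing T] [CommRing T']
    [Algebra R R'] [Algebra R T] [Algebra R' T'] [Algebra T T'] [Algebra R T']
    [IsScalarTower R R' T'] [IsScalarTower R T T'] [Algebra.IsPushout R R' T T']
    (M M' : Type u) [AddCommGroup M] [AddCommGroup M'] [Module T M] [Module R M]
    [IsScalarTower R T M] [Module T' M'] [Module T M'] [IsScalarTower T T' M'] [Module R' M']
    [IsScalarTower R' T' M'] [Module R M'] [IsScalarTower R R' M'] [IsScalarTower R T M']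
    (g : M →ₗ[T] M') (hg : IsBaseChange T' g) :
    IsBaseChange R' (g.restrictScalars R) := by
  let e₀ : T' ⊗[T] M ≃ₗ[R'] R' ⊗[R] M := Algebra.IsPushout.cancelBaseChange R R' T T' M
  let e₁ : T' ⊗[T] M ≃ₗ[R'] M' := hg.equiv.restrictScalars R'
  refine IsBaseChange.of_equiv (e₀.symm ≪≫ₗ e₁) (fun x => ?_)
  show hg.equiv (e₀.symm (1 ⊗ₜ x)) = g x
  rw [Algebra.IsPushout.cancelBaseChange_symm_tmul, map_one, hg.equiv_tmul, one_smul]

theorem fp_of_isPushout (R R' T T' : Type u) [CommRing R] [CommRing R'] [CommRing T]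
    [CommRing T'] [Algebra R R'] [Algebra R T] [Algebra R' T'] [Algebra T T'] [Algebra R T']
    [IsScalarTower R R' T'] [IsScalarTower R T T'] [Algebra.IsPushout R R' T T']
    [Algebra.FinitePresentation R T] : Algebra.FinitePresentation R' T' :=
  Algebra.FinitePresentation.equiv (Algebra.IsPushout.equiv R R' T T')

theorem finite_of_isPushout (R R' T T' : Type u) [CommRing R] [CommRing R'] [CommRing T]
    [CommRing T'] [Algebra R R'] [Algebra R T] [Algebra R' T'] [Algebra T T'] [Algebra R T']
    [IsScalarTower R R' T'] [IsScalarTower R T T'] [Algebra.IsPushout R R' T T']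
    [Module.Finite R T] : Module.Finite R' T' :=
  Module.Finite.equiv (Algebra.IsPushout.equiv R R' T T').toLinearEquiv

open AlgebraicGeometry CategoryTheory in
theorem geomIrred_of_isPushout {R D R' D' : Type u} [CommRing R] [CommRing D] [CommRing R']
    [CommRing D'] [Algebra R D] [Algebra R R'] [Algebra D D'] [Algebra R' D'] [Algebra R D']
    [IsScalarTower R R' D'] [IsScalarTower R D D'] [Algebra.IsPushout R R' D D']
    (hgi : FlatCA.GeomIrredFibres R D) : FlatCA.GeomIrredFibres R' D' := by
  have hpo := CommRingCat.isPushout_of_isPushout R R' D D'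
  have hpb := (isPullback_SpecMap_of_isPushout _ _ _ _ hpo).flip
  exact MorphismProperty.of_isPullback (P := @GeometricallyIrreducible) hpb hgi

/-- pasting of pushout squares -/
theorem isPushout_of_isPushout_of_isPushout
    (R R' S S' T T' : Type u) [CommRing R] [CommRing R'] [CommRing S] [CommRing S'] [CommRing T]
    [CommRing T']
    [Algebra R R'] [Algebra R S] [Algebra R' S'] [Algebra S S'] [Algebra R S']
    [IsScalarTower R R' S'] [IsScalarTower R S S']
    [Algebra R T] [Algebra S T] [IsScalarTower R S T]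
    [Algebra R' T'] [Algebra S' T'] [IsScalarTower R' S' T'] [Algebra T T'] [Algebra R T']
    [Algebra S T'] [IsScalarTower R R' T'] [IsScalarTower R T T'] [IsScalarTower S T T']
    [IsScalarTower S S' T'] [IsScalarTower R S' T']
    [h1 : Algebra.IsPushout R R' S S'] [h2 : Algebra.IsPushout R R' T T'] :
    Algebra.IsPushout S S' T T' := by
  haveI : Algebra.IsPushout R S R' S' := h1.symm
  exact ((Algebra.IsPushout.comp_iff R S R' (S' := S') (T := T) (T' := T')).mp h2.symm).symm

/-- right exactness of base change, in `IsBaseChange` form -/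
theorem ker_eq_span_of_isBaseChange
    (B B' : Type u) [CommRing B] [CommRing B'] [Algebra B B']
    (X X' Y Y' : Type u) [AddCommGroup X] [AddCommGroup X'] [AddCommGroup Y] [AddCommGroup Y']
    [Module B X] [Module B Y] [Module B' X'] [Module B X'] [IsScalarTower B B' X']
    [Module B' Y'] [Module B Y'] [IsScalarTower B B' Y']
    (g₁ : X →ₗ[B] X') (hg₁ : IsBaseChange B' g₁) (g₂ : Y →ₗ[B] Y') (hg₂ : IsBaseChange B' g₂)
    (π : X →ₗ[B] Y) (hπ : Function.Surjective π) (π' : X' →ₗ[B'] Y')
    (hcomm : ∀ x, π' (g₁ x) = g₂ (π x)) :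
    Function.Surjective π' ∧
      LinearMap.ker π' = Submodule.span B' (g₁ '' (LinearMap.ker π : Set X)) := by
  constructor
  · intro y'
    refine hg₂.inductionOn y' (fun y' => ∃ x', π' x' = y') ⟨0, map_zero _⟩ ?_ ?_ ?_
    · intro y
      obtain ⟨x, rfl⟩ := hπ y
      exact ⟨g₁ x, hcomm x⟩
    · rintro b' _ ⟨x', rfl⟩
      exact ⟨b' • x', map_smul _ _ _⟩
    · rintro _ _ ⟨x₁, rfl⟩ ⟨x₂, rfl⟩
      exact ⟨x₁ + x₂, map_add _ _ _⟩
  · obtain ⟨K', hK'⟩ : ∃ K' : Submodule B' X',
        K' = Submodule.span B' (g₁ '' (LinearMap.ker π : Set X)) := ⟨_, rfl⟩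
    rw [← hK']
    apply le_antisymm
    · let ψ₀ : X →ₗ[B] X' ⧸ K' := (K'.mkQ.restrictScalars B).comp g₁
      have hle : LinearMap.ker π ≤ LinearMap.ker ψ₀ := by
        intro x hx
        rw [LinearMap.mem_ker]
        show K'.mkQ (g₁ x) = 0
        rw [Submodule.mkQ_apply, Submodule.Quotient.mk_eq_zero, hK']
        exact Submodule.subset_span ⟨x, hx, rfl⟩
      let ψ : Y →ₗ[B] X' ⧸ K' :=
        ((LinearMap.ker π).liftQ ψ₀ hle).comp (π.quotKerEquivOfSurjective hπ).symm.toLinearMap
      have hψ : ∀ x, ψ (π x) = K'.mkQ (g₁ x) := by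
        intro x
        show (LinearMap.ker π).liftQ ψ₀ hle ((π.quotKerEquivOfSurjective hπ).symm (π x)) = _
        rw [LinearMap.quotKerEquivOfSurjective_symm_apply, Submodule.liftQ_apply]
        rfl
      let θ : Y' →ₗ[B'] X' ⧸ K' := hg₂.lift ψ
      have hθ : θ.comp π' = K'.mkQ := by
        apply hg₁.algHom_ext
        intro x
        show θ (π' (g₁ x)) = K'.mkQ (g₁ x)
        rw [hcomm, hg₂.lift_eq, hψ]
      intro x' hx'
      rw [LinearMap.mem_ker] at hx'
      have h2 : K'.mkQ x' = 0 := by
        rw [← hθ]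
        show θ (π' x') = 0
        rw [hx', map_zero]
      rwa [Submodule.mkQ_apply, Submodule.Quotient.mk_eq_zero] at h2
    · rw [hK', Submodule.span_le]
      rintro _ ⟨x, hx, rfl⟩
      show π' (g₁ x) = 0
      rw [hcomm, LinearMap.mem_ker.mp hx, map_zero]

/-- the range of a map out of a base change -/
theorem range_eq_span_of_isBaseChange
    (B B' : Type u) [CommRing B] [CommRing B'] [Algebra B B']
    (X X' Y Y' : Type u) [AddCommGroup X] [AddCommGroup X'] [AddCommGroup Y] [AddCommGroup Y']
    [Module B X] [Module B Y] [Module B' X'] [Module B X'] [IsScalarTower B B' X']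
    [Module B' Y'] [Module B Y'] [IsScalarTower B B' Y']
    (g₁ : X →ₗ[B] X') (hg₁ : IsBaseChange B' g₁) (g₂ : Y →ₗ[B] Y')
    (π : X →ₗ[B] Y) (π' : X' →ₗ[B'] Y')
    (hcomm : ∀ x, π' (g₁ x) = g₂ (π x)) :
    LinearMap.range π' = Submodule.span B' (g₂ '' (LinearMap.range π : Set Y)) := by
  apply le_antisymm
  · rintro _ ⟨x', rfl⟩
    refine hg₁.inductionOn x'
      (fun x' => π' x' ∈ Submodule.span B' (g₂ '' (LinearMap.range π : Set Y))) ?_ ?_ ?_ ?_
    · rw [map_zero]; exact Submodule.zero_mem _
    · intro x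
      rw [hcomm]
      exact Submodule.subset_span ⟨π x, ⟨x, rfl⟩, rfl⟩
    · intro b' x' hx'
      rw [map_smul]
      exact Submodule.smul_mem _ _ hx'
    · intro x₁ x₂ h₁ h₂
      rw [map_add]
      exact Submodule.add_mem _ h₁ h₂
  · rw [Submodule.span_le]
    rintro _ ⟨_, ⟨x, rfl⟩, rfl⟩
    exact ⟨g₁ x, hcomm x⟩

/-- bijectivity on a fibre transfers along base change -/
theorem bijective_baseChange_of_isBaseChange
    (B B' K K' : Type u) [CommRing B] [CommRing B'] [CommRing K] [CommRing K']
    [Algebra B B'] [Algebra B K] [Algebra B' K'] [Algebra K K'] [Algebra B K']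
    [IsScalarTower B B' K'] [IsScalarTower B K K']
    (F F' M M' : Type u) [AddCommGroup F] [AddCommGroup F'] [AddCommGroup M] [AddCommGroup M']
    [Module B F] [Module B M] [Module B' F'] [Module B F'] [IsScalarTower B B' F']
    [Module B' M'] [Module B M'] [IsScalarTower B B' M']
    (g₁ : F →ₗ[B] F') (hg₁ : IsBaseChange B' g₁) (g₂ : M →ₗ[B] M') (hg₂ : IsBaseChange B' g₂)
    (α : F →ₗ[B] M) (α' : F' →ₗ[B'] M') (hcomm : ∀ x, α' (g₁ x) = g₂ (α x))
    (h : Function.Bijective (α.baseChange K)) : Function.Bijective (α'.baseChange K') := by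
  have hu₁ : IsBaseChange K' (((TensorProduct.mk B' K' F' 1).restrictScalars B).comp g₁) :=
    IsBaseChange.comp hg₁ (TensorProduct.isBaseChange B' F' K')
  have hv₁ : IsBaseChange K' (((TensorProduct.mk K K' (K ⊗[B] F) 1).restrictScalars B).comp
      (TensorProduct.mk B K F 1)) :=
    IsBaseChange.comp (TensorProduct.isBaseChange B F K)
      (TensorProduct.isBaseChange K (K ⊗[B] F) K')
  have hu₂ : IsBaseChange K' (((TensorProduct.mk B' K' M' 1).restrictScalars B).comp g₂) :=
    IsBaseChange.comp hg₂ (TensorProduct.isBaseChange B' M' K')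
  have hv₂ : IsBaseChange K' (((TensorProduct.mk K K' (K ⊗[B] M) 1).restrictScalars B).comp
      (TensorProduct.mk B K M 1)) :=
    IsBaseChange.comp (TensorProduct.isBaseChange B M K)
      (TensorProduct.isBaseChange K (K ⊗[B] M) K')
  let e₁ : K' ⊗[K] (K ⊗[B] F) ≃ₗ[K'] K' ⊗[B'] F' := hv₁.equiv.symm ≪≫ₗ hu₁.equiv
  let e₂ : K' ⊗[K] (K ⊗[B] M) ≃ₗ[K'] K' ⊗[B'] M' := hv₂.equiv.symm ≪≫ₗ hu₂.equiv
  have he₁ : ∀ x : F, e₁ ((1 : K') ⊗ₜ[K] ((1 : K) ⊗ₜ[B] x)) = (1 : K') ⊗ₜ[B'] g₁ x := by
    intro x
    have h1 : hv₁.equiv.symm ((1 : K') ⊗ₜ[K] ((1 : K) ⊗ₜ[B] x)) = 1 ⊗ₜ x :=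
      hv₁.equiv_symm_apply x
    show hu₁.equiv (hv₁.equiv.symm _) = _
    rw [h1, hu₁.equiv_tmul, one_smul]
    rfl
  have he₂ : ∀ x : M, e₂ ((1 : K') ⊗ₜ[K] ((1 : K) ⊗ₜ[B] x)) = (1 : K') ⊗ₜ[B'] g₂ x := by
    intro x
    have h1 : hv₂.equiv.symm ((1 : K') ⊗ₜ[K] ((1 : K) ⊗ₜ[B] x)) = 1 ⊗ₜ x :=
      hv₂.equiv_symm_apply x
    show hu₂.equiv (hv₂.equiv.symm _) = _
    rw [h1, hu₂.equiv_tmul, one_smul]
    rfl
  have key : (α'.baseChange K').comp e₁.toLinearMap =
      e₂.toLinearMap.comp ((α.baseChange K).baseChange K') := by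
    apply hv₁.algHom_ext
    intro x
    show α'.baseChange K' (e₁ ((1 : K') ⊗ₜ[K] ((1 : K) ⊗ₜ[B] x))) =
      e₂ (((α.baseChange K).baseChange K') ((1 : K') ⊗ₜ[K] ((1 : K) ⊗ₜ[B] x)))
    rw [he₁, LinearMap.baseChange_tmul, LinearMap.baseChange_tmul, LinearMap.baseChange_tmul,
      he₂, hcomm]
  have hbij : Function.Bijective ((α.baseChange K).baseChange K') := by
    let ε := LinearEquiv.ofBijective (α.baseChange K) h
    have h1 : ((ε.symm.toLinearMap).baseChange K').comp ((α.baseChange K).baseChange K') =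
        LinearMap.id := by
      rw [← LinearMap.baseChange_comp]
      have : ε.symm.toLinearMap.comp (α.baseChange K) = LinearMap.id :=
        LinearMap.ext fun x => ε.symm_apply_apply x
      rw [this, LinearMap.baseChange_id]
    have h2 : ((α.baseChange K).baseChange K').comp ((ε.symm.toLinearMap).baseChange K') =
        LinearMap.id := by
      rw [← LinearMap.baseChange_comp]
      have : (α.baseChange K).comp ε.symm.toLinearMap = LinearMap.id :=
        LinearMap.ext fun x => ε.apply_symm_apply x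
      rw [this, LinearMap.baseChange_id]
    exact Function.bijective_iff_has_inverse.mpr
      ⟨_, fun x => LinearMap.congr_fun h1 x, fun x => LinearMap.congr_fun h2 x⟩
  have h3 : ⇑(α'.baseChange K') = ⇑e₂ ∘ ⇑((α.baseChange K).baseChange K') ∘ ⇑e₁.symm := by
    funext y
    have := LinearMap.congr_fun key (e₁.symm y)
    simpa using this
  rw [h3]
  exact e₂.bijective.comp (hbij.comp e₁.symm.bijective)

/-- the extension of `p` to a flat algebra contracts back after base change -/
theorem comap_map_eq_of_flat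
    (R R' B B' : Type u) [CommRing R] [CommRing R'] [CommRing B] [CommRing B']
    [Algebra R R'] [Algebra R B] [Algebra R' B'] [Algebra B B'] [Algebra R B']
    [IsScalarTower R R' B'] [IsScalarTower R B B'] [Algebra.IsPushout R R' B B'] [Module.Flat R B]
    (p : Ideal R) (p' : Ideal R') (hpp' : p'.comap (algebraMap R R') = p) :
    (p'.map (algebraMap R' B')).comap (algebraMap B B') = p.map (algebraMap R B) := by
  apply le_antisymm
  · intro b hb
    rw [Ideal.mem_comap] at hb
    let e : R' ⊗[R] B ≃ₐ[R'] B' := Algebra.IsPushout.equiv R R' B B'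
    have he : e (1 ⊗ₜ b) = algebraMap B B' b := by
      rw [Algebra.IsPushout.equiv_tmul, map_one, one_mul]
    have h1 : (1 : R') ⊗ₜ[R] b ∈ p'.map (algebraMap R' (R' ⊗[R] B)) := by
      have h2 : e.symm.toAlgHom.toRingHom (algebraMap B B' b) ∈
          Ideal.map e.symm.toAlgHom.toRingHom (p'.map (algebraMap R' B')) :=
        Ideal.mem_map_of_mem _ hb
      rw [Ideal.map_map] at h2
      have h3 : (e.symm.toAlgHom.toRingHom).comp (algebraMap R' B') =
          algebraMap R' (R' ⊗[R] B) := by
        ext r; simp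
      rw [h3] at h2
      have h4 : e.symm.toAlgHom.toRingHom (algebraMap B B' b) = 1 ⊗ₜ b := by
        show e.symm (algebraMap B B' b) = 1 ⊗ₜ b
        rw [← he, AlgEquiv.symm_apply_apply]
      rwa [h4] at h2
    let Φ : R' ⊗[R] B →ₐ[R'] (R' ⧸ p') ⊗[R] B :=
      Algebra.TensorProduct.map (Ideal.Quotient.mkₐ R' p') (AlgHom.id R B)
    have hΦ : p'.map (algebraMap R' (R' ⊗[R] B)) ≤
        RingHom.ker (Φ : R' ⊗[R] B →+* (R' ⧸ p') ⊗[R] B) := by
      rw [Ideal.map_le_iff_le_comap]
      intro r hr
      rw [Ideal.mem_comap, RingHom.mem_ker]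
      show Φ (algebraMap R' (R' ⊗[R] B) r) = 0
      rw [AlgHom.commutes, Algebra.TensorProduct.algebraMap_apply, Ideal.Quotient.algebraMap_eq,
        Ideal.Quotient.eq_zero_iff_mem.mpr hr, TensorProduct.zero_tmul]
    have h4 : (1 : R' ⧸ p') ⊗ₜ[R] b = 0 := by
      have := hΦ h1
      rw [RingHom.mem_ker] at this
      simpa [Φ] using this
    have hle : p ≤ p'.comap (Algebra.ofId R R') := by
      intro x hx
      rw [← hpp'] at hx
      exact hx
    let ι : R ⧸ p →ₗ[R] R' ⧸ p' := (Ideal.quotientMapₐ p' (Algebra.ofId R R') hle).toLinearMap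
    have hι : Function.Injective ι := by
      intro x y hxy
      refine Ideal.quotientMap_injective' (J := p) (I := p')
        (f := (Algebra.ofId R R' : R →+* R')) (H := hle) ?_ hxy
      intro x hx
      rw [← hpp']
      exact hx
    have hΨ := Module.Flat.rTensor_preserves_injective_linearMap (M := B) ι hι
    have h5 : ι.rTensor B ((1 : R ⧸ p) ⊗ₜ[R] b) = 0 := by
      rw [LinearMap.rTensor_tmul]
      have : ι 1 = 1 := map_one (Ideal.quotientMapₐ p' (Algebra.ofId R R') hle)
      rw [this, h4]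
    have h6 : (1 : R ⧸ p) ⊗ₜ[R] b = 0 := hΨ (by rw [h5, map_zero])
    have h7 := congrArg (TensorProduct.quotTensorEquivQuotSMul B p) h6
    rw [TensorProduct.quotTensorEquivQuotSMul_mk_one_tmul, map_zero,
      Submodule.Quotient.mk_eq_zero, Ideal.smul_top_eq_map] at h7
    exact h7
  · rw [Ideal.map_le_iff_le_comap]
    intro r hr
    rw [Ideal.mem_comap, Ideal.mem_comap, ← IsScalarTower.algebraMap_apply,
      IsScalarTower.algebraMap_apply R R' B']
    apply Ideal.mem_map_of_mem
    rw [← hpp'] at hr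
    exact hr

open AlgebraicGeometry CategoryTheory in
/-- a smooth algebra with geometrically irreducible fibres over a domain is a domain -/
theorem isDomain_of_smooth_geomIrred (k C : Type u) [CommRing k] [IsDomain k] [CommRing C]
    [Algebra k C] [Algebra.Smooth k C] (hgi : FlatCA.GeomIrredFibres k C) : IsDomain C := by
  haveI : _root_.IsReduced C := Groth.Agent.Lib.Helper14.isReduced_of_smooth k C
  obtain ⟨f, hf⟩ : ∃ f, f = Spec.map (CommRingCat.ofHom (algebraMap k C)) := ⟨_, rfl⟩
  haveI : GeometricallyIrreducible f := hf ▸ hgi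
  haveI : Smooth f := by
    rw [hf, HasRingHomProperty.Spec_iff (P := @Smooth)]
    exact RingHom.smooth_algebraMap.mpr inferInstance
  haveI : IsDomain (CommRingCat.of k) := inferInstanceAs (IsDomain k)
  haveI : IrreducibleSpace ↥(Spec (CommRingCat.of k)) := inferInstance
  haveI : IrreducibleSpace ↥(Spec (CommRingCat.of C)) :=
    GeometricallyIrreducible.irreducibleSpace f f.isOpenMap
  haveI : _root_.IsReduced (CommRingCat.of C) := inferInstanceAs (_root_.IsReduced C)
  haveI : AlgebraicGeometry.IsReduced (Spec (CommRingCat.of C)) := inferInstance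
  haveI : IsIntegral (Spec (CommRingCat.of C)) := isIntegral_of_irreducibleSpace_of_isReduced _
  exact (affine_isIntegral_iff (CommRingCat.of C)).mp inferInstance

/-- the extension of a prime to a smooth algebra with geometrically irreducible fibres is prime -/
theorem map_isPrime_of_smooth_geomIrred (R' B' : Type u) [CommRing R'] [CommRing B']
    [Algebra R' B'] [Algebra.Smooth R' B'] (hgi : FlatCA.GeomIrredFibres R' B')
    (p' : Ideal R') [p'.IsPrime] : (p'.map (algebraMap R' B')).IsPrime := by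
  haveI : IsDomain ((R' ⧸ p') ⊗[R'] B') :=
    isDomain_of_smooth_geomIrred (R' ⧸ p') _
      (geomIrred_of_isPushout (R := R') (D := B') (R' := R' ⧸ p')
        (D' := (R' ⧸ p') ⊗[R'] B') hgi)
  haveI : IsDomain (B' ⧸ p'.map (algebraMap R' B')) :=
    MulEquiv.isDomain _ (Algebra.TensorProduct.quotIdealMapEquivQuotTensor B' p').toRingEquiv.toMulEquiv
  exact (Ideal.Quotient.isDomain_iff_prime _).mp inferInstance

end Groth.Agent.Lib.Helper24.CDevBC
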