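import Mathlib

/-!
# A padding construction: `X` if a proposition holds, the base ring otherwise
-/

set_option autoImplicit false
set_option maxHeartbeats 400000
set_option linter.style.haveILetI false
set_option linter.unusedSectionVars false
set_option linter.unusedVariables false

universe u

namespace Groth.Agent.Lib.Helper24.CDevBC

section Pad

variable (R' X : Type u) [CommRing R'] [CommRing X] [Algebra R' X] (c : Prop)

open Classical in
/-- the ideal cutting out one factor of `X × R'` -/
noncomputable def padIdeal : Ideal (X × R') :=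
  if c then Ideal.prod ⊥ ⊤ else Ideal.prod ⊤ ⊥

theorem padIdeal_pos (hc : c) : padIdeal R' X c = Ideal.prod ⊥ ⊤ := by
  unfold padIdeal; exact if_pos hc

theorem padIdeal_neg (hc : ¬c) : padIdeal R' X c = Ideal.prod ⊤ ⊥ := by
  unfold padIdeal; exact if_neg hc

/-- `X` if `c` holds, `R'` otherwise -/
abbrev Pad : Type u := (X × R') ⧸ padIdeal R' X c

/-- the projection to `X` when `c` holds -/
noncomputable def Pad.fstHom (hc : c) : Pad R' X c →ₐ[R'] X :=
  Ideal.Quotient.liftₐ (padIdeal R' X c) (AlgHom.fst R' X R') (by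
    intro a ha
    rw [padIdeal_pos R' X c hc, Ideal.mem_prod] at ha
    simpa using ha.1)

theorem Pad.fstHom_mk (hc : c) (a : X × R') :
    Pad.fstHom R' X c hc (Ideal.Quotient.mk _ a) = a.1 := rfl

theorem Pad.fstHom_bijective (hc : c) : Function.Bijective (Pad.fstHom R' X c hc) := by
  constructor
  · rw [injective_iff_map_eq_zero]
    intro z hz
    obtain ⟨a, rfl⟩ := Ideal.Quotient.mk_surjective z
    rw [Pad.fstHom_mk] at hz
    rw [Ideal.Quotient.eq_zero_iff_mem, padIdeal_pos R' X c hc, Ideal.mem_prod]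
    exact ⟨by simpa using hz, Submodule.mem_top⟩
  · intro x
    exact ⟨Ideal.Quotient.mk _ (x, 0), Pad.fstHom_mk R' X c hc (x, 0)⟩

/-- `Pad` is `X` when `c` holds -/
noncomputable def Pad.equivX (hc : c) : Pad R' X c ≃ₐ[R'] X :=
  AlgEquiv.ofBijective (Pad.fstHom R' X c hc) (Pad.fstHom_bijective R' X c hc)

/-- the inclusion of `X` when `c` holds -/
noncomputable def Pad.inl (hc : c) : X →ₐ[R'] Pad R' X c :=
  (Pad.equivX R' X c hc).symm.toAlgHom

theorem Pad.inl_bijective (hc : c) : Function.Bijective (Pad.inl R' X c hc) :=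
  (Pad.equivX R' X c hc).symm.bijective

theorem Pad.fstHom_inl (hc : c) (x : X) :
    Pad.fstHom R' X c hc (Pad.inl R' X c hc x) = x :=
  (Pad.equivX R' X c hc).apply_symm_apply x

theorem Pad.algebraMap_bijective (hc : ¬c) :
    Function.Bijective (algebraMap R' (Pad R' X c)) := by
  constructor
  · rw [injective_iff_map_eq_zero]
    intro r h
    have h' : Ideal.Quotient.mk (padIdeal R' X c) (algebraMap R' (X × R') r) = 0 := h
    rw [Ideal.Quotient.eq_zero_iff_mem, padIdeal_neg R' X c hc, Ideal.mem_prod] at h'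
    simpa [Prod.algebraMap_apply] using h'.2
  · intro z
    obtain ⟨⟨x, r⟩, rfl⟩ := Ideal.Quotient.mk_surjective z
    refine ⟨r, ?_⟩
    show Ideal.Quotient.mk (padIdeal R' X c) (algebraMap R' (X × R') r) =
      Ideal.Quotient.mk (padIdeal R' X c) (x, r)
    rw [Ideal.Quotient.eq, padIdeal_neg R' X c hc, Ideal.mem_prod]
    simp [Prod.algebraMap_apply]

open Classical in
/-- maps out of `Pad` -/
noncomputable def Pad.lift {Y : Type u} [CommRing Y] [Algebra R' Y] (φ : X →ₐ[R'] Y) :
    Pad R' X c →ₐ[R'] Y :=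
  Ideal.Quotient.liftₐ (padIdeal R' X c)
    (if c then φ.comp (AlgHom.fst R' X R') else (Algebra.ofId R' Y).comp (AlgHom.snd R' X R'))
    (by
      intro a ha
      by_cases hc : c
      · rw [padIdeal_pos R' X c hc, Ideal.mem_prod] at ha
        have h1 : a.1 = 0 := by simpa using ha.1
        rw [if_pos hc]
        show φ a.1 = 0
        rw [h1, map_zero]
      · rw [padIdeal_neg R' X c hc, Ideal.mem_prod] at ha
        have h2 : a.2 = 0 := by simpa using ha.2
        rw [if_neg hc]
        show algebraMap R' Y a.2 = 0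
        rw [h2, map_zero])

open Classical in
theorem Pad.lift_mk_pos (hc : c) {Y : Type u} [CommRing Y] [Algebra R' Y] (φ : X →ₐ[R'] Y)
    (a : X × R') : Pad.lift R' X c φ (Ideal.Quotient.mk _ a) = φ a.1 := by
  show (if c then φ.comp (AlgHom.fst R' X R')
    else (Algebra.ofId R' Y).comp (AlgHom.snd R' X R')) a = φ a.1
  rw [if_pos hc]
  rfl

theorem Pad.lift_inl (hc : c) {Y : Type u} [CommRing Y] [Algebra R' Y] (φ : X →ₐ[R'] Y) (x : X) :
    Pad.lift R' X c φ (Pad.inl R' X c hc x) = φ x := by
  obtain ⟨a, ha⟩ := Ideal.Quotient.mk_surjective (Pad.inl R' X c hc x)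
  have h1 := Pad.fstHom_inl R' X c hc x
  rw [← ha, Pad.fstHom_mk] at h1
  rw [← ha, Pad.lift_mk_pos R' X c hc, h1]

theorem Pad.map_isPrime (p' : Ideal R') [hp' : p'.IsPrime]
    (h : c → (p'.map (algebraMap R' X)).IsPrime) :
    (p'.map (algebraMap R' (Pad R' X c))).IsPrime := by
  by_cases hc : c
  · haveI := h hc
    have h1 : p'.map (algebraMap R' (Pad R' X c)) =
        Ideal.map (Pad.equivX R' X c hc).symm (p'.map (algebraMap R' X)) := by
      have h2 : Ideal.map (Pad.equivX R' X c hc).symm (p'.map (algebraMap R' X)) =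
          Ideal.map ((Pad.equivX R' X c hc).symm.toAlgHom.toRingHom)
            (p'.map (algebraMap R' X)) := rfl
      rw [h2, Ideal.map_map]
      congr 1
      ext r
      simp
    rw [h1]
    exact Ideal.map_isPrime_of_equiv (Pad.equivX R' X c hc).symm
  · have hb := Pad.algebraMap_bijective R' X c hc
    have h2 : p'.map (algebraMap R' (Pad R' X c)) =
        Ideal.map (RingEquiv.ofBijective (algebraMap R' (Pad R' X c)) hb) p' := rfl
    rw [h2]
    exact Ideal.map_isPrime_of_equiv (RingEquiv.ofBijective (algebraMap R' (Pad R' X c)) hb)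

end Pad

end Groth.Agent.Lib.Helper24.CDevBC
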