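import Mathlib
import Groth.Prelude.Def_FlatCA
import Groth.Agent.Lib.Helper24.CDevBCPad
import Groth.Agent.Lib.Helper24.CDevBCGen
import Groth.Agent.Lib.Helper24.BCDevB

/-!
# One index of the base-changed complete dévissage
-/

set_option autoImplicit false
set_option maxHeartbeats 800000
set_option linter.style.haveILetI false
set_option linter.unusedSectionVars false
set_option linter.unusedVariables false

universe u

namespace Groth.Agent.Lib.Helper24.CDevBC

open TensorProduct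

attribute [local instance] Algebra.TensorProduct.rightAlgebra

section Step

variable (R R' B : Type u) [CommRing R] [CommRing R'] [CommRing B] [Algebra R R'] [Algebra R B]
  (c : Prop)

/-- `B → Pad` when the condition holds -/
noncomputable instance algBPad [hc : Fact c] : Algebra B (Pad R' (R' ⊗[R] B) c) :=
  ((Pad.inl R' (R' ⊗[R] B) c hc.out).toRingHom.comp (algebraMap B (R' ⊗[R] B))).toAlgebra

theorem algebraMap_BPad [hc : Fact c] (b : B) :
    algebraMap B (Pad R' (R' ⊗[R] B) c) b = Pad.inl R' (R' ⊗[R] B) c hc.out (1 ⊗ₜ b) := rfl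

instance towerRR'Pad : IsScalarTower R R' (Pad R' (R' ⊗[R] B) c) := inferInstance

instance towerRBPad [hc : Fact c] : IsScalarTower R B (Pad R' (R' ⊗[R] B) c) :=
  IsScalarTower.of_algebraMap_eq (fun r => by
    have h1 : algebraMap R' (R' ⊗[R] B) (algebraMap R R' r) =
        algebraMap B (R' ⊗[R] B) (algebraMap R B r) := by
      rw [← IsScalarTower.algebraMap_apply R R' (R' ⊗[R] B),
        ← IsScalarTower.algebraMap_apply R B (R' ⊗[R] B)]
    rw [IsScalarTower.algebraMap_apply R R' (Pad R' (R' ⊗[R] B) c),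
      ← (Pad.inl R' (R' ⊗[R] B) c hc.out).commutes, h1]
    rfl)

instance pushoutBPad [hc : Fact c] : Algebra.IsPushout R R' B (Pad R' (R' ⊗[R] B) c) :=
  Algebra.IsPushout.of_equiv (R := R) (R' := R') (S := B) (S' := R' ⊗[R] B)
    (Pad.equivX R' (R' ⊗[R] B) c hc.out).symm (RingHom.ext fun b => rfl)

theorem smooth_pad [hc : Fact c] [Algebra.Smooth R B] :
    Algebra.Smooth R' (Pad R' (R' ⊗[R] B) c) :=
  Algebra.Smooth.of_equiv (Pad.equivX R' (R' ⊗[R] B) c hc.out).symm

theorem geomIrred_pad [hc : Fact c] (h : FlatCA.GeomIrredFibres R B) :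
    FlatCA.GeomIrredFibres R' (Pad R' (R' ⊗[R] B) c) :=
  geomIrred_of_isPushout (R := R) (D := B) (R' := R') (D' := Pad R' (R' ⊗[R] B) c) h

theorem isPrime_pad (p' : Ideal R') [p'.IsPrime] (hsm : c → Algebra.Smooth R B)
    (hgi : c → FlatCA.GeomIrredFibres R B) :
    (p'.map (algebraMap R' (Pad R' (R' ⊗[R] B) c))).IsPrime :=
  Pad.map_isPrime R' _ c p' (fun hc => by
    haveI := hsm hc
    exact map_isPrime_of_smooth_geomIrred R' (R' ⊗[R] B)
      (geomIrred_of_isPushout (R := R) (D := B) (R' := R') (D' := R' ⊗[R] B) (hgi hc)) p')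

section WithA

variable (A : Type u) [CommRing A] [Algebra R A] [Algebra B A] [IsScalarTower R B A]

/-- `R' ⊗ B → R' ⊗ A` -/
noncomputable def phi : R' ⊗[R] B →ₐ[R'] R' ⊗[R] A :=
  Algebra.TensorProduct.map (AlgHom.id R' R') (IsScalarTower.toAlgHom R B A)

noncomputable instance padAlg : Algebra (Pad R' (R' ⊗[R] B) c) (R' ⊗[R] A) :=
  (Pad.lift R' (R' ⊗[R] B) c (phi R R' B A)).toRingHom.toAlgebra

theorem algebraMap_padAlg (x : Pad R' (R' ⊗[R] B) c) :
    algebraMap (Pad R' (R' ⊗[R] B) c) (R' ⊗[R] A) x =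
      Pad.lift R' (R' ⊗[R] B) c (phi R R' B A) x := rfl

instance padTower : IsScalarTower R' (Pad R' (R' ⊗[R] B) c) (R' ⊗[R] A) :=
  IsScalarTower.of_algHom (Pad.lift R' (R' ⊗[R] B) c (phi R R' B A))

instance padTowerR : IsScalarTower R (Pad R' (R' ⊗[R] B) c) (R' ⊗[R] A) := by
  refine IsScalarTower.of_algebraMap_eq (R := R) (S := Pad R' (R' ⊗[R] B) c)
    (A := R' ⊗[R] A) (fun r => ?_)
  rw [IsScalarTower.algebraMap_apply R R' (R' ⊗[R] A) r,
    IsScalarTower.algebraMap_apply R' (Pad R' (R' ⊗[R] B) c) (R' ⊗[R] A),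
    ← IsScalarTower.algebraMap_apply R R' (Pad R' (R' ⊗[R] B) c)]

variable [Algebra B (R' ⊗[R] A)] [IsScalarTower B A (R' ⊗[R] A)]

instance towerBPadA [hc : Fact c] : IsScalarTower B (Pad R' (R' ⊗[R] B) c) (R' ⊗[R] A) :=
  IsScalarTower.of_algebraMap_eq (fun b => by
    rw [algebraMap_BPad, algebraMap_padAlg, Pad.lift_inl,
      IsScalarTower.algebraMap_apply B A (R' ⊗[R] A)]
    show Algebra.TensorProduct.map (AlgHom.id R' R') (IsScalarTower.toAlgHom R B A)
      ((1 : R') ⊗ₜ[R] b) = _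
    rw [Algebra.TensorProduct.map_tmul]
    rfl)

instance towerRBA' : IsScalarTower R B (R' ⊗[R] A) :=
  IsScalarTower.of_algebraMap_eq (fun r => by
    rw [IsScalarTower.algebraMap_apply R A (R' ⊗[R] A), IsScalarTower.algebraMap_apply R B A,
      ← IsScalarTower.algebraMap_apply B A (R' ⊗[R] A)])

instance pushoutPadA [hc : Fact c] :
    Algebra.IsPushout B (Pad R' (R' ⊗[R] B) c) A (R' ⊗[R] A) :=
  isPushout_of_isPushout_of_isPushout R R' B (Pad R' (R' ⊗[R] B) c) A (R' ⊗[R] A)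

theorem finite_pad [hc : Fact c] [Module.Finite B A] :
    Module.Finite (Pad R' (R' ⊗[R] B) c) (R' ⊗[R] A) :=
  finite_of_isPushout B (Pad R' (R' ⊗[R] B) c) A (R' ⊗[R] A)

theorem fp_pad [hc : Fact c] [Algebra.FinitePresentation B A] :
    Algebra.FinitePresentation (Pad R' (R' ⊗[R] B) c) (R' ⊗[R] A) :=
  fp_of_isPushout B (Pad R' (R' ⊗[R] B) c) A (R' ⊗[R] A)

theorem surj_pad [hc : Fact c] (h : Function.Surjective (algebraMap B A)) :
    Function.Surjective (algebraMap (Pad R' (R' ⊗[R] B) c) (R' ⊗[R] A)) :=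
  Groth.Agent.Lib.Helper24.BCDev.surj_of_isPushout (S := B) (C := A)
    (S' := Pad R' (R' ⊗[R] B) c) (C' := R' ⊗[R] A) h

theorem isBaseChange_pad [hc : Fact c]
    (M M' : Type u) [AddCommGroup M] [AddCommGroup M'] [Module A M] [Module B M]
    [IsScalarTower B A M] [Module (R' ⊗[R] A) M'] [Module A M']
    [IsScalarTower A (R' ⊗[R] A) M'] [Module (Pad R' (R' ⊗[R] B) c) M']
    [IsScalarTower (Pad R' (R' ⊗[R] B) c) (R' ⊗[R] A) M'] [Module B M'] [IsScalarTower B A M']
    [IsScalarTower B (Pad R' (R' ⊗[R] B) c) M']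
    (g : M →ₗ[A] M') (hg : IsBaseChange (R' ⊗[R] A) g) :
    IsBaseChange (Pad R' (R' ⊗[R] B) c) (g.restrictScalars B) :=
  isBaseChange_of_isPushout B (Pad R' (R' ⊗[R] B) c) A (R' ⊗[R] A) M M' g hg

end WithA

/-- the fibre isomorphism condition transfers -/
theorem fibre_pad [hc : Fact c] [Algebra.Smooth R B]
    (p : Ideal R) [p.IsPrime] (p' : Ideal R') [p'.IsPrime]
    (hpp' : p'.comap (algebraMap R R') = p)
    [hP : (p.map (algebraMap R B)).IsPrime]
    [hP' : (p'.map (algebraMap R' (Pad R' (R' ⊗[R] B) c))).IsPrime]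
    (M M' : Type u) [AddCommGroup M] [AddCommGroup M'] [Module B M]
    [Module (Pad R' (R' ⊗[R] B) c) M'] [Module B M']
    [IsScalarTower B (Pad R' (R' ⊗[R] B) c) M']
    (r : ℕ) (g : M →ₗ[B] M') (hg : IsBaseChange (Pad R' (R' ⊗[R] B) c) g)
    (α : (Fin r → B) →ₗ[B] M)
    (α' : (Fin r → Pad R' (R' ⊗[R] B) c) →ₗ[Pad R' (R' ⊗[R] B) c] M')
    (hcomm : ∀ x, α' ((Algebra.linearMap B (Pad R' (R' ⊗[R] B) c)).compLeft (Fin r) x) =
      g (α x))
    (h : Function.Bijective (α.baseChange (p.map (algebraMap R B)).ResidueField)) :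
    Function.Bijective
      (α'.baseChange (p'.map (algebraMap R' (Pad R' (R' ⊗[R] B) c))).ResidueField) := by
  have hover : p.map (algebraMap R B) =
      (p'.map (algebraMap R' (Pad R' (R' ⊗[R] B) c))).comap
        (algebraMap B (Pad R' (R' ⊗[R] B) c)) :=
    (comap_map_eq_of_flat R R' B (Pad R' (R' ⊗[R] B) c) p p' hpp').symm
  letI : Algebra (p.map (algebraMap R B)).ResidueField
      (p'.map (algebraMap R' (Pad R' (R' ⊗[R] B) c))).ResidueField :=
    (Ideal.ResidueField.map _ _ (algebraMap B (Pad R' (R' ⊗[R] B) c)) hover).toAlgebra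
  letI : Algebra B (p'.map (algebraMap R' (Pad R' (R' ⊗[R] B) c))).ResidueField :=
    ((algebraMap (Pad R' (R' ⊗[R] B) c)
      (p'.map (algebraMap R' (Pad R' (R' ⊗[R] B) c))).ResidueField).comp
        (algebraMap B (Pad R' (R' ⊗[R] B) c))).toAlgebra
  haveI : IsScalarTower B (Pad R' (R' ⊗[R] B) c)
      (p'.map (algebraMap R' (Pad R' (R' ⊗[R] B) c))).ResidueField :=
    IsScalarTower.of_algebraMap_eq (fun _ => rfl)
  haveI : IsScalarTower B (p.map (algebraMap R B)).ResidueField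
      (p'.map (algebraMap R' (Pad R' (R' ⊗[R] B) c))).ResidueField :=
    IsScalarTower.of_algebraMap_eq (fun b => by
      show algebraMap (Pad R' (R' ⊗[R] B) c) _ (algebraMap B (Pad R' (R' ⊗[R] B) c) b) =
        Ideal.ResidueField.map _ _ (algebraMap B (Pad R' (R' ⊗[R] B) c)) hover
          (algebraMap B _ b)
      rw [Ideal.ResidueField.map_algebraMap])
  exact bijective_baseChange_of_isBaseChange B (Pad R' (R' ⊗[R] B) c)
    (p.map (algebraMap R B)).ResidueField
    (p'.map (algebraMap R' (Pad R' (R' ⊗[R] B) c))).ResidueField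
    (Fin r → B) (Fin r → Pad R' (R' ⊗[R] B) c) M M' _
    (IsBaseChange.finitePow (Fin r) (IsBaseChange.linearMap B (Pad R' (R' ⊗[R] B) c)))
    g hg α α' hcomm h

end Step

end Groth.Agent.Lib.Helper24.CDevBC
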