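import Mathlib
import Groth.Prelude.Def_FlatCA
import Groth.Agent.Lib.Helper24.CDevBCStep

/-!
# Base change of a complete dévissage
-/

set_option autoImplicit false
set_option maxHeartbeats 1600000
set_option linter.style.haveILetI false
set_option linter.unusedSectionVars false
set_option linter.unusedVariables false

universe u

namespace Groth.Agent.Lib.Helper24.CDevBC

open TensorProduct

attribute [local instance] Algebra.TensorProduct.rightAlgebra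

section Main

variable {R S : Type u} [CommRing R] [CommRing S] [Algebra R S]
  {N : Type u} [AddCommGroup N] [Module S N] {p : Ideal R} [p.IsPrime]
  (𝒟 : FlatCA.CompleteDevissage R S N p)
  (R' : Type u) [CommRing R'] [Algebra R R']

/-- the padded base change of `B i` -/
abbrev BP (i : ℕ) : Type u := Pad R' (R' ⊗[R] 𝒟.B i) (i < 𝒟.n)

noncomputable instance algB0A (i : ℕ) : Algebra (𝒟.B i) (R' ⊗[R] 𝒟.A i) :=
  ((algebraMap (𝒟.A i) (R' ⊗[R] 𝒟.A i)).comp (algebraMap (𝒟.B i) (𝒟.A i))).toAlgebra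

instance towerB0A (i : ℕ) : IsScalarTower (𝒟.B i) (𝒟.A i) (R' ⊗[R] 𝒟.A i) :=
  IsScalarTower.of_algebraMap_eq (R := 𝒟.B i) (S := 𝒟.A i) (A := R' ⊗[R] 𝒟.A i) (fun _ => rfl)

noncomputable instance algB0A' (i : ℕ) : Algebra (𝒟.B i) (R' ⊗[R] 𝒟.A (i + 1)) :=
  ((algebraMap (𝒟.A (i + 1)) (R' ⊗[R] 𝒟.A (i + 1))).comp
    (algebraMap (𝒟.B i) (𝒟.A (i + 1)))).toAlgebra

instance towerB0A' (i : ℕ) : IsScalarTower (𝒟.B i) (𝒟.A (i + 1)) (R' ⊗[R] 𝒟.A (i + 1)) :=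
  IsScalarTower.of_algebraMap_eq (R := 𝒟.B i) (S := 𝒟.A (i + 1)) (A := R' ⊗[R] 𝒟.A (i + 1))
    (fun _ => rfl)

/-- the base change of `M i` -/
def MP (i : ℕ) : Type u := (R' ⊗[R] 𝒟.A i) ⊗[𝒟.A i] 𝒟.M i

noncomputable instance instAddCommGroupMP (i : ℕ) : AddCommGroup (MP 𝒟 R' i) :=
  inferInstanceAs (AddCommGroup ((R' ⊗[R] 𝒟.A i) ⊗[𝒟.A i] 𝒟.M i))

/-- the base module structure -/
noncomputable def baseMod (i : ℕ) : Module (R' ⊗[R] 𝒟.A i) (MP 𝒟 R' i) :=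
  inferInstanceAs (Module (R' ⊗[R] 𝒟.A i) ((R' ⊗[R] 𝒟.A i) ⊗[𝒟.A i] 𝒟.M i))

/-- the base scalar multiplication -/
noncomputable def bsmul (i : ℕ) (a : R' ⊗[R] 𝒟.A i) (x : MP 𝒟 R' i) : MP 𝒟 R' i :=
  letI := baseMod 𝒟 R' i
  a • x

theorem bsmul_mul (i : ℕ) (a b : R' ⊗[R] 𝒟.A i) (x : MP 𝒟 R' i) :
    bsmul 𝒟 R' i (a * b) x = bsmul 𝒟 R' i a (bsmul 𝒟 R' i b x) := by
  letI := baseMod 𝒟 R' i
  exact mul_smul a b x

noncomputable instance (priority := 50) genMod (i : ℕ) (T : Type u) [CommRing T]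
    [Algebra T (R' ⊗[R] 𝒟.A i)] : Module T (MP 𝒟 R' i) :=
  letI := baseMod 𝒟 R' i
  Module.compHom (MP 𝒟 R' i) (algebraMap T (R' ⊗[R] 𝒟.A i))

theorem genMod_smul (i : ℕ) (T : Type u) [CommRing T] [Algebra T (R' ⊗[R] 𝒟.A i)] (t : T)
    (x : MP 𝒟 R' i) : t • x = bsmul 𝒟 R' i (algebraMap T (R' ⊗[R] 𝒟.A i) t) x := rfl

instance (priority := 50) genTower (i : ℕ) (T₁ T₂ : Type u) [CommRing T₁] [CommRing T₂]
    [Algebra T₁ T₂] [Algebra T₁ (R' ⊗[R] 𝒟.A i)] [Algebra T₂ (R' ⊗[R] 𝒟.A i)]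
    [IsScalarTower T₁ T₂ (R' ⊗[R] 𝒟.A i)] : IsScalarTower T₁ T₂ (MP 𝒟 R' i) :=
  ⟨fun a b x => by
    simp only [genMod_smul]
    rw [Algebra.smul_def, map_mul, ← IsScalarTower.algebraMap_apply, bsmul_mul]⟩

/-- the base change map -/
noncomputable def gM0 (i : ℕ) : 𝒟.M i →ₗ[𝒟.A i] MP 𝒟 R' i where
  toFun m := ((1 : R' ⊗[R] 𝒟.A i) ⊗ₜ[𝒟.A i] m : (R' ⊗[R] 𝒟.A i) ⊗[𝒟.A i] 𝒟.M i)
  map_add' m₁ m₂ := TensorProduct.tmul_add _ _ _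
  map_smul' a m := by
    rw [RingHom.id_apply, genMod_smul]
    show ((1 : R' ⊗[R] 𝒟.A i) ⊗ₜ[𝒟.A i] (a • m) : (R' ⊗[R] 𝒟.A i) ⊗[𝒟.A i] 𝒟.M i) =
      (algebraMap (𝒟.A i) (R' ⊗[R] 𝒟.A i) a) • ((1 : R' ⊗[R] 𝒟.A i) ⊗ₜ[𝒟.A i] m)
    rw [TensorProduct.smul_tmul', smul_eq_mul, mul_one, ← TensorProduct.smul_tmul,
      Algebra.algebraMap_eq_smul_one]

/-- the identity, as a linear equivalence to `MP` -/
noncomputable def eMP (i : ℕ) :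
    (R' ⊗[R] 𝒟.A i) ⊗[𝒟.A i] 𝒟.M i ≃ₗ[R' ⊗[R] 𝒟.A i] MP 𝒟 R' i where
  toFun x := x
  invFun x := x
  map_add' _ _ := rfl
  map_smul' a x := by
    rw [RingHom.id_apply, genMod_smul]
    rfl
  left_inv _ := rfl
  right_inv _ := rfl

theorem isBaseChange_gM0 (i : ℕ) : IsBaseChange (R' ⊗[R] 𝒟.A i) (gM0 𝒟 R' i) :=
  IsBaseChange.of_equiv (eMP 𝒟 R' i) (fun x => rfl)

theorem finiteM_P (i : ℕ) (h : i < 𝒟.n) : Module.Finite (R' ⊗[R] 𝒟.A i) (MP 𝒟 R' i) := by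
  haveI := 𝒟.finiteM i h
  exact Module.Finite.equiv (eMP 𝒟 R' i)

theorem surjBA'_P (i : ℕ) (h : i + 1 < 𝒟.n) :
    Function.Surjective (algebraMap (BP 𝒟 R' i) (R' ⊗[R] 𝒟.A (i + 1))) := by
  haveI : Fact (i < 𝒟.n) := ⟨by omega⟩
  exact surj_pad R R' (𝒟.B i) (i < 𝒟.n) (𝒟.A (i + 1)) (𝒟.surjBA' i h)

theorem fpBA'_P (i : ℕ) (h : i + 1 < 𝒟.n) :
    Algebra.FinitePresentation (BP 𝒟 R' i) (R' ⊗[R] 𝒟.A (i + 1)) := by
  haveI : Fact (i < 𝒟.n) := ⟨by omega⟩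
  haveI := 𝒟.fpBA' i h
  exact fp_pad R R' (𝒟.B i) (i < 𝒟.n) (𝒟.A (i + 1))

theorem finiteBA_P (i : ℕ) (h : i < 𝒟.n) : Module.Finite (BP 𝒟 R' i) (R' ⊗[R] 𝒟.A i) := by
  haveI : Fact (i < 𝒟.n) := ⟨h⟩
  haveI := 𝒟.finiteBA i h
  exact finite_pad R R' (𝒟.B i) (i < 𝒟.n) (𝒟.A i)

theorem smooth_P (i : ℕ) (h : i < 𝒟.n) : Algebra.Smooth R' (BP 𝒟 R' i) := by
  haveI : Fact (i < 𝒟.n) := ⟨h⟩
  haveI := 𝒟.smooth i h
  exact smooth_pad R R' (𝒟.B i) (i < 𝒟.n)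

theorem geomIrred_P (i : ℕ) (h : i < 𝒟.n) : FlatCA.GeomIrredFibres R' (BP 𝒟 R' i) := by
  haveI : Fact (i < 𝒟.n) := ⟨h⟩
  exact geomIrred_pad R R' (𝒟.B i) (i < 𝒟.n) (𝒟.geomIrred i h)

theorem hp_P (p' : Ideal R') [p'.IsPrime] (i : ℕ) :
    (p'.map (algebraMap R' (BP 𝒟 R' i))).IsPrime :=
  isPrime_pad R R' (𝒟.B i) (i < 𝒟.n) p' (fun h => 𝒟.smooth i h) (fun h => 𝒟.geomIrred i h)

theorem isBaseChange_gMB (i : ℕ) [Fact (i < 𝒟.n)] :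
    IsBaseChange (BP 𝒟 R' i) ((gM0 𝒟 R' i).restrictScalars (𝒟.B i)) :=
  isBaseChange_pad R R' (𝒟.B i) (i < 𝒟.n) (𝒟.A i) (𝒟.M i) (MP 𝒟 R' i) (gM0 𝒟 R' i)
    (isBaseChange_gM0 𝒟 R' i)

theorem isBaseChange_gMB' (i : ℕ) [Fact (i < 𝒟.n)] :
    IsBaseChange (BP 𝒟 R' i) ((gM0 𝒟 R' (i + 1)).restrictScalars (𝒟.B i)) :=
  isBaseChange_pad R R' (𝒟.B i) (i < 𝒟.n) (𝒟.A (i + 1)) (𝒟.M (i + 1)) (MP 𝒟 R' (i + 1))
    (gM0 𝒟 R' (i + 1)) (isBaseChange_gM0 𝒟 R' (i + 1))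

/-- the generators of the image of the new `α` -/
noncomputable def vP (i : ℕ) (j : Fin (𝒟.r i)) : MP 𝒟 R' i :=
  gM0 𝒟 R' i (𝒟.α i (fun k => if j = k then 1 else 0))

/-- the new `α` -/
noncomputable def alphaP (i : ℕ) : (Fin (𝒟.r i) → BP 𝒟 R' i) →ₗ[BP 𝒟 R' i] MP 𝒟 R' i :=
  Fintype.linearCombination (BP 𝒟 R' i) (vP 𝒟 R' i)

theorem alphaP_comm (i : ℕ) [Fact (i < 𝒟.n)] (x : Fin (𝒟.r i) → 𝒟.B i) :
    alphaP 𝒟 R' i ((Algebra.linearMap (𝒟.B i) (BP 𝒟 R' i)).compLeft (Fin (𝒟.r i)) x) =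
      (gM0 𝒟 R' i).restrictScalars (𝒟.B i) (𝒟.α i x) := by
  have h1 := LinearMap.pi_apply_eq_sum_univ
    (((gM0 𝒟 R' i).restrictScalars (𝒟.B i)).comp (𝒟.α i)) x
  rw [show (gM0 𝒟 R' i).restrictScalars (𝒟.B i) (𝒟.α i x) =
    (((gM0 𝒟 R' i).restrictScalars (𝒟.B i)).comp (𝒟.α i)) x from rfl, h1, alphaP,
    Fintype.linearCombination_apply]
  refine Finset.sum_congr rfl (fun j _ => ?_)
  show (algebraMap (𝒟.B i) (BP 𝒟 R' i) (x j)) • vP 𝒟 R' i j = _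
  rw [algebraMap_smul]
  rfl

theorem range_alphaP (i : ℕ) [Fact (i < 𝒟.n)] :
    LinearMap.range (alphaP 𝒟 R' i) =
      Submodule.span (BP 𝒟 R' i)
        ((gM0 𝒟 R' i) '' (LinearMap.range (𝒟.α i) : Set (𝒟.M i))) :=
  range_eq_span_of_isBaseChange (𝒟.B i) (BP 𝒟 R' i) (Fin (𝒟.r i) → 𝒟.B i)
    (Fin (𝒟.r i) → BP 𝒟 R' i) (𝒟.M i) (MP 𝒟 R' i)
    ((Algebra.linearMap (𝒟.B i) (BP 𝒟 R' i)).compLeft (Fin (𝒟.r i)))
    (IsBaseChange.finitePow (Fin (𝒟.r i)) (IsBaseChange.linearMap (𝒟.B i) (BP 𝒟 R' i)))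
    ((gM0 𝒟 R' i).restrictScalars (𝒟.B i)) (𝒟.α i) (alphaP 𝒟 R' i) (alphaP_comm 𝒟 R' i)

theorem exists_isoCoker (i : ℕ) (h : i + 1 < 𝒟.n) :
    Nonempty ((MP 𝒟 R' i ⧸ LinearMap.range (alphaP 𝒟 R' i)) ≃ₗ[BP 𝒟 R' i]
      MP 𝒟 R' (i + 1)) := by
  haveI : Fact (i < 𝒟.n) := ⟨by omega⟩
  have hg₁ := isBaseChange_gMB 𝒟 R' i
  have hg₂ := isBaseChange_gMB' 𝒟 R' i
  let π : 𝒟.M i →ₗ[𝒟.B i] 𝒟.M (i + 1) :=
    (𝒟.isoCoker i h).toLinearMap.comp (LinearMap.range (𝒟.α i)).mkQ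
  have hπ : Function.Surjective π :=
    (𝒟.isoCoker i h).surjective.comp (Submodule.mkQ_surjective _)
  have hker : LinearMap.ker π = LinearMap.range (𝒟.α i) := by
    rw [LinearEquiv.ker_comp, Submodule.ker_mkQ]
  let π' : MP 𝒟 R' i →ₗ[BP 𝒟 R' i] MP 𝒟 R' (i + 1) :=
    hg₁.lift (((gM0 𝒟 R' (i + 1)).restrictScalars (𝒟.B i)).comp π)
  have hcomm : ∀ x, π' ((gM0 𝒟 R' i).restrictScalars (𝒟.B i) x) =
      (gM0 𝒟 R' (i + 1)).restrictScalars (𝒟.B i) (π x) := fun x => hg₁.lift_eq _ x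
  obtain ⟨hsurj, hk⟩ := ker_eq_span_of_isBaseChange (𝒟.B i) (BP 𝒟 R' i) (𝒟.M i) (MP 𝒟 R' i)
    (𝒟.M (i + 1)) (MP 𝒟 R' (i + 1)) _ hg₁ _ hg₂ π hπ π' hcomm
  have hr := range_alphaP 𝒟 R' i
  have heq : LinearMap.range (alphaP 𝒟 R' i) = LinearMap.ker π' := by
    rw [hr, hk, hker]
    rfl
  exact ⟨(Submodule.quotEquivOfEq _ _ heq).trans (π'.quotKerEquivOfSurjective hsurj)⟩

theorem fibreIso_P (p' : Ideal R') [p'.IsPrime] (hpp' : p'.comap (algebraMap R R') = p)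
    (i : ℕ) (h : i < 𝒟.n) :
    haveI := hp_P 𝒟 R' p' i
    Function.Bijective ((alphaP 𝒟 R' i).baseChange
      (p'.map (algebraMap R' (BP 𝒟 R' i))).ResidueField) := by
  haveI : Fact (i < 𝒟.n) := ⟨h⟩
  haveI := 𝒟.smooth i h
  haveI := hp_P 𝒟 R' p' i
  exact fibre_pad R R' (𝒟.B i) (i < 𝒟.n) p p' hpp' (𝒟.M i) (MP 𝒟 R' i) (𝒟.r i) _
    (isBaseChange_gMB 𝒟 R' i) (𝒟.α i) (alphaP 𝒟 R' i) (alphaP_comm 𝒟 R' i) (𝒟.fibreIso i h)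

theorem cokerLast_P : Function.Surjective (alphaP 𝒟 R' (𝒟.n - 1)) := by
  have hlt : 𝒟.n - 1 < 𝒟.n := Nat.sub_lt 𝒟.pos Nat.one_pos
  haveI : Fact (𝒟.n - 1 < 𝒟.n) := ⟨hlt⟩
  rw [← LinearMap.range_eq_top, range_alphaP 𝒟 R' (𝒟.n - 1)]
  have h1 : (LinearMap.range (𝒟.α (𝒟.n - 1)) : Set (𝒟.M (𝒟.n - 1))) = Set.univ := by
    rw [LinearMap.range_eq_top.mpr 𝒟.cokerLast]
    rfl
  rw [h1, Set.image_univ]
  have hg := isBaseChange_gMB 𝒟 R' (𝒟.n - 1)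
  rw [eq_top_iff]
  intro x _
  exact hg.inductionOn x
    (fun x => x ∈ Submodule.span (BP 𝒟 R' (𝒟.n - 1)) (Set.range (gM0 𝒟 R' (𝒟.n - 1))))
    (Submodule.zero_mem _) (fun m => Submodule.subset_span ⟨m, rfl⟩)
    (fun b x hx => Submodule.smul_mem _ _ hx) (fun x y hx hy => Submodule.add_mem _ hx hy)

section WithS

variable (S' : Type u) [CommRing S'] [Algebra R' S'] [Algebra R S'] [Algebra S S']
  [IsScalarTower R R' S'] [IsScalarTower R S S'] [Algebra.IsPushout R R' S S']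

noncomputable instance sAlg : Algebra S (R' ⊗[R] 𝒟.A 0) :=
  ((algebraMap (𝒟.A 0) (R' ⊗[R] 𝒟.A 0)).comp (algebraMap S (𝒟.A 0))).toAlgebra

instance towerSA0 : IsScalarTower S (𝒟.A 0) (R' ⊗[R] 𝒟.A 0) :=
  IsScalarTower.of_algebraMap_eq (R := S) (S := 𝒟.A 0) (A := R' ⊗[R] 𝒟.A 0) (fun _ => rfl)

/-- `S' → R' ⊗ A 0` -/
noncomputable def sigma : S' →ₐ[R] R' ⊗[R] 𝒟.A 0 :=
  Algebra.pushoutDesc S' (Algebra.TensorProduct.includeLeft : R' →ₐ[R] R' ⊗[R] 𝒟.A 0)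
    ((Algebra.TensorProduct.includeRight : 𝒟.A 0 →ₐ[R] R' ⊗[R] 𝒟.A 0).comp
      (IsScalarTower.toAlgHom R S (𝒟.A 0)))
    (fun _ _ => mul_comm _ _)

theorem sigma_left (r : R') : sigma 𝒟 R' S' (algebraMap R' S' r) = r ⊗ₜ 1 := by
  rw [sigma, Algebra.pushoutDesc_left]
  rfl

theorem sigma_right (s : S) :
    sigma 𝒟 R' S' (algebraMap S S' s) = 1 ⊗ₜ algebraMap S (𝒟.A 0) s := by
  rw [sigma, Algebra.pushoutDesc_right]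
  rfl

noncomputable instance sAlg' : Algebra S' (R' ⊗[R] 𝒟.A 0) :=
  (sigma 𝒟 R' S').toRingHom.toAlgebra

theorem algebraMap_sAlg' (x : S') :
    algebraMap S' (R' ⊗[R] 𝒟.A 0) x = sigma 𝒟 R' S' x := rfl

instance towerR'S'A0 : IsScalarTower R' S' (R' ⊗[R] 𝒟.A 0) := by
  refine IsScalarTower.of_algebraMap_eq (R := R') (S := S') (A := R' ⊗[R] 𝒟.A 0) (fun r => ?_)
  rw [algebraMap_sAlg', sigma_left]
  rfl

instance towerSS'A0 : IsScalarTower S S' (R' ⊗[R] 𝒟.A 0) := by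
  refine IsScalarTower.of_algebraMap_eq (R := S) (S := S') (A := R' ⊗[R] 𝒟.A 0) (fun s => ?_)
  rw [algebraMap_sAlg', sigma_right]
  rfl

instance towerRS'A0 : IsScalarTower R S' (R' ⊗[R] 𝒟.A 0) := by
  refine IsScalarTower.of_algebraMap_eq (R := R) (S := S') (A := R' ⊗[R] 𝒟.A 0) (fun r => ?_)
  rw [IsScalarTower.algebraMap_apply R R' S' r,
    ← IsScalarTower.algebraMap_apply R' S' (R' ⊗[R] 𝒟.A 0),
    ← IsScalarTower.algebraMap_apply R R' (R' ⊗[R] 𝒟.A 0)]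

instance pushoutS : Algebra.IsPushout S S' (𝒟.A 0) (R' ⊗[R] 𝒟.A 0) :=
  isPushout_of_isPushout_of_isPushout R R' S S' (𝒟.A 0) (R' ⊗[R] 𝒟.A 0)

theorem surjSA_P : Function.Surjective (algebraMap S' (R' ⊗[R] 𝒟.A 0)) :=
  Groth.Agent.Lib.Helper24.BCDev.surj_of_isPushout (S := S) (C := 𝒟.A 0) (S' := S')
    (C' := R' ⊗[R] 𝒟.A 0) 𝒟.surjSA

theorem fpSA_P : Algebra.FinitePresentation S' (R' ⊗[R] 𝒟.A 0) := by
  haveI := 𝒟.fpSA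
  exact fp_of_isPushout S S' (𝒟.A 0) (R' ⊗[R] 𝒟.A 0)

theorem exists_isoN (N' : Type u) [AddCommGroup N'] [Module S' N'] [Module S N']
    [IsScalarTower S S' N'] (f : N →ₗ[S] N') (hf : IsBaseChange S' f) :
    ∃ e : N' ≃ₗ[S'] MP 𝒟 R' 0, ∀ x, e (f x) = gM0 𝒟 R' 0 (𝒟.isoN x) := by
  have h1 : IsBaseChange S' ((gM0 𝒟 R' 0).restrictScalars S) :=
    isBaseChange_of_isPushout S S' (𝒟.A 0) (R' ⊗[R] 𝒟.A 0) (𝒟.M 0) (MP 𝒟 R' 0) (gM0 𝒟 R' 0)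
      (isBaseChange_gM0 𝒟 R' 0)
  have h2 : IsBaseChange S' (((gM0 𝒟 R' 0).restrictScalars S).comp 𝒟.isoN.toLinearMap) :=
    IsBaseChange.comp_equiv 𝒟.isoN _ h1
  refine ⟨hf.equiv.symm ≪≫ₗ h2.equiv, fun x => ?_⟩
  show h2.equiv (hf.equiv.symm (f x)) = _
  rw [hf.equiv_symm_apply, h2.equiv_tmul, one_smul]
  rfl

/-- the base-changed complete dévissage -/
noncomputable def mkD (p' : Ideal R') [p'.IsPrime] (hpp' : p'.comap (algebraMap R R') = p)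
    (N' : Type u) [AddCommGroup N'] [Module S' N'] [Module S N'] [IsScalarTower S S' N']
    (f : N →ₗ[S] N') (hf : IsBaseChange S' f) : FlatCA.CompleteDevissage R' S' N' p' where
  n := 𝒟.n
  pos := 𝒟.pos
  A := fun i => R' ⊗[R] 𝒟.A i
  B := fun i => BP 𝒟 R' i
  M := fun i => MP 𝒟 R' i
  r := 𝒟.r
  cA := fun i => inferInstance
  cB := fun i => inferInstance
  aRA := fun i => inferInstance
  aRB := fun i => inferInstance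
  aBA := fun i => inferInstance
  tRBA := fun i => inferInstance
  aSA := sAlg' 𝒟 R' S'
  tRSA := towerR'S'A0 𝒟 R' S'
  aBA' := fun i => inferInstance
  tRBA' := fun i => inferInstance
  gM := fun i => inferInstance
  mAM := fun i => inferInstance
  mBM := fun i => inferInstance
  tBAM := fun i => inferInstance
  mRM := fun i => inferInstance
  tRBM := fun i => inferInstance
  mSM := inferInstance
  tSAM := inferInstance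
  mB'M := fun i => inferInstance
  tB'AM := fun i => inferInstance
  hp := fun i => hp_P 𝒟 R' p' i
  α := fun i => alphaP 𝒟 R' i
  surjSA := surjSA_P 𝒟 R' S'
  fpSA := fpSA_P 𝒟 R' S'
  surjBA' := fun i h => surjBA'_P 𝒟 R' i h
  fpBA' := fun i h => fpBA'_P 𝒟 R' i h
  finiteBA := fun i h => finiteBA_P 𝒟 R' i h
  smooth := fun i h => smooth_P 𝒟 R' i h
  geomIrred := fun i h => geomIrred_P 𝒟 R' i h
  finiteM := fun i h => finiteM_P 𝒟 R' i h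
  isoN := Classical.choose (exists_isoN 𝒟 R' S' N' f hf)
  isoCoker := fun i h => Classical.choice (exists_isoCoker 𝒟 R' i h)
  fibreIso := fun i h => fibreIso_P 𝒟 R' p' hpp' i h
  cokerLast := cokerLast_P 𝒟 R'

theorem mkD_isoN (p' : Ideal R') [p'.IsPrime] (hpp' : p'.comap (algebraMap R R') = p)
    (N' : Type u) [AddCommGroup N'] [Module S' N'] [Module S N'] [IsScalarTower S S' N']
    (f : N →ₗ[S] N') (hf : IsBaseChange S' f) (x : N) :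
    (mkD 𝒟 R' S' p' hpp' N' f hf).isoN (f x) = gM0 𝒟 R' 0 (𝒟.isoN x) :=
  Classical.choose_spec (exists_isoN 𝒟 R' S' N' f hf) x

end WithS

end Main

open FlatMor in
open TensorProduct in
theorem main43
    (R S : Type u) [CommRing R] [CommRing S] [Algebra R S] [Algebra.FiniteType R S]
    (N : Type u) [AddCommGroup N] [Module S N] [Module.Finite S N]
    (p : Ideal R) [p.IsPrime] (𝒟 : FlatCA.CompleteDevissage R S N p)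
    (R' : Type u) [CommRing R'] [Algebra R R'] (p' : Ideal R') [p'.IsPrime] [p'.LiesOver p]
    (S' : Type u) [CommRing S'] [Algebra R' S'] [Algebra R S'] [Algebra S S'] [IsScalarTower R R' S']
    [IsScalarTower R S S'] [Algebra.IsPushout R R' S S']
    (N' : Type u) [AddCommGroup N'] [Module S' N'] [Module S N'] [IsScalarTower S S' N']
    (f : N →ₗ[S] N') (hf : IsBaseChange S' f) :
    ∃ (𝒟' : FlatCA.CompleteDevissage R' S' N' p')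
      (aA : ∀ i : Fin 𝒟.n, Algebra (𝒟.A i) (𝒟'.A i)) (rA : ∀ i : Fin 𝒟.n, Algebra R (𝒟'.A i))
      (_t1 : ∀ i : Fin 𝒟.n, IsScalarTower R (R') (𝒟'.A i)) (_t2 : ∀ i : Fin 𝒟.n, IsScalarTower R (𝒟.A i) (𝒟'.A i))
      (aB : ∀ i : Fin 𝒟.n, Algebra (𝒟.B i) (𝒟'.B i)) (rB : ∀ i : Fin 𝒟.n, Algebra R (𝒟'.B i))
      (_t3 : ∀ i : Fin 𝒟.n, IsScalarTower R (R') (𝒟'.B i)) (_t4 : ∀ i : Fin 𝒟.n, IsScalarTower R (𝒟.B i) (𝒟'.B i))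
      (bA : ∀ i : Fin 𝒟.n, Algebra (𝒟.B i) (𝒟'.A i)) (_t5 : ∀ i : Fin 𝒟.n, IsScalarTower (𝒟.B i) (𝒟.A i) (𝒟'.A i))
      (_t6 : ∀ i : Fin 𝒟.n, IsScalarTower (𝒟.B i) (𝒟'.B i) (𝒟'.A i))
      (bA' : ∀ i : Fin 𝒟.n, Algebra (𝒟.B i) (𝒟'.A (i + 1)))
      (_t7 : ∀ i : Fin 𝒟.n, IsScalarTower (𝒟.B i) (𝒟'.B i) (𝒟'.A (i + 1)))
      (sA : Algebra S (𝒟'.A 0)) (_t8 : IsScalarTower S (S') (𝒟'.A 0))
      (mA : ∀ i : Fin 𝒟.n, Module (𝒟.A i) (𝒟'.M i)) (_t9 : ∀ i : Fin 𝒟.n, IsScalarTower (𝒟.A i) (𝒟'.A i) (𝒟'.M i))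
      (gM : ∀ i : Fin 𝒟.n, 𝒟.M i →ₗ[𝒟.A i] 𝒟'.M i),
      𝒟'.n = 𝒟.n ∧ 𝒟'.r = 𝒟.r ∧
      (letI := aA ⟨0, 𝒟.pos⟩; IsScalarTower S (𝒟.A 0) (𝒟'.A 0)) ∧
      (∀ x : N, 𝒟'.isoN (f x) = gM ⟨0, 𝒟.pos⟩ (𝒟.isoN x)) ∧
      (∀ (i : Fin 𝒟.n) (h : (i : ℕ) + 1 < 𝒟.n),
        letI := aA ⟨i + 1, h⟩; IsScalarTower (𝒟.B i) (𝒟.A (i + 1)) (𝒟'.A (i + 1))) ∧
      ∀ i : Fin 𝒟.n,
        Algebra.IsPushout R R' (𝒟.A i) (𝒟'.A i) ∧ Algebra.IsPushout R R' (𝒟.B i) (𝒟'.B i) ∧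
        IsBaseChange (𝒟'.A i) (gM i) ∧
        LinearMap.range (𝒟'.α i) =
          Submodule.span (𝒟'.B i) ((gM i) '' (LinearMap.range (𝒟.α i) : Set (𝒟.M i))) := by
  have hpp' : p'.comap (algebraMap R R') = p := (Ideal.LiesOver.over (p := p) (P := p')).symm
  refine ⟨mkD 𝒟 R' S' p' hpp' N' f hf,
    fun i => (Algebra.TensorProduct.rightAlgebra : Algebra (𝒟.A i) (R' ⊗[R] 𝒟.A i)),
    fun i => (inferInstance : Algebra R (R' ⊗[R] 𝒟.A i)),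
    fun i => (inferInstance : IsScalarTower R R' (R' ⊗[R] 𝒟.A i)),
    fun i => (inferInstance : IsScalarTower R (𝒟.A i) (R' ⊗[R] 𝒟.A i)),
    fun i => (haveI : Fact ((i : ℕ) < 𝒟.n) := ⟨i.2⟩;
      (inferInstance : Algebra (𝒟.B i) (BP 𝒟 R' i))),
    fun i => (inferInstance : Algebra R (BP 𝒟 R' i)),
    fun i => (inferInstance : IsScalarTower R R' (BP 𝒟 R' i)),
    fun i => (haveI : Fact ((i : ℕ) < 𝒟.n) := ⟨i.2⟩;
      (inferInstance : IsScalarTower R (𝒟.B i) (BP 𝒟 R' i))),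
    fun i => (inferInstance : Algebra (𝒟.B i) (R' ⊗[R] 𝒟.A i)),
    fun i => (inferInstance : IsScalarTower (𝒟.B i) (𝒟.A i) (R' ⊗[R] 𝒟.A i)),
    fun i => (haveI : Fact ((i : ℕ) < 𝒟.n) := ⟨i.2⟩;
      (inferInstance : IsScalarTower (𝒟.B i) (BP 𝒟 R' i) (R' ⊗[R] 𝒟.A i))),
    fun i => (inferInstance : Algebra (𝒟.B i) (R' ⊗[R] 𝒟.A (i + 1))),
    fun i => (haveI : Fact ((i : ℕ) < 𝒟.n) := ⟨i.2⟩;
      (inferInstance : IsScalarTower (𝒟.B i) (BP 𝒟 R' i) (R' ⊗[R] 𝒟.A (i + 1)))),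
    (inferInstance : Algebra S (R' ⊗[R] 𝒟.A 0)),
    (inferInstance : IsScalarTower S S' (R' ⊗[R] 𝒟.A 0)),
    fun i => (inferInstance : Module (𝒟.A i) (MP 𝒟 R' i)),
    fun i => (inferInstance : IsScalarTower (𝒟.A i) (R' ⊗[R] 𝒟.A i) (MP 𝒟 R' i)),
    fun i => gM0 𝒟 R' i, ?_⟩
  refine ⟨rfl, rfl, ?_, ?_, ?_, ?_⟩
  · exact (inferInstance : IsScalarTower S (𝒟.A 0) (R' ⊗[R] 𝒟.A 0))
  · intro x
    exact mkD_isoN 𝒟 R' S' p' hpp' N' f hf x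
  · intro i h
    exact (inferInstance : IsScalarTower (𝒟.B i) (𝒟.A (i + 1)) (R' ⊗[R] 𝒟.A (i + 1)))
  · intro i
    haveI : Fact ((i : ℕ) < 𝒟.n) := ⟨i.2⟩
    exact ⟨(inferInstance : Algebra.IsPushout R R' (𝒟.A i) (R' ⊗[R] 𝒟.A i)),
      (inferInstance : Algebra.IsPushout R R' (𝒟.B i) (BP 𝒟 R' i)),
      isBaseChange_gM0 𝒟 R' i, range_alphaP 𝒟 R' i⟩

end Groth.Agent.Lib.Helper24.CDevBC
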