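import Mathlib
import Groth.Prelude.Def_FlatCA
import Groth.Prelude.Def_Flat
import Groth.Agent.Lib.Helper24.ShrinkA
import Groth.Agent.Lib.Helper24.ShrinkB

/-!
# Standard shrinking of a one-step dévissage: assembly
-/

set_option autoImplicit false
set_option maxHeartbeats 1600000
set_option linter.style.haveILetI false
set_option linter.unusedSectionVars false
set_option linter.unusedVariables false

universe u

namespace Groth.Agent.Lib.Helper24.Shrink

open TensorProduct

theorem tower_of_loc {A A' B' C' : Type u} [CommRing A] [CommRing A'] [CommRing B'] [CommRing C']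
    [Algebra A A'] [Algebra A' B'] [Algebra B' C'] [Algebra A' C'] [Algebra A B'] [Algebra A C']
    [IsScalarTower A A' B'] [IsScalarTower A A' C'] [IsScalarTower A B' C']
    (M : Submonoid A) [IsLocalization M A'] : IsScalarTower A' B' C' := by
  refine IsScalarTower.of_algebraMap_eq' ?_
  apply IsLocalization.ringHom_ext M
  ext a
  simp only [RingHom.comp_apply]
  rw [← IsScalarTower.algebraMap_apply A A' C', ← IsScalarTower.algebraMap_apply A A' B',
    ← IsScalarTower.algebraMap_apply A B' C']

theorem core
    (R S : Type u) [CommRing R] [CommRing S] [Algebra R S] [Algebra.FiniteType R S]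
    (N : Type u) [AddCommGroup N] [Module S N] [Module R N] [IsScalarTower R S N] [Module.Finite S N]
    (p : Ideal R) [p.IsPrime] (q : Ideal S) [q.IsPrime] [q.LiesOver p]
    (C D G : Type u) [CommRing C] [CommRing D] [Algebra S C] [Algebra R C] [IsScalarTower R S C]
    [Algebra R D] [Algebra D C] [IsScalarTower R D C] [AddCommGroup G] [Module C G] [Module S G]
    [IsScalarTower S C G] (n : ℕ)
    (h : FlatCA.IsOneStepDevissage R S N p C D G n)
    (z : Ideal C) [z.IsPrime] (y : Ideal D) [y.IsPrime] [z.LiesOver q] [z.LiesOver y] [y.LiesOver p]
    (h1 : ∃ (ξ : PrimeSpectrum (p.Fiber S)) (hξ : ξ ∈ Module.support (p.Fiber S) (FlatCA.fiberMod p S N)),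
      ξ.asIdeal = FlatCA.fiberIdeal p q ∧
      FlatMor.localDim (Module.support (p.Fiber S) (FlatCA.fiberMod p S N)) ⟨ξ, hξ⟩ = n)
    (h3 : ∀ (z₁ : Ideal C) [z₁.IsPrime], z₁.LiesOver y → z₁ = z)
    (h4 : FlatCA.PurelyTranscendental p y)
    (g : R) (hX : S) (hZ : C) (hY : D)
    (hg : g ∉ p) (hYy : hY ∉ y)
    (hZY : hZ = algebraMap D C hY) (hXZ : algebraMap S C hX = hZ)
    (hgX : algebraMap R S g ∣ hX) (hgY : algebraMap R D g ∣ hY)
    (himg : ∀ P : Ideal R, P.IsPrime → g ∉ P →
      ∃ Q : Ideal D, Q.IsPrime ∧ hY ∉ Q ∧ Q.comap (algebraMap R D) = P) :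
      ∃ (_ : Algebra (Localization.Away g) (Localization.Away hX)) (_ : IsScalarTower R (Localization.Away g) (Localization.Away hX))
        (_ : Algebra (Localization.Away g) (Localization.Away hZ)) (_ : IsScalarTower R (Localization.Away g) (Localization.Away hZ))
        (_ : Algebra (Localization.Away g) (Localization.Away hY)) (_ : IsScalarTower R (Localization.Away g) (Localization.Away hY))
        (_ : Algebra (Localization.Away hX) (Localization.Away hZ)) (_ : IsScalarTower S (Localization.Away hX) (Localization.Away hZ))
        (_ : IsScalarTower (Localization.Away g) (Localization.Away hX) (Localization.Away hZ))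
        (_ : Algebra (Localization.Away hY) (Localization.Away hZ)) (_ : IsScalarTower D (Localization.Away hY) (Localization.Away hZ))
        (_ : IsScalarTower (Localization.Away g) (Localization.Away hY) (Localization.Away hZ))
        (_ : Module (Localization.Away g) (LocalizedModule (Submonoid.powers hX) N)) (_ : IsScalarTower (Localization.Away g) (Localization.Away hX) (LocalizedModule (Submonoid.powers hX) N))
        (_ : Module (Localization.Away hX) (LocalizedModule (Submonoid.powers hZ) G)) (_ : IsScalarTower (Localization.Away hX) (Localization.Away hZ) (LocalizedModule (Submonoid.powers hZ) G))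
        (_ : (Ideal.map (algebraMap R (Localization.Away g)) p).IsPrime) (_ : (Ideal.map (algebraMap D (Localization.Away hY)) y).IsPrime) (_ : (Ideal.map (algebraMap D (Localization.Away hY)) y).LiesOver (Ideal.map (algebraMap R (Localization.Away g)) p)),
        FlatCA.IsOneStepDevissage (Localization.Away g) (Localization.Away hX) (LocalizedModule (Submonoid.powers hX) N) (Ideal.map (algebraMap R (Localization.Away g)) p) (Localization.Away hZ) (Localization.Away hY) (LocalizedModule (Submonoid.powers hZ) G) n ∧
        (∃ (ξ : PrimeSpectrum ((Ideal.map (algebraMap R (Localization.Away g)) p).Fiber (Localization.Away hX)))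
            (hξ : ξ ∈ Module.support ((Ideal.map (algebraMap R (Localization.Away g)) p).Fiber (Localization.Away hX)) (FlatCA.fiberMod (Ideal.map (algebraMap R (Localization.Away g)) p) (Localization.Away hX) (LocalizedModule (Submonoid.powers hX) N))),
          ξ.asIdeal = FlatCA.fiberIdeal (Ideal.map (algebraMap R (Localization.Away g)) p) (Ideal.map (algebraMap S (Localization.Away hX)) q) ∧
          FlatMor.localDim (Module.support ((Ideal.map (algebraMap R (Localization.Away g)) p).Fiber (Localization.Away hX)) (FlatCA.fiberMod (Ideal.map (algebraMap R (Localization.Away g)) p) (Localization.Away hX) (LocalizedModule (Submonoid.powers hX) N))) ⟨ξ, hξ⟩ = n) ∧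
        (Ideal.map (algebraMap C (Localization.Away hZ)) z).LiesOver (Ideal.map (algebraMap S (Localization.Away hX)) q) ∧ (Ideal.map (algebraMap C (Localization.Away hZ)) z).LiesOver (Ideal.map (algebraMap D (Localization.Away hY)) y) ∧
        (∀ (z₂ : Ideal (Localization.Away hZ)) [z₂.IsPrime], z₂.LiesOver (Ideal.map (algebraMap D (Localization.Away hY)) y) → z₂ = Ideal.map (algebraMap C (Localization.Away hZ)) z) ∧
        FlatCA.PurelyTranscendental (Ideal.map (algebraMap R (Localization.Away g)) p) (Ideal.map (algebraMap D (Localization.Away hY)) y) := by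
  classical
  obtain ⟨⟨e⟩, hsurjC, hfpC, hfinDC, hfinG, hsm, hgi, hdim⟩ := h
  have hZz : hZ ∉ z := by
    rw [hZY]
    exact fun hm => hYy ((Ideal.mem_of_liesOver z y hY).mpr hm)
  have hXq : hX ∉ q := fun hm => hZz (hXZ ▸ (Ideal.mem_of_liesOver z q hX).mp hm)
  have uX : IsUnit (algebraMap S (Localization.Away hX) hX) :=
    IsLocalization.Away.algebraMap_isUnit hX
  have uZ : IsUnit (algebraMap C (Localization.Away hZ) hZ) :=
    IsLocalization.Away.algebraMap_isUnit hZ
  have uY : IsUnit (algebraMap D (Localization.Away hY) hY) :=
    IsLocalization.Away.algebraMap_isUnit hY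
  have ugX : IsUnit (algebraMap R (Localization.Away hX) g) := by
    rw [IsScalarTower.algebraMap_apply R S (Localization.Away hX)]
    exact isUnit_of_dvd_unit (map_dvd _ hgX) uX
  have ugY : IsUnit (algebraMap R (Localization.Away hY) g) := by
    rw [IsScalarTower.algebraMap_apply R D (Localization.Away hY)]
    exact isUnit_of_dvd_unit (map_dvd _ hgY) uY
  have ugZ : IsUnit (algebraMap R (Localization.Away hZ) g) := by
    rw [IsScalarTower.algebraMap_apply R C (Localization.Away hZ)]
    refine isUnit_of_dvd_unit (map_dvd _ ?_) uZ
    rw [hZY, IsScalarTower.algebraMap_apply R D C]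
    exact map_dvd _ hgY
  have uXZ : IsUnit (algebraMap S (Localization.Away hZ) hX) := by
    rw [IsScalarTower.algebraMap_apply S C (Localization.Away hZ), hXZ]
    exact uZ
  have uYZ : IsUnit (algebraMap D (Localization.Away hZ) hY) := by
    rw [IsScalarTower.algebraMap_apply D C (Localization.Away hZ), ← hZY]
    exact uZ
  letI aRgSx : Algebra (Localization.Away g) (Localization.Away hX) :=
    (IsLocalization.Away.lift (S := Localization.Away g) g ugX).toAlgebra
  haveI tRRgSx : IsScalarTower R (Localization.Away g) (Localization.Away hX) :=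
    IsScalarTower.of_algebraMap_eq fun r => (IsLocalization.Away.lift_eq g ugX r).symm
  letI aRgCz : Algebra (Localization.Away g) (Localization.Away hZ) :=
    (IsLocalization.Away.lift (S := Localization.Away g) g ugZ).toAlgebra
  haveI tRRgCz : IsScalarTower R (Localization.Away g) (Localization.Away hZ) :=
    IsScalarTower.of_algebraMap_eq fun r => (IsLocalization.Away.lift_eq g ugZ r).symm
  letI aRgDy : Algebra (Localization.Away g) (Localization.Away hY) :=
    (IsLocalization.Away.lift (S := Localization.Away g) g ugY).toAlgebra
  haveI tRRgDy : IsScalarTower R (Localization.Away g) (Localization.Away hY) :=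
    IsScalarTower.of_algebraMap_eq fun r => (IsLocalization.Away.lift_eq g ugY r).symm
  letI aSxCz : Algebra (Localization.Away hX) (Localization.Away hZ) :=
    (IsLocalization.Away.lift (S := Localization.Away hX) hX uXZ).toAlgebra
  haveI tSSxCz : IsScalarTower S (Localization.Away hX) (Localization.Away hZ) :=
    IsScalarTower.of_algebraMap_eq fun r => (IsLocalization.Away.lift_eq hX uXZ r).symm
  haveI tRSxCz : IsScalarTower R (Localization.Away hX) (Localization.Away hZ) :=
    IsScalarTower.of_algebraMap_eq fun r => by
      rw [IsScalarTower.algebraMap_apply R S (Localization.Away hX),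
        ← IsScalarTower.algebraMap_apply S (Localization.Away hX) (Localization.Away hZ),
        ← IsScalarTower.algebraMap_apply R S (Localization.Away hZ)]
  haveI tRgSxCz : IsScalarTower (Localization.Away g) (Localization.Away hX)
      (Localization.Away hZ) := tower_of_loc (A := R) (Submonoid.powers g)
  letI aDyCz : Algebra (Localization.Away hY) (Localization.Away hZ) :=
    (IsLocalization.Away.lift (S := Localization.Away hY) hY uYZ).toAlgebra
  haveI tDDyCz : IsScalarTower D (Localization.Away hY) (Localization.Away hZ) :=
    IsScalarTower.of_algebraMap_eq fun r => (IsLocalization.Away.lift_eq hY uYZ r).symm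
  haveI tRDyCz : IsScalarTower R (Localization.Away hY) (Localization.Away hZ) :=
    IsScalarTower.of_algebraMap_eq fun r => by
      rw [IsScalarTower.algebraMap_apply R D (Localization.Away hY),
        ← IsScalarTower.algebraMap_apply D (Localization.Away hY) (Localization.Away hZ),
        ← IsScalarTower.algebraMap_apply R D (Localization.Away hZ)]
  haveI tRgDyCz : IsScalarTower (Localization.Away g) (Localization.Away hY)
      (Localization.Away hZ) := tower_of_loc (A := R) (Submonoid.powers g)
  letI mRgNx : Module (Localization.Away g) (LocalizedModule (Submonoid.powers hX) N) :=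
    Module.compHom _ (algebraMap (Localization.Away g) (Localization.Away hX))
  haveI tRgSxNx : IsScalarTower (Localization.Away g) (Localization.Away hX)
      (LocalizedModule (Submonoid.powers hX) N) :=
    IsScalarTower.of_algebraMap_smul fun r x => rfl
  letI mSxGz : Module (Localization.Away hX) (LocalizedModule (Submonoid.powers hZ) G) :=
    Module.compHom _ (algebraMap (Localization.Away hX) (Localization.Away hZ))
  haveI tSxCzGz : IsScalarTower (Localization.Away hX) (Localization.Away hZ)
      (LocalizedModule (Submonoid.powers hZ) G) :=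
    IsScalarTower.of_algebraMap_smul fun r x => rfl
  haveI tSSxGz : IsScalarTower S (Localization.Away hX)
      (LocalizedModule (Submonoid.powers hZ) G) :=
    IsScalarTower.of_algebraMap_smul fun s x => by
      show algebraMap (Localization.Away hX) (Localization.Away hZ)
        (algebraMap S (Localization.Away hX) s) • x = s • x
      rw [← IsScalarTower.algebraMap_apply S (Localization.Away hX) (Localization.Away hZ),
        algebraMap_smul]
  have hdp := disjoint_powers p g hg
  have hdy := disjoint_powers y hY hYy
  have hdq := disjoint_powers q hX hXq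
  have hdz := disjoint_powers z hZ hZz
  haveI hpRg : (Ideal.map (algebraMap R (Localization.Away g)) p).IsPrime :=
    IsLocalization.isPrime_of_isPrime_disjoint (Submonoid.powers g) _ p inferInstance hdp
  haveI hyDy : (Ideal.map (algebraMap D (Localization.Away hY)) y).IsPrime :=
    IsLocalization.isPrime_of_isPrime_disjoint (Submonoid.powers hY) _ y inferInstance hdy
  haveI hqSx : (Ideal.map (algebraMap S (Localization.Away hX)) q).IsPrime :=
    IsLocalization.isPrime_of_isPrime_disjoint (Submonoid.powers hX) _ q inferInstance hdq
  haveI hzCz : (Ideal.map (algebraMap C (Localization.Away hZ)) z).IsPrime :=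
    IsLocalization.isPrime_of_isPrime_disjoint (Submonoid.powers hZ) _ z inferInstance hdz
  haveI lo_y_p : (Ideal.map (algebraMap D (Localization.Away hY)) y).LiesOver
      (Ideal.map (algebraMap R (Localization.Away g)) p) :=
    liesOver_loc (Submonoid.powers g) (Submonoid.powers hY) y hdy p
  haveI lo_q_p : (Ideal.map (algebraMap S (Localization.Away hX)) q).LiesOver
      (Ideal.map (algebraMap R (Localization.Away g)) p) :=
    liesOver_loc (Submonoid.powers g) (Submonoid.powers hX) q hdq p
  have lo_z_q : (Ideal.map (algebraMap C (Localization.Away hZ)) z).LiesOver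
      (Ideal.map (algebraMap S (Localization.Away hX)) q) :=
    liesOver_loc (Submonoid.powers hX) (Submonoid.powers hZ) z hdz q
  have lo_z_y : (Ideal.map (algebraMap C (Localization.Away hZ)) z).LiesOver
      (Ideal.map (algebraMap D (Localization.Away hY)) y) :=
    liesOver_loc (Submonoid.powers hY) (Submonoid.powers hZ) z hdz y
  have hpcomap : (Ideal.map (algebraMap R (Localization.Away g)) p).comap
      (algebraMap R (Localization.Away g)) = p :=
    IsLocalization.under_map_of_isPrime_disjoint (Submonoid.powers g) _ inferInstance hdp
  have hycomap : (Ideal.map (algebraMap D (Localization.Away hY)) y).comap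
      (algebraMap D (Localization.Away hY)) = y :=
    IsLocalization.under_map_of_isPrime_disjoint (Submonoid.powers hY) _ inferInstance hdy
  have hqcomap : (Ideal.map (algebraMap S (Localization.Away hX)) q).comap
      (algebraMap S (Localization.Away hX)) = q :=
    IsLocalization.under_map_of_isPrime_disjoint (Submonoid.powers hX) _ inferInstance hdq
  haveI : Module.Finite (Localization.Away hX) (LocalizedModule (Submonoid.powers hX) N) :=
    Module.Finite.of_isLocalizedModule (Submonoid.powers hX)
      (LocalizedModule.mkLinearMap (Submonoid.powers hX) N)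
  have hsurj := comap_surjective_loc (R := R) (D := D) (Rg := Localization.Away g)
    (Dy := Localization.Away hY) g hY himg
  have hsg := smooth_geomIrred_loc (R := R) (D := D) (Rg := Localization.Away g)
    (Dy := Localization.Away hY) g hY n hsm hgi hsurj
  have hdt := dim_transfer (R := R) (S := S) (R' := Localization.Away g)
    (S' := Localization.Away hX) (N := N) (N' := LocalizedModule (Submonoid.powers hX) N)
    p (Ideal.map (algebraMap R (Localization.Away g)) p) hpcomap
    (fun P hP hPp => prime_eq_map_of_comap_eq (Submonoid.powers g) p P hPp)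
    (PrimeSpectrum.localization_away_isOpenEmbedding (Localization.Away hX) hX)
    (LocalizedModule.mkLinearMap (Submonoid.powers hX) N)
    (IsLocalizedModule.isBaseChange (Submonoid.powers hX) (Localization.Away hX)
      (LocalizedModule.mkLinearMap (Submonoid.powers hX) N))
    n hdim q (Ideal.map (algebraMap S (Localization.Away hX)) q) hqcomap lo_q_p.over.symm h1
  refine ⟨aRgSx, tRRgSx, aRgCz, tRRgCz, aRgDy, tRRgDy, aSxCz, tSSxCz, tRgSxCz, aDyCz, tDDyCz,
    tRgDyCz, mRgNx, tRgSxNx, mSxGz, tSxCzGz, hpRg, hyDy, lo_y_p, ?_, ?_, lo_z_q, lo_z_y, ?_, ?_⟩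
  · haveI := hfpC
    haveI := hfinDC
    haveI := hfinG
    refine ⟨?_, ?_, ?_, ?_, ?_, hsg.1, hsg.2, hdt.1⟩
    · exact equiv_loc e hX hZ hXZ (LocalizedModule.mkLinearMap (Submonoid.powers hX) N)
        (LocalizedModule.mkLinearMap (Submonoid.powers hZ) G)
    · exact surj_loc hX hZ hXZ hsurjC
    · exact fp_loc hX hZ
    · exact finite_loc hY hZ hZY
    · exact Module.Finite.of_isLocalizedModule (Submonoid.powers hZ)
        (LocalizedModule.mkLinearMap (Submonoid.powers hZ) G)
  · exact hdt.2
  · intro z₂ hz₂ hz₂y
    haveI := hz₂
    exact uniq_loc (Submonoid.powers hY) (Submonoid.powers hZ) y hdy z h3 z₂ hz₂y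
  · haveI : (Ideal.map (algebraMap R (Localization.Away g)) p).LiesOver p := ⟨hpcomap.symm⟩
    haveI : (Ideal.map (algebraMap D (Localization.Away hY)) y).LiesOver y := ⟨hycomap.symm⟩
    refine purelyTranscendental_transfer p y (Ideal.map (algebraMap R (Localization.Away g)) p)
      (Ideal.map (algebraMap D (Localization.Away hY)) y) ?_ ?_ h4
    · exact RingHom.SurjectiveOnStalks.residueFieldMap_bijective
        (RingHom.surjectiveOnStalks_of_isLocalization (Submonoid.powers g) _) _ _ _
    · exact RingHom.SurjectiveOnStalks.residueFieldMap_bijective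
        (RingHom.surjectiveOnStalks_of_isLocalization (Submonoid.powers hY) _) _ _ _


end Groth.Agent.Lib.Helper24.Shrink
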