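import Mathlib
import Groth.Prelude.Def_FlatCA
import Groth.Prelude.Def_Flat
import Groth.Agent.Lib.Helper24.ShrinkC
import Groth.Agent.Lib.Helper24.CDevAtA
import Groth.Agent.Lib.Helper24.CDevBCGen

/-!
# Standard shrinking of a complete dévissage: abstract per-index lemmas
-/

set_option autoImplicit false
set_option maxHeartbeats 1600000
set_option linter.style.haveILetI false
set_option linter.unusedSectionVars false
set_option linter.unusedVariables false

universe u

namespace Groth.Agent.Lib.Helper24.CDevSh

open TensorProduct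
open Groth.Agent.Lib.Helper24.Shrink

open AlgebraicGeometry in
theorem smooth_of_smoothRelDim {R D : Type u} [CommRing R] [CommRing D] [Algebra R D] (n : ℕ)
    (h : FlatCA.SmoothRelDim n R D) : Algebra.Smooth R D := by
  have h1 : Smooth (Spec.map (CommRingCat.ofHom (algebraMap R D))) :=
    SmoothOfRelativeDimension.smooth n _
  have h3 := (HasRingHomProperty.Spec_iff (P := @Smooth)).mp h1
  exact RingHom.smooth_algebraMap.mp h3

/-- the ring-theoretic per-index facts -/
theorem stepRing
    {R R' : Type u} [CommRing R] [CommRing R'] [Algebra R R']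
    (p : Ideal R) [hp : p.IsPrime] (g : R) (hg : g ∉ p) [IsLocalization.Away g R']
    {B A B' A' : Type u} [CommRing B] [CommRing A] [CommRing B'] [CommRing A']
    [Algebra R B] [Algebra B A]
    [Algebra R' B'] [Algebra B' A']
    [Algebra B B'] [Algebra R B'] [IsScalarTower R R' B'] [IsScalarTower R B B']
    [Algebra A A'] [Algebra B A'] [IsScalarTower B A A'] [IsScalarTower B B' A']
    (b : B) [IsLocalization.Away b B'] [IsLocalization.Away (algebraMap B A b) A']
    (QB : Ideal B) [hQB : QB.IsPrime] [hQBp : QB.LiesOver p]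
    (QA : Ideal A) [hQA : QA.IsPrime] [hQAQB : QA.LiesOver QB]
    (hb : b ∉ QB)
    (himg : ∀ P : Ideal R, P.IsPrime → g ∉ P →
      ∃ Q : Ideal B, Q.IsPrime ∧ b ∉ Q ∧ Q.comap (algebraMap R B) = P)
    (d : ℕ)
    (hpt : FlatCA.PurelyTranscendental p QB)
    (huniq : ∀ (Q : Ideal A) [Q.IsPrime], Q.LiesOver QB → Q = QA)
    (hsm : FlatCA.SmoothRelDim d R B) (hgi : FlatCA.GeomIrredFibres R B)
    [hp' : (p.map (algebraMap R R')).IsPrime] :
    ∃ (h1 : (QB.map (algebraMap B B')).IsPrime) (h2 : (QA.map (algebraMap A A')).IsPrime)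
      (h3 : (QB.map (algebraMap B B')).LiesOver (p.map (algebraMap R R'))),
      (QA.map (algebraMap A A')).LiesOver (QB.map (algebraMap B B')) ∧
      (QB.map (algebraMap B B')).LiesOver QB ∧ (QA.map (algebraMap A A')).LiesOver QA ∧
      FlatCA.PurelyTranscendental (p.map (algebraMap R R')) (QB.map (algebraMap B B')) ∧
      (∀ (Q : Ideal A') [Q.IsPrime], Q.LiesOver (QB.map (algebraMap B B')) →
        Q = QA.map (algebraMap A A')) ∧
      FlatCA.SmoothRelDim d R' B' ∧ FlatCA.GeomIrredFibres R' B' := by
  classical
  have haQA : algebraMap B A b ∉ QA := fun hm => hb ((Ideal.mem_of_liesOver QA QB b).mpr hm)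
  have hdp := disjoint_powers p g hg
  have hdB := disjoint_powers QB b hb
  have hdA := disjoint_powers QA (algebraMap B A b) haQA
  haveI h1 : (QB.map (algebraMap B B')).IsPrime :=
    IsLocalization.isPrime_of_isPrime_disjoint (Submonoid.powers b) _ QB inferInstance hdB
  haveI h2 : (QA.map (algebraMap A A')).IsPrime :=
    IsLocalization.isPrime_of_isPrime_disjoint (Submonoid.powers (algebraMap B A b)) _ QA
      inferInstance hdA
  haveI h3 : (QB.map (algebraMap B B')).LiesOver (p.map (algebraMap R R')) :=
    liesOver_loc (Submonoid.powers g) (Submonoid.powers b) QB hdB p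
  have h4 : (QA.map (algebraMap A A')).LiesOver (QB.map (algebraMap B B')) :=
    liesOver_loc (Submonoid.powers b) (Submonoid.powers (algebraMap B A b)) QA hdA QB
  have hQBc : (QB.map (algebraMap B B')).comap (algebraMap B B') = QB :=
    IsLocalization.under_map_of_isPrime_disjoint (Submonoid.powers b) _ inferInstance hdB
  have hQAc : (QA.map (algebraMap A A')).comap (algebraMap A A') = QA :=
    IsLocalization.under_map_of_isPrime_disjoint (Submonoid.powers (algebraMap B A b)) _
      inferInstance hdA
  have hpc : (p.map (algebraMap R R')).comap (algebraMap R R') = p :=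
    IsLocalization.under_map_of_isPrime_disjoint (Submonoid.powers g) _ inferInstance hdp
  haveI h5 : (QB.map (algebraMap B B')).LiesOver QB := ⟨hQBc.symm⟩
  haveI h6 : (QA.map (algebraMap A A')).LiesOver QA := ⟨hQAc.symm⟩
  haveI h7 : (p.map (algebraMap R R')).LiesOver p := ⟨hpc.symm⟩
  have hsurj := comap_surjective_loc (R := R) (D := B) (Rg := R') (Dy := B') g b himg
  have hsg := smooth_geomIrred_loc (R := R) (D := B) (Rg := R') (Dy := B') g b d hsm hgi hsurj
  refine ⟨h1, h2, h3, h4, h5, h6, ?_, ?_, hsg.1, hsg.2⟩
  · refine purelyTranscendental_transfer p QB (p.map (algebraMap R R'))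
      (QB.map (algebraMap B B')) ?_ ?_ hpt
    · exact RingHom.SurjectiveOnStalks.residueFieldMap_bijective
        (RingHom.surjectiveOnStalks_of_isLocalization (Submonoid.powers g) _) _ _ _
    · exact RingHom.SurjectiveOnStalks.residueFieldMap_bijective
        (RingHom.surjectiveOnStalks_of_isLocalization (Submonoid.powers b) _) _ _ _
  · intro z₂ hz₂ hz₂y
    haveI := hz₂
    exact uniq_loc (Submonoid.powers b) (Submonoid.powers (algebraMap B A b)) QB hdB QA huniq
      z₂ hz₂y

/-- the module localization as a base change -/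
theorem isBaseChange_of_away
    {B A B' : Type u} [CommRing B] [CommRing A] [CommRing B'] [Algebra B A] [Algebra B B']
    (b : B) [IsLocalization.Away b B']
    {M M' : Type u} [AddCommGroup M] [Module A M] [Module B M] [IsScalarTower B A M]
    [AddCommGroup M'] [Module B' M'] [Module A M'] [Module B M'] [IsScalarTower B A M']
    [IsScalarTower B B' M']
    (gM : M →ₗ[A] M') (a : A) (ha : algebraMap B A b = a)
    [hgM : IsLocalizedModule (Submonoid.powers a) gM] :
    IsBaseChange B' (gM.restrictScalars B) := by
  subst ha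
  haveI : IsLocalizedModule (Submonoid.powers b) (gM.restrictScalars B) :=
    IsLocalizedModule.restrictScalars_powers b gM
  exact (isLocalizedModule_iff_isBaseChange (Submonoid.powers b) B' _).mp inferInstance

/-- the local dimension per-index fact -/
theorem stepDim
    {R R' : Type u} [CommRing R] [CommRing R'] [Algebra R R']
    (p : Ideal R) [hp : p.IsPrime] (g : R) (hg : g ∉ p) [IsLocalization.Away g R']
    {B A B' A' : Type u} [CommRing B] [CommRing A] [CommRing B'] [CommRing A']
    [Algebra R B] [Algebra B A]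
    [Algebra R' B'] [Algebra B' A']
    [Algebra B B'] [Algebra R B'] [IsScalarTower R R' B'] [IsScalarTower R B B']
    (b : B) [IsLocalization.Away b B']
    [Module.Finite B A] [Module.Finite B' A']
    {M M' : Type u} [AddCommGroup M] [Module A M] [Module B M] [IsScalarTower B A M]
    [Module.Finite A M]
    [AddCommGroup M'] [Module A' M'] [Module B' M'] [IsScalarTower B' A' M'] [Module.Finite A' M']
    [Module A M'] [Module B M'] [IsScalarTower B A M'] [IsScalarTower B B' M']
    (gM : M →ₗ[A] M') [hgM : IsLocalizedModule (Submonoid.powers (algebraMap B A b)) gM]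
    (QB : Ideal B) [hQB : QB.IsPrime] [hQBp : QB.LiesOver p] (hb : b ∉ QB)
    (d : ℕ)
    (hloc : ∃ (x : PrimeSpectrum (p.Fiber B))
      (hx : x ∈ Module.support (p.Fiber B) (FlatCA.fiberMod p B M)),
      x.asIdeal = FlatCA.fiberIdeal p QB ∧
      FlatMor.localDim (Module.support (p.Fiber B) (FlatCA.fiberMod p B M)) ⟨x, hx⟩ = d)
    [hp' : (p.map (algebraMap R R')).IsPrime] [h1 : (QB.map (algebraMap B B')).IsPrime] :
    ∃ (x : PrimeSpectrum ((p.map (algebraMap R R')).Fiber B'))
      (hx : x ∈ Module.support ((p.map (algebraMap R R')).Fiber B')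
        (FlatCA.fiberMod (p.map (algebraMap R R')) B' M')),
      x.asIdeal = FlatCA.fiberIdeal (p.map (algebraMap R R')) (QB.map (algebraMap B B')) ∧
      FlatMor.localDim (Module.support ((p.map (algebraMap R R')).Fiber B')
        (FlatCA.fiberMod (p.map (algebraMap R R')) B' M')) ⟨x, hx⟩ = d := by
  have hdp := disjoint_powers p g hg
  have hdB := disjoint_powers QB b hb
  have hpc : (p.map (algebraMap R R')).comap (algebraMap R R') = p :=
    IsLocalization.under_map_of_isPrime_disjoint (Submonoid.powers g) _ inferInstance hdp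
  have hQBc : (QB.map (algebraMap B B')).comap (algebraMap B B') = QB :=
    IsLocalization.under_map_of_isPrime_disjoint (Submonoid.powers b) _ inferInstance hdB
  have h3 : (QB.map (algebraMap B B')).LiesOver (p.map (algebraMap R R')) :=
    liesOver_loc (Submonoid.powers g) (Submonoid.powers b) QB hdB p
  have hf : IsBaseChange B' (gM.restrictScalars B) :=
    isBaseChange_of_away (B := B) (A := A) (B' := B') b gM _ rfl
  haveI : Module.Finite B M := Module.Finite.trans A M
  haveI : Module.Finite B' M' := Module.Finite.trans A' M'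
  have hoe := psi0_isOpenEmbedding (S := B) (S' := B') p (p.map (algebraMap R R')) hpc
    (fun P hP hPp => prime_eq_map_of_comap_eq (Submonoid.powers g) p P hPp)
    (PrimeSpectrum.localization_away_isOpenEmbedding B' b)
  exact CDevAt.loc_transfer (R := R) (S := B) (R' := R') (S' := B') (N := M) (N' := M')
    p (p.map (algebraMap R R')) hpc hoe (gM.restrictScalars B) hf d QB
    (QB.map (algebraMap B B')) hQBc h3.over.symm hloc

/-- the fibre isomorphism condition transfers along a base change -/
theorem fibre_bc {B B' : Type u} [CommRing B] [CommRing B'] [Algebra B B']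
    (P : Ideal B) [hP : P.IsPrime] (P' : Ideal B') [hP' : P'.IsPrime]
    (hover : P = P'.comap (algebraMap B B'))
    (M M' : Type u) [AddCommGroup M] [AddCommGroup M'] [Module B M]
    [Module B' M'] [Module B M'] [IsScalarTower B B' M']
    (r : ℕ) (g : M →ₗ[B] M') (hg : IsBaseChange B' g)
    (α : (Fin r → B) →ₗ[B] M) (α' : (Fin r → B') →ₗ[B'] M')
    (hcomm : ∀ x, α' ((Algebra.linearMap B B').compLeft (Fin r) x) = g (α x))
    (h : Function.Bijective (α.baseChange P.ResidueField)) :
    Function.Bijective (α'.baseChange P'.ResidueField) := by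
  letI : Algebra P.ResidueField P'.ResidueField :=
    (Ideal.ResidueField.map _ _ (algebraMap B B') hover).toAlgebra
  letI : Algebra B P'.ResidueField :=
    ((algebraMap B' P'.ResidueField).comp (algebraMap B B')).toAlgebra
  haveI : IsScalarTower B B' P'.ResidueField :=
    IsScalarTower.of_algebraMap_eq (R := B) (S := B') (A := P'.ResidueField) (fun _ => rfl)
  haveI : IsScalarTower B P.ResidueField P'.ResidueField :=
    IsScalarTower.of_algebraMap_eq (R := B) (S := P.ResidueField) (A := P'.ResidueField)
      (fun b => by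
      show algebraMap B' _ (algebraMap B B' b) =
        Ideal.ResidueField.map _ _ (algebraMap B B') hover (algebraMap B _ b)
      rw [Ideal.ResidueField.map_algebraMap])
  exact CDevBC.bijective_baseChange_of_isBaseChange B B' P.ResidueField P'.ResidueField
    (Fin r → B) (Fin r → B') M M' _
    (IsBaseChange.finitePow (Fin r) (IsBaseChange.linearMap B B'))
    g hg α α' hcomm h

/-- the cokernel identification transfers along a base change -/
theorem isoCoker_gen (B B' : Type u) [CommRing B] [CommRing B'] [Algebra B B']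
    (X X' Y Y' : Type u) [AddCommGroup X] [AddCommGroup X'] [AddCommGroup Y] [AddCommGroup Y']
    [Module B X] [Module B Y] [Module B' X'] [Module B X'] [IsScalarTower B B' X']
    [Module B' Y'] [Module B Y'] [IsScalarTower B B' Y']
    (g₁ : X →ₗ[B] X') (hg₁ : IsBaseChange B' g₁) (g₂ : Y →ₗ[B] Y') (hg₂ : IsBaseChange B' g₂)
    (F : Submodule B X) (e : (X ⧸ F) ≃ₗ[B] Y) (F' : Submodule B' X')
    (hF' : F' = Submodule.span B' (g₁ '' (F : Set X))) :
    Nonempty ((X' ⧸ F') ≃ₗ[B'] Y') := by
  let π : X →ₗ[B] Y := e.toLinearMap.comp F.mkQ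
  have hπ : Function.Surjective π := e.surjective.comp (Submodule.mkQ_surjective _)
  have hker : LinearMap.ker π = F := by
    rw [LinearEquiv.ker_comp, Submodule.ker_mkQ]
  let π' : X' →ₗ[B'] Y' := hg₁.lift (g₂.comp π)
  have hcomm : ∀ x, π' (g₁ x) = g₂ (π x) := fun x => hg₁.lift_eq _ x
  obtain ⟨hsurj, hk⟩ := CDevBC.ker_eq_span_of_isBaseChange B B' X X' Y Y' g₁ hg₁ g₂ hg₂ π hπ π'
    hcomm
  have heq : F' = LinearMap.ker π' := by
    rw [hF', hk, hker]
  exact ⟨(Submodule.quotEquivOfEq _ _ heq).trans (π'.quotKerEquivOfSurjective hsurj)⟩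

/-- the key element-lifting lemma for a finite map with a unique prime over a prime -/
theorem exists_mul_of_finite {B A : Type u} [CommRing B] [CommRing A] [Algebra B A]
    [Module.Finite B A]
    (QB : Ideal B) [QB.IsPrime] (QA : Ideal A) [QA.IsPrime]
    (huniq : ∀ (Q : Ideal A) [Q.IsPrime], Q.LiesOver QB → Q = QA)
    (w : A) (hw : w ∉ QA) : ∃ (b : B) (c : A), b ∉ QB ∧ algebraMap B A b = w * c := by
  by_contra hcon
  push_neg at hcon
  have hIP : (Ideal.span {w}).comap (algebraMap B A) ≤ QB := by
    intro b hb
    rw [Ideal.mem_comap, Ideal.mem_span_singleton'] at hb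
    obtain ⟨c, hc⟩ := hb
    by_contra hbn
    exact hcon b c hbn (by rw [← hc, mul_comm])
  obtain ⟨Q, hQI, hQ, hQc⟩ := Ideal.exists_ideal_over_prime_of_isIntegral QB (Ideal.span {w}) hIP
  haveI := hQ
  have hQA : Q = QA := huniq Q ⟨hQc.symm⟩
  exact hw (hQA ▸ hQI (Ideal.subset_span rfl))

end Groth.Agent.Lib.Helper24.CDevSh
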