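import Mathlib

/-!
# A two-sided padding construction: `X` if a proposition holds, `Y` otherwise
-/

set_option autoImplicit false
set_option maxHeartbeats 400000
set_option linter.style.haveILetI false
set_option linter.unusedSectionVars false
set_option linter.unusedVariables false

universe u

namespace Groth.Agent.Lib.Helper24.CDevSh

section Pad2

variable (R' X Y : Type u) [CommRing R'] [CommRing X] [CommRing Y] [Algebra R' X] [Algebra R' Y]
  (c : Prop)

open Classical in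
/-- the ideal cutting out one factor of `X × Y` -/
noncomputable def pad2Ideal : Ideal (X × Y) :=
  if c then Ideal.prod ⊥ ⊤ else Ideal.prod ⊤ ⊥

theorem pad2Ideal_pos (hc : c) : pad2Ideal X Y c = Ideal.prod ⊥ ⊤ := by
  unfold pad2Ideal; exact if_pos hc

theorem pad2Ideal_neg (hc : ¬c) : pad2Ideal X Y c = Ideal.prod ⊤ ⊥ := by
  unfold pad2Ideal; exact if_neg hc

/-- `X` if `c` holds, `Y` otherwise -/
abbrev Pad2 : Type u := (X × Y) ⧸ pad2Ideal X Y c

/-- the projection to `X` when `c` holds -/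
noncomputable def Pad2.fstHom (hc : c) : Pad2 X Y c →ₐ[R'] X :=
  Ideal.Quotient.liftₐ (pad2Ideal X Y c) (AlgHom.fst R' X Y) (by
    intro a ha
    rw [pad2Ideal_pos X Y c hc, Ideal.mem_prod] at ha
    simpa using ha.1)

theorem Pad2.fstHom_mk (hc : c) (a : X × Y) :
    Pad2.fstHom R' X Y c hc (Ideal.Quotient.mk _ a) = a.1 := rfl

theorem Pad2.fstHom_bijective (hc : c) : Function.Bijective (Pad2.fstHom R' X Y c hc) := by
  constructor
  · rw [injective_iff_map_eq_zero]
    intro z hz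
    obtain ⟨a, rfl⟩ := Ideal.Quotient.mk_surjective z
    rw [Pad2.fstHom_mk] at hz
    rw [Ideal.Quotient.eq_zero_iff_mem, pad2Ideal_pos X Y c hc, Ideal.mem_prod]
    exact ⟨by simpa using hz, Submodule.mem_top⟩
  · intro x
    exact ⟨Ideal.Quotient.mk _ (x, 0), Pad2.fstHom_mk R' X Y c hc (x, 0)⟩

/-- `Pad2` is `X` when `c` holds -/
noncomputable def Pad2.equivX (hc : c) : Pad2 X Y c ≃ₐ[R'] X :=
  AlgEquiv.ofBijective (Pad2.fstHom R' X Y c hc) (Pad2.fstHom_bijective R' X Y c hc)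

/-- the inclusion of `X` when `c` holds -/
noncomputable def Pad2.inl (hc : c) : X →ₐ[R'] Pad2 X Y c :=
  (Pad2.equivX R' X Y c hc).symm.toAlgHom

theorem Pad2.inl_bijective (hc : c) : Function.Bijective (Pad2.inl R' X Y c hc) :=
  (Pad2.equivX R' X Y c hc).symm.bijective

theorem Pad2.fstHom_inl (hc : c) (x : X) :
    Pad2.fstHom R' X Y c hc (Pad2.inl R' X Y c hc x) = x :=
  (Pad2.equivX R' X Y c hc).apply_symm_apply x

theorem Pad2.inl_fstHom (hc : c) (z : Pad2 X Y c) :
    Pad2.inl R' X Y c hc (Pad2.fstHom R' X Y c hc z) = z :=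
  (Pad2.equivX R' X Y c hc).symm_apply_apply z

/-- the projection to `Y` when `c` fails -/
noncomputable def Pad2.sndHom (hc : ¬c) : Pad2 X Y c →ₐ[R'] Y :=
  Ideal.Quotient.liftₐ (pad2Ideal X Y c) (AlgHom.snd R' X Y) (by
    intro a ha
    rw [pad2Ideal_neg X Y c hc, Ideal.mem_prod] at ha
    simpa using ha.2)

theorem Pad2.sndHom_mk (hc : ¬c) (a : X × Y) :
    Pad2.sndHom R' X Y c hc (Ideal.Quotient.mk _ a) = a.2 := rfl

theorem Pad2.sndHom_bijective (hc : ¬c) : Function.Bijective (Pad2.sndHom R' X Y c hc) := by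
  constructor
  · rw [injective_iff_map_eq_zero]
    intro z hz
    obtain ⟨a, rfl⟩ := Ideal.Quotient.mk_surjective z
    rw [Pad2.sndHom_mk] at hz
    rw [Ideal.Quotient.eq_zero_iff_mem, pad2Ideal_neg X Y c hc, Ideal.mem_prod]
    exact ⟨Submodule.mem_top, by simpa using hz⟩
  · intro y
    exact ⟨Ideal.Quotient.mk _ (0, y), Pad2.sndHom_mk R' X Y c hc (0, y)⟩

/-- `Pad2` is `Y` when `c` fails -/
noncomputable def Pad2.equivY (hc : ¬c) : Pad2 X Y c ≃ₐ[R'] Y :=
  AlgEquiv.ofBijective (Pad2.sndHom R' X Y c hc) (Pad2.sndHom_bijective R' X Y c hc)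

/-- the inclusion of `Y` when `c` fails -/
noncomputable def Pad2.inr (hc : ¬c) : Y →ₐ[R'] Pad2 X Y c :=
  (Pad2.equivY R' X Y c hc).symm.toAlgHom

theorem Pad2.sndHom_inr (hc : ¬c) (y : Y) :
    Pad2.sndHom R' X Y c hc (Pad2.inr R' X Y c hc y) = y :=
  (Pad2.equivY R' X Y c hc).apply_symm_apply y

theorem Pad2.inr_sndHom (hc : ¬c) (z : Pad2 X Y c) :
    Pad2.inr R' X Y c hc (Pad2.sndHom R' X Y c hc z) = z :=
  (Pad2.equivY R' X Y c hc).symm_apply_apply z

open Classical in
/-- maps out of `Pad2` -/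
noncomputable def Pad2.lift {Z : Type u} [CommRing Z] [Algebra R' Z] (φ : c → (X →ₐ[R'] Z))
    (ψ : ¬c → (Y →ₐ[R'] Z)) : Pad2 X Y c →ₐ[R'] Z :=
  if hc : c then (φ hc).comp (Pad2.fstHom R' X Y c hc)
  else (ψ hc).comp (Pad2.sndHom R' X Y c hc)

theorem Pad2.lift_apply_pos (hc : c) {Z : Type u} [CommRing Z] [Algebra R' Z]
    (φ : c → (X →ₐ[R'] Z)) (ψ : ¬c → (Y →ₐ[R'] Z)) (z : Pad2 X Y c) :
    Pad2.lift R' X Y c φ ψ z = φ hc (Pad2.fstHom R' X Y c hc z) := by
  unfold Pad2.lift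
  rw [dif_pos hc]
  rfl

theorem Pad2.lift_apply_neg (hc : ¬c) {Z : Type u} [CommRing Z] [Algebra R' Z]
    (φ : c → (X →ₐ[R'] Z)) (ψ : ¬c → (Y →ₐ[R'] Z)) (z : Pad2 X Y c) :
    Pad2.lift R' X Y c φ ψ z = ψ hc (Pad2.sndHom R' X Y c hc z) := by
  unfold Pad2.lift
  rw [dif_neg hc]
  rfl

theorem Pad2.lift_inl (hc : c) {Z : Type u} [CommRing Z] [Algebra R' Z]
    (φ : c → (X →ₐ[R'] Z)) (ψ : ¬c → (Y →ₐ[R'] Z)) (x : X) :
    Pad2.lift R' X Y c φ ψ (Pad2.inl R' X Y c hc x) = φ hc x := by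
  rw [Pad2.lift_apply_pos R' X Y c hc, Pad2.fstHom_inl]

/-- functoriality of `Pad2` -/
noncomputable def Pad2.map {X' Y' : Type u} [CommRing X'] [CommRing Y'] [Algebra R' X']
    [Algebra R' Y'] (f : X →ₐ[R'] X') (g : Y →ₐ[R'] Y') : Pad2 X Y c →ₐ[R'] Pad2 X' Y' c :=
  Pad2.lift R' X Y c (fun hc => (Pad2.inl R' X' Y' c hc).comp f)
    (fun hc => (Pad2.inr R' X' Y' c hc).comp g)

theorem Pad2.map_inl (hc : c) {X' Y' : Type u} [CommRing X'] [CommRing Y'] [Algebra R' X']
    [Algebra R' Y'] (f : X →ₐ[R'] X') (g : Y →ₐ[R'] Y') (x : X) :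
    Pad2.map R' X Y c f g (Pad2.inl R' X Y c hc x) = Pad2.inl R' X' Y' c hc (f x) := by
  unfold Pad2.map
  rw [Pad2.lift_inl]
  rfl

theorem Pad2.fstHom_map (hc : c) {X' Y' : Type u} [CommRing X'] [CommRing Y'] [Algebra R' X']
    [Algebra R' Y'] (f : X →ₐ[R'] X') (g : Y →ₐ[R'] Y') (z : Pad2 X Y c) :
    Pad2.fstHom R' X' Y' c hc (Pad2.map R' X Y c f g z) = f (Pad2.fstHom R' X Y c hc z) := by
  unfold Pad2.map
  rw [Pad2.lift_apply_pos R' X Y c hc]
  exact Pad2.fstHom_inl R' X' Y' c hc _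

theorem Pad2.sndHom_map (hc : ¬c) {X' Y' : Type u} [CommRing X'] [CommRing Y'] [Algebra R' X']
    [Algebra R' Y'] (f : X →ₐ[R'] X') (g : Y →ₐ[R'] Y') (z : Pad2 X Y c) :
    Pad2.sndHom R' X' Y' c hc (Pad2.map R' X Y c f g z) = g (Pad2.sndHom R' X Y c hc z) := by
  unfold Pad2.map
  rw [Pad2.lift_apply_neg R' X Y c hc]
  exact Pad2.sndHom_inr R' X' Y' c hc _

open Classical in
/-- an ideal of `Pad2` from ideals of the two candidates -/
noncomputable def Pad2.ideal (P : Ideal X) (Q : Ideal Y) : Ideal (Pad2 X Y c) :=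
  if hc : c then P.comap (Pad2.fstHom R' X Y c hc) else Q.comap (Pad2.sndHom R' X Y c hc)

theorem Pad2.ideal_pos (hc : c) (P : Ideal X) (Q : Ideal Y) :
    Pad2.ideal R' X Y c P Q = P.comap (Pad2.fstHom R' X Y c hc) := by
  unfold Pad2.ideal
  rw [dif_pos hc]

theorem Pad2.ideal_neg (hc : ¬c) (P : Ideal X) (Q : Ideal Y) :
    Pad2.ideal R' X Y c P Q = Q.comap (Pad2.sndHom R' X Y c hc) := by
  unfold Pad2.ideal
  rw [dif_neg hc]

theorem Pad2.ideal_isPrime (P : Ideal X) (Q : Ideal Y) (hP : c → P.IsPrime)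
    (hQ : ¬c → Q.IsPrime) : (Pad2.ideal R' X Y c P Q).IsPrime := by
  by_cases hc : c
  · rw [Pad2.ideal_pos R' X Y c hc]
    haveI := hP hc
    exact Ideal.comap_isPrime _ _
  · rw [Pad2.ideal_neg R' X Y c hc]
    haveI := hQ hc
    exact Ideal.comap_isPrime _ _

theorem Pad2.ideal_eq_map_inl (hc : c) (P : Ideal X) (Q : Ideal Y) :
    Pad2.ideal R' X Y c P Q = P.map (Pad2.inl R' X Y c hc) := by
  rw [Pad2.ideal_pos R' X Y c hc]
  apply le_antisymm
  · intro z hz
    rw [Ideal.mem_comap] at hz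
    rw [← Pad2.inl_fstHom R' X Y c hc z]
    exact Ideal.mem_map_of_mem _ hz
  · rw [Ideal.map_le_iff_le_comap]
    intro x hx
    rw [Ideal.mem_comap, Ideal.mem_comap, Pad2.fstHom_inl]
    exact hx

/-- the extension of a prime of the base ring -/
theorem Pad2.map_isPrime (p' : Ideal R') [hp' : p'.IsPrime]
    (hX : c → (p'.map (algebraMap R' X)).IsPrime) (hY : ¬c → (p'.map (algebraMap R' Y)).IsPrime) :
    (p'.map (algebraMap R' (Pad2 X Y c))).IsPrime := by
  by_cases hc : c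
  · haveI := hX hc
    have h1 : p'.map (algebraMap R' (Pad2 X Y c)) =
        Ideal.map (Pad2.equivX R' X Y c hc).symm (p'.map (algebraMap R' X)) := by
      have h2 : Ideal.map (Pad2.equivX R' X Y c hc).symm (p'.map (algebraMap R' X)) =
          Ideal.map ((Pad2.equivX R' X Y c hc).symm.toAlgHom.toRingHom)
            (p'.map (algebraMap R' X)) := rfl
      rw [h2, Ideal.map_map]
      congr 1
      ext r
      simp
    rw [h1]
    exact Ideal.map_isPrime_of_equiv (Pad2.equivX R' X Y c hc).symm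
  · haveI := hY hc
    have h1 : p'.map (algebraMap R' (Pad2 X Y c)) =
        Ideal.map (Pad2.equivY R' X Y c hc).symm (p'.map (algebraMap R' Y)) := by
      have h2 : Ideal.map (Pad2.equivY R' X Y c hc).symm (p'.map (algebraMap R' Y)) =
          Ideal.map ((Pad2.equivY R' X Y c hc).symm.toAlgHom.toRingHom)
            (p'.map (algebraMap R' Y)) := rfl
      rw [h2, Ideal.map_map]
      congr 1
      ext r
      simp
    rw [h1]
    exact Ideal.map_isPrime_of_equiv (Pad2.equivY R' X Y c hc).symm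

end Pad2

section PadMod

variable (X Y : Type u) [CommRing X] [CommRing Y] (c : Prop)
  (Mx : Type u) [AddCommGroup Mx] [Module X Mx]

open Classical in
/-- the submodule killing everything when `c` fails -/
noncomputable def padSub : Submodule X Mx := if c then ⊥ else ⊤

theorem padSub_pos (hc : c) : padSub X c Mx = ⊥ := by
  unfold padSub; exact if_pos hc

theorem padSub_neg (hc : ¬c) : padSub X c Mx = ⊤ := by
  unfold padSub; exact if_neg hc

/-- `Mx` if `c` holds, zero otherwise -/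
abbrev PadMod : Type u := Mx ⧸ padSub X c Mx

theorem PadMod.subsingleton (hc : ¬c) : Subsingleton (PadMod X c Mx) := by
  refine ⟨fun x y => ?_⟩
  obtain ⟨x, rfl⟩ := Submodule.Quotient.mk_surjective _ x
  obtain ⟨y, rfl⟩ := Submodule.Quotient.mk_surjective _ y
  rw [Submodule.Quotient.eq, padSub_neg X c Mx hc]
  exact Submodule.mem_top

/-- the projection to `X` when `c` holds, as a ring homomorphism -/
noncomputable def Pad2.fstR (hc : c) : Pad2 X Y c →+* X :=
  Ideal.Quotient.lift (pad2Ideal X Y c) (RingHom.fst X Y) (by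
    intro a ha
    rw [pad2Ideal_pos X Y c hc, Ideal.mem_prod] at ha
    simpa using ha.1)

theorem Pad2.fstR_mk (hc : c) (a : X × Y) :
    Pad2.fstR X Y c hc (Ideal.Quotient.mk _ a) = a.1 := rfl

open Classical in
/-- the scalar multiplication by `Pad2` -/
noncomputable def padSmul (z : Pad2 X Y c) (m : PadMod X c Mx) : PadMod X c Mx :=
  if hc : c then (Pad2.fstR X Y c hc z) • m else 0

theorem padSmul_pos (hc : c) (z : Pad2 X Y c) (m : PadMod X c Mx) :
    padSmul X Y c Mx z m = (Pad2.fstR X Y c hc z) • m := by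
  unfold padSmul
  rw [dif_pos hc]

noncomputable instance PadMod.instModule : Module (Pad2 X Y c) (PadMod X c Mx) where
  smul := padSmul X Y c Mx
  one_smul m := by
    by_cases hc : c
    · show padSmul X Y c Mx 1 m = m
      rw [padSmul_pos X Y c Mx hc, map_one, one_smul]
    · exact (PadMod.subsingleton X c Mx hc).elim _ _
  mul_smul z w m := by
    by_cases hc : c
    · show padSmul X Y c Mx (z * w) m = padSmul X Y c Mx z (padSmul X Y c Mx w m)
      rw [padSmul_pos X Y c Mx hc, padSmul_pos X Y c Mx hc, padSmul_pos X Y c Mx hc, map_mul,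
        mul_smul]
    · exact (PadMod.subsingleton X c Mx hc).elim _ _
  smul_zero z := by
    by_cases hc : c
    · show padSmul X Y c Mx z 0 = 0
      rw [padSmul_pos X Y c Mx hc, smul_zero]
    · exact (PadMod.subsingleton X c Mx hc).elim _ _
  smul_add z m₁ m₂ := by
    by_cases hc : c
    · show padSmul X Y c Mx z (m₁ + m₂) = padSmul X Y c Mx z m₁ + padSmul X Y c Mx z m₂
      rw [padSmul_pos X Y c Mx hc, padSmul_pos X Y c Mx hc, padSmul_pos X Y c Mx hc, smul_add]
    · exact (PadMod.subsingleton X c Mx hc).elim _ _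
  add_smul z w m := by
    by_cases hc : c
    · show padSmul X Y c Mx (z + w) m = padSmul X Y c Mx z m + padSmul X Y c Mx w m
      rw [padSmul_pos X Y c Mx hc, padSmul_pos X Y c Mx hc, padSmul_pos X Y c Mx hc, map_add,
        add_smul]
    · exact (PadMod.subsingleton X c Mx hc).elim _ _
  zero_smul m := by
    by_cases hc : c
    · show padSmul X Y c Mx 0 m = 0
      rw [padSmul_pos X Y c Mx hc, map_zero, zero_smul]
    · exact (PadMod.subsingleton X c Mx hc).elim _ _

theorem PadMod.smul_def (hc : c) (z : Pad2 X Y c) (m : PadMod X c Mx) :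
    z • m = (Pad2.fstR X Y c hc z) • m := padSmul_pos X Y c Mx hc z m

theorem Pad2.fstR_eq_fstHom (R' : Type u) [CommRing R'] [Algebra R' X] [Algebra R' Y] (hc : c)
    (z : Pad2 X Y c) : Pad2.fstR X Y c hc z = Pad2.fstHom R' X Y c hc z := by
  obtain ⟨a, rfl⟩ := Ideal.Quotient.mk_surjective z
  rfl

/-- `PadMod` is `Mx` when `c` holds -/
noncomputable def PadMod.equiv (hc : c) : Mx ≃ₗ[X] PadMod X c Mx :=
  (Submodule.quotEquivOfEqBot _ (padSub_pos X c Mx hc)).symm

theorem PadMod.equiv_apply (hc : c) (m : Mx) :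
    PadMod.equiv X c Mx hc m = Submodule.Quotient.mk m := rfl

end PadMod

end Groth.Agent.Lib.Helper24.CDevSh
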