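import Mathlib
import Groth.Prelude.Def_FlatCA
import Groth.Prelude.Def_Flat
import Groth.Agent.Lib.Helper24.CDevShPad2
import Groth.Agent.Lib.Helper24.CDevShLoc

/-!
# Standard shrinking of a complete dévissage: the model
-/

set_option autoImplicit false
set_option maxHeartbeats 1600000
set_option linter.style.haveILetI false
set_option linter.unusedSectionVars false
set_option linter.unusedVariables false

universe u

namespace Groth.Agent.Lib.Helper24.CDevSh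

open TensorProduct

section Away0

variable {T₁ T₂ : Type u} [CommRing T₁] [CommRing T₂] (f : T₁ →+* T₂) (x₁ : T₁) (x₂ : T₂)

theorem isUnit_away (h : f x₁ ∣ x₂) :
    IsUnit (((algebraMap T₂ (Localization.Away x₂)).comp f) x₁) :=
  isUnit_of_dvd_unit (map_dvd (algebraMap T₂ (Localization.Away x₂)) h)
    (IsLocalization.Away.algebraMap_isUnit x₂)

/-- the induced map of localizations away from elements -/
noncomputable def awayMap (h : f x₁ ∣ x₂) : Localization.Away x₁ →+* Localization.Away x₂ :=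
  IsLocalization.Away.lift (S := Localization.Away x₁) x₁ (isUnit_away f x₁ x₂ h)

theorem awayMap_algebraMap (h : f x₁ ∣ x₂) (t : T₁) :
    awayMap f x₁ x₂ h (algebraMap T₁ (Localization.Away x₁) t) =
      algebraMap T₂ (Localization.Away x₂) (f t) :=
  IsLocalization.Away.lift_eq x₁ (isUnit_away f x₁ x₂ h) t

theorem awayMap_comp {T₃ : Type u} [CommRing T₃] (f₁ : T₁ →+* T₂) (f₂ : T₂ →+* T₃)
    (f₃ : T₁ →+* T₃) (hf : f₂.comp f₁ = f₃) (x₁ : T₁) (x₂ : T₂) (x₃ : T₃) (h₁ : f₁ x₁ ∣ x₂)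
    (h₂ : f₂ x₂ ∣ x₃) (h₃ : f₃ x₁ ∣ x₃) (z : Localization.Away x₁) :
    awayMap f₂ x₂ x₃ h₂ (awayMap f₁ x₁ x₂ h₁ z) = awayMap f₃ x₁ x₃ h₃ z := by
  have h : (awayMap f₂ x₂ x₃ h₂).comp (awayMap f₁ x₁ x₂ h₁) = awayMap f₃ x₁ x₃ h₃ := by
    apply IsLocalization.ringHom_ext (Submonoid.powers x₁)
    ext t
    simp only [RingHom.comp_apply, awayMap_algebraMap]
    rw [← hf]
    rfl
  exact RingHom.congr_fun h z

end Away0

/-- the data of a standard shrinking -/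
structure ShData {R S : Type u} [CommRing R] [CommRing S] [Algebra R S] {N : Type u}
    [AddCommGroup N] [Module S N] {p : Ideal R} [p.IsPrime] {q : Ideal S} [q.IsPrime]
    (𝒟 : FlatCA.CompleteDevissage R S N p) (𝒜 : FlatCA.CompleteDevissageAt R S N p q 𝒟) where
  g : R
  hX : S
  b : ∀ i, 𝒟.B i
  hg : g ∉ p
  hb : ∀ i, i < 𝒟.n → b i ∉ 𝒜.qB i
  hgb : ∀ i, algebraMap R (𝒟.B i) g ∣ b i
  hX1 : ∀ i, i + 1 < 𝒟.n → algebraMap (𝒟.B i) (𝒟.A (i + 1)) (b i) =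
    algebraMap (𝒟.B (i + 1)) (𝒟.A (i + 1)) (b (i + 1))
  hX0 : algebraMap S (𝒟.A 0) hX = algebraMap (𝒟.B 0) (𝒟.A 0) (b 0)
  hgX : algebraMap R S g ∣ hX
  himg : ∀ i, i < 𝒟.n → ∀ P : Ideal R, P.IsPrime → g ∉ P →
    ∃ Q : Ideal (𝒟.B i), Q.IsPrime ∧ b i ∉ Q ∧ Q.comap (algebraMap R (𝒟.B i)) = P

section Model

variable {R S : Type u} [CommRing R] [CommRing S] [Algebra R S]
  {N : Type u} [AddCommGroup N] [Module S N] {p : Ideal R} [p.IsPrime] {q : Ideal S} [q.IsPrime]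
  {𝒟 : FlatCA.CompleteDevissage R S N p} {𝒜 : FlatCA.CompleteDevissageAt R S N p q 𝒟}
  (σ : ShData 𝒟 𝒜)

/-- the elements of the `A i` -/
abbrev ShData.aEl (i : ℕ) : 𝒟.A i := algebraMap (𝒟.B i) (𝒟.A i) (σ.b i)

/-- the localized base -/
abbrev Rg : Type u := Localization.Away σ.g
/-- the localized `S` -/
abbrev Sx : Type u := Localization.Away σ.hX
/-- the localized `B i` -/
abbrev Bb (i : ℕ) : Type u := Localization.Away (σ.b i)
/-- the localized `A i` -/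
abbrev Aa (i : ℕ) : Type u := Localization.Away (σ.aEl i)
/-- the tail ring -/
abbrev KK : Type u := Bb σ (𝒟.n - 1)

instance factPos : Fact (0 < 𝒟.n) := ⟨𝒟.pos⟩

theorem ShData.hga (i : ℕ) : algebraMap R (𝒟.A i) σ.g ∣ σ.aEl i := by
  rw [IsScalarTower.algebraMap_apply R (𝒟.B i) (𝒟.A i)]
  exact map_dvd _ (σ.hgb i)

noncomputable instance algRgBb (i : ℕ) : Algebra (Rg σ) (Bb σ i) :=
  (awayMap (algebraMap R (𝒟.B i)) σ.g (σ.b i) (σ.hgb i)).toAlgebra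

theorem algebraMap_RgBb (i : ℕ) (z : Rg σ) : algebraMap (Rg σ) (Bb σ i) z =
    awayMap (algebraMap R (𝒟.B i)) σ.g (σ.b i) (σ.hgb i) z := rfl

instance towerRRgBb (i : ℕ) : IsScalarTower R (Rg σ) (Bb σ i) := by
  refine IsScalarTower.of_algebraMap_eq (R := R) (S := Rg σ) (A := Bb σ i) (fun r => ?_)
  rw [algebraMap_RgBb, awayMap_algebraMap, ← IsScalarTower.algebraMap_apply R (𝒟.B i) (Bb σ i)]

noncomputable instance algRgAa (i : ℕ) : Algebra (Rg σ) (Aa σ i) :=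
  (awayMap (algebraMap R (𝒟.A i)) σ.g (σ.aEl i) (σ.hga i)).toAlgebra

theorem algebraMap_RgAa (i : ℕ) (z : Rg σ) : algebraMap (Rg σ) (Aa σ i) z =
    awayMap (algebraMap R (𝒟.A i)) σ.g (σ.aEl i) (σ.hga i) z := rfl

instance towerRRgAa (i : ℕ) : IsScalarTower R (Rg σ) (Aa σ i) := by
  refine IsScalarTower.of_algebraMap_eq (R := R) (S := Rg σ) (A := Aa σ i) (fun r => ?_)
  rw [algebraMap_RgAa, awayMap_algebraMap, ← IsScalarTower.algebraMap_apply R (𝒟.A i) (Aa σ i)]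

noncomputable instance algRgSx : Algebra (Rg σ) (Sx σ) :=
  (awayMap (algebraMap R S) σ.g σ.hX σ.hgX).toAlgebra

theorem algebraMap_RgSx (z : Rg σ) : algebraMap (Rg σ) (Sx σ) z =
    awayMap (algebraMap R S) σ.g σ.hX σ.hgX z := rfl

instance towerRRgSx : IsScalarTower R (Rg σ) (Sx σ) := by
  refine IsScalarTower.of_algebraMap_eq (R := R) (S := Rg σ) (A := Sx σ) (fun r => ?_)
  rw [algebraMap_RgSx, awayMap_algebraMap, ← IsScalarTower.algebraMap_apply R S (Sx σ)]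

/-- `B i → A i`, localized -/
noncomputable def phi (i : ℕ) : Bb σ i →ₐ[Rg σ] Aa σ i :=
  { toRingHom := awayMap (algebraMap (𝒟.B i) (𝒟.A i)) (σ.b i) (σ.aEl i) (dvd_refl _)
    commutes' := fun z => awayMap_comp (algebraMap R (𝒟.B i)) (algebraMap (𝒟.B i) (𝒟.A i))
      (algebraMap R (𝒟.A i)) (IsScalarTower.algebraMap_eq R (𝒟.B i) (𝒟.A i)).symm σ.g (σ.b i)
      (σ.aEl i) (σ.hgb i) (dvd_refl _) (σ.hga i) z }

theorem phi_algebraMap (i : ℕ) (x : 𝒟.B i) : phi σ i (algebraMap (𝒟.B i) (Bb σ i) x) =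
    algebraMap (𝒟.A i) (Aa σ i) (algebraMap (𝒟.B i) (𝒟.A i) x) :=
  awayMap_algebraMap _ _ _ (dvd_refl _) x

/-- `B i → A (i + 1)`, localized -/
noncomputable def phi1 (i : ℕ) (h : i + 1 < 𝒟.n) : Bb σ i →ₐ[Rg σ] Aa σ (i + 1) :=
  { toRingHom := awayMap (algebraMap (𝒟.B i) (𝒟.A (i + 1))) (σ.b i) (σ.aEl (i + 1))
      (σ.hX1 i h).dvd
    commutes' := fun z => awayMap_comp (algebraMap R (𝒟.B i))
      (algebraMap (𝒟.B i) (𝒟.A (i + 1)))
      (algebraMap R (𝒟.A (i + 1))) (IsScalarTower.algebraMap_eq R (𝒟.B i) (𝒟.A (i + 1))).symm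
      σ.g (σ.b i) (σ.aEl (i + 1)) (σ.hgb i) (σ.hX1 i h).dvd (σ.hga (i + 1)) z }

theorem phi1_algebraMap (i : ℕ) (h : i + 1 < 𝒟.n) (x : 𝒟.B i) :
    phi1 σ i h (algebraMap (𝒟.B i) (Bb σ i) x) =
      algebraMap (𝒟.A (i + 1)) (Aa σ (i + 1)) (algebraMap (𝒟.B i) (𝒟.A (i + 1)) x) :=
  awayMap_algebraMap _ _ _ (σ.hX1 i h).dvd x

/-- `S → A 0`, localized -/
noncomputable def sig : Sx σ →ₐ[Rg σ] Aa σ 0 :=
  { toRingHom := awayMap (algebraMap S (𝒟.A 0)) σ.hX (σ.aEl 0) σ.hX0.dvd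
    commutes' := fun z => awayMap_comp (algebraMap R S) (algebraMap S (𝒟.A 0))
      (algebraMap R (𝒟.A 0)) (IsScalarTower.algebraMap_eq R S (𝒟.A 0)).symm σ.g σ.hX
      (σ.aEl 0) σ.hgX σ.hX0.dvd (σ.hga 0) z }

theorem sig_algebraMap (x : S) : sig σ (algebraMap S (Sx σ) x) =
    algebraMap (𝒟.A 0) (Aa σ 0) (algebraMap S (𝒟.A 0) x) :=
  awayMap_algebraMap _ _ _ σ.hX0.dvd x

/-- the new `B i` -/
abbrev B' (i : ℕ) : Type u := Pad2 (Bb σ i) (Rg σ) (i < 𝒟.n)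
/-- the new `A i` -/
abbrev A' (i : ℕ) : Type u := Pad2 (Aa σ i) (KK σ) (i < 𝒟.n)

instance towerRRgB' (i : ℕ) : IsScalarTower R (Rg σ) (B' σ i) := inferInstance
instance towerRRgA' (i : ℕ) : IsScalarTower R (Rg σ) (A' σ i) := inferInstance

/-- `B' i → A' i` -/
noncomputable def psiBA (i : ℕ) : B' σ i →ₐ[Rg σ] A' σ i :=
  Pad2.lift (Rg σ) (Bb σ i) (Rg σ) (i < 𝒟.n)
    (fun h => (Pad2.inl (Rg σ) (Aa σ i) (KK σ) (i < 𝒟.n) h).comp (phi σ i))
    (fun _ => Algebra.ofId (Rg σ) (A' σ i))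

noncomputable instance algB'A' (i : ℕ) : Algebra (B' σ i) (A' σ i) :=
  (psiBA σ i).toRingHom.toAlgebra

theorem algebraMap_B'A' (i : ℕ) (z : B' σ i) :
    algebraMap (B' σ i) (A' σ i) z = psiBA σ i z := rfl

instance towerRgB'A' (i : ℕ) : IsScalarTower (Rg σ) (B' σ i) (A' σ i) :=
  IsScalarTower.of_algebraMap_eq (R := Rg σ) (S := B' σ i) (A := A' σ i)
    (fun r => ((psiBA σ i).commutes r).symm)

/-- the boundary identification -/
noncomputable def kap (i : ℕ) (h1 : i < 𝒟.n) (h2 : ¬ i + 1 < 𝒟.n) : Bb σ i →ₐ[Rg σ] KK σ := by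
  have h : i = 𝒟.n - 1 := by omega
  subst h
  exact AlgHom.id _ _

open Classical in
/-- `B' i → A' (i + 1)` -/
noncomputable def psiBA1 (i : ℕ) : B' σ i →ₐ[Rg σ] A' σ (i + 1) :=
  Pad2.lift (Rg σ) (Bb σ i) (Rg σ) (i < 𝒟.n)
    (fun h => if h' : i + 1 < 𝒟.n then
        (Pad2.inl (Rg σ) (Aa σ (i + 1)) (KK σ) (i + 1 < 𝒟.n) h').comp (phi1 σ i h')
      else (Pad2.inr (Rg σ) (Aa σ (i + 1)) (KK σ) (i + 1 < 𝒟.n) h').comp (kap σ i h h'))
    (fun _ => Algebra.ofId (Rg σ) (A' σ (i + 1)))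

noncomputable instance algB'A'1 (i : ℕ) : Algebra (B' σ i) (A' σ (i + 1)) :=
  (psiBA1 σ i).toRingHom.toAlgebra

theorem algebraMap_B'A'1 (i : ℕ) (z : B' σ i) :
    algebraMap (B' σ i) (A' σ (i + 1)) z = psiBA1 σ i z := rfl

instance towerRgB'A'1 (i : ℕ) : IsScalarTower (Rg σ) (B' σ i) (A' σ (i + 1)) :=
  IsScalarTower.of_algebraMap_eq (R := Rg σ) (S := B' σ i) (A := A' σ (i + 1))
    (fun r => ((psiBA1 σ i).commutes r).symm)

/-- `S[1/hX] → A' 0` -/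
noncomputable def sig' : Sx σ →ₐ[Rg σ] A' σ 0 :=
  (Pad2.inl (Rg σ) (Aa σ 0) (KK σ) (0 < 𝒟.n) 𝒟.pos).comp (sig σ)

noncomputable instance algSxA' : Algebra (Sx σ) (A' σ 0) := (sig' σ).toRingHom.toAlgebra

theorem algebraMap_SxA' (z : Sx σ) : algebraMap (Sx σ) (A' σ 0) z = sig' σ z := rfl

instance towerRgSxA' : IsScalarTower (Rg σ) (Sx σ) (A' σ 0) :=
  IsScalarTower.of_algebraMap_eq (R := Rg σ) (S := Sx σ) (A := A' σ 0)
    (fun r => ((sig' σ).commutes r).symm)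

/-! ### the comparison with the original rings -/

noncomputable instance algBB' (i : ℕ) [hc : Fact (i < 𝒟.n)] : Algebra (𝒟.B i) (B' σ i) :=
  ((Pad2.inl (Rg σ) (Bb σ i) (Rg σ) (i < 𝒟.n) hc.out).toRingHom.comp
    (algebraMap (𝒟.B i) (Bb σ i))).toAlgebra

theorem algebraMap_BB' (i : ℕ) [hc : Fact (i < 𝒟.n)] (x : 𝒟.B i) :
    algebraMap (𝒟.B i) (B' σ i) x =
      Pad2.inl (Rg σ) (Bb σ i) (Rg σ) (i < 𝒟.n) hc.out (algebraMap (𝒟.B i) (Bb σ i) x) := rfl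

instance towerRBB' (i : ℕ) [hc : Fact (i < 𝒟.n)] : IsScalarTower R (𝒟.B i) (B' σ i) := by
  refine IsScalarTower.of_algebraMap_eq (R := R) (S := 𝒟.B i) (A := B' σ i) (fun r => ?_)
  rw [algebraMap_BB', ← IsScalarTower.algebraMap_apply R (𝒟.B i) (Bb σ i),
    IsScalarTower.algebraMap_apply R (Rg σ) (Bb σ i), AlgHom.commutes,
    ← IsScalarTower.algebraMap_apply R (Rg σ) (B' σ i)]

instance locBB' (i : ℕ) [hc : Fact (i < 𝒟.n)] : IsLocalization.Away (σ.b i) (B' σ i) :=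
  IsLocalization.isLocalization_of_algEquiv (Submonoid.powers (σ.b i))
    (AlgEquiv.ofRingEquiv (f := (Pad2.equivX (Rg σ) (Bb σ i) (Rg σ) (i < 𝒟.n) hc.out).symm.toRingEquiv)
      (fun x => rfl) : Bb σ i ≃ₐ[𝒟.B i] B' σ i)

noncomputable instance algAA' (i : ℕ) [hc : Fact (i < 𝒟.n)] : Algebra (𝒟.A i) (A' σ i) :=
  ((Pad2.inl (Rg σ) (Aa σ i) (KK σ) (i < 𝒟.n) hc.out).toRingHom.comp
    (algebraMap (𝒟.A i) (Aa σ i))).toAlgebra

theorem algebraMap_AA' (i : ℕ) [hc : Fact (i < 𝒟.n)] (x : 𝒟.A i) :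
    algebraMap (𝒟.A i) (A' σ i) x =
      Pad2.inl (Rg σ) (Aa σ i) (KK σ) (i < 𝒟.n) hc.out (algebraMap (𝒟.A i) (Aa σ i) x) := rfl

instance towerRAA' (i : ℕ) [hc : Fact (i < 𝒟.n)] : IsScalarTower R (𝒟.A i) (A' σ i) := by
  refine IsScalarTower.of_algebraMap_eq (R := R) (S := 𝒟.A i) (A := A' σ i) (fun r => ?_)
  rw [algebraMap_AA', ← IsScalarTower.algebraMap_apply R (𝒟.A i) (Aa σ i),
    IsScalarTower.algebraMap_apply R (Rg σ) (Aa σ i), AlgHom.commutes,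
    ← IsScalarTower.algebraMap_apply R (Rg σ) (A' σ i)]

instance locAA' (i : ℕ) [hc : Fact (i < 𝒟.n)] : IsLocalization.Away (σ.aEl i) (A' σ i) :=
  IsLocalization.isLocalization_of_algEquiv (Submonoid.powers (σ.aEl i))
    (AlgEquiv.ofRingEquiv (f := (Pad2.equivX (Rg σ) (Aa σ i) (KK σ) (i < 𝒟.n) hc.out).symm.toRingEquiv)
      (fun x => rfl) : Aa σ i ≃ₐ[𝒟.A i] A' σ i)

noncomputable instance algBA' (i : ℕ) [hc : Fact (i < 𝒟.n)] : Algebra (𝒟.B i) (A' σ i) :=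
  ((algebraMap (𝒟.A i) (A' σ i)).comp (algebraMap (𝒟.B i) (𝒟.A i))).toAlgebra

instance towerBAA' (i : ℕ) [hc : Fact (i < 𝒟.n)] : IsScalarTower (𝒟.B i) (𝒟.A i) (A' σ i) :=
  IsScalarTower.of_algebraMap_eq (R := 𝒟.B i) (S := 𝒟.A i) (A := A' σ i) (fun _ => rfl)

instance towerBB'A' (i : ℕ) [hc : Fact (i < 𝒟.n)] : IsScalarTower (𝒟.B i) (B' σ i) (A' σ i) := by
  refine IsScalarTower.of_algebraMap_eq (R := 𝒟.B i) (S := B' σ i) (A := A' σ i) (fun x => ?_)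
  show algebraMap (𝒟.A i) (A' σ i) (algebraMap (𝒟.B i) (𝒟.A i) x) =
    algebraMap (B' σ i) (A' σ i) (algebraMap (𝒟.B i) (B' σ i) x)
  rw [algebraMap_B'A', algebraMap_BB', psiBA, Pad2.lift_inl, algebraMap_AA', AlgHom.comp_apply,
    phi_algebraMap]

noncomputable instance algBA'1 (i : ℕ) [hc : Fact (i < 𝒟.n)] : Algebra (𝒟.B i) (A' σ (i + 1)) :=
  ((algebraMap (B' σ i) (A' σ (i + 1))).comp (algebraMap (𝒟.B i) (B' σ i))).toAlgebra

instance towerBB'A'1 (i : ℕ) [hc : Fact (i < 𝒟.n)] :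
    IsScalarTower (𝒟.B i) (B' σ i) (A' σ (i + 1)) :=
  IsScalarTower.of_algebraMap_eq (R := 𝒟.B i) (S := B' σ i) (A := A' σ (i + 1)) (fun _ => rfl)

instance towerBAA'1 (i : ℕ) [hc : Fact (i < 𝒟.n)] [hc1 : Fact (i + 1 < 𝒟.n)] :
    IsScalarTower (𝒟.B i) (𝒟.A (i + 1)) (A' σ (i + 1)) := by
  refine IsScalarTower.of_algebraMap_eq (R := 𝒟.B i) (S := 𝒟.A (i + 1)) (A := A' σ (i + 1))
    (fun x => ?_)
  show algebraMap (B' σ i) (A' σ (i + 1)) (algebraMap (𝒟.B i) (B' σ i) x) =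
    algebraMap (𝒟.A (i + 1)) (A' σ (i + 1)) (algebraMap (𝒟.B i) (𝒟.A (i + 1)) x)
  rw [algebraMap_B'A'1, algebraMap_BB', psiBA1, Pad2.lift_inl, dif_pos hc1.out,
    algebraMap_AA', AlgHom.comp_apply, phi1_algebraMap]

noncomputable instance algSA' : Algebra S (A' σ 0) :=
  ((algebraMap (𝒟.A 0) (A' σ 0)).comp (algebraMap S (𝒟.A 0))).toAlgebra

instance towerSAA' : IsScalarTower S (𝒟.A 0) (A' σ 0) :=
  IsScalarTower.of_algebraMap_eq (R := S) (S := 𝒟.A 0) (A := A' σ 0) (fun _ => rfl)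

instance towerSSxA' : IsScalarTower S (Sx σ) (A' σ 0) := by
  refine IsScalarTower.of_algebraMap_eq (R := S) (S := Sx σ) (A := A' σ 0) (fun x => ?_)
  show algebraMap (𝒟.A 0) (A' σ 0) (algebraMap S (𝒟.A 0) x) =
    algebraMap (Sx σ) (A' σ 0) (algebraMap S (Sx σ) x)
  rw [algebraMap_SxA', sig', AlgHom.comp_apply, sig_algebraMap, algebraMap_AA']

/-! ### the modules -/

/-- the localized `M i` -/
abbrev Mm (i : ℕ) : Type u := LocalizedModule (Submonoid.powers (σ.aEl i)) (𝒟.M i)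

/-- the new `M i` -/
def MPm (i : ℕ) : Type u := PadMod (Aa σ i) (i < 𝒟.n) (Mm σ i)

noncomputable instance instAddCommGroupMPm (i : ℕ) : AddCommGroup (MPm σ i) :=
  inferInstanceAs (AddCommGroup (PadMod (Aa σ i) (i < 𝒟.n) (Mm σ i)))

/-- the base module structure -/
noncomputable def baseMod (i : ℕ) : Module (A' σ i) (MPm σ i) :=
  inferInstanceAs (Module (Pad2 (Aa σ i) (KK σ) (i < 𝒟.n)) (PadMod (Aa σ i) (i < 𝒟.n) (Mm σ i)))

/-- the base scalar multiplication -/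
noncomputable def bsmul (i : ℕ) (a : A' σ i) (x : MPm σ i) : MPm σ i :=
  letI := baseMod σ i
  a • x

theorem bsmul_mul (i : ℕ) (a b : A' σ i) (x : MPm σ i) :
    bsmul σ i (a * b) x = bsmul σ i a (bsmul σ i b x) := by
  letI := baseMod σ i
  exact mul_smul a b x

noncomputable instance (priority := 50) genMod (i : ℕ) (T : Type u) [CommRing T]
    [Algebra T (A' σ i)] : Module T (MPm σ i) :=
  letI := baseMod σ i
  Module.compHom (MPm σ i) (algebraMap T (A' σ i))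

theorem genMod_smul (i : ℕ) (T : Type u) [CommRing T] [Algebra T (A' σ i)] (t : T)
    (x : MPm σ i) : t • x = bsmul σ i (algebraMap T (A' σ i) t) x := rfl

instance (priority := 50) genTower (i : ℕ) (T₁ T₂ : Type u) [CommRing T₁] [CommRing T₂]
    [Algebra T₁ T₂] [Algebra T₁ (A' σ i)] [Algebra T₂ (A' σ i)]
    [IsScalarTower T₁ T₂ (A' σ i)] : IsScalarTower T₁ T₂ (MPm σ i) :=
  ⟨fun a b x => by
    simp only [genMod_smul]
    rw [Algebra.smul_def, map_mul, ← IsScalarTower.algebraMap_apply, bsmul_mul]⟩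

/-- the underlying function of the localization map -/
noncomputable def gRaw (i : ℕ) (m : 𝒟.M i) : MPm σ i :=
  (Submodule.Quotient.mk (LocalizedModule.mkLinearMap (Submonoid.powers (σ.aEl i)) (𝒟.M i) m) :
    PadMod (Aa σ i) (i < 𝒟.n) (Mm σ i))

/-- the identification, as a function -/
noncomputable def eFun (i : ℕ) [hc : Fact (i < 𝒟.n)] (x : Mm σ i) : MPm σ i :=
  (PadMod.equiv (Aa σ i) (i < 𝒟.n) (Mm σ i) hc.out x : PadMod _ _ _)

theorem bsmul_eq (i : ℕ) [hc : Fact (i < 𝒟.n)] (z : A' σ i) (x : Mm σ i) :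
    bsmul σ i z (eFun σ i x) =
      eFun σ i ((Pad2.fstHom (Rg σ) (Aa σ i) (KK σ) (i < 𝒟.n) hc.out z) • x) := by
  have h1 : bsmul σ i z (eFun σ i x) =
      (Pad2.fstR (Aa σ i) (KK σ) (i < 𝒟.n) hc.out z) •
        (PadMod.equiv (Aa σ i) (i < 𝒟.n) (Mm σ i) hc.out x : PadMod _ _ _) :=
    PadMod.smul_def (Aa σ i) (KK σ) (i < 𝒟.n) (Mm σ i) hc.out _ _
  rw [h1, Pad2.fstR_eq_fstHom (Aa σ i) (KK σ) (i < 𝒟.n) (Rg σ) hc.out, ← map_smul]
  rfl

/-- the identification of the localized module with the new module -/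
noncomputable def eM (i : ℕ) [hc : Fact (i < 𝒟.n)] : Mm σ i ≃ₗ[𝒟.A i] MPm σ i where
  toFun := eFun σ i
  invFun y := (PadMod.equiv (Aa σ i) (i < 𝒟.n) (Mm σ i) hc.out).symm y
  map_add' x y := map_add (PadMod.equiv (Aa σ i) (i < 𝒟.n) (Mm σ i) hc.out) x y
  map_smul' a x := by
    show eFun σ i (a • x) = a • eFun σ i x
    rw [genMod_smul, bsmul_eq, algebraMap_AA', Pad2.fstHom_inl, algebraMap_smul]
  left_inv x := (PadMod.equiv (Aa σ i) (i < 𝒟.n) (Mm σ i) hc.out).symm_apply_apply x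
  right_inv y := (PadMod.equiv (Aa σ i) (i < 𝒟.n) (Mm σ i) hc.out).apply_symm_apply y

/-- the localization map of modules -/
noncomputable def gM' (i : ℕ) [hc : Fact (i < 𝒟.n)] : 𝒟.M i →ₗ[𝒟.A i] MPm σ i :=
  (eM σ i).toLinearMap.comp (LocalizedModule.mkLinearMap (Submonoid.powers (σ.aEl i)) (𝒟.M i))

theorem gM'_apply (i : ℕ) [hc : Fact (i < 𝒟.n)] (m : 𝒟.M i) : gM' σ i m = gRaw σ i m := rfl

instance locgM' (i : ℕ) [hc : Fact (i < 𝒟.n)] :
    IsLocalizedModule (Submonoid.powers (σ.aEl i)) (gM' σ i) :=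
  IsLocalizedModule.of_linearEquiv (Submonoid.powers (σ.aEl i))
    (LocalizedModule.mkLinearMap (Submonoid.powers (σ.aEl i)) (𝒟.M i)) (eM σ i)

/-- the generators of the image of the new `α` -/
noncomputable def vP (i : ℕ) (j : Fin (𝒟.r i)) : MPm σ i :=
  gRaw σ i (𝒟.α i (fun k => if j = k then 1 else 0))

/-- the new `α` -/
noncomputable def alphaP (i : ℕ) : (Fin (𝒟.r i) → B' σ i) →ₗ[B' σ i] MPm σ i :=
  Fintype.linearCombination (B' σ i) (vP σ i)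

theorem alphaP_comm (i : ℕ) [Fact (i < 𝒟.n)] (x : Fin (𝒟.r i) → 𝒟.B i) :
    alphaP σ i ((Algebra.linearMap (𝒟.B i) (B' σ i)).compLeft (Fin (𝒟.r i)) x) =
      (gM' σ i).restrictScalars (𝒟.B i) (𝒟.α i x) := by
  have h1 := LinearMap.pi_apply_eq_sum_univ
    (((gM' σ i).restrictScalars (𝒟.B i)).comp (𝒟.α i)) x
  rw [show (gM' σ i).restrictScalars (𝒟.B i) (𝒟.α i x) =
    (((gM' σ i).restrictScalars (𝒟.B i)).comp (𝒟.α i)) x from rfl, h1, alphaP,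
    Fintype.linearCombination_apply]
  refine Finset.sum_congr rfl (fun j _ => ?_)
  show (algebraMap (𝒟.B i) (B' σ i) (x j)) • vP σ i j = _
  rw [algebraMap_smul]
  rfl

end Model

end Groth.Agent.Lib.Helper24.CDevSh
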