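import Mathlib
import Groth.Prelude.Def_FlatCA
import Groth.Prelude.Def_Flat
import Groth.Agent.Lib.Helper24.CDevShModel

/-!
# Standard shrinking of a complete dévissage: the shrunken dévissage
-/

set_option autoImplicit false
set_option maxHeartbeats 1600000
set_option linter.style.haveILetI false
set_option linter.unusedSectionVars false
set_option linter.unusedVariables false

universe u

namespace Groth.Agent.Lib.Helper24.CDevSh

open TensorProduct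
open Groth.Agent.Lib.Helper24.Shrink

theorem pt_congr {R S : Type u} [CommRing R] [CommRing S] [Algebra R S] (p : Ideal R)
    [p.IsPrime] (q q' : Ideal S) [q.IsPrime] [q'.IsPrime] [q.LiesOver p] [q'.LiesOver p]
    (h : q = q') (H : FlatCA.PurelyTranscendental p q) : FlatCA.PurelyTranscendental p q' := by
  subst h
  exact H

section Main

variable {R S : Type u} [CommRing R] [CommRing S] [Algebra R S]
  {N : Type u} [AddCommGroup N] [Module S N] {p : Ideal R} [p.IsPrime] {q : Ideal S} [q.IsPrime]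
  {𝒟 : FlatCA.CompleteDevissage R S N p} {𝒜 : FlatCA.CompleteDevissageAt R S N p q 𝒟}
  (σ : ShData 𝒟 𝒜)

attribute [local instance] FlatCA.CompleteDevissageAt.hqB FlatCA.CompleteDevissageAt.hqA
  FlatCA.CompleteDevissageAt.overB FlatCA.CompleteDevissageAt.overA

theorem ShData.haEl (i : ℕ) (h : i < 𝒟.n) : σ.aEl i ∉ 𝒜.qA i :=
  fun hm => σ.hb i h ((Ideal.mem_of_liesOver (𝒜.qA i) (𝒜.qB i) (σ.b i)).mpr hm)

theorem ShData.hXq : σ.hX ∉ q := by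
  intro hm
  have h1 : σ.hX ∈ (𝒜.qA 0).comap (algebraMap S (𝒟.A 0)) := by
    rw [𝒜.q0]
    exact hm
  rw [Ideal.mem_comap, σ.hX0] at h1
  exact σ.haEl 0 𝒟.pos h1

theorem pB_le (i : ℕ) : p.map (algebraMap R (𝒟.B i)) ≤ 𝒜.qB i := by
  rw [Ideal.map_le_iff_le_comap]
  exact (𝒜.overB i).over.le

theorem ShData.hbp (i : ℕ) (h : i < 𝒟.n) : σ.b i ∉ p.map (algebraMap R (𝒟.B i)) :=
  fun hm => σ.hb i h (pB_le (𝒜 := 𝒜) i hm)

instance pRg_isPrime : (Ideal.map (algebraMap R (Rg σ)) p).IsPrime :=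
  IsLocalization.isPrime_of_isPrime_disjoint (Submonoid.powers σ.g) _ p inferInstance
    (disjoint_powers p σ.g σ.hg)

instance qSx_isPrime : (Ideal.map (algebraMap S (Sx σ)) q).IsPrime :=
  IsLocalization.isPrime_of_isPrime_disjoint (Submonoid.powers σ.hX) _ q inferInstance
    (disjoint_powers q σ.hX σ.hXq)

theorem map_map_B' (i : ℕ) [Fact (i < 𝒟.n)] :
    (Ideal.map (algebraMap R (Rg σ)) p).map (algebraMap (Rg σ) (B' σ i)) =
      (p.map (algebraMap R (𝒟.B i))).map (algebraMap (𝒟.B i) (B' σ i)) := by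
  rw [Ideal.map_map, Ideal.map_map, ← IsScalarTower.algebraMap_eq, ← IsScalarTower.algebraMap_eq]

theorem hp_P (i : ℕ) :
    ((Ideal.map (algebraMap R (Rg σ)) p).map (algebraMap (Rg σ) (B' σ i))).IsPrime :=
  Pad2.map_isPrime (Rg σ) (Bb σ i) (Rg σ) (i < 𝒟.n) _ (fun h => by
    have e : (Ideal.map (algebraMap R (Rg σ)) p).map (algebraMap (Rg σ) (Bb σ i)) =
        (p.map (algebraMap R (𝒟.B i))).map (algebraMap (𝒟.B i) (Bb σ i)) := by
      rw [Ideal.map_map, Ideal.map_map, ← IsScalarTower.algebraMap_eq,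
        ← IsScalarTower.algebraMap_eq]
    rw [e]
    exact IsLocalization.isPrime_of_isPrime_disjoint (Submonoid.powers (σ.b i)) _ _ (𝒟.hp i)
      (disjoint_powers _ (σ.b i) (σ.hbp i h)))
    (fun _ => by
      show (Ideal.map (RingHom.id (Rg σ)) (Ideal.map (algebraMap R (Rg σ)) p)).IsPrime
      rw [Ideal.map_id]
      infer_instance)

theorem surjSA_P : Function.Surjective (algebraMap (Sx σ) (A' σ 0)) :=
  surj_loc (S := S) (C := 𝒟.A 0) (Sx := Sx σ) (Cz := A' σ 0) σ.hX (σ.aEl 0) σ.hX0 𝒟.surjSA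

theorem fpSA_P : Algebra.FinitePresentation (Sx σ) (A' σ 0) := by
  haveI := 𝒟.fpSA
  exact fp_loc (S := S) (C := 𝒟.A 0) (Sx := Sx σ) (Cz := A' σ 0) σ.hX (σ.aEl 0)

theorem surjBA'_P (i : ℕ) (h : i + 1 < 𝒟.n) :
    Function.Surjective (algebraMap (B' σ i) (A' σ (i + 1))) := by
  haveI : Fact (i < 𝒟.n) := ⟨by omega⟩
  haveI : Fact (i + 1 < 𝒟.n) := ⟨h⟩
  exact surj_loc (S := 𝒟.B i) (C := 𝒟.A (i + 1)) (Sx := B' σ i) (Cz := A' σ (i + 1)) (σ.b i)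
    (σ.aEl (i + 1)) (σ.hX1 i h) (𝒟.surjBA' i h)

theorem fpBA'_P (i : ℕ) (h : i + 1 < 𝒟.n) :
    Algebra.FinitePresentation (B' σ i) (A' σ (i + 1)) := by
  haveI : Fact (i < 𝒟.n) := ⟨by omega⟩
  haveI : Fact (i + 1 < 𝒟.n) := ⟨h⟩
  haveI := 𝒟.fpBA' i h
  exact fp_loc (S := 𝒟.B i) (C := 𝒟.A (i + 1)) (Sx := B' σ i) (Cz := A' σ (i + 1)) (σ.b i)
    (σ.aEl (i + 1))

theorem finiteBA_P (i : ℕ) (h : i < 𝒟.n) : Module.Finite (B' σ i) (A' σ i) := by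
  haveI : Fact (i < 𝒟.n) := ⟨h⟩
  haveI := 𝒟.finiteBA i h
  exact finite_loc (D := 𝒟.B i) (C := 𝒟.A i) (Dy := B' σ i) (Cz := A' σ i) (σ.b i) (σ.aEl i) rfl

theorem stepRing_P (i : ℕ) [hc : Fact (i < 𝒟.n)] :
    ∃ (h1 : ((𝒜.qB i).map (algebraMap (𝒟.B i) (B' σ i))).IsPrime)
      (h2 : ((𝒜.qA i).map (algebraMap (𝒟.A i) (A' σ i))).IsPrime)
      (h3 : ((𝒜.qB i).map (algebraMap (𝒟.B i) (B' σ i))).LiesOver
        (Ideal.map (algebraMap R (Rg σ)) p)),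
      ((𝒜.qA i).map (algebraMap (𝒟.A i) (A' σ i))).LiesOver
        ((𝒜.qB i).map (algebraMap (𝒟.B i) (B' σ i))) ∧
      ((𝒜.qB i).map (algebraMap (𝒟.B i) (B' σ i))).LiesOver (𝒜.qB i) ∧
      ((𝒜.qA i).map (algebraMap (𝒟.A i) (A' σ i))).LiesOver (𝒜.qA i) ∧
      FlatCA.PurelyTranscendental (Ideal.map (algebraMap R (Rg σ)) p)
        ((𝒜.qB i).map (algebraMap (𝒟.B i) (B' σ i))) ∧
      (∀ (Q : Ideal (A' σ i)) [Q.IsPrime],
        Q.LiesOver ((𝒜.qB i).map (algebraMap (𝒟.B i) (B' σ i))) →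
        Q = (𝒜.qA i).map (algebraMap (𝒟.A i) (A' σ i))) ∧
      FlatCA.SmoothRelDim (𝒜.d i) (Rg σ) (B' σ i) ∧ FlatCA.GeomIrredFibres (Rg σ) (B' σ i) :=
  stepRing (R := R) (R' := Rg σ) p σ.g σ.hg (B := 𝒟.B i) (A := 𝒟.A i) (B' := B' σ i)
    (A' := A' σ i) (σ.b i) (𝒜.qB i) (𝒜.qA i) (σ.hb i hc.out) (σ.himg i hc.out) (𝒜.d i)
    (𝒜.pureTrans i hc.out) (𝒜.uniq i hc.out) (𝒜.relDim i hc.out) (𝒟.geomIrred i hc.out)

theorem smooth_P (i : ℕ) (h : i < 𝒟.n) : Algebra.Smooth (Rg σ) (B' σ i) := by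
  haveI : Fact (i < 𝒟.n) := ⟨h⟩
  obtain ⟨h1, h2, h3, h4, h5, h6, h7, h8, h9, h10⟩ := stepRing_P σ i
  exact smooth_of_smoothRelDim _ h9

theorem geomIrred_P (i : ℕ) (h : i < 𝒟.n) : FlatCA.GeomIrredFibres (Rg σ) (B' σ i) := by
  haveI : Fact (i < 𝒟.n) := ⟨h⟩
  obtain ⟨h1, h2, h3, h4, h5, h6, h7, h8, h9, h10⟩ := stepRing_P σ i
  exact h10

theorem finiteM_P (i : ℕ) (h : i < 𝒟.n) : Module.Finite (A' σ i) (MPm σ i) := by
  haveI : Fact (i < 𝒟.n) := ⟨h⟩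
  haveI := 𝒟.finiteM i h
  exact Module.Finite.of_isLocalizedModule (Submonoid.powers (σ.aEl i)) (gM' σ i)

theorem isBaseChange_gMB (i : ℕ) [Fact (i < 𝒟.n)] :
    IsBaseChange (B' σ i) ((gM' σ i).restrictScalars (𝒟.B i)) :=
  isBaseChange_of_away (B := 𝒟.B i) (A := 𝒟.A i) (B' := B' σ i) (σ.b i) (gM' σ i) (σ.aEl i) rfl

theorem isBaseChange_gMB1 (i : ℕ) [Fact (i < 𝒟.n)] [hc1 : Fact (i + 1 < 𝒟.n)] :
    IsBaseChange (B' σ i) ((gM' σ (i + 1)).restrictScalars (𝒟.B i)) :=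
  isBaseChange_of_away (B := 𝒟.B i) (A := 𝒟.A (i + 1)) (B' := B' σ i) (σ.b i) (gM' σ (i + 1))
    (σ.aEl (i + 1)) (σ.hX1 i hc1.out)

theorem range_alphaP (i : ℕ) [Fact (i < 𝒟.n)] :
    LinearMap.range (alphaP σ i) =
      Submodule.span (B' σ i) ((gM' σ i) '' (LinearMap.range (𝒟.α i) : Set (𝒟.M i))) :=
  CDevBC.range_eq_span_of_isBaseChange (𝒟.B i) (B' σ i) (Fin (𝒟.r i) → 𝒟.B i)
    (Fin (𝒟.r i) → B' σ i) (𝒟.M i) (MPm σ i)
    ((Algebra.linearMap (𝒟.B i) (B' σ i)).compLeft (Fin (𝒟.r i)))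
    (IsBaseChange.finitePow (Fin (𝒟.r i)) (IsBaseChange.linearMap (𝒟.B i) (B' σ i)))
    ((gM' σ i).restrictScalars (𝒟.B i)) (𝒟.α i) (alphaP σ i) (alphaP_comm σ i)

theorem exists_isoCoker (i : ℕ) (h : i + 1 < 𝒟.n) :
    Nonempty ((MPm σ i ⧸ LinearMap.range (alphaP σ i)) ≃ₗ[B' σ i] MPm σ (i + 1)) := by
  haveI : Fact (i < 𝒟.n) := ⟨by omega⟩
  haveI : Fact (i + 1 < 𝒟.n) := ⟨h⟩
  exact isoCoker_gen (𝒟.B i) (B' σ i) (𝒟.M i) (MPm σ i) (𝒟.M (i + 1)) (MPm σ (i + 1)) _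
    (isBaseChange_gMB σ i) _ (isBaseChange_gMB1 σ i) (LinearMap.range (𝒟.α i)) (𝒟.isoCoker i h) _
    (range_alphaP σ i)

theorem fibreIso_P (i : ℕ) (h : i < 𝒟.n) :
    haveI := hp_P σ i
    Function.Bijective ((alphaP σ i).baseChange
      ((Ideal.map (algebraMap R (Rg σ)) p).map (algebraMap (Rg σ) (B' σ i))).ResidueField) := by
  haveI : Fact (i < 𝒟.n) := ⟨h⟩
  haveI := hp_P σ i
  have hover : p.map (algebraMap R (𝒟.B i)) =
      ((Ideal.map (algebraMap R (Rg σ)) p).map (algebraMap (Rg σ) (B' σ i))).comap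
        (algebraMap (𝒟.B i) (B' σ i)) := by
    rw [map_map_B']
    exact (IsLocalization.under_map_of_isPrime_disjoint (Submonoid.powers (σ.b i)) _ (𝒟.hp i)
      (disjoint_powers _ (σ.b i) (σ.hbp i h))).symm
  exact fibre_bc (p.map (algebraMap R (𝒟.B i))) _ hover (𝒟.M i) (MPm σ i) (𝒟.r i) _
    (isBaseChange_gMB σ i) (𝒟.α i) (alphaP σ i) (alphaP_comm σ i) (𝒟.fibreIso i h)

theorem cokerLast_P : Function.Surjective (alphaP σ (𝒟.n - 1)) := by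
  have hlt : 𝒟.n - 1 < 𝒟.n := Nat.sub_lt 𝒟.pos Nat.one_pos
  haveI : Fact (𝒟.n - 1 < 𝒟.n) := ⟨hlt⟩
  rw [← LinearMap.range_eq_top, range_alphaP σ (𝒟.n - 1)]
  have h1 : (LinearMap.range (𝒟.α (𝒟.n - 1)) : Set (𝒟.M (𝒟.n - 1))) = Set.univ := by
    rw [LinearMap.range_eq_top.mpr 𝒟.cokerLast]
    rfl
  rw [h1, Set.image_univ]
  have hg := isBaseChange_gMB σ (𝒟.n - 1)
  rw [eq_top_iff]
  intro x _
  exact hg.inductionOn x
    (fun x => x ∈ Submodule.span (B' σ (𝒟.n - 1)) (Set.range (gM' σ (𝒟.n - 1))))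
    (Submodule.zero_mem _) (fun m => Submodule.subset_span ⟨m, rfl⟩)
    (fun b x hx => Submodule.smul_mem _ _ hx) (fun x y hx hy => Submodule.add_mem _ hx hy)

theorem exists_isoN :
    ∃ e : LocalizedModule (Submonoid.powers σ.hX) N ≃ₗ[Sx σ] MPm σ 0,
      ∀ x, e (LocalizedModule.mkLinearMap (Submonoid.powers σ.hX) N x) =
        gM' σ 0 (𝒟.isoN x) := by
  haveI hl : IsLocalizedModule (Submonoid.powers (algebraMap S (𝒟.A 0) σ.hX)) (gM' σ 0) := by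
    rw [σ.hX0]
    infer_instance
  haveI h1 : IsLocalizedModule (Submonoid.powers σ.hX) ((gM' σ 0).restrictScalars S) :=
    IsLocalizedModule.restrictScalars_powers σ.hX (gM' σ 0)
  haveI h2 : IsLocalizedModule (Submonoid.powers σ.hX)
      (((gM' σ 0).restrictScalars S).comp 𝒟.isoN.toLinearMap) :=
    IsLocalizedModule.of_linearEquiv_right (Submonoid.powers σ.hX)
      ((gM' σ 0).restrictScalars S) 𝒟.isoN
  refine ⟨LinearEquiv.extendScalarsOfIsLocalization (Submonoid.powers σ.hX) (Sx σ)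
    (IsLocalizedModule.linearEquiv (Submonoid.powers σ.hX)
      (LocalizedModule.mkLinearMap (Submonoid.powers σ.hX) N)
      (((gM' σ 0).restrictScalars S).comp 𝒟.isoN.toLinearMap)), fun x => ?_⟩
  exact IsLocalizedModule.linearEquiv_apply (Submonoid.powers σ.hX)
    (LocalizedModule.mkLinearMap (Submonoid.powers σ.hX) N)
    (((gM' σ 0).restrictScalars S).comp 𝒟.isoN.toLinearMap) x

/-- the shrunken complete dévissage -/
noncomputable def mkD : FlatCA.CompleteDevissage (Rg σ) (Sx σ)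
    (LocalizedModule (Submonoid.powers σ.hX) N) (Ideal.map (algebraMap R (Rg σ)) p) where
  n := 𝒟.n
  pos := 𝒟.pos
  A := fun i => A' σ i
  B := fun i => B' σ i
  M := fun i => MPm σ i
  r := 𝒟.r
  cA := fun i => inferInstance
  cB := fun i => inferInstance
  aRA := fun i => inferInstance
  aRB := fun i => inferInstance
  aBA := fun i => inferInstance
  tRBA := fun i => inferInstance
  aSA := algSxA' σ
  tRSA := towerRgSxA' σ
  aBA' := fun i => inferInstance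
  tRBA' := fun i => inferInstance
  gM := fun i => inferInstance
  mAM := fun i => inferInstance
  mBM := fun i => inferInstance
  tBAM := fun i => inferInstance
  mRM := fun i => inferInstance
  tRBM := fun i => inferInstance
  mSM := inferInstance
  tSAM := inferInstance
  mB'M := fun i => inferInstance
  tB'AM := fun i => inferInstance
  hp := fun i => hp_P σ i
  α := fun i => alphaP σ i
  surjSA := surjSA_P σ
  fpSA := fpSA_P σ
  surjBA' := fun i h => surjBA'_P σ i h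
  fpBA' := fun i h => fpBA'_P σ i h
  finiteBA := fun i h => finiteBA_P σ i h
  smooth := fun i h => smooth_P σ i h
  geomIrred := fun i h => geomIrred_P σ i h
  finiteM := fun i h => finiteM_P σ i h
  isoN := Classical.choose (exists_isoN σ)
  isoCoker := fun i h => Classical.choice (exists_isoCoker σ i h)
  fibreIso := fun i h => fibreIso_P σ i h
  cokerLast := cokerLast_P σ

theorem mkD_isoN (x : N) :
    (mkD σ).isoN (LocalizedModule.mkLinearMap (Submonoid.powers σ.hX) N x) =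
      gM' σ 0 (𝒟.isoN x) :=
  Classical.choose_spec (exists_isoN σ) x

/-! ### the points -/

/-- the tail point -/
abbrev qK : Ideal (KK σ) := (𝒜.qB (𝒟.n - 1)).map (algebraMap (𝒟.B (𝒟.n - 1)) (KK σ))

instance qK_isPrime : (qK σ).IsPrime :=
  IsLocalization.isPrime_of_isPrime_disjoint (Submonoid.powers (σ.b (𝒟.n - 1))) _ _ inferInstance
    (disjoint_powers _ _ (σ.hb (𝒟.n - 1) (Nat.sub_lt 𝒟.pos Nat.one_pos)))

instance qK_liesOver : (qK σ).LiesOver (Ideal.map (algebraMap R (Rg σ)) p) :=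
  liesOver_loc (Submonoid.powers σ.g) (Submonoid.powers (σ.b (𝒟.n - 1))) (𝒜.qB (𝒟.n - 1))
    (disjoint_powers _ _ (σ.hb (𝒟.n - 1) (Nat.sub_lt 𝒟.pos Nat.one_pos))) p

/-- the new points of the `B' i` -/
noncomputable def qB' (i : ℕ) : Ideal (B' σ i) :=
  Pad2.ideal (Rg σ) (Bb σ i) (Rg σ) (i < 𝒟.n) ((𝒜.qB i).map (algebraMap (𝒟.B i) (Bb σ i)))
    (Ideal.map (algebraMap R (Rg σ)) p)

/-- the new points of the `A' i` -/
noncomputable def qA' (i : ℕ) : Ideal (A' σ i) :=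
  Pad2.ideal (Rg σ) (Aa σ i) (KK σ) (i < 𝒟.n) ((𝒜.qA i).map (algebraMap (𝒟.A i) (Aa σ i)))
    (qK σ)

theorem qB'_eq (i : ℕ) [hc : Fact (i < 𝒟.n)] :
    qB' σ i = (𝒜.qB i).map (algebraMap (𝒟.B i) (B' σ i)) := by
  rw [qB', Pad2.ideal_eq_map_inl (Rg σ) (Bb σ i) (Rg σ) (i < 𝒟.n) hc.out]
  show Ideal.map (Pad2.inl (Rg σ) (Bb σ i) (Rg σ) (i < 𝒟.n) hc.out).toRingHom
    (Ideal.map (algebraMap (𝒟.B i) (Bb σ i)) (𝒜.qB i)) = _
  rw [Ideal.map_map]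
  rfl

theorem qA'_eq (i : ℕ) [hc : Fact (i < 𝒟.n)] :
    qA' σ i = (𝒜.qA i).map (algebraMap (𝒟.A i) (A' σ i)) := by
  rw [qA', Pad2.ideal_eq_map_inl (Rg σ) (Aa σ i) (KK σ) (i < 𝒟.n) hc.out]
  show Ideal.map (Pad2.inl (Rg σ) (Aa σ i) (KK σ) (i < 𝒟.n) hc.out).toRingHom
    (Ideal.map (algebraMap (𝒟.A i) (Aa σ i)) (𝒜.qA i)) = _
  rw [Ideal.map_map]
  rfl

theorem hqB_P (i : ℕ) : (qB' σ i).IsPrime := by
  by_cases h : i < 𝒟.n
  · haveI : Fact (i < 𝒟.n) := ⟨h⟩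
    obtain ⟨h1, h2, h3, h4, h5, h6, h7, h8, h9, h10⟩ := stepRing_P σ i
    rw [qB'_eq]
    exact h1
  · rw [qB', Pad2.ideal_neg (Rg σ) (Bb σ i) (Rg σ) (i < 𝒟.n) h]
    exact Ideal.comap_isPrime _ _

theorem hqA_P (i : ℕ) : (qA' σ i).IsPrime := by
  by_cases h : i < 𝒟.n
  · haveI : Fact (i < 𝒟.n) := ⟨h⟩
    obtain ⟨h1, h2, h3, h4, h5, h6, h7, h8, h9, h10⟩ := stepRing_P σ i
    rw [qA'_eq]
    exact h2
  · rw [qA', Pad2.ideal_neg (Rg σ) (Aa σ i) (KK σ) (i < 𝒟.n) h]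
    exact Ideal.comap_isPrime _ _

theorem overB_P (i : ℕ) : (qB' σ i).LiesOver (Ideal.map (algebraMap R (Rg σ)) p) := by
  by_cases h : i < 𝒟.n
  · haveI : Fact (i < 𝒟.n) := ⟨h⟩
    obtain ⟨h1, h2, h3, h4, h5, h6, h7, h8, h9, h10⟩ := stepRing_P σ i
    rw [qB'_eq]
    exact h3
  · rw [qB', Pad2.ideal_neg (Rg σ) (Bb σ i) (Rg σ) (i < 𝒟.n) h]
    refine ⟨?_⟩
    ext r
    show r ∈ Ideal.map (algebraMap R (Rg σ)) p ↔
      Pad2.sndHom (Rg σ) (Bb σ i) (Rg σ) (i < 𝒟.n) h (algebraMap (Rg σ) (B' σ i) r) ∈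
        Ideal.map (algebraMap R (Rg σ)) p
    rw [AlgHom.commutes]
    rfl

theorem overA_P (i : ℕ) : (qA' σ i).LiesOver (qB' σ i) := by
  by_cases h : i < 𝒟.n
  · haveI : Fact (i < 𝒟.n) := ⟨h⟩
    obtain ⟨h1, h2, h3, h4, h5, h6, h7, h8, h9, h10⟩ := stepRing_P σ i
    rw [qA'_eq, qB'_eq]
    exact h4
  · rw [qA', qB', Pad2.ideal_neg (Rg σ) (Aa σ i) (KK σ) (i < 𝒟.n) h,
      Pad2.ideal_neg (Rg σ) (Bb σ i) (Rg σ) (i < 𝒟.n) h]
    refine ⟨?_⟩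
    ext z
    show Pad2.sndHom (Rg σ) (Bb σ i) (Rg σ) (i < 𝒟.n) h z ∈ Ideal.map (algebraMap R (Rg σ)) p ↔
      Pad2.sndHom (Rg σ) (Aa σ i) (KK σ) (i < 𝒟.n) h (algebraMap (B' σ i) (A' σ i) z) ∈ qK σ
    rw [algebraMap_B'A', psiBA, Pad2.lift_apply_neg (Rg σ) (Bb σ i) (Rg σ) (i < 𝒟.n) h,
      Algebra.ofId_apply, AlgHom.commutes]
    exact Ideal.mem_of_liesOver (qK σ) (Ideal.map (algebraMap R (Rg σ)) p) _

theorem pureTrans_P (i : ℕ) (h : i < 𝒟.n) :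
    haveI := hqB_P σ i
    haveI := overB_P σ i
    FlatCA.PurelyTranscendental (Ideal.map (algebraMap R (Rg σ)) p) (qB' σ i) := by
  haveI : Fact (i < 𝒟.n) := ⟨h⟩
  obtain ⟨h1, h2, h3, h4, h5, h6, h7, h8, h9, h10⟩ := stepRing_P σ i
  haveI := hqB_P σ i
  haveI := overB_P σ i
  exact pt_congr _ _ _ (qB'_eq σ i).symm h7

theorem uniq_P (i : ℕ) (h : i < 𝒟.n) (Q : Ideal (A' σ i)) (hQp : Q.IsPrime)
    (hQ : Q.LiesOver (qB' σ i)) : Q = qA' σ i := by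
  haveI : Fact (i < 𝒟.n) := ⟨h⟩
  haveI := hQp
  obtain ⟨h1, h2, h3, h4, h5, h6, h7, h8, h9, h10⟩ := stepRing_P σ i
  rw [qB'_eq] at hQ
  rw [qA'_eq]
  exact h8 Q hQ

theorem q0_P : (qA' σ 0).comap (algebraMap (Sx σ) (A' σ 0)) =
    Ideal.map (algebraMap S (Sx σ)) q := by
  haveI : (𝒜.qA 0).LiesOver q := ⟨𝒜.q0.symm⟩
  rw [qA'_eq]
  exact ((liesOver_loc (Submonoid.powers σ.hX) (Submonoid.powers (σ.aEl 0)) (𝒜.qA 0)
    (disjoint_powers _ _ (σ.haEl 0 𝒟.pos)) q).over).symm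

theorem qStep_P (i : ℕ) (h : i + 1 < 𝒟.n) :
    (qA' σ (i + 1)).comap (algebraMap (B' σ i) (A' σ (i + 1))) = qB' σ i := by
  haveI : Fact (i < 𝒟.n) := ⟨by omega⟩
  haveI : Fact (i + 1 < 𝒟.n) := ⟨h⟩
  haveI : (𝒜.qA (i + 1)).LiesOver (𝒜.qB i) := ⟨(𝒜.qStep i h).symm⟩
  rw [qA'_eq, qB'_eq]
  exact ((liesOver_loc (Submonoid.powers (σ.b i)) (Submonoid.powers (σ.aEl (i + 1)))
    (𝒜.qA (i + 1)) (disjoint_powers _ _ (σ.haEl (i + 1) h)) (𝒜.qB i)).over).symm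

theorem relDim_P (i : ℕ) (h : i < 𝒟.n) : FlatCA.SmoothRelDim (𝒜.d i) (Rg σ) (B' σ i) := by
  haveI : Fact (i < 𝒟.n) := ⟨h⟩
  obtain ⟨h1, h2, h3, h4, h5, h6, h7, h8, h9, h10⟩ := stepRing_P σ i
  exact h9

theorem locDim_P (i : ℕ) (h : i < 𝒟.n) :
    ∃ (x : PrimeSpectrum ((Ideal.map (algebraMap R (Rg σ)) p).Fiber (B' σ i)))
      (hx : x ∈ Module.support ((Ideal.map (algebraMap R (Rg σ)) p).Fiber (B' σ i))
        (FlatCA.fiberMod (Ideal.map (algebraMap R (Rg σ)) p) (B' σ i) (MPm σ i))),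
      x.asIdeal = FlatCA.fiberIdeal (Ideal.map (algebraMap R (Rg σ)) p) (qB' σ i) ∧
      FlatMor.localDim (Module.support ((Ideal.map (algebraMap R (Rg σ)) p).Fiber (B' σ i))
        (FlatCA.fiberMod (Ideal.map (algebraMap R (Rg σ)) p) (B' σ i) (MPm σ i))) ⟨x, hx⟩ =
          𝒜.d i := by
  haveI : Fact (i < 𝒟.n) := ⟨h⟩
  obtain ⟨h1, h2, h3, h4, h5, h6, h7, h8, h9, h10⟩ := stepRing_P σ i
  haveI := h1
  haveI := 𝒟.finiteBA i h
  haveI := finiteBA_P σ i h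
  haveI := 𝒟.finiteM i h
  haveI := finiteM_P σ i h
  rw [qB'_eq]
  exact stepDim (R := R) (R' := Rg σ) p σ.g σ.hg (B := 𝒟.B i) (A := 𝒟.A i) (B' := B' σ i)
    (A' := A' σ i) (σ.b i) (M := 𝒟.M i) (M' := MPm σ i) (gM' σ i) (𝒜.qB i) (σ.hb i h) (𝒜.d i)
    (𝒜.locDim i h)

/-- the shrunken datum at the point -/
noncomputable def mkA : FlatCA.CompleteDevissageAt (Rg σ) (Sx σ)
    (LocalizedModule (Submonoid.powers σ.hX) N) (Ideal.map (algebraMap R (Rg σ)) p)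
    (Ideal.map (algebraMap S (Sx σ)) q) (mkD σ) where
  qB := fun i => qB' σ i
  qA := fun i => qA' σ i
  hqB := fun i => hqB_P σ i
  hqA := fun i => hqA_P σ i
  overB := fun i => overB_P σ i
  overA := fun i => overA_P σ i
  pureTrans := fun i h => pureTrans_P σ i h
  uniq := fun i h Q hQp hQ => uniq_P σ i h Q hQp hQ
  q0 := q0_P σ
  qStep := fun i h => qStep_P σ i h
  d := 𝒜.d
  relDim := fun i h => relDim_P σ i h
  locDim := fun i h => locDim_P σ i h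

/-- the module structure over the localized base -/
noncomputable def modRgNx : Module (Rg σ) (LocalizedModule (Submonoid.powers σ.hX) N) :=
  Module.compHom _ (algebraMap (Rg σ) (Sx σ))

theorem towerRgSxNx :
    letI := modRgNx σ
    IsScalarTower (Rg σ) (Sx σ) (LocalizedModule (Submonoid.powers σ.hX) N) :=
  letI := modRgNx σ
  IsScalarTower.of_algebraMap_smul fun r x => rfl

theorem core :
      ∃ (_ : Algebra (Localization.Away σ.g) (Localization.Away σ.hX)) (_ : IsScalarTower R (Localization.Away σ.g) (Localization.Away σ.hX))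
        (_ : Module (Localization.Away σ.g) (LocalizedModule (Submonoid.powers σ.hX) N)) (_ : IsScalarTower (Localization.Away σ.g) (Localization.Away σ.hX) (LocalizedModule (Submonoid.powers σ.hX) N))
        (_ : (Ideal.map (algebraMap R (Localization.Away σ.g)) p).IsPrime) (_ : (Ideal.map (algebraMap S (Localization.Away σ.hX)) q).IsPrime)
        (𝒟' : FlatCA.CompleteDevissage (Localization.Away σ.g) (Localization.Away σ.hX) (LocalizedModule (Submonoid.powers σ.hX) N) (Ideal.map (algebraMap R (Localization.Away σ.g)) p))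
        (𝒜' : FlatCA.CompleteDevissageAt (Localization.Away σ.g) (Localization.Away σ.hX) (LocalizedModule (Submonoid.powers σ.hX) N) (Ideal.map (algebraMap R (Localization.Away σ.g)) p) (Ideal.map (algebraMap S (Localization.Away σ.hX)) q) 𝒟')
      (aA : ∀ i : Fin 𝒟.n, Algebra (𝒟.A i) (𝒟'.A i)) (rA : ∀ i : Fin 𝒟.n, Algebra R (𝒟'.A i))
      (_t1 : ∀ i : Fin 𝒟.n, IsScalarTower R (Localization.Away σ.g) (𝒟'.A i)) (_t2 : ∀ i : Fin 𝒟.n, IsScalarTower R (𝒟.A i) (𝒟'.A i))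
      (aB : ∀ i : Fin 𝒟.n, Algebra (𝒟.B i) (𝒟'.B i)) (rB : ∀ i : Fin 𝒟.n, Algebra R (𝒟'.B i))
      (_t3 : ∀ i : Fin 𝒟.n, IsScalarTower R (Localization.Away σ.g) (𝒟'.B i)) (_t4 : ∀ i : Fin 𝒟.n, IsScalarTower R (𝒟.B i) (𝒟'.B i))
      (bA : ∀ i : Fin 𝒟.n, Algebra (𝒟.B i) (𝒟'.A i)) (_t5 : ∀ i : Fin 𝒟.n, IsScalarTower (𝒟.B i) (𝒟.A i) (𝒟'.A i))
      (_t6 : ∀ i : Fin 𝒟.n, IsScalarTower (𝒟.B i) (𝒟'.B i) (𝒟'.A i))
      (bA' : ∀ i : Fin 𝒟.n, Algebra (𝒟.B i) (𝒟'.A (i + 1)))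
      (_t7 : ∀ i : Fin 𝒟.n, IsScalarTower (𝒟.B i) (𝒟'.B i) (𝒟'.A (i + 1)))
      (sA : Algebra S (𝒟'.A 0)) (_t8 : IsScalarTower S (Localization.Away σ.hX) (𝒟'.A 0))
      (mA : ∀ i : Fin 𝒟.n, Module (𝒟.A i) (𝒟'.M i)) (_t9 : ∀ i : Fin 𝒟.n, IsScalarTower (𝒟.A i) (𝒟'.A i) (𝒟'.M i))
      (gM : ∀ i : Fin 𝒟.n, 𝒟.M i →ₗ[𝒟.A i] 𝒟'.M i),
        𝒟'.n = 𝒟.n ∧ 𝒟'.r = 𝒟.r ∧ 𝒜'.d = 𝒜.d ∧
        (letI := aA ⟨0, 𝒟.pos⟩; IsScalarTower S (𝒟.A 0) (𝒟'.A 0)) ∧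
      (∀ x : N, 𝒟'.isoN (LocalizedModule.mkLinearMap (Submonoid.powers σ.hX) N x) = gM ⟨0, 𝒟.pos⟩ (𝒟.isoN x)) ∧
      (∀ (i : Fin 𝒟.n) (h : (i : ℕ) + 1 < 𝒟.n),
        letI := aA ⟨i + 1, h⟩; IsScalarTower (𝒟.B i) (𝒟.A (i + 1)) (𝒟'.A (i + 1))) ∧
        ∀ i : Fin 𝒟.n,
          σ.aEl i ∉ 𝒜.qA i ∧ σ.b i ∉ 𝒜.qB i ∧
          IsLocalization.Away (σ.aEl i) (𝒟'.A i) ∧ IsLocalization.Away (σ.b i) (𝒟'.B i) ∧
          IsLocalizedModule (Submonoid.powers (σ.aEl i)) (gM i) ∧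
          (𝒜'.qA i).LiesOver (𝒜.qA i) ∧ (𝒜'.qB i).LiesOver (𝒜.qB i) ∧
          LinearMap.range (𝒟'.α i) =
            Submodule.span (𝒟'.B i) ((gM i) '' (LinearMap.range (𝒟.α i) : Set (𝒟.M i)))
  := by
  refine ⟨algRgSx σ, towerRRgSx σ, modRgNx σ, towerRgSxNx σ, pRg_isPrime σ, qSx_isPrime σ,
    mkD σ, mkA σ,
    fun i => (haveI : Fact ((i : ℕ) < 𝒟.n) := ⟨i.2⟩;
      (inferInstance : Algebra (𝒟.A i) (A' σ i))),
    fun i => (inferInstance : Algebra R (A' σ i)),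
    fun i => (inferInstance : IsScalarTower R (Rg σ) (A' σ i)),
    fun i => (haveI : Fact ((i : ℕ) < 𝒟.n) := ⟨i.2⟩;
      (inferInstance : IsScalarTower R (𝒟.A i) (A' σ i))),
    fun i => (haveI : Fact ((i : ℕ) < 𝒟.n) := ⟨i.2⟩;
      (inferInstance : Algebra (𝒟.B i) (B' σ i))),
    fun i => (inferInstance : Algebra R (B' σ i)),
    fun i => (inferInstance : IsScalarTower R (Rg σ) (B' σ i)),
    fun i => (haveI : Fact ((i : ℕ) < 𝒟.n) := ⟨i.2⟩;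
      (inferInstance : IsScalarTower R (𝒟.B i) (B' σ i))),
    fun i => (haveI : Fact ((i : ℕ) < 𝒟.n) := ⟨i.2⟩;
      (inferInstance : Algebra (𝒟.B i) (A' σ i))),
    fun i => (haveI : Fact ((i : ℕ) < 𝒟.n) := ⟨i.2⟩;
      (inferInstance : IsScalarTower (𝒟.B i) (𝒟.A i) (A' σ i))),
    fun i => (haveI : Fact ((i : ℕ) < 𝒟.n) := ⟨i.2⟩;
      (inferInstance : IsScalarTower (𝒟.B i) (B' σ i) (A' σ i))),
    fun i => (haveI : Fact ((i : ℕ) < 𝒟.n) := ⟨i.2⟩;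
      (inferInstance : Algebra (𝒟.B i) (A' σ (i + 1)))),
    fun i => (haveI : Fact ((i : ℕ) < 𝒟.n) := ⟨i.2⟩;
      (inferInstance : IsScalarTower (𝒟.B i) (B' σ i) (A' σ (i + 1)))),
    (inferInstance : Algebra S (A' σ 0)),
    (inferInstance : IsScalarTower S (Sx σ) (A' σ 0)),
    fun i => (haveI : Fact ((i : ℕ) < 𝒟.n) := ⟨i.2⟩;
      (inferInstance : Module (𝒟.A i) (MPm σ i))),
    fun i => (haveI : Fact ((i : ℕ) < 𝒟.n) := ⟨i.2⟩;
      (inferInstance : IsScalarTower (𝒟.A i) (A' σ i) (MPm σ i))),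
    fun i => (haveI : Fact ((i : ℕ) < 𝒟.n) := ⟨i.2⟩; gM' σ i), ?_⟩
  refine ⟨rfl, rfl, rfl, ?_, ?_, ?_, ?_⟩
  · exact (inferInstance : IsScalarTower S (𝒟.A 0) (A' σ 0))
  · intro x
    exact mkD_isoN σ x
  · intro i h
    haveI : Fact ((i : ℕ) < 𝒟.n) := ⟨i.2⟩
    haveI : Fact ((i : ℕ) + 1 < 𝒟.n) := ⟨h⟩
    exact (inferInstance : IsScalarTower (𝒟.B i) (𝒟.A (i + 1)) (A' σ (i + 1)))
  · intro i
    haveI : Fact ((i : ℕ) < 𝒟.n) := ⟨i.2⟩
    obtain ⟨h1, h2, h3, h4, h5, h6, h7, h8, h9, h10⟩ := stepRing_P σ i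
    refine ⟨σ.haEl i i.2, σ.hb i i.2, (inferInstance : IsLocalization.Away (σ.aEl i) (A' σ i)),
      (inferInstance : IsLocalization.Away (σ.b i) (B' σ i)),
      (inferInstance : IsLocalizedModule (Submonoid.powers (σ.aEl i)) (gM' σ i)), ?_, ?_,
      range_alphaP σ i⟩
    · show (qA' σ i).LiesOver (𝒜.qA i)
      rw [qA'_eq]
      exact h6
    · show (qB' σ i).LiesOver (𝒜.qB i)
      rw [qB'_eq]
      exact h5

end Main

end Groth.Agent.Lib.Helper24.CDevSh
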