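import Mathlib
import Groth.Prelude.Def_FlatCA
import Groth.Prelude.Def_Flat
import Groth.Agent.Lib.Helper24.CDevShMain

/-!
# Standard shrinking of a complete dévissage: the choice of the elements
-/

set_option autoImplicit false
set_option maxHeartbeats 1600000
set_option linter.style.haveILetI false
set_option linter.unusedSectionVars false
set_option linter.unusedVariables false

universe u

namespace Groth.Agent.Lib.Helper24.CDevSh

open TensorProduct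
open Groth.Agent.Lib.Helper24.Shrink

section Elem

variable {R S : Type u} [CommRing R] [CommRing S] [Algebra R S]
  {N : Type u} [AddCommGroup N] [Module S N] {p : Ideal R} [p.IsPrime] {q : Ideal S} [q.IsPrime]
  (𝒟 : FlatCA.CompleteDevissage R S N p) (𝒜 : FlatCA.CompleteDevissageAt R S N p q 𝒟)

attribute [local instance] FlatCA.CompleteDevissageAt.hqB FlatCA.CompleteDevissageAt.hqA
  FlatCA.CompleteDevissageAt.overB FlatCA.CompleteDevissageAt.overA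

theorem algebraMap_g_not_mem (g : R) (hg : g ∉ p) (i : ℕ) :
    algebraMap R (𝒟.B i) g ∉ 𝒜.qB i :=
  fun hm => hg ((Ideal.mem_of_liesOver (𝒜.qB i) p g).mpr hm)

/-- packaging an exact chain of elements into the data of a standard shrinking -/
theorem exists_shData (b₀ : ∀ i, 𝒟.B i) (x₀ : S)
    (hb₀ : ∀ i, i < 𝒟.n → b₀ i ∉ 𝒜.qB i)
    (hc₀ : ∀ i, i + 1 < 𝒟.n → algebraMap (𝒟.B i) (𝒟.A (i + 1)) (b₀ i) =
      algebraMap (𝒟.B (i + 1)) (𝒟.A (i + 1)) (b₀ (i + 1)))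
    (hx₀ : algebraMap S (𝒟.A 0) x₀ = algebraMap (𝒟.B 0) (𝒟.A 0) (b₀ 0)) :
    ∃ σ : ShData 𝒟 𝒜, σ.hX = algebraMap R S σ.g * x₀ ∧
      ∀ i, σ.b i = algebraMap R (𝒟.B i) σ.g * b₀ i := by
  classical
  have key : ∀ i : ℕ, ∃ gi : R, gi ∉ p ∧ (i < 𝒟.n → ∀ P : Ideal R, P.IsPrime → gi ∉ P →
      ∃ Q : Ideal (𝒟.B i), Q.IsPrime ∧ b₀ i ∉ Q ∧ Q.comap (algebraMap R (𝒟.B i)) = P) := by
    intro i
    by_cases h : i < 𝒟.n
    · obtain ⟨gi, hgi, H⟩ := exists_g_image (𝒜.d i) (𝒜.relDim i h) p (𝒜.qB i) (b₀ i) (hb₀ i h)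
      exact ⟨gi, hgi, fun _ => H⟩
    · exact ⟨1, (Ideal.ne_top_iff_one p).mp (Ideal.IsPrime.ne_top inferInstance),
        fun h' => absurd h' h⟩
  choose gi hgi Hgi using key
  obtain ⟨g, hgdef⟩ : ∃ g, g = ∏ i ∈ Finset.range 𝒟.n, gi i := ⟨_, rfl⟩
  have hg : g ∉ p := by
    intro hm
    rw [hgdef, Ideal.IsPrime.prod_mem_iff] at hm
    obtain ⟨i, _, hi⟩ := hm
    exact hgi i hi
  have hgP : ∀ i, i < 𝒟.n → ∀ P : Ideal R, g ∉ P → gi i ∉ P := by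
    intro i hi P hgP hm
    apply hgP
    obtain ⟨c, hc⟩ := Finset.dvd_prod_of_mem gi (Finset.mem_range.mpr hi)
    rw [hgdef, hc]
    exact Ideal.mul_mem_right _ _ hm
  refine ⟨{ g := g
            hX := algebraMap R S g * x₀
            b := fun i => algebraMap R (𝒟.B i) g * b₀ i
            hg := hg
            hb := ?_
            hgb := fun i => dvd_mul_right _ _
            hX1 := ?_
            hX0 := ?_
            hgX := dvd_mul_right _ _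
            himg := ?_ }, rfl, fun i => rfl⟩
  · intro i hi hm
    rcases (Ideal.IsPrime.mem_or_mem inferInstance hm) with h | h
    · exact algebraMap_g_not_mem 𝒟 𝒜 g hg i h
    · exact hb₀ i hi h
  · intro i hi
    rw [map_mul, map_mul, ← IsScalarTower.algebraMap_apply R (𝒟.B i) (𝒟.A (i + 1)),
      ← IsScalarTower.algebraMap_apply R (𝒟.B (i + 1)) (𝒟.A (i + 1)), hc₀ i hi]
  · rw [map_mul, map_mul, ← IsScalarTower.algebraMap_apply R S (𝒟.A 0),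
      ← IsScalarTower.algebraMap_apply R (𝒟.B 0) (𝒟.A 0), hx₀]
  · intro i hi P hP hgPn
    obtain ⟨Q, hQ, hbQ, hQP⟩ := Hgi i hi P hP (hgP i hi P hgPn)
    refine ⟨Q, hQ, ?_, hQP⟩
    intro hm
    rcases (Ideal.IsPrime.mem_or_mem hQ hm) with h | h
    · apply hgPn
      rw [← hQP]
      exact h
    · exact hbQ h

/-- the chain of elements below a given element of the last smooth algebra -/
theorem chain_last (w : 𝒟.B (𝒟.n - 1)) (hw : w ∉ 𝒜.qB (𝒟.n - 1)) :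
    ∀ k i, i + k + 1 = 𝒟.n → ∃ b : ∀ j, 𝒟.B j, b (𝒟.n - 1) = w ∧
      (∀ j, i ≤ j → j < 𝒟.n → b j ∉ 𝒜.qB j) ∧
      (∀ j, i ≤ j → j + 1 < 𝒟.n → algebraMap (𝒟.B j) (𝒟.A (j + 1)) (b j) =
        algebraMap (𝒟.B (j + 1)) (𝒟.A (j + 1)) (b (j + 1))) := by
  classical
  intro k
  induction k with
  | zero =>
    intro i hi
    refine ⟨Function.update (fun j => (1 : 𝒟.B j)) (𝒟.n - 1) w, Function.update_self _ _ _, ?_, ?_⟩
    · intro j hj hjn
      have hj' : j = 𝒟.n - 1 := by omega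
      subst hj'
      rw [Function.update_self]
      exact hw
    · intro j hj hjn
      omega
  | succ k ih =>
    intro i hi
    have h1 : i + 1 < 𝒟.n := by omega
    obtain ⟨b, hbw, hbq, hbc⟩ := ih (i + 1) (by omega)
    obtain ⟨c, hc⟩ := 𝒟.surjBA' i h1 (algebraMap (𝒟.B (i + 1)) (𝒟.A (i + 1)) (b (i + 1)))
    have hcq : c ∉ 𝒜.qB i := by
      intro hm
      rw [← 𝒜.qStep i h1, Ideal.mem_comap, hc] at hm
      exact hbq (i + 1) le_rfl h1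
        ((Ideal.mem_of_liesOver (𝒜.qA (i + 1)) (𝒜.qB (i + 1)) _).mpr hm)
    refine ⟨Function.update b i c, ?_, ?_, ?_⟩
    · rw [Function.update_of_ne (by omega : 𝒟.n - 1 ≠ i)]
      exact hbw
    · intro j hj hjn
      by_cases hji : j = i
      · subst hji
        rw [Function.update_self]
        exact hcq
      · rw [Function.update_of_ne hji]
        exact hbq j (by omega) hjn
    · intro j hj hjn
      by_cases hji : j = i
      · subst hji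
        rw [Function.update_self, Function.update_of_ne (by omega : j + 1 ≠ j)]
        exact hc
      · rw [Function.update_of_ne hji, Function.update_of_ne (by omega : j + 1 ≠ i)]
        exact hbc j (by omega) hjn

/-- the chain of elements inside a given principal open -/
theorem chain_inside :
    ∀ k i, i + k + 1 = 𝒟.n → ∀ w : 𝒟.A i, w ∉ 𝒜.qA i → ∃ (b : ∀ j, 𝒟.B j) (c : 𝒟.A i),
      (∀ j, i ≤ j → j < 𝒟.n → b j ∉ 𝒜.qB j) ∧
      (∀ j, i ≤ j → j + 1 < 𝒟.n → algebraMap (𝒟.B j) (𝒟.A (j + 1)) (b j) =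
        algebraMap (𝒟.B (j + 1)) (𝒟.A (j + 1)) (b (j + 1))) ∧
      algebraMap (𝒟.B i) (𝒟.A i) (b i) = w * c := by
  classical
  intro k
  induction k with
  | zero =>
    intro i hi w hw
    have hin : i < 𝒟.n := by omega
    haveI := 𝒟.finiteBA i hin
    obtain ⟨b₀, c, hb₀, hbc⟩ := exists_mul_of_finite (𝒜.qB i) (𝒜.qA i) (𝒜.uniq i hin) w hw
    refine ⟨Function.update (fun j => (1 : 𝒟.B j)) i b₀, c, ?_, ?_, ?_⟩
    · intro j hj hjn
      have hj' : j = i := by omega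
      subst hj'
      rw [Function.update_self]
      exact hb₀
    · intro j hj hjn
      omega
    · rw [Function.update_self]
      exact hbc
  | succ k ih =>
    intro i hi w hw
    have hin : i < 𝒟.n := by omega
    have h1 : i + 1 < 𝒟.n := by omega
    haveI := 𝒟.finiteBA i hin
    obtain ⟨b₀, c₀, hb₀, hbc₀⟩ := exists_mul_of_finite (𝒜.qB i) (𝒜.qA i) (𝒜.uniq i hin) w hw
    have hw' : algebraMap (𝒟.B i) (𝒟.A (i + 1)) b₀ ∉ 𝒜.qA (i + 1) := by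
      intro hm
      apply hb₀
      rw [← 𝒜.qStep i h1, Ideal.mem_comap]
      exact hm
    obtain ⟨b, c', hbq, hbch, hbw⟩ := ih (i + 1) (by omega) _ hw'
    obtain ⟨s, hs⟩ := 𝒟.surjBA' i h1 c'
    have hb1 : algebraMap (𝒟.B (i + 1)) (𝒟.A (i + 1)) (b (i + 1)) ∉ 𝒜.qA (i + 1) := fun hm =>
      hbq (i + 1) le_rfl h1 ((Ideal.mem_of_liesOver (𝒜.qA (i + 1)) (𝒜.qB (i + 1)) _).mpr hm)
    have hc' : c' ∉ 𝒜.qA (i + 1) := by
      intro hm
      apply hb1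
      rw [hbw]
      exact Ideal.mul_mem_left _ _ hm
    have hsq : s ∉ 𝒜.qB i := by
      intro hm
      rw [← 𝒜.qStep i h1, Ideal.mem_comap, hs] at hm
      exact hc' hm
    have hnew : b₀ * s ∉ 𝒜.qB i := by
      intro hm
      rcases (Ideal.IsPrime.mem_or_mem inferInstance hm) with h | h
      · exact hb₀ h
      · exact hsq h
    refine ⟨Function.update b i (b₀ * s), c₀ * algebraMap (𝒟.B i) (𝒟.A i) s, ?_, ?_, ?_⟩
    · intro j hj hjn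
      by_cases hji : j = i
      · subst hji
        rw [Function.update_self]
        exact hnew
      · rw [Function.update_of_ne hji]
        exact hbq j (by omega) hjn
    · intro j hj hjn
      by_cases hji : j = i
      · subst hji
        rw [Function.update_self, Function.update_of_ne (by omega : j + 1 ≠ j), map_mul, hs, hbw]
      · rw [Function.update_of_ne hji, Function.update_of_ne (by omega : j + 1 ≠ i)]
        exact hbch j (by omega) hjn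
    · rw [Function.update_self, map_mul, hbc₀, mul_assoc]

end Elem

open FlatMor

open TensorProduct in
theorem main46
    (R S : Type u) [CommRing R] [CommRing S] [Algebra R S] [Algebra.FiniteType R S]
    (N : Type u) [AddCommGroup N] [Module S N] [Module.Finite S N]
    (p : Ideal R) [p.IsPrime] (q : Ideal S) [q.IsPrime] (𝒟 : FlatCA.CompleteDevissage R S N p)
    (𝒜 : FlatCA.CompleteDevissageAt R S N p q 𝒟)
    (u : S) (hu : u ∉ q) :
    ∃ (g : R) (hX : S), g ∉ p ∧ hX ∉ q ∧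
      IsUnit (algebraMap S (Localization.Away hX) u) ∧
      ∃ (_ : Algebra (Localization.Away g) (Localization.Away hX)) (_ : IsScalarTower R (Localization.Away g) (Localization.Away hX))
        (_ : Module (Localization.Away g) (LocalizedModule (Submonoid.powers hX) N)) (_ : IsScalarTower (Localization.Away g) (Localization.Away hX) (LocalizedModule (Submonoid.powers hX) N))
        (_ : (Ideal.map (algebraMap R (Localization.Away g)) p).IsPrime) (_ : (Ideal.map (algebraMap S (Localization.Away hX)) q).IsPrime)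
        (𝒟' : FlatCA.CompleteDevissage (Localization.Away g) (Localization.Away hX) (LocalizedModule (Submonoid.powers hX) N) (Ideal.map (algebraMap R (Localization.Away g)) p))
        (𝒜' : FlatCA.CompleteDevissageAt (Localization.Away g) (Localization.Away hX) (LocalizedModule (Submonoid.powers hX) N) (Ideal.map (algebraMap R (Localization.Away g)) p) (Ideal.map (algebraMap S (Localization.Away hX)) q) 𝒟')
        (a : ∀ i : Fin 𝒟.n, 𝒟.A i) (b : ∀ i : Fin 𝒟.n, 𝒟.B i)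
      (aA : ∀ i : Fin 𝒟.n, Algebra (𝒟.A i) (𝒟'.A i)) (rA : ∀ i : Fin 𝒟.n, Algebra R (𝒟'.A i))
      (_t1 : ∀ i : Fin 𝒟.n, IsScalarTower R (Localization.Away g) (𝒟'.A i)) (_t2 : ∀ i : Fin 𝒟.n, IsScalarTower R (𝒟.A i) (𝒟'.A i))
      (aB : ∀ i : Fin 𝒟.n, Algebra (𝒟.B i) (𝒟'.B i)) (rB : ∀ i : Fin 𝒟.n, Algebra R (𝒟'.B i))
      (_t3 : ∀ i : Fin 𝒟.n, IsScalarTower R (Localization.Away g) (𝒟'.B i)) (_t4 : ∀ i : Fin 𝒟.n, IsScalarTower R (𝒟.B i) (𝒟'.B i))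
      (bA : ∀ i : Fin 𝒟.n, Algebra (𝒟.B i) (𝒟'.A i)) (_t5 : ∀ i : Fin 𝒟.n, IsScalarTower (𝒟.B i) (𝒟.A i) (𝒟'.A i))
      (_t6 : ∀ i : Fin 𝒟.n, IsScalarTower (𝒟.B i) (𝒟'.B i) (𝒟'.A i))
      (bA' : ∀ i : Fin 𝒟.n, Algebra (𝒟.B i) (𝒟'.A (i + 1)))
      (_t7 : ∀ i : Fin 𝒟.n, IsScalarTower (𝒟.B i) (𝒟'.B i) (𝒟'.A (i + 1)))
      (sA : Algebra S (𝒟'.A 0)) (_t8 : IsScalarTower S (Localization.Away hX) (𝒟'.A 0))
      (mA : ∀ i : Fin 𝒟.n, Module (𝒟.A i) (𝒟'.M i)) (_t9 : ∀ i : Fin 𝒟.n, IsScalarTower (𝒟.A i) (𝒟'.A i) (𝒟'.M i))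
      (gM : ∀ i : Fin 𝒟.n, 𝒟.M i →ₗ[𝒟.A i] 𝒟'.M i),
        𝒟'.n = 𝒟.n ∧ 𝒟'.r = 𝒟.r ∧ 𝒜'.d = 𝒜.d ∧
        (letI := aA ⟨0, 𝒟.pos⟩; IsScalarTower S (𝒟.A 0) (𝒟'.A 0)) ∧
      (∀ x : N, 𝒟'.isoN (LocalizedModule.mkLinearMap (Submonoid.powers hX) N x) = gM ⟨0, 𝒟.pos⟩ (𝒟.isoN x)) ∧
      (∀ (i : Fin 𝒟.n) (h : (i : ℕ) + 1 < 𝒟.n),
        letI := aA ⟨i + 1, h⟩; IsScalarTower (𝒟.B i) (𝒟.A (i + 1)) (𝒟'.A (i + 1))) ∧
        ∀ i : Fin 𝒟.n,
          a i ∉ 𝒜.qA i ∧ b i ∉ 𝒜.qB i ∧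
          IsLocalization.Away (a i) (𝒟'.A i) ∧ IsLocalization.Away (b i) (𝒟'.B i) ∧
          IsLocalizedModule (Submonoid.powers (a i)) (gM i) ∧
          (𝒜'.qA i).LiesOver (𝒜.qA i) ∧ (𝒜'.qB i).LiesOver (𝒜.qB i) ∧
          LinearMap.range (𝒟'.α i) =
            Submodule.span (𝒟'.B i) ((gM i) '' (LinearMap.range (𝒟.α i) : Set (𝒟.M i))) := by
  classical
  haveI := 𝒜.hqB
  haveI := 𝒜.hqA
  haveI := 𝒜.overB
  haveI := 𝒜.overA
  have hw : algebraMap S (𝒟.A 0) u ∉ 𝒜.qA 0 := by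
    intro hm
    apply hu
    rw [← 𝒜.q0, Ideal.mem_comap]
    exact hm
  obtain ⟨b, c, hbq, hbc, hbw⟩ := chain_inside 𝒟 𝒜 (𝒟.n - 1) 0
    (by have := 𝒟.pos; omega) _ hw
  obtain ⟨s, hs⟩ := 𝒟.surjSA c
  obtain ⟨σ, hσX, hσb⟩ := exists_shData 𝒟 𝒜 b (u * s) (fun i h => hbq i (Nat.zero_le i) h)
    (fun i h => hbc i (Nat.zero_le i) h) (by rw [map_mul, hs, hbw])
  have hunit : IsUnit (algebraMap S (Localization.Away σ.hX) u) := by
    refine isUnit_of_dvd_unit (map_dvd _ ?_) (IsLocalization.Away.algebraMap_isUnit σ.hX)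
    rw [hσX]
    exact dvd_mul_of_dvd_right (dvd_mul_right u s) _
  obtain ⟨i1, i2, i3, i4, i5, i6, 𝒟', 𝒜', aA, rA, t1, t2, aB, rB, t3, t4, bA, t5, t6, bA', t7,
    sA, t8, mA, t9, gM, h1, h2, h3, h4, h5, h6, h7⟩ := core σ
  exact ⟨σ.g, σ.hX, σ.hg, σ.hXq, hunit, i1, i2, i3, i4, i5, i6, 𝒟', 𝒜', fun i => σ.aEl i,
    fun i => σ.b i, aA, rA, t1, t2, aB, rB, t3, t4, bA, t5, t6, bA', t7, sA, t8, mA, t9, gM,
    h1, h2, h3, h4, h5, h6, h7⟩

open TensorProduct in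
theorem main47
    (R S : Type u) [CommRing R] [CommRing S] [Algebra R S] [Algebra.FiniteType R S]
    (N : Type u) [AddCommGroup N] [Module S N] [Module.Finite S N]
    (p : Ideal R) [p.IsPrime] (q : Ideal S) [q.IsPrime] (𝒟 : FlatCA.CompleteDevissage R S N p)
    (𝒜 : FlatCA.CompleteDevissageAt R S N p q 𝒟)
    (w : 𝒟.B (𝒟.n - 1)) (hw : w ∉ 𝒜.qB (𝒟.n - 1)) :
    ∃ (g : R) (hX : S), g ∉ p ∧ hX ∉ q ∧
      ∃ (_ : Algebra (Localization.Away g) (Localization.Away hX)) (_ : IsScalarTower R (Localization.Away g) (Localization.Away hX))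
        (_ : Module (Localization.Away g) (LocalizedModule (Submonoid.powers hX) N)) (_ : IsScalarTower (Localization.Away g) (Localization.Away hX) (LocalizedModule (Submonoid.powers hX) N))
        (_ : (Ideal.map (algebraMap R (Localization.Away g)) p).IsPrime) (_ : (Ideal.map (algebraMap S (Localization.Away hX)) q).IsPrime)
        (𝒟' : FlatCA.CompleteDevissage (Localization.Away g) (Localization.Away hX) (LocalizedModule (Submonoid.powers hX) N) (Ideal.map (algebraMap R (Localization.Away g)) p))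
        (𝒜' : FlatCA.CompleteDevissageAt (Localization.Away g) (Localization.Away hX) (LocalizedModule (Submonoid.powers hX) N) (Ideal.map (algebraMap R (Localization.Away g)) p) (Ideal.map (algebraMap S (Localization.Away hX)) q) 𝒟')
        (a : ∀ i : Fin 𝒟.n, 𝒟.A i) (b : ∀ i : Fin 𝒟.n, 𝒟.B i)
      (aA : ∀ i : Fin 𝒟.n, Algebra (𝒟.A i) (𝒟'.A i)) (rA : ∀ i : Fin 𝒟.n, Algebra R (𝒟'.A i))
      (_t1 : ∀ i : Fin 𝒟.n, IsScalarTower R (Localization.Away g) (𝒟'.A i)) (_t2 : ∀ i : Fin 𝒟.n, IsScalarTower R (𝒟.A i) (𝒟'.A i))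
      (aB : ∀ i : Fin 𝒟.n, Algebra (𝒟.B i) (𝒟'.B i)) (rB : ∀ i : Fin 𝒟.n, Algebra R (𝒟'.B i))
      (_t3 : ∀ i : Fin 𝒟.n, IsScalarTower R (Localization.Away g) (𝒟'.B i)) (_t4 : ∀ i : Fin 𝒟.n, IsScalarTower R (𝒟.B i) (𝒟'.B i))
      (bA : ∀ i : Fin 𝒟.n, Algebra (𝒟.B i) (𝒟'.A i)) (_t5 : ∀ i : Fin 𝒟.n, IsScalarTower (𝒟.B i) (𝒟.A i) (𝒟'.A i))
      (_t6 : ∀ i : Fin 𝒟.n, IsScalarTower (𝒟.B i) (𝒟'.B i) (𝒟'.A i))
      (bA' : ∀ i : Fin 𝒟.n, Algebra (𝒟.B i) (𝒟'.A (i + 1)))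
      (_t7 : ∀ i : Fin 𝒟.n, IsScalarTower (𝒟.B i) (𝒟'.B i) (𝒟'.A (i + 1)))
      (sA : Algebra S (𝒟'.A 0)) (_t8 : IsScalarTower S (Localization.Away hX) (𝒟'.A 0))
      (mA : ∀ i : Fin 𝒟.n, Module (𝒟.A i) (𝒟'.M i)) (_t9 : ∀ i : Fin 𝒟.n, IsScalarTower (𝒟.A i) (𝒟'.A i) (𝒟'.M i))
      (gM : ∀ i : Fin 𝒟.n, 𝒟.M i →ₗ[𝒟.A i] 𝒟'.M i),
        𝒟'.n = 𝒟.n ∧ 𝒟'.r = 𝒟.r ∧ 𝒜'.d = 𝒜.d ∧
        (letI := aA ⟨0, 𝒟.pos⟩; IsScalarTower S (𝒟.A 0) (𝒟'.A 0)) ∧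
      (∀ x : N, 𝒟'.isoN (LocalizedModule.mkLinearMap (Submonoid.powers hX) N x) = gM ⟨0, 𝒟.pos⟩ (𝒟.isoN x)) ∧
      (∀ (i : Fin 𝒟.n) (h : (i : ℕ) + 1 < 𝒟.n),
        letI := aA ⟨i + 1, h⟩; IsScalarTower (𝒟.B i) (𝒟.A (i + 1)) (𝒟'.A (i + 1))) ∧
        b ⟨𝒟.n - 1, Nat.sub_one_lt_of_lt 𝒟.pos⟩ = w * algebraMap R (𝒟.B (𝒟.n - 1)) g ∧
        ∀ i : Fin 𝒟.n,
          a i ∉ 𝒜.qA i ∧ b i ∉ 𝒜.qB i ∧
          IsLocalization.Away (a i) (𝒟'.A i) ∧ IsLocalization.Away (b i) (𝒟'.B i) ∧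
          IsLocalizedModule (Submonoid.powers (a i)) (gM i) ∧
          (𝒜'.qA i).LiesOver (𝒜.qA i) ∧ (𝒜'.qB i).LiesOver (𝒜.qB i) ∧
          LinearMap.range (𝒟'.α i) =
            Submodule.span (𝒟'.B i) ((gM i) '' (LinearMap.range (𝒟.α i) : Set (𝒟.M i))) := by
  classical
  haveI := 𝒜.hqB
  haveI := 𝒜.hqA
  haveI := 𝒜.overB
  haveI := 𝒜.overA
  obtain ⟨b, hbw, hbq, hbc⟩ := chain_last 𝒟 𝒜 w hw (𝒟.n - 1) 0 (by have := 𝒟.pos; omega)
  obtain ⟨x, hx⟩ := 𝒟.surjSA (algebraMap (𝒟.B 0) (𝒟.A 0) (b 0))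
  obtain ⟨σ, hσX, hσb⟩ := exists_shData 𝒟 𝒜 b x (fun i h => hbq i (Nat.zero_le i) h)
    (fun i h => hbc i (Nat.zero_le i) h) hx
  have hlast : σ.b (𝒟.n - 1) = w * algebraMap R (𝒟.B (𝒟.n - 1)) σ.g := by
    rw [hσb, hbw, mul_comm]
  obtain ⟨i1, i2, i3, i4, i5, i6, 𝒟', 𝒜', aA, rA, t1, t2, aB, rB, t3, t4, bA, t5, t6, bA', t7,
    sA, t8, mA, t9, gM, h1, h2, h3, h4, h5, h6, h7⟩ := core σ
  exact ⟨σ.g, σ.hX, σ.hg, σ.hXq, i1, i2, i3, i4, i5, i6, 𝒟', 𝒜', fun i => σ.aEl i,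
    fun i => σ.b i, aA, rA, t1, t2, aB, rB, t3, t4, bA, t5, t6, bA', t7, sA, t8, mA, t9, gM,
    h1, h2, h3, h4, h5, h6, hlast, h7⟩

end Groth.Agent.Lib.Helper24.CDevSh
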