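import Mathlib

/-!
# Fibrewise nilpotent families of endomorphisms of a finitely presented module

Let `M` be a finitely presented `A`-module and `T i` finitely many endomorphisms.  If there is a `c`
such that every word of length `c` in the `T i` vanishes in every fibre `κ(p) ⊗ M`, then there is an
`N` such that every word of length `N` vanishes.
-/

set_option autoImplicit false
set_option maxHeartbeats 400000
set_option linter.style.haveILetI false

universe u

namespace Groth.Agent.Lib.Helper24.FibNil

section basic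

variable {A : Type*} [CommRing A] {M : Type*} [AddCommGroup M] [Module A M] {n : ℕ}

/-- The composite of the endomorphisms `T i` along a word. -/
def op (T : Fin n → Module.End A M) (w : List (Fin n)) : Module.End A M := (w.map T).prod

theorem op_nil (T : Fin n → Module.End A M) : op T [] = 1 := by simp [op]

theorem op_cons (T : Fin n → Module.End A M) (i : Fin n) (w : List (Fin n)) :
    op T (i :: w) = T i * op T w := by simp [op]

theorem op_append (T : Fin n → Module.End A M) (w₁ w₂ : List (Fin n)) :
    op T (w₁ ++ w₂) = op T w₁ * op T w₂ := by simp [op]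

theorem op_nil_apply (T : Fin n → Module.End A M) (y : M) : op T [] y = y := by
  rw [op_nil]; rfl

theorem op_cons_apply (T : Fin n → Module.End A M) (i : Fin n) (w : List (Fin n)) (y : M) :
    op T (i :: w) y = T i (op T w y) := by
  rw [op_cons]; rfl

theorem op_append_apply (T : Fin n → Module.End A M) (w₁ w₂ : List (Fin n)) (y : M) :
    op T (w₁ ++ w₂) y = op T w₁ (op T w₂ y) := by
  rw [op_append]; rfl

/-- `y` vanishes in every fibre `κ(p) ⊗ M`. -/
def FibZero (A : Type*) [CommRing A] {M : Type*} [AddCommGroup M] [Module A M] (y : M) : Prop :=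
  ∀ p : Ideal A, p.IsPrime → ∃ s : A, s ∉ p ∧ s • y ∈ p • (⊤ : Submodule A M)

theorem map_mem_mul_smul (f : Module.End A M) (I I' : Ideal A)
    (hf : ∀ y, f y ∈ I • (⊤ : Submodule A M)) {z : M} (hz : z ∈ I' • (⊤ : Submodule A M)) :
    f z ∈ (I' * I) • (⊤ : Submodule A M) := by
  rw [Submodule.mul_smul]
  refine Submodule.smul_induction_on hz ?_ ?_
  · intro a ha y _
    rw [map_smul]
    exact Submodule.smul_mem_smul ha (hf y)
  · intro x y hx hy
    rw [map_add]
    exact add_mem hx hy

theorem op_mem_pow_smul (T : Fin n → Module.End A M) (I : Ideal A) (c : ℕ)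
    (h : ∀ w : List (Fin n), w.length = c → ∀ y, op T w y ∈ I • (⊤ : Submodule A M)) (j : ℕ) :
    ∀ w : List (Fin n), w.length = c * j → ∀ y, op T w y ∈ I ^ j • (⊤ : Submodule A M) := by
  induction j with
  | zero =>
    intro w _ y
    rw [pow_zero, Ideal.one_eq_top, Submodule.top_smul]
    exact Submodule.mem_top
  | succ j ih =>
    intro w hw y
    have h1 : w = w.take c ++ w.drop c := (List.take_append_drop c w).symm
    have h2 : (w.take c).length = c := by
      rw [List.length_take, hw]
      exact min_eq_left (Nat.le_mul_of_pos_right c (Nat.succ_pos j))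
    have h3 : (w.drop c).length = c * j := by
      rw [List.length_drop, hw, Nat.mul_succ]
      omega
    rw [h1, op_append_apply, pow_succ]
    exact map_mem_mul_smul _ _ _ (h _ h2) (ih _ h3 _)

/-- The ideal of scalars killing all words of length `N`. -/
def annI (T : Fin n → Module.End A M) (N : ℕ) : Ideal A where
  carrier := {a | ∀ w : List (Fin n), w.length = N → a • op T w = 0}
  add_mem' := fun {a b} ha hb w hw => by rw [add_smul, ha w hw, hb w hw, add_zero]
  zero_mem' := fun w _ => by rw [zero_smul]
  smul_mem' := fun c a ha w hw => by rw [smul_eq_mul, mul_smul, ha w hw, smul_zero]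

theorem mem_annI {T : Fin n → Module.End A M} {N : ℕ} {a : A} :
    a ∈ annI T N ↔ ∀ w : List (Fin n), w.length = N → a • op T w = 0 := Iff.rfl

theorem annI_succ_le (T : Fin n → Module.End A M) (N : ℕ) : annI T N ≤ annI T (N + 1) := by
  intro a ha
  rw [mem_annI] at ha ⊢
  intro w hw
  cases w with
  | nil => simp at hw
  | cons i w' =>
    rw [op_cons, ← mul_smul_comm, ha w' (by simpa using hw), mul_zero]

theorem annI_mono (T : Fin n → Module.End A M) {N N' : ℕ} (h : N ≤ N') :
    annI T N ≤ annI T N' := by
  induction h with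
  | refl => exact le_rfl
  | step _ ih => exact ih.trans (annI_succ_le T _)

theorem op_apply_eq_zero_of_mem_smul (T : Fin n → Module.End A M) {N : ℕ} {I : Ideal A}
    (hI : I ≤ annI T N) {w : List (Fin n)} (hw : w.length = N) {z : M}
    (hz : z ∈ I • (⊤ : Submodule A M)) : op T w z = 0 := by
  refine Submodule.smul_induction_on hz ?_ ?_
  · intro a ha y _
    have h1 : a • op T w = 0 := (mem_annI.mp (hI ha)) w hw
    rw [map_smul, ← LinearMap.smul_apply, h1, LinearMap.zero_apply]
  · intro x y hx hy
    rw [map_add, hx, hy, add_zero]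

theorem exists_coeff_of_mem_smul {m : ℕ} (x : Fin m → M)
    (hx : Submodule.span A (Set.range x) = ⊤) (I : Ideal A) {z : M}
    (hz : z ∈ I • (⊤ : Submodule A M)) :
    ∃ u : Fin m → A, (∀ i, u i ∈ I) ∧ ∑ i, u i • x i = z := by
  refine Submodule.smul_induction_on hz ?_ ?_
  · intro a ha y _
    have hy : y ∈ Submodule.span A (Set.range x) := by rw [hx]; exact Submodule.mem_top
    obtain ⟨b, rfl⟩ := (Submodule.mem_span_range_iff_exists_fun A).mp hy
    refine ⟨fun i => a * b i, fun i => I.mul_mem_right _ ha, ?_⟩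
    rw [Finset.smul_sum]
    exact Finset.sum_congr rfl (fun i _ => mul_smul _ _ _)
  · rintro y₁ y₂ ⟨u₁, hu₁, rfl⟩ ⟨u₂, hu₂, rfl⟩
    refine ⟨fun i => u₁ i + u₂ i, fun i => I.add_mem (hu₁ i) (hu₂ i), ?_⟩
    rw [← Finset.sum_add_distrib]
    exact Finset.sum_congr rfl (fun i _ => add_smul _ _ _)

theorem sum_smul_mem_smul {m : ℕ} (x : Fin m → M) (I : Ideal A) (u : Fin m → A)
    (hu : ∀ i, u i ∈ I) : ∑ i, u i • x i ∈ I • (⊤ : Submodule A M) :=
  Submodule.sum_mem _ (fun i _ => Submodule.smul_mem_smul (hu i) Submodule.mem_top)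

end basic

section loc

variable {A : Type u} [CommRing A] {M : Type u} [AddCommGroup M] [Module A M] (S : Submonoid A)

theorem mk_eq_smul_mk_one (y : M) (t : S) :
    (LocalizedModule.mk y t : LocalizedModule S M) =
      (Localization.mk 1 t : Localization S) • (LocalizedModule.mk y 1 : LocalizedModule S M) := by
  rw [LocalizedModule.mk_smul_mk, one_smul, mul_one]

theorem mk_mem_smul_top (p' : Ideal (Localization S)) {z : M} (t : S)
    (hz : z ∈ (p'.comap (algebraMap A (Localization S))) • (⊤ : Submodule A M)) :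
    (LocalizedModule.mk z t : LocalizedModule S M) ∈
      p' • (⊤ : Submodule (Localization S) (LocalizedModule S M)) := by
  rw [mk_eq_smul_mk_one]
  refine Submodule.smul_mem _ _ ?_
  have key : ∀ z' ∈ (p'.comap (algebraMap A (Localization S))) • (⊤ : Submodule A M),
      LocalizedModule.mkLinearMap S M z' ∈
        p' • (⊤ : Submodule (Localization S) (LocalizedModule S M)) := by
    intro z' hz'
    refine Submodule.smul_induction_on hz' ?_ ?_
    · intro a ha y _
      rw [map_smul, ← algebraMap_smul (Localization S) a (LocalizedModule.mkLinearMap S M y)]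
      exact Submodule.smul_mem_smul (Ideal.mem_comap.mp ha) Submodule.mem_top
    · intro y₁ y₂ h₁ h₂
      rw [map_add]; exact add_mem h₁ h₂
  have := key z hz
  rwa [LocalizedModule.mkLinearMap_apply] at this

theorem op_map_mk {n : ℕ} (T : Fin n → Module.End A M) (w : List (Fin n)) (y : M) (t : S) :
    op (fun i => LocalizedModule.map S (T i)) w (LocalizedModule.mk y t) =
      LocalizedModule.mk (op T w y) t := by
  induction w with
  | nil => rw [op_nil_apply, op_nil_apply]
  | cons i w ih => rw [op_cons_apply, ih, LocalizedModule.map_mk, op_cons_apply]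

theorem fibZero_localized {n : ℕ} (T : Fin n → Module.End A M) (w : List (Fin n))
    (h : ∀ y, FibZero A (op T w y)) :
    ∀ y', FibZero (Localization S) (op (fun i => LocalizedModule.map S (T i)) w y') := by
  intro y'
  refine LocalizedModule.induction_on
    (β := fun y' => FibZero (Localization S) (op (fun i => LocalizedModule.map S (T i)) w y'))
    (fun y t => ?_) y'
  intro p' hp'
  rw [op_map_mk]
  have hp : (p'.comap (algebraMap A (Localization S))).IsPrime := by
    haveI := hp'
    exact Ideal.comap_isPrime _ _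
  obtain ⟨s, hs, hmem⟩ := h y _ hp
  refine ⟨algebraMap A (Localization S) s, fun hs' => hs (Ideal.mem_comap.mpr hs'), ?_⟩
  rw [algebraMap_smul, LocalizedModule.smul'_mk]
  exact mk_mem_smul_top S p' t hmem

theorem span_mk_succAbove {m : ℕ} (x : Fin (m + 1) → M)
    (hx : Submodule.span A (Set.range x) = ⊤) (ρ : Fin (m + 1) → A)
    (hρ : ∑ i, ρ i • x i = 0) (i₀ : Fin (m + 1)) (hS : ρ i₀ ∈ S) :
    Submodule.span (Localization S) (Set.range (fun j : Fin m =>
      (LocalizedModule.mk (x (i₀.succAbove j)) 1 : LocalizedModule S M))) = ⊤ := by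
  have hgen : ∀ i, LocalizedModule.mkLinearMap S M (x i) ∈
      Submodule.span (Localization S) (Set.range (fun j : Fin m =>
        (LocalizedModule.mk (x (i₀.succAbove j)) 1 : LocalizedModule S M))) := by
    intro i
    rcases Fin.eq_self_or_eq_succAbove i₀ i with h | ⟨j, h⟩
    · rw [h]
      have hunit : IsUnit (algebraMap A (Localization S) (ρ i₀)) :=
        IsLocalization.map_units (Localization S) (⟨ρ i₀, hS⟩ : S)
      rw [← Submodule.smul_mem_iff_of_isUnit _ hunit, algebraMap_smul, ← map_smul]
      have hrel : ρ i₀ • x i₀ = - ∑ j, ρ (i₀.succAbove j) • x (i₀.succAbove j) := by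
        rw [Fin.sum_univ_succAbove _ i₀] at hρ
        exact eq_neg_of_add_eq_zero_left hρ
      rw [hrel, map_neg, map_sum]
      refine Submodule.neg_mem _ (Submodule.sum_mem _ (fun j _ => ?_))
      rw [map_smul, ← algebraMap_smul (Localization S) (ρ (i₀.succAbove j))
        (LocalizedModule.mkLinearMap S M (x (i₀.succAbove j)))]
      exact Submodule.smul_mem _ _ (Submodule.subset_span ⟨j, rfl⟩)
    · rw [h]; exact Submodule.subset_span ⟨j, rfl⟩
  rw [eq_top_iff]
  rintro y' -
  refine LocalizedModule.induction_on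
    (β := fun y' => y' ∈ Submodule.span (Localization S) (Set.range (fun j : Fin m =>
      (LocalizedModule.mk (x (i₀.succAbove j)) 1 : LocalizedModule S M))))
    (fun y t => ?_) y'
  rw [mk_eq_smul_mk_one]
  refine Submodule.smul_mem _ _ ?_
  have hy : y ∈ Submodule.span A (Set.range x) := by rw [hx]; exact Submodule.mem_top
  obtain ⟨b, rfl⟩ := (Submodule.mem_span_range_iff_exists_fun A).mp hy
  have : (LocalizedModule.mk (∑ i, b i • x i) (1 : S) : LocalizedModule S M) =
      ∑ i, algebraMap A (Localization S) (b i) • LocalizedModule.mkLinearMap S M (x i) := by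
    rw [← LocalizedModule.mkLinearMap_apply, map_sum]
    refine Finset.sum_congr rfl (fun i _ => ?_)
    rw [map_smul, algebraMap_smul]
  rw [this]
  exact Submodule.sum_mem _ (fun i _ => Submodule.smul_mem _ _ (hgen i))

theorem mem_radical_annI_of_localized {m n : ℕ} (x : Fin m → M)
    (hx : Submodule.span A (Set.range x) = ⊤) (T : Fin n → Module.End A M) (f : A) (N : ℕ)
    (h0 : ∀ w : List (Fin n), w.length = N →
      op (fun i => LocalizedModule.map (Submonoid.powers f) (T i)) w = 0) :
    f ∈ (annI T N).radical := by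
  have hex : ∀ w : List (Fin n), w.length = N → ∀ k, ∃ t : ℕ, f ^ t • op T w (x k) = 0 := by
    intro w hw k
    have h1 : (LocalizedModule.mk (op T w (x k)) (1 : Submonoid.powers f) :
        LocalizedModule (Submonoid.powers f) M) = 0 := by
      rw [← op_map_mk, h0 w hw, LinearMap.zero_apply]
    rw [← LocalizedModule.mkLinearMap_apply, IsLocalizedModule.eq_zero_iff (Submonoid.powers f)
      (LocalizedModule.mkLinearMap (Submonoid.powers f) M)] at h1
    obtain ⟨⟨s, t, rfl⟩, hs⟩ := h1
    exact ⟨t, hs⟩
  have hev : ∀ᶠ t in Filter.atTop, ∀ w ∈ {w : List (Fin n) | w.length = N}, ∀ k,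
      f ^ t • op T w (x k) = 0 := by
    rw [Filter.eventually_all_finite (List.finite_length_eq (Fin n) N)]
    intro w hw
    rw [Filter.eventually_all]
    intro k
    obtain ⟨t, ht⟩ := hex w hw k
    rw [Filter.eventually_atTop]
    refine ⟨t, fun t' ht' => ?_⟩
    obtain ⟨d, rfl⟩ := Nat.exists_eq_add_of_le ht'
    rw [pow_add, mul_comm, mul_smul, ht, smul_zero]
  obtain ⟨t, ht⟩ := hev.exists
  refine Ideal.mem_radical_iff.mpr ⟨t, ?_⟩
  rw [mem_annI]
  intro w hw
  refine LinearMap.ext_on hx ?_
  rintro _ ⟨k, rfl⟩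
  rw [LinearMap.smul_apply, ht w hw k, LinearMap.zero_apply]

end loc

/-- Main theorem: a fibrewise nilpotent finite family of endomorphisms of a finitely presented
module is nilpotent. -/
theorem exists_op_eq_zero (m : ℕ) : ∀ (A : Type u) [CommRing A] (M : Type u) [AddCommGroup M]
    [Module A M] [Module.FinitePresentation A M] (x : Fin m → M)
    (_ : Submodule.span A (Set.range x) = ⊤) (n : ℕ) (T : Fin n → Module.End A M) (c : ℕ)
    (_ : ∀ w : List (Fin n), w.length = c → ∀ y, FibZero A (op T w y)),
    ∃ N, ∀ w : List (Fin n), w.length = N → op T w = 0 := by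
  induction m with
  | zero =>
    intro A _ M _ _ _ x hx n T c _
    refine ⟨0, fun w _ => ?_⟩
    have hsub : ∀ y : M, y = 0 := by
      intro y
      have hy : y ∈ Submodule.span A (Set.range x) := by rw [hx]; exact Submodule.mem_top
      obtain ⟨b, rfl⟩ := (Submodule.mem_span_range_iff_exists_fun A).mp hy
      simp
    exact LinearMap.ext (fun y => (hsub _).trans (hsub _).symm)
  | succ m ih =>
    intro A _ M _ _ _ x hx n T c hfib
    classical
    let φ : (Fin (m + 1) → A) →ₗ[A] M := Fintype.linearCombination A x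
    have hφ : ∀ a : Fin (m + 1) → A, φ a = ∑ i, a i • x i :=
      fun a => Fintype.linearCombination_apply A x a
    have hsurj : Function.Surjective φ := by
      rw [← LinearMap.range_eq_top, Fintype.range_linearCombination, hx]
    have hKfg : (LinearMap.ker φ).FG := Module.FinitePresentation.fg_ker φ hsurj
    obtain ⟨G, hG⟩ := hKfg
    let gens : Set A := (fun q : (Fin (m + 1) → A) × Fin (m + 1) => q.1 q.2) ''
      ((G : Set (Fin (m + 1) → A)) ×ˢ (Set.univ : Set (Fin (m + 1))))
    have hgensfin : gens.Finite := (G.finite_toSet.prod Set.finite_univ).image _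
    let F : Ideal A := Ideal.span gens
    have hFfg : F.FG := ⟨hgensfin.toFinset, by rw [Set.Finite.coe_toFinset]⟩
    have hKF : ∀ ρ ∈ LinearMap.ker φ, ∀ i, ρ i ∈ F := by
      intro ρ hρ
      rw [← hG] at hρ
      refine Submodule.span_induction (p := fun ρ _ => ∀ i, ρ i ∈ F) ?_ ?_ ?_ ?_ hρ
      · intro ρ hρG i
        exact Ideal.subset_span ⟨(ρ, i), ⟨hρG, Set.mem_univ _⟩, rfl⟩
      · intro i; exact F.zero_mem
      · intro a b _ _ ha hb i; exact F.add_mem (ha i) (hb i)
      · intro r a _ ha i; exact F.mul_mem_left r (ha i)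
    -- Claim A
    have hv : ∀ (w : List (Fin n)) (k : Fin (m + 1)), ∃ v : Fin (m + 1) → A,
        φ v = op T w (x k) := fun w k => hsurj _
    choose v hv using hv
    let Jgens : Set A :=
      (fun q : (List (Fin n) × Fin (m + 1)) × Fin (m + 1) => v q.1.1 q.1.2 q.2) ''
        (({w : List (Fin n) | w.length = c} ×ˢ (Set.univ : Set (Fin (m + 1)))) ×ˢ
          (Set.univ : Set (Fin (m + 1))))
    have hJgensfin : Jgens.Finite :=
      (((List.finite_length_eq (Fin n) c).prod Set.finite_univ).prod Set.finite_univ).image _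
    let J : Ideal A := Ideal.span Jgens
    have hJfg : J.FG := ⟨hJgensfin.toFinset, by rw [Set.Finite.coe_toFinset]⟩
    have hJmem : ∀ w : List (Fin n), w.length = c → ∀ k i, v w k i ∈ J := fun w hw k i =>
      Ideal.subset_span ⟨((w, k), i), ⟨⟨hw, Set.mem_univ _⟩, Set.mem_univ _⟩, rfl⟩
    have hJrad : J ≤ F.radical := by
      refine Ideal.span_le.mpr ?_
      rintro _ ⟨⟨⟨w, k⟩, i⟩, ⟨⟨hw, -⟩, -⟩, rfl⟩
      show v w k i ∈ F.radical
      rw [Ideal.radical_eq_sInf, Ideal.mem_sInf]
      rintro p ⟨hFp, hp⟩
      obtain ⟨s, hs, hmem⟩ := hfib w hw (x k) p hp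
      rw [← hv w k, ← map_smul] at hmem
      obtain ⟨u, hu, hsum⟩ := exists_coeff_of_mem_smul x hx p hmem
      have hker : s • v w k - u ∈ LinearMap.ker φ := by
        rw [LinearMap.mem_ker, map_sub, hφ u, hsum, sub_self]
      have h1 := hKF _ hker i
      have h2 : s * v w k i - u i ∈ p := hFp h1
      have h3 : s * v w k i ∈ p := by
        have := p.add_mem h2 (hu i)
        rwa [sub_add_cancel] at this
      exact (hp.mem_or_mem h3).resolve_left hs
    have hJM : ∀ w : List (Fin n), w.length = c → ∀ y,
        op T w y ∈ J • (⊤ : Submodule A M) := by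
      intro w hw y
      have hy : y ∈ Submodule.span A (Set.range x) := by rw [hx]; exact Submodule.mem_top
      obtain ⟨b, rfl⟩ := (Submodule.mem_span_range_iff_exists_fun A).mp hy
      rw [map_sum]
      refine Submodule.sum_mem _ (fun k _ => ?_)
      rw [map_smul, ← hv w k, hφ]
      exact Submodule.smul_mem _ _ (sum_smul_mem_smul x J _ (hJmem w hw k))
    obtain ⟨e, he⟩ := Ideal.exists_pow_le_of_le_radical_of_fg hJrad hJfg
    have hFM : ∀ w : List (Fin n), w.length = c * e → ∀ y,
        op T w y ∈ F • (⊤ : Submodule A M) := by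
      intro w hw y
      exact Submodule.smul_mono_left he (op_mem_pow_smul T J c hJM e w hw y)
    -- Claim B
    have hB : ∀ f ∈ gens, ∃ N, f ∈ (annI T N).radical := by
      rintro _ ⟨⟨ρ, i₀⟩, ⟨hρG, -⟩, rfl⟩
      show ∃ N, ρ i₀ ∈ (annI T N).radical
      have hρker : ρ ∈ LinearMap.ker φ := by rw [← hG]; exact Submodule.subset_span hρG
      have hρ0 : ∑ i, ρ i • x i = 0 := by rw [← hφ]; exact hρker
      obtain ⟨N, hN⟩ := ih (Localization (Submonoid.powers (ρ i₀)))
        (LocalizedModule (Submonoid.powers (ρ i₀)) M)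
        (fun j => LocalizedModule.mk (x (i₀.succAbove j)) 1)
        (span_mk_succAbove (Submonoid.powers (ρ i₀)) x hx ρ hρ0 i₀ (Submonoid.mem_powers _))
        n (fun i => LocalizedModule.map (Submonoid.powers (ρ i₀)) (T i)) c
        (fun w hw => fibZero_localized (Submonoid.powers (ρ i₀)) T w (hfib w hw))
      exact ⟨N, mem_radical_annI_of_localized x hx T (ρ i₀) N hN⟩
    have hB' : ∃ N₂, ∀ f ∈ gens, f ∈ (annI T N₂).radical := by
      have hev : ∀ᶠ N in Filter.atTop, ∀ f ∈ gens, f ∈ (annI T N).radical := by
        rw [Filter.eventually_all_finite hgensfin]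
        intro f hf
        obtain ⟨N, hN⟩ := hB f hf
        rw [Filter.eventually_atTop]
        exact ⟨N, fun N' hN' => Ideal.radical_mono (annI_mono T hN') hN⟩
      exact hev.exists
    obtain ⟨N₂, hN₂⟩ := hB'
    have hFrad : F ≤ (annI T N₂).radical := Ideal.span_le.mpr (fun f hf => hN₂ f hf)
    obtain ⟨E, hE⟩ := Ideal.exists_pow_le_of_le_radical_of_fg hFrad hFfg
    refine ⟨N₂ + (c * e) * E, fun w hw => ?_⟩
    have h1 : w = w.take N₂ ++ w.drop N₂ := (List.take_append_drop N₂ w).symm
    have h2 : (w.take N₂).length = N₂ := by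
      rw [List.length_take, hw]; exact min_eq_left (Nat.le_add_right _ _)
    have h3 : (w.drop N₂).length = (c * e) * E := by
      rw [List.length_drop, hw]; omega
    refine LinearMap.ext (fun y => ?_)
    rw [h1, op_append_apply, LinearMap.zero_apply]
    exact op_apply_eq_zero_of_mem_smul T hE h2 (op_mem_pow_smul T F (c * e) hFM E _ h3 y)

end Groth.Agent.Lib.Helper24.FibNil
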