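import Mathlib
import Groth.Prelude.Def_W4sga3xiixivxvCartan
import Groth.Agent.S2964

/-!
# Relative Cartan subalgebras containing a quasi-regular element

Helper library for S8372 / S8373.
-/

set_option autoImplicit false
set_option maxHeartbeats 400000
set_option linter.style.haveILetI false
set_option linter.unusedSectionVars false

universe u

open scoped TensorProduct

namespace Groth.Agent.Lib.Helper24.CartanRel

section general

variable {A : Type u} [CommRing A]

/-- A finite module all of whose fibres vanish is zero. -/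
theorem subsingleton_of_fibres (C : Type u) [AddCommGroup C] [Module A C] [Module.Finite A C]
    (h : ∀ p : PrimeSpectrum A, Subsingleton (p.asIdeal.ResidueField ⊗[A] C)) :
    Subsingleton C := by
  rw [← Module.support_eq_empty_iff (R := A)]
  refine Set.eq_empty_of_forall_notMem (fun p hp => ?_)
  rw [Module.mem_support_iff_nontrivial_residueField_tensorProduct] at hp
  exact not_nontrivial_iff_subsingleton.2 (h p) hp

/-- A linear map to a finite module which is surjective on all fibres is surjective. -/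
theorem surjective_of_fibres {M N : Type u} [AddCommGroup M] [Module A M] [AddCommGroup N]
    [Module A N] [Module.Finite A N] (f : M →ₗ[A] N)
    (h : ∀ p : PrimeSpectrum A, Function.Surjective (f.baseChange p.asIdeal.ResidueField)) :
    Function.Surjective f := by
  have hsub : Subsingleton (N ⧸ LinearMap.range f) := by
    refine subsingleton_of_fibres (A := A) _ (fun p => ?_)
    have hex := LinearMap.exact_map_mkQ_range f
    have hsurjQ : Function.Surjective (LinearMap.range f).mkQ :=
      Submodule.mkQ_surjective (LinearMap.range f)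
    have hexT := lTensor_exact p.asIdeal.ResidueField hex hsurjQ
    refine subsingleton_of_forall_eq 0 (fun y => ?_)
    obtain ⟨x, rfl⟩ := LinearMap.lTensor_surjective p.asIdeal.ResidueField hsurjQ y
    obtain ⟨w, rfl⟩ := h p x
    exact hexT.apply_apply_eq_zero w
  rw [← LinearMap.range_eq_top]
  exact Submodule.Quotient.subsingleton_iff.mp hsub

theorem baseChange_surjective (K : Type u) [CommRing K] [Algebra A K] {M N : Type u}
    [AddCommGroup M] [Module A M] [AddCommGroup N] [Module A N] (f : M →ₗ[A] N)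
    (hf : Function.Surjective f) : Function.Surjective (f.baseChange K) := by
  show Function.Surjective (f.lTensor K)
  exact LinearMap.lTensor_surjective K hf

theorem natTrailingDegree_map_of_injective {R S : Type*} [Semiring R] [Semiring S] (f : R →+* S)
    (hf : Function.Injective f) (p : Polynomial R) :
    (p.map f).natTrailingDegree = p.natTrailingDegree := by
  unfold Polynomial.natTrailingDegree Polynomial.trailingDegree
  rw [Polynomial.support_map_of_injective p hf]

end general

section split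

variable {A : Type u} [CommRing A] {L : Type u} [AddCommGroup L] [Module A L]

theorem exists_retraction (N : Submodule A L) [Module.Projective A (L ⧸ N)] :
    ∃ r : L →ₗ[A] N, ∀ x : N, r x = x := by
  obtain ⟨s, hs⟩ := Module.projective_lifting_property N.mkQ LinearMap.id
    (Submodule.mkQ_surjective N)
  have hs' : ∀ q, N.mkQ (s q) = q := fun q => LinearMap.congr_fun hs q
  have hmem : ∀ l : L, ((LinearMap.id : L →ₗ[A] L) - s ∘ₗ N.mkQ) l ∈ N := by
    intro l
    have h1 : N.mkQ (l - s (N.mkQ l)) = 0 := by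
      rw [map_sub, hs' (N.mkQ l), sub_self]
    exact (Submodule.Quotient.mk_eq_zero N).mp h1
  refine ⟨LinearMap.codRestrict N ((LinearMap.id : L →ₗ[A] L) - s ∘ₗ N.mkQ) hmem, fun x => Subtype.ext ?_⟩
  have h0 : N.mkQ (x : L) = 0 := (Submodule.Quotient.mk_eq_zero N).mpr x.2
  show (x : L) - s (N.mkQ (x : L)) = x
  rw [h0, map_zero, sub_zero]

theorem finite_of_projective_quotient [Module.Finite A L] (N : Submodule A L)
    [Module.Projective A (L ⧸ N)] : Module.Finite A N := by
  obtain ⟨r, hr⟩ := exists_retraction N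
  exact Module.Finite.of_surjective r (fun x => ⟨x, hr x⟩)

theorem projective_of_projective_quotient [Module.Projective A L] (N : Submodule A L)
    [Module.Projective A (L ⧸ N)] : Module.Projective A N := by
  obtain ⟨r, hr⟩ := exists_retraction N
  exact Module.Projective.of_split N.subtype r (LinearMap.ext hr)

theorem subtype_baseChange_injective (N : Submodule A L) [Module.Projective A (L ⧸ N)]
    (K : Type u) [CommRing K] [Algebra A K] : Function.Injective (N.subtype.baseChange K) := by
  obtain ⟨r, hr⟩ := exists_retraction N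
  have hcomp : (r.baseChange K) ∘ₗ (N.subtype.baseChange K) = LinearMap.id := by
    rw [← LinearMap.baseChange_comp, (LinearMap.ext hr : r ∘ₗ N.subtype = LinearMap.id),
      LinearMap.baseChange_id]
  exact Function.LeftInverse.injective (g := r.baseChange K)
    (fun x => LinearMap.congr_fun hcomp x)

theorem mem_baseChange_iff (N : Submodule A L) (K : Type u) [CommRing K] [Algebra A K]
    (v : K ⊗[A] L) : v ∈ N.baseChange K ↔ N.mkQ.baseChange K v = 0 := by
  have hex := lTensor_exact K (LinearMap.exact_subtype_mkQ N) (Submodule.mkQ_surjective N)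
  constructor
  · intro hv
    obtain ⟨w, rfl⟩ := LinearMap.mem_range.mp
      (show v ∈ LinearMap.range (N.subtype.baseChange K) from hv)
    exact hex.apply_apply_eq_zero w
  · intro h
    obtain ⟨w, hw⟩ := (hex v).1 h
    exact ⟨w, hw⟩

end split

section lie

variable {A : Type u} [CommRing A] {L : Type u} [LieRing L] [LieAlgebra A L]

theorem mem_engel_of_lie_mem_engel {x v : L} (h : ⁅x, v⁆ ∈ LieSubalgebra.engel A x) :
    v ∈ LieSubalgebra.engel A x := by
  rw [LieSubalgebra.mem_engel_iff] at h ⊢
  obtain ⟨n, hn⟩ := h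
  refine ⟨n + 1, ?_⟩
  rw [pow_succ, Module.End.mul_apply]
  exact hn

theorem le_engel_of_isNilpotent (H : LieSubalgebra A L) (hnil : LieRing.IsNilpotent H) {b : L}
    (hb : b ∈ H) : H ≤ LieSubalgebra.engel A b := by
  haveI : LieModule.IsNilpotent H H := hnil
  obtain ⟨k, hk⟩ := LieModule.exists_forall_pow_toEnd_eq_zero A H H
  intro z hz
  rw [LieSubalgebra.mem_engel_iff]
  refine ⟨k, ?_⟩
  have h1 : (((LieAlgebra.ad A H ⟨b, hb⟩ ^ k) ⟨z, hz⟩ : H) : L) = (LieAlgebra.ad A L b ^ k) z :=
    LieSubalgebra.coe_ad_pow A L H ⟨b, hb⟩ ⟨z, hz⟩ k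
  have h2 : LieAlgebra.ad A H ⟨b, hb⟩ ^ k = 0 := hk ⟨b, hb⟩
  rw [← h1, h2, LinearMap.zero_apply, ZeroMemClass.coe_zero]

theorem lieEquiv_ad_pow (u : L ≃ₗ⁅A⁆ L) (a z : L) (n : ℕ) :
    u ((LieAlgebra.ad A L a ^ n) z) = (LieAlgebra.ad A L (u a) ^ n) (u z) := by
  induction n with
  | zero => simp only [pow_zero, Module.End.one_apply]
  | succ n ih =>
    rw [pow_succ', Module.End.mul_apply, LieAlgebra.ad_apply, LieEquiv.map_lie, ih, pow_succ',
      Module.End.mul_apply, LieAlgebra.ad_apply]

/-- The endomorphism of `L ⧸ H` induced by `ad a`, for `a ∈ H`. -/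
noncomputable def adQ (H : LieSubalgebra A L) (a : L) (ha : a ∈ H) :
    Module.End A (L ⧸ H.toSubmodule) :=
  H.toSubmodule.mapQ H.toSubmodule (LieAlgebra.ad A L a) (fun _ hh => H.lie_mem ha hh)

theorem adQ_mk (H : LieSubalgebra A L) (a : L) (ha : a ∈ H) (x : L) :
    adQ H a ha (H.toSubmodule.mkQ x) = H.toSubmodule.mkQ ⁅a, x⁆ := rfl

theorem adQ_pow_mk (H : LieSubalgebra A L) (a : L) (ha : a ∈ H) (n : ℕ) (x : L) :
    (adQ H a ha ^ n) (H.toSubmodule.mkQ x) =
      H.toSubmodule.mkQ ((LieAlgebra.ad A L a ^ n) x) := by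
  induction n generalizing x with
  | zero => simp only [pow_zero, Module.End.one_apply]
  | succ n ih =>
    rw [pow_succ, Module.End.mul_apply, adQ_mk, ih, pow_succ, Module.End.mul_apply,
      LieAlgebra.ad_apply]

section fibre

variable (K : Type u) [Field K] [Algebra A K]

theorem baseChange_ad_apply (a : L) (v : K ⊗[A] L) :
    (LieAlgebra.ad A L a).baseChange K v = ⁅(1 : K) ⊗ₜ[A] a, v⁆ := by
  have h := Groth.Agent.S2964.ad_tmul (A := A) K (1 : K) a
  rw [one_smul] at h
  rw [← h, LieAlgebra.ad_apply]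

theorem ad_one_tmul_pow (a : L) (n : ℕ) (k : K) (y : L) :
    ((LieAlgebra.ad K (K ⊗[A] L) ((1 : K) ⊗ₜ[A] a)) ^ n) (k ⊗ₜ[A] y) =
      k ⊗ₜ[A] ((LieAlgebra.ad A L a ^ n) y) := by
  rw [Groth.Agent.S2964.ad_tmul, one_smul, ← LinearMap.baseChange_pow, LinearMap.baseChange_tmul]

theorem tmul_mem_engel (a : L) {y : L} (hy : y ∈ LieSubalgebra.engel A a) (k : K) :
    k ⊗ₜ[A] y ∈ LieSubalgebra.engel K ((1 : K) ⊗ₜ[A] a) := by
  rw [LieSubalgebra.mem_engel_iff] at hy ⊢
  obtain ⟨n, hn⟩ := hy
  exact ⟨n, by rw [ad_one_tmul_pow, hn, TensorProduct.tmul_zero]⟩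

theorem baseChange_le_engel (a : L) (H : LieSubalgebra A L)
    (hle : H ≤ LieSubalgebra.engel A a) :
    H.toSubmodule.baseChange K ≤ (LieSubalgebra.engel K ((1 : K) ⊗ₜ[A] a)).toSubmodule := by
  rw [Submodule.baseChange_eq_span, Submodule.span_le]
  rintro _ ⟨h, hh, rfl⟩
  exact tmul_mem_engel K a (hle hh) 1

theorem fibre_eq_engel_of_finrank [Module.Finite A L] (a : L) (H : LieSubalgebra A L)
    (hle : H ≤ LieSubalgebra.engel A a)
    (hreg : LieAlgebra.IsRegular K ((1 : K) ⊗ₜ[A] a))
    (hrank : Module.finrank K (H.toSubmodule.baseChange K) = LieAlgebra.rank K (K ⊗[A] L)) :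
    H.toSubmodule.baseChange K = (LieSubalgebra.engel K ((1 : K) ⊗ₜ[A] a)).toSubmodule := by
  refine Submodule.eq_of_le_of_finrank_le (baseChange_le_engel K a H hle) ?_
  rw [hrank]
  exact ((LieAlgebra.isRegular_iff_finrank_engel_eq_rank K _).mp hreg).le

theorem adQ_baseChange_comm (H : LieSubalgebra A L) (a : L) (ha : a ∈ H) (v : K ⊗[A] L) :
    LinearMap.baseChange K (adQ H a ha) (H.toSubmodule.mkQ.baseChange K v) =
      H.toSubmodule.mkQ.baseChange K ⁅(1 : K) ⊗ₜ[A] a, v⁆ := by
  rw [← baseChange_ad_apply]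
  induction v using TensorProduct.induction_on with
  | zero => simp only [map_zero]
  | tmul k x =>
    simp only [LinearMap.baseChange_tmul]
    rfl
  | add v w hv hw => simp only [map_add, hv, hw]

theorem adQ_baseChange_pow_comm (H : LieSubalgebra A L) (a : L) (ha : a ∈ H) (n : ℕ)
    (v : K ⊗[A] L) :
    ((LinearMap.baseChange K (adQ H a ha)) ^ n) (H.toSubmodule.mkQ.baseChange K v) =
      H.toSubmodule.mkQ.baseChange K
        (((LieAlgebra.ad K (K ⊗[A] L) ((1 : K) ⊗ₜ[A] a)) ^ n) v) := by
  induction n generalizing v with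
  | zero => simp only [pow_zero, Module.End.one_apply]
  | succ n ih =>
    rw [pow_succ, Module.End.mul_apply, adQ_baseChange_comm, ih, pow_succ, Module.End.mul_apply,
      LieAlgebra.ad_apply]

theorem adQ_baseChange_injective (H : LieSubalgebra A L) (a : L) (ha : a ∈ H)
    (heq : H.toSubmodule.baseChange K =
      (LieSubalgebra.engel K ((1 : K) ⊗ₜ[A] a)).toSubmodule) :
    Function.Injective (LinearMap.baseChange K (adQ H a ha)) := by
  rw [injective_iff_map_eq_zero]
  intro w hw
  obtain ⟨v, rfl⟩ := baseChange_surjective K H.toSubmodule.mkQ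
    (Submodule.mkQ_surjective H.toSubmodule) w
  rw [adQ_baseChange_comm, ← mem_baseChange_iff, heq] at hw
  have hw' : ⁅(1 : K) ⊗ₜ[A] a, v⁆ ∈ LieSubalgebra.engel K ((1 : K) ⊗ₜ[A] a) := hw
  have hv : v ∈ LieSubalgebra.engel K ((1 : K) ⊗ₜ[A] a) := mem_engel_of_lie_mem_engel hw'
  rw [← mem_baseChange_iff, heq]
  exact hv

theorem engel_le_baseChange (H : LieSubalgebra A L) (a : L) (ha : a ∈ H)
    (hinj : Function.Injective (LinearMap.baseChange K (adQ H a ha))) :
    (LieSubalgebra.engel K ((1 : K) ⊗ₜ[A] a)).toSubmodule ≤ H.toSubmodule.baseChange K := by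
  intro v hv
  have hv' : v ∈ LieSubalgebra.engel K ((1 : K) ⊗ₜ[A] a) := hv
  rw [LieSubalgebra.mem_engel_iff] at hv'
  obtain ⟨n, hn⟩ := hv'
  have h1 := adQ_baseChange_pow_comm K H a ha n v
  rw [hn, map_zero] at h1
  have hinjn : Function.Injective ((LinearMap.baseChange K (adQ H a ha)) ^ n) := by
    rw [Module.End.coe_pow]
    exact hinj.iterate n
  rw [mem_baseChange_iff]
  exact hinjn (by rw [h1, map_zero])

end fibre

end lie

section lemmaN

variable {K : Type u} [Field K] {V : Type u} [LieRing V] [LieAlgebra K V] [Module.Finite K V]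

open LieSubalgebra in
theorem engel_le_engel_of_card
    (h : (Module.finrank K V : Cardinal) ≤ Cardinal.mk K) (x : V)
    (hx : LieAlgebra.IsRegular K x) (y : V) (hy : y ∈ engel K x) :
    engel K x ≤ engel K y := by
  set Ex : {engel K z | z ∈ engel K x} := ⟨engel K x, x, self_mem_engel _ _, rfl⟩
  suffices IsBot Ex from @this ⟨engel K y, y, hy, rfl⟩
  apply LieAlgebra.engel_isBot_of_isMin h (engel K x) Ex le_rfl
  rintro ⟨_, y, hy, rfl⟩ hyx
  suffices Module.finrank K (engel K x) ≤ Module.finrank K (engel K y) by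
    suffices engel K y = engel K x from this.ge
    apply LieSubalgebra.toSubmodule_injective
    exact Submodule.eq_of_le_of_finrank_le hyx this
  rw [(LieAlgebra.isRegular_iff_finrank_engel_eq_rank K x).mp hx]
  apply LieAlgebra.rank_le_finrank_engel

variable (K' : Type u) [Field K'] [Algebra K K']

attribute [local instance 100] LieRing.ofAssociativeRing

theorem ad_baseChange_eq :
    (LieAlgebra.ad K' (K' ⊗[K] V)).toLinearMap =
      LinearMap.tensorProduct K K' V V ∘ₗ (LieAlgebra.ad K V).toLinearMap.baseChange K' := by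
  refine TensorProduct.AlgebraTensorModule.ext (fun k x => ?_)
  refine TensorProduct.AlgebraTensorModule.ext (fun k' y => ?_)
  simp [LinearMap.tensorProduct, LieAlgebra.ExtendScalars.bracket_tmul,
    TensorProduct.smul_tmul']

theorem rank_baseChange : LieAlgebra.rank K' (K' ⊗[K] V) = LieAlgebra.rank K V := by
  classical
  have b := Module.Free.chooseBasis K V
  rw [LieAlgebra.rank_eq_natTrailingDegree K V b,
    LieAlgebra.rank_eq_natTrailingDegree K' (K' ⊗[K] V) (Algebra.TensorProduct.basis K' b),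
    ad_baseChange_eq, LinearMap.polyCharpoly_baseChange]
  exact natTrailingDegree_map_of_injective _
    (MvPolynomial.map_injective _ (algebraMap K K').injective) _

theorem isRegular_baseChange (x : V) (hx : LieAlgebra.IsRegular K x) :
    LieAlgebra.IsRegular K' ((1 : K') ⊗ₜ[K] x) := by
  rw [LieAlgebra.isRegular_def] at hx ⊢
  rw [rank_baseChange, Groth.Agent.S2964.ad_tmul, one_smul, LinearMap.charpoly_baseChange,
    Polynomial.coeff_map]
  exact fun h0 => hx ((algebraMap K K').injective (by rw [h0, map_zero]))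

theorem exists_ad_pow_eq_zero_of_isRegular (x : V) (hx : LieAlgebra.IsRegular K x) (y z : V)
    (hy : y ∈ LieSubalgebra.engel K x) (hz : z ∈ LieSubalgebra.engel K x) :
    ∃ n : ℕ, ((LieAlgebra.ad K V y) ^ n) z = 0 := by
  have hx' := isRegular_baseChange (AlgebraicClosure K) x hx
  have hcard : (Module.finrank (AlgebraicClosure K) (AlgebraicClosure K ⊗[K] V) : Cardinal) ≤
      Cardinal.mk (AlgebraicClosure K) :=
    Cardinal.natCast_le_aleph0.trans (Cardinal.infinite_iff.mp inferInstance)
  have hy' := tmul_mem_engel (AlgebraicClosure K) x hy 1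
  have hz' := tmul_mem_engel (AlgebraicClosure K) x hz 1
  have hle := engel_le_engel_of_card hcard _ hx' _ hy'
  have h1 := hle hz'
  rw [LieSubalgebra.mem_engel_iff] at h1
  obtain ⟨n, hn⟩ := h1
  refine ⟨n, ?_⟩
  rw [ad_one_tmul_pow] at hn
  haveI : FaithfulSMul K (AlgebraicClosure K) :=
    (faithfulSMul_iff_algebraMap_injective K (AlgebraicClosure K)).mpr
      (algebraMap K (AlgebraicClosure K)).injective
  have hinj := Module.Flat.tensorProduct_mk_injective K V (AlgebraicClosure K)
  apply hinj
  rw [map_zero]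
  exact hn

end lemmaN

section main

variable {A : Type u} [CommRing A] {L : Type u} [LieRing L] [LieAlgebra A L]
  [Module.Finite A L]

open SGA3t2b

theorem adQ_bijective_and_engel_le (H : LieSubalgebra A L) (a : L) (ha : a ∈ H)
    (heq : ∀ p : PrimeSpectrum A, H.toSubmodule.baseChange p.asIdeal.ResidueField =
      (LieSubalgebra.engel p.asIdeal.ResidueField
        ((1 : p.asIdeal.ResidueField) ⊗ₜ[A] a)).toSubmodule) :
    Function.Bijective (adQ H a ha) ∧ LieSubalgebra.engel A a ≤ H := by
  have hsurj : Function.Surjective (adQ H a ha) := by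
    refine surjective_of_fibres (A := A) _ (fun p => ?_)
    exact LinearMap.surjective_of_injective
      (adQ_baseChange_injective p.asIdeal.ResidueField H a ha (heq p))
  have hinj : Function.Injective (adQ H a ha) :=
    OrzechProperty.injective_of_surjective_endomorphism _ hsurj
  refine ⟨⟨hinj, hsurj⟩, ?_⟩
  intro z hz
  rw [LieSubalgebra.mem_engel_iff] at hz
  obtain ⟨n, hn⟩ := hz
  have h1 := adQ_pow_mk H a ha n z
  rw [hn, map_zero] at h1
  have hinjn : Function.Injective ((adQ H a ha) ^ n) := by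
    rw [Module.End.coe_pow]
    exact hinj.iterate n
  have h2 : H.toSubmodule.mkQ z = 0 := hinjn (by rw [h1, map_zero])
  exact (Submodule.Quotient.mk_eq_zero _).mp h2

theorem isNilpotent_fibre (p : PrimeSpectrum A) (H : LieSubalgebra A L)
    [Module.Projective A (L ⧸ H.toSubmodule)]
    (hloc : ∀ e ∈ H, ∀ e' ∈ H, ∃ n : ℕ,
      ((LieAlgebra.ad p.asIdeal.ResidueField (p.asIdeal.ResidueField ⊗[A] L)
        ((1 : p.asIdeal.ResidueField) ⊗ₜ[A] e)) ^ n)
          ((1 : p.asIdeal.ResidueField) ⊗ₜ[A] e') = 0) :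
    LieRing.IsNilpotent (p.asIdeal.ResidueField ⊗[A] H) := by
  haveI : Module.Finite A H := finite_of_projective_quotient H.toSubmodule
  have hιinj := subtype_baseChange_injective H.toSubmodule p.asIdeal.ResidueField
  rw [LieAlgebra.isNilpotent_iff_forall (R := p.asIdeal.ResidueField)]
  intro z
  obtain ⟨k, e, rfl⟩ := Groth.Agent.S2964.exists_pure p.asIdeal z
  rw [Groth.Agent.S2964.ad_tmul, Module.End.isNilpotent_iff_of_finite]
  intro m
  obtain ⟨k', e', rfl⟩ := Groth.Agent.S2964.exists_pure p.asIdeal m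
  obtain ⟨n, hn⟩ := hloc e e.2 e' e'.2
  refine ⟨n, ?_⟩
  rw [smul_pow, ← LinearMap.baseChange_pow, LinearMap.smul_apply, LinearMap.baseChange_tmul]
  have h0 : k' ⊗ₜ[A] ((LieAlgebra.ad A H e ^ n) e') = 0 := by
    apply hιinj
    have hc : (H.toSubmodule.subtype ((LieAlgebra.ad A H e ^ n) e') : L) =
        (LieAlgebra.ad A L (e : L) ^ n) (e' : L) := LieSubalgebra.coe_ad_pow A L H e e' n
    rw [map_zero, LinearMap.baseChange_tmul, hc]
    have hk : k' ⊗ₜ[A] ((LieAlgebra.ad A L (e : L) ^ n) (e' : L)) =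
        k' • ((1 : p.asIdeal.ResidueField) ⊗ₜ[A]
          ((LieAlgebra.ad A L (e : L) ^ n) (e' : L))) := by
      rw [TensorProduct.smul_tmul', smul_eq_mul, mul_one]
    rw [hk, ← ad_one_tmul_pow, hn, smul_zero]
  rw [h0, smul_zero]

theorem isCartanRel_engel (a : L) (ha : IsQuasiRegular A L a)
    (hproj : Module.Projective A (L ⧸ (LieSubalgebra.engel A a).toSubmodule))
    (hsurj : ∀ y : L, ∃ z : L, ⁅a, z⁆ - y ∈ LieSubalgebra.engel A a) :
    IsCartanRel (LieSubalgebra.engel A a) := by
  have haE := LieSubalgebra.self_mem_engel A a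
  have hQsurj : Function.Surjective (adQ (LieSubalgebra.engel A a) a haE) := by
    intro w
    obtain ⟨y, rfl⟩ := Submodule.mkQ_surjective _ w
    obtain ⟨z, hz⟩ := hsurj y
    refine ⟨(LieSubalgebra.engel A a).toSubmodule.mkQ z, ?_⟩
    rw [adQ_mk, ← sub_eq_zero, ← map_sub]
    exact (Submodule.Quotient.mk_eq_zero _).mpr hz
  refine ⟨hproj, fun p => ?_⟩
  have hKsurj : Function.Surjective
      (LinearMap.baseChange p.asIdeal.ResidueField (adQ (LieSubalgebra.engel A a) a haE)) :=
    baseChange_surjective _ _ hQsurj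
  have hKinj : Function.Injective
      (LinearMap.baseChange p.asIdeal.ResidueField (adQ (LieSubalgebra.engel A a) a haE)) :=
    LinearMap.injective_iff_surjective.mpr hKsurj
  have heq : (LieSubalgebra.engel A a).toSubmodule.baseChange p.asIdeal.ResidueField =
      (LieSubalgebra.engel p.asIdeal.ResidueField
        ((1 : p.asIdeal.ResidueField) ⊗ₜ[A] a)).toSubmodule :=
    le_antisymm (baseChange_le_engel _ a _ le_rfl) (engel_le_baseChange _ _ a haE hKinj)
  refine ⟨?_, ?_, ?_⟩
  · haveI := hproj
    refine isNilpotent_fibre p _ (fun e he e' he' => ?_)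
    exact exists_ad_pow_eq_zero_of_isRegular _ (ha p) _ _
      (tmul_mem_engel _ a he 1) (tmul_mem_engel _ a he' 1)
  · intro x hx
    have h1a : (1 : p.asIdeal.ResidueField) ⊗ₜ[A] a ∈
        fibreSubmodule p (LieSubalgebra.engel A a) :=
      Submodule.tmul_mem_baseChange_of_mem 1 haE
    have h1 := hx _ h1a
    unfold fibreSubmodule at h1 ⊢
    rw [heq] at h1 ⊢
    have h2 : ⁅(1 : p.asIdeal.ResidueField) ⊗ₜ[A] a, x⁆ ∈
        LieSubalgebra.engel p.asIdeal.ResidueField
          ((1 : p.asIdeal.ResidueField) ⊗ₜ[A] a) := by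
      rw [← lie_skew]
      exact neg_mem h1
    exact mem_engel_of_lie_mem_engel h2
  · unfold fibreSubmodule
    rw [heq]
    exact (LieAlgebra.isRegular_iff_finrank_engel_eq_rank _ _).mp (ha p)

variable [Module.Projective A L]

theorem le_engel_of_isCartanRel (H : LieSubalgebra A L) (hH : IsCartanRel H) {b : L}
    (hb : b ∈ H) : H ≤ LieSubalgebra.engel A b := by
  haveI : Module.Projective A (L ⧸ H.toSubmodule) := hH.1
  haveI : Module.Finite A H := finite_of_projective_quotient H.toSubmodule
  haveI : Module.Projective A H := projective_of_projective_quotient H.toSubmodule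
  haveI : Module.FinitePresentation A H := Module.finitePresentation_of_projective A H
  have hnil : LieRing.IsNilpotent H :=
    Groth.Agent.S2964.part_one (A := A) (L := H) (fun p => (hH.2 p).1)
  exact le_engel_of_isNilpotent H hnil hb

theorem fibre_eq_engel (H : LieSubalgebra A L) (hH : IsCartanRel H) {a : L} (haH : a ∈ H)
    (ha : IsQuasiRegular A L a) (p : PrimeSpectrum A) :
    H.toSubmodule.baseChange p.asIdeal.ResidueField =
      (LieSubalgebra.engel p.asIdeal.ResidueField
        ((1 : p.asIdeal.ResidueField) ⊗ₜ[A] a)).toSubmodule :=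
  fibre_eq_engel_of_finrank _ a H (le_engel_of_isCartanRel H hH haH) (ha p) (hH.2 p).2.2

theorem eq_engel (H : LieSubalgebra A L) (hH : IsCartanRel H) {a : L} (haH : a ∈ H)
    (ha : IsQuasiRegular A L a) : H = LieSubalgebra.engel A a :=
  le_antisymm (le_engel_of_isCartanRel H hH haH)
    (adQ_bijective_and_engel_le H a haH (fibre_eq_engel H hH haH ha)).2

theorem adQ_bijective (H : LieSubalgebra A L) (hH : IsCartanRel H) {a : L} (haH : a ∈ H)
    (ha : IsQuasiRegular A L a) : Function.Bijective (adQ H a haH) :=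
  (adQ_bijective_and_engel_le H a haH (fibre_eq_engel H hH haH ha)).1

theorem map_eq_of_mem (H : LieSubalgebra A L) (hH : IsCartanRel H) {a : L} (haH : a ∈ H)
    (ha : IsQuasiRegular A L a) (u : L ≃ₗ⁅A⁆ L) (hua : u a ∈ H) :
    H.map u.toLieHom = H := by
  have hE : H = LieSubalgebra.engel A a := eq_engel H hH haH ha
  have hle : H ≤ LieSubalgebra.engel A (u a) := le_engel_of_isCartanRel H hH hua
  have hsymm : ∀ h ∈ H, u.symm h ∈ H := by
    intro h hh
    have h1 := hle hh
    rw [LieSubalgebra.mem_engel_iff] at h1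
    obtain ⟨n, hn⟩ := h1
    rw [hE, LieSubalgebra.mem_engel_iff]
    refine ⟨n, EquivLike.injective u ?_⟩
    rw [lieEquiv_ad_pow, LieEquiv.apply_symm_apply, hn, map_zero]
  let f : Module.End A (L ⧸ H.toSubmodule) :=
    H.toSubmodule.mapQ H.toSubmodule (u.symm.toLinearEquiv : L →ₗ[A] L)
      (fun h hh => hsymm h hh)
  have hfmk : ∀ x : L, f (H.toSubmodule.mkQ x) = H.toSubmodule.mkQ (u.symm x) := fun _ => rfl
  have hfsurj : Function.Surjective f := by
    intro w
    obtain ⟨x, rfl⟩ := Submodule.mkQ_surjective _ w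
    refine ⟨H.toSubmodule.mkQ (u x), ?_⟩
    rw [hfmk, LieEquiv.symm_apply_apply]
  have hfinj := OrzechProperty.injective_of_surjective_endomorphism f hfsurj
  apply le_antisymm
  · intro y hy
    obtain ⟨h, hh, rfl⟩ := (LieSubalgebra.mem_map _ _ _).mp hy
    have h1 : f (H.toSubmodule.mkQ (u h)) = 0 := by
      rw [hfmk, LieEquiv.symm_apply_apply]
      exact (Submodule.Quotient.mk_eq_zero _).mpr hh
    have h2 := hfinj (h1.trans (map_zero f).symm)
    exact (Submodule.Quotient.mk_eq_zero _).mp h2
  · intro h hh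
    exact (LieSubalgebra.mem_map _ _ _).mpr ⟨u.symm h, hsymm h hh, LieEquiv.apply_symm_apply u h⟩

end main

end Groth.Agent.Lib.Helper24.CartanRel
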