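import Mathlib
import Groth.Agent.Lib.Helper24.CartanRel

/-!
# Regular sections of a relative Cartan subalgebra near a point with infinite residue field

Helper library for S8374.
-/

set_option autoImplicit false
set_option maxHeartbeats 400000
set_option linter.style.haveILetI false
set_option linter.unusedSectionVars false

universe u

open scoped TensorProduct

namespace Groth.Agent.Lib.Helper24.CartanRel

section modules

variable {A : Type u} [CommRing A]

theorem exists_smul_mem_range_of_fibre_surjective {M N : Type u} [AddCommGroup M] [Module A M]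
    [AddCommGroup N] [Module A N] [Module.Finite A N] (T : M →ₗ[A] N) (p : PrimeSpectrum A)
    (h : Function.Surjective (T.baseChange p.asIdeal.ResidueField)) :
    ∃ f : A, f ∉ p.asIdeal ∧ ∀ y : N, f • y ∈ LinearMap.range T := by
  have hsub : Subsingleton (p.asIdeal.ResidueField ⊗[A] (N ⧸ LinearMap.range T)) := by
    have hex := LinearMap.exact_map_mkQ_range T
    have hsurjQ : Function.Surjective (LinearMap.range T).mkQ :=
      Submodule.mkQ_surjective (LinearMap.range T)
    have hexT := lTensor_exact p.asIdeal.ResidueField hex hsurjQ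
    refine subsingleton_of_forall_eq 0 (fun y => ?_)
    obtain ⟨x, rfl⟩ := LinearMap.lTensor_surjective p.asIdeal.ResidueField hsurjQ y
    obtain ⟨w, rfl⟩ := h x
    exact hexT.apply_apply_eq_zero w
  have hnot : p ∉ Module.support A (N ⧸ LinearMap.range T) := by
    rw [Module.mem_support_iff_nontrivial_residueField_tensorProduct]
    exact not_nontrivial_iff_subsingleton.2 hsub
  rw [Module.mem_support_iff_of_finite] at hnot
  obtain ⟨f, hfann, hfp⟩ := SetLike.not_le_iff_exists.mp hnot
  refine ⟨f, hfp, fun y => ?_⟩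
  have h1 := Module.mem_annihilator.mp hfann ((LinearMap.range T).mkQ y)
  rw [← map_smul] at h1
  exact (Submodule.Quotient.mk_eq_zero _).mp h1

theorem baseChange_surjective_of_smul_mem_range {M N : Type u} [AddCommGroup M] [Module A M]
    [AddCommGroup N] [Module A N] (T : M →ₗ[A] N) (f : A)
    (hf : ∀ y : N, f • y ∈ LinearMap.range T) (K : Type u) [Field K] [Algebra A K]
    (hfK : algebraMap A K f ≠ 0) : Function.Surjective (T.baseChange K) := by
  rw [← LinearMap.range_eq_top, eq_top_iff]
  rintro w -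
  induction w using TensorProduct.induction_on with
  | zero => exact Submodule.zero_mem _
  | tmul k y =>
    obtain ⟨z, hz⟩ := hf y
    refine ⟨(k * (algebraMap A K f)⁻¹) ⊗ₜ[A] z, ?_⟩
    have hk : f • (k * (algebraMap A K f)⁻¹) = k := by
      rw [Algebra.smul_def]
      field_simp
    rw [LinearMap.baseChange_tmul, hz, TensorProduct.tmul_smul, TensorProduct.smul_tmul', hk]
  | add v w hv hw => exact Submodule.add_mem _ hv hw

theorem exists_pow_smul_eq_zero_of_smul_mem_range {Q : Type u} [AddCommGroup Q] [Module A Q]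
    [Module.Finite A Q] (T : Module.End A Q) (f : A)
    (hf : ∀ x : Q, f • x ∈ LinearMap.range T) (m : ℕ) (x : Q) (hx : (T ^ m) x = 0) :
    ∃ n : ℕ, f ^ n • x = 0 := by
  have hsub : Subsingleton (LocalizedModule (Submonoid.powers f) (Q ⧸ LinearMap.range T)) := by
    rw [LocalizedModule.subsingleton_iff]
    intro c
    obtain ⟨x, rfl⟩ := Submodule.mkQ_surjective _ c
    refine ⟨f, Submonoid.mem_powers f, ?_⟩
    rw [← map_smul]
    exact (Submodule.Quotient.mk_eq_zero _).mpr (hf x)
  have hsurj : Function.Surjective (LocalizedModule.map (Submonoid.powers f) T) :=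
    (LinearMap.localizedMap_surjective_iff_subsingleton_localized_coker
      (Submonoid.powers f) T).mpr hsub
  have hinj : Function.Injective (LocalizedModule.map (Submonoid.powers f) T) :=
    OrzechProperty.injective_of_surjective_endomorphism _ hsurj
  have hpow : ∀ (k : ℕ) (z : Q),
      ((LocalizedModule.map (Submonoid.powers f) T) ^ k) (LocalizedModule.mk z 1) =
        LocalizedModule.mk ((T ^ k) z) 1 := by
    intro k
    induction k with
    | zero => intro z; simp only [pow_zero, Module.End.one_apply]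
    | succ k ih =>
      intro z
      rw [pow_succ, Module.End.mul_apply, LocalizedModule.map_mk, ih, pow_succ,
        Module.End.mul_apply]
  have h1 := hpow m x
  rw [hx, LocalizedModule.zero_mk] at h1
  have hinjm : Function.Injective ((LocalizedModule.map (Submonoid.powers f) T) ^ m) := by
    rw [Module.End.coe_pow]
    exact hinj.iterate m
  have h2 : LocalizedModule.mk x (1 : Submonoid.powers f) = 0 := hinjm (by rw [h1, map_zero])
  have h3 : LocalizedModule.mkLinearMap (Submonoid.powers f) Q x = 0 := by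
    rw [LocalizedModule.mkLinearMap_apply]
    exact h2
  obtain ⟨s, hs⟩ := (IsLocalizedModule.eq_zero_iff (Submonoid.powers f)
    (LocalizedModule.mkLinearMap (Submonoid.powers f) Q)).mp h3
  obtain ⟨n, hn⟩ := s.2
  refine ⟨n, ?_⟩
  have hn' : f ^ n = (s : A) := hn
  rw [hn']
  exact hs

end modules

section field

variable {K : Type u} [Field K] {V : Type u} [LieRing V] [LieAlgebra K V]

theorem engel_smul {c : K} (hc : c ≠ 0) (x : V) :
    LieSubalgebra.engel K (c • x) = LieSubalgebra.engel K x := by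
  ext v
  have hpow : ∀ n : ℕ, ((LieAlgebra.ad K V (c • x)) ^ n) v =
      c ^ n • ((LieAlgebra.ad K V x) ^ n) v := by
    intro n
    rw [map_smul, smul_pow, LinearMap.smul_apply]
  rw [LieSubalgebra.mem_engel_iff, LieSubalgebra.mem_engel_iff]
  constructor
  · rintro ⟨n, hn⟩
    rw [hpow] at hn
    exact ⟨n, (smul_eq_zero.mp hn).resolve_left (pow_ne_zero n hc)⟩
  · rintro ⟨n, hn⟩
    exact ⟨n, by rw [hpow, hn, smul_zero]⟩

theorem isRegular_smul [Module.Finite K V] {c : K} (hc : c ≠ 0) {x : V}
    (hx : LieAlgebra.IsRegular K x) : LieAlgebra.IsRegular K (c • x) := by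
  rw [LieAlgebra.isRegular_iff_finrank_engel_eq_rank] at hx ⊢
  rw [engel_smul hc]
  exact hx

theorem exists_isRegular_mem_of_cartan [Infinite K] [Module.Finite K V]
    (C : LieSubalgebra K V) (hnil : LieRing.IsNilpotent C)
    (hnorm : ∀ x : V, (∀ y ∈ C.toSubmodule, ⁅x, y⁆ ∈ C.toSubmodule) → x ∈ C.toSubmodule)
    (hrank : Module.finrank K C.toSubmodule = LieAlgebra.rank K V) :
    ∃ x ∈ C, LieAlgebra.IsRegular K x := by
  classical
  have hcard : (Module.finrank K V : Cardinal) ≤ Cardinal.mk K :=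
    Cardinal.natCast_le_aleph0.trans (Cardinal.infinite_iff.mp inferInstance)
  haveI : LieRing.IsNilpotent C := hnil
  haveI hcartan : C.IsCartanSubalgebra :=
    { nilpotent := hnil
      self_normalizing := by
        refine le_antisymm ?_ (LieSubalgebra.le_normalizer C)
        intro x hx
        rw [LieSubalgebra.mem_normalizer_iff] at hx
        exact hnorm x (fun y hy => hx y hy) }
  have hCle : ∀ y ∈ C, C ≤ LieSubalgebra.engel K y :=
    fun y hy => le_engel_of_isNilpotent C hnil hy
  have hex : ∃ n, ∃ x ∈ C, Module.finrank K (LieSubalgebra.engel K x) = n :=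
    ⟨_, 0, C.zero_mem, rfl⟩
  obtain ⟨x, hxC, hxn⟩ := Nat.find_spec hex
  have hmin : ∀ y ∈ C, Module.finrank K (LieSubalgebra.engel K x) ≤
      Module.finrank K (LieSubalgebra.engel K y) := by
    intro y hy
    rw [hxn]
    exact Nat.find_min' hex ⟨y, hy, rfl⟩
  have hbot : IsBot (⟨LieSubalgebra.engel K x, x, hxC, rfl⟩ :
      {LieSubalgebra.engel K z | z ∈ C}) := by
    apply LieAlgebra.engel_isBot_of_isMin hcard C _ (hCle x hxC)
    rintro ⟨_, y, hy, rfl⟩ hyx
    have h1 : LieSubalgebra.engel K y = LieSubalgebra.engel K x := by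
      apply LieSubalgebra.toSubmodule_injective
      exact Submodule.eq_of_le_of_finrank_le hyx (hmin y hy)
    exact h1.ge
  have hall : ∀ y ∈ C, LieSubalgebra.engel K x ≤ LieSubalgebra.engel K y :=
    fun y hy => @hbot ⟨LieSubalgebra.engel K y, y, hy, rfl⟩
  have hxle : LieSubalgebra.engel K x ≤ C := by
    refine le_trans ?_ (le_of_eq (LieAlgebra.zeroRootSubalgebra_eq_of_is_cartan K V C))
    intro v hv
    rw [LieAlgebra.mem_zeroRootSubalgebra]
    intro y
    have h1 := hall y y.2 hv
    rw [LieSubalgebra.mem_engel_iff] at h1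
    obtain ⟨k, hk⟩ := h1
    refine ⟨k, ?_⟩
    have h2 : LieModule.toEnd K C V y = LieAlgebra.ad K V (y : V) :=
      LinearMap.ext (fun _ => rfl)
    rw [h2]
    exact hk
  have heq : LieSubalgebra.engel K x = C := le_antisymm hxle (hCle x hxC)
  refine ⟨x, hxC, ?_⟩
  rw [LieAlgebra.isRegular_iff_finrank_engel_eq_rank, heq]
  exact hrank

end field

section fibreLie

variable {A : Type u} [CommRing A] {L : Type u} [LieRing L] [LieAlgebra A L]

theorem exists_pure_of_mem_fibre (p : PrimeSpectrum A) (H : LieSubalgebra A L)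
    {u : p.asIdeal.ResidueField ⊗[A] L}
    (hu : u ∈ H.toSubmodule.baseChange p.asIdeal.ResidueField) :
    ∃ (k : p.asIdeal.ResidueField) (h : L), h ∈ H ∧ u = k ⊗ₜ[A] h := by
  obtain ⟨z, rfl⟩ := LinearMap.mem_range.mp
    (show u ∈ LinearMap.range (H.toSubmodule.subtype.baseChange p.asIdeal.ResidueField) from hu)
  obtain ⟨k, h, rfl⟩ := Groth.Agent.S2964.exists_pure (L := H) p.asIdeal z
  exact ⟨k, h, h.2, rfl⟩

/-- The fibre of a Lie subalgebra at a prime, as a Lie subalgebra of the fibre Lie algebra. -/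
noncomputable def fibreLie (p : PrimeSpectrum A) (H : LieSubalgebra A L) :
    LieSubalgebra p.asIdeal.ResidueField (p.asIdeal.ResidueField ⊗[A] L) :=
  { H.toSubmodule.baseChange p.asIdeal.ResidueField with
    lie_mem' := by
      intro u v hu hv
      obtain ⟨k, h, hh, rfl⟩ := exists_pure_of_mem_fibre p H hu
      obtain ⟨k', h', hh', rfl⟩ := exists_pure_of_mem_fibre p H hv
      rw [LieAlgebra.ExtendScalars.bracket_tmul]
      exact Submodule.tmul_mem_baseChange_of_mem _ (H.lie_mem hh hh') }

theorem fibreLie_toSubmodule (p : PrimeSpectrum A) (H : LieSubalgebra A L) :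
    (fibreLie p H).toSubmodule = H.toSubmodule.baseChange p.asIdeal.ResidueField := rfl

theorem fibreLie_le_engel (p : PrimeSpectrum A) (H : LieSubalgebra A L)
    (hnil : LieRing.IsNilpotent (p.asIdeal.ResidueField ⊗[A] H)) :
    ∀ u ∈ fibreLie p H, fibreLie p H ≤ LieSubalgebra.engel p.asIdeal.ResidueField u := by
  intro u hu v hv
  obtain ⟨k, h, hh, rfl⟩ := exists_pure_of_mem_fibre p H hu
  obtain ⟨k', h', hh', rfl⟩ := exists_pure_of_mem_fibre p H hv
  haveI : LieModule.IsNilpotent (p.asIdeal.ResidueField ⊗[A] H)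
      (p.asIdeal.ResidueField ⊗[A] H) := hnil
  obtain ⟨N, hN⟩ := LieModule.exists_forall_pow_toEnd_eq_zero p.asIdeal.ResidueField
    (p.asIdeal.ResidueField ⊗[A] H) (p.asIdeal.ResidueField ⊗[A] H)
  rw [LieSubalgebra.mem_engel_iff]
  refine ⟨N, ?_⟩
  have h1 : (LieAlgebra.ad p.asIdeal.ResidueField (p.asIdeal.ResidueField ⊗[A] H)
      (k ⊗ₜ[A] (⟨h, hh⟩ : H)) ^ N) (k' ⊗ₜ[A] (⟨h', hh'⟩ : H)) = 0 := by
    have h0 : LieAlgebra.ad p.asIdeal.ResidueField (p.asIdeal.ResidueField ⊗[A] H)
        (k ⊗ₜ[A] (⟨h, hh⟩ : H)) ^ N = 0 := hN (k ⊗ₜ[A] (⟨h, hh⟩ : H))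
    rw [h0, LinearMap.zero_apply]
  rw [Groth.Agent.S2964.ad_tmul, smul_pow, ← LinearMap.baseChange_pow, LinearMap.smul_apply,
    LinearMap.baseChange_tmul] at h1 ⊢
  have h2 := congrArg (H.toSubmodule.subtype.baseChange p.asIdeal.ResidueField) h1
  rw [map_zero, map_smul, LinearMap.baseChange_tmul] at h2
  have hc : (H.toSubmodule.subtype ((LieAlgebra.ad A H ⟨h, hh⟩ ^ N) ⟨h', hh'⟩) : L) =
      (LieAlgebra.ad A L h ^ N) h' := LieSubalgebra.coe_ad_pow A L H ⟨h, hh⟩ ⟨h', hh'⟩ N
  rw [hc] at h2
  exact h2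

end fibreLie

section main

variable {A : Type u} [CommRing A] {L : Type u} [LieRing L] [LieAlgebra A L]
  [Module.Finite A L] [Module.Projective A L]

open SGA3t2b

theorem exists_regular_section (H : LieSubalgebra A L) (hH : IsCartanRel H)
    (p : PrimeSpectrum A) (hp : Infinite p.asIdeal.ResidueField) :
    ∃ a ∈ H, LieAlgebra.IsRegular p.asIdeal.ResidueField
      ((1 : p.asIdeal.ResidueField) ⊗ₜ[A] a) := by
  haveI := hp
  have hCn := fibreLie_le_engel p H (hH.2 p).1
  have hnil : LieRing.IsNilpotent (fibreLie p H) :=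
    LieSubalgebra.isNilpotent_of_forall_le_engel _ hCn
  obtain ⟨x, hxC, hxreg⟩ := exists_isRegular_mem_of_cartan (fibreLie p H) hnil
    (hH.2 p).2.1 (hH.2 p).2.2
  obtain ⟨k, h, hh, rfl⟩ := exists_pure_of_mem_fibre p H hxC
  by_cases hk : k = 0
  · refine ⟨0, H.zero_mem, ?_⟩
    rw [hk, TensorProduct.zero_tmul] at hxreg
    rw [TensorProduct.tmul_zero]
    exact hxreg
  · refine ⟨h, hh, ?_⟩
    have h1 : (1 : p.asIdeal.ResidueField) ⊗ₜ[A] h = k⁻¹ • (k ⊗ₜ[A] h) := by
      rw [TensorProduct.smul_tmul', smul_eq_mul, inv_mul_cancel₀ hk]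
    rw [h1]
    exact isRegular_smul (inv_ne_zero hk) hxreg

theorem exists_regular_nbhd (H : LieSubalgebra A L) (hH : IsCartanRel H) (p : PrimeSpectrum A)
    (hp : Infinite p.asIdeal.ResidueField) :
    ∃ f : A, f ∉ p.asIdeal ∧ ∃ a : L, a ∈ H ∧
      (∀ q : PrimeSpectrum A, f ∉ q.asIdeal →
        LieAlgebra.IsRegular q.asIdeal.ResidueField ((1 : q.asIdeal.ResidueField) ⊗ₜ[A] a)) ∧
      H ≤ LieSubalgebra.engel A a ∧
      ∀ y : L, y ∈ LieSubalgebra.engel A a → ∃ n : ℕ, f ^ n • y ∈ H := by
  obtain ⟨a, haH, hreg⟩ := exists_regular_section H hH p hp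
  have hle := le_engel_of_isCartanRel H hH haH
  have heqp := fibre_eq_engel_of_finrank p.asIdeal.ResidueField a H hle hreg (hH.2 p).2.2
  have hsurjp : Function.Surjective
      (LinearMap.baseChange p.asIdeal.ResidueField (adQ H a haH)) :=
    LinearMap.surjective_of_injective
      (adQ_baseChange_injective p.asIdeal.ResidueField H a haH heqp)
  obtain ⟨f, hfp, hf⟩ := exists_smul_mem_range_of_fibre_surjective (adQ H a haH) p hsurjp
  refine ⟨f, hfp, a, haH, ?_, hle, ?_⟩
  · intro q hfq
    have hfK : algebraMap A q.asIdeal.ResidueField f ≠ 0 :=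
      fun h0 => hfq (Ideal.algebraMap_residueField_eq_zero.mp h0)
    have hsurjq := baseChange_surjective_of_smul_mem_range (adQ H a haH) f hf
      q.asIdeal.ResidueField hfK
    have hinjq : Function.Injective
        (LinearMap.baseChange q.asIdeal.ResidueField (adQ H a haH)) :=
      LinearMap.injective_iff_surjective.mpr hsurjq
    have heqq : H.toSubmodule.baseChange q.asIdeal.ResidueField =
        (LieSubalgebra.engel q.asIdeal.ResidueField
          ((1 : q.asIdeal.ResidueField) ⊗ₜ[A] a)).toSubmodule :=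
      le_antisymm (baseChange_le_engel _ a H hle) (engel_le_baseChange _ H a haH hinjq)
    rw [LieAlgebra.isRegular_iff_finrank_engel_eq_rank]
    have h3 := (hH.2 q).2.2
    unfold fibreSubmodule at h3
    rw [heqq] at h3
    exact h3
  · intro y hy
    rw [LieSubalgebra.mem_engel_iff] at hy
    obtain ⟨m, hm⟩ := hy
    have h1 := adQ_pow_mk H a haH m y
    rw [hm, map_zero] at h1
    obtain ⟨n, hn⟩ := exists_pow_smul_eq_zero_of_smul_mem_range (adQ H a haH) f hf m _ h1
    refine ⟨n, ?_⟩
    rw [← map_smul] at hn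
    exact (Submodule.Quotient.mk_eq_zero _).mp hn

end main

end Groth.Agent.Lib.Helper24.CartanRel
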