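import Mathlib
import Groth.Agent.Lib.Helper24.CartanRelB

/-!
# Openness of the regular locus and base change of fibres

Helper library for S8376.
-/

set_option autoImplicit false
set_option maxHeartbeats 400000
set_option linter.style.haveILetI false
set_option linter.unusedSectionVars false

universe u

open scoped TensorProduct

namespace Groth.Agent.Lib.Helper24.CartanRel

section modules

variable {A : Type u} [CommRing A]

theorem exists_pure_module {M : Type u} [AddCommGroup M] [Module A M] (p : Ideal A) [p.IsPrime]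
    (z : p.ResidueField ⊗[A] M) : ∃ (k : p.ResidueField) (l : M), z = k ⊗ₜ[A] l := by
  induction z using TensorProduct.induction_on with
  | zero => exact ⟨0, 0, (TensorProduct.zero_tmul _ _).symm⟩
  | tmul k l => exact ⟨k, l, rfl⟩
  | add z₁ z₂ h₁ h₂ =>
    obtain ⟨k₁, l₁, rfl⟩ := h₁
    obtain ⟨k₂, l₂, rfl⟩ := h₂
    obtain ⟨a₁, s₁, hs₁, e₁⟩ := Groth.Agent.S2964.exists_frac p k₁
    obtain ⟨a₂, s₂, hs₂, e₂⟩ := Groth.Agent.S2964.exists_frac p k₂
    have hs₁' : algebraMap A p.ResidueField s₁ ≠ 0 := fun h0 =>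
      hs₁ (Ideal.algebraMap_residueField_eq_zero.mp h0)
    have hs₂' : algebraMap A p.ResidueField s₂ ≠ 0 := fun h0 =>
      hs₂ (Ideal.algebraMap_residueField_eq_zero.mp h0)
    have hk₁ : k₁ = (a₁ * s₂) • (algebraMap A p.ResidueField s₁ *
        algebraMap A p.ResidueField s₂)⁻¹ := by
      rw [Algebra.smul_def, map_mul, eq_mul_inv_iff_mul_eq₀ (mul_ne_zero hs₁' hs₂')]
      linear_combination (algebraMap A p.ResidueField s₂) * e₁
    have hk₂ : k₂ = (a₂ * s₁) • (algebraMap A p.ResidueField s₁ *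
        algebraMap A p.ResidueField s₂)⁻¹ := by
      rw [Algebra.smul_def, map_mul, eq_mul_inv_iff_mul_eq₀ (mul_ne_zero hs₁' hs₂')]
      linear_combination (algebraMap A p.ResidueField s₁) * e₂
    refine ⟨(algebraMap A p.ResidueField s₁ * algebraMap A p.ResidueField s₂)⁻¹,
      (a₁ * s₂) • l₁ + (a₂ * s₁) • l₂, ?_⟩
    rw [TensorProduct.tmul_add, TensorProduct.tmul_smul, TensorProduct.tmul_smul,
      TensorProduct.smul_tmul', TensorProduct.smul_tmul', ← hk₁, ← hk₂]

theorem span_one_tmul_eq_top {C : Type u} [AddCommGroup C] [Module A C] {r : ℕ} (c : Fin r → C)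
    (f : A) (hf : ∀ y : C, f • y ∈ Submodule.span A (Set.range c)) (K : Type u) [Field K]
    [Algebra A K] (hfK : algebraMap A K f ≠ 0) :
    Submodule.span K (Set.range (fun i => (1 : K) ⊗ₜ[A] c i)) = ⊤ := by
  have h1 : Set.range (fun i => (1 : K) ⊗ₜ[A] c i) =
      (TensorProduct.mk A K C 1) '' Set.range c := by
    rw [← Set.range_comp]; rfl
  rw [h1, ← Submodule.baseChange_span, eq_top_iff]
  rintro w -
  induction w using TensorProduct.induction_on with
  | zero => exact Submodule.zero_mem _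
  | tmul k y =>
    have hk : f • (k * (algebraMap A K f)⁻¹) = k := by
      rw [Algebra.smul_def]
      field_simp
    have h2 : k ⊗ₜ[A] y = (k * (algebraMap A K f)⁻¹) ⊗ₜ[A] (f • y) := by
      rw [TensorProduct.tmul_smul, TensorProduct.smul_tmul', hk]
    rw [h2]
    exact Submodule.tmul_mem_baseChange_of_mem _ (hf y)
  | add v w hv hw => exact Submodule.add_mem _ hv hw

theorem finrank_fibre_le {C : Type u} [AddCommGroup C] [Module A C] {r : ℕ} (c : Fin r → C)
    (f : A) (hf : ∀ y : C, f • y ∈ Submodule.span A (Set.range c)) (K : Type u) [Field K]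
    [Algebra A K] (hfK : algebraMap A K f ≠ 0) : Module.finrank K (K ⊗[A] C) ≤ r := by
  have hspan := span_one_tmul_eq_top c f hf K hfK
  have h2 := finrank_range_le_card (R := K) (fun i : Fin r => (1 : K) ⊗ₜ[A] c i)
  rw [Set.finrank, hspan, finrank_top, Fintype.card_fin] at h2
  exact h2

theorem exists_nbhd_finrank_fibre_le (C : Type u) [AddCommGroup C] [Module A C]
    [Module.Finite A C] (p : PrimeSpectrum A) :
    ∃ f : A, f ∉ p.asIdeal ∧ ∀ q : PrimeSpectrum A, f ∉ q.asIdeal →
      Module.finrank q.asIdeal.ResidueField (q.asIdeal.ResidueField ⊗[A] C) ≤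
        Module.finrank p.asIdeal.ResidueField (p.asIdeal.ResidueField ⊗[A] C) := by
  have b := Module.finBasis p.asIdeal.ResidueField (p.asIdeal.ResidueField ⊗[A] C)
  choose k c hkc using fun i => exists_pure_module p.asIdeal (b i)
  have hsurj : Function.Surjective
      ((Fintype.linearCombination A c).baseChange p.asIdeal.ResidueField) := by
    rw [← LinearMap.range_eq_top, eq_top_iff, ← b.span_eq, Submodule.span_le]
    rintro _ ⟨i, rfl⟩
    refine ⟨k i ⊗ₜ[A] Pi.single i 1, ?_⟩
    rw [LinearMap.baseChange_tmul, Fintype.linearCombination_apply_single, one_smul, ← hkc i]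
  obtain ⟨f, hfp, hf⟩ := exists_smul_mem_range_of_fibre_surjective _ p hsurj
  refine ⟨f, hfp, fun q hfq => ?_⟩
  have hfK : algebraMap A q.asIdeal.ResidueField f ≠ 0 :=
    fun h0 => hfq (Ideal.algebraMap_residueField_eq_zero.mp h0)
  refine finrank_fibre_le c f (fun y => ?_) q.asIdeal.ResidueField hfK
  have h1 := hf y
  rwa [Fintype.range_linearCombination] at h1

end modules

section open_

variable {A : Type u} [CommRing A] {L : Type u} [LieRing L] [LieAlgebra A L] [Module.Finite A L]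

theorem finrank_engel_eq (K : Type u) [Field K] [Algebra A K] (a : L) (N : ℕ)
    (hN : Module.finrank K (K ⊗[A] L) ≤ N) :
    Module.finrank K (LieSubalgebra.engel K ((1 : K) ⊗ₜ[A] a)) =
      Module.finrank K (K ⊗[A] (L ⧸ LinearMap.range ((LieAlgebra.ad A L a) ^ N))) := by
  have hpow : (LieAlgebra.ad K (K ⊗[A] L) ((1 : K) ⊗ₜ[A] a)) ^ N =
      ((LieAlgebra.ad A L a) ^ N).baseChange K := by
    rw [Groth.Agent.S2964.ad_tmul, one_smul, ← LinearMap.baseChange_pow]
  have hker : (LieSubalgebra.engel K ((1 : K) ⊗ₜ[A] a)).toSubmodule =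
      LinearMap.ker (((LieAlgebra.ad A L a) ^ N).baseChange K) := by
    ext v
    rw [LieSubalgebra.mem_toSubmodule, LieSubalgebra.mem_engel_iff, LinearMap.mem_ker, ← hpow]
    constructor
    · rintro ⟨n, hn⟩
      have h1 : v ∈ LinearMap.ker
          ((LieAlgebra.ad K (K ⊗[A] L) ((1 : K) ⊗ₜ[A] a)) ^ n) := hn
      have h2 := Module.End.ker_pow_le_ker_pow_finrank _ n h1
      exact Module.End.pow_map_zero_of_le hN h2
    · intro h
      exact ⟨N, h⟩
  have h1 := LinearMap.finrank_range_add_finrank_ker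
    (((LieAlgebra.ad A L a) ^ N).baseChange K)
  have hex := lTensor_exact K (LinearMap.exact_map_mkQ_range ((LieAlgebra.ad A L a) ^ N))
    (Submodule.mkQ_surjective _)
  have hπsurj : Function.Surjective
      ((LinearMap.range ((LieAlgebra.ad A L a) ^ N)).mkQ.baseChange K) :=
    baseChange_surjective K _ (Submodule.mkQ_surjective _)
  have hkerπ : LinearMap.ker ((LinearMap.range ((LieAlgebra.ad A L a) ^ N)).mkQ.baseChange K) =
      LinearMap.range (((LieAlgebra.ad A L a) ^ N).baseChange K) := by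
    ext v
    rw [LinearMap.mem_ker, LinearMap.mem_range]
    exact hex v
  have h2 := LinearMap.finrank_range_add_finrank_ker
    ((LinearMap.range ((LieAlgebra.ad A L a) ^ N)).mkQ.baseChange K)
  rw [LinearMap.range_eq_top.mpr hπsurj, finrank_top, hkerπ] at h2
  have h3 : Module.finrank K ↥(LieSubalgebra.engel K ((1 : K) ⊗ₜ[A] a)) =
      Module.finrank K ↥(LinearMap.ker (((LieAlgebra.ad A L a) ^ N).baseChange K)) := by
    rw [← hker]
    rfl
  omega

theorem exists_regular_nbhd_of_rank_const (a : L) (p : PrimeSpectrum A)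
    (hreg : LieAlgebra.IsRegular p.asIdeal.ResidueField ((1 : p.asIdeal.ResidueField) ⊗ₜ[A] a))
    (hconst : ∃ g : A, g ∉ p.asIdeal ∧ ∀ q : PrimeSpectrum A, g ∉ q.asIdeal →
      LieAlgebra.rank q.asIdeal.ResidueField (q.asIdeal.ResidueField ⊗[A] L) =
        LieAlgebra.rank p.asIdeal.ResidueField (p.asIdeal.ResidueField ⊗[A] L)) :
    ∃ f : A, f ∉ p.asIdeal ∧ ∀ q : PrimeSpectrum A, f ∉ q.asIdeal →
      LieAlgebra.IsRegular q.asIdeal.ResidueField ((1 : q.asIdeal.ResidueField) ⊗ₜ[A] a) := by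
  obtain ⟨N, g₀, hg₀⟩ := Module.Finite.exists_fin (R := A) (M := L)
  have hN : ∀ q : PrimeSpectrum A,
      Module.finrank q.asIdeal.ResidueField (q.asIdeal.ResidueField ⊗[A] L) ≤ N :=
    fun q => Groth.Agent.S2964.finrank_baseChange_le q.asIdeal.ResidueField g₀ hg₀
  obtain ⟨g, hgp, hg⟩ := hconst
  obtain ⟨f₁, hf₁p, hf₁⟩ := exists_nbhd_finrank_fibre_le
    (L ⧸ LinearMap.range ((LieAlgebra.ad A L a) ^ N)) p
  refine ⟨f₁ * g, ?_, fun q hq => ?_⟩
  · exact fun h => (p.isPrime.mem_or_mem h).elim hf₁p hgp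
  · have hf₁q : f₁ ∉ q.asIdeal := fun h => hq (q.asIdeal.mul_mem_right _ h)
    have hgq : g ∉ q.asIdeal := fun h => hq (q.asIdeal.mul_mem_left _ h)
    rw [LieAlgebra.isRegular_iff_finrank_engel_eq_rank]
    refine le_antisymm ?_ (LieAlgebra.rank_le_finrank_engel _ _)
    rw [hg q hgq, ← (LieAlgebra.isRegular_iff_finrank_engel_eq_rank _ _).mp hreg,
      finrank_engel_eq _ a N (hN q), finrank_engel_eq _ a N (hN p)]
    exact hf₁ q hf₁q

end open_

section iso

variable {K : Type*} [Field K] {V₁ V₂ : Type*} [LieRing V₁] [LieAlgebra K V₁] [LieRing V₂]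
  [LieAlgebra K V₂] [Module.Finite K V₁] [Module.Finite K V₂]

attribute [local instance 100] LieRing.ofAssociativeRing

theorem polyCharpoly_ad_map (e : V₁ ≃ₗ[K] V₂) (he : ∀ x y, e ⁅x, y⁆ = ⁅e x, e y⁆)
    {ι : Type*} [Fintype ι] [DecidableEq ι] (b₁ : Module.Basis ι K V₁) :
    LinearMap.polyCharpoly (LieAlgebra.ad K V₂).toLinearMap (b₁.map e) =
      LinearMap.polyCharpoly (LieAlgebra.ad K V₁).toLinearMap b₁ := by
  rw [LinearMap.polyCharpoly_eq_of_basis _ (b₁.map e) (b₁.map e),
    LinearMap.polyCharpoly_eq_of_basis _ b₁ b₁]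
  have hM : LinearMap.toMatrix (b₁.map e) (b₁.map e).end (LieAlgebra.ad K V₂).toLinearMap =
      LinearMap.toMatrix b₁ b₁.end (LieAlgebra.ad K V₁).toLinearMap := by
    ext ij k
    rw [LinearMap.toMatrix_apply, LinearMap.toMatrix_apply, Module.Basis.end_repr_apply,
      Module.Basis.end_repr_apply]
    have h2 : LinearMap.toMatrix (b₁.map e) (b₁.map e)
        ((LieAlgebra.ad K V₂).toLinearMap ((b₁.map e) k)) =
        LinearMap.toMatrix b₁ b₁ ((LieAlgebra.ad K V₁).toLinearMap (b₁ k)) := by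
      ext i j
      rw [LinearMap.toMatrix_apply, LinearMap.toMatrix_apply]
      simp only [Module.Basis.map_apply, Module.Basis.map_repr, LinearEquiv.trans_apply,
        LieHom.coe_toLinearMap, LieAlgebra.ad_apply]
      rw [← he, LinearEquiv.symm_apply_apply]
    rw [h2]
  have hP : LinearMap.toMvPolynomial (b₁.map e) (b₁.map e).end
      (LieAlgebra.ad K V₂).toLinearMap =
      LinearMap.toMvPolynomial b₁ b₁.end (LieAlgebra.ad K V₁).toLinearMap := by
    funext ij
    unfold LinearMap.toMvPolynomial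
    rw [hM]
  rw [hP]

theorem rank_eq_of_linearEquiv (e : V₁ ≃ₗ[K] V₂) (he : ∀ x y, e ⁅x, y⁆ = ⁅e x, e y⁆) :
    LieAlgebra.rank K V₂ = LieAlgebra.rank K V₁ := by
  classical
  have b₁ := Module.Free.chooseBasis K V₁
  rw [LieAlgebra.rank_eq_natTrailingDegree K V₂ (b₁.map e),
    LieAlgebra.rank_eq_natTrailingDegree K V₁ b₁, polyCharpoly_ad_map e he b₁]

theorem isRegular_of_linearEquiv (e : V₁ ≃ₗ[K] V₂) (he : ∀ x y, e ⁅x, y⁆ = ⁅e x, e y⁆)
    (x : V₁) : LieAlgebra.IsRegular K (e x) ↔ LieAlgebra.IsRegular K x := by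
  have hconj : LieAlgebra.ad K V₂ (e x) = e.conj (LieAlgebra.ad K V₁ x) := by
    ext y
    rw [LinearEquiv.conj_apply_apply, LieAlgebra.ad_apply, LieAlgebra.ad_apply, he,
      LinearEquiv.apply_symm_apply]
  rw [LieAlgebra.isRegular_def, LieAlgebra.isRegular_def, hconj, LinearEquiv.charpoly_conj,
    rank_eq_of_linearEquiv e he]

end iso

section cancel

variable {A : Type u} [CommRing A] {L : Type u} [LieRing L] [LieAlgebra A L]
variable (B : Type u) [CommRing B] [Algebra A B] (K : Type u) [CommRing K] [Algebra A K]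
  [Algebra B K] [IsScalarTower A B K]

theorem cb_zero_left (v : K ⊗[B] (B ⊗[A] L)) :
    TensorProduct.AlgebraTensorModule.cancelBaseChange A B K K L
      ⁅(0 : K ⊗[B] (B ⊗[A] L)), v⁆ =
      ⁅TensorProduct.AlgebraTensorModule.cancelBaseChange A B K K L (0 : K ⊗[B] (B ⊗[A] L)),
        TensorProduct.AlgebraTensorModule.cancelBaseChange A B K K L v⁆ := by
  have h : ⁅(0 : K ⊗[B] (B ⊗[A] L)), v⁆ = 0 := zero_lie v
  rw [h, map_zero, zero_lie]

theorem cb_zero_right (u : K ⊗[B] (B ⊗[A] L)) :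
    TensorProduct.AlgebraTensorModule.cancelBaseChange A B K K L
      ⁅u, (0 : K ⊗[B] (B ⊗[A] L))⁆ =
      ⁅TensorProduct.AlgebraTensorModule.cancelBaseChange A B K K L u,
        TensorProduct.AlgebraTensorModule.cancelBaseChange A B K K L
          (0 : K ⊗[B] (B ⊗[A] L))⁆ := by
  have h : ⁅u, (0 : K ⊗[B] (B ⊗[A] L))⁆ = 0 := lie_zero u
  rw [h, map_zero, lie_zero]

theorem cb_add_left (u₁ u₂ v : K ⊗[B] (B ⊗[A] L))
    (h₁ : TensorProduct.AlgebraTensorModule.cancelBaseChange A B K K L ⁅u₁, v⁆ =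
      ⁅TensorProduct.AlgebraTensorModule.cancelBaseChange A B K K L u₁,
        TensorProduct.AlgebraTensorModule.cancelBaseChange A B K K L v⁆)
    (h₂ : TensorProduct.AlgebraTensorModule.cancelBaseChange A B K K L ⁅u₂, v⁆ =
      ⁅TensorProduct.AlgebraTensorModule.cancelBaseChange A B K K L u₂,
        TensorProduct.AlgebraTensorModule.cancelBaseChange A B K K L v⁆) :
    TensorProduct.AlgebraTensorModule.cancelBaseChange A B K K L ⁅u₁ + u₂, v⁆ =
      ⁅TensorProduct.AlgebraTensorModule.cancelBaseChange A B K K L (u₁ + u₂),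
        TensorProduct.AlgebraTensorModule.cancelBaseChange A B K K L v⁆ := by
  have h : ⁅u₁ + u₂, v⁆ = ⁅u₁, v⁆ + ⁅u₂, v⁆ := add_lie u₁ u₂ v
  rw [h, map_add, map_add, add_lie, h₁, h₂]

theorem cb_add_right (u v₁ v₂ : K ⊗[B] (B ⊗[A] L))
    (h₁ : TensorProduct.AlgebraTensorModule.cancelBaseChange A B K K L ⁅u, v₁⁆ =
      ⁅TensorProduct.AlgebraTensorModule.cancelBaseChange A B K K L u,
        TensorProduct.AlgebraTensorModule.cancelBaseChange A B K K L v₁⁆)
    (h₂ : TensorProduct.AlgebraTensorModule.cancelBaseChange A B K K L ⁅u, v₂⁆ =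
      ⁅TensorProduct.AlgebraTensorModule.cancelBaseChange A B K K L u,
        TensorProduct.AlgebraTensorModule.cancelBaseChange A B K K L v₂⁆) :
    TensorProduct.AlgebraTensorModule.cancelBaseChange A B K K L ⁅u, v₁ + v₂⁆ =
      ⁅TensorProduct.AlgebraTensorModule.cancelBaseChange A B K K L u,
        TensorProduct.AlgebraTensorModule.cancelBaseChange A B K K L (v₁ + v₂)⁆ := by
  have h : ⁅u, v₁ + v₂⁆ = ⁅u, v₁⁆ + ⁅u, v₂⁆ := lie_add u v₁ v₂
  rw [h, map_add, map_add, lie_add, h₁, h₂]

theorem cb_tmul (k : K) (b : B) (l : L) (k₂ : K) (b₂ : B) (l₂ : L) :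
    TensorProduct.AlgebraTensorModule.cancelBaseChange A B K K L
      ⁅k ⊗ₜ[B] (b ⊗ₜ[A] l), k₂ ⊗ₜ[B] (b₂ ⊗ₜ[A] l₂)⁆ =
      ⁅TensorProduct.AlgebraTensorModule.cancelBaseChange A B K K L (k ⊗ₜ[B] (b ⊗ₜ[A] l)),
        TensorProduct.AlgebraTensorModule.cancelBaseChange A B K K L
          (k₂ ⊗ₜ[B] (b₂ ⊗ₜ[A] l₂))⁆ := by
  rw [LieAlgebra.ExtendScalars.bracket_tmul, LieAlgebra.ExtendScalars.bracket_tmul,
    TensorProduct.AlgebraTensorModule.cancelBaseChange_tmul,
    TensorProduct.AlgebraTensorModule.cancelBaseChange_tmul,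
    TensorProduct.AlgebraTensorModule.cancelBaseChange_tmul,
    LieAlgebra.ExtendScalars.bracket_tmul, smul_mul_smul_comm]

theorem cancelBaseChange_lie (u v : K ⊗[B] (B ⊗[A] L)) :
    TensorProduct.AlgebraTensorModule.cancelBaseChange A B K K L ⁅u, v⁆ =
      ⁅TensorProduct.AlgebraTensorModule.cancelBaseChange A B K K L u,
        TensorProduct.AlgebraTensorModule.cancelBaseChange A B K K L v⁆ := by
  induction u using TensorProduct.induction_on with
  | zero => exact cb_zero_left B K v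
  | add u₁ u₂ h₁ h₂ => exact cb_add_left B K u₁ u₂ v h₁ h₂
  | tmul k w =>
    induction w using TensorProduct.induction_on with
    | zero =>
      rw [TensorProduct.tmul_zero]
      exact cb_zero_left B K v
    | add w₁ w₂ h₁ h₂ =>
      rw [TensorProduct.tmul_add]
      exact cb_add_left B K _ _ v h₁ h₂
    | tmul b l =>
      induction v using TensorProduct.induction_on with
      | zero => exact cb_zero_right B K _
      | add v₁ v₂ h₁ h₂ => exact cb_add_right B K _ v₁ v₂ h₁ h₂
      | tmul k₂ w₂ =>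
        induction w₂ using TensorProduct.induction_on with
        | zero =>
          rw [TensorProduct.tmul_zero]
          exact cb_zero_right B K _
        | add w₁ w₂ h₁ h₂ =>
          rw [TensorProduct.tmul_add]
          exact cb_add_right B K _ _ _ h₁ h₂
        | tmul b₂ l₂ => exact cb_tmul B K k b l k₂ b₂ l₂

end cancel

section transfer

variable {A : Type u} [CommRing A] {L : Type u} [LieRing L] [LieAlgebra A L] [Module.Finite A L]

theorem rank_cancel (B : Type u) [CommRing B] [Algebra A B] (K : Type u) [Field K] [Algebra A K]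
    [Algebra B K] [IsScalarTower A B K] :
    LieAlgebra.rank K (K ⊗[B] (B ⊗[A] L)) = LieAlgebra.rank K (K ⊗[A] L) :=
  (rank_eq_of_linearEquiv (TensorProduct.AlgebraTensorModule.cancelBaseChange A B K K L)
    (cancelBaseChange_lie B K)).symm

theorem isRegular_cancel (B : Type u) [CommRing B] [Algebra A B] (K : Type u) [Field K]
    [Algebra A K] [Algebra B K] [IsScalarTower A B K] (a : L) :
    LieAlgebra.IsRegular K ((1 : K) ⊗ₜ[B] ((1 : B) ⊗ₜ[A] a)) ↔
      LieAlgebra.IsRegular K ((1 : K) ⊗ₜ[A] a) := by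
  have h := isRegular_of_linearEquiv
    (TensorProduct.AlgebraTensorModule.cancelBaseChange A B K K L)
    (cancelBaseChange_lie B K) ((1 : K) ⊗ₜ[B] ((1 : B) ⊗ₜ[A] a))
  rw [TensorProduct.AlgebraTensorModule.cancelBaseChange_tmul, one_smul] at h
  exact h.symm

theorem rank_fieldExt (K K' : Type u) [Field K] [Field K'] [Algebra A K] [Algebra A K']
    [Algebra K K'] [IsScalarTower A K K'] :
    LieAlgebra.rank K' (K' ⊗[A] L) = LieAlgebra.rank K (K ⊗[A] L) := by
  rw [← rank_cancel K K', rank_baseChange K']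

theorem isRegular_fieldExt (K K' : Type u) [Field K] [Field K'] [Algebra A K] [Algebra A K']
    [Algebra K K'] [IsScalarTower A K K'] (a : L)
    (h : LieAlgebra.IsRegular K ((1 : K) ⊗ₜ[A] a)) :
    LieAlgebra.IsRegular K' ((1 : K') ⊗ₜ[A] a) :=
  (isRegular_cancel K K' a).mp (isRegular_baseChange K' _ h)

theorem isRegular_fibre_baseChange (A' : Type u) [CommRing A'] [Algebra A A']
    (q' : PrimeSpectrum A') (a : L)
    (h : LieAlgebra.IsRegular (q'.comap (algebraMap A A')).asIdeal.ResidueField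
      ((1 : (q'.comap (algebraMap A A')).asIdeal.ResidueField) ⊗ₜ[A] a)) :
    LieAlgebra.IsRegular q'.asIdeal.ResidueField
      ((1 : q'.asIdeal.ResidueField) ⊗ₜ[A'] ((1 : A') ⊗ₜ[A] a)) := by
  letI : Algebra (q'.comap (algebraMap A A')).asIdeal.ResidueField q'.asIdeal.ResidueField :=
    (Ideal.ResidueField.map (q'.comap (algebraMap A A')).asIdeal q'.asIdeal
      (algebraMap A A') rfl).toAlgebra
  haveI : IsScalarTower A (q'.comap (algebraMap A A')).asIdeal.ResidueField
      q'.asIdeal.ResidueField := by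
    refine IsScalarTower.of_algebraMap_eq (fun r => ?_)
    rw [RingHom.algebraMap_toAlgebra, Ideal.ResidueField.map_algebraMap,
      IsScalarTower.algebraMap_apply A A' q'.asIdeal.ResidueField]
  rw [isRegular_cancel A' q'.asIdeal.ResidueField a]
  exact isRegular_fieldExt (q'.comap (algebraMap A A')).asIdeal.ResidueField
    q'.asIdeal.ResidueField a h

theorem rank_fibre_baseChange (A' : Type u) [CommRing A'] [Algebra A A']
    (q' : PrimeSpectrum A') :
    LieAlgebra.rank q'.asIdeal.ResidueField (q'.asIdeal.ResidueField ⊗[A'] (A' ⊗[A] L)) =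
      LieAlgebra.rank (q'.comap (algebraMap A A')).asIdeal.ResidueField
        ((q'.comap (algebraMap A A')).asIdeal.ResidueField ⊗[A] L) := by
  letI : Algebra (q'.comap (algebraMap A A')).asIdeal.ResidueField q'.asIdeal.ResidueField :=
    (Ideal.ResidueField.map (q'.comap (algebraMap A A')).asIdeal q'.asIdeal
      (algebraMap A A') rfl).toAlgebra
  haveI : IsScalarTower A (q'.comap (algebraMap A A')).asIdeal.ResidueField
      q'.asIdeal.ResidueField := by
    refine IsScalarTower.of_algebraMap_eq (fun r => ?_)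
    rw [RingHom.algebraMap_toAlgebra, Ideal.ResidueField.map_algebraMap,
      IsScalarTower.algebraMap_apply A A' q'.asIdeal.ResidueField]
  rw [rank_cancel A' q'.asIdeal.ResidueField]
  exact rank_fieldExt (q'.comap (algebraMap A A')).asIdeal.ResidueField q'.asIdeal.ResidueField

end transfer

section main

variable {A : Type u} [CommRing A] {L : Type u} [LieRing L] [LieAlgebra A L]
  [Module.Finite A L] [Module.Projective A L]

open SGA3t2b

theorem exists_one_tmul_regular (p : PrimeSpectrum A)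
    (hp : ∃ x : p.asIdeal.ResidueField ⊗[A] L, LieAlgebra.IsRegular p.asIdeal.ResidueField x) :
    ∃ a : L, LieAlgebra.IsRegular p.asIdeal.ResidueField
      ((1 : p.asIdeal.ResidueField) ⊗ₜ[A] a) := by
  obtain ⟨x, hx⟩ := hp
  obtain ⟨k, l, rfl⟩ := Groth.Agent.S2964.exists_pure p.asIdeal x
  by_cases hk : k = 0
  · refine ⟨0, ?_⟩
    rw [hk, TensorProduct.zero_tmul] at hx
    rw [TensorProduct.tmul_zero]
    exact hx
  · refine ⟨l, ?_⟩
    have h1 : (1 : p.asIdeal.ResidueField) ⊗ₜ[A] l = k⁻¹ • (k ⊗ₜ[A] l) := by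
      rw [TensorProduct.smul_tmul', smul_eq_mul, inv_mul_cancel₀ hk]
    rw [h1]
    exact isRegular_smul (inv_ne_zero hk) hx

theorem exists_cartanRel_locally
    (hC2 : ((∀ p : PrimeSpectrum A, ∃ f : A, f ∉ p.asIdeal ∧ ∀ q : PrimeSpectrum A,
        f ∉ q.asIdeal →
        LieAlgebra.rank q.asIdeal.ResidueField (q.asIdeal.ResidueField ⊗[A] L) =
          LieAlgebra.rank p.asIdeal.ResidueField (p.asIdeal.ResidueField ⊗[A] L)) ∧
      ∀ (A' : Type u) [CommRing A'] [Algebra A A'] (a' : A' ⊗[A] L),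
        SGA3t2b.IsQuasiRegular A' (A' ⊗[A] L) a' → SGA3t2b.IsRegularRel A' (A' ⊗[A] L) a'))
    (p : PrimeSpectrum A)
    (hp : ∃ x : p.asIdeal.ResidueField ⊗[A] L, LieAlgebra.IsRegular p.asIdeal.ResidueField x) :
    ∃ f : A, f ∉ p.asIdeal ∧
      ∃ H : LieSubalgebra (Localization.Away f) (Localization.Away f ⊗[A] L),
        SGA3t2b.IsCartanRel H := by
  obtain ⟨a, ha⟩ := exists_one_tmul_regular p hp
  obtain ⟨f, hfp, hf⟩ := exists_regular_nbhd_of_rank_const a p ha (hC2.1 p)
  refine ⟨f, hfp, ?_⟩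
  have hq : IsQuasiRegular (Localization.Away f) (Localization.Away f ⊗[A] L)
      ((1 : Localization.Away f) ⊗ₜ[A] a) := by
    intro q'
    have hfq : f ∉ (q'.comap (algebraMap A (Localization.Away f))).asIdeal := by
      intro h
      have h1 : algebraMap A (Localization.Away f) f ∈ q'.asIdeal := h
      exact q'.isPrime.ne_top (Ideal.eq_top_of_isUnit_mem _ h1
        (IsLocalization.Away.algebraMap_isUnit f))
    exact isRegular_fibre_baseChange (Localization.Away f) q' a (hf _ hfq)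
  obtain ⟨-, H, hH, -⟩ := hC2.2 (Localization.Away f) ((1 : Localization.Away f) ⊗ₜ[A] a) hq
  exact ⟨H, hH⟩

end main

end Groth.Agent.Lib.Helper24.CartanRel
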