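import Mathlib
import Groth.Agent.Lib.Helper24.CartanRelC

/-!
# A Zariski cover (as an étale faithfully flat algebra) carrying a relative Cartan subalgebra

Helper library for S8377.
-/

set_option autoImplicit false
set_option maxHeartbeats 400000
set_option linter.style.haveILetI false
set_option linter.unusedSectionVars false

universe u

open scoped TensorProduct

namespace Groth.Agent.Lib.Helper24.CartanRel

section cover

variable {A : Type u} [CommRing A]

/-- The product of the localisations away from the elements of a finite set. -/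
abbrev Cov (T : Finset A) : Type u := Π t : T, Localization.Away (t : A)

theorem cov_comap_surjective (T : Finset A)
    (hcover : ∀ p : PrimeSpectrum A, ∃ t : T, (t : A) ∉ p.asIdeal) :
    Function.Surjective (PrimeSpectrum.comap (algebraMap A (Cov T))) := by
  intro p
  obtain ⟨t, ht⟩ := hcover p
  have hdisj : Disjoint (Submonoid.powers (t : A) : Set A) (p.asIdeal : Set A) := by
    rw [Set.disjoint_left]
    rintro x ⟨n, rfl⟩ hx
    exact ht (p.isPrime.mem_of_pow_mem n hx)
  have hprime := IsLocalization.isPrime_of_isPrime_disjoint (Submonoid.powers (t : A))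
    (Localization.Away (t : A)) p.asIdeal p.isPrime hdisj
  have hcomap : Ideal.comap (algebraMap A (Localization.Away (t : A)))
      (Ideal.map (algebraMap A (Localization.Away (t : A))) p.asIdeal) = p.asIdeal :=
    IsLocalization.under_map_of_isPrime_disjoint (Submonoid.powers (t : A))
      (Localization.Away (t : A)) p.isPrime hdisj
  refine ⟨⟨Ideal.comap (Pi.evalRingHom (fun t : T => Localization.Away (t : A)) t)
    (Ideal.map (algebraMap A (Localization.Away (t : A))) p.asIdeal), ?_⟩, ?_⟩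
  · haveI := hprime
    exact Ideal.comap_isPrime _ _
  · apply PrimeSpectrum.ext
    show Ideal.comap (algebraMap A (Cov T)) (Ideal.comap
      (Pi.evalRingHom (fun t : T => Localization.Away (t : A)) t)
      (Ideal.map (algebraMap A (Localization.Away (t : A))) p.asIdeal)) = p.asIdeal
    rw [Ideal.comap_comap]
    exact hcomap

end cover

section main

variable {A : Type u} [CommRing A] {L : Type u} [LieRing L] [LieAlgebra A L]
  [Module.Finite A L] [Module.Projective A L]

open SGA3t2b

open Classical in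
theorem cov_quasiRegular (T : Finset A) (b : T → L)
    (hb : ∀ (t : T) (q : PrimeSpectrum A), (t : A) ∉ q.asIdeal →
      LieAlgebra.IsRegular q.asIdeal.ResidueField ((1 : q.asIdeal.ResidueField) ⊗ₜ[A] b t)) :
    IsQuasiRegular (Cov T) (Cov T ⊗[A] L) (∑ t : T, (Pi.single t 1 : Cov T) ⊗ₜ[A] b t) := by
  classical
  intro q'
  have hsum : ∑ t : T, (Pi.single t 1 : Cov T) = 1 := Finset.univ_sum_single (1 : Cov T)
  obtain ⟨j, hj⟩ : ∃ j : T, (Pi.single j 1 : Cov T) ∉ q'.asIdeal := by
    by_contra hcon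
    push Not at hcon
    have h1 : (1 : Cov T) ∈ q'.asIdeal := by
      rw [← hsum]
      exact Ideal.sum_mem _ (fun t _ => hcon t)
    exact q'.isPrime.ne_top ((Ideal.eq_top_iff_one _).mpr h1)
  have hi : ∀ i : T, i ≠ j → (Pi.single i 1 : Cov T) ∈ q'.asIdeal := by
    intro i hij
    have h0 : (Pi.single i 1 : Cov T) * Pi.single j 1 = 0 := by
      funext k
      rw [Pi.mul_apply, Pi.zero_apply]
      by_cases hk : k = i
      · rw [hk, Pi.single_eq_of_ne hij, mul_zero]
      · rw [Pi.single_eq_of_ne hk, zero_mul]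
    have h1 : (Pi.single i 1 : Cov T) * Pi.single j 1 ∈ q'.asIdeal := by
      rw [h0]
      exact q'.asIdeal.zero_mem
    exact (q'.isPrime.mem_or_mem h1).resolve_right hj
  have hκi : ∀ i : T, i ≠ j →
      algebraMap (Cov T) q'.asIdeal.ResidueField (Pi.single i 1) = 0 :=
    fun i hij => Ideal.algebraMap_residueField_eq_zero.mpr (hi i hij)
  have hκj : algebraMap (Cov T) q'.asIdeal.ResidueField (Pi.single j 1) = 1 := by
    have h1 := congrArg (algebraMap (Cov T) q'.asIdeal.ResidueField) hsum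
    rw [map_sum, map_one, Finset.sum_eq_single j (fun i _ hij => hκi i hij)
      (fun h => absurd (Finset.mem_univ j) h)] at h1
    exact h1
  have hterm : ∀ i : T, (1 : q'.asIdeal.ResidueField) ⊗ₜ[Cov T]
      ((Pi.single i 1 : Cov T) ⊗ₜ[A] b i) =
      (algebraMap (Cov T) q'.asIdeal.ResidueField (Pi.single i 1)) ⊗ₜ[Cov T]
        ((1 : Cov T) ⊗ₜ[A] b i) := by
    intro i
    have h1 : (Pi.single i 1 : Cov T) ⊗ₜ[A] b i =
        (Pi.single i 1 : Cov T) • ((1 : Cov T) ⊗ₜ[A] b i) := by
      rw [TensorProduct.smul_tmul', smul_eq_mul, mul_one]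
    rw [h1, ← TensorProduct.smul_tmul, Algebra.smul_def, mul_one]
  have hten : (1 : q'.asIdeal.ResidueField) ⊗ₜ[Cov T]
      (∑ t : T, (Pi.single t 1 : Cov T) ⊗ₜ[A] b t) =
      (1 : q'.asIdeal.ResidueField) ⊗ₜ[Cov T] ((1 : Cov T) ⊗ₜ[A] b j) := by
    rw [TensorProduct.tmul_sum, Finset.sum_eq_single j]
    · rw [hterm, hκj]
    · intro i _ hij
      rw [hterm, hκi i hij, TensorProduct.zero_tmul]
    · intro h
      exact absurd (Finset.mem_univ j) h
  rw [hten]
  have hjq : (j : A) ∉ (q'.comap (algebraMap A (Cov T))).asIdeal := by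
    intro h
    have h1 : algebraMap A (Cov T) (j : A) ∈ q'.asIdeal := h
    apply hj
    have h2 : (Pi.single j 1 : Cov T) =
        Pi.single j (IsLocalization.Away.invSelf (j : A)) * algebraMap A (Cov T) (j : A) := by
      funext k
      rw [Pi.mul_apply]
      by_cases hk : k = j
      · subst hk
        rw [Pi.single_eq_same, Pi.single_eq_same, Pi.algebraMap_apply, mul_comm,
          IsLocalization.Away.mul_invSelf]
      · rw [Pi.single_eq_of_ne hk, Pi.single_eq_of_ne hk, zero_mul]
    rw [h2]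
    exact q'.asIdeal.mul_mem_left _ h1
  exact isRegular_fibre_baseChange (Cov T) q' (b j) (hb j _ hjq)

theorem main_aux (T : Finset A) (b : T → L)
    (hb : ∀ (t : T) (q : PrimeSpectrum A), (t : A) ∉ q.asIdeal →
      LieAlgebra.IsRegular q.asIdeal.ResidueField ((1 : q.asIdeal.ResidueField) ⊗ₜ[A] b t))
    (hcover : ∀ p : PrimeSpectrum A, ∃ t : T, (t : A) ∉ p.asIdeal)
    (hC : ∀ (A' : Type u) [CommRing A'] [Algebra A A'] (a' : A' ⊗[A] L),
      SGA3t2b.IsQuasiRegular A' (A' ⊗[A] L) a' → SGA3t2b.IsRegularRel A' (A' ⊗[A] L) a') :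
    ∃ (A' : Type u) (_ : CommRing A') (_ : Algebra A A'), Algebra.Etale A A' ∧
      Module.FaithfullyFlat A A' ∧
        ∃ H : LieSubalgebra A' (A' ⊗[A] L), SGA3t2b.IsCartanRel H := by
  refine ⟨Cov T, inferInstance, inferInstance, inferInstance, ?_, ?_⟩
  · haveI : Module.Flat A (Cov T) := inferInstance
    exact Module.FaithfullyFlat.of_comap_surjective (cov_comap_surjective T hcover)
  · obtain ⟨-, H, hH, -⟩ := hC (Cov T) _ (cov_quasiRegular T b hb)
    exact ⟨H, hH⟩

theorem exists_etale_cover_cartanRel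
    (hC2 : ((∀ p : PrimeSpectrum A, ∃ f : A, f ∉ p.asIdeal ∧ ∀ q : PrimeSpectrum A,
        f ∉ q.asIdeal →
        LieAlgebra.rank q.asIdeal.ResidueField (q.asIdeal.ResidueField ⊗[A] L) =
          LieAlgebra.rank p.asIdeal.ResidueField (p.asIdeal.ResidueField ⊗[A] L)) ∧
      ∀ (A' : Type u) [CommRing A'] [Algebra A A'] (a' : A' ⊗[A] L),
        SGA3t2b.IsQuasiRegular A' (A' ⊗[A] L) a' → SGA3t2b.IsRegularRel A' (A' ⊗[A] L) a'))
    (hreg : ∀ p : PrimeSpectrum A, ∃ x : p.asIdeal.ResidueField ⊗[A] L,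
      LieAlgebra.IsRegular p.asIdeal.ResidueField x) :
    ∃ (A' : Type u) (_ : CommRing A') (_ : Algebra A A'), Algebra.Etale A A' ∧
      Module.FaithfullyFlat A A' ∧
        ∃ H : LieSubalgebra A' (A' ⊗[A] L), SGA3t2b.IsCartanRel H := by
  classical
  have key : ∀ p : PrimeSpectrum A, ∃ (f : A) (a : L), f ∉ p.asIdeal ∧
      ∀ q : PrimeSpectrum A, f ∉ q.asIdeal →
        LieAlgebra.IsRegular q.asIdeal.ResidueField
          ((1 : q.asIdeal.ResidueField) ⊗ₜ[A] a) := by
    intro p
    obtain ⟨a, ha⟩ := exists_one_tmul_regular p (hreg p)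
    obtain ⟨f, hfp, hf⟩ := exists_regular_nbhd_of_rank_const a p ha (hC2.1 p)
    exact ⟨f, a, hfp, hf⟩
  choose f a hfp hfa using key
  have hspan : Ideal.span (Set.range f) = ⊤ := by
    by_contra hne
    obtain ⟨m, hm, hle⟩ := Ideal.exists_le_maximal _ hne
    exact hfp ⟨m, hm.isPrime⟩ (hle (Ideal.subset_span ⟨⟨m, hm.isPrime⟩, rfl⟩))
  obtain ⟨T, hTsub, hTspan⟩ := (Ideal.span_eq_top_iff_finite _).mp hspan
  have hT : ∀ t : T, ∃ p, f p = (t : A) := fun t => hTsub t.2
  choose P hP using hT
  have hcover : ∀ p : PrimeSpectrum A, ∃ t : T, (t : A) ∉ p.asIdeal := by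
    intro p
    by_contra hcon
    push Not at hcon
    have h1 : Ideal.span (T : Set A) ≤ p.asIdeal :=
      Ideal.span_le.mpr (fun x hx => hcon ⟨x, hx⟩)
    rw [hTspan] at h1
    exact p.isPrime.ne_top (top_le_iff.mp h1)
  exact main_aux T (fun t => a (P t))
    (fun t q hq => hfa (P t) q (by rw [hP t]; exact hq)) hcover hC2.2

end main

end Groth.Agent.Lib.Helper24.CartanRel
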