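import Mathlib
import Groth.Agent.Lib.Helper24.CartanRelC

/-!
# Local constancy of the nilpotent rank when a Cartan subalgebra exists fpqc-locally

Helper library for S8378.
-/

set_option autoImplicit false
set_option maxHeartbeats 400000
set_option linter.style.haveILetI false
set_option linter.unusedSectionVars false

universe u

open scoped TensorProduct

namespace Groth.Agent.Lib.Helper24.CartanRel

section main

variable {A : Type u} [CommRing A] {L : Type u} [LieRing L] [LieAlgebra A L]
  [Module.Finite A L] [Module.Projective A L]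

open SGA3t2b

theorem rank_locallyConstant_of_ff (A' : Type u) [CommRing A'] [Algebra A A']
    [Module.FaithfullyFlat A A'] (H' : LieSubalgebra A' (A' ⊗[A] L)) (hH' : IsCartanRel H')
    (p : PrimeSpectrum A) :
    ∃ f : A, f ∉ p.asIdeal ∧ ∀ q : PrimeSpectrum A, f ∉ q.asIdeal →
      LieAlgebra.rank q.asIdeal.ResidueField (q.asIdeal.ResidueField ⊗[A] L) =
        LieAlgebra.rank p.asIdeal.ResidueField (p.asIdeal.ResidueField ⊗[A] L) := by
  haveI : Module.Projective A' ((A' ⊗[A] L) ⧸ H'.toSubmodule) := hH'.1
  haveI : Module.Finite A' H'.toSubmodule := finite_of_projective_quotient H'.toSubmodule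
  haveI : Module.Projective A' H'.toSubmodule :=
    projective_of_projective_quotient H'.toSubmodule
  haveI : Module.FinitePresentation A' H'.toSubmodule :=
    Module.finitePresentation_of_projective A' _
  have hcomp : (fun q : PrimeSpectrum A =>
      LieAlgebra.rank q.asIdeal.ResidueField (q.asIdeal.ResidueField ⊗[A] L)) ∘
      PrimeSpectrum.comap (algebraMap A A') =
      Module.rankAtStalk (R := A') H'.toSubmodule := by
    funext q'
    show LieAlgebra.rank (q'.comap (algebraMap A A')).asIdeal.ResidueField
      ((q'.comap (algebraMap A A')).asIdeal.ResidueField ⊗[A] L) = _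
    rw [← rank_fibre_baseChange A' q', ← (hH'.2 q').2.2, Module.rankAtStalk_eq]
    unfold SGA3t2b.fibreSubmodule Submodule.baseChange
    exact LinearMap.finrank_range_of_inj
      (subtype_baseChange_injective H'.toSubmodule q'.asIdeal.ResidueField)
  have hlc' : IsLocallyConstant (Module.rankAtStalk (R := A') H'.toSubmodule) :=
    Module.isLocallyConstant_rankAtStalk
  have hq : Topology.IsQuotientMap (PrimeSpectrum.comap (algebraMap A A')) :=
    PrimeSpectrum.isQuotientMap_of_generalizingMap
      PrimeSpectrum.comap_surjective_of_faithfullyFlat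
      (RingHom.Flat.generalizingMap_comap (RingHom.flat_algebraMap_iff.mpr inferInstance))
  have hcont : Continuous (fun q : PrimeSpectrum A =>
      LieAlgebra.rank q.asIdeal.ResidueField (q.asIdeal.ResidueField ⊗[A] L)) := by
    rw [hq.continuous_iff, hcomp]
    exact hlc'.continuous
  have hlc := (IsLocallyConstant.iff_continuous _).mpr hcont
  have hopen := hlc.isOpen_fiber
    (LieAlgebra.rank p.asIdeal.ResidueField (p.asIdeal.ResidueField ⊗[A] L))
  obtain ⟨U, ⟨f, rfl⟩, hpU, hUsub⟩ :=
    PrimeSpectrum.isTopologicalBasis_basic_opens.exists_subset_of_mem_open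
      (show p ∈ {q : PrimeSpectrum A |
        LieAlgebra.rank q.asIdeal.ResidueField (q.asIdeal.ResidueField ⊗[A] L) =
          LieAlgebra.rank p.asIdeal.ResidueField (p.asIdeal.ResidueField ⊗[A] L)} from rfl)
      hopen
  exact ⟨f, hpU, fun q hq => hUsub hq⟩

end main

end Groth.Agent.Lib.Helper24.CartanRel
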