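import Mathlib
import Groth.Prelude.Def_W4sga3xiixivxvCartan
import Groth.Agent.S2964
import Groth.Agent.Lib.Helper24.CartanRel
import Groth.Agent.Lib.Helper24.CartanRelC

/-!
# Quasi-regular sections are regular when the nilpotent rank is locally constant

Fitting decomposition of `ad a` for a quasi-regular section `a` of a finitely generated projective
Lie algebra whose fibres have locally constant nilpotent rank.
-/

set_option autoImplicit false
set_option maxHeartbeats 400000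
set_option linter.style.haveILetI false
set_option linter.unusedSectionVars false

universe u

open scoped TensorProduct
open Polynomial

namespace Groth.Agent.Lib.Helper24.CartanRel

section loc

variable {B : Type*} [CommRing B] {M : Type*} [AddCommGroup M] [Module B M]

/-- splitting off the low-degree part of a polynomial. -/
theorem exists_split (χ : B[X]) (ρ : ℕ) :
    ∃ ν g : B[X], χ = ν + X ^ ρ * g ∧ g.coeff 0 = χ.coeff ρ ∧
      ∀ i, ν.coeff i = if i < ρ then χ.coeff i else 0 := by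
  have hνc : ∀ i, (∑ j ∈ Finset.range ρ, monomial j (χ.coeff j)).coeff i =
      if i < ρ then χ.coeff i else 0 := by
    intro i
    rw [Polynomial.finset_sum_coeff]
    simp only [Polynomial.coeff_monomial]
    rw [Finset.sum_ite_eq']
    simp only [Finset.mem_range]
  have hdvd : X ^ ρ ∣ χ - ∑ j ∈ Finset.range ρ, monomial j (χ.coeff j) := by
    rw [Polynomial.X_pow_dvd_iff]
    intro d hd
    rw [Polynomial.coeff_sub, hνc, if_pos hd, sub_self]
  obtain ⟨g, hg⟩ := hdvd
  refine ⟨∑ j ∈ Finset.range ρ, monomial j (χ.coeff j), g, ?_, ?_, hνc⟩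
  · rw [← hg]; ring
  · have h1 : (X ^ ρ * g).coeff (0 + ρ) = g.coeff 0 := Polynomial.coeff_X_pow_mul g ρ 0
    rw [← h1, ← hg, zero_add, Polynomial.coeff_sub, hνc, if_neg (lt_irrefl ρ), sub_zero]

theorem aeval_comm (T : Module.End B M) (p q : B[X]) (v : M) :
    (aeval T p) ((aeval T q) v) = (aeval T q) ((aeval T p) v) := by
  rw [← Module.End.mul_apply, ← Module.End.mul_apply, ← map_mul, ← map_mul, mul_comm]

theorem aeval_pow_comm (T : Module.End B M) (p : B[X]) (N : ℕ) (v : M) :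
    (T ^ N) ((aeval T p) v) = (aeval T p) ((T ^ N) v) := by
  have h := aeval_comm T (X ^ N) p v
  rwa [map_pow, aeval_X] at h

theorem local_fitting (T : Module.End B M) (χ : B[X]) (hχ : aeval T χ = 0) (f : B) (ρ : ℕ)
    (hnil : ∀ i, i < ρ → IsNilpotent (f * χ.coeff i))
    (hunit : ∃ (w : B) (k : ℕ), w * χ.coeff ρ = f ^ k) :
    ∃ N₀ : ℕ, ∀ N, N₀ ≤ N → ∃ K : ℕ,
      (∀ x, x ∈ LinearMap.ker (T ^ N) → x ∈ LinearMap.range (T ^ N) → f ^ K • x = 0) ∧
      (∀ y : M, f ^ K • y ∈ LinearMap.ker (T ^ N) ⊔ LinearMap.range (T ^ N)) := by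
  obtain ⟨ν, g, hsplit, hg0, hνc⟩ := exists_split χ ρ
  obtain ⟨w, k, hw⟩ := hunit
  have hνnil : IsNilpotent (C f * ν) := by
    rw [Polynomial.isNilpotent_iff]
    intro i
    rw [Polynomial.coeff_C_mul, hνc]
    split_ifs with h
    · exact hnil i h
    · rw [mul_zero]; exact IsNilpotent.zero
  obtain ⟨m, hm⟩ := hνnil
  have hdvd : C f * χ ∣ (C f * (X ^ ρ * g)) ^ m := by
    have h1 := sub_dvd_pow_sub_pow (C f * (X ^ ρ * g)) (-(C f * ν)) m
    have h2 : C f * (X ^ ρ * g) - -(C f * ν) = C f * χ := by rw [hsplit]; ring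
    have h3 : (-(C f * ν)) ^ m = 0 := by rw [neg_pow, hm, mul_zero]
    rwa [h2, h3, sub_zero] at h1
  obtain ⟨h₁, hh₁⟩ := hdvd
  have hkey : C (f ^ m) * (X ^ (ρ * m) * g ^ m) = χ * (C f * h₁) := by
    have : χ * (C f * h₁) = C f * χ * h₁ := by ring
    rw [this, ← hh₁, mul_pow, mul_pow, C_pow, ← pow_mul]
  have hkeyT : f ^ m • (T ^ (ρ * m) * aeval T (g ^ m)) = 0 := by
    have h := congrArg (aeval T) hkey
    rw [map_mul, map_mul, map_mul (aeval T) χ, hχ, zero_mul, aeval_C, map_pow (aeval T) X,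
      aeval_X] at h
    rw [Algebra.smul_def]
    exact h
  have fact1 : ∀ N, ρ * m ≤ N → ∀ z : M, (T ^ N) ((aeval T (g ^ m)) (f ^ m • z)) = 0 := by
    intro N hN z
    obtain ⟨j, rfl⟩ := Nat.exists_eq_add_of_le hN
    have h1 : (f ^ m • (T ^ (ρ * m) * aeval T (g ^ m))) z = 0 := by
      rw [hkeyT]; rfl
    rw [LinearMap.smul_apply, Module.End.mul_apply] at h1
    rw [add_comm, pow_add, Module.End.mul_apply, map_smul, map_smul, h1, map_zero]
  have hG0 : (g ^ m).coeff 0 = χ.coeff ρ ^ m := by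
    rw [Polynomial.coeff_zero_eq_eval_zero, Polynomial.eval_pow,
      ← Polynomial.coeff_zero_eq_eval_zero, hg0]
  have hGsplit : C (w ^ m) * g ^ m = C (f ^ (k * m)) + X * (C (w ^ m) * divX (g ^ m)) := by
    have h1 : C (w ^ m) * C ((g ^ m).coeff 0) = C (f ^ (k * m)) := by
      rw [hG0, ← C_mul, ← mul_pow, hw, ← pow_mul]
    calc C (w ^ m) * g ^ m
        = C (w ^ m) * (divX (g ^ m) * X + C ((g ^ m).coeff 0)) := by
          rw [Polynomial.divX_mul_X_add]
      _ = C (w ^ m) * C ((g ^ m).coeff 0) + X * (C (w ^ m) * divX (g ^ m)) := by ring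
      _ = _ := by rw [h1]
  have hbez : ∀ N : ℕ, ∃ p q : B[X], C (f ^ (k * m * N)) = g ^ m * p + X ^ N * q := by
    intro N
    obtain ⟨p, hp⟩ := sub_dvd_pow_sub_pow (C (f ^ (k * m))) (-(X * (C (w ^ m) * divX (g ^ m)))) N
    have h2 : C (f ^ (k * m)) - -(X * (C (w ^ m) * divX (g ^ m))) = C (w ^ m) * g ^ m := by
      rw [hGsplit]; ring
    rw [h2] at hp
    refine ⟨C (w ^ m) * p, (-1) ^ N * (C (w ^ m) * divX (g ^ m)) ^ N, ?_⟩
    have h3 : C (f ^ (k * m * N)) = C (f ^ (k * m)) ^ N := by rw [← C_pow, ← pow_mul]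
    rw [h3, eq_add_of_sub_eq hp, neg_pow, mul_pow X]
    ring
  have hbezT : ∀ N : ℕ, ∃ P Q : B[X], ∀ v : M, f ^ (k * m * N) • v =
      (aeval T (g ^ m)) ((aeval T P) v) + (T ^ N) ((aeval T Q) v) := by
    intro N
    obtain ⟨p, q, hpq⟩ := hbez N
    refine ⟨p, q, fun v => ?_⟩
    have h := congrArg (fun r => (aeval T r) v) hpq
    simp only [map_add, map_mul, aeval_C, aeval_X_pow, LinearMap.add_apply,
      Module.End.mul_apply, Module.algebraMap_end_apply] at h
    exact h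
  refine ⟨ρ * m, fun N hN => ⟨k * m * N + m, ?_, ?_⟩⟩
  · intro x hx0 hxr
    rw [LinearMap.mem_ker] at hx0
    obtain ⟨z, rfl⟩ := hxr
    obtain ⟨P, Q, hPQ⟩ := hbezT N
    have e1 : (aeval T (g ^ m)) ((aeval T P) (f ^ m • (T ^ N) z)) = 0 := by
      calc (aeval T (g ^ m)) ((aeval T P) (f ^ m • (T ^ N) z))
          = (aeval T (g ^ m)) ((aeval T P) ((T ^ N) (f ^ m • z))) := by
            rw [map_smul (T ^ N) (f ^ m) z]
        _ = (aeval T (g ^ m)) ((T ^ N) ((aeval T P) (f ^ m • z))) := by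
            rw [aeval_pow_comm T P N]
        _ = (T ^ N) ((aeval T (g ^ m)) ((aeval T P) (f ^ m • z))) := by
            rw [aeval_pow_comm T (g ^ m) N]
        _ = (T ^ N) ((aeval T P) ((aeval T (g ^ m)) (f ^ m • z))) := by
            rw [aeval_comm T (g ^ m) P]
        _ = (aeval T P) ((T ^ N) ((aeval T (g ^ m)) (f ^ m • z))) := by
            rw [aeval_pow_comm T P N]
        _ = 0 := by rw [fact1 N hN, map_zero]
    have e2 : (T ^ N) ((aeval T Q) (f ^ m • (T ^ N) z)) = 0 := by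
      rw [aeval_pow_comm T Q N, map_smul (T ^ N), hx0, smul_zero, map_zero]
    rw [pow_add, mul_smul, hPQ, e1, e2, add_zero]
  · intro y
    obtain ⟨P, Q, hPQ⟩ := hbezT N
    rw [pow_add, mul_smul, hPQ]
    refine Submodule.add_mem_sup ?_ ?_
    · rw [LinearMap.mem_ker, map_smul (aeval T P), fact1 N hN]
    · exact LinearMap.mem_range_self _ _

theorem exists_fitting (T : Module.End B M) (χ : B[X]) (hχ : aeval T χ = 0)
    (hloc : ∀ q : PrimeSpectrum B, ∃ f : B, f ∉ q.asIdeal ∧ ∃ ρ : ℕ,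
      (∀ i, i < ρ → IsNilpotent (f * χ.coeff i)) ∧ ∃ (w : B) (k : ℕ), w * χ.coeff ρ = f ^ k) :
    ∃ N : ℕ, 1 ≤ N ∧ IsCompl (LinearMap.ker (T ^ N)) (LinearMap.range (T ^ N)) := by
  choose f hf ρ hnil hunit using hloc
  have hN₀ := fun q => local_fitting T χ hχ (f q) (ρ q) (hnil q) (hunit q)
  choose N₀ hN₀ using hN₀
  have hspan : Ideal.span (Set.range f) = ⊤ := by
    by_contra h
    obtain ⟨m, hm, hle⟩ := Ideal.exists_le_maximal _ h
    exact hf ⟨m, hm.isPrime⟩ (hle (Ideal.subset_span ⟨_, rfl⟩))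
  obtain ⟨s', hs's, hs'⟩ := (Ideal.span_eq_top_iff_finite _).mp hspan
  have hq : ∀ t : s', ∃ q, f q = (t : B) := fun t => hs's (Finset.mem_coe.mpr t.2)
  choose qq hqq using hq
  have hNle : ∀ t : s', N₀ (qq t) ≤ 1 + ∑ t : s', N₀ (qq t) := fun t => by
    have := Finset.single_le_sum (f := fun t : s' => N₀ (qq t)) (fun _ _ => Nat.zero_le _)
      (Finset.mem_univ t)
    omega
  refine ⟨1 + ∑ t : s', N₀ (qq t), by omega, ?_⟩
  choose K hKa hKb using fun t : s' => hN₀ (qq t) (1 + ∑ t : s', N₀ (qq t)) (hNle t)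
  constructor
  · rw [Submodule.disjoint_def]
    intro x hx0 hxr
    have hbot : x ∈ (⊥ : Submodule B M) := by
      refine Submodule.mem_of_span_eq_top_of_smul_pow_mem ⊥ (↑s' : Set B) hs' x (fun r => ?_)
      have hr : (r : B) ∈ s' := Finset.mem_coe.mp r.2
      refine ⟨K ⟨r, hr⟩, ?_⟩
      have h := hKa ⟨r, hr⟩ x hx0 hxr
      rw [hqq ⟨r, hr⟩] at h
      rw [Submodule.mem_bot]
      exact h
    exact (Submodule.mem_bot B).mp hbot
  · rw [codisjoint_iff, eq_top_iff]
    intro y _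
    refine Submodule.mem_of_span_eq_top_of_smul_pow_mem _ (↑s' : Set B) hs' y (fun r => ?_)
    have hr : (r : B) ∈ s' := Finset.mem_coe.mp r.2
    refine ⟨K ⟨r, hr⟩, ?_⟩
    have h := hKb ⟨r, hr⟩ y
    rw [hqq ⟨r, hr⟩] at h
    exact h

theorem ker_stable_of_isCompl (T : Module.End B M) (N : ℕ) (hN : 1 ≤ N)
    (hc : IsCompl (LinearMap.ker (T ^ N)) (LinearMap.range (T ^ N))) (m : ℕ) (x : M)
    (hx : (T ^ m) x = 0) : (T ^ N) x = 0 := by
  have hdis : ∀ r, (T ^ N) r = 0 → r ∈ LinearMap.range (T ^ N) → r = 0 := fun r h0 hr =>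
    (Submodule.disjoint_def.mp hc.disjoint) r (LinearMap.mem_ker.mpr h0) hr
  have hTN : T ^ N = T ^ (N - 1) * T := by rw [← pow_succ, Nat.sub_add_cancel hN]
  have hinj : ∀ j : ℕ, ∀ r ∈ LinearMap.range (T ^ N), (T ^ j) r = 0 → r = 0 := by
    intro j
    induction j with
    | zero =>
      intro r _ h
      simpa using h
    | succ j ih =>
      intro r hr h
      have hTr : T r ∈ LinearMap.range (T ^ N) := by
        obtain ⟨y, rfl⟩ := hr
        exact ⟨T y, LinearMap.congr_fun (Commute.pow_self T N).eq y⟩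
      have h1 : (T ^ j) (T r) = 0 := by
        rw [← Module.End.mul_apply, ← pow_succ]; exact h
      have h2 : T r = 0 := ih (T r) hTr h1
      refine hdis r ?_ hr
      rw [hTN, Module.End.mul_apply, h2, map_zero]
  have htop : x ∈ LinearMap.ker (T ^ N) ⊔ LinearMap.range (T ^ N) := by
    rw [hc.sup_eq_top]; trivial
  obtain ⟨k, hk, r, hr, rfl⟩ := Submodule.mem_sup.mp htop
  rw [LinearMap.mem_ker] at hk
  have h1 : (T ^ (N + m)) r = 0 := by
    have h2 : (T ^ N) ((T ^ m) (k + r)) = 0 := by rw [hx, map_zero]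
    rw [map_add, map_add] at h2
    have h3 : (T ^ N) ((T ^ m) k) = 0 := by
      have hcomm : (T ^ N) ((T ^ m) k) = (T ^ m) ((T ^ N) k) :=
        LinearMap.congr_fun (Commute.pow_pow_self T N m).eq k
      rw [hcomm, hk, map_zero]
    rw [h3, zero_add] at h2
    rw [pow_add, Module.End.mul_apply]; exact h2
  have hr0 := hinj (N + m) r hr h1
  rw [hr0, add_zero]; exact hk

theorem aeval_intertwine {F : Type*} [AddCommGroup F] [Module B F] (T : Module.End B M)
    (S : Module.End B F) (ι : M →ₗ[B] F) (h : S ∘ₗ ι = ι ∘ₗ T) (p : B[X]) :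
    (aeval S p) ∘ₗ ι = ι ∘ₗ (aeval T p) := by
  induction p using Polynomial.induction_on with
  | C b =>
    apply LinearMap.ext; intro v
    simp [Module.algebraMap_end_apply]
  | add p q hp hq =>
    rw [map_add, map_add, LinearMap.add_comp, LinearMap.comp_add, hp, hq]
  | monomial n b ih =>
    rw [pow_succ, ← mul_assoc, map_mul, map_mul (aeval T), aeval_X, aeval_X,
      Module.End.mul_eq_comp, Module.End.mul_eq_comp, LinearMap.comp_assoc, h,
      ← LinearMap.comp_assoc, ih, LinearMap.comp_assoc]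

theorem aeval_eq_zero_of_intertwine {F : Type*} [AddCommGroup F] [Module B F]
    (T : Module.End B M) (S : Module.End B F) (ι : M →ₗ[B] F) (h : S ∘ₗ ι = ι ∘ₗ T)
    (hι : Function.Injective ι) (χ : B[X]) (hχ : aeval S χ = 0) : aeval T χ = 0 := by
  apply LinearMap.ext; intro v
  apply hι
  have h1 := LinearMap.congr_fun (aeval_intertwine T S ι h χ) v
  rw [LinearMap.comp_apply, LinearMap.comp_apply, hχ, LinearMap.zero_apply] at h1
  rw [LinearMap.zero_apply, map_zero]
  exact h1.symm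

end loc

section cover

variable {K : Type*} [Field K] {V W : Type*} [AddCommGroup V] [Module K V] [AddCommGroup W]
  [Module K W] [Module.Finite K V] [Module.Finite K W]

theorem charpoly_cover (π : W →ₗ[K] V) (ι : V →ₗ[K] W) (h : π ∘ₗ ι = LinearMap.id)
    (T : Module.End K V) :
    (ι ∘ₗ T ∘ₗ π + (LinearMap.id - ι ∘ₗ π)).charpoly =
      T.charpoly * (X - 1) ^ Module.finrank K (LinearMap.ker π) := by
  have hπι : ∀ v, π (ι v) = v := fun v => LinearMap.congr_fun h v
  let p : W →ₗ[K] LinearMap.ker π :=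
    (LinearMap.id - ι ∘ₗ π).codRestrict (LinearMap.ker π) (fun w => by
      rw [LinearMap.mem_ker, LinearMap.sub_apply, LinearMap.id_apply, LinearMap.comp_apply,
        map_sub, hπι, sub_self])
  have hp : ∀ w, ((p w : LinearMap.ker π) : W) = w - ι (π w) := fun w => rfl
  let e : W ≃ₗ[K] V × LinearMap.ker π :=
    LinearEquiv.ofLinear (π.prod p) (ι.coprod (LinearMap.ker π).subtype)
      (by
        apply LinearMap.ext
        rintro ⟨v, k⟩
        have hk : π (k : W) = 0 := LinearMap.mem_ker.mp k.2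
        apply Prod.ext
        · simp [hπι, hk]
        · apply Subtype.ext
          simp [hp, hπι, hk])
      (by
        apply LinearMap.ext
        intro w
        simp [hp])
  have hconj : e.conj (ι ∘ₗ T ∘ₗ π + (LinearMap.id - ι ∘ₗ π)) = T.prodMap LinearMap.id := by
    apply LinearMap.ext
    rintro ⟨v, k⟩
    have hk : π (k : W) = 0 := LinearMap.mem_ker.mp k.2
    rw [LinearEquiv.conj_apply_apply]
    have hsymm : e.symm (v, k) = ι v + (k : W) := by simp [e]
    rw [hsymm]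
    apply Prod.ext
    · simp [e, hπι, hk]
    · apply Subtype.ext
      simp [e, hp, hπι, hk]
  rw [← LinearEquiv.charpoly_conj e, hconj, LinearMap.charpoly_prodMap]
  congr 1
  exact LinearMap.charpoly_one

theorem coeff_cover (p : K[X]) (hp : p ≠ 0) (k r : ℕ) (hr : p.natTrailingDegree = r) :
    (∀ i, i < r → (p * (X - 1) ^ k).coeff i = 0) ∧ (p * (X - 1) ^ k).coeff r ≠ 0 := by
  have hc0 : ((X - 1 : K[X]) ^ k).coeff 0 = (-1) ^ k := by
    rw [Polynomial.coeff_zero_eq_eval_zero, eval_pow, eval_sub, eval_X, eval_one, zero_sub]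
  have hc0ne : ((X - 1 : K[X]) ^ k).coeff 0 ≠ 0 := by
    rw [hc0]; exact pow_ne_zero _ (neg_ne_zero.mpr one_ne_zero)
  have hq : ((X - 1 : K[X]) ^ k) ≠ 0 := fun h => hc0ne (by rw [h, coeff_zero])
  have hq0 : ((X - 1 : K[X]) ^ k).natTrailingDegree = 0 :=
    Nat.le_zero.mp (natTrailingDegree_le_of_ne_zero hc0ne)
  have hmul : (p * (X - 1) ^ k).natTrailingDegree = r := by
    rw [natTrailingDegree_mul hp hq, hq0, add_zero, hr]
  refine ⟨fun i hi => coeff_eq_zero_of_lt_natTrailingDegree (by rw [hmul]; exact hi), ?_⟩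
  have hne : p * (X - 1) ^ k ≠ 0 := mul_ne_zero hp hq
  have h := (trailingCoeff_nonzero_iff_nonzero).mpr hne
  rwa [trailingCoeff, hmul] at h

end cover

section main

variable {A : Type u} [CommRing A] {L : Type u} [LieRing L] [LieAlgebra A L] [Module.Finite A L]

open SGA3t2b

theorem map_charpoly_cover (K : Type u) [Field K] [Algebra A K] (a : L)
    (hreg : LieAlgebra.IsRegular K ((1 : K) ⊗ₜ[A] a))
    {n : ℕ} (π : (Fin n → A) →ₗ[A] L) (ι : L →ₗ[A] (Fin n → A)) (hπι : π ∘ₗ ι = LinearMap.id) :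
    (∀ i, i < LieAlgebra.rank K (K ⊗[A] L) →
      algebraMap A K ((ι ∘ₗ (LieAlgebra.ad A L a) ∘ₗ π +
        (LinearMap.id - ι ∘ₗ π)).charpoly.coeff i) = 0) ∧
    algebraMap A K ((ι ∘ₗ (LieAlgebra.ad A L a) ∘ₗ π +
      (LinearMap.id - ι ∘ₗ π)).charpoly.coeff (LieAlgebra.rank K (K ⊗[A] L))) ≠ 0 := by
  have hbc : ((ι ∘ₗ (LieAlgebra.ad A L a) ∘ₗ π + (LinearMap.id - ι ∘ₗ π)).baseChange K) =
      (ι.baseChange K) ∘ₗ (LieAlgebra.ad K (K ⊗[A] L) ((1 : K) ⊗ₜ[A] a)) ∘ₗ (π.baseChange K) +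
        (LinearMap.id - (ι.baseChange K) ∘ₗ (π.baseChange K)) := by
    rw [Groth.Agent.S2964.ad_tmul, one_smul, LinearMap.baseChange_add, LinearMap.baseChange_sub,
      LinearMap.baseChange_comp, LinearMap.baseChange_comp, LinearMap.baseChange_comp,
      LinearMap.baseChange_id]
  have hid : (π.baseChange K) ∘ₗ (ι.baseChange K) = LinearMap.id := by
    rw [← LinearMap.baseChange_comp, hπι, LinearMap.baseChange_id]
  have hcp := LinearMap.charpoly_baseChange
    (ι ∘ₗ (LieAlgebra.ad A L a) ∘ₗ π + (LinearMap.id - ι ∘ₗ π)) K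
  rw [hbc, charpoly_cover _ _ hid] at hcp
  have hne : (LieAlgebra.ad K (K ⊗[A] L) ((1 : K) ⊗ₜ[A] a)).charpoly ≠ 0 :=
    (LinearMap.charpoly_monic _).ne_zero
  have htr := (LieAlgebra.isRegular_iff_natTrailingDegree_charpoly_eq_rank K _).mp hreg
  obtain ⟨h1, h2⟩ := coeff_cover _ hne
    (Module.finrank K (LinearMap.ker (π.baseChange K))) _ htr
  rw [hcp] at h1 h2
  simp only [Polynomial.coeff_map] at h1 h2
  exact ⟨h1, h2⟩

variable [Module.Projective A L]

/-- Over an arbitrary base ring: if the nilpotent rank of the fibres of a finitely generated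
projective Lie algebra is locally constant then every quasi-regular element is regular. -/
theorem isRegularRel_of_quasiRegular
    (hC0 : ∀ p : PrimeSpectrum A, ∃ f : A, f ∉ p.asIdeal ∧ ∀ q : PrimeSpectrum A,
      f ∉ q.asIdeal →
        LieAlgebra.rank q.asIdeal.ResidueField (q.asIdeal.ResidueField ⊗[A] L) =
          LieAlgebra.rank p.asIdeal.ResidueField (p.asIdeal.ResidueField ⊗[A] L))
    (a : L) (ha : IsQuasiRegular A L a) : IsRegularRel A L a := by
  obtain ⟨n, π, ι, -, hιinj, hπι⟩ := Module.Finite.exists_comp_eq_id_of_projective A L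
  have hSι : (ι ∘ₗ (LieAlgebra.ad A L a) ∘ₗ π + (LinearMap.id - ι ∘ₗ π)) ∘ₗ ι =
      ι ∘ₗ (LieAlgebra.ad A L a) := by
    apply LinearMap.ext; intro v
    have h1 : π (ι v) = v := LinearMap.congr_fun hπι v
    simp only [LinearMap.comp_apply, LinearMap.add_apply, LinearMap.sub_apply,
      LinearMap.id_apply, h1, sub_self, add_zero]
  have hχT : aeval (LieAlgebra.ad A L a)
      (ι ∘ₗ (LieAlgebra.ad A L a) ∘ₗ π + (LinearMap.id - ι ∘ₗ π)).charpoly = 0 :=
    aeval_eq_zero_of_intertwine (LieAlgebra.ad A L a) _ ι hSι hιinj _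
      (LinearMap.aeval_self_charpoly _)
  have hfib : ∀ q : PrimeSpectrum A,
      (∀ i, i < LieAlgebra.rank q.asIdeal.ResidueField (q.asIdeal.ResidueField ⊗[A] L) →
        (ι ∘ₗ (LieAlgebra.ad A L a) ∘ₗ π + (LinearMap.id - ι ∘ₗ π)).charpoly.coeff i ∈
          q.asIdeal) ∧
      (ι ∘ₗ (LieAlgebra.ad A L a) ∘ₗ π + (LinearMap.id - ι ∘ₗ π)).charpoly.coeff
        (LieAlgebra.rank q.asIdeal.ResidueField (q.asIdeal.ResidueField ⊗[A] L)) ∉
          q.asIdeal := by
    intro q
    obtain ⟨h1, h2⟩ := map_charpoly_cover q.asIdeal.ResidueField a (ha q) π ι hπι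
    refine ⟨fun i hi => ?_, fun hmem => h2 ?_⟩
    · exact Ideal.algebraMap_residueField_eq_zero.mp (h1 i hi)
    · exact Ideal.algebraMap_residueField_eq_zero.mpr hmem
  have hloc : ∀ q : PrimeSpectrum A, ∃ f : A, f ∉ q.asIdeal ∧ ∃ ρ : ℕ,
      (∀ i, i < ρ → IsNilpotent (f * (ι ∘ₗ (LieAlgebra.ad A L a) ∘ₗ π +
        (LinearMap.id - ι ∘ₗ π)).charpoly.coeff i)) ∧
      ∃ (w : A) (k : ℕ), w * (ι ∘ₗ (LieAlgebra.ad A L a) ∘ₗ π +
        (LinearMap.id - ι ∘ₗ π)).charpoly.coeff ρ = f ^ k := by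
    intro q
    obtain ⟨f, hfq, hf⟩ := hC0 q
    refine ⟨f, hfq, LieAlgebra.rank q.asIdeal.ResidueField (q.asIdeal.ResidueField ⊗[A] L),
      fun i hi => ?_, ?_⟩
    · rw [nilpotent_iff_mem_prime]
      intro J hJ
      by_cases hfJ : f ∈ J
      · exact J.mul_mem_right _ hfJ
      · have hr := hf ⟨J, hJ⟩ hfJ
        refine J.mul_mem_left _ ?_
        exact (hfib ⟨J, hJ⟩).1 i (by rw [hr]; exact hi)
    · have hrad : f ∈ (Ideal.span {(ι ∘ₗ (LieAlgebra.ad A L a) ∘ₗ π +
          (LinearMap.id - ι ∘ₗ π)).charpoly.coeff (LieAlgebra.rank q.asIdeal.ResidueField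
            (q.asIdeal.ResidueField ⊗[A] L))}).radical := by
        rw [Ideal.radical_eq_sInf, Submodule.mem_sInf]
        rintro J ⟨hle, hJ⟩
        by_contra hfJ
        have hr := hf ⟨J, hJ⟩ hfJ
        have h2 := (hfib ⟨J, hJ⟩).2
        rw [hr] at h2
        exact h2 (hle (Ideal.subset_span rfl))
      obtain ⟨k, hk⟩ := hrad
      obtain ⟨w, hw⟩ := Ideal.mem_span_singleton'.mp hk
      exact ⟨w, k, hw⟩
  obtain ⟨N, hN1, hc⟩ := exists_fitting (LieAlgebra.ad A L a) _ hχT hloc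
  have hengel : (LieSubalgebra.engel A a).toSubmodule =
      LinearMap.ker ((LieAlgebra.ad A L a) ^ N) := by
    ext x
    rw [LieSubalgebra.mem_toSubmodule, LieSubalgebra.mem_engel_iff, LinearMap.mem_ker]
    constructor
    · rintro ⟨m, hm⟩
      exact ker_stable_of_isCompl _ N hN1 hc m x hm
    · intro h
      exact ⟨N, h⟩
  have hprojR : Module.Projective A (LinearMap.range ((LieAlgebra.ad A L a) ^ N)) :=
    Module.Projective.of_split (LinearMap.range ((LieAlgebra.ad A L a) ^ N)).subtype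
      (Submodule.projectionOnto _ _ hc.symm) (by
        apply LinearMap.ext; intro x
        simp)
  have hproj : Module.Projective A (L ⧸ (LieSubalgebra.engel A a).toSubmodule) := by
    rw [hengel]
    exact Module.Projective.of_equiv' (LinearMap.quotKerEquivRange ((LieAlgebra.ad A L a) ^ N)).symm
  have hsurj : ∀ y : L, ∃ z : L, ⁅a, z⁆ - y ∈ LieSubalgebra.engel A a := by
    intro y
    have htop : y ∈ LinearMap.ker ((LieAlgebra.ad A L a) ^ N) ⊔
        LinearMap.range ((LieAlgebra.ad A L a) ^ N) := by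
      rw [hc.sup_eq_top]; trivial
    obtain ⟨k, hk, r, ⟨w, rfl⟩, rfl⟩ := Submodule.mem_sup.mp htop
    refine ⟨((LieAlgebra.ad A L a) ^ (N - 1)) w, ?_⟩
    have h1 : ⁅a, ((LieAlgebra.ad A L a) ^ (N - 1)) w⁆ = ((LieAlgebra.ad A L a) ^ N) w := by
      rw [← LieAlgebra.ad_apply (R := A), ← Module.End.mul_apply, ← pow_succ',
        Nat.sub_add_cancel hN1]
    rw [h1]
    have h2 : ((LieAlgebra.ad A L a) ^ N) w - (k + ((LieAlgebra.ad A L a) ^ N) w) = -k := by
      abel
    rw [h2]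
    refine neg_mem ?_
    rw [← LieSubalgebra.mem_toSubmodule, hengel]
    exact hk
  exact ⟨ha, LieSubalgebra.engel A a, isCartanRel_engel a ha hproj hsurj,
    LieSubalgebra.self_mem_engel A a⟩

end main

end Groth.Agent.Lib.Helper24.CartanRel
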