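import Groth.Prelude.Def_FrobAlg
import Mathlib

/-!
# Relative Frobenius of a smooth algebra is flat (affine form)
-/

set_option autoImplicit false
set_option linter.unusedSimpArgs false
universe u v w
open FrobAlg TensorProduct

namespace Groth.Agent.Lib.Helper24.RelFrobSmooth

section Poly

open MvPolynomial

variable {R : Type u} [CommRing R] {σ : Type w} [DecidableEq σ] (p : ℕ)

/-- Raise the variables in `s` to the `p`-th power. -/
noncomputable def Φ (s : Finset σ) : MvPolynomial σ R →ₐ[R] MvPolynomial σ R :=
  aeval (fun j => if j ∈ s then (X j : MvPolynomial σ R) ^ p else X j)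

theorem Φ_X (s : Finset σ) (j : σ) :
    Φ (R := R) p s (X j) = if j ∈ s then (X j : MvPolynomial σ R) ^ p else X j := by
  simp [Φ]

theorem Φ_C (s : Finset σ) (r : R) : Φ (R := R) (σ := σ) p s (C r) = C r := by
  simp [Φ]

theorem Φ_empty : Φ (R := R) (σ := σ) p ∅ = AlgHom.id R _ := by
  apply MvPolynomial.algHom_ext
  intro j
  simp [Φ_X]

theorem Φ_insert (s : Finset σ) (i : σ) (hi : i ∉ s) :
    Φ (R := R) p (insert i s) = (Φ p {i}).comp (Φ p s) := by
  apply MvPolynomial.algHom_ext
  intro j
  rw [AlgHom.comp_apply, Φ_X, Φ_X]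
  by_cases hj : j ∈ s
  · have hji : j ≠ i := fun h => hi (h ▸ hj)
    rw [if_pos hj, if_pos (Finset.mem_insert_of_mem hj), map_pow, Φ_X,
      if_neg (by simpa using hji)]
  · rw [if_neg hj, Φ_X]
    by_cases hji : j = i
    · subst hji
      rw [if_pos (Finset.mem_insert_self _ _), if_pos (Finset.mem_singleton_self _)]
    · rw [if_neg (by simp [hji, hj]), if_neg (by simpa using hji)]

theorem Φ_single_flat (hp : p ≠ 0) (i : σ) : (Φ (R := R) p {i}).toRingHom.Flat := by
  let f : Polynomial (MvPolynomial σ R) := Polynomial.X ^ p - Polynomial.C (X i)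
  have hf : f.Monic := Polynomial.monic_X_pow_sub_C _ hp
  haveI : Module.Free (MvPolynomial σ R) (AdjoinRoot f) := hf.free_adjoinRoot
  let φ : MvPolynomial σ R →+* MvPolynomial σ R := (Φ (R := R) p {i}).toRingHom
  have hφX : ∀ j, φ (X j) = if j = i then (X j : MvPolynomial σ R) ^ p else X j := by
    intro j
    change Φ (R := R) p {i} (X j) = _
    rw [Φ_X]
    simp
  have hφC : ∀ r, φ (C r) = C r := fun r => Φ_C p {i} r
  have hroot : f.eval₂ φ (X i) = 0 := by
    simp [f, hφX]
  let e : AdjoinRoot f →+* MvPolynomial σ R := AdjoinRoot.lift φ (X i) hroot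
  let g : MvPolynomial σ R →ₐ[R] AdjoinRoot f :=
    aeval (fun j => if j = i then AdjoinRoot.root f else AdjoinRoot.of f (X j))
  have hgX : ∀ j, g (X j) = if j = i then AdjoinRoot.root f else AdjoinRoot.of f (X j) := by
    intro j; simp [g]
  have hrootp : (AdjoinRoot.root f) ^ p = AdjoinRoot.of f (X i) := by
    have h := AdjoinRoot.eval₂_root f
    simp only [f, Polynomial.eval₂_sub, Polynomial.eval₂_pow, Polynomial.eval₂_X,
      Polynomial.eval₂_C] at h
    exact sub_eq_zero.mp h
  have hgφ : g.toRingHom.comp φ = AdjoinRoot.of f := by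
    apply MvPolynomial.ringHom_ext
    · intro r
      rw [RingHom.comp_apply, hφC]
      change g (C r) = _
      rw [← MvPolynomial.algebraMap_eq, AlgHom.commutes]
      rfl
    · intro j
      rw [RingHom.comp_apply, hφX]
      by_cases hj : j = i
      · subst hj
        rw [if_pos rfl]
        change g (X j ^ p) = _
        rw [map_pow, hgX, if_pos rfl, hrootp]
      · rw [if_neg hj]
        change g (X j) = _
        rw [hgX, if_neg hj]
  have h1 : ∀ x : MvPolynomial σ R, e (g x) = x := by
    intro x
    have : e.comp g.toRingHom = RingHom.id (MvPolynomial σ R) := by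
      apply MvPolynomial.ringHom_ext
      · intro r
        rw [RingHom.comp_apply, RingHom.id_apply]
        change e (g (C r)) = _
        rw [← MvPolynomial.algebraMap_eq, AlgHom.commutes]
        change e (AdjoinRoot.of f (C r)) = _
        rw [AdjoinRoot.lift_of, hφC]
        rfl
      · intro j
        rw [RingHom.comp_apply, RingHom.id_apply]
        change e (g (X j)) = _
        rw [hgX]
        by_cases hj : j = i
        · subst hj
          rw [if_pos rfl, AdjoinRoot.lift_root]
        · rw [if_neg hj, AdjoinRoot.lift_of, hφX, if_neg hj]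
    exact RingHom.congr_fun this x
  have h2 : ∀ y : AdjoinRoot f, g (e y) = y := by
    intro y
    obtain ⟨q, rfl⟩ := AdjoinRoot.mk_surjective y
    have : (g.toRingHom.comp e).comp (AdjoinRoot.mk f) = AdjoinRoot.mk f := by
      apply Polynomial.ringHom_ext
      · intro s
        rw [RingHom.comp_apply, RingHom.comp_apply, AdjoinRoot.mk_C, AdjoinRoot.lift_of]
        exact RingHom.congr_fun hgφ s
      · rw [RingHom.comp_apply, RingHom.comp_apply, AdjoinRoot.mk_X, AdjoinRoot.lift_root]
        change g (X i) = _
        rw [hgX, if_pos rfl]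
    exact RingHom.congr_fun this q
  have hbij : Function.Bijective e :=
    Function.bijective_iff_has_inverse.mpr ⟨g, h2, h1⟩
  have hcomp : φ = e.comp (algebraMap (MvPolynomial σ R) (AdjoinRoot f)) := by
    apply RingHom.ext
    intro s
    rw [RingHom.comp_apply, AdjoinRoot.algebraMap_eq, AdjoinRoot.lift_of]
  change φ.Flat
  rw [hcomp]
  exact RingHom.Flat.comp (RingHom.flat_algebraMap_iff.mpr inferInstance)
    (RingHom.Flat.of_bijective hbij)

theorem Φ_flat (hp : p ≠ 0) (s : Finset σ) : (Φ (R := R) p s).toRingHom.Flat := by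
  induction s using Finset.induction_on with
  | empty =>
    rw [Φ_empty]
    exact RingHom.Flat.id _
  | insert i s hi ih =>
    rw [Φ_insert p s i hi]
    exact RingHom.Flat.comp ih (Φ_single_flat p hp i)

end Poly

section General

variable (p : ℕ) [Fact p.Prime] (A : Type u) [CommRing A] [CharP A p]
  (B : Type v) [CommRing B] [Algebra A B] [CharP B p]

theorem relFrob_tmul (b : B) (a : Twist p A) :
    relFrob p A B (b ⊗ₜ[A] a) = b ^ p * algebraMap A B ((toTwist p A).symm a) := rfl

end General

section PolyFrob

open MvPolynomial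

variable (p : ℕ) [Fact p.Prime] (A : Type u) [CommRing A] [CharP A p]
  (σ : Type w) [Fintype σ] [DecidableEq σ]

theorem Φ_univ_map_frobenius (x : MvPolynomial σ A) :
    Φ (R := A) p Finset.univ (MvPolynomial.map (frobenius A p) x) = x ^ p := by
  have : (Φ (R := A) (σ := σ) p Finset.univ).toRingHom.comp (MvPolynomial.map (frobenius A p)) =
      frobenius (MvPolynomial σ A) p := by
    apply MvPolynomial.ringHom_ext
    · intro a
      rw [RingHom.comp_apply, MvPolynomial.map_C, frobenius_def, frobenius_def]
      change Φ (R := A) p Finset.univ (C (a ^ p)) = _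
      rw [Φ_C, C_pow]
    · intro j
      rw [RingHom.comp_apply, MvPolynomial.map_X, frobenius_def]
      change Φ (R := A) p Finset.univ (X j) = _
      rw [Φ_X, if_pos (Finset.mem_univ j)]
  have h := RingHom.congr_fun this x
  rw [frobenius_def] at h
  exact h

theorem relFrob_mvPolynomial_flat : (relFrob p A (MvPolynomial σ A)).Flat := by
  have hp : p.Prime := Fact.out
  let θ : MvPolynomial σ A ⊗[A] Twist p A ≃+* MvPolynomial σ (Twist p A) :=
    (Algebra.TensorProduct.comm A (MvPolynomial σ A) (Twist p A)).toRingEquiv.trans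
      (algebraTensorAlgEquiv A (Twist p A)).toRingEquiv
  let μ : MvPolynomial σ (Twist p A) ≃+* MvPolynomial σ A :=
    MvPolynomial.mapEquiv σ (toTwist p A).symm
  have hcomp : ((toTwist p A).symm : Twist p A →+* A).comp (algebraMap A (Twist p A)) =
      frobenius A p := by
    apply RingHom.ext
    intro a
    rw [RingHom.comp_apply, algebraMap_twist, frobenius_def]
    exact RingEquiv.symm_apply_apply _ _
  have hfac : relFrob p A (MvPolynomial σ A) =
      ((Φ (R := A) (σ := σ) p Finset.univ).toRingHom.comp
        (μ : MvPolynomial σ (Twist p A) →+* MvPolynomial σ A)).comp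
        (θ : MvPolynomial σ A ⊗[A] Twist p A →+* MvPolynomial σ (Twist p A)) := by
    apply RingHom.ext
    intro x
    induction x using TensorProduct.induction_on with
    | zero => simp
    | tmul x t =>
      rw [relFrob_tmul]
      change _ = Φ (R := A) p Finset.univ (μ (θ (x ⊗ₜ[A] t)))
      have hθ : θ (x ⊗ₜ[A] t) = t • MvPolynomial.map (algebraMap A (Twist p A)) x := by
        simp [θ]
      rw [hθ, MvPolynomial.smul_eq_C_mul, map_mul, map_mul]
      have h1 : μ (C t) = C ((toTwist p A).symm t) := by
        simp [μ]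
      have h2 : μ (MvPolynomial.map (algebraMap A (Twist p A)) x) =
          MvPolynomial.map (frobenius A p) x := by
        simp only [μ, MvPolynomial.mapEquiv_apply]
        rw [MvPolynomial.map_map]
        congr 1
      rw [h1, h2, Φ_C, Φ_univ_map_frobenius, mul_comm]
      rfl
    | add x y hx hy => rw [map_add, map_add, hx, hy]
  rw [hfac]
  exact RingHom.Flat.comp (RingHom.Flat.of_bijective θ.bijective)
    (RingHom.Flat.comp (RingHom.Flat.of_bijective μ.bijective) (Φ_flat p hp.ne_zero _))

end PolyFrob

section Retract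

/-- If `R → S` is unramified (of essentially finite type) and `T` is an `S`-algebra flat over `R`,
then `T` is flat over `S`: `T` is an `S`-linear retract of `S ⊗[R] T`. -/
theorem flat_of_formallyUnramified {R : Type u} {S : Type v} {T : Type w}
    [CommRing R] [CommRing S] [CommRing T] [Algebra R S] [Algebra S T] [Algebra R T]
    [IsScalarTower R S T] [Algebra.FormallyUnramified R S] [Algebra.EssFiniteType R S]
    [Module.Flat R T] : Module.Flat S T := by
  obtain ⟨e, he1, he2⟩ :=
    (Algebra.FormallyUnramified.iff_exists_tensorProduct (R := R) (S := S)).mp inferInstance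
  let F : S ⊗[R] S →ₐ[S] S ⊗[R] T :=
    Algebra.TensorProduct.map (AlgHom.id S S) (IsScalarTower.toAlgHom R S T)
  let μ : S ⊗[R] T →ₐ[R] T :=
    Algebra.TensorProduct.productMap (IsScalarTower.toAlgHom R S T) (AlgHom.id R T)
  have hμ : ∀ (s : S) (t : T), μ (s ⊗ₜ[R] t) = algebraMap S T s * t := fun s t => by
    simp [μ]
  have hF : ∀ (a b : S), F (a ⊗ₜ[R] b) = a ⊗ₜ[R] algebraMap S T b := fun a b => by
    simp [F]
  have hμF : ∀ w : S ⊗[R] S, μ (F w) = algebraMap S T (Algebra.TensorProduct.lmul' R w) := by
    intro w
    induction w using TensorProduct.induction_on with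
    | zero => simp
    | tmul a b => rw [hF, hμ, Algebra.TensorProduct.lmul'_apply_tmul, map_mul]
    | add x y hx hy => simp only [map_add, hx, hy]
  have he' : ∀ s : S, F e * ((1 : S) ⊗ₜ[R] algebraMap S T s) = F e * (s ⊗ₜ[R] (1 : T)) := by
    intro s
    have h := congrArg F (he1 s)
    rw [map_mul, map_sub, map_zero, hF, hF, map_one, sub_mul, sub_eq_zero] at h
    rw [mul_comm (F e), mul_comm (F e)]
    exact h
  let r : S ⊗[R] T →ₗ[S] T :=
    { toFun := μ
      map_add' := map_add μ
      map_smul' := fun s n => by
        rw [RingHom.id_apply, Algebra.smul_def, map_mul, Algebra.TensorProduct.algebraMap_apply,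
          Algebra.algebraMap_self_apply, hμ, mul_one, Algebra.smul_def] }
  let i : T →ₗ[S] S ⊗[R] T :=
    { toFun := fun t => F e * ((1 : S) ⊗ₜ[R] t)
      map_add' := fun a b => by rw [TensorProduct.tmul_add, mul_add]
      map_smul' := fun s t => by
        rw [RingHom.id_apply, Algebra.smul_def s t,
          show (1 : S) ⊗ₜ[R] (algebraMap S T s * t) =
            ((1 : S) ⊗ₜ[R] algebraMap S T s) * ((1 : S) ⊗ₜ[R] t) by
              rw [Algebra.TensorProduct.tmul_mul_tmul, one_mul],
          ← mul_assoc, he' s, Algebra.smul_def s (F e * _),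
          Algebra.TensorProduct.algebraMap_apply, Algebra.algebraMap_self_apply]
        ring }
  refine Module.Flat.of_retract i r ?_
  ext t
  change μ (F e * ((1 : S) ⊗ₜ[R] t)) = t
  rw [map_mul, hμF, he2, map_one, one_mul, hμ, map_one, one_mul]

end Retract


section EtaleStep

/-- Abstract square: `R → S` unramified, `R → P'` flat, `P' → C'` flat, `S → C'` making the square
commute; then `S → C'` is flat. -/
theorem flat_of_square {R : Type u} {S : Type v} {P' : Type w} {C' : Type*}
    [CommRing R] [CommRing S] [CommRing P'] [CommRing C'] [Algebra R S]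
    [Algebra.FormallyUnramified R S] [Algebra.EssFiniteType R S]
    (g : R →+* P') (h : P' →+* C') (k : S →+* C') (hg : g.Flat) (hh : h.Flat)
    (hcomm : ∀ r, k (algebraMap R S r) = h (g r)) : k.Flat := by
  letI := g.toAlgebra
  letI := h.toAlgebra
  letI := k.toAlgebra
  letI : Algebra R C' := (h.comp g).toAlgebra
  haveI : IsScalarTower R P' C' := IsScalarTower.of_algebraMap_eq (fun z => rfl)
  haveI : IsScalarTower R S C' := IsScalarTower.of_algebraMap_eq (fun z => (hcomm z).symm)
  haveI : Module.Flat R P' := hg
  haveI : Module.Flat P' C' := hh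
  haveI : Module.Flat R C' := Module.Flat.trans R P' C'
  exact flat_of_formallyUnramified (R := R) (S := S) (T := C')

variable (p : ℕ) [Fact p.Prime] (A : Type u) [CommRing A] [CharP A p]
  (P : Type v) [CommRing P] [Algebra A P] [CharP P p]
  (C : Type w) [CommRing C] [Algebra A C] [CharP C p] [Algebra P C] [IsScalarTower A P C]

theorem relFrob_natural (z : P ⊗[A] Twist p A) :
    relFrob p A C (Algebra.TensorProduct.map (IsScalarTower.toAlgHom A P C)
      (AlgHom.id A (Twist p A)) z) = algebraMap P C (relFrob p A P z) := by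
  induction z using TensorProduct.induction_on with
  | zero => simp
  | tmul x t =>
    rw [Algebra.TensorProduct.map_tmul, relFrob_tmul, relFrob_tmul, map_mul, map_pow,
      ← IsScalarTower.algebraMap_apply A P C]
    rfl
  | add x y hx hy => simp only [map_add, hx, hy]

/-- If `P → C` is étale and the relative Frobenius of `P` over `A` is flat, so is the one of `C`. -/
theorem flat_relFrob_of_etale [Algebra.Etale P C] (hP : (relFrob p A P).Flat) :
    (relFrob p A C).Flat := by
  let m : P ⊗[A] Twist p A →ₐ[A] C ⊗[A] Twist p A :=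
    Algebra.TensorProduct.map (IsScalarTower.toAlgHom A P C) (AlgHom.id A (Twist p A))
  letI alg1 : Algebra (P ⊗[A] Twist p A) (C ⊗[A] Twist p A) := m.toRingHom.toAlgebra
  haveI tow1 : IsScalarTower P (P ⊗[A] Twist p A) (C ⊗[A] Twist p A) :=
    IsScalarTower.of_algebraMap_eq (fun x => by
      change _ = m (algebraMap P (P ⊗[A] Twist p A) x)
      rw [Algebra.TensorProduct.algebraMap_apply, Algebra.TensorProduct.algebraMap_apply]
      simp [m])
  have H : (algebraMap (P ⊗[A] Twist p A) (C ⊗[A] Twist p A)).comp
      (Algebra.TensorProduct.includeRight : Twist p A →ₐ[A] P ⊗[A] Twist p A).toRingHom =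
      (Algebra.TensorProduct.includeRight : Twist p A →ₐ[A] C ⊗[A] Twist p A).toRingHom := by
    ext t
    change m ((1 : P) ⊗ₜ[A] t) = (1 : C) ⊗ₜ[A] t
    simp [m]
  haveI po : Algebra.IsPushout P C (P ⊗[A] Twist p A) (C ⊗[A] Twist p A) :=
    Algebra.IsPushout.tensorProduct_tensorProduct A (Twist p A) P C H
  haveI po' : Algebra.IsPushout P (P ⊗[A] Twist p A) C (C ⊗[A] Twist p A) := po.symm
  let e : (P ⊗[A] Twist p A) ⊗[P] C ≃ₐ[P ⊗[A] Twist p A] C ⊗[A] Twist p A :=
    Algebra.IsPushout.equiv P (P ⊗[A] Twist p A) C (C ⊗[A] Twist p A)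
  haveI et : Algebra.Etale (P ⊗[A] Twist p A) (C ⊗[A] Twist p A) := Algebra.Etale.of_equiv e
  exact flat_of_square (R := P ⊗[A] Twist p A) (S := C ⊗[A] Twist p A)
    (relFrob p A P) (algebraMap P C) (relFrob p A C) hP
    (RingHom.flat_algebraMap_iff.mpr inferInstance)
    (fun r => relFrob_natural p A P C r)

end EtaleStep


section Glue

/-- Universe-polymorphic version of `RingHom.Flat.ofLocalizationSpanTarget`. -/
theorem flat_of_localization_span_target {R : Type u} {S : Type v} [CommRing R] [CommRing S]
    (f : R →+* S) (s : Set S) (hsp : Ideal.span s = ⊤)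
    (h : ∀ r : s, ((algebraMap S (Localization.Away r.1)).comp f).Flat) : f.Flat := by
  algebraize_only [f]
  refine Module.flat_of_isLocalized_span _ _ s hsp _
    (fun r ↦ Algebra.linearMap S <| Localization.Away r.1) ?_
  dsimp only [RingHom.Flat] at h
  convert! h; ext
  apply Algebra.smul_def

variable (p : ℕ) [Fact p.Prime] (A : Type u) [CommRing A] [CharP A p]

theorem charP_of_algebra_nontrivial (C : Type w) [CommRing C] [Algebra A C] [Nontrivial C] :
    CharP C p := by
  have hp : p.Prime := Fact.out
  have h0 : (p : C) = 0 := by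
    have h : (p : C) = algebraMap A C (p : A) := (map_natCast (algebraMap A C) p).symm
    rw [h, CharP.cast_eq_zero, map_zero]
  exact ringChar.of_eq (CharP.ringChar_of_prime_eq_zero hp h0)

theorem flat_relFrob_of_isStandardSmooth (C : Type w) [CommRing C] [Algebra A C] [CharP C p]
    [Algebra.IsStandardSmooth A C] : (relFrob p A C).Flat := by
  classical
  obtain ⟨n, γ, hγ, hγe⟩ := RingHom.IsStandardSmooth.exists_etale_mvPolynomial
    (RingHom.isStandardSmooth_algebraMap.mpr (inferInstance : Algebra.IsStandardSmooth A C))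
  letI : Algebra (MvPolynomial (Fin n) A) C := γ.toAlgebra
  haveI : IsScalarTower A (MvPolynomial (Fin n) A) C :=
    IsScalarTower.of_algebraMap_eq (fun a => by rw [← hγ]; rfl)
  haveI : Algebra.Etale (MvPolynomial (Fin n) A) C := hγe
  exact flat_relFrob_of_etale p A (MvPolynomial (Fin n) A) C
    (relFrob_mvPolynomial_flat p A (Fin n))

/-- The relative Frobenius of a smooth algebra in characteristic `p` is flat. -/
theorem flat_relFrob_of_smooth (B : Type v) [CommRing B] [Algebra A B] [CharP B p]
    [Algebra.Smooth A B] : (relFrob p A B).Flat := by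
  obtain ⟨s, hsp, hs⟩ := Algebra.Smooth.exists_span_eq_top_isStandardSmooth A B
  refine flat_of_localization_span_target (relFrob p A B) s hsp (fun r => ?_)
  haveI : Algebra.IsStandardSmooth A (Localization.Away r.1) := hs r.1 r.2
  rcases subsingleton_or_nontrivial (Localization.Away r.1) with hsub | hnt
  · letI := ((algebraMap B (Localization.Away r.1)).comp (relFrob p A B)).toAlgebra
    change Module.Flat (B ⊗[A] Twist p A) (Localization.Away r.1)
    haveI := Module.Free.of_subsingleton (B ⊗[A] Twist p A) (Localization.Away r.1)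
    infer_instance
  · haveI : CharP (Localization.Away r.1) p := charP_of_algebra_nontrivial p A _
    have hnat : (algebraMap B (Localization.Away r.1)).comp (relFrob p A B) =
        (relFrob p A (Localization.Away r.1)).comp
          (Algebra.TensorProduct.map (IsScalarTower.toAlgHom A B (Localization.Away r.1))
            (AlgHom.id A (Twist p A))).toRingHom := by
      apply RingHom.ext
      intro z
      exact (relFrob_natural p A B (Localization.Away r.1) z).symm
    rw [hnat]
    refine RingHom.Flat.comp ?_ (flat_relFrob_of_isStandardSmooth p A _)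
    exact RingHom.Flat.tensorProductMap (R := A) (S := A)
      (RingHom.flat_algebraMap_iff.mpr inferInstance) (RingHom.Flat.id _)

end Glue

end Groth.Agent.Lib.Helper24.RelFrobSmooth
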