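import Mathlib
import Groth.Agent.Lib.Helper24.RelFrobEtale
import Groth.Agent.Lib.Helper24.RelFrobSmooth

/-!
In characteristic `p`, a finite etale cover of a closed subscheme `Spec A ⊆ Spec R` is dominated
by the restriction of a finite etale cover of `Spec R`: the explicit cover
`R[x]/(x_j^p - Σ_i β_{ji} x_i)` with `β` an invertible matrix.
-/

set_option autoImplicit false
set_option maxHeartbeats 400000
universe u

namespace Groth.Agent.Lib.Helper24.CharPCover

open MvPolynomial TensorProduct

/-- the relations `x_j^p = Σ_i β_{ji} x_i` -/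
noncomputable def rel (p : ℕ) {R : Type u} [CommRing R] {ι : Type} [Fintype ι]
    (β : Matrix ι ι R) (j : ι) : MvPolynomial ι R :=
  X j ^ p - ∑ i, C (β j i) * X i

/-- the cover `R[x]/(x^{(p)} - βx)` -/
abbrev Cov (p : ℕ) {R : Type u} [CommRing R] {ι : Type} [Fintype ι] (β : Matrix ι ι R) : Type u :=
  MvPolynomial ι R ⧸ Ideal.span (Set.range (rel p β))

section Cov

variable (p : ℕ) {R : Type u} [CommRing R] {ι : Type} [Fintype ι] (β : Matrix ι ι R)

theorem mk_X_pow (j : ι) :
    (Ideal.Quotient.mk (Ideal.span (Set.range (rel p β))) (X j ^ p)) =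
      Ideal.Quotient.mk _ (∑ i, C (β j i) * X i) := by
  rw [Ideal.Quotient.eq]
  exact Ideal.subset_span ⟨j, rfl⟩

theorem finite_cov (hp : 2 ≤ p) : Module.Finite R (Cov p β) := by
  classical
  set D := Fintype.card ι * (p - 1) with hD
  let π : MvPolynomial ι R →ₐ[R] Cov p β := Ideal.Quotient.mkₐ R _
  let M : Submodule R (Cov p β) := Submodule.map π.toLinearMap (restrictTotalDegree ι R D)
  have key : ∀ (d : ℕ) (e : ι →₀ ℕ), e.degree = d → π (monomial e 1) ∈ M := by
    intro d
    induction d using Nat.strong_induction_on with
    | _ d ih =>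
      intro e he
      by_cases hle : e.degree ≤ D
      · refine ⟨monomial e 1, ?_, rfl⟩
        rw [SetLike.mem_coe, mem_restrictTotalDegree]
        exact (totalDegree_monomial_le e 1).trans hle
      · push Not at hle
        obtain ⟨j, hj⟩ : ∃ j, p ≤ e j := by
          by_contra hcon
          push Not at hcon
          have h1 : e.degree ≤ D := by
            rw [Finsupp.degree_eq_sum, hD]
            calc ∑ i, e i ≤ ∑ _i : ι, (p - 1) :=
                  Finset.sum_le_sum (fun i _ => Nat.le_sub_one_of_lt (hcon i))
              _ = Fintype.card ι * (p - 1) := by simp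
          omega
        obtain ⟨e', hee⟩ : ∃ e' : ι →₀ ℕ, e = e' + Finsupp.single j p :=
          ⟨e - Finsupp.single j p, (tsub_add_cancel_of_le (Finsupp.single_le_iff.mpr hj)).symm⟩
        have hdeg : e.degree = e'.degree + p := by
          rw [hee, map_add, Finsupp.degree_single]
        have h1 : π (monomial e 1) = ∑ i, β j i • π (monomial (e' + Finsupp.single i 1) 1) := by
          have h2 : (monomial e (1 : R)) = monomial e' 1 * X j ^ p := by
            rw [hee, monomial_add_single]
          have h3 : π (X j ^ p) = π (∑ i, C (β j i) * X i) := mk_X_pow p β j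
          rw [h2, map_mul, h3, ← map_mul, Finset.mul_sum, map_sum]
          refine Finset.sum_congr rfl (fun i _ => ?_)
          rw [monomial_add_single, pow_one, ← map_smul]
          congr 1
          rw [smul_eq_C_mul]
          ring
        rw [h1]
        refine Submodule.sum_mem _ (fun i _ => Submodule.smul_mem _ _ ?_)
        refine ih (e' + Finsupp.single i 1).degree ?_ _ rfl
        rw [map_add, Finsupp.degree_single]
        omega
  have hall : ∀ q : MvPolynomial ι R, π q ∈ M := by
    intro q
    induction q using MvPolynomial.induction_on' with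
    | monomial e a =>
      have h1 : (monomial e a : MvPolynomial ι R) = a • monomial e 1 := by
        rw [smul_monomial, smul_eq_mul, mul_one]
      rw [h1, map_smul]
      exact Submodule.smul_mem _ _ (key _ e rfl)
    | add q₁ q₂ h₁ h₂ =>
      rw [map_add]
      exact Submodule.add_mem _ h₁ h₂
  have hsurj : Function.Surjective
      (π.toLinearMap.comp (restrictTotalDegree ι R D).subtype) := by
    intro x
    obtain ⟨q, rfl⟩ := Ideal.Quotient.mk_surjective x
    obtain ⟨q', hq', h⟩ := hall q
    exact ⟨⟨q', hq'⟩, h⟩
  exact Module.Finite.of_surjective _ hsurj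

variable [DecidableEq ι]

/-- the presubmersive presentation of `Cov` -/
noncomputable def preSub : Algebra.PreSubmersivePresentation R (Cov p β) ι ι where
  toPresentation := Algebra.Presentation.naive (v := rel p β)
  map := id
  map_inj := Function.injective_id

theorem jacobiMatrix_preSub [Fact p.Prime] [CharP R p] (i j : ι) :
    (preSub p β).jacobiMatrix i j = - C (β j i) := by
  rw [Algebra.PreSubmersivePresentation.jacobiMatrix_apply]
  show pderiv i (rel p β j) = _
  unfold rel
  rw [map_sub, map_sum, Derivation.leibniz_pow, nsmul_eq_mul, CharP.cast_eq_zero, zero_mul,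
    zero_sub]
  congr 1
  rw [Finset.sum_eq_single i]
  · rw [pderiv_C_mul, pderiv_X, Pi.single_eq_same, mul_one]
  · intro k _ hk
    rw [pderiv_C_mul, pderiv_X, Pi.single_eq_of_ne hk, mul_zero]
  · intro h
    exact absurd (Finset.mem_univ i) h

theorem etale_cov [Fact p.Prime] [CharP R p] (hβ : IsUnit β.det) : Algebra.Etale R (Cov p β) := by
  classical
  have hM : (preSub p β).jacobiMatrix = -((C : R →+* MvPolynomial ι R).mapMatrix β).transpose := by
    ext i j
    rw [jacobiMatrix_preSub]
    rfl
  have hdet : IsUnit (preSub p β).jacobiMatrix.det := by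
    rw [hM, Matrix.det_neg, Matrix.det_transpose, ← RingHom.map_det]
    exact ((isUnit_one.neg).pow _).mul (hβ.map _)
  let P : Algebra.SubmersivePresentation R (Cov p β) ι ι :=
    { toPreSubmersivePresentation := preSub p β
      jacobian_isUnit := by
        rw [Algebra.PreSubmersivePresentation.jacobian_eq_jacobiMatrix_det]
        exact hdet.map _ }
  have h0 : Algebra.IsStandardSmoothOfRelativeDimension 0 R (Cov p β) :=
    P.isStandardSmoothOfRelativeDimension (by simp [Algebra.Presentation.dimension])
  exact Algebra.Etale.iff_isStandardSmoothOfRelativeDimension_zero.mpr h0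

/-- the map to an algebra containing a solution -/
noncomputable def toB {B : Type u} [CommRing B] [Algebra R B] (g : ι → B)
    (hg : ∀ j, g j ^ p = ∑ i, algebraMap R B (β j i) * g i) : Cov p β →ₐ[R] B :=
  Ideal.Quotient.liftₐ _ (aeval g) (by
    intro a ha
    have h1 : Ideal.span (Set.range (rel p β)) ≤
        RingHom.ker (aeval g : MvPolynomial ι R →ₐ[R] B) := by
      rw [Ideal.span_le]
      rintro _ ⟨j, rfl⟩
      rw [SetLike.mem_coe, RingHom.mem_ker]
      unfold rel
      simp only [map_sub, map_pow, aeval_X, map_sum, map_mul, aeval_C]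
      rw [hg j, sub_self]
    exact h1 ha)

omit [DecidableEq ι] in
theorem toB_mk_X {B : Type u} [CommRing B] [Algebra R B] (g : ι → B)
    (hg : ∀ j, g j ^ p = ∑ i, algebraMap R B (β j i) * g i) (i : ι) :
    toB p β g hg (Ideal.Quotient.mk _ (X i)) = g i := by
  simp [toB]

end Cov

open Groth.Agent.Lib.Helper24.RelFrobEtale in
/-- an etale algebra in characteristic `p` is spanned by the `p`-th powers of module generators -/
theorem span_pow_eq_top (p : ℕ) [Fact p.Prime] (A B : Type u) [CommRing A] [CharP A p] [CommRing B]
    [Algebra A B] [CharP B p] [Algebra.Etale A B] {n : ℕ} (e : Fin n → B)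
    (he : Submodule.span A (Set.range e) = ⊤) :
    Submodule.span A (Set.range fun j => e j ^ p) = ⊤ := by
  have hpow : ∀ y : B, y ^ p ∈ Submodule.span A (Set.range fun j => e j ^ p) := by
    intro y
    have hy : y ∈ Submodule.span A (Set.range e) := he ▸ Submodule.mem_top
    obtain ⟨c, rfl⟩ := (Submodule.mem_span_range_iff_exists_fun A).mp hy
    rw [sum_pow_char]
    refine Submodule.sum_mem _ (fun i _ => ?_)
    rw [smul_pow]
    exact Submodule.smul_mem _ _ (Submodule.subset_span ⟨i, rfl⟩)
  have hall : ∀ t, FrobAlg.relFrob p A B t ∈ Submodule.span A (Set.range fun j => e j ^ p) := by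
    intro t
    induction t using TensorProduct.induction_on with
    | zero =>
      rw [map_zero]
      exact Submodule.zero_mem _
    | tmul b a =>
      rw [relFrob_tmul, mul_comm, ← Algebra.smul_def]
      exact Submodule.smul_mem _ _ (hpow b)
    | add x y hx hy =>
      rw [map_add]
      exact Submodule.add_mem _ hx hy
  rw [eq_top_iff]
  intro x _
  obtain ⟨t, rfl⟩ := (bijective_of_etale p A B).2 x
  exact hall t

end Groth.Agent.Lib.Helper24.CharPCover
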