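import Mathlib
import Groth.Agent.Lib.Helper24.CharPCover

/-!
Main theorem: in characteristic `p`, every finite etale algebra over a quotient `A` of `R` is
dominated by the restriction of a finite etale `R`-algebra.
-/

set_option autoImplicit false
set_option maxHeartbeats 400000
universe u

namespace Groth.Agent.Lib.Helper24.CharPCoverMain

open MvPolynomial TensorProduct Matrix
open Groth.Agent.Lib.Helper24.CharPCover

theorem exists_coeff {R A B : Type u} [CommRing R] [CommRing A] [CommRing B] [Algebra R A]
    (hRA : Function.Surjective (algebraMap R A)) [Algebra A B] {n : ℕ} (v : Fin n → B)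
    (hv : Submodule.span A (Set.range v) = ⊤) (x : B) :
    ∃ c : Fin n → R, ∑ i, algebraMap A B (algebraMap R A (c i)) * v i = x := by
  have hx : x ∈ Submodule.span A (Set.range v) := hv ▸ Submodule.mem_top
  obtain ⟨c', rfl⟩ := (Submodule.mem_span_range_iff_exists_fun A).mp hx
  choose c hc using fun i => hRA (c' i)
  refine ⟨c, Finset.sum_congr rfl (fun i _ => ?_)⟩
  rw [hc, Algebra.smul_def]

theorem main (p : ℕ) [Fact p.Prime] (R A B : Type u)
    [CommRing R] [CommRing A] [CommRing B] [CharP R p] [Algebra R A]
    (hRA : Function.Surjective (algebraMap R A)) [Algebra A B] [Module.Finite A B]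
    [Algebra.Etale A B] :
    ∃ (C : Type u) (_ : CommRing C) (_ : Algebra R C), Module.Finite R C ∧ Algebra.Etale R C ∧
      ∃ ψ : A ⊗[R] C →ₐ[A] B, Function.Surjective ψ := by
  classical
  have hp : p.Prime := Fact.out
  rcases subsingleton_or_nontrivial B with hB | hB
  · refine ⟨R, inferInstance, inferInstance, inferInstance, inferInstance,
      (Algebra.ofId A B).comp (Algebra.TensorProduct.rid R A A).toAlgHom, ?_⟩
    exact Function.surjective_to_subsingleton _
  · haveI : Nontrivial A := (algebraMap A B).domain_nontrivial
    haveI : CharP A p := Groth.Agent.Lib.Helper24.RelFrobSmooth.charP_of_algebra_nontrivial p R A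
    haveI : CharP B p := Groth.Agent.Lib.Helper24.RelFrobSmooth.charP_of_algebra_nontrivial p A B
    letI algRB : Algebra R B := ((algebraMap A B).comp (algebraMap R A)).toAlgebra
    haveI : IsScalarTower R A B := IsScalarTower.of_algebraMap_eq (fun _ => rfl)
    obtain ⟨n, e, he⟩ := Module.Finite.exists_fin (R := A) (M := B)
    have hpe := span_pow_eq_top p A B e he
    choose b hb using fun j : Fin n => exists_coeff hRA e he (e j ^ p)
    choose a ha using fun i : Fin n => exists_coeff hRA (fun j => e j ^ p) hpe (e i)
    let bm : Matrix (Fin n) (Fin n) R := Matrix.of b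
    let am : Matrix (Fin n) (Fin n) R := Matrix.of a
    let β : Matrix (Fin n ⊕ Fin n) (Fin n ⊕ Fin n) R :=
      Matrix.fromBlocks bm (-1) (1 - am * bm) am
    let γ : Matrix (Fin n ⊕ Fin n) (Fin n ⊕ Fin n) R :=
      Matrix.fromBlocks am 1 (bm * am - 1) bm
    have hβγ : β * γ = 1 := by
      show Matrix.fromBlocks bm (-1) (1 - am * bm) am * Matrix.fromBlocks am 1 (bm * am - 1) bm = 1
      rw [Matrix.fromBlocks_multiply, ← Matrix.fromBlocks_one]
      congr 1
      · noncomm_ring
      · noncomm_ring
      · noncomm_ring
      · noncomm_ring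
    have hdet : IsUnit β.det := Matrix.isUnit_det_of_right_inverse hβγ
    -- the solution vector
    let g : Fin n ⊕ Fin n → B := Sum.elim e (fun _ => 0)
    have hg : ∀ j, g j ^ p = ∑ i, algebraMap R B (β j i) * g i := by
      intro j
      rw [Fintype.sum_sum_type]
      rcases j with j | j
      · show e j ^ p = ∑ i, algebraMap R B (bm j i) * e i +
          ∑ i, algebraMap R B ((-1 : Matrix (Fin n) (Fin n) R) j i) * 0
        simp only [mul_zero, Finset.sum_const_zero, add_zero]
        exact (hb j).symm
      · show (0 : B) ^ p = ∑ i, algebraMap R B ((1 - am * bm) j i) * e i +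
          ∑ i, algebraMap R B (am j i) * 0
        simp only [mul_zero, Finset.sum_const_zero, add_zero]
        rw [zero_pow hp.ne_zero]
        have h1 : ∀ i, algebraMap R B ((1 - am * bm) j i) * e i =
            algebraMap R B ((1 : Matrix (Fin n) (Fin n) R) j i) * e i -
              ∑ k, algebraMap R B (a j k) * (algebraMap R B (b k i) * e i) := by
          intro i
          rw [Matrix.sub_apply, Matrix.mul_apply, map_sub, map_sum, sub_mul, Finset.sum_mul]
          congr 1
          refine Finset.sum_congr rfl (fun k _ => ?_)
          rw [map_mul, mul_assoc]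
          rfl
        rw [Finset.sum_congr rfl (fun i _ => h1 i), Finset.sum_sub_distrib, Finset.sum_comm]
        have h2 : ∑ i, algebraMap R B ((1 : Matrix (Fin n) (Fin n) R) j i) * e i = e j := by
          rw [Finset.sum_eq_single j]
          · rw [Matrix.one_apply_eq, map_one, one_mul]
          · intro i _ hi
            rw [Matrix.one_apply_ne (Ne.symm hi), map_zero, zero_mul]
          · intro h
            exact absurd (Finset.mem_univ j) h
        have h3 : ∑ k, ∑ i, algebraMap R B (a j k) * (algebraMap R B (b k i) * e i) = e j := by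
          rw [← ha j]
          refine Finset.sum_congr rfl (fun k _ => ?_)
          rw [← Finset.mul_sum]
          congr 1
          exact hb k
        rw [h2, h3, sub_self]
    refine ⟨Cov p β, inferInstance, inferInstance, finite_cov p β hp.two_le, etale_cov p β hdet,
      Algebra.TensorProduct.lift (Algebra.ofId A B) (toB p β g hg) (fun _ _ => Commute.all _ _), ?_⟩
    intro x
    obtain ⟨c, rfl⟩ := (Submodule.mem_span_range_iff_exists_fun A).mp
      (he ▸ Submodule.mem_top : x ∈ Submodule.span A (Set.range e))
    refine ⟨∑ i, c i ⊗ₜ[R] (Ideal.Quotient.mk _ (X (Sum.inl i)) : Cov p β), ?_⟩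
    rw [map_sum]
    refine Finset.sum_congr rfl (fun i _ => ?_)
    rw [Algebra.TensorProduct.lift_tmul, toB_mk_X, Algebra.smul_def]
    rfl

end Groth.Agent.Lib.Helper24.CharPCoverMain
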