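import Mathlib

set_option maxHeartbeats 400000
set_option linter.style.haveILetI false
set_option linter.unusedSectionVars false
set_option autoImplicit false

/-! Characteristic series of complexes, part A: ring-level lemmas about contractible
`ℤ/2`-graded differential modules, and the function `P f = det (1 - X f)`. -/

namespace Groth.Agent.Lib.Helper24.CharSer

section RingLevel

variable {R : Type*} [Ring R]

theorem contraction_normal {d s : R} (hdd : d * d = 0) (hds : d * s + s * d = 1) :
    d * (s * d * s) + (s * d * s) * d = 1 ∧ (s * d * s) * (s * d * s) = 0 := by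
  have L1 : d * s * d = d := by linear_combination (norm := noncomm_ring) hds * d - s * hdd
  have L3 : d * s * (s * d) = 0 := by
    linear_combination (norm := noncomm_ring) hds * (s * d) - s * L1
  constructor
  · linear_combination (norm := noncomm_ring) L1 * s + s * L1 + hds
  · linear_combination (norm := noncomm_ring) s * L3 * s

/-- A pair of complementary orthogonal idempotents (parity projections). -/
structure Par (πE πO : R) : Prop where
  sum : πE + πO = 1
  EO : πE * πO = 0
  OE : πO * πE = 0

namespace Par

variable {πE πO : R} (h : Par πE πO)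
include h

theorem EE : πE * πE = πE := by linear_combination (norm := noncomm_ring) πE * h.sum - h.EO

theorem OO : πO * πO = πO := by linear_combination (norm := noncomm_ring) πO * h.sum - h.OE

theorem symm : Par πO πE := ⟨by rw [add_comm]; exact h.sum, h.OE, h.EO⟩

theorem comm_O {x : R} (hx : x * πE = πE * x) : x * πO = πO * x := by
  linear_combination (norm := noncomm_ring) x * h.sum - h.sum * x - hx

theorem eps_mul {x y : R} (hx : x * πE = πE * x) :
    (πE * x + πO) * (πE * y + πO) = πE * (x * y) + πO := by
  have hxO := h.comm_O hx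
  linear_combination (norm := noncomm_ring)
    πE * hx * y + h.EE * x * y + πE * hxO + h.EO * x + h.OE * y + h.OO

end Par

variable {M : Type*} [CommMonoid M] (δ : R →* M)

theorem conj_eq {πE πO D x : R} (hDD : D * D = 1) (hDE : D * πE = πO * D)
    (hDO : D * πO = πE * D) (hxD : x * D = D * x) :
    δ (πE * x + πO) = δ (πE + πO * x) := by
  have key : D * (πE * x + πO) * D = πE + πO * x := by
    linear_combination (norm := noncomm_ring)
      hDE * x * D - πO * hxD * D + πO * x * hDD + hDO * D + πE * hDD
  calc δ (πE * x + πO) = δ (πE * x + πO) * δ (D * D) := by rw [hDD, map_one, mul_one]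
    _ = δ (D * (πE * x + πO) * D) := by
        rw [map_mul, map_mul, map_mul, mul_comm (δ D) (δ (πE * x + πO)), mul_assoc]
    _ = δ (πE + πO * x) := by rw [key]

theorem tri_eq (hS : ∀ x y : R, δ (1 + x * y) = δ (1 + y * x)) {πE πO p q θ : R}
    (h : Par πE πO) (hpq1 : p + q = 1) (hpq : p * q = 0) (hqp : q * p = 0)
    (hpE : p * πE = πE * p) (hqE : q * πE = πE * q) (hθE : θ * πE = πE * θ)
    (hqθp : q * θ * p = 0) :
    δ (πE * θ + πO) = δ (πE * (p * θ * p + q * θ * q) + πO) := by
  have hpp : p * p = p := by linear_combination (norm := noncomm_ring) p * hpq1 - hpq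
  have hqq : q * q = q := by linear_combination (norm := noncomm_ring) q * hpq1 - hqp
  have haE : (p + q * θ * q) * πE = πE * (p + q * θ * q) := by
    linear_combination (norm := noncomm_ring) hpE + q * θ * hqE + q * hθE * q + hqE * θ * q
  have hnE : (1 + p * θ * q) * πE = πE * (1 + p * θ * q) := by
    linear_combination (norm := noncomm_ring) p * θ * hqE + p * hθE * q + hpE * θ * q
  have h1 : θ = (p + q * θ * q) * (p * θ + q) := by
    linear_combination (norm := noncomm_ring)
      -(hpq1 * θ) - hpp * θ - hpq - q * θ * hpq1 + hqθp - q * θ * hqp * θ - q * θ * hqq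
  have h2 : p * θ + q = (1 + p * θ * q) * (p * θ * p + q) := by
    linear_combination (norm := noncomm_ring)
      -(p * θ * hpq1) - p * θ * hqq - p * θ * hqp * θ * p
  have h3 : p * θ * p + q * θ * q = (p + q * θ * q) * (p * θ * p + q) := by
    linear_combination (norm := noncomm_ring)
      -(hpp * θ * p) - hpq - q * θ * hqp * θ * p - q * θ * hqq
  have hn1 : δ (πE * (1 + p * θ * q) + πO) = 1 := by
    have e1 : πE * (1 + p * θ * q) + πO = 1 + (πE * p) * (θ * q) := by
      linear_combination (norm := noncomm_ring) h.sum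
    have e2 : (θ * q) * (πE * p) = 0 := by
      linear_combination (norm := noncomm_ring) θ * hqE * p + θ * πE * hqp
    rw [e1, hS, e2, add_zero, map_one]
  calc δ (πE * θ + πO)
      = δ (πE * ((p + q * θ * q) * (p * θ + q)) + πO) := by rw [← h1]
    _ = δ (πE * (p + q * θ * q) + πO) * δ (πE * (p * θ + q) + πO) := by
        rw [← h.eps_mul haE, map_mul]
    _ = δ (πE * (p + q * θ * q) + πO) *
          δ (πE * ((1 + p * θ * q) * (p * θ * p + q)) + πO) := by rw [← h2]
    _ = δ (πE * (p + q * θ * q) + πO) *
          (δ (πE * (1 + p * θ * q) + πO) * δ (πE * (p * θ * p + q) + πO)) := by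
        rw [← h.eps_mul hnE, map_mul]
    _ = δ (πE * (p + q * θ * q) + πO) * δ (πE * (p * θ * p + q) + πO) := by
        rw [hn1, one_mul]
    _ = δ (πE * ((p + q * θ * q) * (p * θ * p + q)) + πO) := by
        rw [← h.eps_mul haE, map_mul]
    _ = δ (πE * (p * θ * p + q * θ * q) + πO) := by rw [← h3]

theorem parity_det_eq (hS : ∀ x y : R, δ (1 + x * y) = δ (1 + y * x)) {πE πO d σ θ : R}
    (h : Par πE πO) (hdd : d * d = 0) (hσσ : σ * σ = 0) (hds : d * σ + σ * d = 1)
    (hdE : d * πE = πO * d) (hdO : d * πO = πE * d) (hσE : σ * πE = πO * σ)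
    (hσO : σ * πO = πE * σ) (hθE : θ * πE = πE * θ) (hθd : θ * d = d * θ) :
    δ (πE * θ + πO) = δ (πE + πO * θ) := by
  have B1 : d * σ * d = d := by linear_combination (norm := noncomm_ring) hds * d - σ * hdd
  have B2 : σ * d * σ = σ := by linear_combination (norm := noncomm_ring) hds * σ - d * hσσ
  have hpq : (d * σ) * (σ * d) = 0 := by linear_combination (norm := noncomm_ring) d * hσσ * d
  have hqp : (σ * d) * (d * σ) = 0 := by linear_combination (norm := noncomm_ring) σ * hdd * σ
  have hpE : (d * σ) * πE = πE * (d * σ) := by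
    linear_combination (norm := noncomm_ring) d * hσE + hdO * σ
  have hqE : (σ * d) * πE = πE * (σ * d) := by
    linear_combination (norm := noncomm_ring) σ * hdE + hσO * d
  have hqθp : (σ * d) * θ * (d * σ) = 0 := by
    linear_combination (norm := noncomm_ring) -(σ * hθd * d * σ) + σ * θ * hdd * σ
  have B8 : (d * σ * θ * (d * σ) + σ * d * θ * (σ * d)) * d = d * θ := by
    linear_combination (norm := noncomm_ring)
      d * σ * θ * B1 + σ * d * θ * σ * hdd + d * σ * hθd + B1 * θ
  have B9 : d * (d * σ * θ * (d * σ) + σ * d * θ * (σ * d)) = d * θ := by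
    linear_combination (norm := noncomm_ring)
      hdd * σ * θ * d * σ + B1 * θ * σ * d - hθd * σ * d + θ * B1 + hθd
  have B10 : (d * σ * θ * (d * σ) + σ * d * θ * (σ * d)) * σ = σ * θ * d * σ := by
    linear_combination (norm := noncomm_ring)
      d * σ * θ * d * hσσ + σ * d * θ * B2 - σ * hθd * σ
  have B11 : σ * (d * σ * θ * (d * σ) + σ * d * θ * (σ * d)) = σ * θ * d * σ := by
    linear_combination (norm := noncomm_ring) B2 * θ * d * σ + hσσ * d * θ * σ * d
  have B12 : (d * σ * θ * (d * σ) + σ * d * θ * (σ * d)) * (d + σ) =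
      (d + σ) * (d * σ * θ * (d * σ) + σ * d * θ * (σ * d)) := by
    linear_combination (norm := noncomm_ring) B8 - B9 + B10 - B11
  have hDD : (d + σ) * (d + σ) = 1 := by
    linear_combination (norm := noncomm_ring) hdd + hσσ + hds
  have hDE : (d + σ) * πE = πO * (d + σ) := by
    linear_combination (norm := noncomm_ring) hdE + hσE
  have hDO : (d + σ) * πO = πE * (d + σ) := by
    linear_combination (norm := noncomm_ring) hdO + hσO
  have t1 := tri_eq δ hS h hds hpq hqp hpE hqE hθE hqθp
  have t2 := tri_eq δ hS h.symm hds hpq hqp (h.comm_O hpE) (h.comm_O hqE) (h.comm_O hθE) hqθp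
  have t3 := conj_eq δ hDD hDE hDO B12
  calc δ (πE * θ + πO) = δ (πE * (d * σ * θ * (d * σ) + σ * d * θ * (σ * d)) + πO) := t1
    _ = δ (πE + πO * (d * σ * θ * (d * σ) + σ * d * θ * (σ * d))) := t3
    _ = δ (πO * (d * σ * θ * (d * σ) + σ * d * θ * (σ * d)) + πE) := by rw [add_comm]
    _ = δ (πO * θ + πE) := t2.symm
    _ = δ (πE + πO * θ) := by rw [add_comm]

end RingLevel

end Groth.Agent.Lib.Helper24.CharSer
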