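import Groth.Agent.Lib.Helper24.CharSerA

set_option maxHeartbeats 400000
set_option linter.style.haveILetI false
set_option linter.unusedSectionVars false
set_option autoImplicit false

/-! Characteristic series, part B: the function `P f = det (1 - X f)` on endomorphisms of finite
free modules. -/

namespace Groth.Agent.Lib.Helper24.CharSer

open Polynomial TensorProduct

section Gen

variable {B : Type*} [CommRing B] {T1 T2 : Type*} [AddCommGroup T1] [Module B T1]
  [AddCommGroup T2] [Module B T2] [Module.Free B T1] [Module.Finite B T1] [Module.Free B T2]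
  [Module.Finite B T2]

theorem det_one_add_comp_comm (G : T2 →ₗ[B] T1) (H : T1 →ₗ[B] T2) :
    LinearMap.det (LinearMap.id + G ∘ₗ H) = LinearMap.det (LinearMap.id + H ∘ₗ G) := by
  classical
  let b1 := Module.Free.chooseBasis B T1
  let b2 := Module.Free.chooseBasis B T2
  rw [← LinearMap.det_toMatrix b1, ← LinearMap.det_toMatrix b2, map_add, map_add,
    LinearMap.toMatrix_id, LinearMap.toMatrix_id, LinearMap.toMatrix_comp b1 b2 b1,
    LinearMap.toMatrix_comp b2 b1 b2, Matrix.det_one_add_mul_comm]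

/-- `det (1 - t F)`. -/
noncomputable def Pg (t : B) (F : T1 →ₗ[B] T1) : B := LinearMap.det (LinearMap.id - t • F)

omit [Module.Free B T1] [Module.Finite B T1] in
theorem Pg_zero (t : B) : Pg t (0 : T1 →ₗ[B] T1) = 1 := by
  unfold Pg
  rw [smul_zero, sub_zero, LinearMap.det_id]

theorem Pg_comp_comm (t : B) (G : T2 →ₗ[B] T1) (H : T1 →ₗ[B] T2) :
    Pg t (G ∘ₗ H) = Pg t (H ∘ₗ G) := by
  unfold Pg
  have e1 : LinearMap.id - t • (G ∘ₗ H) = LinearMap.id + (-(t • G)) ∘ₗ H := by
    rw [LinearMap.neg_comp, LinearMap.smul_comp, sub_eq_add_neg]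
  have e2 : LinearMap.id - t • (H ∘ₗ G) = LinearMap.id + H ∘ₗ (-(t • G)) := by
    rw [LinearMap.comp_neg, LinearMap.comp_smul, sub_eq_add_neg]
  rw [e1, e2, det_one_add_comp_comm]

theorem Pg_add (t : B) (F G : T1 →ₗ[B] T1) (h : F ∘ₗ G = 0) :
    Pg t (F + G) = Pg t F * Pg t G := by
  unfold Pg
  rw [← map_mul]
  congr 1
  have hFG : F * G = 0 := h
  have hab : (t • F) * (t • G) = 0 := by
    rw [smul_mul_assoc, mul_smul_comm, hFG, smul_zero, smul_zero]
  show (1 : Module.End B T1) - t • (F + G) = (1 - t • F) * (1 - t • G)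
  have e : ∀ a b : Module.End B T1, (1 - a) * (1 - b) = 1 - (a + b) + a * b := by
    intro a b; noncomm_ring
  rw [e, hab, add_zero, smul_add]

theorem Pg_parity_eq (t : B) {πE πO d σ w : Module.End B T1} (h : Par πE πO) (hdd : d * d = 0)
    (hσσ : σ * σ = 0) (hds : d * σ + σ * d = 1) (hdE : d * πE = πO * d) (hdO : d * πO = πE * d)
    (hσE : σ * πE = πO * σ) (hσO : σ * πO = πE * σ) (hwE : w * πE = πE * w)
    (hwd : w * d = d * w) : Pg t (πE * w) = Pg t (πO * w) := by
  have hθE : (1 - t • w) * πE = πE * (1 - t • w) := by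
    rw [sub_mul, mul_sub, one_mul, mul_one, smul_mul_assoc, mul_smul_comm, hwE]
  have hθd : (1 - t • w) * d = d * (1 - t • w) := by
    rw [sub_mul, mul_sub, one_mul, mul_one, smul_mul_assoc, mul_smul_comm, hwd]
  have hS : ∀ x y : Module.End B T1,
      LinearMap.det (1 + x * y) = LinearMap.det (1 + y * x) :=
    fun x y => det_one_add_comp_comm x y
  have key := parity_det_eq (LinearMap.det : Module.End B T1 →* B) hS h hdd hσσ hds hdE hdO
    hσE hσO hθE hθd
  have e1 : πE * (1 - t • w) + πO = 1 - t • (πE * w) := by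
    rw [mul_sub, mul_one, mul_smul_comm, sub_add_eq_add_sub, h.sum]
  have e2 : πE + πO * (1 - t • w) = 1 - t • (πO * w) := by
    rw [mul_sub, mul_one, mul_smul_comm, ← add_sub_assoc, h.sum]
  rw [e1, e2] at key
  exact key

end Gen

variable {A : Type*} [CommRing A]

/-- `P f = det (1 - X f) ∈ A[X]`. -/
noncomputable def P {M : Type*} [AddCommGroup M] [Module A M] (f : M →ₗ[A] M) : A[X] :=
  LinearMap.det (LinearMap.id - (X : A[X]) • f.baseChange A[X])

variable {M N : Type*} [AddCommGroup M] [Module A M] [AddCommGroup N] [Module A N]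
  [Module.Free A M] [Module.Finite A M] [Module.Free A N] [Module.Finite A N]

omit [Module.Free A M] [Module.Finite A M] in
theorem P_eq_Pg (f : M →ₗ[A] M) : P f = Pg (X : A[X]) (f.baseChange A[X]) := rfl

omit [Module.Free A M] [Module.Finite A M] in
theorem P_zero : P (0 : M →ₗ[A] M) = 1 := by
  rw [P_eq_Pg, LinearMap.baseChange_zero]
  exact Pg_zero _

theorem P_comp_comm (g : N →ₗ[A] M) (h : M →ₗ[A] N) : P (g ∘ₗ h) = P (h ∘ₗ g) := by
  rw [P_eq_Pg, P_eq_Pg, LinearMap.baseChange_comp, LinearMap.baseChange_comp]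
  exact Pg_comp_comm _ _ _

theorem P_add_of_comp_eq_zero (f g : M →ₗ[A] M) (h : f ∘ₗ g = 0) :
    P (f + g) = P f * P g := by
  rw [P_eq_Pg, P_eq_Pg, P_eq_Pg, LinearMap.baseChange_add]
  refine Pg_add _ _ _ ?_
  rw [← LinearMap.baseChange_comp, h, LinearMap.baseChange_zero]

theorem P_sum {ι : Type*} [DecidableEq ι] (s : Finset ι) (F : ι → (M →ₗ[A] M))
    (h : ∀ i ∈ s, ∀ j ∈ s, i ≠ j → F i ∘ₗ F j = 0) :
    P (∑ i ∈ s, F i) = ∏ i ∈ s, P (F i) := by
  induction s using Finset.induction_on with
  | empty => rw [Finset.sum_empty, Finset.prod_empty, P_zero]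
  | insert i s hi ih =>
    rw [Finset.sum_insert hi, Finset.prod_insert hi, P_add_of_comp_eq_zero, ih]
    · intro j hj k hk hjk
      exact h j (Finset.mem_insert_of_mem hj) k (Finset.mem_insert_of_mem hk) hjk
    · show F i * ∑ j ∈ s, F j = 0
      rw [Finset.mul_sum]
      apply Finset.sum_eq_zero
      intro j hj
      exact h i (Finset.mem_insert_self i s) j (Finset.mem_insert_of_mem hj)
        (fun e => hi (e ▸ hj))

theorem P_retract (ι' : N →ₗ[A] M) (π : M →ₗ[A] N) (hπ : π ∘ₗ ι' = LinearMap.id)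
    (f : N →ₗ[A] N) : P (ι' ∘ₗ f ∘ₗ π) = P f := by
  rw [← LinearMap.comp_assoc, P_comp_comm, ← LinearMap.comp_assoc, hπ, LinearMap.id_comp]

theorem P_eq_one_of_comp_eq_zero (f : N →ₗ[A] M) (g : M →ₗ[A] N) (h : g ∘ₗ f = 0) :
    P (f ∘ₗ g) = 1 := by
  rw [P_comp_comm, h, P_zero]

omit [Module.Free A M] [Module.Finite A M] in
theorem P_of_subsingleton [Subsingleton M] (f : M →ₗ[A] M) : P f = 1 := by
  have : f = 0 := LinearMap.ext (fun x => Subsingleton.elim _ _)
  rw [this, P_zero]

/-- The key identity: on a contractible `ℤ/2`-graded differential module, the even and odd parts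
of an even endomorphism commuting with the differential have the same characteristic series. -/
theorem P_parity_eq {πE πO d s w : Module.End A M} (h : Par πE πO) (hdd : d * d = 0)
    (hds : d * s + s * d = 1) (hdE : d * πE = πO * d) (hdO : d * πO = πE * d)
    (hsE : s * πE = πO * s) (hsO : s * πO = πE * s) (hwE : w * πE = πE * w)
    (hwd : w * d = d * w) : P (πE * w) = P (πO * w) := by
  obtain ⟨hdσ, hσσ⟩ := contraction_normal hdd hds
  have hσE : (s * d * s) * πE = πO * (s * d * s) := by
    linear_combination (norm := noncomm_ring) s * d * hsE + s * hdO * s + hsE * d * s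
  have hσO : (s * d * s) * πO = πE * (s * d * s) := by
    linear_combination (norm := noncomm_ring) s * d * hsO + s * hdE * s + hsO * d * s
  let β := Module.End.baseChangeHom A A[X] M
  have hpar : Par (β πE) (β πO) :=
    ⟨(map_add β πE πO).symm.trans ((congrArg β h.sum).trans (map_one β)),
      (map_mul β πE πO).symm.trans ((congrArg β h.EO).trans (map_zero β)),
      (map_mul β πO πE).symm.trans ((congrArg β h.OE).trans (map_zero β))⟩
  have tr : ∀ {a b c e : Module.End A M}, a * b = c * e → β a * β b = β c * β e :=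
    fun {a b c e} hh => (map_mul β a b).symm.trans ((congrArg β hh).trans (map_mul β c e))
  have key := Pg_parity_eq (X : A[X]) hpar
    ((map_mul β d d).symm.trans ((congrArg β hdd).trans (map_zero β)))
    ((map_mul β _ _).symm.trans ((congrArg β hσσ).trans (map_zero β)))
    (((congrArg₂ (· + ·) (map_mul β d (s * d * s)) (map_mul β (s * d * s) d)).symm.trans
      (map_add β _ _).symm).trans ((congrArg β hdσ).trans (map_one β)))
    (tr hdE) (tr hdO) (tr hσE) (tr hσO) (tr hwE) (tr hwd)
  have e1 : P (πE * w) = Pg (X : A[X]) (β πE * β w) := by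
    rw [P_eq_Pg]; exact congrArg (Pg (X : A[X])) (map_mul β πE w)
  have e2 : P (πO * w) = Pg (X : A[X]) (β πO * β w) := by
    rw [P_eq_Pg]; exact congrArg (Pg (X : A[X])) (map_mul β πO w)
  rw [e1, e2]
  exact key

end Groth.Agent.Lib.Helper24.CharSer
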