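import Groth.Agent.Lib.Helper24.CharSerB

set_option maxHeartbeats 400000
set_option linter.style.haveILetI false
set_option linter.unusedSectionVars false
set_option autoImplicit false

/-! Characteristic series, part C: total modules of cochain complexes of modules. -/

namespace Groth.Agent.Lib.Helper24.CharSer

open CategoryTheory Polynomial

universe u

variable {A : Type u} [CommRing A]

/-- The total module `∏ᵢ Kⁱ`. -/
abbrev Tot (K : CochainComplex (ModuleCat.{u} A) ℤ) : Type u := (i : ℤ) → K.X i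

theorem hom_comp_apply {M N O : ModuleCat.{u} A} (f : M ⟶ N) (g : N ⟶ O) (x : M) :
    g.hom (f.hom x) = (f ≫ g).hom x := by
  rw [ModuleCat.hom_comp]; rfl

section Maps

variable (K : CochainComplex (ModuleCat.{u} A) ℤ)

/-- total differential -/
noncomputable def dT : Tot K →ₗ[A] Tot K :=
  LinearMap.pi fun j => (K.d (j - 1) j).hom ∘ₗ
    LinearMap.proj (R := A) (φ := fun i => K.X i) (j - 1)

theorem dT_apply (x : Tot K) (j : ℤ) : dT K x j = (K.d (j - 1) j).hom (x (j - 1)) := rfl

/-- projection onto the components selected by `ε`. -/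
noncomputable def par (ε : ℤ → Bool) : Tot K →ₗ[A] Tot K :=
  LinearMap.pi fun j => if ε j then LinearMap.proj (R := A) (φ := fun i => K.X i) j else 0

theorem par_apply (ε : ℤ → Bool) (x : Tot K) (j : ℤ) :
    par K ε x j = if ε j then x j else 0 := by
  unfold par
  rw [LinearMap.pi_apply]
  split_ifs <;> rfl

/-- diagonal map -/
noncomputable def diagT (f : ∀ i, K.X i →ₗ[A] K.X i) : Tot K →ₗ[A] Tot K :=
  LinearMap.pi fun j => f j ∘ₗ LinearMap.proj (R := A) (φ := fun i => K.X i) j

theorem diagT_apply (f : ∀ i, K.X i →ₗ[A] K.X i) (x : Tot K) (j : ℤ) :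
    diagT K f x j = f j (x j) := rfl

end Maps

variable {K L : CochainComplex (ModuleCat.{u} A) ℤ}

/-- total map of a chain map -/
noncomputable def mapT (f : K ⟶ L) : Tot K →ₗ[A] Tot L :=
  LinearMap.pi fun j => (f.f j).hom ∘ₗ LinearMap.proj (R := A) (φ := fun i => K.X i) j

theorem mapT_apply (f : K ⟶ L) (x : Tot K) (j : ℤ) : mapT f x j = (f.f j).hom (x j) := rfl

/-- total map of a homotopy -/
noncomputable def hT {f g : K ⟶ L} (h : Homotopy f g) : Tot K →ₗ[A] Tot L :=
  LinearMap.pi fun j => (h.hom (j + 1) j).hom ∘ₗ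
    LinearMap.proj (R := A) (φ := fun i => K.X i) (j + 1)

theorem hT_apply {f g : K ⟶ L} (h : Homotopy f g) (x : Tot K) (j : ℤ) :
    hT h x j = (h.hom (j + 1) j).hom (x (j + 1)) := rfl

theorem dT_dT (x : Tot K) : dT K (dT K x) = 0 := by
  funext j
  show (K.d (j - 1) j).hom ((K.d (j - 1 - 1) (j - 1)).hom (x (j - 1 - 1))) = 0
  rw [hom_comp_apply, K.d_comp_d, ModuleCat.hom_zero]
  rfl

theorem mapT_dT (f : K ⟶ L) (x : Tot K) : mapT f (dT K x) = dT L (mapT f x) := by
  funext j
  show (f.f j).hom ((K.d (j - 1) j).hom (x (j - 1))) =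
    (L.d (j - 1) j).hom ((f.f (j - 1)).hom (x (j - 1)))
  rw [hom_comp_apply, hom_comp_apply, f.comm]

theorem mapT_comp {M' : CochainComplex (ModuleCat.{u} A) ℤ} (f : K ⟶ L) (g : L ⟶ M')
    (x : Tot K) : mapT (f ≫ g) x = mapT g (mapT f x) := by
  funext j
  show ((f ≫ g).f j).hom (x j) = (g.f j).hom ((f.f j).hom (x j))
  exact (hom_comp_apply (f.f j) (g.f j) (x j)).symm

theorem mapT_id (x : Tot K) : mapT (𝟙 K) x = x := by
  funext j
  show ((𝟙 K : K ⟶ K).f j).hom (x j) = x j
  have h1 : ((𝟙 K : K ⟶ K).f j).hom = LinearMap.id := by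
    rw [HomologicalComplex.id_f, ModuleCat.hom_id]
  rw [h1]; rfl

theorem d_fix (K : CochainComplex (ModuleCat.{u} A) ℤ) (x : Tot K) {i i' : ℤ} (hi : i = i')
    (k : ℤ) : (K.d i k).hom (x i) = (K.d i' k).hom (x i') := by subst hi; rfl

theorem hom_fix {f g : K ⟶ L} (h : Homotopy f g) (x : Tot K) {i i' : ℤ} (hi : i = i') (k : ℤ) :
    (h.hom i k).hom (x i) = (h.hom i' k).hom (x i') := by subst hi; rfl

theorem homotopy_rel {f g : K ⟶ L} (h : Homotopy f g) (x : Tot K) :
    mapT f x = hT h (dT K x) + dT L (hT h x) + mapT g x := by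
  funext j
  have hc := h.comm j
  rw [dNext_eq h.hom (show (ComplexShape.up ℤ).Rel j (j + 1) from rfl),
    prevD_eq h.hom (show (ComplexShape.up ℤ).Rel (j - 1) j from sub_add_cancel j 1)] at hc
  have hc' : (f.f j).hom (x j) = (h.hom (j + 1) j).hom ((K.d j (j + 1)).hom (x j)) +
      (L.d (j - 1) j).hom ((h.hom j (j - 1)).hom (x j)) + (g.f j).hom (x j) := by
    rw [hom_comp_apply, hom_comp_apply, hc, ModuleCat.hom_add, ModuleCat.hom_add]
    rfl
  show (f.f j).hom (x j) =
    (h.hom (j + 1) j).hom ((K.d (j + 1 - 1) (j + 1)).hom (x (j + 1 - 1))) +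
      (L.d (j - 1) j).hom ((h.hom (j - 1 + 1) (j - 1)).hom (x (j - 1 + 1))) + (g.f j).hom (x j)
  rw [d_fix K x (add_sub_cancel_right j 1) (j + 1), hom_fix h x (sub_add_cancel j 1) (j - 1)]
  exact hc'

/-! ### parity -/

/-- odd indices -/
def bo (j : ℤ) : Bool := decide (j % 2 = 1)
/-- even indices -/
def be (j : ℤ) : Bool := decide (j % 2 = 0)

theorem bo_sub_one (j : ℤ) : bo (j - 1) = be j := by
  unfold bo be; exact decide_eq_decide.mpr (by omega)
theorem be_sub_one (j : ℤ) : be (j - 1) = bo j := by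
  unfold bo be; exact decide_eq_decide.mpr (by omega)
theorem bo_add_one (j : ℤ) : bo (j + 1) = be j := by
  unfold bo be; exact decide_eq_decide.mpr (by omega)
theorem be_add_one (j : ℤ) : be (j + 1) = bo j := by
  unfold bo be; exact decide_eq_decide.mpr (by omega)
theorem be_eq_not_bo (j : ℤ) : be j = !bo j := by
  unfold bo be
  rcases Int.emod_two_eq_zero_or_one j with h | h <;> simp [h]

theorem dT_par (ε ε' : ℤ → Bool) (hε : ∀ j, ε (j - 1) = ε' j) (x : Tot K) :
    dT K (par K ε x) = par K ε' (dT K x) := by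
  funext j
  rw [dT_apply, par_apply, par_apply, dT_apply, hε j]
  split_ifs
  · rfl
  · exact map_zero _

theorem mapT_par (f : K ⟶ L) (ε : ℤ → Bool) (x : Tot K) :
    mapT f (par K ε x) = par L ε (mapT f x) := by
  funext j
  rw [mapT_apply, par_apply, par_apply, mapT_apply]
  split_ifs
  · rfl
  · exact map_zero _

theorem hT_par {f g : K ⟶ L} (h : Homotopy f g) (ε ε' : ℤ → Bool)
    (hε : ∀ j, ε (j + 1) = ε' j) (x : Tot K) :
    hT h (par K ε x) = par L ε' (hT h x) := by
  funext j
  rw [hT_apply, par_apply, par_apply, hT_apply, hε j]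
  split_ifs
  · rfl
  · exact map_zero _

theorem par_bo_add_par_be (x : Tot K) : par K bo x + par K be x = x := by
  funext j
  show par K bo x j + par K be x j = x j
  rw [par_apply, par_apply, be_eq_not_bo]
  rcases Bool.eq_false_or_eq_true (bo j) with h | h <;> simp [h]

theorem par_bo_par_be (x : Tot K) : par K bo (par K be x) = 0 := by
  funext j
  rw [par_apply, par_apply, be_eq_not_bo]
  rcases Bool.eq_false_or_eq_true (bo j) with h | h <;> simp [h]

theorem par_be_par_bo (x : Tot K) : par K be (par K bo x) = 0 := by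
  funext j
  rw [par_apply, par_apply, be_eq_not_bo]
  rcases Bool.eq_false_or_eq_true (bo j) with h | h <;> simp [h]

/-! ### finiteness -/

section Fin

variable (K) (a b : ℤ) [K.IsStrictlyGE a] [K.IsStrictlyLE b]

theorem subsingleton_X (i : ℤ) (hi : ¬ (a ≤ i ∧ i ≤ b)) : Subsingleton (K.X i) := by
  apply ModuleCat.subsingleton_of_isZero
  by_cases h : i < a
  · exact K.isZero_of_isStrictlyGE a i h
  · exact K.isZero_of_isStrictlyLE b i (by omega)

/-- restriction to the window `[a, b]`. -/
noncomputable def restr : Tot K ≃ₗ[A] ((i : Finset.Icc a b) → K.X i.1) where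
  toFun x i := x i.1
  map_add' _ _ := rfl
  map_smul' _ _ := rfl
  invFun y j := if h : j ∈ Finset.Icc a b then y ⟨j, h⟩ else 0
  left_inv x := by
    funext j
    by_cases h : j ∈ Finset.Icc a b
    · exact dif_pos h
    · haveI := subsingleton_X K a b j (by simpa [Finset.mem_Icc] using h)
      exact Subsingleton.elim _ _
  right_inv y := by
    funext i
    exact dif_pos i.2

include a b in
theorem tot_free (hK : ∀ i : ℤ, Module.Finite A (K.X i) ∧ Module.Free A (K.X i)) :
    Module.Free A (Tot K) := by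
  haveI : ∀ i : Finset.Icc a b, Module.Free A (K.X i.1) := fun i => (hK i.1).2
  exact Module.Free.of_equiv (restr K a b).symm

include a b in
theorem tot_finite (hK : ∀ i : ℤ, Module.Finite A (K.X i) ∧ Module.Free A (K.X i)) :
    Module.Finite A (Tot K) := by
  haveI : ∀ i : Finset.Icc a b, Module.Finite A (K.X i.1) := fun i => (hK i.1).1
  exact Module.Finite.equiv (restr K a b).symm

theorem P_diagT [Module.Free A (Tot K)] [Module.Finite A (Tot K)]
    [∀ i, Module.Free A (K.X i)] [∀ i, Module.Finite A (K.X i)]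
    (f : ∀ i, K.X i →ₗ[A] K.X i) :
    P (diagT K f) = ∏ i ∈ Finset.Icc a b, P (f i) := by
  have hsum : diagT K f = ∑ i ∈ Finset.Icc a b,
      (LinearMap.single A (fun i => K.X i) i) ∘ₗ (f i) ∘ₗ
        (LinearMap.proj (R := A) (φ := fun i => K.X i) i) := by
    apply LinearMap.ext
    intro x
    funext j
    rw [LinearMap.sum_apply, Finset.sum_apply]
    show f j (x j) = ∑ i ∈ Finset.Icc a b, Pi.single i (f i (x i)) j
    rw [Finset.sum_pi_single j (fun i => f i (x i)) (Finset.Icc a b)]
    split_ifs with hj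
    · rfl
    · haveI := subsingleton_X K a b j (by simpa [Finset.mem_Icc] using hj)
      exact Subsingleton.elim _ _
  rw [hsum, P_sum]
  · refine Finset.prod_congr rfl (fun i _ => ?_)
    exact P_retract _ _ (LinearMap.proj_comp_single_same A (fun i => (K.X i : Type u)) i) (f i)
  · intro i _ j _ hij
    apply LinearMap.ext
    intro x
    show LinearMap.single A (fun i => K.X i) i
      (f i ((LinearMap.single A (fun i => K.X i) j (f j (x j))) i)) = 0
    have h0 : (LinearMap.single A (fun i => K.X i) j (f j (x j))) i = 0 :=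
      Pi.single_eq_of_ne hij _
    rw [h0, map_zero, map_zero]

end Fin

end Groth.Agent.Lib.Helper24.CharSer
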