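import Groth.Agent.Lib.Helper24.CharSerC

set_option maxHeartbeats 400000
set_option linter.style.haveILetI false
set_option linter.unusedSectionVars false
set_option autoImplicit false

/-! Characteristic series, part D: the total module of the mapping cone of a homotopy
equivalence, its contraction, and the resulting identity of characteristic series. -/

namespace Groth.Agent.Lib.Helper24.CharSer

open CategoryTheory Polynomial

universe u

section RingLevel2

variable {R : Type*} [Ring R]

theorem contraction_of_defect {d s0 N πE πO : R} (hdd : d * d = 0)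
    (hN : d * s0 + s0 * d = 1 + N) (hNN : N * N = 0) (hs0E : s0 * πE = πO * s0)
    (hs0O : s0 * πO = πE * s0) (hNE : N * πE = πE * N) (hNO : N * πO = πO * N) :
    d * (s0 * (1 - N)) + (s0 * (1 - N)) * d = 1 ∧
      (s0 * (1 - N)) * πE = πO * (s0 * (1 - N)) ∧
      (s0 * (1 - N)) * πO = πE * (s0 * (1 - N)) := by
  have hNd : N * d = d * N := by
    linear_combination (norm := noncomm_ring) -(hN * d) + d * hN + s0 * hdd - hdd * s0
  refine ⟨?_, ?_, ?_⟩
  · linear_combination (norm := noncomm_ring) hN * (1 - N) - s0 * hNd - hNN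
  · linear_combination (norm := noncomm_ring) -(s0 * hNE) + hs0E * (1 - N)
  · linear_combination (norm := noncomm_ring) -(s0 * hNO) + hs0O * (1 - N)

end RingLevel2

section Blocks

variable {A : Type*} [CommRing A] {M N : Type*} [AddCommGroup M] [Module A M] [AddCommGroup N]
  [Module A N]

/-- lower triangular block endomorphism `(x, y) ↦ (a x, c x + d y)` -/
def tri (a : M →ₗ[A] M) (c : M →ₗ[A] N) (d : N →ₗ[A] N) : Module.End A (M × N) :=
  (a ∘ₗ LinearMap.fst A M N).prod (c ∘ₗ LinearMap.fst A M N + d ∘ₗ LinearMap.snd A M N)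

theorem tri_apply (a : M →ₗ[A] M) (c : M →ₗ[A] N) (d : N →ₗ[A] N) (x : M) (y : N) :
    tri a c d (x, y) = (a x, c x + d y) := rfl

/-- upper triangular block endomorphism `(x, y) ↦ (a x + b y, d y)` -/
def utri (a : M →ₗ[A] M) (b : N →ₗ[A] M) (d : N →ₗ[A] N) : Module.End A (M × N) :=
  (a ∘ₗ LinearMap.fst A M N + b ∘ₗ LinearMap.snd A M N).prod (d ∘ₗ LinearMap.snd A M N)

theorem utri_apply (a : M →ₗ[A] M) (b : N →ₗ[A] M) (d : N →ₗ[A] N) (x : M) (y : N) :
    utri a b d (x, y) = (a x + b y, d y) := rfl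

/-- diagonal block endomorphism -/
def dg (a : M →ₗ[A] M) (d : N →ₗ[A] N) : Module.End A (M × N) :=
  (a ∘ₗ LinearMap.fst A M N).prod (d ∘ₗ LinearMap.snd A M N)

theorem dg_apply (a : M →ₗ[A] M) (d : N →ₗ[A] N) (x : M) (y : N) :
    dg a d (x, y) = (a x, d y) := rfl

/-- strictly lower triangular block endomorphism -/
def lo (c : M →ₗ[A] N) : Module.End A (M × N) :=
  (0 : M × N →ₗ[A] M).prod (c ∘ₗ LinearMap.fst A M N)

theorem lo_apply (c : M →ₗ[A] N) (x : M) (y : N) : lo c (x, y) = (0, c x) := rfl

variable [Module.Free A M] [Module.Finite A M] [Module.Free A N] [Module.Finite A N]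

theorem P_tri (a : M →ₗ[A] M) (c : M →ₗ[A] N) (d : N →ₗ[A] N) :
    P (tri a c d) = P a * P d := by
  have hdec : tri a c d = LinearMap.inl A M N ∘ₗ a ∘ₗ LinearMap.fst A M N +
      ((LinearMap.inr A M N ∘ₗ c) ∘ₗ LinearMap.fst A M N +
        LinearMap.inr A M N ∘ₗ d ∘ₗ LinearMap.snd A M N) := by
    apply LinearMap.ext
    rintro ⟨x, y⟩
    refine Prod.ext ?_ ?_
    · show a x = a x + (0 + 0)
      rw [add_zero, add_zero]
    · show c x + d y = 0 + (c x + d y)
      rw [zero_add]
  have h1 : (LinearMap.inl A M N ∘ₗ a ∘ₗ LinearMap.fst A M N) ∘ₗ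
      ((LinearMap.inr A M N ∘ₗ c) ∘ₗ LinearMap.fst A M N +
        LinearMap.inr A M N ∘ₗ d ∘ₗ LinearMap.snd A M N) = 0 := by
    apply LinearMap.ext
    rintro ⟨x, y⟩
    show (a (0 + 0), (0 : N)) = (0, 0)
    rw [add_zero, map_zero]
  have h2 : ((LinearMap.inr A M N ∘ₗ c) ∘ₗ LinearMap.fst A M N) ∘ₗ
      (LinearMap.inr A M N ∘ₗ d ∘ₗ LinearMap.snd A M N) = 0 := by
    apply LinearMap.ext
    rintro ⟨x, y⟩
    show ((0 : M), c 0) = (0, 0)
    rw [map_zero]
  have h3 : LinearMap.fst A M N ∘ₗ (LinearMap.inr A M N ∘ₗ c) = 0 := by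
    rw [← LinearMap.comp_assoc, LinearMap.fst_comp_inr, LinearMap.zero_comp]
  rw [hdec, P_add_of_comp_eq_zero _ _ h1, P_add_of_comp_eq_zero _ _ h2,
    P_retract _ _ (LinearMap.fst_comp_inl A M N), P_retract _ _ (LinearMap.snd_comp_inr A M N),
    P_eq_one_of_comp_eq_zero _ _ h3, one_mul]

end Blocks

variable {A : Type u} [CommRing A]

section Cone

variable {K K' : CochainComplex (ModuleCat.{u} A) ℤ} (g : K ⟶ K') (g' : K' ⟶ K)
  (H : Homotopy (g ≫ g') (𝟙 K)) (H' : Homotopy (g' ≫ g) (𝟙 K'))
  (u : K ⟶ K) (u' : K' ⟶ K') (h : Homotopy (g ≫ u') (u ≫ g))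

/-- cone differential -/
noncomputable def dC : Module.End A (Tot K × Tot K') := tri (-(dT K)) (mapT g) (dT K')

/-- cone endomorphism -/
noncomputable def wC : Module.End A (Tot K × Tot K') := tri (mapT u) (hT h) (mapT u')

/-- approximate contraction -/
noncomputable def s0 : Module.End A (Tot K × Tot K') := utri (hT H) (mapT g') (-(hT H'))

/-- the defect of `s0` -/
noncomputable def NC : Module.End A (Tot K × Tot K') :=
  lo (mapT g ∘ₗ hT H - hT H' ∘ₗ mapT g)

variable (K K') in
/-- even part of the cone -/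
noncomputable def piE : Module.End A (Tot K × Tot K') := dg (par K bo) (par K' be)

variable (K K') in
/-- odd part of the cone -/
noncomputable def piO : Module.End A (Tot K × Tot K') := dg (par K be) (par K' bo)

theorem dC_apply (x : Tot K) (y : Tot K') :
    dC g (x, y) = (-(dT K x), mapT g x + dT K' y) := rfl

theorem wC_apply (x : Tot K) (y : Tot K') :
    wC g u u' h (x, y) = (mapT u x, hT h x + mapT u' y) := rfl

theorem s0_apply (x : Tot K) (y : Tot K') :
    s0 g g' H H' (x, y) = (hT H x + mapT g' y, -(hT H' y)) := rfl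

theorem NC_apply (x : Tot K) (y : Tot K') :
    NC g g' H H' (x, y) = (0, mapT g (hT H x) - hT H' (mapT g x)) := rfl

theorem piE_apply (x : Tot K) (y : Tot K') : piE K K' (x, y) = (par K bo x, par K' be y) := rfl

theorem piO_apply (x : Tot K) (y : Tot K') : piO K K' (x, y) = (par K be x, par K' bo y) := rfl

theorem dC_dC : dC g * dC g = 0 := by
  apply LinearMap.ext
  rintro ⟨x, y⟩
  rw [Module.End.mul_apply, dC_apply, dC_apply]
  refine Prod.ext ?_ ?_
  · show -(dT K (-(dT K x))) = 0
    rw [map_neg, neg_neg, dT_dT]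
  · show mapT g (-(dT K x)) + dT K' (mapT g x + dT K' y) = 0
    rw [map_neg, map_add, dT_dT, add_zero, mapT_dT, neg_add_cancel]

theorem wC_dC : wC g u u' h * dC g = dC g * wC g u u' h := by
  apply LinearMap.ext
  rintro ⟨x, y⟩
  rw [Module.End.mul_apply, Module.End.mul_apply, dC_apply, wC_apply, wC_apply, dC_apply]
  have r := homotopy_rel h x
  rw [mapT_comp, mapT_comp] at r
  refine Prod.ext ?_ ?_
  · show mapT u (-(dT K x)) = -(dT K (mapT u x))
    rw [map_neg, mapT_dT]
  · show hT h (-(dT K x)) + mapT u' (mapT g x + dT K' y) =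
      mapT g (mapT u x) + dT K' (hT h x + mapT u' y)
    rw [map_neg, map_add, map_add, r, mapT_dT u' y]
    abel

theorem dC_s0 : dC g * s0 g g' H H' + s0 g g' H H' * dC g = 1 + NC g g' H H' := by
  apply LinearMap.ext
  rintro ⟨x, y⟩
  rw [LinearMap.add_apply, LinearMap.add_apply, Module.End.mul_apply, Module.End.mul_apply,
    Module.End.one_apply, s0_apply, dC_apply, dC_apply, s0_apply, NC_apply]
  have r1 := homotopy_rel H x
  rw [mapT_comp, mapT_id] at r1
  have r2 := homotopy_rel H' y
  rw [mapT_comp, mapT_id] at r2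
  refine Prod.ext ?_ ?_
  · show -(dT K (hT H x + mapT g' y)) + (hT H (-(dT K x)) + mapT g' (mapT g x + dT K' y)) =
      x + 0
    rw [map_add, map_neg, map_add, r1, mapT_dT g' y]
    abel
  · show mapT g (hT H x + mapT g' y) + dT K' (-(hT H' y)) + -(hT H' (mapT g x + dT K' y)) =
      y + (mapT g (hT H x) - hT H' (mapT g x))
    rw [map_add, map_neg, map_add, r2]
    abel

theorem NC_NC : NC g g' H H' * NC g g' H H' = 0 := by
  apply LinearMap.ext
  rintro ⟨x, y⟩
  rw [Module.End.mul_apply, NC_apply, NC_apply]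
  refine Prod.ext rfl ?_
  show mapT g (hT H 0) - hT H' (mapT g 0) = 0
  simp only [map_zero, sub_zero]

theorem par_cone : Par (piE K K') (piO K K') where
  sum := by
    apply LinearMap.ext
    rintro ⟨x, y⟩
    rw [LinearMap.add_apply, piE_apply, piO_apply, Module.End.one_apply]
    refine Prod.ext ?_ ?_
    · exact par_bo_add_par_be x
    · show par K' be y + par K' bo y = y
      rw [add_comm]; exact par_bo_add_par_be y
  EO := by
    apply LinearMap.ext
    rintro ⟨x, y⟩
    rw [Module.End.mul_apply, piO_apply, piE_apply]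
    exact Prod.ext (par_bo_par_be x) (par_be_par_bo y)
  OE := by
    apply LinearMap.ext
    rintro ⟨x, y⟩
    rw [Module.End.mul_apply, piE_apply, piO_apply]
    exact Prod.ext (par_be_par_bo x) (par_bo_par_be y)

theorem dC_piE : dC g * piE K K' = piO K K' * dC g := by
  apply LinearMap.ext
  rintro ⟨x, y⟩
  rw [Module.End.mul_apply, Module.End.mul_apply, piE_apply, dC_apply, dC_apply, piO_apply]
  refine Prod.ext ?_ ?_
  · show -(dT K (par K bo x)) = par K be (-(dT K x))
    rw [dT_par bo be bo_sub_one, map_neg]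
  · show mapT g (par K bo x) + dT K' (par K' be y) = par K' bo (mapT g x + dT K' y)
    rw [mapT_par, dT_par be bo be_sub_one, map_add]

theorem dC_piO : dC g * piO K K' = piE K K' * dC g := by
  apply LinearMap.ext
  rintro ⟨x, y⟩
  rw [Module.End.mul_apply, Module.End.mul_apply, piO_apply, dC_apply, dC_apply, piE_apply]
  refine Prod.ext ?_ ?_
  · show -(dT K (par K be x)) = par K bo (-(dT K x))
    rw [dT_par be bo be_sub_one, map_neg]
  · show mapT g (par K be x) + dT K' (par K' bo y) = par K' be (mapT g x + dT K' y)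
    rw [mapT_par, dT_par bo be bo_sub_one, map_add]

theorem s0_piE : s0 g g' H H' * piE K K' = piO K K' * s0 g g' H H' := by
  apply LinearMap.ext
  rintro ⟨x, y⟩
  rw [Module.End.mul_apply, Module.End.mul_apply, piE_apply, s0_apply, s0_apply, piO_apply]
  refine Prod.ext ?_ ?_
  · show hT H (par K bo x) + mapT g' (par K' be y) = par K be (hT H x + mapT g' y)
    rw [hT_par H bo be bo_add_one, mapT_par, map_add]
  · show -(hT H' (par K' be y)) = par K' bo (-(hT H' y))
    rw [hT_par H' be bo be_add_one, map_neg]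

theorem s0_piO : s0 g g' H H' * piO K K' = piE K K' * s0 g g' H H' := by
  apply LinearMap.ext
  rintro ⟨x, y⟩
  rw [Module.End.mul_apply, Module.End.mul_apply, piO_apply, s0_apply, s0_apply, piE_apply]
  refine Prod.ext ?_ ?_
  · show hT H (par K be x) + mapT g' (par K' bo y) = par K bo (hT H x + mapT g' y)
    rw [hT_par H be bo be_add_one, mapT_par, map_add]
  · show -(hT H' (par K' bo y)) = par K' be (-(hT H' y))
    rw [hT_par H' bo be bo_add_one, map_neg]

theorem NC_piE : NC g g' H H' * piE K K' = piE K K' * NC g g' H H' := by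
  apply LinearMap.ext
  rintro ⟨x, y⟩
  rw [Module.End.mul_apply, Module.End.mul_apply, piE_apply, NC_apply, NC_apply, piE_apply]
  refine Prod.ext ?_ ?_
  · show (0 : Tot K) = par K bo 0
    rw [map_zero]
  · show mapT g (hT H (par K bo x)) - hT H' (mapT g (par K bo x)) =
      par K' be (mapT g (hT H x) - hT H' (mapT g x))
    rw [hT_par H bo be bo_add_one, mapT_par, mapT_par, hT_par H' bo be bo_add_one, map_sub]

theorem wC_piE : wC g u u' h * piE K K' = piE K K' * wC g u u' h := by
  apply LinearMap.ext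
  rintro ⟨x, y⟩
  rw [Module.End.mul_apply, Module.End.mul_apply, piE_apply, wC_apply, wC_apply, piE_apply]
  refine Prod.ext ?_ ?_
  · show mapT u (par K bo x) = par K bo (mapT u x)
    rw [mapT_par]
  · show hT h (par K bo x) + mapT u' (par K' be y) = par K' be (hT h x + mapT u' y)
    rw [hT_par h bo be bo_add_one, mapT_par, map_add]

include g' H H' in
/-- The main consequence: the even and odd parts of the cone endomorphism have the same
characteristic series. -/
theorem P_cone [Module.Free A (Tot K)] [Module.Finite A (Tot K)] [Module.Free A (Tot K')]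
    [Module.Finite A (Tot K')] :
    P (piE K K' * wC g u u' h) = P (piO K K' * wC g u u' h) := by
  have hpar := par_cone (K := K) (K' := K')
  have hdd := dC_dC g
  have hN := dC_s0 g g' H H'
  have hNN := NC_NC g g' H H'
  have hNE := NC_piE g g' H H'
  have hNO := hpar.comm_O hNE
  obtain ⟨hds, hsE, hsO⟩ := contraction_of_defect hdd hN hNN (s0_piE g g' H H')
    (s0_piO g g' H H') hNE hNO
  exact P_parity_eq hpar hdd hds (dC_piE g) (dC_piO g) hsE hsO (wC_piE g u u' h)
    (wC_dC g u u' h)

end Cone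

end Groth.Agent.Lib.Helper24.CharSer
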