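import Groth.Agent.Lib.Helper24.CharSerD
import Groth.Prelude.Def_SGA4hB

set_option maxHeartbeats 400000
set_option linter.style.haveILetI false
set_option linter.unusedSectionVars false
set_option autoImplicit false

/-! Characteristic series, part E: assembling the invariance of the characteristic series under
isomorphisms in the derived category. -/

namespace Groth.Agent.Lib.Helper24.CharSer

open CategoryTheory Polynomial

universe u

attribute [local instance] HasDerivedCategory.standard

variable {A : Type u} [CommRing A]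

/-- characteristic series restricted to the degrees selected by `ε`. -/
noncomputable def cs (K : CochainComplex (ModuleCat.{u} A) ℤ) (a b : ℤ) (u : K ⟶ K)
    (ε : ℤ → Bool) : A[X] :=
  ∏ i ∈ Finset.Icc a b, if ε i then P (u.f i).hom else 1

section Compute

variable (K K' : CochainComplex (ModuleCat.{u} A) ℤ) (a b : ℤ) [K.IsStrictlyGE a]
  [K.IsStrictlyLE b] [K'.IsStrictlyGE a] [K'.IsStrictlyLE b]

theorem P_par_comp [Module.Free A (Tot K)] [Module.Finite A (Tot K)]
    [∀ i, Module.Free A (K.X i)] [∀ i, Module.Finite A (K.X i)] (u : K ⟶ K) (ε : ℤ → Bool) :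
    P (par K ε ∘ₗ mapT u) = cs K a b u ε := by
  have h1 : par K ε ∘ₗ mapT u = diagT K (fun i => if ε i then (u.f i).hom else 0) := by
    apply LinearMap.ext
    intro x
    funext j
    show par K ε (mapT u x) j = (if ε j then (u.f j).hom else 0) (x j)
    rw [par_apply, mapT_apply]
    split_ifs <;> rfl
  rw [h1, P_diagT K a b]
  unfold cs
  refine Finset.prod_congr rfl (fun i _ => ?_)
  split_ifs
  · rfl
  · exact P_zero

variable {K K'}
variable [Module.Free A (Tot K)] [Module.Finite A (Tot K)]
  [∀ i, Module.Free A (K.X i)] [∀ i, Module.Finite A (K.X i)]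
  [Module.Free A (Tot K')] [Module.Finite A (Tot K')]
  [∀ i, Module.Free A (K'.X i)] [∀ i, Module.Finite A (K'.X i)]
  (g : K ⟶ K') (u : K ⟶ K) (u' : K' ⟶ K') (h : Homotopy (g ≫ u') (u ≫ g))

theorem P_piE_wC : P (piE K K' * wC g u u' h) = cs K a b u bo * cs K' a b u' be := by
  have h1 : piE K K' * wC g u u' h =
      tri (par K bo ∘ₗ mapT u) (par K' be ∘ₗ hT h) (par K' be ∘ₗ mapT u') := by
    apply LinearMap.ext
    rintro ⟨x, y⟩
    rw [Module.End.mul_apply, wC_apply, piE_apply, tri_apply]
    refine Prod.ext rfl ?_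
    show par K' be (hT h x + mapT u' y) = par K' be (hT h x) + par K' be (mapT u' y)
    rw [map_add]
  rw [h1, P_tri, P_par_comp K a b u bo, P_par_comp K' a b u' be]

theorem P_piO_wC : P (piO K K' * wC g u u' h) = cs K a b u be * cs K' a b u' bo := by
  have h1 : piO K K' * wC g u u' h =
      tri (par K be ∘ₗ mapT u) (par K' bo ∘ₗ hT h) (par K' bo ∘ₗ mapT u') := by
    apply LinearMap.ext
    rintro ⟨x, y⟩
    rw [Module.End.mul_apply, wC_apply, piO_apply, tri_apply]
    refine Prod.ext rfl ?_
    show par K' bo (hT h x + mapT u' y) = par K' bo (hT h x) + par K' bo (mapT u' y)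
    rw [map_add]
  rw [h1, P_tri, P_par_comp K a b u be, P_par_comp K' a b u' bo]

end Compute

section Main

variable (K K' : CochainComplex (ModuleCat.{u} A) ℤ) (a b : ℤ) [K.IsStrictlyGE a]
  [K.IsStrictlyLE b] [K'.IsStrictlyGE a] [K'.IsStrictlyLE b]

theorem cs_identity (hK : ∀ i : ℤ, Module.Finite A (K.X i) ∧ Module.Free A (K.X i))
    (hK' : ∀ i : ℤ, Module.Finite A (K'.X i) ∧ Module.Free A (K'.X i))
    (e : HomotopyEquiv K K') (u : K ⟶ K) (u' : K' ⟶ K')
    (h : Homotopy (e.hom ≫ u') (u ≫ e.hom)) :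
    cs K a b u bo * cs K' a b u' be = cs K a b u be * cs K' a b u' bo := by
  haveI := tot_free K a b hK
  haveI := tot_finite K a b hK
  haveI := tot_free K' a b hK'
  haveI := tot_finite K' a b hK'
  haveI : ∀ i, Module.Free A (K.X i) := fun i => (hK i).2
  haveI : ∀ i, Module.Finite A (K.X i) := fun i => (hK i).1
  haveI : ∀ i, Module.Free A (K'.X i) := fun i => (hK' i).2
  haveI : ∀ i, Module.Finite A (K'.X i) := fun i => (hK' i).1
  rw [← P_piE_wC a b e.hom u u' h, ← P_piO_wC a b e.hom u u' h]
  exact P_cone e.hom e.inv e.homotopyHomInvId e.homotopyInvHomId u u' h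

theorem detEven_eq (u : K ⟶ K) : SGA4h.detEven K u = cs K a b u be := by
  have hF : ∀ i : ℤ, ¬ (a ≤ i ∧ i ≤ b) → P (u.f i).hom = 1 := fun i hi => by
    haveI := subsingleton_X K a b i hi
    exact P_of_subsingleton _
  show (∏ᶠ i : {i : ℤ // Even i}, P (u.f i.1).hom) = _
  refine (finprod_subtype_eq_finprod_cond (f := fun i : ℤ => P (u.f i).hom)
    (fun i : ℤ => Even i)).trans ?_
  refine (finprod_cond_eq_prod_of_cond_iff (fun i : ℤ => P (u.f i).hom)
    (t := (Finset.Icc a b).filter (fun i => Even i)) ?_).trans ?_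
  · intro i hi
    rw [Finset.mem_filter, Finset.mem_Icc]
    constructor
    · intro he
      refine ⟨?_, he⟩
      by_contra hn
      exact hi (hF i hn)
    · exact fun h => h.2
  · rw [Finset.prod_filter]
    unfold cs
    refine Finset.prod_congr rfl (fun i _ => ?_)
    have hiff : (be i = true) ↔ Even i := by
      unfold be; rw [decide_eq_true_iff, Int.even_iff]
    by_cases hi : Even i
    · rw [if_pos hi, if_pos (hiff.mpr hi)]
    · rw [if_neg hi, if_neg (fun h => hi (hiff.mp h))]

theorem detOdd_eq (u : K ⟶ K) : SGA4h.detOdd K u = cs K a b u bo := by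
  have hF : ∀ i : ℤ, ¬ (a ≤ i ∧ i ≤ b) → P (u.f i).hom = 1 := fun i hi => by
    haveI := subsingleton_X K a b i hi
    exact P_of_subsingleton _
  show (∏ᶠ i : {i : ℤ // Odd i}, P (u.f i.1).hom) = _
  refine (finprod_subtype_eq_finprod_cond (f := fun i : ℤ => P (u.f i).hom)
    (fun i : ℤ => Odd i)).trans ?_
  refine (finprod_cond_eq_prod_of_cond_iff (fun i : ℤ => P (u.f i).hom)
    (t := (Finset.Icc a b).filter (fun i => Odd i)) ?_).trans ?_
  · intro i hi
    rw [Finset.mem_filter, Finset.mem_Icc]
    constructor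
    · intro he
      refine ⟨?_, he⟩
      by_contra hn
      exact hi (hF i hn)
    · exact fun h => h.2
  · rw [Finset.prod_filter]
    unfold cs
    refine Finset.prod_congr rfl (fun i _ => ?_)
    have hiff : (bo i = true) ↔ Odd i := by
      unfold bo; rw [decide_eq_true_iff, Int.odd_iff]
    by_cases hi : Odd i
    · rw [if_pos hi, if_pos (hiff.mpr hi)]
    · rw [if_neg hi, if_neg (fun h => hi (hiff.mp h))]

open DerivedCategory in
include b in
theorem exists_homotopyEquiv
    (hK : ∀ i : ℤ, Module.Finite A (K.X i) ∧ Module.Free A (K.X i))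
    (hK' : ∀ i : ℤ, Module.Finite A (K'.X i) ∧ Module.Free A (K'.X i))
    (u : K ⟶ K) (u' : K' ⟶ K') (φ : Q.obj K ≅ Q.obj K')
    (hφ : Q.map u ≫ φ.hom = φ.hom ≫ Q.map u') :
    ∃ e : HomotopyEquiv K K', Nonempty (Homotopy (e.hom ≫ u') (u ≫ e.hom)) := by
  haveI : ∀ n, Projective (K.X n) := fun n => by
    haveI := (hK n).2
    haveI : Module.Projective A (K.X n) := Module.Projective.of_free
    exact (K.X n).projective_of_categoryTheory_projective
  haveI : ∀ n, Projective (K'.X n) := fun n => by
    haveI := (hK' n).2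
    haveI : Module.Projective A (K'.X n) := Module.Projective.of_free
    exact (K'.X n).projective_of_categoryTheory_projective
  haveI : K.IsKProjective := CochainComplex.isKProjective_of_projective K b
  haveI : K'.IsKProjective := CochainComplex.isKProjective_of_projective K' b
  let α := quotientCompQhIso (ModuleCat.{u} A)
  have nat : ∀ {X Y : CochainComplex (ModuleCat.{u} A) ℤ} (f : X ⟶ Y),
      Qh.map ((HomotopyCategory.quotient _ _).map f) =
        α.hom.app X ≫ Q.map f ≫ α.inv.app Y := by
    intro X Y f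
    exact (NatIso.naturality_2 α f).symm
  obtain ⟨gt, hgt⟩ := (CochainComplex.IsKProjective.Qh_map_bijective K
    ((HomotopyCategory.quotient _ _).obj K')).surjective
      (α.hom.app K ≫ φ.hom ≫ α.inv.app K')
  obtain ⟨g, rfl⟩ := (HomotopyCategory.quotient _ _).map_surjective gt
  have hQg : Q.map g = φ.hom := by
    rw [nat g] at hgt
    have h1 := (cancel_epi (α.hom.app K)).mp hgt
    exact (cancel_mono (α.inv.app K')).mp h1
  have hqi : QuasiIso g := by
    rw [← isIso_Q_map_iff_quasiIso, hQg]; infer_instance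
  obtain ⟨e, he⟩ := (CochainComplex.IsKProjective.quasiIso_iff g).mp hqi
  subst he
  refine ⟨e, ⟨HomotopyCategory.homotopyOfEq _ _ ?_⟩⟩
  apply (CochainComplex.IsKProjective.Qh_map_bijective K
    ((HomotopyCategory.quotient _ _).obj K')).injective
  rw [nat, nat, Functor.map_comp, Functor.map_comp, hQg, ← hφ]

open DerivedCategory in
include a b in
theorem charSeries_invariant
    (hK : ∀ i : ℤ, Module.Finite A (K.X i) ∧ Module.Free A (K.X i))
    (hK' : ∀ i : ℤ, Module.Finite A (K'.X i) ∧ Module.Free A (K'.X i))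
    (u : K ⟶ K) (u' : K' ⟶ K') (φ : Q.obj K ≅ Q.obj K')
    (hφ : Q.map u ≫ φ.hom = φ.hom ≫ Q.map u') :
    SGA4h.detEven K u * SGA4h.detOdd K' u' = SGA4h.detOdd K u * SGA4h.detEven K' u' := by
  obtain ⟨e, ⟨h⟩⟩ := exists_homotopyEquiv K K' b hK hK' u u' φ hφ
  rw [detEven_eq K a b, detOdd_eq K' a b, detOdd_eq K a b, detEven_eq K' a b]
  exact (cs_identity K K' a b hK hK' e u u' h).symm

end Main

end Groth.Agent.Lib.Helper24.CharSer
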