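import Mathlib

/-!
# Coherent rings: finitely presented modules are closed under kernels
-/

set_option maxHeartbeats 400000
set_option linter.style.haveILetI false
set_option linter.unusedSectionVars false
set_option autoImplicit false

universe u v w

namespace Groth.Agent.Lib.Helper24.CohRing

variable (A : Type u) [CommRing A]

/-- every finitely generated submodule is finitely presented -/
def Coh (M : Type v) [AddCommGroup M] [Module A M] : Prop :=
  ∀ N : Submodule A M, N.FG → Module.FinitePresentation A N

variable {A}

theorem Coh.of_exact {M : Type v} {M'' : Type w} [AddCommGroup M] [Module A M]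
    [AddCommGroup M''] [Module A M''] (φ : M →ₗ[A] M'')
    (h' : ∀ N : Submodule A M, N ≤ LinearMap.ker φ → N.FG → Module.FinitePresentation A N)
    (h'' : Coh A M'') : Coh A M := by
  intro N hN
  haveI : Module.Finite A N := Module.Finite.iff_fg.2 hN
  haveI : Module.FinitePresentation A (N.map φ) := h'' _ (hN.map φ)
  have hg : Function.Surjective (φ.submoduleMap N) := φ.submoduleMap_surjective N
  have hk : (LinearMap.ker (φ.submoduleMap N)).FG :=
    Module.FinitePresentation.fg_ker (φ.submoduleMap N) hg
  have hk2 : ((LinearMap.ker (φ.submoduleMap N)).map N.subtype).FG := hk.map _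
  have hle : (LinearMap.ker (φ.submoduleMap N)).map N.subtype ≤ LinearMap.ker φ := by
    rintro _ ⟨x, hx, rfl⟩
    rw [LinearMap.mem_ker]
    have h1 : φ.submoduleMap N x = 0 := hx
    exact congrArg Subtype.val h1
  haveI : Module.FinitePresentation A ((LinearMap.ker (φ.submoduleMap N)).map N.subtype) :=
    h' _ hle hk2
  haveI : Module.FinitePresentation A (LinearMap.ker (φ.submoduleMap N)) :=
    Module.FinitePresentation.of_equiv
      (Submodule.equivMapOfInjective N.subtype N.injective_subtype
        (LinearMap.ker (φ.submoduleMap N))).symm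
  exact Module.finitePresentation_of_ker (φ.submoduleMap N) hg

theorem Coh.of_equiv {M : Type v} {M' : Type w} [AddCommGroup M] [Module A M]
    [AddCommGroup M'] [Module A M'] (e : M ≃ₗ[A] M') (h : Coh A M) : Coh A M' := by
  intro N hN
  haveI : Module.FinitePresentation A (N.map (e.symm : M' →ₗ[A] M)) := h _ (hN.map _)
  exact Module.FinitePresentation.of_equiv (e.symm.submoduleMap N).symm

variable (hcoh : ∀ I : Ideal A, I.FG → Module.FinitePresentation A I)
include hcoh

theorem coh_pi : ∀ n : ℕ, Coh A (Fin n → A)
  | 0 => fun N _ => inferInstance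
  | n + 1 => by
    refine Coh.of_exact (LinearMap.funLeft A A (Fin.succ : Fin n → Fin (n + 1))) ?_
      (coh_pi n)
    intro N hle hN
    haveI : Module.FinitePresentation A (N.map (LinearMap.proj (R := A) (φ := fun _ : Fin (n + 1) => A) 0)) :=
      hcoh _ (hN.map _)
    have hinj : Function.Injective
        ((LinearMap.proj (R := A) (φ := fun _ : Fin (n + 1) => A) 0).submoduleMap N) := by
      rw [← LinearMap.ker_eq_bot, LinearMap.ker_eq_bot']
      intro x hx
      have h0 : (x : Fin (n + 1) → A) 0 = 0 := congrArg Subtype.val hx
      have hk : LinearMap.funLeft A A (Fin.succ : Fin n → Fin (n + 1)) (x : Fin (n + 1) → A) = 0 :=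
        hle x.2
      apply Subtype.ext
      funext i
      refine Fin.cases h0 (fun i => ?_) i
      exact congrFun hk i
    exact Module.FinitePresentation.of_equiv (LinearEquiv.ofBijective _
      ⟨hinj, (LinearMap.proj (R := A) (φ := fun _ : Fin (n + 1) => A) 0).submoduleMap_surjective
        N⟩).symm

theorem coh_of_fp (P : Type v) [AddCommGroup P] [Module A P] [Module.FinitePresentation A P] :
    Coh A P := by
  obtain ⟨n, K, e, hK⟩ := Module.FinitePresentation.exists_fin A P
  refine Coh.of_equiv e.symm ?_
  intro N hN
  have hmap : (N.comap K.mkQ).map K.mkQ = N :=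
    Submodule.map_comap_eq_of_surjective (Submodule.mkQ_surjective K) N
  have hKle : K ≤ N.comap K.mkQ := by
    intro x hx
    change K.mkQ x ∈ N
    rw [Submodule.mkQ_apply, (Submodule.Quotient.mk_eq_zero K).2 hx]
    exact N.zero_mem
  have hN' : (N.comap K.mkQ).FG := by
    apply Submodule.fg_of_fg_map_of_fg_inf_ker K.mkQ
    · rw [hmap]; exact hN
    · rw [Submodule.ker_mkQ, inf_eq_right.2 hKle]; exact hK
  haveI : Module.FinitePresentation A (N.comap K.mkQ) := coh_pi hcoh n _ hN'
  have hg : Function.Surjective (K.mkQ.submoduleMap (N.comap K.mkQ)) :=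
    K.mkQ.submoduleMap_surjective _
  have hker : (LinearMap.ker (K.mkQ.submoduleMap (N.comap K.mkQ))).FG := by
    apply Submodule.fg_of_fg_map_injective (N.comap K.mkQ).subtype
      (N.comap K.mkQ).injective_subtype
    have hKeq : (LinearMap.ker (K.mkQ.submoduleMap (N.comap K.mkQ))).map
        (N.comap K.mkQ).subtype = K := by
      ext x
      constructor
      · rintro ⟨y, hy, rfl⟩
        have h1 : K.mkQ.submoduleMap (N.comap K.mkQ) y = 0 := hy
        have h2 : K.mkQ (y : Fin n → A) = 0 := congrArg Subtype.val h1
        rwa [Submodule.mkQ_apply, Submodule.Quotient.mk_eq_zero] at h2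
      · intro hx
        refine ⟨⟨x, hKle hx⟩, ?_, rfl⟩
        rw [SetLike.mem_coe, LinearMap.mem_ker]
        apply Subtype.ext
        change K.mkQ x = 0
        rw [Submodule.mkQ_apply, Submodule.Quotient.mk_eq_zero]
        exact hx
    rw [hKeq]
    exact hK
  haveI : Module.FinitePresentation A ((N.comap K.mkQ).map K.mkQ) :=
    Module.finitePresentation_of_surjective _ hg hker
  exact Module.FinitePresentation.of_equiv (LinearEquiv.ofEq _ _ hmap)

theorem fp_ker {P : Type v} {P' : Type w} [AddCommGroup P] [Module A P] [AddCommGroup P']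
    [Module A P'] [Module.FinitePresentation A P] [Module.FinitePresentation A P']
    (g : P →ₗ[A] P') : Module.FinitePresentation A (LinearMap.ker g) := by
  have hr : (LinearMap.range g).FG := by
    rw [LinearMap.range_eq_map]
    exact Module.Finite.fg_top.map g
  haveI : Module.FinitePresentation A (LinearMap.range g) := coh_of_fp hcoh P' _ hr
  have hk : (LinearMap.ker g.rangeRestrict).FG :=
    Module.FinitePresentation.fg_ker g.rangeRestrict g.surjective_rangeRestrict
  rw [LinearMap.ker_rangeRestrict] at hk
  exact coh_of_fp hcoh P _ hk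

end Groth.Agent.Lib.Helper24.CohRing
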