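import Mathlib
import Groth.Prelude.Def_W4c3ghconstell
import Groth.Agent.Lib.Helper19.Coalg2
import Groth.Agent.Lib.Helper28.ComodRestrict

/-! Infrastructure for θ-stability of constellations (W4c3ghconstell): isotypic components are
subcomodules, `R`-spans of subcomodules are subcomodules, isotypic decomposition of subcomodules,
real-series comparisons. -/

set_option autoImplicit false
set_option linter.unusedSectionVars false
universe u v w x

open TensorProduct

namespace Groth.Agent.Lib.Helper24.Constell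

open W4c3ghconstell
open Groth.Agent.Lib.Helper19.Reynolds Groth.Agent.Lib.Helper19.Coalg
open Groth.Agent.Lib.Helper28.ComodHom Groth.Agent.Lib.Helper28.ComodRestrict

section Coalg

variable {k : Type u} {A : Type v} [Field k] [AddCommGroup A] [Module k A] [Coalgebra k A]
variable {M : Type x} [AddCommGroup M] [Module k M] [HopfRep.Comod k A M]

lemma mem_isoComp_iff (D : Submodule k A) (m : M) :
    m ∈ isoComp M D ↔ ∀ φ : M →ₗ[k] k, cfm (C := A) φ m ∈ D := by
  unfold isoComp
  rw [Submodule.mem_comap, Groth.Agent.Lib.Helper19.Coalg.mem_range_lTensor_iff]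
  rfl

/-- F1: the isotypic component of a subcoalgebra is a subcomodule. -/
lemma isSubcomod_isoComp (D : Submodule k A) (hD : W4c3ghconstell.IsSubcoalg k A D) :
    HopfRep.IsSubcomod (k := k) (A := A) (isoComp M D) := by
  have hD' : Groth.Agent.Lib.Helper19.Coalg.IsSubcoalg D := hD
  rw [isSubcomod_iff]
  intro f m hm
  rw [mem_isoComp_iff] at hm ⊢
  intro φ
  rw [cfm_opT]
  exact ((isSubcoalg_iff D).mp hD').1 f _ (hm φ)

/-- On the `D`-isotypic component, `opT f` only depends on `f|_D`. -/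
lemma opT_eq_of_eqOn (D : Submodule k A) (f g : A →ₗ[k] k) (hfg : ∀ d ∈ D, f d = g d)
    (m : M) (hm : m ∈ isoComp M D) : opT k A M f m = opT k A M g m := by
  obtain ⟨y, hy⟩ := hm
  have h : f ∘ₗ D.subtype = g ∘ₗ D.subtype := LinearMap.ext fun d => hfg d d.2
  rw [opT_apply, opT_apply, ← hy, slice_lTensor, slice_lTensor, h]

/-- a functional which is the counit on `D₀` and zero on a disjoint subspace `E`. -/
lemma exists_functional (D₀ E : Submodule k A) (hdis : Disjoint D₀ E) :
    ∃ f : A →ₗ[k] k, (∀ d ∈ D₀, f d = Coalgebra.counit (R := k) (A := A) d) ∧ ∀ e ∈ E, f e = 0 := by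
  -- q : A → A / E restricted to D₀ is injective
  let q : D₀ →ₗ[k] A ⧸ E := E.mkQ ∘ₗ D₀.subtype
  have hq : LinearMap.ker q = ⊥ := by
    rw [LinearMap.ker_eq_bot']
    intro d hd
    have hd' : (d : A) ∈ E := by
      have : E.mkQ (d : A) = 0 := hd
      rwa [Submodule.mkQ_apply, Submodule.Quotient.mk_eq_zero] at this
    have : (d : A) ∈ D₀ ⊓ E := ⟨d.2, hd'⟩
    rw [hdis.eq_bot] at this
    exact Subtype.ext ((Submodule.mem_bot k).mp this)
  obtain ⟨r, hr⟩ := LinearMap.exists_leftInverse_of_injective q hq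
  refine ⟨(Coalgebra.counit (R := k) (A := A)) ∘ₗ D₀.subtype ∘ₗ r ∘ₗ E.mkQ, ?_, ?_⟩
  · intro d hd
    have h1 : r (E.mkQ d) = ⟨d, hd⟩ := by
      have := LinearMap.congr_fun hr ⟨d, hd⟩
      simpa [q] using this
    simp only [LinearMap.comp_apply, h1, Submodule.subtype_apply]
  · intro e he
    have h1 : E.mkQ e = 0 := by
      rw [Submodule.mkQ_apply, Submodule.Quotient.mk_eq_zero]; exact he
    simp only [LinearMap.comp_apply, h1, map_zero]

/-- F6: a subcomodule of `M` is compatible with the isotypic decomposition along simple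
subcoalgebras. -/
lemma inf_iSup_isoComp_le (N : Submodule k M) (hN : HopfRep.IsSubcomod (k := k) (A := A) N) :
    N ⊓ (⨆ D : SimpSub k A, isoComp M D.1) ≤ ⨆ D : SimpSub k A, N ⊓ isoComp M D.1 := by
  classical
  intro m hm0
  obtain ⟨hmN, hm⟩ := Submodule.mem_inf.mp hm0
  rw [Submodule.mem_iSup_iff_exists_finsupp] at hm
  obtain ⟨c, hc, rfl⟩ := hm
  -- each component lies in N
  have key : ∀ D₀ : SimpSub k A, c D₀ ∈ N := by
    intro D₀
    let E : Submodule k A := ⨆ (D : SimpSub k A) (_ : D ≠ D₀), D.1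
    have hind := iSupIndep_simpleSubcoalg (K := k) (C := A)
    have hdis : Disjoint D₀.1 E := by
      have := hind ⟨D₀.1, D₀.2⟩
      refine this.mono_right ?_
      refine iSup_le fun D => iSup_le fun hD => ?_
      exact le_iSup₂_of_le (⟨D.1, D.2⟩ : {D : Submodule k A // Groth.Agent.Lib.Helper19.Coalg.IsSimpleSubcoalg D})
        (fun h => hD (Subtype.ext (congrArg Subtype.val h))) le_rfl
    obtain ⟨f, hf1, hf2⟩ := exists_functional D₀.1 E hdis
    have h1 : opT k A M f (c.sum fun _ x => x) = c D₀ := by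
      rw [Finsupp.sum, map_sum]
      rw [Finset.sum_eq_single D₀]
      · rw [opT_eq_of_eqOn D₀.1 f _ hf1 _ (hc D₀), opT_counit]
      · intro D _ hD
        have hz : ∀ d ∈ D.1, f d = (0 : A →ₗ[k] k) d := by
          intro d hd
          rw [LinearMap.zero_apply]
          exact hf2 d (Submodule.mem_iSup_of_mem D (Submodule.mem_iSup_of_mem hD hd))
        rw [opT_eq_of_eqOn D.1 f 0 hz _ (hc D), opT_apply]
        simp [slice]
      · intro hD
        rw [Finsupp.notMem_support_iff.mp hD, map_zero]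
    rw [← h1]
    exact (isSubcomod_iff N).mp hN f _ hmN
  rw [Finsupp.sum]
  refine Submodule.sum_mem _ fun D _ => ?_
  exact Submodule.mem_iSup_of_mem D ⟨key D, hc D⟩

end Coalg

section HopfMod

variable {k : Type u} [Field k] {A : Type v} [CommRing A] [Bialgebra k A]
variable {R : Type w} [CommRing R] [Algebra k R] [HopfRep.Comod k A R]
variable {M : Type x} [AddCommGroup M] [Module k M] [Module R M] [IsScalarTower k R M]
  [HopfRep.Comod k A M] [TameAct.IsHopfMod k A R M]

lemma hmSMul_mem (N : Submodule R M) (t : R ⊗[k] A) (y : M ⊗[k] A)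
    (hy : y ∈ LinearMap.range ((N.restrictScalars k).subtype.rTensor A)) :
    TameAct.hmSMul k A R M t y ∈ LinearMap.range ((N.restrictScalars k).subtype.rTensor A) := by
  obtain ⟨z, rfl⟩ := hy
  induction t using TensorProduct.induction_on with
  | zero => simp
  | add a b ha hb => rw [map_add, LinearMap.add_apply]; exact Submodule.add_mem _ ha hb
  | tmul r a =>
    induction z using TensorProduct.induction_on with
    | zero => simp
    | add p q hp hq => rw [map_add, map_add]; exact Submodule.add_mem _ hp hq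
    | tmul n a' =>
      refine ⟨(⟨r • (n : M), N.smul_mem r n.2⟩ : N.restrictScalars k) ⊗ₜ (a * a'), ?_⟩
      simp

lemma range_rTensor_mono {W W' : Submodule k M} (h : W ≤ W') :
    LinearMap.range (W.subtype.rTensor A) ≤ LinearMap.range (W'.subtype.rTensor A) := by
  rintro _ ⟨z, rfl⟩
  refine ⟨(Submodule.inclusion h).rTensor A z, ?_⟩
  rw [← LinearMap.comp_apply, ← LinearMap.rTensor_comp]
  rfl

/-- F2: the `R`-span of a union of `k`-subcomodules is a subcomodule. -/
lemma isSubcomod_span (S : Set M)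
    (hS : ∀ s ∈ S, ∃ W : Submodule k M, HopfRep.IsSubcomod (k := k) (A := A) W ∧ s ∈ W ∧
      (W : Set M) ⊆ S) :
    HopfRep.IsSubcomod (k := k) (A := A) ((Submodule.span R S).restrictScalars k) := by
  intro w hw
  have hw' : w ∈ Submodule.span R S := hw
  induction hw' using Submodule.span_induction with
  | mem s hs =>
    obtain ⟨W, hW, hsW, hWS⟩ := hS s hs
    have hle : W ≤ (Submodule.span R S).restrictScalars k := fun x hx =>
      Submodule.subset_span (hWS hx)
    exact range_rTensor_mono hle (hW s hsW)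
  | zero => rw [map_zero]; exact Submodule.zero_mem _
  | add x y hx hy ihx ihy => rw [map_add]; exact Submodule.add_mem _ (ihx hx) (ihy hy)
  | smul r x hx ihx =>
    rw [TameAct.IsHopfMod.coact_smul]
    exact hmSMul_mem _ _ _ (ihx hx)

lemma isSubcomod_genIn (S : Set (SimpSub k A)) (N : Submodule R M)
    (hN : HopfRep.IsSubcomod (k := k) (A := A) (N.restrictScalars k)) :
    HopfRep.IsSubcomod (k := k) (A := A) ((genIn k A R M S N).restrictScalars k) := by
  unfold genIn
  apply isSubcomod_span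
  intro s hs
  simp only [Set.mem_iUnion] at hs
  obtain ⟨D, hD, hs⟩ := hs
  refine ⟨N.restrictScalars k ⊓ isoComp M D.1, ?_, hs, ?_⟩
  · exact isSubcomod_inf _ _ hN (isSubcomod_isoComp D.1 D.2.2.1)
  · intro x hx
    simp only [Set.mem_iUnion]
    exact ⟨D, hD, hx⟩

lemma genIn_le (S : Set (SimpSub k A)) (N : Submodule R M) : genIn k A R M S N ≤ N := by
  unfold genIn
  rw [Submodule.span_le]
  intro x hx
  simp only [Set.mem_iUnion] at hx
  obtain ⟨D, _, hx⟩ := hx
  exact hx.1

lemma inf_isoComp_le_genIn (S : Set (SimpSub k A)) (N : Submodule R M) (D : SimpSub k A)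
    (hD : D ∈ S) :
    N.restrictScalars k ⊓ isoComp M D.1 ≤ (genIn k A R M S N).restrictScalars k := by
  intro x hx
  apply Submodule.subset_span
  simp only [Set.mem_iUnion]
  exact ⟨D, hD, hx⟩

lemma genIn_idem (S : Set (SimpSub k A)) (N : Submodule R M) :
    genIn k A R M S (genIn k A R M S N) = genIn k A R M S N := by
  apply le_antisymm (genIn_le _ _)
  conv_lhs => unfold genIn
  rw [Submodule.span_le]
  intro x hx
  simp only [Set.mem_iUnion] at hx
  obtain ⟨D, hD, hx⟩ := hx
  apply Submodule.subset_span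
  simp only [Set.mem_iUnion]
  exact ⟨D, hD, ⟨inf_isoComp_le_genIn S N D hD hx, hx.2⟩⟩

end HopfMod

section Stab

variable {k : Type u} [Field k] {A : Type v} [CommRing A] [Bialgebra k A]
variable {R : Type w} [CommRing R] [Algebra k R] [HopfRep.Comod k A R]
variable {M : Type x} [AddCommGroup M] [Module k M] [Module R M] [IsScalarTower k R M]
  [HopfRep.Comod k A M] [TameAct.IsHopfMod k A R M]
variable {h : SimpSub k A → ℕ} {θ : SimpSub k A → ℚ}

/-! ### F4: `hilbAt` -/

lemma hilbAt_le (hM : IsConstellation k A R M h) (N : Submodule k M) (D : SimpSub k A) :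
    hilbAt M N D ≤ h D := by
  haveI := (hM.2.2 D).1
  rw [← (hM.2.2 D).2]
  exact Submodule.finrank_mono inf_le_right

lemma hilbAt_mono (hM : IsConstellation k A R M h) {N N' : Submodule k M} (hle : N ≤ N')
    (D : SimpSub k A) : hilbAt M N D ≤ hilbAt M N' D := by
  haveI := (hM.2.2 D).1
  haveI : Module.Finite k ↥(N' ⊓ isoComp M D.1) :=
    Submodule.finiteDimensional_of_le (inf_le_right : N' ⊓ isoComp M D.1 ≤ isoComp M D.1)
  exact Submodule.finrank_mono (inf_le_inf_right _ hle)

lemma hilbAt_eq_of_le (hM : IsConstellation k A R M h) (N : Submodule k M) (D : SimpSub k A)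
    (hle : isoComp M D.1 ≤ N) : hilbAt M N D = h D := by
  unfold hilbAt
  rw [inf_eq_right.mpr hle]
  exact (hM.2.2 D).2

lemma hilbAt_top (hM : IsConstellation k A R M h) (D : SimpSub k A) :
    hilbAt M (⊤ : Submodule k M) D = h D :=
  hilbAt_eq_of_le hM ⊤ D le_top

lemma isoComp_le_of_hilbAt_eq (hM : IsConstellation k A R M h) (N : Submodule k M)
    (D : SimpSub k A) (he : hilbAt M N D = h D) : isoComp M D.1 ≤ N := by
  haveI := (hM.2.2 D).1
  have h1 : N ⊓ isoComp M D.1 = isoComp M D.1 := by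
    apply Submodule.eq_of_le_of_finrank_eq inf_le_right
    rw [(hM.2.2 D).2]
    exact he
  rw [← h1]
  exact inf_le_left

lemma hilbAt_eq_zero_iff (hM : IsConstellation k A R M h) (N : Submodule k M) (D : SimpSub k A) :
    hilbAt M N D = 0 ↔ N ⊓ isoComp M D.1 = ⊥ := by
  haveI := (hM.2.2 D).1
  haveI : Module.Finite k ↥(N ⊓ isoComp M D.1) :=
    Submodule.finiteDimensional_of_le (inf_le_right : N ⊓ isoComp M D.1 ≤ isoComp M D.1)
  unfold hilbAt
  exact Submodule.finrank_eq_zero

/-! ### F5: series -/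

lemma summable_t (hsum : HasSum (fun D => (θ D : ℝ) * (h D : ℝ)) 0)
    (hM : IsConstellation k A R M h) (N : Submodule k M) :
    Summable (fun D : SimpSub k A => (θ D : ℝ) * (hilbAt M N D : ℝ)) := by
  refine Summable.of_norm_bounded (g := fun D => |(θ D : ℝ) * (h D : ℝ)|) hsum.summable.abs ?_
  intro D
  rw [Real.norm_eq_abs, abs_mul, abs_mul]
  apply mul_le_mul_of_nonneg_left _ (abs_nonneg _)
  rw [abs_of_nonneg (Nat.cast_nonneg _), abs_of_nonneg (Nat.cast_nonneg _)]
  exact_mod_cast hilbAt_le hM N D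

lemma theta_le_theta (hsum : HasSum (fun D => (θ D : ℝ) * (h D : ℝ)) 0)
    (hM : IsConstellation k A R M h) (N N' : Submodule k M)
    (hpt : ∀ D, (θ D : ℝ) * (hilbAt M N D : ℝ) ≤ (θ D : ℝ) * (hilbAt M N' D : ℝ)) :
    theta M θ N ≤ theta M θ N' :=
  (summable_t hsum hM N).tsum_le_tsum hpt (summable_t hsum hM N')

lemma theta_top (hsum : HasSum (fun D => (θ D : ℝ) * (h D : ℝ)) 0)
    (hM : IsConstellation k A R M h) : theta M θ (⊤ : Submodule k M) = 0 := by
  unfold theta
  simp_rw [hilbAt_top hM]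
  exact hsum.tsum_eq

/-- comparison with the full module when the negative parts are full. -/
lemma t_le_T (hM : IsConstellation k A R M h) (N : Submodule k M)
    (hneg : ∀ D, θ D < 0 → isoComp M D.1 ≤ N) (D : SimpSub k A) :
    (θ D : ℝ) * (hilbAt M N D : ℝ) ≤ (θ D : ℝ) * (h D : ℝ) := by
  by_cases hD : θ D < 0
  · rw [hilbAt_eq_of_le hM N D (hneg D hD)]
  · push Not at hD
    apply mul_le_mul_of_nonneg_left _ (by exact_mod_cast hD)
    exact_mod_cast hilbAt_le hM N D

/-- comparison of `N' ≤ N` with the same negative parts. -/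
lemma t_le_t (hM : IsConstellation k A R M h) {N' N : Submodule k M} (hle : N' ≤ N)
    (hneg : ∀ D, θ D < 0 → N ⊓ isoComp M D.1 ≤ N') (D : SimpSub k A) :
    (θ D : ℝ) * (hilbAt M N' D : ℝ) ≤ (θ D : ℝ) * (hilbAt M N D : ℝ) := by
  by_cases hD : θ D < 0
  · have h1 : N' ⊓ isoComp M D.1 = N ⊓ isoComp M D.1 := by
      apply le_antisymm (inf_le_inf_right _ hle)
      exact le_inf (hneg D hD) inf_le_right
    have : hilbAt M N' D = hilbAt M N D := by
      unfold hilbAt
      rw [h1]
    rw [this]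
  · push Not at hD
    apply mul_le_mul_of_nonneg_left _ (by exact_mod_cast hD)
    exact_mod_cast hilbAt_mono hM hle D

/-- if `N` has no negative parts then its weight is nonnegative. -/
lemma theta_nonneg_of_no_neg (hM : IsConstellation k A R M h) (N : Submodule k M)
    (hneg : ∀ D, θ D < 0 → N ⊓ isoComp M D.1 = ⊥) : 0 ≤ theta M θ N := by
  unfold theta
  apply tsum_nonneg
  intro D
  by_cases hD : θ D < 0
  · rw [(hilbAt_eq_zero_iff hM N D).mpr (hneg D hD)]; simp
  · push Not at hD
    exact mul_nonneg (by exact_mod_cast hD) (Nat.cast_nonneg _)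

/-- if `N ≠ 0` is a subcomodule with no negative parts and `θ ≠ 0` where `h ≠ 0`, the weight is
positive. -/
lemma theta_pos_of_no_neg (hsum : HasSum (fun D => (θ D : ℝ) * (h D : ℝ)) 0)
    (hM : IsConstellation k A R M h) (hθ : ∀ D, h D ≠ 0 → θ D ≠ 0) (N : Submodule k M)
    (hN : HopfRep.IsSubcomod (k := k) (A := A) N) (hN0 : N ≠ ⊥)
    (hneg : ∀ D, θ D < 0 → N ⊓ isoComp M D.1 = ⊥) : 0 < theta M θ N := by
  -- some isotypic part is nonzero
  have hex : ∃ D : SimpSub k A, N ⊓ isoComp M D.1 ≠ ⊥ := by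
    by_contra hcon
    push Not at hcon
    apply hN0
    have h1 := inf_iSup_isoComp_le N hN
    rw [hM.2.1, inf_top_eq] at h1
    rw [eq_bot_iff]
    refine h1.trans (iSup_le fun D => ?_)
    rw [hcon D]
  obtain ⟨D, hD⟩ := hex
  have hpos : 0 < hilbAt M N D := by
    rw [Nat.pos_iff_ne_zero, Ne, hilbAt_eq_zero_iff hM]
    exact hD
  have hh : h D ≠ 0 := by
    have := hilbAt_le hM N D
    omega
  have hθD : 0 < θ D := by
    rcases lt_trichotomy (θ D) 0 with h1 | h1 | h1
    · exact absurd (hneg D h1) hD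
    · exact absurd h1 (hθ D hh)
    · exact h1
  unfold theta
  apply (summable_t hsum hM N).tsum_pos _ D
  · exact mul_pos (by exact_mod_cast hθD) (by exact_mod_cast hpos)
  · intro D'
    by_cases hD' : θ D' < 0
    · rw [(hilbAt_eq_zero_iff hM N D').mpr (hneg D' hD')]; simp
    · push Not at hD'
      exact mul_nonneg (by exact_mod_cast hD') (Nat.cast_nonneg _)

/-! ### The theorems -/

lemma isSubcomod_genIn_top (S : Set (SimpSub k A)) :
    HopfRep.IsSubcomod (k := k) (A := A) ((genIn k A R M S ⊤).restrictScalars k) := by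
  apply isSubcomod_genIn
  rw [Submodule.restrictScalars_top]
  exact isSubcomod_top

lemma isoComp_le_genIn_top (S : Set (SimpSub k A)) (D : SimpSub k A) (hD : D ∈ S) :
    isoComp M D.1 ≤ (genIn k A R M S ⊤).restrictScalars k := by
  refine le_trans ?_ (inf_isoComp_le_genIn S ⊤ D hD)
  rw [Submodule.restrictScalars_top, top_inf_eq]

/-- S16010 -/
theorem genIn_top_of_stable (hsum : HasSum (fun D => (θ D : ℝ) * (h D : ℝ)) 0)
    (hne : ∃ D, θ D ≠ 0 ∧ h D ≠ 0) (hM : IsConstellation k A R M h)
    (hst : IsThetaStable k A R M θ) : genIn k A R M {D | θ D < 0} ⊤ = ⊤ := by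
  by_contra hNtop
  have hsub := isSubcomod_genIn_top (k := k) (A := A) (R := R) (M := M) {D | θ D < 0}
  have hneg : ∀ D, θ D < 0 →
      isoComp M D.1 ≤ (genIn k A R M {D | θ D < 0} ⊤).restrictScalars k :=
    fun D hD => isoComp_le_genIn_top _ D hD
  have hle : theta M θ ((genIn k A R M {D | θ D < 0} ⊤).restrictScalars k) ≤ 0 := by
    rw [← theta_top hsum hM]
    apply theta_le_theta hsum hM
    intro D
    rw [hilbAt_top hM]
    exact t_le_T hM _ hneg D
  by_cases hN0 : genIn k A R M {D | θ D < 0} ⊤ = ⊥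
  · have h1 : ∀ D, θ D < 0 → h D = 0 := by
      intro D hD
      have h2 := hneg D hD
      rw [hN0, Submodule.restrictScalars_bot, le_bot_iff] at h2
      rw [← (hM.2.2 D).2, h2, finrank_bot]
    have h2 : ∀ D, 0 ≤ (θ D : ℝ) * (h D : ℝ) := by
      intro D
      by_cases hD : θ D < 0
      · rw [h1 D hD]; simp
      · push Not at hD
        exact mul_nonneg (by exact_mod_cast hD) (Nat.cast_nonneg _)
    have h3 := (hasSum_zero_iff_of_nonneg h2).mp hsum
    obtain ⟨D, hD1, hD2⟩ := hne
    have h4 : (θ D : ℝ) * (h D : ℝ) = 0 := congrFun h3 D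
    rcases mul_eq_zero.mp h4 with h5 | h5
    · exact hD1 (by exact_mod_cast h5)
    · exact hD2 (by exact_mod_cast h5)
  · have := hst.2 _ hsub hN0 hNtop
    linarith

/-- S16018 -/
theorem genIn_top_of_semistable (hsum : HasSum (fun D => (θ D : ℝ) * (h D : ℝ)) 0)
    (hM : IsConstellation k A R M h) (hθ : ∀ D, θ D ≠ 0)
    (hss : IsThetaSemistable k A R M θ) : genIn k A R M {D | θ D < 0} ⊤ = ⊤ := by
  have hsub := isSubcomod_genIn_top (k := k) (A := A) (R := R) (M := M) {D | θ D < 0}
  have hneg : ∀ D, θ D < 0 →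
      isoComp M D.1 ≤ (genIn k A R M {D | θ D < 0} ⊤).restrictScalars k :=
    fun D hD => isoComp_le_genIn_top _ D hD
  have hpt := t_le_T hM _ hneg
  have hge := hss.2 _ hsub
  have heq : ∀ D, (θ D : ℝ) * (hilbAt M ((genIn k A R M {D | θ D < 0} ⊤).restrictScalars k) D : ℝ) =
      (θ D : ℝ) * (h D : ℝ) := by
    by_contra hcon
    push Not at hcon
    obtain ⟨D, hD⟩ := hcon
    have hlt := lt_of_le_of_ne (hpt D) hD
    have := (summable_t hsum hM _).tsum_lt_tsum hpt hlt hsum.summable
    rw [hsum.tsum_eq] at this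
    unfold theta at hge
    linarith
  have hall : ∀ D : SimpSub k A,
      isoComp M D.1 ≤ (genIn k A R M {D | θ D < 0} ⊤).restrictScalars k := by
    intro D
    apply isoComp_le_of_hilbAt_eq hM
    have h1 := heq D
    have h2 : (θ D : ℝ) ≠ 0 := by exact_mod_cast hθ D
    exact_mod_cast mul_left_cancel₀ h2 h1
  rw [eq_top_iff]
  intro m _
  have hm : m ∈ ⨆ D : SimpSub k A, isoComp M D.1 := by rw [hM.2.1]; trivial
  exact (iSup_le hall) hm

/-- S16011 -/
theorem semistable_of (hsum : HasSum (fun D => (θ D : ℝ) * (h D : ℝ)) 0)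
    (hM : IsConstellation k A R M h) (h0 : theta M θ (⊤ : Submodule k M) = 0)
    (hss : ∀ N : Submodule R M, HopfRep.IsSubcomod (k := k) (A := A) (N.restrictScalars k) →
      N ≠ ⊥ → N ≠ ⊤ → genIn k A R M {D | θ D < 0} N = N →
      0 ≤ theta M θ (N.restrictScalars k)) :
    IsThetaSemistable k A R M θ := by
  refine ⟨h0, fun N hN => ?_⟩
  have hle : genIn k A R M {D | θ D < 0} N ≤ N := genIn_le _ _
  have hsub' := isSubcomod_genIn {D | θ D < 0} N hN
  have hneg : ∀ D, θ D < 0 → N.restrictScalars k ⊓ isoComp M D.1 ≤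
      (genIn k A R M {D | θ D < 0} N).restrictScalars k :=
    fun D hD => inf_isoComp_le_genIn _ N D hD
  have hcmp : theta M θ ((genIn k A R M {D | θ D < 0} N).restrictScalars k) ≤
      theta M θ (N.restrictScalars k) :=
    theta_le_theta hsum hM _ _ (t_le_t hM (fun x hx => hle hx) hneg)
  by_cases h1 : genIn k A R M {D | θ D < 0} N = ⊥
  · apply theta_nonneg_of_no_neg hM
    intro D hD
    have := hneg D hD
    rw [h1, Submodule.restrictScalars_bot] at this
    exact le_bot_iff.mp this
  by_cases h2 : genIn k A R M {D | θ D < 0} N = ⊤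
  · have : N = ⊤ := top_le_iff.mp (h2 ▸ hle)
    rw [this, Submodule.restrictScalars_top]
    exact h0.ge
  · exact (hss _ hsub' h1 h2 (genIn_idem _ _)).trans hcmp

/-- S16012 -/
theorem stable_of (hsum : HasSum (fun D => (θ D : ℝ) * (h D : ℝ)) 0)
    (hM : IsConstellation k A R M h) (hθ : ∀ D, h D ≠ 0 → θ D ≠ 0)
    (h0 : theta M θ (⊤ : Submodule k M) = 0)
    (hs : ∀ N : Submodule R M, HopfRep.IsSubcomod (k := k) (A := A) (N.restrictScalars k) →
      N ≠ ⊥ → N ≠ ⊤ → genIn k A R M {D | θ D < 0} N = N →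
      0 < theta M θ (N.restrictScalars k)) :
    IsThetaStable k A R M θ := by
  refine ⟨h0, fun N hN hN0 hNtop => ?_⟩
  have hle : genIn k A R M {D | θ D < 0} N ≤ N := genIn_le _ _
  have hsub' := isSubcomod_genIn {D | θ D < 0} N hN
  have hneg : ∀ D, θ D < 0 → N.restrictScalars k ⊓ isoComp M D.1 ≤
      (genIn k A R M {D | θ D < 0} N).restrictScalars k :=
    fun D hD => inf_isoComp_le_genIn _ N D hD
  have hcmp : theta M θ ((genIn k A R M {D | θ D < 0} N).restrictScalars k) ≤
      theta M θ (N.restrictScalars k) :=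
    theta_le_theta hsum hM _ _ (t_le_t hM (fun x hx => hle hx) hneg)
  by_cases h1 : genIn k A R M {D | θ D < 0} N = ⊥
  · apply theta_pos_of_no_neg hsum hM hθ _ hN
    · intro hbot
      exact hN0 ((Submodule.restrictScalars_eq_bot_iff k R M).mp hbot)
    · intro D hD
      have := hneg D hD
      rw [h1, Submodule.restrictScalars_bot] at this
      exact le_bot_iff.mp this
  by_cases h2 : genIn k A R M {D | θ D < 0} N = ⊤
  · exact absurd (top_le_iff.mp (h2 ▸ hle)) hNtop
  · exact (hs _ hsub' h1 h2 (genIn_idem _ _)).trans_le hcmp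

/-- S16013 -/
theorem stable_of_cyclic (hsum : HasSum (fun D => (θ D : ℝ) * (h D : ℝ)) 0)
    (hM : IsConstellation k A R M h) (D₀ : SimpSub k A) (h1 : h D₀ = 1)
    (hneg : ∀ D, θ D < 0 ↔ D = D₀) (hθ : ∀ D, h D ≠ 0 → θ D ≠ 0)
    (hgen : genIn k A R M {D₀} ⊤ = ⊤) : IsThetaStable k A R M θ := by
  refine ⟨theta_top hsum hM, fun N hN hN0 hNtop => ?_⟩
  apply theta_pos_of_no_neg hsum hM hθ _ hN
  · intro hbot
    exact hN0 ((Submodule.restrictScalars_eq_bot_iff k R M).mp hbot)
  · intro D hD
    have hDD : D = D₀ := (hneg D).mp hD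
    subst hDD
    by_contra hne
    have hfull : isoComp M D.1 ≤ N.restrictScalars k := by
      apply isoComp_le_of_hilbAt_eq hM
      have e1 := hilbAt_le hM (N.restrictScalars k) D
      have e2 : hilbAt M (N.restrictScalars k) D ≠ 0 := (hilbAt_eq_zero_iff hM _ D).not.mpr hne
      omega
    apply hNtop
    rw [eq_top_iff, ← hgen]
    unfold genIn
    rw [Submodule.span_le]
    intro x hx
    simp only [Set.mem_iUnion, Set.mem_singleton_iff] at hx
    obtain ⟨D', rfl, hx⟩ := hx
    exact hfull hx.2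

end Stab

end Groth.Agent.Lib.Helper24.Constell
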