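import Mathlib
import Groth.Prelude.Def_W4c3irrattreebunCvg

/-! Covering diagrams over `k` versus over the field of constants `k' = algebraicClosure k K`. -/

set_option autoImplicit false
universe u

namespace Groth.Agent.Lib.Helper24.CvgConst

open W4c3irrattreebun

variable (k K : Type u) [Field k] [Field K] [Algebra k K]

/-- restrict scalars of a covering diagram from `k'` to `k`. -/
noncomputable def restrictDiag {e : ℕ} (D : CovDiag (algebraicClosure k K) K e) : CovDiag k K e :=
  letI algkC : Algebra k D.KC := ((algebraMap K D.KC).comp (algebraMap k K)).toAlgebra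
  letI algkB : Algebra k D.KB := ((algebraMap (algebraicClosure k K) D.KB).comp
    (algebraMap k (algebraicClosure k K))).toAlgebra
  { KC := D.KC
    KB := D.KB
    instFieldC := D.instFieldC
    instFieldB := D.instFieldB
    algKC := D.algKC
    algkC := algkC
    towerK := IsScalarTower.of_algebraMap_eq (fun x => rfl)
    algkB := algkB
    algBC := D.algBC
    towerB := IsScalarTower.of_algebraMap_eq (fun x => by
      have h1 := @IsScalarTower.algebraMap_apply (algebraicClosure k K) D.KB D.KC _ _ _
        D.algkB D.algBC D.algkC D.towerB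
      have h2 := @IsScalarTower.algebraMap_apply (algebraicClosure k K) K D.KC _ _ _ _
        D.algKC D.algkC D.towerK
      change algebraMap K D.KC (algebraMap k K x) =
        algebraMap D.KB D.KC (algebraMap (algebraicClosure k K) D.KB
          (algebraMap k (algebraicClosure k K) x))
      rw [← h1, h2]
      rfl)
    finiteK := D.finiteK
    t := D.t
    transc := D.transc
    finiteT := D.finiteT
    finrank_eq := D.finrank_eq }

variable {k K}

/-- the compositum `KB · k'` inside `KC`. -/
noncomputable def KB' {e : ℕ} (D : CovDiag k K e) : IntermediateField D.KB D.KC :=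
  IntermediateField.adjoin D.KB (Set.range (algebraMap (algebraicClosure k K) D.KC))

noncomputable def algk'B {e : ℕ} (D : CovDiag k K e) : Algebra (algebraicClosure k K) (KB' D) :=
  ((algebraMap (algebraicClosure k K) D.KC).codRestrict (KB' D)
    (fun x => IntermediateField.subset_adjoin _ _ ⟨x, rfl⟩)).toAlgebra

lemma isAlgebraic_KB' {e : ℕ} (D : CovDiag k K e) : Algebra.IsAlgebraic D.KB (KB' D) := by
  apply IntermediateField.isAlgebraic_adjoin
  rintro _ ⟨x, rfl⟩
  have hx : IsIntegral k (x : K) := (mem_algebraicClosure_iff'.mp x.2)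
  have h1 : IsIntegral k (algebraMap K D.KC (x : K)) := hx.algebraMap
  exact h1.tower_top

lemma transc' {e : ℕ} (D : CovDiag k K e) : Transcendental (KB' D) D.t := by
  intro h
  haveI := isAlgebraic_KB' D
  exact D.transc (h.restrictScalars D.KB)

lemma adjoin_le {e : ℕ} (D : CovDiag k K e) :
    IntermediateField.adjoin D.KB ({D.t} : Set D.KC) ≤
      (IntermediateField.adjoin (KB' D) ({D.t} : Set D.KC)).restrictScalars D.KB := by
  rw [IntermediateField.adjoin_le_iff]
  rintro _ rfl
  exact IntermediateField.subset_adjoin _ _ rfl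

instance finiteT' {e : ℕ} (D : CovDiag k K e) :
    Module.Finite (IntermediateField.adjoin (KB' D) ({D.t} : Set D.KC)) D.KC := by
  let _ := (IntermediateField.inclusion (adjoin_le D)).toRingHom.toAlgebra
  have : IsScalarTower (IntermediateField.adjoin D.KB ({D.t} : Set D.KC))
    ((IntermediateField.adjoin (KB' D) ({D.t} : Set D.KC)).restrictScalars D.KB) D.KC :=
    IsScalarTower.of_algebraMap_eq fun x ↦ rfl
  exact Module.Finite.of_restrictScalars_finite (IntermediateField.adjoin D.KB ({D.t} : Set D.KC))
    ((IntermediateField.adjoin (KB' D) ({D.t} : Set D.KC)).restrictScalars D.KB) D.KC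

lemma finrank_le {e : ℕ} (D : CovDiag k K e) :
    Module.finrank (IntermediateField.adjoin (KB' D) ({D.t} : Set D.KC)) D.KC ≤ e := by
  have := IntermediateField.finrank_le_of_le_left (adjoin_le D)
  rw [D.finrank_eq] at this
  exact this

/-- extend scalars of a covering diagram from `k` to `k'`. -/
noncomputable def extendDiag {e : ℕ} (D : CovDiag k K e) :
    CovDiag (algebraicClosure k K) K
      (Module.finrank (IntermediateField.adjoin (KB' D) ({D.t} : Set D.KC)) D.KC) :=
  { KC := D.KC
    KB := KB' D
    instFieldC := D.instFieldC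
    instFieldB := inferInstance
    algKC := D.algKC
    algkC := inferInstance
    towerK := inferInstance
    algkB := algk'B D
    algBC := inferInstance
    towerB := @IsScalarTower.of_algebraMap_eq _ _ _ _ _ _ (algk'B D) _ _ (fun x => rfl)
    finiteK := D.finiteK
    t := D.t
    transc := transc' D
    finiteT := finiteT' D
    finrank_eq := rfl }

lemma sInf_eq_of {S T : Set ℕ} (h1 : T ⊆ S) (h2 : ∀ e ∈ S, ∃ e' ∈ T, e' ≤ e) :
    sInf S = sInf T := by
  by_cases hS : S.Nonempty
  · have hT : T.Nonempty := by
      obtain ⟨e, he⟩ := hS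
      obtain ⟨e', he', -⟩ := h2 e he
      exact ⟨e', he'⟩
    apply le_antisymm
    · exact Nat.sInf_le (h1 (Nat.sInf_mem hT))
    · obtain ⟨e', he', hle⟩ := h2 _ (Nat.sInf_mem hS)
      exact (Nat.sInf_le he').trans hle
  · rw [Set.not_nonempty_iff_eq_empty] at hS
    have hT : T = ∅ := by
      rw [← Set.subset_empty_iff, ← hS]; exact h1
    rw [hS, hT]

theorem cvg_eq (k K : Type u) [Field k] [Field K] [Algebra k K] :
    cvg k K = cvg (algebraicClosure k K) K := by
  unfold cvg
  apply sInf_eq_of
  · rintro e ⟨D⟩
    exact ⟨restrictDiag k K D⟩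
  · rintro e ⟨D⟩
    exact ⟨_, ⟨extendDiag D⟩, finrank_le D⟩

theorem scvg_eq (k K : Type u) [Field k] [Field K] [Algebra k K] :
    scvg k K = scvg (algebraicClosure k K) K := by
  unfold scvg
  apply sInf_eq_of
  · rintro e ⟨D, hD⟩
    exact ⟨restrictDiag k K D, hD⟩
  · rintro e ⟨D, hD⟩
    exact ⟨_, ⟨extendDiag D, hD⟩, finrank_le D⟩

end Groth.Agent.Lib.Helper24.CvgConst
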