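import Mathlib
import Groth.Prelude.Def_W4c3severiratdpLat

/-! Counting and classifying conic classes in the del Pezzo lattices `DP δ`, `δ ≤ 8`, by a verified
pruned search. -/

set_option autoImplicit false

open W4c3severiratdp Finset

namespace Groth.Agent.Lib.Helper24.DPLattice

/-! ### basic reformulation -/

lemma isConic_iff {δ : ℕ} (v : DP δ) : IsConic v ↔
    ∑ i : Fin δ, v i.succ = 3 * v 0 - 2 ∧ ∑ i : Fin δ, v i.succ * v i.succ = v 0 * v 0 := by
  unfold IsConic form canon
  simp only [Fin.cases_zero, Fin.cases_succ]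
  have : ∑ i : Fin δ, (-1 : ℤ) * v i.succ = - ∑ i : Fin δ, v i.succ := by
    rw [← Finset.sum_neg_distrib]
    exact Finset.sum_congr rfl fun i _ => by ring
  rw [this]
  constructor
  · rintro ⟨h1, h2⟩
    constructor <;> linarith
  · rintro ⟨h1, h2⟩
    constructor <;> linarith

lemma cs {k : ℕ} (f : Fin k → ℤ) : (∑ i, f i) * (∑ i, f i) ≤ (k : ℤ) * ∑ i, f i * f i := by
  have h := sq_sum_le_card_mul_sum_sq (s := (Finset.univ : Finset (Fin k))) (f := f)
  simp only [Finset.card_univ, Fintype.card_fin] at h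
  have e : ∑ i, f i ^ 2 = ∑ i, f i * f i := Finset.sum_congr rfl fun i _ => by ring
  rw [e] at h
  nlinarith [h]

lemma a_bound {δ : ℕ} (hδ : δ ≤ 8) (v : DP δ) (h : IsConic v) : 1 ≤ v 0 ∧ v 0 ≤ 11 := by
  rw [isConic_iff] at h
  obtain ⟨h1, h2⟩ := h
  have hc := cs (fun i : Fin δ => v i.succ)
  rw [h1, h2] at hc
  have hδ' : (δ : ℤ) ≤ 8 := by exact_mod_cast hδ
  have hsq : 0 ≤ v 0 * v 0 := mul_self_nonneg _
  have h8 : (3 * v 0 - 2) * (3 * v 0 - 2) ≤ 8 * (v 0 * v 0) := by nlinarith
  constructor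
  · by_contra hlt
    push Not at hlt
    nlinarith
  · by_contra hlt
    push Not at hlt
    nlinarith

lemma coord_sq_le {k : ℕ} (f : Fin k → ℤ) (i : Fin k) : f i * f i ≤ ∑ j, f j * f j :=
  Finset.single_le_sum (f := fun j => f j * f j) (fun j _ => mul_self_nonneg (f j))
    (Finset.mem_univ i)

/-! ### the search box -/

/-- the candidates for a coordinate. -/
def bs : List ℤ := [-11,-10,-9,-8,-7,-6,-5,-4,-3,-2,-1,0,1,2,3,4,5,6,7,8,9,10,11]

lemma bs_nodup : bs.Nodup := by decide

lemma mem_bs (b : ℤ) : b ∈ bs ↔ -11 ≤ b ∧ b ≤ 11 := by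
  constructor
  · intro h
    simp only [bs, List.mem_cons, List.not_mem_nil, or_false] at h
    omega
  · rintro ⟨h1, h2⟩
    interval_cases b <;> simp [bs]

lemma mem_bs_of_sq_le {b q : ℤ} (h : b * b ≤ q) (hq : q ≤ 121) : b ∈ bs := by
  rw [mem_bs]
  constructor <;> nlinarith

/-! ### counting tuples with given sum and sum of squares -/

/-- the tuples of length `k` in the box with sum `s` and sum of squares `q`. -/
def T (k : ℕ) (s q : ℤ) : Finset (Fin k → ℤ) :=
  (Fintype.piFinset fun _ => bs.toFinset).filter fun f => ∑ i, f i = s ∧ ∑ i, f i * f i = q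

lemma mem_T {k : ℕ} {s q : ℤ} (hq : q ≤ 121) (f : Fin k → ℤ) :
    f ∈ T k s q ↔ ∑ i, f i = s ∧ ∑ i, f i * f i = q := by
  unfold T
  rw [Finset.mem_filter, Fintype.mem_piFinset]
  constructor
  · exact fun h => h.2
  · intro h
    refine ⟨fun i => ?_, h⟩
    rw [List.mem_toFinset]
    exact mem_bs_of_sq_le (h.2 ▸ coord_sq_le f i) hq

lemma T_eq_empty_of_cs {k : ℕ} {s q : ℤ} (h : (k : ℤ) * q < s * s) : T k s q = ∅ := by
  rw [Finset.eq_empty_iff_forall_notMem]
  intro f hf
  unfold T at hf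
  rw [Finset.mem_filter] at hf
  obtain ⟨-, h1, h2⟩ := hf
  have := cs f
  rw [h1, h2] at this
  exact absurd this (not_le.mpr h)

lemma T_eq_empty_of_neg {k : ℕ} {s q : ℤ} (h : q < 0) : T k s q = ∅ := by
  rw [Finset.eq_empty_iff_forall_notMem]
  intro f hf
  unfold T at hf
  rw [Finset.mem_filter] at hf
  obtain ⟨-, -, h2⟩ := hf
  have : 0 ≤ ∑ i, f i * f i := Finset.sum_nonneg fun i _ => mul_self_nonneg (f i)
  omega

lemma card_fiber {k : ℕ} {s q : ℤ} (hq : q ≤ 121) (b : ℤ) :
    ((T (k+1) s q).filter fun g => g 0 = b).card = (T k (s - b) (q - b * b)).card := by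
  have hq' : q - b * b ≤ 121 := by nlinarith [mul_self_nonneg b]
  refine Finset.card_nbij' (fun g => Fin.tail g) (fun f => Fin.cons b f) ?_ ?_ ?_ ?_
  · intro g hg
    rw [Finset.mem_coe, Finset.mem_filter, mem_T hq] at hg
    obtain ⟨⟨h1, h2⟩, h0⟩ := hg
    rw [Finset.mem_coe, mem_T hq']
    rw [Fin.sum_univ_succ] at h1 h2
    subst h0
    constructor
    · simp only [Fin.tail]; linarith
    · simp only [Fin.tail]; linarith
  · intro f hf
    rw [Finset.mem_coe, mem_T hq'] at hf
    obtain ⟨h1, h2⟩ := hf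
    rw [Finset.mem_coe, Finset.mem_filter, mem_T hq]
    refine ⟨⟨?_, ?_⟩, by simp⟩
    · rw [Fin.sum_univ_succ]
      simp only [Fin.cons_zero, Fin.cons_succ]
      linarith
    · rw [Fin.sum_univ_succ]
      simp only [Fin.cons_zero, Fin.cons_succ]
      linarith
  · intro g hg
    rw [Finset.mem_coe, Finset.mem_filter] at hg
    obtain ⟨-, h0⟩ := hg
    subst h0
    exact Fin.cons_self_tail g
  · intro f _
    exact Fin.tail_cons _ _

lemma card_T_succ {k : ℕ} {s q : ℤ} (hq : q ≤ 121) :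
    (T (k+1) s q).card = ∑ b ∈ bs.toFinset, (T k (s - b) (q - b * b)).card := by
  rw [Finset.card_eq_sum_card_fiberwise (f := fun g : Fin (k+1) → ℤ => g 0) (t := bs.toFinset)]
  · exact Finset.sum_congr rfl fun b _ => card_fiber hq b
  · intro g hg
    unfold T at hg
    rw [Finset.mem_coe, Finset.mem_filter, Fintype.mem_piFinset] at hg
    exact hg.1 0

/-- the pruned count. -/
def cnt : ℕ → ℤ → ℤ → ℕ
  | 0, s, q => if s = 0 ∧ q = 0 then 1 else 0
  | k+1, s, q => if ((k:ℤ)+1) * q < s * s then 0 else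
      (bs.map fun b => if b * b ≤ q then cnt k (s - b) (q - b * b) else 0).sum

theorem card_T (k : ℕ) : ∀ (s q : ℤ), q ≤ 121 → (T k s q).card = cnt k s q := by
  induction k with
  | zero =>
    intro s q hq
    unfold cnt
    split_ifs with h
    · obtain ⟨rfl, rfl⟩ := h
      have : T 0 0 0 = Finset.univ := by
        ext f
        simp only [mem_T hq, Finset.univ_eq_empty, Finset.sum_empty, and_self, Finset.mem_univ]
      rw [this]
      simp
    · have : T 0 s q = ∅ := by
        rw [Finset.eq_empty_iff_forall_notMem]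
        intro f hf
        rw [mem_T hq] at hf
        simp only [Finset.univ_eq_empty, Finset.sum_empty] at hf
        exact h ⟨hf.1.symm, hf.2.symm⟩
      rw [this]
      rfl
  | succ k ih =>
    intro s q hq
    unfold cnt
    split_ifs with h
    · rw [T_eq_empty_of_cs (by push_cast; exact h)]
      rfl
    · rw [card_T_succ hq, List.sum_toFinset _ bs_nodup]
      congr 1
      apply List.map_congr_left
      intro b _
      split_ifs with hb
      · exact ih _ _ (by nlinarith [mul_self_nonneg b])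
      · rw [T_eq_empty_of_neg (by linarith)]
        rfl

/-! ### conic classes -/

/-- the conic classes as a finset. -/
def Cf (δ : ℕ) : Finset (DP δ) :=
  (Fintype.piFinset fun _ => bs.toFinset).filter fun v =>
    ∑ i : Fin δ, v i.succ = 3 * v 0 - 2 ∧ ∑ i : Fin δ, v i.succ * v i.succ = v 0 * v 0

lemma mem_Cf {δ : ℕ} (hδ : δ ≤ 8) (v : DP δ) : v ∈ Cf δ ↔ IsConic v := by
  unfold Cf
  rw [Finset.mem_filter, Fintype.mem_piFinset, ← isConic_iff]
  constructor
  · exact fun h => h.2
  · intro h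
    refine ⟨?_, h⟩
    obtain ⟨ha1, ha2⟩ := a_bound hδ v h
    have hq : v 0 * v 0 ≤ 121 := by nlinarith
    intro i
    rw [List.mem_toFinset]
    refine Fin.cases ?_ (fun j => ?_) i
    · rw [mem_bs]; constructor <;> linarith
    · rw [isConic_iff] at h
      exact mem_bs_of_sq_le (h.2 ▸ coord_sq_le (fun j : Fin δ => v j.succ) j) hq

lemma card_Cf_fiber {δ : ℕ} (a : ℤ) (ha : a ∈ bs) :
    ((Cf δ).filter fun v => v 0 = a).card = (T δ (3 * a - 2) (a * a)).card := by
  have hq : a * a ≤ 121 := by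
    rw [mem_bs] at ha
    nlinarith
  refine Finset.card_nbij' (fun g => Fin.tail g) (fun f => Fin.cons a f) ?_ ?_ ?_ ?_
  · intro g hg
    unfold Cf at hg
    rw [Finset.mem_coe, Finset.mem_filter, Finset.mem_filter] at hg
    obtain ⟨⟨-, h1, h2⟩, h0⟩ := hg
    rw [Finset.mem_coe, mem_T hq]
    subst h0
    exact ⟨h1, h2⟩
  · intro f hf
    rw [Finset.mem_coe, mem_T hq] at hf
    obtain ⟨h1, h2⟩ := hf
    unfold Cf
    rw [Finset.mem_coe, Finset.mem_filter, Finset.mem_filter, Fintype.mem_piFinset]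
    refine ⟨⟨?_, ?_, ?_⟩, by simp⟩
    · intro i
      rw [List.mem_toFinset]
      refine Fin.cases ?_ (fun j => ?_) i
      · simpa using ha
      · simp only [Fin.cons_succ]
        exact mem_bs_of_sq_le (h2 ▸ coord_sq_le f j) hq
    · simpa using h1
    · simpa using h2
  · intro g hg
    rw [Finset.mem_coe, Finset.mem_filter] at hg
    obtain ⟨-, h0⟩ := hg
    subst h0
    exact Fin.cons_self_tail g
  · intro f _
    exact Fin.tail_cons _ _

theorem ncard_conic {δ : ℕ} (hδ : δ ≤ 8) :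
    {v : DP δ | IsConic v}.ncard = (bs.map fun a => cnt δ (3 * a - 2) (a * a)).sum := by
  have hset : {v : DP δ | IsConic v} = ↑(Cf δ) := by
    ext v
    rw [Set.mem_ofPred_eq, Finset.mem_coe, mem_Cf hδ]
  rw [hset, Set.ncard_coe_finset,
    Finset.card_eq_sum_card_fiberwise (f := fun g : DP δ => g 0) (t := bs.toFinset),
    List.sum_toFinset _ bs_nodup]
  · congr 1
    apply List.map_congr_left
    intro a ha
    rw [card_Cf_fiber a ha]
    refine card_T δ _ _ ?_
    rw [mem_bs] at ha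
    nlinarith
  · intro g hg
    unfold Cf at hg
    rw [Finset.mem_coe, Finset.mem_filter, Fintype.mem_piFinset] at hg
    exact hg.1 0

/-! ### sorted enumeration -/

lemma list_sq_aux (x : ℤ) (l : List ℤ) :
    (l.map fun y => (x - y) * (x - y)).sum =
      (l.length : ℤ) * (x * x) - 2 * x * l.sum + (l.map fun y => y * y).sum := by
  induction l with
  | nil => simp
  | cons y l ih =>
    simp only [List.map_cons, List.sum_cons, List.length_cons, ih]
    push_cast
    ring

lemma list_cs (l : List ℤ) :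
    l.sum * l.sum ≤ (l.length : ℤ) * (l.map fun y => y * y).sum := by
  induction l with
  | nil => simp
  | cons x l ih =>
    have h1 := list_sq_aux x l
    have h2 : 0 ≤ (l.map fun y => (x - y) * (x - y)).sum :=
      List.sum_nonneg (by
        intro z hz
        rw [List.mem_map] at hz
        obtain ⟨y, -, rfl⟩ := hz
        exact mul_self_nonneg _)
    simp only [List.map_cons, List.sum_cons, List.length_cons]
    push_cast
    nlinarith

lemma list_sq_nonneg (l : List ℤ) : 0 ≤ (l.map fun y => y * y).sum :=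
  List.sum_nonneg (by
    intro z hz
    rw [List.mem_map] at hz
    obtain ⟨y, -, rfl⟩ := hz
    exact mul_self_nonneg _)

/-- nonincreasing lists of length `k` with entries in the box and `≤ ub`, sum `s`, sum of squares
`q`. -/
def solsS : ℕ → ℤ → ℤ → ℤ → List (List ℤ)
  | 0, s, q, _ => if s = 0 ∧ q = 0 then [[]] else []
  | k+1, s, q, ub => if ((k:ℤ)+1) * q < s * s then [] else
      bs.flatMap fun b => if b ≤ ub ∧ b * b ≤ q then
        (solsS k (s - b) (q - b * b) b).map (fun l => b :: l) else []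

theorem mem_solsS (k : ℕ) : ∀ (s q ub : ℤ) (l : List ℤ), q ≤ 121 → l.length = k →
    l.Pairwise (fun x y => y ≤ x) → (∀ x ∈ l, x ≤ ub) → l.sum = s →
    (l.map fun x => x * x).sum = q → l ∈ solsS k s q ub := by
  induction k with
  | zero =>
    intro s q ub l _ hlen _ _ hs hq
    rw [List.length_eq_zero_iff] at hlen
    subst hlen
    simp only [List.sum_nil, List.map_nil] at hs hq
    subst hs hq
    simp [solsS]
  | succ k ih =>
    intro s q ub l hq121 hlen hpw hub hs hq
    obtain ⟨b, l', rfl⟩ : ∃ b l', l = b :: l' := by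
      cases l with
      | nil => simp at hlen
      | cons b l' => exact ⟨b, l', rfl⟩
    have hcs := list_cs (b :: l')
    rw [hs, hq, hlen] at hcs
    unfold solsS
    rw [if_neg (by push_cast at hcs; exact not_lt.mpr hcs)]
    simp only [List.map_cons, List.sum_cons, List.length_cons] at hs hq hlen
    have hnn := list_sq_nonneg l'
    have hbq : b * b ≤ q := by linarith
    rw [List.mem_flatMap]
    refine ⟨b, mem_bs_of_sq_le hbq hq121, ?_⟩
    rw [if_pos ⟨hub b (List.mem_cons_self ..), hbq⟩, List.mem_map]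
    refine ⟨l', ?_, rfl⟩
    rw [List.pairwise_cons] at hpw
    exact ih (s - b) (q - b * b) b l' (by nlinarith [mul_self_nonneg b]) (by omega) hpw.2
      (fun x hx => hpw.1 x hx) (by linarith) (by linarith)

/-- all sorted conic vectors for `δ = 8`, as lists `a :: b`. -/
def allS : List (List ℤ) :=
  bs.flatMap fun a => (solsS 8 (3 * a - 2) (a * a) 11).map (fun l => a :: l)

/-- the fifteen representatives. -/
def reps : List (DP 8) :=
  [![1, 1, 0, 0, 0, 0, 0, 0, 0],
   ![2, 1, 1, 1, 1, 0, 0, 0, 0],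
   ![3, 2, 1, 1, 1, 1, 1, 0, 0],
   ![4, 2, 2, 2, 1, 1, 1, 1, 0],
   ![4, 3, 1, 1, 1, 1, 1, 1, 1],
   ![5, 2, 2, 2, 2, 2, 2, 1, 0],
   ![5, 3, 2, 2, 2, 1, 1, 1, 1],
   ![6, 3, 3, 2, 2, 2, 2, 1, 1],
   ![7, 3, 3, 3, 3, 2, 2, 2, 1],
   ![7, 4, 3, 2, 2, 2, 2, 2, 2],
   ![8, 4, 3, 3, 3, 3, 2, 2, 2],
   ![8, 3, 3, 3, 3, 3, 3, 3, 1],
   ![9, 4, 4, 3, 3, 3, 3, 3, 2],
   ![10, 4, 4, 4, 4, 3, 3, 3, 3],
   ![11, 4, 4, 4, 4, 4, 4, 4, 3]]

set_option maxRecDepth 100000 in
lemma allS_subset : ∀ l ∈ allS, l ∈ reps.map List.ofFn := by decide +kernel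

lemma of_list_eq (v : DP 8) (σ : Equiv.Perm (Fin 8)) (t : DP 8)
    (h : List.ofFn t = v 0 :: List.ofFn (fun i => v (σ i).succ)) :
    v 0 = t 0 ∧ ∀ i : Fin 8, v (σ i).succ = t i.succ := by
  rw [List.ofFn_succ, List.cons.injEq] at h
  refine ⟨h.1.symm, fun i => ?_⟩
  have := List.ofFn_injective h.2
  exact (congrFun this i).symm

theorem exists_rep (v : DP 8) (hv : IsConic v) :
    ∃ t ∈ reps, ∃ σ : Equiv.Perm (Fin 8), v 0 = t 0 ∧ ∀ i : Fin 8, v (σ i).succ = t i.succ := by
  obtain ⟨ha1, ha2⟩ := a_bound le_rfl v hv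
  rw [isConic_iff] at hv
  obtain ⟨h1, h2⟩ := hv
  have hq : v 0 * v 0 ≤ 121 := by nlinarith
  set σ : Equiv.Perm (Fin 8) := Tuple.sort (fun i => - v i.succ) with hσ
  have hmono : Monotone ((fun i => - v i.succ) ∘ σ) := Tuple.monotone_sort _
  have hl : List.ofFn (fun i => v (σ i).succ) ∈ solsS 8 (3 * v 0 - 2) (v 0 * v 0) 11 := by
    apply mem_solsS 8 _ _ _ _ hq
    · simp
    · rw [List.pairwise_ofFn]
      intro i j hij
      have := hmono hij.le
      simp only [Function.comp_apply] at this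
      linarith
    · intro x hx
      rw [List.mem_ofFn] at hx
      obtain ⟨i, rfl⟩ := hx
      have := coord_sq_le (fun j : Fin 8 => v j.succ) (σ i)
      rw [h2] at this
      nlinarith
    · rw [List.sum_ofFn, Equiv.sum_comp σ (fun i => v i.succ), h1]
    · rw [List.map_ofFn, List.sum_ofFn]
      simp only [Function.comp_apply]
      rw [Equiv.sum_comp σ (fun i => v i.succ * v i.succ), h2]
  have hall : (v 0 :: List.ofFn (fun i => v (σ i).succ)) ∈ allS := by
    unfold allS
    rw [List.mem_flatMap]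
    refine ⟨v 0, (mem_bs _).mpr ⟨by linarith, ha2⟩, ?_⟩
    rw [List.mem_map]
    exact ⟨_, hl, rfl⟩
  have := allS_subset _ hall
  rw [List.mem_map] at this
  obtain ⟨t, ht, hteq⟩ := this
  exact ⟨t, ht, σ, of_list_eq v σ t hteq⟩

set_option maxRecDepth 100000 in
lemma reps_conic : ∀ t ∈ reps, ∑ i : Fin 8, t i.succ = 3 * t 0 - 2 ∧
    ∑ i : Fin 8, t i.succ * t i.succ = t 0 * t 0 := by decide +kernel

theorem isConic_of_rep (v : DP 8) (t : DP 8) (ht : t ∈ reps) (σ : Equiv.Perm (Fin 8))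
    (h0 : v 0 = t 0) (h : ∀ i : Fin 8, v (σ i).succ = t i.succ) : IsConic v := by
  rw [isConic_iff]
  obtain ⟨h1, h2⟩ := reps_conic t ht
  rw [← Equiv.sum_comp σ (fun i => v i.succ), ← Equiv.sum_comp σ (fun i => v i.succ * v i.succ), h0]
  simp only [h]
  exact ⟨h1, h2⟩

end Groth.Agent.Lib.Helper24.DPLattice
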