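import Mathlib
import Groth.Prelude.Def_W4c3severiratdpLat
import Groth.Agent.Lib.Helper24.DPLattice

/-! Weyl group elements of the del Pezzo lattices: reflections, permutations, and a verified
list-level calculus for orbit computations. -/

set_option autoImplicit false

open W4c3severiratdp Finset
open Groth.Agent.Lib.Helper24.DPLattice

namespace Groth.Agent.Lib.Helper24.DPWeyl

variable {δ : ℕ}

/-! ### bilinearity -/

lemma form_add_left (u v w : DP δ) : form (u + v) w = form u w + form v w := by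
  unfold form
  simp only [Pi.add_apply, add_mul, Finset.sum_add_distrib]
  ring

lemma form_smul_left (c : ℤ) (v w : DP δ) : form (c • v) w = c * form v w := by
  unfold form
  simp only [Pi.smul_apply, smul_eq_mul, mul_sub, Finset.mul_sum, mul_assoc]

lemma form_comm (v w : DP δ) : form v w = form w v := by
  unfold form
  rw [mul_comm]
  congr 1
  exact Finset.sum_congr rfl fun i _ => mul_comm _ _

lemma form_add_right (u v w : DP δ) : form u (v + w) = form u v + form u w := by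
  rw [form_comm, form_add_left, form_comm v, form_comm w]

lemma form_smul_right (c : ℤ) (v w : DP δ) : form v (c • w) = c * form v w := by
  rw [form_comm, form_smul_left, form_comm]

lemma form_sub_left (u v w : DP δ) : form (u - v) w = form u w - form v w := by
  have : u - v = u + (-1 : ℤ) • v := by
    ext i; simp [sub_eq_add_neg]
  rw [this, form_add_left, form_smul_left]
  ring

/-! ### closure properties of Weyl elements -/

lemma isWeyl_refl : IsWeyl (LinearEquiv.refl ℤ (DP δ)) :=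
  ⟨fun _ _ => rfl, rfl⟩

lemma IsWeyl.trans {g h : DP δ ≃ₗ[ℤ] DP δ} (hg : IsWeyl g) (hh : IsWeyl h) :
    IsWeyl (g.trans h) := by
  refine ⟨fun v w => ?_, ?_⟩
  · simp only [LinearEquiv.trans_apply]
    rw [hh.1, hg.1]
  · simp only [LinearEquiv.trans_apply]
    rw [hg.2, hh.2]

lemma IsWeyl.symm {g : DP δ ≃ₗ[ℤ] DP δ} (hg : IsWeyl g) : IsWeyl g.symm := by
  refine ⟨fun v w => ?_, ?_⟩
  · have := hg.1 (g.symm v) (g.symm w)
    simp only [LinearEquiv.apply_symm_apply] at this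
    exact this.symm
  · have := hg.2
    rw [← this, LinearEquiv.symm_apply_apply, this]

lemma IsWeyl.form_canon {g : DP δ ≃ₗ[ℤ] DP δ} (hg : IsWeyl g) (v : DP δ) :
    form (canon δ) (g v) = form (canon δ) v := by
  have := hg.1 (canon δ) v
  rwa [hg.2] at this

/-! ### reflections -/

/-- the reflection map `v ↦ v + (v·α) α`. -/
def reflFun (α : DP δ) : DP δ →ₗ[ℤ] DP δ where
  toFun v := v + form v α • α
  map_add' u v := by
    rw [form_add_left, add_smul]
    abel
  map_smul' c v := by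
    rw [form_smul_left, RingHom.id_apply, smul_add, smul_smul]

lemma reflFun_apply (α v : DP δ) : reflFun α v = v + form v α • α := rfl

lemma reflFun_invol {α : DP δ} (hα : form α α = -2) (v : DP δ) :
    reflFun α (reflFun α v) = v := by
  rw [reflFun_apply, reflFun_apply, form_add_left, form_smul_left, hα]
  have : form v α + form v α * -2 = - form v α := by ring
  rw [this, neg_smul]
  abel

/-- the reflection in a root, as a linear equivalence. -/
def refl (α : DP δ) (hα : form α α = -2) : DP δ ≃ₗ[ℤ] DP δ :=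
  LinearEquiv.ofInvolutive (reflFun α) (reflFun_invol hα)

lemma refl_apply (α : DP δ) (hα : form α α = -2) (v : DP δ) :
    refl α hα v = v + form v α • α := rfl

lemma refl_isWeyl (α : DP δ) (hα : form α α = -2) (hK : form (canon δ) α = 0) :
    IsWeyl (refl α hα) := by
  refine ⟨fun v w => ?_, ?_⟩
  · rw [refl_apply, refl_apply, form_add_left, form_add_right, form_add_right,
      form_smul_left, form_smul_left, form_smul_right, form_smul_right, hα, form_comm α w]
    ring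
  · rw [refl_apply, hK, zero_smul, add_zero]

/-! ### permutations -/

/-- permutation of the exceptional coordinates. -/
def permFun (σ : Equiv.Perm (Fin δ)) : DP δ →ₗ[ℤ] DP δ where
  toFun v := Fin.cases (v 0) (fun i => v (σ i).succ)
  map_add' u v := by
    ext i
    refine Fin.cases ?_ (fun j => ?_) i <;> simp
  map_smul' c v := by
    ext i
    refine Fin.cases ?_ (fun j => ?_) i <;> simp

@[simp] lemma permFun_zero (σ : Equiv.Perm (Fin δ)) (v : DP δ) : permFun σ v 0 = v 0 := rfl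

@[simp] lemma permFun_succ (σ : Equiv.Perm (Fin δ)) (v : DP δ) (i : Fin δ) :
    permFun σ v i.succ = v (σ i).succ := rfl

/-- permutation as a linear equivalence. -/
def permW (σ : Equiv.Perm (Fin δ)) : DP δ ≃ₗ[ℤ] DP δ :=
  LinearEquiv.ofLinearMap (permFun σ) (permFun σ⁻¹)
    (by
      ext v i
      refine Fin.cases ?_ (fun j => ?_) i <;> simp)
    (by
      ext v i
      refine Fin.cases ?_ (fun j => ?_) i <;> simp)

@[simp] lemma permW_zero (σ : Equiv.Perm (Fin δ)) (v : DP δ) : permW σ v 0 = v 0 := rfl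

@[simp] lemma permW_succ (σ : Equiv.Perm (Fin δ)) (v : DP δ) (i : Fin δ) :
    permW σ v i.succ = v (σ i).succ := rfl

lemma permW_isWeyl (σ : Equiv.Perm (Fin δ)) : IsWeyl (permW σ) := by
  refine ⟨fun v w => ?_, ?_⟩
  · unfold form
    simp only [permW_zero, permW_succ]
    rw [Equiv.sum_comp σ (fun i => v i.succ * w i.succ)]
  · ext i
    refine Fin.cases ?_ (fun j => ?_) i
    · rfl
    · simp [canon]

/-! ### the list-level calculus -/

/-- the form on lists. -/
def formL : List ℤ → List ℤ → ℤ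
  | a :: l, a' :: l' => a * a' - (List.zipWith (fun x y => x * y) l l').sum
  | _, _ => 0

lemma zipWith_ofFn {n : ℕ} (f : ℤ → ℤ → ℤ) (u v : Fin n → ℤ) :
    List.zipWith f (List.ofFn u) (List.ofFn v) = List.ofFn (fun i => f (u i) (v i)) := by
  apply List.ext_getElem
  · simp
  · intro i h1 h2
    simp

lemma formL_ofFn (v w : DP δ) : formL (List.ofFn v) (List.ofFn w) = form v w := by
  rw [List.ofFn_succ, List.ofFn_succ (f := w)]
  simp only [formL]
  rw [zipWith_ofFn, List.sum_ofFn]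
  rfl

/-- the canonical class as a list. -/
def canonL (δ : ℕ) : List ℤ := -3 :: List.replicate δ (-1)

lemma canonL_eq : canonL δ = List.ofFn (canon δ) := by
  rw [List.ofFn_succ]
  simp [canon, canonL, List.ofFn_const]

/-- reflection on lists. -/
def reflL (α l : List ℤ) : List ℤ := List.zipWith (fun x y => x + formL l α * y) l α

lemma reflL_ofFn (α v : DP δ) :
    reflL (List.ofFn α) (List.ofFn v) = List.ofFn (reflFun α v) := by
  unfold reflL
  rw [formL_ofFn, zipWith_ofFn]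
  rfl

/-- one verified step: reflect if the list is a root, else do nothing. -/
def stepL (δ : ℕ) (α l : List ℤ) : List ℤ :=
  if α.length = δ + 1 ∧ formL α α = -2 ∧ formL (canonL δ) α = 0 then reflL α l else l

theorem exists_weyl_step (αl : List ℤ) : ∃ g : DP δ ≃ₗ[ℤ] DP δ, IsWeyl g ∧
    ∀ v : DP δ, List.ofFn (g v) = stepL δ αl (List.ofFn v) := by
  by_cases h : αl.length = δ + 1 ∧ formL αl αl = -2 ∧ formL (canonL δ) αl = 0
  · obtain ⟨hlen, h1, h2⟩ := h
    obtain ⟨α, rfl⟩ : ∃ α : DP δ, List.ofFn α = αl := by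
      refine ⟨fun i => αl[i.1]'(by rw [hlen]; exact i.2), ?_⟩
      apply List.ext_getElem
      · simp [hlen]
      · intro i h1 h2
        rw [List.getElem_ofFn]
    have h1' : form α α = -2 := by rw [← formL_ofFn]; exact h1
    have h2' : form (canon δ) α = 0 := by rw [← formL_ofFn, ← canonL_eq]; exact h2
    refine ⟨refl α h1', refl_isWeyl α h1' h2', fun v => ?_⟩
    rw [stepL, if_pos ⟨hlen, h1, h2⟩, reflL_ofFn]
    rfl
  · refine ⟨LinearEquiv.refl _ _, isWeyl_refl, fun v => ?_⟩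
    rw [stepL, if_neg h]
    rfl

/-- apply a word of candidate roots. -/
def applyWL (δ : ℕ) (w : List (List ℤ)) (l : List ℤ) : List ℤ :=
  w.foldl (fun l α => stepL δ α l) l

theorem exists_weyl_word (w : List (List ℤ)) : ∃ g : DP δ ≃ₗ[ℤ] DP δ, IsWeyl g ∧
    ∀ v : DP δ, List.ofFn (g v) = applyWL δ w (List.ofFn v) := by
  induction w with
  | nil => exact ⟨LinearEquiv.refl _ _, isWeyl_refl, fun v => rfl⟩
  | cons α w ih =>
    obtain ⟨g1, hg1, h1⟩ := exists_weyl_step (δ := δ) α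
    obtain ⟨g2, hg2, h2⟩ := ih
    refine ⟨g1.trans g2, IsWeyl.trans hg1 hg2, fun v => ?_⟩
    rw [LinearEquiv.trans_apply, h2, h1]
    rfl

/-- permutations on lists. -/
lemma ofFn_permW (σ : Equiv.Perm (Fin δ)) (v : DP δ) :
    List.ofFn (permW σ v) = v 0 :: List.ofFn (fun i => v (σ i).succ) := by
  rw [List.ofFn_succ]
  rfl

/-! ### typed vectors and their enumerations -/

lemma type_iff (v : DP δ) (qq kk : ℤ) : (form v v = qq ∧ form (canon δ) v = kk) ↔
    (∑ i : Fin δ, v i.succ = 3 * v 0 + kk ∧ ∑ i : Fin δ, v i.succ * v i.succ = v 0 * v 0 - qq) := by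
  unfold form canon
  simp only [Fin.cases_zero, Fin.cases_succ]
  have : ∑ i : Fin δ, (-1 : ℤ) * v i.succ = - ∑ i : Fin δ, v i.succ := by
    rw [← Finset.sum_neg_distrib]
    exact Finset.sum_congr rfl fun i _ => by ring
  rw [this]
  constructor
  · rintro ⟨h1, h2⟩
    constructor <;> linarith
  · rintro ⟨h1, h2⟩
    constructor <;> linarith

/-- sorted enumeration of typed vectors. -/
def allS (δ : ℕ) (qq kk : ℤ) : List (List ℤ) :=
  bs.flatMap fun a => (solsS δ (3 * a + kk) (a * a - qq) 11).map (fun l => a :: l)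

/-- semi-sorted enumeration: first exceptional coordinate free, the others sorted. -/
def allSS (δ' : ℕ) (qq kk : ℤ) : List (List ℤ) :=
  bs.flatMap fun a => bs.flatMap fun b =>
    (solsS δ' (3 * a + kk - b) (a * a - qq - b * b) 11).map (fun l => a :: b :: l)

lemma sorted_mem_solsS {n : ℕ} (f : Fin n → ℤ) (s q : ℤ) (hq : q ≤ 121)
    (h1 : ∑ i, f i = s) (h2 : ∑ i, f i * f i = q) :
    ∃ τ : Equiv.Perm (Fin n), List.ofFn (fun i => f (τ i)) ∈ solsS n s q 11 := by
  set τ : Equiv.Perm (Fin n) := Tuple.sort (fun i => - f i) with hτ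
  have hmono : Monotone ((fun i => - f i) ∘ τ) := Tuple.monotone_sort _
  refine ⟨τ, ?_⟩
  apply mem_solsS n _ _ _ _ hq
  · simp
  · rw [List.pairwise_ofFn]
    intro i j hij
    have := hmono hij.le
    simp only [Function.comp_apply] at this
    linarith
  · intro x hx
    rw [List.mem_ofFn] at hx
    obtain ⟨i, rfl⟩ := hx
    have := coord_sq_le f (τ i)
    rw [h2] at this
    nlinarith
  · rw [List.sum_ofFn, Equiv.sum_comp τ f, h1]
  · rw [List.map_ofFn, List.sum_ofFn]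
    simp only [Function.comp_apply]
    rw [Equiv.sum_comp τ (fun i => f i * f i), h2]

theorem sort_mem_allS (v : DP δ) (qq kk : ℤ) (hv : form v v = qq ∧ form (canon δ) v = kk)
    (ha : v 0 ∈ bs) (hq : v 0 * v 0 - qq ≤ 121) :
    ∃ σ : Equiv.Perm (Fin δ), List.ofFn (permW σ v) ∈ allS δ qq kk := by
  rw [type_iff] at hv
  obtain ⟨σ, hσ⟩ := sorted_mem_solsS (fun i : Fin δ => v i.succ) _ _ hq hv.1 hv.2
  refine ⟨σ, ?_⟩
  rw [ofFn_permW]
  unfold allS
  rw [List.mem_flatMap]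
  refine ⟨v 0, ha, ?_⟩
  rw [List.mem_map]
  exact ⟨_, hσ, rfl⟩

/-- the permutation of `Fin (δ'+1)` fixing `0` and acting by `τ` on the rest. -/
def tailPerm {δ' : ℕ} (τ : Equiv.Perm (Fin δ')) : Equiv.Perm (Fin (δ' + 1)) :=
  Equiv.Perm.decomposeFin.symm (0, τ)

@[simp] lemma tailPerm_zero {δ' : ℕ} (τ : Equiv.Perm (Fin δ')) : tailPerm τ 0 = 0 := by
  simp [tailPerm]

@[simp] lemma tailPerm_succ {δ' : ℕ} (τ : Equiv.Perm (Fin δ')) (j : Fin δ') :
    tailPerm τ j.succ = (τ j).succ := by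
  simp [tailPerm]

lemma ofFn_permW_tailPerm {δ' : ℕ} (τ : Equiv.Perm (Fin δ')) (v : DP (δ' + 1)) :
    List.ofFn (permW (tailPerm τ) v) =
      v 0 :: v 1 :: List.ofFn (fun j : Fin δ' => v (τ j).succ.succ) := by
  rw [ofFn_permW, List.ofFn_succ]
  simp only [tailPerm_zero, tailPerm_succ]
  rfl

/-- a vector whose coordinates from the second exceptional one on are all equal is fixed by tail
permutations. -/
lemma permW_tailPerm_fix {δ' : ℕ} (τ : Equiv.Perm (Fin δ')) (f : DP (δ' + 1))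
    (hf : ∀ j j' : Fin δ', f j.succ.succ = f j'.succ.succ) : permW (tailPerm τ) f = f := by
  ext i
  refine Fin.cases ?_ (fun j => ?_) i
  · rfl
  · rw [permW_succ]
    refine Fin.cases ?_ (fun k => ?_) j
    · rw [tailPerm_zero]
    · rw [tailPerm_succ]
      exact hf _ _

theorem semisort_mem_allSS {δ' : ℕ} (v : DP (δ' + 1)) (qq kk : ℤ)
    (hv : form v v = qq ∧ form (canon (δ' + 1)) v = kk)
    (ha : v 0 ∈ bs) (hq : v 0 * v 0 - qq ≤ 121) :
    ∃ τ : Equiv.Perm (Fin δ'), List.ofFn (permW (tailPerm τ) v) ∈ allSS δ' qq kk := by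
  rw [type_iff] at hv
  obtain ⟨h1, h2⟩ := hv
  rw [Fin.sum_univ_succ] at h1 h2
  have hnn : 0 ≤ ∑ j : Fin δ', v j.succ.succ * v j.succ.succ :=
    Finset.sum_nonneg fun j _ => mul_self_nonneg _
  have hb : v 1 ∈ bs := by
    apply mem_bs_of_sq_le (q := v 0 * v 0 - qq) _ hq
    have : v (0 : Fin (δ' + 1)).succ = v 1 := rfl
    rw [this] at h2
    linarith
  have e1 : v (0 : Fin (δ' + 1)).succ = v 1 := rfl
  rw [e1] at h1 h2
  obtain ⟨τ, hτ⟩ := sorted_mem_solsS (fun j : Fin δ' => v j.succ.succ)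
    (3 * v 0 + kk - v 1) (v 0 * v 0 - qq - v 1 * v 1)
    (by nlinarith [mul_self_nonneg (v 1)]) (by linarith) (by linarith)
  refine ⟨τ, ?_⟩
  rw [ofFn_permW_tailPerm]
  unfold allSS
  rw [List.mem_flatMap]
  refine ⟨v 0, ha, ?_⟩
  rw [List.mem_flatMap]
  refine ⟨v 1, hb, ?_⟩
  rw [List.mem_map]
  exact ⟨_, hτ, rfl⟩

/-! ### the two reduction stages -/

lemma typed_of_isWeyl {g : DP δ ≃ₗ[ℤ] DP δ} (hg : IsWeyl g) {v : DP δ} {qq kk : ℤ}
    (hv : form v v = qq ∧ form (canon δ) v = kk) :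
    form (g v) (g v) = qq ∧ form (canon δ) (g v) = kk := by
  rw [hg.1, IsWeyl.form_canon hg]
  exact hv

/-- Stage 1: if every sorted typed vector is carried to `B` by the word computed for it, then every
typed vector is carried to `B` by a Weyl element. -/
theorem stage1 (qq kk : ℤ) (B : DP δ) (W : List ℤ → List (List ℤ))
    (hcheck : ∀ l ∈ allS δ qq kk, applyWL δ (W l) l = List.ofFn B)
    (v : DP δ) (hv : form v v = qq ∧ form (canon δ) v = kk)
    (ha : v 0 ∈ bs) (hq : v 0 * v 0 - qq ≤ 121) :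
    ∃ g : DP δ ≃ₗ[ℤ] DP δ, IsWeyl g ∧ g v = B := by
  obtain ⟨σ, hσ⟩ := sort_mem_allS v qq kk hv ha hq
  obtain ⟨g2, hg2, h2⟩ := exists_weyl_word (δ := δ) (W (List.ofFn (permW σ v)))
  refine ⟨(permW σ).trans g2, IsWeyl.trans (permW_isWeyl σ) hg2, ?_⟩
  rw [LinearEquiv.trans_apply]
  apply List.ofFn_injective
  rw [h2, hcheck _ hσ]

/-- Stage 2: the same for the stabilizer of a base vector `B` whose exceptional coordinates from the
second on are equal; the result is one of the representatives `R m`, `m = B · v`. -/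
theorem stage2 {δ' : ℕ} (qq kk : ℤ) (B : DP (δ' + 1))
    (hB : ∀ j j' : Fin δ', B j.succ.succ = B j'.succ.succ)
    (W : List ℤ → List (List ℤ)) (R : ℤ → List (List ℤ))
    (hcheck : ∀ l ∈ allSS δ' qq kk, applyWL (δ' + 1) (W l) (List.ofFn B) = List.ofFn B ∧
      applyWL (δ' + 1) (W l) l ∈ R (formL (List.ofFn B) l))
    (v : DP (δ' + 1)) (hv : form v v = qq ∧ form (canon (δ' + 1)) v = kk)
    (ha : v 0 ∈ bs) (hq : v 0 * v 0 - qq ≤ 121) :
    ∃ g : DP (δ' + 1) ≃ₗ[ℤ] DP (δ' + 1), IsWeyl g ∧ g B = B ∧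
      List.ofFn (g v) ∈ R (form B v) := by
  obtain ⟨τ, hτ⟩ := semisort_mem_allSS v qq kk hv ha hq
  have hpB := permW_tailPerm_fix τ B hB
  have hpW := permW_isWeyl (tailPerm τ)
  obtain ⟨g2, hg2, h2⟩ :=
    exists_weyl_word (δ := δ' + 1) (W (List.ofFn (permW (tailPerm τ) v)))
  obtain ⟨c1, c2⟩ := hcheck _ hτ
  refine ⟨(permW (tailPerm τ)).trans g2, IsWeyl.trans hpW hg2, ?_, ?_⟩
  · rw [LinearEquiv.trans_apply, hpB]
    apply List.ofFn_injective
    rw [h2, c1]
  · rw [LinearEquiv.trans_apply, h2]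
    rw [formL_ofFn] at c2
    have : form B (permW (tailPerm τ) v) = form B v := by
      conv_lhs => rw [← hpB]
      exact hpW.1 B v
    rw [this] at c2
    exact c2

/-! ### word finders (unverified code; only their outputs are checked) -/

/-- index `≥ lo`, not in `excl`, of the first maximal entry. -/
def argmax (l : List ℤ) (excl : List ℕ) (lo : ℕ) : ℕ :=
  ((l.zipIdx.foldl (fun (best : Option (ℤ × ℕ)) (p : ℤ × ℕ) =>
    if p.2 < lo ∨ p.2 ∈ excl then best else
      match best with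
      | none => some p
      | some q => if p.1 > q.1 then some p else best) none).map Prod.snd).getD 0

/-- the root `ℓ - e_i - e_j - e_k` as a list of length `n`. -/
def rootCL (n i j k : ℕ) : List ℤ :=
  (List.range n).map fun t => if t = 0 ∨ t = i ∨ t = j ∨ t = k then 1 else 0

/-- the root `e_j - e_i` as a list of length `n`. -/
def rootTL (n i j : ℕ) : List ℤ :=
  (List.range n).map fun t => if t = i then 1 else if t = j then -1 else 0

/-- reduce a conic class to `(1; 1, 0, …, 0)`. -/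
def word1 (n : ℕ) : ℕ → List ℤ → List (List ℤ)
  | 0, _ => []
  | fuel+1, l =>
    if l.headD 0 > 1 then
      let i := argmax l [] 1
      let j := argmax l [i] 1
      let k := argmax l [i, j] 1
      let α := rootCL n i j k
      α :: word1 n fuel (reflL α l)
    else
      let i := argmax l [] 1
      if i = 1 then [] else [rootTL n 1 i]

/-- sort the coordinates from position `p` on, decreasingly. -/
def sortWord (n : ℕ) : ℕ → ℕ → List ℤ → List (List ℤ)
  | 0, _, _ => []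
  | fuel+1, p, l =>
    if p + 1 ≥ n then [] else
      let m := argmax l [] p
      if l.getD m 0 = l.getD p 0 then sortWord n fuel (p+1) l
      else
        let α := rootTL n p m
        α :: sortWord n fuel (p+1) (reflL α l)

/-- reduce a conic class under the stabilizer of `(1; 1, 0, …, 0)`. -/
def word2 (n : ℕ) : ℕ → List ℤ → List (List ℤ)
  | 0, _ => []
  | fuel+1, l =>
    let j := argmax l [] 2
    let k := argmax l [j] 2
    if n ≥ 4 ∧ l.getD 0 0 - l.getD 1 0 - l.getD j 0 - l.getD k 0 < 0 then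
      let α := rootCL n 1 j k
      α :: word2 n fuel (reflL α l)
    else sortWord n 10 2 l

/-- reduce an exceptional class to `(0; -1, 0, …, 0)`. -/
def wordE1 (n : ℕ) : ℕ → List ℤ → List (List ℤ)
  | 0, _ => []
  | fuel+1, l =>
    if l.headD 0 > 0 then
      let i := argmax l [] 1
      let j := argmax l [i] 1
      let k := argmax l [i, j] 1
      let α := rootCL n i j k
      α :: wordE1 n fuel (reflL α l)
    else
      let i := argmax (l.map fun x => -x) [] 1
      if i = 1 then [] else [rootTL n 1 i]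

/-- reduce an exceptional class under the stabilizer of `(0; -1, 0, …, 0)`. -/
def wordE2 (n : ℕ) : ℕ → List ℤ → List (List ℤ)
  | 0, _ => []
  | fuel+1, l =>
    let i := argmax l [] 2
    let j := argmax l [i] 2
    let k := argmax l [i, j] 2
    if n ≥ 5 ∧ l.getD 0 0 - l.getD i 0 - l.getD j 0 - l.getD k 0 < 0 then
      let α := rootCL n i j k
      α :: wordE2 n fuel (reflL α l)
    else sortWord n 10 2 l

/-! ### conic classes -/

/-- the base conic class `(1; 1, 0, …, 0)`. -/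
def Q0 (δ : ℕ) : DP δ := fun i => if i.1 ≤ 1 then 1 else 0

lemma Q0_tail {δ' : ℕ} (j j' : Fin δ') : Q0 (δ' + 1) j.succ.succ = Q0 (δ' + 1) j'.succ.succ := by
  simp [Q0]

/-- representatives of conic classes by their product with `Q0` (to be padded by zeros). -/
def repBase (m : ℤ) : List ℤ :=
  if m = 0 then [1,1] else if m = 1 then [1,0,1] else if m = 2 then [2,0,1,1,1,1]
  else if m = 3 then [3,0,2,1,1,1,1,1] else if m = 4 then [5,1,2,2,2,2,2,2]
  else if m = 5 then [5,0,2,2,2,2,2,2,1] else if m = 6 then [7,1,3,3,3,3,2,2,2]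
  else if m = 7 then [8,1,3,3,3,3,3,3,3] else if m = 8 then [11,3,4,4,4,4,4,4,4] else []

/-- pad by zeros. -/
def pad (n : ℕ) (l : List ℤ) : List ℤ := l ++ List.replicate (n - l.length) 0

/-- the representatives of the orbits of the stabilizer of `Q0` on conic classes with `Q0 · Q = m`. -/
def repsL (δ : ℕ) (m : ℤ) : List (List ℤ) :=
  if δ = 8 ∧ m = 4 then [[4,0,2,2,2,1,1,1,1], [5,1,2,2,2,2,2,2,0]] else [pad (δ+1) (repBase m)]

/-- the stage 1 check for conic classes. -/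
def CheckC1 (δ : ℕ) : Prop :=
  ∀ l ∈ allS δ 0 (-2), applyWL δ (word1 (δ+1) 20 l) l = List.ofFn (Q0 δ)

instance (δ : ℕ) : Decidable (CheckC1 δ) := by unfold CheckC1; infer_instance

/-- the stage 2 check for conic classes. -/
def CheckC2 (δ' : ℕ) : Prop :=
  ∀ l ∈ allSS δ' 0 (-2),
    applyWL (δ' + 1) (word2 (δ'+2) 20 l) (List.ofFn (Q0 (δ' + 1))) = List.ofFn (Q0 (δ' + 1)) ∧
    applyWL (δ' + 1) (word2 (δ'+2) 20 l) l ∈ repsL (δ' + 1) (formL (List.ofFn (Q0 (δ' + 1))) l)

instance (δ' : ℕ) : Decidable (CheckC2 δ') := by unfold CheckC2; infer_instance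

lemma conic_typed {v : DP δ} (h : IsConic v) : form v v = 0 ∧ form (canon δ) v = -2 := h

lemma conic_bounds (hδ : δ ≤ 8) {v : DP δ} (h : IsConic v) :
    v 0 ∈ bs ∧ v 0 * v 0 - 0 ≤ 121 := by
  obtain ⟨h1, h2⟩ := a_bound hδ v h
  refine ⟨(mem_bs _).mpr ⟨by linarith, h2⟩, by nlinarith⟩

lemma isConic_of_isWeyl {g : DP δ ≃ₗ[ℤ] DP δ} (hg : IsWeyl g) {v : DP δ} (h : IsConic v) :
    IsConic (g v) := typed_of_isWeyl hg h

/-- every conic class is Weyl-conjugate to `Q0`. -/
theorem conic_to_Q0 (hδ : δ ≤ 8) (c1 : CheckC1 δ) (v : DP δ) (hv : IsConic v) :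
    ∃ g : DP δ ≃ₗ[ℤ] DP δ, IsWeyl g ∧ g v = Q0 δ :=
  stage1 0 (-2) (Q0 δ) (word1 (δ+1) 20) c1 v hv (conic_bounds hδ hv).1 (conic_bounds hδ hv).2

/-- every conic class is conjugate under the stabilizer of `Q0` to a representative. -/
theorem conic_to_rep {δ' : ℕ} (hδ : δ' + 1 ≤ 8) (c2 : CheckC2 δ') (v : DP (δ' + 1))
    (hv : IsConic v) :
    ∃ g : DP (δ' + 1) ≃ₗ[ℤ] DP (δ' + 1), IsWeyl g ∧ g (Q0 (δ' + 1)) = Q0 (δ' + 1) ∧
      List.ofFn (g v) ∈ repsL (δ' + 1) (form (Q0 (δ' + 1)) v) :=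
  stage2 0 (-2) (Q0 (δ' + 1)) Q0_tail (word2 (δ'+2) 20) (repsL (δ' + 1)) c2 v hv
    (conic_bounds hδ hv).1 (conic_bounds hδ hv).2

/-- reduction of a pair of conic classes. -/
theorem conic_pair_reduce {δ' : ℕ} (hδ : δ' + 1 ≤ 8) (c1 : CheckC1 (δ' + 1)) (c2 : CheckC2 δ')
    (v₁ v₂ : DP (δ' + 1)) (hv₁ : IsConic v₁) (hv₂ : IsConic v₂) :
    ∃ g : DP (δ' + 1) ≃ₗ[ℤ] DP (δ' + 1), IsWeyl g ∧ g v₁ = Q0 (δ' + 1) ∧
      List.ofFn (g v₂) ∈ repsL (δ' + 1) (form v₁ v₂) := by
  obtain ⟨g1, hg1, e1⟩ := conic_to_Q0 hδ c1 v₁ hv₁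
  obtain ⟨g2, hg2, e2, e3⟩ := conic_to_rep hδ c2 (g1 v₂) (isConic_of_isWeyl hg1 hv₂)
  refine ⟨g1.trans g2, IsWeyl.trans hg1 hg2, ?_, ?_⟩
  · rw [LinearEquiv.trans_apply, e1, e2]
  · rw [LinearEquiv.trans_apply]
    rw [← e1, hg1.1] at e3
    exact e3

/-- S15907 for `δ = δ' + 1`. -/
theorem conic_pairs {δ' : ℕ} (hδ : δ' + 1 ≤ 8) (c1 : CheckC1 (δ' + 1)) (c2 : CheckC2 δ')
    (v₁ v₂ w₁ w₂ : DP (δ' + 1)) (hv₁ : IsConic v₁) (hv₂ : IsConic v₂) (hw₁ : IsConic w₁)
    (hw₂ : IsConic w₂) (heq : form v₁ v₂ = form w₁ w₂)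
    (hexc : ¬ (δ' + 1 = 8 ∧ form v₁ v₂ = 4)) :
    ∃ g : DP (δ' + 1) ≃ₗ[ℤ] DP (δ' + 1), IsWeyl g ∧ g v₁ = w₁ ∧ g v₂ = w₂ := by
  obtain ⟨g, hg, g1, g2⟩ := conic_pair_reduce hδ c1 c2 v₁ v₂ hv₁ hv₂
  obtain ⟨h, hh, h1, h2⟩ := conic_pair_reduce hδ c1 c2 w₁ w₂ hw₁ hw₂
  rw [← heq] at h2
  rw [repsL, if_neg hexc, List.mem_singleton] at g2 h2
  have e : g v₂ = h w₂ := List.ofFn_injective (g2.trans h2.symm)
  refine ⟨g.trans h.symm, IsWeyl.trans hg (IsWeyl.symm hh), ?_, ?_⟩
  · rw [LinearEquiv.trans_apply, g1, ← h1, LinearEquiv.symm_apply_apply]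
  · rw [LinearEquiv.trans_apply, e, LinearEquiv.symm_apply_apply]

/-! ### exceptional classes (`δ = 8`) -/

lemma exc_bounds (hδ : δ ≤ 8) {v : DP δ} (h : IsExc v) :
    v 0 ∈ bs ∧ v 0 * v 0 - (-1) ≤ 121 := by
  have h' : form v v = -1 ∧ form (canon δ) v = -1 := h
  rw [type_iff] at h'
  obtain ⟨h1, h2⟩ := h'
  have hc := cs (fun i : Fin δ => v i.succ)
  rw [h1, h2] at hc
  have hδ' : (δ : ℤ) ≤ 8 := by exact_mod_cast hδ
  have hsq : 0 ≤ v 0 * v 0 := mul_self_nonneg _
  have h8 : (3 * v 0 + -1) * (3 * v 0 + -1) ≤ 8 * (v 0 * v 0 - -1) := by nlinarith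
  have hlo : -1 ≤ v 0 := by
    by_contra hlt
    push Not at hlt
    nlinarith
  have hhi : v 0 ≤ 7 := by
    by_contra hlt
    push Not at hlt
    nlinarith
  refine ⟨(mem_bs _).mpr ⟨by linarith, by linarith⟩, by nlinarith⟩

lemma isExc_of_isWeyl {g : DP δ ≃ₗ[ℤ] DP δ} (hg : IsWeyl g) {v : DP δ} (h : IsExc v) :
    IsExc (g v) := typed_of_isWeyl hg h

/-- the base exceptional class `e₁ = (0; -1, 0, …, 0)`. -/
def E1 (δ : ℕ) : DP δ := fun i => if i.1 = 1 then -1 else 0

lemma E1_tail {δ' : ℕ} (j j' : Fin δ') : E1 (δ' + 1) j.succ.succ = E1 (δ' + 1) j'.succ.succ := by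
  simp [E1]

/-- representatives of the orbits of the stabilizer of `e₁` on exceptional classes, `δ = 8`. -/
def repsE (m : ℤ) : List (List ℤ) :=
  [if m = -1 then [0,-1,0,0,0,0,0,0,0] else if m = 0 then [0,0,0,0,0,0,0,0,-1]
   else if m = 1 then [1,1,1,0,0,0,0,0,0] else if m = 2 then [3,2,1,1,1,1,1,1,0]
   else [6,3,2,2,2,2,2,2,2]]

/-- the stage 1 check for exceptional classes. -/
def CheckE1 : Prop :=
  ∀ l ∈ allS 8 (-1) (-1), applyWL 8 (wordE1 9 20 l) l = List.ofFn (E1 8)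

instance : Decidable CheckE1 := by unfold CheckE1; infer_instance

/-- the stage 2 check for exceptional classes. -/
def CheckE2 : Prop :=
  ∀ l ∈ allSS 7 (-1) (-1),
    applyWL 8 (wordE2 9 20 l) (List.ofFn (E1 8)) = List.ofFn (E1 8) ∧
    applyWL 8 (wordE2 9 20 l) l ∈ repsE (formL (List.ofFn (E1 8)) l)

instance : Decidable CheckE2 := by unfold CheckE2; infer_instance

theorem exc_to_E1 (c1 : CheckE1) (v : DP 8) (hv : IsExc v) :
    ∃ g : DP 8 ≃ₗ[ℤ] DP 8, IsWeyl g ∧ g v = E1 8 :=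
  stage1 (-1) (-1) (E1 8) (wordE1 9 20) c1 v hv (exc_bounds le_rfl hv).1 (exc_bounds le_rfl hv).2

theorem exc_to_rep (c2 : CheckE2) (v : DP 8) (hv : IsExc v) :
    ∃ g : DP 8 ≃ₗ[ℤ] DP 8, IsWeyl g ∧ g (E1 8) = E1 8 ∧
      List.ofFn (g v) ∈ repsE (form (E1 8) v) :=
  stage2 (δ' := 7) (-1) (-1) (E1 8) E1_tail (wordE2 9 20) repsE c2 v hv
    (exc_bounds le_rfl hv).1 (exc_bounds le_rfl hv).2

/-- the stabilizer of `e₁` is transitive on exceptional classes with given product with `e₁`. -/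
theorem exc_stab_E1 (c2 : CheckE2) (M₁ M₂ : DP 8) (h₁ : IsExc M₁) (h₂ : IsExc M₂)
    (h : form (E1 8) M₁ = form (E1 8) M₂) :
    ∃ g : DP 8 ≃ₗ[ℤ] DP 8, IsWeyl g ∧ g (E1 8) = E1 8 ∧ g M₁ = M₂ := by
  obtain ⟨a1, ha1, e1, r1⟩ := exc_to_rep c2 M₁ h₁
  obtain ⟨a2, ha2, e2, r2⟩ := exc_to_rep c2 M₂ h₂
  rw [← h] at r2
  rw [repsE, List.mem_singleton] at r1 r2
  have e : a1 M₁ = a2 M₂ := List.ofFn_injective (r1.trans r2.symm)
  refine ⟨a1.trans a2.symm, IsWeyl.trans ha1 (IsWeyl.symm ha2), ?_, ?_⟩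
  · rw [LinearEquiv.trans_apply, e1]
    conv_lhs => rw [← e2]
    rw [LinearEquiv.symm_apply_apply]
  · rw [LinearEquiv.trans_apply, e, LinearEquiv.symm_apply_apply]

/-- S15909. -/
theorem exc_pairs (c1 : CheckE1) (c2 : CheckE2) (L L₁ L₂ : DP 8) (hL : IsExc L) (hL₁ : IsExc L₁)
    (hL₂ : IsExc L₂) (h : form L₁ L = form L₂ L) :
    ∃ g : DP 8 ≃ₗ[ℤ] DP 8, IsWeyl g ∧ g L = L ∧ g L₁ = L₂ := by
  obtain ⟨g1, hg1, e1⟩ := exc_to_E1 c1 L hL
  have hm : form (E1 8) (g1 L₁) = form (E1 8) (g1 L₂) := by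
    rw [← e1, hg1.1, hg1.1, form_comm L L₁, form_comm L L₂, h]
  obtain ⟨a, ha, a1, a2⟩ := exc_stab_E1 c2 (g1 L₁) (g1 L₂) (isExc_of_isWeyl hg1 hL₁)
    (isExc_of_isWeyl hg1 hL₂) hm
  refine ⟨(g1.trans a).trans g1.symm, IsWeyl.trans (IsWeyl.trans hg1 ha) (IsWeyl.symm hg1), ?_, ?_⟩
  · rw [LinearEquiv.trans_apply, LinearEquiv.trans_apply, e1, a1, ← e1,
      LinearEquiv.symm_apply_apply]
  · rw [LinearEquiv.trans_apply, LinearEquiv.trans_apply, a2, LinearEquiv.symm_apply_apply]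

/-! ### unsorted enumeration -/

/-- all lists of length `k` with entries in the box, sum `s` and sum of squares `q`. -/
def solsU : ℕ → ℤ → ℤ → List (List ℤ)
  | 0, s, q => if s = 0 ∧ q = 0 then [[]] else []
  | k+1, s, q => if ((k:ℤ)+1) * q < s * s then [] else
      bs.flatMap fun b => if b * b ≤ q then
        (solsU k (s - b) (q - b * b)).map (fun l => b :: l) else []

theorem mem_solsU (k : ℕ) : ∀ (s q : ℤ) (l : List ℤ), q ≤ 121 → l.length = k → l.sum = s →
    (l.map fun x => x * x).sum = q → l ∈ solsU k s q := by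
  induction k with
  | zero =>
    intro s q l _ hlen hs hq
    rw [List.length_eq_zero_iff] at hlen
    subst hlen
    simp only [List.sum_nil, List.map_nil] at hs hq
    subst hs hq
    simp [solsU]
  | succ k ih =>
    intro s q l hq121 hlen hs hq
    obtain ⟨b, l', rfl⟩ : ∃ b l', l = b :: l' := by
      cases l with
      | nil => simp at hlen
      | cons b l' => exact ⟨b, l', rfl⟩
    have hcs := list_cs (b :: l')
    rw [hs, hq, hlen] at hcs
    unfold solsU
    rw [if_neg (by push_cast at hcs; exact not_lt.mpr hcs)]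
    simp only [List.map_cons, List.sum_cons, List.length_cons] at hs hq hlen
    have hnn := list_sq_nonneg l'
    have hbq : b * b ≤ q := by linarith
    rw [List.mem_flatMap]
    refine ⟨b, mem_bs_of_sq_le hbq hq121, ?_⟩
    rw [if_pos hbq, List.mem_map]
    refine ⟨l', ?_, rfl⟩
    exact ih (s - b) (q - b * b) l' (by nlinarith [mul_self_nonneg b]) (by omega)
      (by linarith) (by linarith)

/-- all typed vectors, as lists. -/
def allU (δ : ℕ) (qq kk : ℤ) : List (List ℤ) :=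
  bs.flatMap fun a => (solsU δ (3 * a + kk) (a * a - qq)).map (fun l => a :: l)

theorem mem_allU (v : DP δ) (qq kk : ℤ) (hv : form v v = qq ∧ form (canon δ) v = kk)
    (ha : v 0 ∈ bs) (hq : v 0 * v 0 - qq ≤ 121) : List.ofFn v ∈ allU δ qq kk := by
  rw [type_iff] at hv
  rw [List.ofFn_succ]
  unfold allU
  rw [List.mem_flatMap]
  refine ⟨v 0, ha, ?_⟩
  rw [List.mem_map]
  refine ⟨_, ?_, rfl⟩
  apply mem_solsU δ _ _ _ hq
  · simp
  · rw [List.sum_ofFn, hv.1]
  · rw [List.map_ofFn, List.sum_ofFn]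
    simp only [Function.comp_apply]
    rw [hv.2]

/-! ### triples of exceptional classes (`δ = 8`) -/

/-- `e₁ - 2K`. -/
def T8 : DP 8 := E1 8 - 2 • canon 8

/-- representative with product `0`. -/
def R0v : DP 8 := ![0,0,0,0,0,0,0,0,-1]

/-- representative with product `1`. -/
def R1v : DP 8 := ![1,1,1,0,0,0,0,0,0]

/-- `T8 - R1v`. -/
def S8 : DP 8 := T8 - R1v

/-- target of the last reduction. -/
def U0v : DP 8 := ![2,0,0,1,1,1,1,1,0]

/-- word finder for the last reduction. -/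
def wordD (n : ℕ) (l : List ℤ) : List (List ℤ) :=
  if l.getD 0 0 > 2 then
    let j := argmax l [] 3
    let k := argmax l [j] 3
    let α := rootCL n 2 j k
    α :: sortWord n 10 3 (reflL α l)
  else sortWord n 10 3 l

/-- the check for the last reduction. -/
def CheckD : Prop :=
  ∀ l ∈ allU 8 (-1) (-1),
    (formL (List.ofFn (E1 8)) l = 0 ∧
      formL (List.zipWith (fun x y => x - y) (List.ofFn S8) l)
        (List.zipWith (fun x y => x - y) (List.ofFn S8) l) = -1 ∧
      formL (canonL 8) (List.zipWith (fun x y => x - y) (List.ofFn S8) l) = -1) →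
    (applyWL 8 (wordD 9 l) (List.ofFn (E1 8)) = List.ofFn (E1 8) ∧
      applyWL 8 (wordD 9 l) (List.ofFn R1v) = List.ofFn R1v ∧
      applyWL 8 (wordD 9 l) l = List.ofFn U0v)

instance : Decidable CheckD := by unfold CheckD; infer_instance

theorem stageD (cD : CheckD) (u : DP 8) (hu : IsExc u) (h0 : form (E1 8) u = 0)
    (hS : IsExc (S8 - u)) :
    ∃ a : DP 8 ≃ₗ[ℤ] DP 8, IsWeyl a ∧ a (E1 8) = E1 8 ∧ a R1v = R1v ∧ a u = U0v := by
  have hmem := mem_allU u (-1) (-1) hu (exc_bounds le_rfl hu).1 (exc_bounds le_rfl hu).2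
  have hz : List.zipWith (fun x y => x - y) (List.ofFn S8) (List.ofFn u) = List.ofFn (S8 - u) := by
    rw [zipWith_ofFn]
    rfl
  obtain ⟨c1, c2, c3⟩ := cD _ hmem (by
    rw [hz, formL_ofFn, formL_ofFn, canonL_eq, formL_ofFn]
    exact ⟨h0, hS.1, hS.2⟩)
  obtain ⟨a, ha, h⟩ := exists_weyl_word (δ := 8) (wordD 9 (List.ofFn u))
  refine ⟨a, ha, ?_, ?_, ?_⟩
  · apply List.ofFn_injective
    rw [h, c1]
  · apply List.ofFn_injective
    rw [h, c2]
  · apply List.ofFn_injective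
    rw [h, c3]

end Groth.Agent.Lib.Helper24.DPWeyl
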