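import Mathlib
import Groth.Agent.Lib.Helper24.DPWeyl

/-! Orbits of the stabilizer of an exceptional class on triples of exceptional classes with sum
`L - 2K` (`δ = 8`). -/

set_option autoImplicit false

open W4c3severiratdp Finset
open Groth.Agent.Lib.Helper24.DPLattice Groth.Agent.Lib.Helper24.DPWeyl

namespace Groth.Agent.Lib.Helper24.DPTriples

/-- the four representatives for `L = e₁`. -/
def r0 : Fin 4 → Fin 3 → DP 8 :=
  ![![E1 8, E1 8, T8 - E1 8 - E1 8],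
    ![E1 8, R0v, T8 - E1 8 - R0v],
    ![E1 8, R1v, T8 - E1 8 - R1v],
    ![U0v, S8 - U0v, R1v]]

set_option maxRecDepth 100000 in
lemma r0_facts : (∀ j i, IsExc (r0 j i)) ∧ (∀ j, r0 j 0 + r0 j 1 + r0 j 2 = T8) ∧
    (∀ j j', (∑ i, form (r0 j i) (E1 8) ^ 2 = ∑ i, form (r0 j' i) (E1 8) ^ 2) → j = j') ∧
    form (E1 8) T8 = 1 ∧ IsExc R0v ∧ IsExc R1v ∧ form (E1 8) R0v = 0 ∧ form (E1 8) R1v = 1 ∧
    IsExc (E1 8) := by
  unfold IsExc
  decide +kernel

lemma exc_m_range (c2 : CheckE2) (v : DP 8) (hv : IsExc v) :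
    form (E1 8) v = -1 ∨ form (E1 8) v = 0 ∨ form (E1 8) v = 1 ∨ form (E1 8) v = 2 ∨
      form (E1 8) v = 3 := by
  obtain ⟨g, hg, e1, r⟩ := exc_to_rep c2 v hv
  have hm : formL (List.ofFn (E1 8)) (List.ofFn (g v)) = form (E1 8) v := by
    rw [formL_ofFn]
    conv_lhs => rw [← e1]
    exact hg.1 _ _
  rw [repsE, List.mem_singleton] at r
  rw [r] at hm
  generalize form (E1 8) v = m at hm ⊢
  split_ifs at hm with h1 h2 h3 h4
  · exact Or.inl h1
  · exact Or.inr (Or.inl h2)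
  · exact Or.inr (Or.inr (Or.inl h3))
  · exact Or.inr (Or.inr (Or.inr (Or.inl h4)))
  · right; right; right; right
    rw [← hm]
    decide +kernel

lemma exc_eq_E1 (c2 : CheckE2) (v : DP 8) (hv : IsExc v) (h : form (E1 8) v = -1) :
    v = E1 8 := by
  obtain ⟨g, hg, e1, r⟩ := exc_to_rep c2 v hv
  rw [h, repsE, List.mem_singleton, if_pos rfl] at r
  have : List.ofFn (g v) = List.ofFn (E1 8) := by
    rw [r]
    decide +kernel
  have e := List.ofFn_injective this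
  rw [← e1] at e
  exact g.injective e

lemma map_T8 {g : DP 8 ≃ₗ[ℤ] DP 8} (hg : IsWeyl g) (e1 : g (E1 8) = E1 8) : g T8 = T8 := by
  unfold T8
  rw [map_sub, map_nsmul, e1, hg.2]

/-- every triple of exceptional classes with sum `e₁ - 2K` is carried to one of the four
representatives by an element of the stabilizer of `e₁` and a reordering. -/
theorem triple_reduce (c2 : CheckE2) (cD : CheckD) (t : Fin 3 → DP 8) (ht : ∀ i, IsExc (t i))
    (hsum : t 0 + t 1 + t 2 = T8) :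
    ∃ j, ∃ g : DP 8 ≃ₗ[ℤ] DP 8, IsWeyl g ∧ g (E1 8) = E1 8 ∧
      ∃ σ : Equiv.Perm (Fin 3), ∀ i, g (t (σ i)) = r0 j i := by
  obtain ⟨-, -, -, fT, fR0, fR1, fmR0, fmR1, fE1⟩ := r0_facts
  set m : Fin 3 → ℤ := fun i => form (E1 8) (t i) with hm
  set σ : Equiv.Perm (Fin 3) := Tuple.sort m with hσ
  have hmono : Monotone (m ∘ σ) := Tuple.monotone_sort m
  have hs : ∀ i, IsExc (t (σ i)) := fun i => ht _
  have hsum' : t (σ 0) + t (σ 1) + t (σ 2) = T8 := by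
    rw [← hsum, ← Fin.sum_univ_three (fun i => t (σ i)), ← Fin.sum_univ_three t,
      Equiv.sum_comp σ t]
  have h01 : form (E1 8) (t (σ 0)) ≤ form (E1 8) (t (σ 1)) := hmono (by decide : (0 : Fin 3) ≤ 1)
  have h12 : form (E1 8) (t (σ 1)) ≤ form (E1 8) (t (σ 2)) := hmono (by decide : (1 : Fin 3) ≤ 2)
  have hmsum : form (E1 8) (t (σ 0)) + form (E1 8) (t (σ 1)) + form (E1 8) (t (σ 2)) = 1 := by
    rw [← form_add_right, ← form_add_right, hsum', fT]
  have hr0 := exc_m_range c2 _ (hs 0)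
  have hr2 := exc_m_range c2 _ (hs 2)
  have h2eq : t (σ 2) = T8 - t (σ 0) - t (σ 1) := by
    rw [← hsum']; abel
  have hcases : (form (E1 8) (t (σ 0)) = -1 ∧ form (E1 8) (t (σ 1)) = -1) ∨
      (form (E1 8) (t (σ 0)) = -1 ∧ form (E1 8) (t (σ 1)) = 0) ∨
      (form (E1 8) (t (σ 0)) = -1 ∧ form (E1 8) (t (σ 1)) = 1) ∨
      (form (E1 8) (t (σ 0)) = 0 ∧ form (E1 8) (t (σ 1)) = 0 ∧ form (E1 8) (t (σ 2)) = 1) := by
    omega
  rcases hcases with ⟨a0, a1⟩ | ⟨a0, a1⟩ | ⟨a0, a1⟩ | ⟨a0, a1, a2⟩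
  · -- (-1,-1,3)
    have e0 := exc_eq_E1 c2 _ (hs 0) a0
    have e1 := exc_eq_E1 c2 _ (hs 1) a1
    refine ⟨0, LinearEquiv.refl _ _, isWeyl_refl, rfl, σ, ?_⟩
    intro i
    fin_cases i
    · exact e0
    · exact e1
    · show t (σ 2) = T8 - E1 8 - E1 8
      rw [h2eq, e0, e1]
  · -- (-1,0,2)
    have e0 := exc_eq_E1 c2 _ (hs 0) a0
    obtain ⟨g, hg, g1, g2⟩ := exc_stab_E1 c2 (t (σ 1)) R0v (hs 1) fR0 (by rw [a1, fmR0])
    refine ⟨1, g, hg, g1, σ, ?_⟩
    intro i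
    fin_cases i
    · show g (t (σ 0)) = E1 8
      rw [e0, g1]
    · exact g2
    · show g (t (σ 2)) = T8 - E1 8 - R0v
      rw [h2eq, map_sub, map_sub, map_T8 hg g1, e0, g1, g2]
  · -- (-1,1,1)
    have e0 := exc_eq_E1 c2 _ (hs 0) a0
    obtain ⟨g, hg, g1, g2⟩ := exc_stab_E1 c2 (t (σ 1)) R1v (hs 1) fR1 (by rw [a1, fmR1])
    refine ⟨2, g, hg, g1, σ, ?_⟩
    intro i
    fin_cases i
    · show g (t (σ 0)) = E1 8
      rw [e0, g1]
    · exact g2
    · show g (t (σ 2)) = T8 - E1 8 - R1v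
      rw [h2eq, map_sub, map_sub, map_T8 hg g1, e0, g1, g2]
  · -- (0,0,1)
    obtain ⟨g, hg, g1, g2⟩ := exc_stab_E1 c2 (t (σ 2)) R1v (hs 2) fR1 (by rw [a2, fmR1])
    have hu0 : IsExc (g (t (σ 0))) := isExc_of_isWeyl hg (hs 0)
    have hm0 : form (E1 8) (g (t (σ 0))) = 0 := by
      conv_lhs => rw [← g1]
      rw [hg.1, a0]
    have hsumg : g (t (σ 0)) + g (t (σ 1)) + g (t (σ 2)) = T8 := by
      rw [← map_add, ← map_add, hsum', map_T8 hg g1]
    have hu1 : g (t (σ 1)) = S8 - g (t (σ 0)) := by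
      unfold S8
      rw [← hsumg, g2]; abel
    have hS : IsExc (S8 - g (t (σ 0))) := by
      rw [← hu1]
      exact isExc_of_isWeyl hg (hs 1)
    obtain ⟨a, ha, b1, b2, b3⟩ := stageD cD _ hu0 hm0 hS
    have haS : a S8 = S8 := by
      unfold S8
      rw [map_sub, map_T8 ha b1, b2]
    refine ⟨3, g.trans a, IsWeyl.trans hg ha, ?_, σ, ?_⟩
    · rw [LinearEquiv.trans_apply, g1, b1]
    · intro i
      fin_cases i
      · show (g.trans a) (t (σ 0)) = U0v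
        rw [LinearEquiv.trans_apply, b3]
      · show (g.trans a) (t (σ 1)) = S8 - U0v
        rw [LinearEquiv.trans_apply, hu1, map_sub, haS, b3]
      · show (g.trans a) (t (σ 2)) = R1v
        rw [LinearEquiv.trans_apply, g2, b2]

/-- S15910. -/
theorem triples (c1 : CheckE1) (c2 : CheckE2) (cD : CheckD) (L : DP 8) (hL : IsExc L) :
    ∃ r : Fin 4 → (Fin 3 → DP 8),
      (∀ j, (∀ i, IsExc (r j i)) ∧ r j 0 + r j 1 + r j 2 = L - 2 • canon 8) ∧
      (∀ j j', (∃ g : DP 8 ≃ₗ[ℤ] DP 8, IsWeyl g ∧ g L = L ∧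
        ∃ σ : Equiv.Perm (Fin 3), ∀ i, g (r j (σ i)) = r j' i) → j = j') ∧
      ∀ t : Fin 3 → DP 8, (∀ i, IsExc (t i)) → t 0 + t 1 + t 2 = L - 2 • canon 8 →
        ∃ j, ∃ g : DP 8 ≃ₗ[ℤ] DP 8, IsWeyl g ∧ g L = L ∧
          ∃ σ : Equiv.Perm (Fin 3), ∀ i, g (t (σ i)) = r j i := by
  obtain ⟨fexc, fsum, finv, -⟩ := r0_facts
  obtain ⟨h, hh, hL1⟩ := exc_to_E1 c1 L hL
  have hhs := IsWeyl.symm hh
  have hsL : h.symm (E1 8) = L := by rw [← hL1, LinearEquiv.symm_apply_apply]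
  have hT : h (L - 2 • canon 8) = T8 := by
    unfold T8
    rw [map_sub, map_nsmul, hL1, hh.2]
  have hsT : h.symm T8 = L - 2 • canon 8 := by rw [← hT, LinearEquiv.symm_apply_apply]
  refine ⟨fun j i => h.symm (r0 j i), ?_, ?_, ?_⟩
  · intro j
    refine ⟨fun i => isExc_of_isWeyl hhs (fexc j i), ?_⟩
    rw [← map_add, ← map_add, fsum j, hsT]
  · rintro j j' ⟨g, hg, gL, σ, hσ⟩
    apply finv
    have key : ∀ i, form (r0 j' i) (E1 8) = form (r0 j (σ i)) (E1 8) := by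
      intro i
      have e : g (h.symm (r0 j (σ i))) = h.symm (r0 j' i) := hσ i
      have e2 : form (h.symm (r0 j' i)) L = form (h.symm (r0 j (σ i))) L := by
        rw [← e]
        conv_lhs => rw [← gL]
        exact hg.1 _ _
      rw [← hsL, hhs.1, hhs.1] at e2
      exact e2
    rw [← Equiv.sum_comp σ (fun i => form (r0 j i) (E1 8) ^ 2)]
    exact Finset.sum_congr rfl fun i _ => by rw [key i]
  · intro t ht hsum
    obtain ⟨j, g, hg, g1, σ, hσ⟩ := triple_reduce c2 cD (fun i => h (t i))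
      (fun i => isExc_of_isWeyl hh (ht i)) (by
        show h (t 0) + h (t 1) + h (t 2) = T8
        rw [← map_add, ← map_add, hsum, hT])
    refine ⟨j, (h.trans g).trans h.symm, IsWeyl.trans (IsWeyl.trans hh hg) hhs, ?_, σ, ?_⟩
    · rw [LinearEquiv.trans_apply, LinearEquiv.trans_apply, hL1, g1, hsL]
    · intro i
      rw [LinearEquiv.trans_apply, LinearEquiv.trans_apply]
      have e : g (h (t (σ i))) = r0 j i := hσ i
      rw [e]

end Groth.Agent.Lib.Helper24.DPTriples
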