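import Mathlib
import Groth.Agent.Lib.Helper18.DRNoeth
import Groth.Agent.Lib.Helper18.DRFin
import Groth.Agent.Lib.Helper24.CohRingA
import Groth.Agent.S6935

/-!
# Pseudo-coherence over coherent rings (Stacks 0EWZ)
-/

set_option autoImplicit false
set_option linter.style.haveILetI false
set_option linter.unusedSectionVars false
universe u
open CategoryTheory CategoryTheory.Limits CategoryTheory.Pretriangulated DerivedCategory

attribute [local instance] HasDerivedCategory.standard

namespace Groth.Agent.Lib.Helper24.DRCoh

open Groth.Agent.Lib.Helper18.DR Groth.Agent.Lib.Helper24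

variable {R : Type u} [CommRing R]
  (hR : ∀ I : Ideal R, I.FG → Module.FinitePresentation R I)
include hR

lemma isPseudoCoherent_of_fp (k : ℕ) :
    ∀ (M : Type u) [AddCommGroup M] [Module R M] [Module.FinitePresentation R M],
      DRing.IsPseudoCoherent R (1 - k) (Sg 0 (ModuleCat.of R M)) := by
  induction k with
  | zero =>
    intro M _ _ _
    exact isPseudoCoherent_Sg_of_lt 0 _ (by simp) _
  | succ k ih =>
    intro M _ _ _
    obtain ⟨n, f, hf⟩ := Module.Finite.exists_fin' R M
    haveI : Module.FinitePresentation R (Fin n → R) := Module.finitePresentation_of_projective R _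
    haveI : Module.FinitePresentation R (LinearMap.ker f) := CohRing.fp_ker hR f
    have e : (1 : ℤ) - (k + 1 : ℕ) + 1 = 1 - k := by push_cast; omega
    have := isPseudoCoherent_obj₃ _ (kerSC_shortExact f hf).singleTriangle_distinguished
      (1 - (k + 1 : ℕ)) (by rw [e]; exact ih (LinearMap.ker f))
      (isPseudoCoherent_Sg 0 (ModuleCat.of R (Fin n → R)) _)
    exact this

lemma isPseudoCoherentModule_of_fp (M : Type u) [AddCommGroup M]
    [Module R M] [Module.FinitePresentation R M] (m : ℤ) : DRing.IsPseudoCoherentModule R m M :=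
  isPseudoCoherent_mono (show (1 : ℤ) - ((1 - m).toNat : ℕ) ≤ m by omega)
    (isPseudoCoherent_of_fp hR (1 - m).toNat M)

/-- cohomology of a finite free complex over a coherent ring is finitely presented -/
lemma fp_H_toD (E : DRing.Cx R) (hE : DRing.TermwiseFiniteFree E) (i : ℤ) :
    Module.FinitePresentation R ((H R i).obj (DRing.toD E)) := by
  have e := HtoDLinearEquiv' E (i - 1) i (i + 1) (by omega) rfl
  haveI := (hE i).1
  haveI := (hE i).2
  haveI := (hE (i + 1)).1
  haveI := (hE (i + 1)).2
  haveI := (hE (i - 1)).1
  haveI : Module.FinitePresentation R (E.X i) := Module.finitePresentation_of_projective R _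
  haveI : Module.FinitePresentation R (E.X (i + 1)) := Module.finitePresentation_of_projective R _
  haveI : Module.FinitePresentation R (LinearMap.ker (E.d i (i + 1)).hom) := CohRing.fp_ker hR _
  have hfg : (LinearMap.range (toCyc E (i - 1) i (i + 1))).FG := by
    rw [← Module.Finite.iff_fg]
    exact Module.Finite.range _
  haveI : Module.FinitePresentation R
      (LinearMap.ker (E.d i (i + 1)).hom ⧸ LinearMap.range (toCyc E (i - 1) i (i + 1))) :=
    Module.finitePresentation_of_surjective (Submodule.mkQ _) (Submodule.mkQ_surjective _)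
      (by rw [Submodule.ker_mkQ]; exact hfg)
  exact Module.FinitePresentation.of_equiv e.symm

theorem isPseudoCoherent_iff (K : Dual.D R)
    (hb : ∃ b : ℤ, ∀ i : ℤ, b < i → Subsingleton (Dual.HD R K i)) (m : ℤ) :
    DRing.IsPseudoCoherent R m K ↔
      Module.Finite R (Dual.HD R K m) ∧
        ∀ i : ℤ, m < i → Module.FinitePresentation R (Dual.HD R K i) := by
  constructor
  · intro h
    obtain ⟨E, a, b, α, -, hE, hiso, hepi⟩ := h
    refine ⟨?_, ?_⟩
    · haveI := fp_H_toD hR E hE m
      exact Module.Finite.of_surjective ((H R m).map α).hom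
        ((ModuleCat.epi_iff_surjective _).mp hepi)
    · intro i hi
      haveI := fp_H_toD hR E hE i
      haveI := hiso i hi
      exact Module.FinitePresentation.of_equiv (asIso ((H R i).map α)).toLinearEquiv
  · rintro ⟨hfin, hfp⟩
    refine isPseudoCoherent_of_cohomology m K hb (fun i => ?_)
    rcases lt_trichotomy i m with hi | hi | hi
    · exact isPseudoCoherent_Sg_of_lt 0 _ (by omega) _
    · subst hi
      have e : i - i = 0 := sub_self i
      rw [e]
      exact (Groth.Agent.S6935.result R _).1.2 hfin
    · haveI := hfp i hi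
      exact isPseudoCoherentModule_of_fp hR _ _

theorem isPseudoCoherent'_iff (K : Dual.D R)
    (hb : ∃ b : ℤ, ∀ i : ℤ, b < i → Subsingleton (Dual.HD R K i)) :
    DRing.IsPseudoCoherent' R K ↔ ∀ i : ℤ, Module.FinitePresentation R (Dual.HD R K i) := by
  constructor
  · intro h i
    have h1 := isPseudoCoherent_of_isPseudoCoherent' h (i - 1)
    exact ((isPseudoCoherent_iff hR K hb (i - 1)).1 h1).2 i (by omega)
  · intro h
    refine (isPseudoCoherent'_iff_forall K).1 (fun m => ?_)
    haveI := h m
    exact (isPseudoCoherent_iff hR K hb m).2 ⟨inferInstance, fun i _ => h i⟩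

end Groth.Agent.Lib.Helper24.DRCoh
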