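import Mathlib
import Groth.Prelude.Def_ArtFun4

/-!
# Gluing isomorphisms of deformations along a pushout (R6 for S12311)
-/

set_option autoImplicit false
set_option maxHeartbeats 400000
set_option linter.style.haveILetI false
set_option linter.unusedSectionVars false
set_option linter.unusedVariables false

universe u

open CategoryTheory CategoryTheory.Limits AlgebraicGeometry

namespace Groth.Agent.Lib.Helper24.DefGlueIso

open ArtFun ArtFun.Art

variable {Λ k : Type u} [CommRing Λ] [Field k] [Algebra Λ k]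

/-- If the total spaces of two deformations over `B` are the pushouts of their base changes to
`A''` and `A'` along the closed fibre, then isomorphisms of the two base changes glue to an
isomorphism of the deformations. -/
theorem iso_of_isPushout {X : Scheme.{u}} {x : X ⟶ Spec (CommRingCat.of k)} {B A' A'' : Art Λ k}
    (p' : B ⟶ A') (p'' : B ⟶ A'') (ζ₁ ζ₂ : DefSch X x B)
    (h₁ : IsPushout (ζ₁.baseChange p'').i (ζ₁.baseChange p').i
      (pullback.fst ζ₁.f (specMap p'')) (pullback.fst ζ₁.f (specMap p')))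
    (h₂ : IsPushout (ζ₂.baseChange p'').i (ζ₂.baseChange p').i
      (pullback.fst ζ₂.f (specMap p'')) (pullback.fst ζ₂.f (specMap p')))
    (e' : DefSch.Iso (ζ₁.baseChange p') (ζ₂.baseChange p'))
    (e'' : DefSch.Iso (ζ₁.baseChange p'') (ζ₂.baseChange p'')) : Nonempty (DefSch.Iso ζ₁ ζ₂) := by
  have hi'' : (ζ₁.baseChange p'').i ≫ e''.iso.hom = (ζ₂.baseChange p'').i := e''.i_hom
  have hi' : (ζ₁.baseChange p').i ≫ e'.iso.hom = (ζ₂.baseChange p').i := e'.i_hom
  have hj'' : (ζ₂.baseChange p'').i ≫ e''.iso.inv = (ζ₁.baseChange p'').i := by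
    rw [← hi'', Category.assoc, e''.iso.hom_inv_id, Category.comp_id]
  have hj' : (ζ₂.baseChange p').i ≫ e'.iso.inv = (ζ₁.baseChange p').i := by
    rw [← hi', Category.assoc, e'.iso.hom_inv_id, Category.comp_id]
  have hf'' : e''.iso.hom ≫ pullback.snd ζ₂.f (specMap p'') = pullback.snd ζ₁.f (specMap p'') :=
    e''.hom_f
  have hf' : e'.iso.hom ≫ pullback.snd ζ₂.f (specMap p') = pullback.snd ζ₁.f (specMap p') :=
    e'.hom_f
  have hw₁ : (ζ₁.baseChange p'').i ≫ (e''.iso.hom ≫ pullback.fst ζ₂.f (specMap p'')) =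
      (ζ₁.baseChange p').i ≫ (e'.iso.hom ≫ pullback.fst ζ₂.f (specMap p')) := by
    rw [← Category.assoc, hi'', ← Category.assoc, hi', DefSch.baseChange_i_fst,
      DefSch.baseChange_i_fst]
  have hw₂ : (ζ₂.baseChange p'').i ≫ (e''.iso.inv ≫ pullback.fst ζ₁.f (specMap p'')) =
      (ζ₂.baseChange p').i ≫ (e'.iso.inv ≫ pullback.fst ζ₁.f (specMap p')) := by
    rw [← Category.assoc, hj'', ← Category.assoc, hj', DefSch.baseChange_i_fst,
      DefSch.baseChange_i_fst]
  obtain ⟨φ, hφdef⟩ : ∃ φ : ζ₁.total ⟶ ζ₂.total, φ = h₁.desc _ _ hw₁ := ⟨_, rfl⟩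
  obtain ⟨ψ, hψdef⟩ : ∃ ψ : ζ₂.total ⟶ ζ₁.total, ψ = h₂.desc _ _ hw₂ := ⟨_, rfl⟩
  have hφ'' : pullback.fst ζ₁.f (specMap p'') ≫ φ =
      e''.iso.hom ≫ pullback.fst ζ₂.f (specMap p'') := by
    rw [hφdef]
    exact h₁.inl_desc _ _ _
  have hφ' : pullback.fst ζ₁.f (specMap p') ≫ φ =
      e'.iso.hom ≫ pullback.fst ζ₂.f (specMap p') := by
    rw [hφdef]
    exact h₁.inr_desc _ _ _
  have hψ'' : pullback.fst ζ₂.f (specMap p'') ≫ ψ =
      e''.iso.inv ≫ pullback.fst ζ₁.f (specMap p'') := by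
    rw [hψdef]
    exact h₂.inl_desc _ _ _
  have hψ' : pullback.fst ζ₂.f (specMap p') ≫ ψ =
      e'.iso.inv ≫ pullback.fst ζ₁.f (specMap p') := by
    rw [hψdef]
    exact h₂.inr_desc _ _ _
  have hφψ : φ ≫ ψ = 𝟙 _ := by
    apply h₁.hom_ext
    · rw [← Category.assoc, hφ'', Category.assoc, hψ'', ← Category.assoc, e''.iso.hom_inv_id,
        Category.id_comp, Category.comp_id]
    · rw [← Category.assoc, hφ', Category.assoc, hψ', ← Category.assoc, e'.iso.hom_inv_id,
        Category.id_comp, Category.comp_id]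
  have hψφ : ψ ≫ φ = 𝟙 _ := by
    apply h₂.hom_ext
    · rw [← Category.assoc, hψ'', Category.assoc, hφ'', ← Category.assoc, e''.iso.inv_hom_id,
        Category.id_comp, Category.comp_id]
    · rw [← Category.assoc, hψ', Category.assoc, hφ', ← Category.assoc, e'.iso.inv_hom_id,
        Category.id_comp, Category.comp_id]
  have hcond₁'' : pullback.fst ζ₁.f (specMap p'') ≫ ζ₁.f =
      pullback.snd ζ₁.f (specMap p'') ≫ specMap p'' := pullback.condition
  have hcond₁' : pullback.fst ζ₁.f (specMap p') ≫ ζ₁.f =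
      pullback.snd ζ₁.f (specMap p') ≫ specMap p' := pullback.condition
  have hcond₂'' : pullback.fst ζ₂.f (specMap p'') ≫ ζ₂.f =
      pullback.snd ζ₂.f (specMap p'') ≫ specMap p'' := pullback.condition
  have hcond₂' : pullback.fst ζ₂.f (specMap p') ≫ ζ₂.f =
      pullback.snd ζ₂.f (specMap p') ≫ specMap p' := pullback.condition
  refine ⟨⟨⟨φ, ψ, hφψ, hψφ⟩, ?_, ?_⟩⟩
  · show φ ≫ ζ₂.f = ζ₁.f
    apply h₁.hom_ext
    · rw [← Category.assoc, hφ'', Category.assoc, hcond₂'', ← Category.assoc, hf'', hcond₁'']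
    · rw [← Category.assoc, hφ', Category.assoc, hcond₂', ← Category.assoc, hf', hcond₁']
  · show ζ₁.i ≫ φ = ζ₂.i
    rw [← DefSch.baseChange_i_fst ζ₁ p', Category.assoc, hφ', ← Category.assoc, hi',
      DefSch.baseChange_i_fst]

end Groth.Agent.Lib.Helper24.DefGlueIso
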