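import Mathlib
import Groth.Agent.Lib.Helper4.DerSub

set_option autoImplicit false
set_option maxHeartbeats 400000
set_option linter.style.haveILetI false
set_option linter.unusedSectionVars false
set_option linter.unusedVariables false

/-!
# Point derivations of an augmented local `k`-algebra are dual to the cotangent space

Sub-lemma (D3a) for helper4 / helper18 (S12265).
-/

universe u

open Groth.Agent.Lib.Helper4.DerSub IsLocalRing

namespace Groth.Agent.Lib.Helper24.DerCot

section

variable {k : Type u} [Field k] (O : Type u) [CommRing O] [Algebra k O] [IsLocalRing O]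
  (resO : O →ₐ[k] k)

lemma ker_resO : RingHom.ker (resO : O →+* k) = maximalIdeal O := by
  have hs : Function.Surjective (resO : O →+* k) := fun c =>
    ⟨algebraMap k O c, by simp⟩
  haveI := RingHom.ker_isMaximal_of_surjective (resO : O →+* k) hs
  exact IsLocalRing.eq_maximalIdeal inferInstance

lemma resO_eq_zero {x : O} (hx : x ∈ maximalIdeal O) : resO x = 0 := by
  rw [← ker_resO O resO] at hx
  exact hx

lemma sub_mem_max (o : O) : o - algebraMap k O (resO o) ∈ maximalIdeal O := by
  rw [← ker_resO O resO, RingHom.mem_ker]
  simp

/-- the projection `O → m`, `o ↦ o - resO o`. -/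
noncomputable def projM : O →ₗ[k] ↥(maximalIdeal O) where
  toFun o := ⟨o - algebraMap k O (resO o), sub_mem_max O resO o⟩
  map_add' a b := by
    apply Subtype.ext
    simp only [map_add, Submodule.coe_add]
    ring
  map_smul' c a := by
    apply Subtype.ext
    change c • a - algebraMap k O (resO (c • a)) = c • (a - algebraMap k O (resO a))
    rw [map_smul, smul_sub, smul_eq_mul, map_mul, ← Algebra.smul_def]

lemma projM_of_mem (x : ↥(maximalIdeal O)) : projM O resO (x : O) = x := by
  apply Subtype.ext
  change (x : O) - algebraMap k O (resO (x : O)) = x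
  rw [resO_eq_zero O resO x.2, map_zero, sub_zero]

/-- the `k`-linear quotient map `m → m/m²`. -/
noncomputable def T : ↥(maximalIdeal O) →ₗ[k] (maximalIdeal O).Cotangent :=
  (maximalIdeal O).toCotangent.restrictScalars k

lemma T_surjective : Function.Surjective (T (k := k) O) :=
  (maximalIdeal O).toCotangent_surjective

lemma T_projM_mul (a b : O) :
    T (k := k) O (projM O resO (a * b)) =
      resO a • T (k := k) O (projM O resO b) + resO b • T (k := k) O (projM O resO a) := by
  have e : resO a • T (k := k) O (projM O resO b) + resO b • T (k := k) O (projM O resO a) =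
      T (k := k) O (resO a • projM O resO b + resO b • projM O resO a) := by
    rw [map_add, map_smul, map_smul]
  rw [e]
  change (maximalIdeal O).toCotangent _ = (maximalIdeal O).toCotangent _
  rw [Ideal.toCotangent_eq]
  have h : ((projM O resO (a * b) : ↥(maximalIdeal O)) : O) -
      ((resO a • projM O resO b + resO b • projM O resO a : ↥(maximalIdeal O)) : O) =
      ((projM O resO a : ↥(maximalIdeal O)) : O) * ((projM O resO b : ↥(maximalIdeal O)) : O) := by
    change (a * b - algebraMap k O (resO (a * b))) -
      (resO a • (b - algebraMap k O (resO b)) + resO b • (a - algebraMap k O (resO a))) =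
      (a - algebraMap k O (resO a)) * (b - algebraMap k O (resO b))
    rw [Algebra.smul_def, Algebra.smul_def, map_mul, map_mul]
    ring
  rw [h, pow_two]
  exact Ideal.mul_mem_mul (projM O resO a).2 (projM O resO b).2

/-- `ℓ ↦ ℓ ∘ [·] ∘ projM`, from the dual of the cotangent space to point derivations. -/
noncomputable def G : ((maximalIdeal O).Cotangent →ₗ[k] k) →ₗ[k] ↥(derSub O resO) where
  toFun ℓ := ⟨ℓ ∘ₗ T (k := k) O ∘ₗ projM O resO, by
    intro a b
    simp only [LinearMap.comp_apply]
    rw [T_projM_mul, map_add, map_smul, map_smul, smul_eq_mul, smul_eq_mul]⟩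
  map_add' ℓ ℓ' := by
    apply Subtype.ext
    ext o
    simp
  map_smul' c ℓ := by
    apply Subtype.ext
    ext o
    simp

lemma G_apply (ℓ : (maximalIdeal O).Cotangent →ₗ[k] k) (o : O) :
    ((G O resO ℓ : ↥(derSub O resO)) : O →ₗ[k] k) o = ℓ (T (k := k) O (projM O resO o)) := rfl

lemma G_injective : Function.Injective (G O resO) := by
  rw [injective_iff_map_eq_zero]
  intro ℓ hℓ
  ext z
  obtain ⟨x, rfl⟩ := T_surjective (k := k) O z
  have := congrArg (fun d : ↥(derSub O resO) => (d : O →ₗ[k] k) (x : O)) hℓ
  simp only [G_apply, projM_of_mem] at this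
  simpa using this

lemma G_surjective : Function.Surjective (G O resO) := by
  rintro ⟨δ, hδ⟩
  have hδ' : ∀ a b : O, δ (a * b) = resO a * δ b + resO b * δ a := hδ
  have h1 : δ 1 = 0 := by
    have := hδ' 1 1
    simp only [mul_one, map_one, one_mul] at this
    have h := this.symm
    rw [add_eq_left] at h
    exact h
  letI : Module O k := Module.compHom k (resO : O →+* k)
  have hsm : ∀ (a : O) (z : k), a • z = resO a * z := fun _ _ => rfl
  let f : ↥(maximalIdeal O) →ₗ[O] k :=
    { toFun := fun x => δ (x : O)
      map_add' := fun x y => by simp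
      map_smul' := fun a x => by
        simp only [RingHom.id_apply, hsm]
        change δ (a * (x : O)) = _
        rw [hδ', resO_eq_zero O resO x.2, zero_mul, add_zero] }
  have hf : ∀ x y : ↥(maximalIdeal O), f (x * y) = 0 := by
    intro x y
    change δ ((x : O) * (y : O)) = 0
    rw [hδ', resO_eq_zero O resO x.2, resO_eq_zero O resO y.2, zero_mul, zero_mul, add_zero]
  let ℓ : (maximalIdeal O).Cotangent →ₗ[k] k :=
    { toFun := fun z => Ideal.Cotangent.lift f hf z
      map_add' := fun x y => by simp
      map_smul' := fun c x => by
        simp only [RingHom.id_apply]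
        rw [← algebraMap_smul O c x, map_smul, hsm]
        simp }
  refine ⟨ℓ, ?_⟩
  apply Subtype.ext
  ext o
  change Ideal.Cotangent.lift f hf ((maximalIdeal O).toCotangent (projM O resO o)) = δ o
  rw [Ideal.Cotangent.lift_toCotangent]
  change δ (o - algebraMap k O (resO o)) = δ o
  rw [map_sub, Algebra.algebraMap_eq_smul_one, map_smul, h1, smul_zero, sub_zero]

end

/-- (D3a) pure algebra: the k-space of resO-derivations O → k has the dimension of m/m². -/
theorem finrank_derSub {k : Type u} [Field k] (O : Type u) [CommRing O] [Algebra k O]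
    [IsLocalRing O] [IsNoetherianRing O] (resO : O →ₐ[k] k) (hres : Function.Surjective resO) :
    Module.finrank k ↥(derSub O resO) =
      Module.finrank (IsLocalRing.ResidueField O) (IsLocalRing.CotangentSpace O) := by
  have e : ((maximalIdeal O).Cotangent →ₗ[k] k) ≃ₗ[k] ↥(derSub O resO) :=
    LinearEquiv.ofBijective (G O resO) ⟨G_injective O resO, G_surjective O resO⟩
  rw [← e.finrank_eq]
  have h1 : Module.finrank k ((maximalIdeal O).Cotangent →ₗ[k] k) =
      Module.finrank k (maximalIdeal O).Cotangent :=
    Subspace.dual_finrank_eq (K := k) (V := (maximalIdeal O).Cotangent)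
  rw [h1]
  have hbij : Function.Bijective (algebraMap k (ResidueField O)) := by
    refine ⟨(algebraMap k (ResidueField O)).injective, ?_⟩
    intro z
    obtain ⟨o, rfl⟩ := IsLocalRing.residue_surjective z
    refine ⟨resO o, ?_⟩
    rw [IsScalarTower.algebraMap_apply k O (ResidueField O)]
    change IsLocalRing.residue O (algebraMap k O (resO o)) = IsLocalRing.residue O o
    rw [← sub_eq_zero, ← map_sub, IsLocalRing.residue_eq_zero_iff]
    have := sub_mem_max O resO o
    rw [← neg_sub]
    exact neg_mem this
  have hrank : Module.rank k (maximalIdeal O).Cotangent =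
      Module.rank (ResidueField O) (CotangentSpace O) := by
    refine rank_eq_of_equiv_equiv (algebraMap k (ResidueField O))
      (AddEquiv.refl (maximalIdeal O).Cotangent) hbij ?_
    intro c x
    change c • x = algebraMap k (ResidueField O) c • x
    rw [IsScalarTower.algebraMap_apply k O (ResidueField O), algebraMap_smul, algebraMap_smul]
  simp only [Module.finrank]
  rw [hrank]

end Groth.Agent.Lib.Helper24.DerCot
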