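import Mathlib
import Groth.Prelude.Def_PolLaw2
import Groth.Agent.Lib.Helper20.PolLawKer

/-!
# Determinants of a finite module over a normal domain (helper24)

`A` a domain with fraction field `K`, `M` a finite `A`-module with a `B`-action. For an
`A`-algebra `R` receiving `K`, `R ⊗ M` is free (base change of a `K`-basis of `K ⊗ M`), so the
determinant of the action is natural among such `R`. Over `K[t_1..t_n]` the determinant of an
element coming from `A[t_1..t_n] ⊗ B` is integral over `A[t_1..t_n]`, hence (for `A` integrally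
closed) has coefficients in `A`.
-/

set_option autoImplicit false

namespace Groth.Agent.Lib.Helper24.DetNormal

open scoped TensorProduct
open Groth.Agent.Lib.Helper20.PolLawKer

universe u

section General

/-- multilinear expansion. -/
lemma det_expand {L V : Type*} [CommRing L] [AddCommGroup V] [Module L V] {ι κ : Type*}
    [Fintype ι] [DecidableEq ι] [Fintype κ]
    (D : MultilinearMap L (fun _ : ι => V) L) (w : κ → V) (a : ι → κ → L) :
    D (fun i => ∑ j, a i j • w j) =
      ∑ f : ι → κ, (∏ i, a i (f i)) • D (fun i => w (f i)) := by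
  rw [MultilinearMap.map_sum]
  refine Finset.sum_congr rfl fun f _ => ?_
  rw [MultilinearMap.map_smul_univ]

/-- the determinant of an endomorphism stabilising a finitely generated `R`-lattice is integral
over `R`. -/
theorem isIntegral_det {R L V : Type*} [CommRing R] [CommRing L] [IsDomain L] [Algebra R L]
    [AddCommGroup V] [Module L V] {ι κ : Type*} [Fintype ι] [DecidableEq ι] [Fintype κ]
    (b : Module.Basis ι L V) (w : κ → V) (hw : Submodule.span L (Set.range w) = ⊤)
    (θ : V →ₗ[L] V) (c : κ → κ → R)
    (hθ : ∀ j, θ (w j) = ∑ l, algebraMap R L (c j l) • w l) :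
    IsIntegral R (LinearMap.det θ) := by
  classical
  obtain ⟨G, hG⟩ : ∃ G : (ι → κ) → L, G = fun f => b.det (fun i => w (f i)) := ⟨_, rfl⟩
  have hGf : ∀ f, b.det (fun i => w (f i)) = G f := fun f => by rw [hG]
  obtain ⟨N, hN⟩ : ∃ N : Submodule R L, N = Submodule.span R (Set.range G) := ⟨_, rfl⟩
  have hNfg : N.FG := by
    rw [hN]
    exact Submodule.fg_span (Set.finite_range G)
  have hmem : ∀ f, G f ∈ N := fun f => by
    rw [hN]
    exact Submodule.subset_span ⟨f, rfl⟩
  have hN0 : N ≠ ⊥ := by
    intro h0
    have hG0 : ∀ f, G f = 0 := by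
      intro f
      have := hmem f
      rw [h0] at this
      exact (Submodule.mem_bot R).mp this
    have hb : ∀ i, ∃ a : κ → L, ∑ j, a j • w j = b i := by
      intro i
      have : b i ∈ Submodule.span L (Set.range w) := by
        rw [hw]
        trivial
      exact (Submodule.mem_span_range_iff_exists_fun L).mp this
    choose a ha using hb
    have h2 : b.det (fun i => ∑ j, a i j • w j) = 0 := by
      have := det_expand b.det.toMultilinearMap w a
      simp only [AlternatingMap.coe_multilinearMap] at this
      rw [this]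
      refine Finset.sum_eq_zero fun f _ => ?_
      rw [hGf, hG0, smul_zero]
    have h3 : (fun i => ∑ j, a i j • w j) = b := funext ha
    rw [h3, Module.Basis.det_self] at h2
    exact one_ne_zero h2
  refine isIntegral_of_smul_mem_submodule N hN0 hNfg _ ?_
  intro y hy
  rw [hN] at hy
  induction hy using Submodule.span_induction with
  | mem y hy =>
    obtain ⟨f, rfl⟩ := hy
    have e : LinearMap.det θ • G f = b.det (fun i => θ (w (f i))) := by
      rw [smul_eq_mul, ← hGf]
      exact (Module.Basis.det_comp b θ _).symm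
    have e2 : (fun i => θ (w (f i))) = fun i => ∑ l, algebraMap R L (c (f i) l) • w l :=
      funext fun i => hθ (f i)
    have e3 := det_expand b.det.toMultilinearMap w (fun i l => algebraMap R L (c (f i) l))
    simp only [AlternatingMap.coe_multilinearMap] at e3
    rw [e, e2, e3]
    refine Submodule.sum_mem _ fun f' _ => ?_
    rw [← map_prod, algebraMap_smul, hGf]
    exact Submodule.smul_mem _ _ (hmem f')
  | zero =>
    rw [smul_zero]
    exact N.zero_mem
  | add y z _ _ hy hz =>
    rw [smul_add]
    exact N.add_mem hy hz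
  | smul t y _ hy =>
    rw [smul_comm]
    exact N.smul_mem t hy

end General

variable {A : Type u} [CommRing A] {B : Type u} [CommRing B] [Algebra A B]
  {M : Type u} [AddCommGroup M] [Module A M] [Module B M] [IsScalarTower A B M]

/-- every element of `S ⊗ M` is a combination of the `c ⊗ g l` for generators `g`. -/
lemma exists_coeffs {k : ℕ} (g : Fin k → M) (hg : Submodule.span A (Set.range g) = ⊤)
    (S : Type u) [CommSemiring S] [Algebra A S] (z : S ⊗[A] M) :
    ∃ c : Fin k → S, z = ∑ l, c l ⊗ₜ[A] g l := by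
  induction z using TensorProduct.induction_on with
  | zero => exact ⟨0, by simp⟩
  | tmul s m =>
    have hm : m ∈ Submodule.span A (Set.range g) := by
      rw [hg]
      trivial
    obtain ⟨a, rfl⟩ := (Submodule.mem_span_range_iff_exists_fun A).mp hm
    refine ⟨fun l => a l • s, ?_⟩
    rw [TensorProduct.tmul_sum]
    refine Finset.sum_congr rfl fun l _ => ?_
    rw [TensorProduct.tmul_smul, TensorProduct.smul_tmul']
  | add x y hx hy =>
    obtain ⟨c, rfl⟩ := hx
    obtain ⟨c', rfl⟩ := hy
    exact ⟨c + c', by simp [TensorProduct.add_tmul, Finset.sum_add_distrib]⟩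

lemma span_one_tmul {k : ℕ} (g : Fin k → M) (hg : Submodule.span A (Set.range g) = ⊤)
    (R : Type u) [CommRing R] [Algebra A R] :
    Submodule.span R (Set.range fun l => (1 : R) ⊗ₜ[A] g l) = ⊤ := by
  rw [eq_top_iff]
  intro z _
  obtain ⟨c, rfl⟩ := exists_coeffs g hg R z
  refine Submodule.sum_mem _ fun l _ => ?_
  have : c l ⊗ₜ[A] g l = c l • ((1 : R) ⊗ₜ[A] g l) := by
    rw [TensorProduct.smul_tmul', smul_eq_mul, mul_one]
  rw [this]
  exact Submodule.smul_mem _ _ (Submodule.subset_span ⟨l, rfl⟩)

/-- the action of an element coming from `S ⊗ B` on a generator has coefficients from `S`. -/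
lemma act_gen {k : ℕ} (g : Fin k → M) (hg : Submodule.span A (Set.range g) = ⊤)
    {S R : Type u} [CommRing S] [Algebra A S] [CommRing R] [Algebra A R] (j : S →ₐ[A] R)
    (x : S ⊗[A] B) (i : Fin k) :
    ∃ c : Fin k → S,
      PolLaw.actEnd M R (Algebra.TensorProduct.map j (AlgHom.id A B) x) ((1 : R) ⊗ₜ[A] g i) =
        ∑ l, j (c l) • ((1 : R) ⊗ₜ[A] g l) := by
  obtain ⟨c, hc⟩ := exists_coeffs g hg S (PolLaw.actEnd M S x ((1 : S) ⊗ₜ[A] g i))
  refine ⟨c, ?_⟩
  have h := PolLaw.rTensor_actEnd M j x ((1 : S) ⊗ₜ[A] g i)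
  rw [LinearMap.rTensor_tmul, AlgHom.toLinearMap_apply, map_one] at h
  rw [← h, hc, map_sum]
  refine Finset.sum_congr rfl fun l _ => ?_
  rw [LinearMap.rTensor_tmul, AlgHom.toLinearMap_apply, TensorProduct.smul_tmul', smul_eq_mul,
    mul_one]

variable (M) in
lemma rTensor_smul_left {R R' : Type u} [CommRing R] [Algebra A R] [CommRing R'] [Algebra A R']
    (ψ : R →ₐ[A] R') (r : R) (z : R ⊗[A] M) :
    ψ.toLinearMap.rTensor M (r • z) = ψ r • ψ.toLinearMap.rTensor M z := by
  induction z using TensorProduct.induction_on with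
  | zero => simp
  | tmul s m =>
    rw [TensorProduct.smul_tmul', LinearMap.rTensor_tmul, LinearMap.rTensor_tmul,
      TensorProduct.smul_tmul', AlgHom.toLinearMap_apply, AlgHom.toLinearMap_apply, smul_eq_mul,
      smul_eq_mul, map_mul]
  | add x y hx hy => rw [smul_add, map_add, map_add, smul_add, hx, hy]

/-- naturality of the determinant of the action along a map carrying a basis to a basis. -/
theorem detAct_map_of_basis {R R' : Type u} [CommRing R] [Algebra A R] [CommRing R']
    [Algebra A R'] (ψ : R →ₐ[A] R') {ι : Type*} [Fintype ι] [DecidableEq ι]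
    (b : Module.Basis ι R (R ⊗[A] M)) (b' : Module.Basis ι R' (R' ⊗[A] M))
    (hb : ∀ i, ψ.toLinearMap.rTensor M (b i) = b' i) (x : R ⊗[A] B) :
    PolLaw.detAct M R' (Algebra.TensorProduct.map ψ (AlgHom.id A B) x) =
      ψ (PolLaw.detAct M R x) := by
  have hrepr : ∀ (z : R ⊗[A] M) (i : ι),
      b'.repr (ψ.toLinearMap.rTensor M z) i = ψ (b.repr z i) := by
    intro z i
    conv_lhs => rw [← b.sum_repr z]
    rw [map_sum]
    simp_rw [rTensor_smul_left, hb]
    rw [Module.Basis.repr_sum_self]
  unfold PolLaw.detAct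
  rw [← LinearMap.det_toMatrix b', ← LinearMap.det_toMatrix b, AlgHom.map_det]
  congr 1
  ext i j
  simp only [AlgHom.mapMatrix_apply, Matrix.map_apply, LinearMap.toMatrix_apply]
  rw [← hrepr, PolLaw.rTensor_actEnd M ψ, hb]

section Field

variable {K : Type u} [Field K] [Algebra A K]

/-- base change of a `K`-basis of `K ⊗ M` to an algebra receiving `K`. -/
theorem exists_basis {R : Type u} [CommRing R] [Algebra A R] (κ : K →ₐ[A] R) {ι : Type*}
    (β : Module.Basis ι K (K ⊗[A] M)) :
    ∃ b : Module.Basis ι R (R ⊗[A] M), ∀ i, b i = κ.toLinearMap.rTensor M (β i) := by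
  letI : Algebra K R := κ.toRingHom.toAlgebra
  haveI : IsScalarTower A K R := IsScalarTower.of_algebraMap_eq (fun a => (κ.commutes a).symm)
  refine ⟨(Algebra.TensorProduct.basis R β).map
    (TensorProduct.AlgebraTensorModule.cancelBaseChange A K R R M), fun i => ?_⟩
  rw [Module.Basis.map_apply, Algebra.TensorProduct.basis_apply]
  generalize β i = z
  induction z using TensorProduct.induction_on with
  | zero => simp
  | tmul a m =>
    rw [TensorProduct.AlgebraTensorModule.cancelBaseChange_tmul, LinearMap.rTensor_tmul,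
      AlgHom.toLinearMap_apply]
    congr 1
    rw [Algebra.smul_def, mul_one]
    rfl
  | add x y hx hy => rw [TensorProduct.tmul_add, map_add, map_add, hx, hy]

variable [Module.Finite A M]

/-- naturality of the determinant of the action among algebras receiving `K`. -/
theorem detAct_map_K {R R' : Type u} [CommRing R] [Algebra A R] [CommRing R'] [Algebra A R']
    (κ : K →ₐ[A] R) (ψ : R →ₐ[A] R') (x : R ⊗[A] B) :
    PolLaw.detAct M R' (Algebra.TensorProduct.map ψ (AlgHom.id A B) x) =
      ψ (PolLaw.detAct M R x) := by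
  classical
  obtain ⟨b, hb⟩ := exists_basis (M := M) κ (Module.finBasis K (K ⊗[A] M))
  obtain ⟨b', hb'⟩ := exists_basis (M := M) (ψ.comp κ) (Module.finBasis K (K ⊗[A] M))
  refine detAct_map_of_basis ψ b b' (fun i => ?_) x
  rw [hb, hb', AlgHom.comp_toLinearMap, LinearMap.rTensor_comp, LinearMap.comp_apply]

theorem detAct_tmul_one {R : Type u} [CommRing R] [Nontrivial R] [Algebra A R] (κ : K →ₐ[A] R)
    {d : ℕ} (hd : Module.finrank K (K ⊗[A] M) = d) (t : R) :
    PolLaw.detAct M R (t ⊗ₜ[A] (1 : B)) = t ^ d := by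
  obtain ⟨b, -⟩ := exists_basis (M := M) κ (Module.finBasisOfFinrankEq K (K ⊗[A] M) hd)
  haveI : Module.Free R (R ⊗[A] M) := Module.Free.of_basis b
  unfold PolLaw.detAct
  have e2 : (t ⊗ₜ[A] (1 : B) : R ⊗[A] B) = t • 1 := by
    rw [Algebra.TensorProduct.one_def, TensorProduct.smul_tmul', smul_eq_mul, mul_one]
  rw [e2, map_smul, map_one, LinearMap.det_smul]
  have e3 : LinearMap.det (1 : Module.End R (R ⊗[A] M)) = 1 := LinearMap.det_id
  rw [e3, mul_one, Module.finrank_eq_card_basis b, Fintype.card_fin]

end Field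

end Groth.Agent.Lib.Helper24.DetNormal
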