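import Mathlib
import Groth.Agent.Lib.Helper20.PolLawKer

/-!
# Kernels of polynomial laws in characteristic zero and flat base change (helper24)

For a polynomial law `F : B → A` the differential `D F x y` (the coefficient of `T` in
`F (x + T y)`) is linear in `y` and natural in the test ring. Over a `ℚ`-algebra, `b ∈ ker F`
iff `D F x (w * (1 ⊗ b)) = 0` for all test data (Taylor's formula). For `B` finite over `A` this
is the vanishing of a single `A`-linear map `Lam : B → A[X,Y]`, which commutes with flat base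
change.
-/

set_option autoImplicit false

namespace Groth.Agent.Lib.Helper24.KerChar0

open scoped TensorProduct
open Polynomial
open Groth.Agent.Lib.Helper20.PolLawKer

universe u

variable {A : Type u} [CommRing A] {B : Type u} [CommRing B] [Algebra A B]

section poly

variable {S : Type u} [CommSemiring S]

lemma coeff_one_eval_X (Q : S[X][X]) :
    (Q.eval X).coeff 1 = (Q.coeff 0).coeff 1 + (Q.coeff 1).coeff 0 := by
  induction Q using Polynomial.induction_on' with
  | add p q hp hq =>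
    simp only [eval_add, coeff_add, hp, hq]
    ring
  | monomial i q =>
    rw [eval_monomial, coeff_mul_X_pow', coeff_monomial, coeff_monomial]
    rcases i with _ | _ | i
    · simp
    · simp
    · simp

end poly

section defs

variable (F : B →ₚₗ[A] A)

/-- the law with values in the test ring. -/
noncomputable def Fr (S : Type u) [CommSemiring S] [Algebra A S] (z : S ⊗[A] B) : S :=
  TensorProduct.rid A S (F.toFun' S z)

variable {S S' : Type u} [CommSemiring S] [Algebra A S] [CommSemiring S'] [Algebra A S']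

lemma Fr_map (φ : S →ₐ[A] S') (z : S ⊗[A] B) :
    Fr F S' (Algebra.TensorProduct.map φ (AlgHom.id A B) z) = φ (Fr F S z) := by
  unfold Fr
  have h := rid_rTensor φ (F.toFun' S z)
  rw [PolynomialLaw.isCompat_apply', rTensor_eq_map] at h
  exact h

lemma map_smul_left (φ : S →ₐ[A] S') (r : S) (z : S ⊗[A] B) :
    Algebra.TensorProduct.map φ (AlgHom.id A B) (r • z) =
      φ r • Algebra.TensorProduct.map φ (AlgHom.id A B) z := by
  rw [← tmul_one_mul, map_mul, Algebra.TensorProduct.map_tmul, map_one, tmul_one_mul]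

/-- the point `x + T y` over `S[T]`. -/
noncomputable def E (x y : S ⊗[A] B) : S[X] ⊗[A] B :=
  Algebra.TensorProduct.map (CAlgHom : S →ₐ[A] S[X]) (AlgHom.id A B) x +
    (X : S[X]) • Algebra.TensorProduct.map (CAlgHom : S →ₐ[A] S[X]) (AlgHom.id A B) y

lemma map_E (φ : S[X] →ₐ[A] S') (γ : S →ₐ[A] S') (hγ : φ.comp CAlgHom = γ) (x y : S ⊗[A] B) :
    Algebra.TensorProduct.map φ (AlgHom.id A B) (E x y) =
      Algebra.TensorProduct.map γ (AlgHom.id A B) x +
        φ X • Algebra.TensorProduct.map γ (AlgHom.id A B) y := by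
  unfold E
  rw [map_add, map_smul_left, map_map_apply, map_map_apply, hγ]

/-- `F (x + T y)` as a polynomial in `T`. -/
noncomputable def P (x y : S ⊗[A] B) : S[X] := Fr F S[X] (E x y)

/-- the differential of `F` at `x` in the direction `y`. -/
noncomputable def D (x y : S ⊗[A] B) : S := (P F x y).coeff 1

lemma P_eval (x y : S ⊗[A] B) (r : S) : (P F x y).eval r = Fr F S (x + r • y) := by
  have h := Fr_map F (ev (A := A) r) (E x y)
  rw [map_E _ (AlgHom.id A S) (ev_comp_C r), ev_apply, eval_X, map_id_apply', map_id_apply',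
    ev_apply] at h
  exact h.symm

lemma P_map (ψ : S →ₐ[A] S') (x y : S ⊗[A] B) :
    P F (Algebra.TensorProduct.map ψ (AlgHom.id A B) x)
      (Algebra.TensorProduct.map ψ (AlgHom.id A B) y) = (P F x y).map (ψ : S →+* S') := by
  have h := Fr_map F (Polynomial.mapAlgHom ψ) (E x y)
  have hγ : (Polynomial.mapAlgHom ψ).comp CAlgHom =
      (CAlgHom : S' →ₐ[A] S'[X]).comp ψ := by
    ext a
    simp
  rw [map_E _ _ hγ, ← map_map_apply, ← map_map_apply] at h
  have hX : (Polynomial.mapAlgHom ψ) (X : S[X]) = X := by simp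
  rw [hX] at h
  unfold P
  rw [E, h]
  simp

lemma D_map (ψ : S →ₐ[A] S') (x y : S ⊗[A] B) :
    D F (Algebra.TensorProduct.map ψ (AlgHom.id A B) x)
      (Algebra.TensorProduct.map ψ (AlgHom.id A B) y) = ψ (D F x y) := by
  unfold D
  rw [P_map, coeff_map]
  rfl

lemma P_zero (x : S ⊗[A] B) : P F x 0 = C (Fr F S x) := by
  unfold P E
  rw [map_zero, smul_zero, add_zero]
  exact Fr_map F (CAlgHom : S →ₐ[A] S[X]) x

lemma D_zero (x : S ⊗[A] B) : D F x 0 = 0 := by
  unfold D
  rw [P_zero, coeff_C_succ]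

/-- the substitution `T ↦ T + U`. -/
noncomputable def τ (S : Type u) [CommSemiring S] [Algebra A S] : S[X] →ₐ[A] S[X][X] :=
  (Polynomial.aeval ((C X + X : S[X][X]))).restrictScalars A

lemma τ_apply (p : S[X]) : τ (A := A) S p = taylor (X : S[X]) (p.map C) := by
  have h1 : τ (A := A) S p = Polynomial.aeval ((C X + X : S[X][X])) p := rfl
  rw [h1, taylor_apply, Polynomial.comp, Polynomial.eval₂_map, Polynomial.aeval_def, add_comm]
  congr 1

lemma τ_comp_C : (τ (A := A) S).comp CAlgHom =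
    (CAlgHom : S[X] →ₐ[A] S[X][X]).comp (CAlgHom : S →ₐ[A] S[X]) := by
  ext s
  have h1 : τ (A := A) S (C s) = Polynomial.aeval ((C X + X : S[X][X])) (C s) := rfl
  simp [h1, Polynomial.algebraMap_apply]

lemma τ_X : τ (A := A) S X = C X + X := by
  have h1 : τ (A := A) S X = Polynomial.aeval ((C X + X : S[X][X])) X := rfl
  rw [h1, aeval_X]

lemma P_taylor (x y : S ⊗[A] B) :
    P F (E x y) (Algebra.TensorProduct.map (CAlgHom : S →ₐ[A] S[X]) (AlgHom.id A B) y) =
      taylor (X : S[X]) ((P F x y).map C) := by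
  have h := Fr_map F (τ (A := A) S) (E x y)
  rw [map_E _ _ τ_comp_C, τ_X, τ_apply] at h
  have h' : taylor (X : S[X]) ((P F x y).map C) = _ := h.symm
  rw [h']
  unfold P
  congr 1
  conv_lhs => unfold E
  rw [map_add, map_smul_left, ← map_map_apply, ← map_map_apply, add_smul]
  have hC : (CAlgHom : S[X] →ₐ[A] S[X][X]) X = C X := rfl
  rw [hC, add_assoc]

lemma D_taylor (x y : S ⊗[A] B) :
    D F (E x y) (Algebra.TensorProduct.map (CAlgHom : S →ₐ[A] S[X]) (AlgHom.id A B) y) =
      derivative (P F x y) := by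
  unfold D
  rw [P_taylor, taylor_coeff_one, derivative_map, eval_map, eval₂_C_X]

lemma D_add (x y y' : S ⊗[A] B) : D F x (y + y') = D F x y + D F x y' := by
  obtain ⟨Q, hQ⟩ : ∃ Q, Q = P F (E x y)
    (Algebra.TensorProduct.map (CAlgHom : S →ₐ[A] S[X]) (AlgHom.id A B) y') := ⟨_, rfl⟩
  have h0 : Q.eval 0 = P F x y := by
    rw [hQ, P_eval, zero_smul, add_zero]
    rfl
  have hX : Q.eval X = P F x (y + y') := by
    rw [hQ, P_eval]
    unfold P
    congr 1
    unfold E
    rw [map_add, smul_add, add_assoc]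
  have h1 : Q.map ((ev (A := A) (0 : S) : S[X] →ₐ[A] S) : S[X] →+* S) = P F x y' := by
    rw [hQ, ← P_map, map_E _ (AlgHom.id A S) (ev_comp_C 0), ev_apply, eval_X, zero_smul,
      add_zero, map_id_apply', evB_CB]
  have e1 : (Q.coeff 0).coeff 1 = D F x y := by
    rw [coeff_zero_eq_eval_zero, h0]
    rfl
  have e2 : (Q.coeff 1).coeff 0 = D F x y' := by
    have h2 := congrArg (fun p => Polynomial.coeff p 1) h1
    simp only [coeff_map] at h2
    have h3 : ((ev (A := A) (0 : S) : S[X] →ₐ[A] S) : S[X] →+* S) (Q.coeff 1) =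
        (Q.coeff 1).eval 0 := ev_apply (A := A) 0 _
    rw [h3, ← coeff_zero_eq_eval_zero] at h2
    exact h2
  have e3 : D F x (y + y') = (Q.eval X).coeff 1 := by
    rw [hX]
    rfl
  rw [e3, coeff_one_eval_X, e1, e2]

lemma D_smul (x y : S ⊗[A] B) (r : S) : D F x (r • y) = r * D F x y := by
  obtain ⟨φ, hφ⟩ : ∃ φ : S[X] →ₐ[A] S[X], φ =
    (Polynomial.aeval ((C r * X : S[X]))).restrictScalars A := ⟨_, rfl⟩
  have hφa : ∀ p : S[X], φ p = p.comp (C r * X) := by
    intro p
    rw [hφ]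
    rfl
  have hγ : φ.comp CAlgHom = (CAlgHom : S →ₐ[A] S[X]) := by
    ext s
    simp [hφa]
  have h := Fr_map F φ (E x y)
  rw [map_E _ _ hγ, hφa X, X_comp] at h
  have hE : E x (r • y) = Algebra.TensorProduct.map (CAlgHom : S →ₐ[A] S[X]) (AlgHom.id A B) x +
      (C r * X : S[X]) • Algebra.TensorProduct.map (CAlgHom : S →ₐ[A] S[X]) (AlgHom.id A B) y := by
    unfold E
    rw [map_smul_left, mul_comm, mul_smul]
    rfl
  unfold D P
  rw [hE, h, hφa, comp_C_mul_X_coeff, pow_one, mul_comm]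

end defs

section char0

variable (F : B →ₚₗ[A] A) [Algebra ℚ A]

/-- Taylor's formula in characteristic zero: vanishing differentials force kernel membership. -/
theorem mem_ker_of_D_eq_zero (b : B)
    (h : ∀ (S : Type u) [CommSemiring S] [Algebra A S] (x w : S ⊗[A] B),
      D F x (w * ((1 : S) ⊗ₜ[A] b)) = 0) : b ∈ PolLaw.ker F := by
  rw [mem_ker_iff]
  intro S _ _ x w
  obtain ⟨y, hy⟩ : ∃ y, y = w * ((1 : S) ⊗ₜ[A] b) := ⟨_, rfl⟩
  rw [← hy]
  obtain ⟨p, hp⟩ : ∃ p, p = P F x y := ⟨_, rfl⟩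
  have hder : derivative p = 0 := by
    rw [hp, ← D_taylor]
    have h1 := h S[X] (E x y)
      (Algebra.TensorProduct.map (CAlgHom : S →ₐ[A] S[X]) (AlgHom.id A B) w)
    have h2 : Algebra.TensorProduct.map (CAlgHom : S →ₐ[A] S[X]) (AlgHom.id A B) y =
        Algebra.TensorProduct.map (CAlgHom : S →ₐ[A] S[X]) (AlgHom.id A B) w *
          ((1 : S[X]) ⊗ₜ[A] b) := by
      rw [hy, map_mul, Algebra.TensorProduct.map_tmul, map_one, AlgHom.id_apply]
    rw [h2]
    exact h1
  have hcoeff : ∀ k : ℕ, p.coeff (k + 1) = 0 := by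
    intro k
    have h1 : p.coeff (k + 1) * ((k : S) + 1) = 0 := by
      rw [← coeff_derivative, hder, coeff_zero]
    obtain ⟨u, hu⟩ : ∃ u : S, ((k : S) + 1) * u = 1 := by
      refine ⟨algebraMap A S (algebraMap ℚ A (((k + 1 : ℕ) : ℚ)⁻¹)), ?_⟩
      have h2 : ((k : S) + 1) = algebraMap A S (algebraMap ℚ A ((k + 1 : ℕ) : ℚ)) := by
        rw [map_natCast, map_natCast]
        push_cast
        rfl
      rw [h2, ← map_mul, ← map_mul, mul_inv_cancel₀ (Nat.cast_ne_zero.mpr (Nat.succ_ne_zero k)),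
        map_one, map_one]
    calc p.coeff (k + 1) = p.coeff (k + 1) * (((k : S) + 1) * u) := by rw [hu, mul_one]
      _ = (p.coeff (k + 1) * ((k : S) + 1)) * u := by rw [mul_assoc]
      _ = 0 := by rw [h1, zero_mul]
  have hpC : p = C (p.coeff 0) := by
    ext k
    rcases k with _ | k
    · simp
    · rw [hcoeff k, coeff_C_succ]
  have heval : p.eval 1 = p.eval 0 := by
    rw [hpC, eval_C, eval_C]
  rw [hp, P_eval, P_eval, one_smul, zero_smul, add_zero] at heval
  exact (TensorProduct.rid A S).injective heval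

end char0

section bc

variable (F : B →ₚₗ[A] A)

theorem D_eq_zero_of_mem_kerBC (A' : Type u) [CommRing A'] [Algebra A A'] (b' : A' ⊗[A] B)
    (hb : b' ∈ PolLaw.kerBC F A') (R : Type u) [CommSemiring R] [Algebra A R] [Algebra A' R]
    [IsScalarTower A A' R] (x w : R ⊗[A] B) :
    D F x (w * Algebra.TensorProduct.map (IsScalarTower.toAlgHom A A' R) (AlgHom.id A B) b') =
      0 := by
  rw [mem_kerBC_iff] at hb
  have h1 := hb R[X] (Algebra.TensorProduct.map (CAlgHom : R →ₐ[A] R[X]) (AlgHom.id A B) x)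
    ((X : R[X]) • Algebra.TensorProduct.map (CAlgHom : R →ₐ[A] R[X]) (AlgHom.id A B) w)
  have hθ : Algebra.TensorProduct.map (IsScalarTower.toAlgHom A A' R[X]) (AlgHom.id A B) b' =
      Algebra.TensorProduct.map (CAlgHom : R →ₐ[A] R[X]) (AlgHom.id A B)
        (Algebra.TensorProduct.map (IsScalarTower.toAlgHom A A' R) (AlgHom.id A B) b') := by
    rw [map_map_apply]
    rfl
  rw [hθ, smul_mul_assoc, ← map_mul] at h1
  unfold D P Fr E
  rw [h1]
  have h2 := Fr_map F (CAlgHom : R →ₐ[A] R[X]) x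
  unfold Fr at h2
  rw [h2]
  exact coeff_C_succ

end bc

section finite

variable (F : B →ₚₗ[A] A) {n : ℕ} (s : Fin n → B)

/-- the universal first point. -/
noncomputable def x₀ : MvPolynomial (Fin n ⊕ Fin n) A ⊗[A] B :=
  ∑ i, (MvPolynomial.X (Sum.inl i) : MvPolynomial (Fin n ⊕ Fin n) A) ⊗ₜ[A] s i

/-- the universal multiplier. -/
noncomputable def w₀ : MvPolynomial (Fin n ⊕ Fin n) A ⊗[A] B :=
  ∑ i, (MvPolynomial.X (Sum.inr i) : MvPolynomial (Fin n ⊕ Fin n) A) ⊗ₜ[A] s i

/-- the linearised kernel condition. -/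
noncomputable def Lam : B →ₗ[A] MvPolynomial (Fin n ⊕ Fin n) A where
  toFun b := D F (x₀ s) (w₀ s * ((1 : MvPolynomial (Fin n ⊕ Fin n) A) ⊗ₜ[A] b))
  map_add' b b' := by rw [TensorProduct.tmul_add, mul_add, D_add]
  map_smul' a b := by
    rw [RingHom.id_apply, TensorProduct.tmul_smul, mul_smul_comm,
      ← algebraMap_smul (MvPolynomial (Fin n ⊕ Fin n) A) a
        (w₀ s * ((1 : MvPolynomial (Fin n ⊕ Fin n) A) ⊗ₜ[A] b)), D_smul, Algebra.smul_def]

lemma Lam_apply (b : B) :
    Lam F s b = D F (x₀ s) (w₀ s * ((1 : MvPolynomial (Fin n ⊕ Fin n) A) ⊗ₜ[A] b)) := rfl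

theorem mem_ker_of_Lam_eq_zero [Algebra ℚ A] (hs : Submodule.span A (Set.range s) = ⊤) (b : B)
    (hb : Lam F s b = 0) : b ∈ PolLaw.ker F := by
  apply mem_ker_of_D_eq_zero
  intro S _ _ x w
  obtain ⟨cx, rfl⟩ := exists_sum_tmul s hs x
  obtain ⟨cw, rfl⟩ := exists_sum_tmul s hs w
  obtain ⟨φ, hφ⟩ : ∃ φ : MvPolynomial (Fin n ⊕ Fin n) A →ₐ[A] S,
    φ = MvPolynomial.aeval (Sum.elim cx cw) := ⟨_, rfl⟩
  have hx : Algebra.TensorProduct.map φ (AlgHom.id A B) (x₀ s) = ∑ i, cx i ⊗ₜ[A] s i := by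
    simp [x₀, hφ]
  have hw : Algebra.TensorProduct.map φ (AlgHom.id A B) (w₀ s) = ∑ i, cw i ⊗ₜ[A] s i := by
    simp [w₀, hφ]
  have h1 := D_map F φ (x₀ s) (w₀ s * ((1 : MvPolynomial (Fin n ⊕ Fin n) A) ⊗ₜ[A] b))
  rw [map_mul, hx, hw, Algebra.TensorProduct.map_tmul, map_one, AlgHom.id_apply,
    ← Lam_apply, hb, map_zero] at h1
  exact h1

theorem lTensor_Lam_eq_zero (A' : Type u) [CommRing A'] [Algebra A A'] (b' : A' ⊗[A] B)
    (hb : b' ∈ PolLaw.kerBC F A') : (Lam F s).lTensor A' b' = 0 := by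
  obtain ⟨j, hj⟩ : ∃ j : MvPolynomial (Fin n ⊕ Fin n) A →ₐ[A]
      A' ⊗[A] MvPolynomial (Fin n ⊕ Fin n) A, j = Algebra.TensorProduct.includeRight := ⟨_, rfl⟩
  have key : ∀ b' : A' ⊗[A] B,
      D F (Algebra.TensorProduct.map j (AlgHom.id A B) (x₀ s))
        (Algebra.TensorProduct.map j (AlgHom.id A B) (w₀ s) *
          Algebra.TensorProduct.map
            (IsScalarTower.toAlgHom A A' (A' ⊗[A] MvPolynomial (Fin n ⊕ Fin n) A))
            (AlgHom.id A B) b') = (Lam F s).lTensor A' b' := by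
    intro b'
    induction b' using TensorProduct.induction_on with
    | zero => rw [map_zero, mul_zero, D_zero, map_zero]
    | tmul a' b =>
      rw [LinearMap.lTensor_tmul, Algebra.TensorProduct.map_tmul, AlgHom.id_apply]
      have e1 : (IsScalarTower.toAlgHom A A' (A' ⊗[A] MvPolynomial (Fin n ⊕ Fin n) A)) a'
          ⊗ₜ[A] b = (a' ⊗ₜ[A] (1 : MvPolynomial (Fin n ⊕ Fin n) A)) •
            ((1 : A' ⊗[A] MvPolynomial (Fin n ⊕ Fin n) A) ⊗ₜ[A] b) := by
        rw [TensorProduct.smul_tmul', smul_eq_mul, mul_one]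
        rfl
      have e2 : Algebra.TensorProduct.map j (AlgHom.id A B) (w₀ s) *
          ((1 : A' ⊗[A] MvPolynomial (Fin n ⊕ Fin n) A) ⊗ₜ[A] b) =
          Algebra.TensorProduct.map j (AlgHom.id A B)
            (w₀ s * ((1 : MvPolynomial (Fin n ⊕ Fin n) A) ⊗ₜ[A] b)) := by
        rw [map_mul, Algebra.TensorProduct.map_tmul, map_one, AlgHom.id_apply]
      rw [e1, mul_smul_comm, D_smul, e2, D_map, ← Lam_apply, hj,
        Algebra.TensorProduct.includeRight_apply, Algebra.TensorProduct.tmul_mul_tmul, mul_one,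
        one_mul]
    | add b₁ b₂ h₁ h₂ => rw [map_add, mul_add, D_add, h₁, h₂, map_add]
  rw [← key]
  exact D_eq_zero_of_mem_kerBC F A' b' hb _ _ _

theorem kerBC_le [Algebra ℚ A] (hs : Submodule.span A (Set.range s) = ⊤) (A' : Type u)
    [CommRing A'] [Algebra A A'] [Module.Flat A A'] :
    PolLaw.kerBC F A' ≤ (PolLaw.ker F).map
      (Algebra.TensorProduct.includeRight : B →ₐ[A] A' ⊗[A] B) := by
  intro b' hb
  have h0 := lTensor_Lam_eq_zero F s A' b' hb
  have hex := Module.Flat.lTensor_exact A' (LinearMap.exact_subtype_ker_map (Lam F s))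
  obtain ⟨z, hz⟩ := (hex b').mp h0
  rw [← hz]
  clear hz h0 hb
  induction z using TensorProduct.induction_on with
  | zero =>
    rw [map_zero]
    exact zero_mem _
  | tmul a' k =>
    rw [LinearMap.lTensor_tmul, Submodule.subtype_apply]
    have hk : (k : B) ∈ PolLaw.ker F :=
      mem_ker_of_Lam_eq_zero F s hs k (LinearMap.mem_ker.mp k.2)
    have e : a' ⊗ₜ[A] (k : B) = (a' ⊗ₜ[A] (1 : B)) *
        (Algebra.TensorProduct.includeRight : B →ₐ[A] A' ⊗[A] B) (k : B) := by
      rw [Algebra.TensorProduct.includeRight_apply, Algebra.TensorProduct.tmul_mul_tmul, mul_one,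
        one_mul]
    rw [e]
    exact Ideal.mul_mem_left _ _ (Ideal.mem_map_of_mem _ hk)
  | add z₁ z₂ h₁ h₂ =>
    rw [map_add]
    exact add_mem h₁ h₂

end finite

end Groth.Agent.Lib.Helper24.KerChar0
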