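import Mathlib

/-!
# Multiplicity vectors of functions `Fin d → I` (helper24)

`ty c` is the multiplicity vector of `c`; two functions have the same multiplicity vector iff
they differ by a permutation of `Fin d`; every vector of degree `d` is a multiplicity vector.
-/

set_option autoImplicit false

namespace Groth.Agent.Lib.Helper24.GamType

variable {I : Type*} {d : ℕ}

/-- multiplicity vector of a function `Fin d → I`. -/
noncomputable def ty (c : Fin d → I) : I →₀ ℕ := ∑ j, Finsupp.single (c j) 1

lemma ty_apply [DecidableEq I] (c : Fin d → I) (i : I) :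
    ty c i = (Finset.univ.filter (fun j => c j = i)).card := by
  unfold ty
  rw [Finsupp.finsetSum_apply, Finset.card_filter]
  refine Finset.sum_congr rfl (fun j _ => ?_)
  rw [Finsupp.single_apply]

lemma ty_comp_perm (c : Fin d → I) (σ : Equiv.Perm (Fin d)) : ty (c ∘ σ) = ty c := by
  unfold ty
  exact Equiv.sum_comp σ (fun j => Finsupp.single (c j) 1)

lemma degree_ty (c : Fin d → I) : (ty c).degree = d := by
  unfold ty
  rw [map_sum]
  simp [Finsupp.degree_single]

lemma mem_support_ty (c : Fin d → I) (i : I) : i ∈ (ty c).support ↔ ∃ j, c j = i := by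
  classical
  rw [Finsupp.mem_support_iff, ty_apply, Ne, Finset.card_eq_zero, ← Ne,
    ← Finset.nonempty_iff_ne_empty]
  constructor
  · rintro ⟨j, hj⟩
    exact ⟨j, (Finset.mem_filter.mp hj).2⟩
  · rintro ⟨j, hj⟩
    exact ⟨j, Finset.mem_filter.mpr ⟨Finset.mem_univ _, hj⟩⟩

theorem exists_perm_of_ty_eq (c c' : Fin d → I) (h : ty c = ty c') :
    ∃ σ : Equiv.Perm (Fin d), c' = c ∘ σ := by
  classical
  have hcard : ∀ i : I, Fintype.card {j // c' j = i} = Fintype.card {j // c j = i} := by
    intro i
    have h2 := DFunLike.congr_fun h i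
    rw [ty_apply, ty_apply] at h2
    rw [Fintype.card_subtype, Fintype.card_subtype]
    exact h2.symm
  let eqv : ∀ i : I, {j // c' j = i} ≃ {j // c j = i} := fun i => Fintype.equivOfCardEq (hcard i)
  let σ : Equiv.Perm (Fin d) :=
    (Equiv.sigmaFiberEquiv c').symm.trans
      ((Equiv.sigmaCongrRight eqv).trans (Equiv.sigmaFiberEquiv c))
  refine ⟨σ, ?_⟩
  funext j
  have h1 : σ j = ((eqv (c' j)) ⟨j, rfl⟩ : Fin d) := rfl
  rw [Function.comp_apply, h1]
  exact ((eqv (c' j)) ⟨j, rfl⟩).2.symm

lemma ty_cons (i : I) (c : Fin d → I) :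
    ty (Fin.cons i c : Fin (d + 1) → I) = Finsupp.single i 1 + ty c := by
  unfold ty
  rw [Fin.sum_univ_succ]
  simp

theorem exists_ty_eq : ∀ (d : ℕ) (k : I →₀ ℕ), k.degree = d → ∃ c : Fin d → I, ty c = k := by
  classical
  intro d
  induction d with
  | zero =>
    intro k hk
    refine ⟨Fin.elim0, ?_⟩
    have hk0 : k = 0 := (Finsupp.degree_eq_zero_iff k).mp hk
    rw [hk0]
    simp [ty]
  | succ n ih =>
    intro k hk
    have hne : k ≠ 0 := by
      rintro rfl
      simp at hk
    obtain ⟨i, hi⟩ : ∃ i, k i ≠ 0 := by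
      by_contra hcon
      push Not at hcon
      exact hne (Finsupp.ext hcon)
    have hle : Finsupp.single i 1 ≤ k := by
      rw [Finsupp.single_le_iff]
      exact Nat.one_le_iff_ne_zero.mpr hi
    have hk' : Finsupp.single i 1 + (k - Finsupp.single i 1) = k := add_tsub_cancel_of_le hle
    have hdeg : (k - Finsupp.single i 1).degree = n := by
      have := congrArg Finsupp.degree hk'
      rw [map_add, Finsupp.degree_single, hk] at this
      omega
    obtain ⟨c, hc⟩ := ih _ hdeg
    refine ⟨Fin.cons i c, ?_⟩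
    rw [ty_cons, hc, hk']

end Groth.Agent.Lib.Helper24.GamType
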