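import Mathlib
import Groth.Prelude.Def_SymTen
import Groth.Prelude.Def_PolLaw2
import Groth.Agent.Lib.Helper22.SymTenFree
import Groth.Agent.Lib.Helper22.SymTenNorm
import Groth.Agent.Lib.Helper24.GamType

/-!
# Symmetric tensors of an algebra that is free as a module (arbitrary index type) (helper24)

Generalises `Helper22.SymTenFree` (index type `Fin d`) to an arbitrary basis `e : Basis I A P`:
orbit sums `E k`, the retraction `ρ : T^d P → TS^d P`, injectivity of `S ⊗ TS^d P → S ⊗ T^d P`,
and the construction `toTS` turning a multiplicative law with permutation invariant values in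
`T^d P` into a law with values in `TS^d P`; in particular `τ` (tensor power) and `Nrm` (norm).
-/

set_option autoImplicit false

namespace Groth.Agent.Lib.Helper24.GamFree

open scoped TensorProduct
open Module PiTensorProduct
open Groth.Agent.Lib.Helper24.GamType

universe u

section abstract

/-- abstract projection lemma (no finiteness of the index set). -/
theorem proj_fix' {S V X : Type*} [CommSemiring S] [AddCommMonoid V] [Module S V]
    [DecidableEq X] (r : X → X → Prop) (hsymm : ∀ g g', r g g' → r g' g)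
    (rep : X → X) (h1 : ∀ g, r (rep g) g) (h2 : ∀ g g', r g g' → rep g = rep g')
    (cls : X → Finset X) (hcls : ∀ g g', g' ∈ cls g ↔ r g' g)
    (β : Basis X S V) (P : V →ₗ[S] V)
    (hP : ∀ g, P (β g) = if rep g = g then ∑ g' ∈ cls g, β g' else 0)
    (z : V) (hz : ∀ g g', r g g' → β.repr z g = β.repr z g') : P z = z := by
  apply β.repr.injective
  ext g₀
  have hz0 : z = ∑ g ∈ (β.repr z).support, β.repr z g • β g := by
    conv_lhs => rw [← β.linearCombination_repr z]
    rw [Finsupp.linearCombination_apply, Finsupp.sum]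
  have hcoord : ∀ g, β.repr (P (β g)) g₀ = if g = rep g₀ then 1 else 0 := by
    intro g
    rw [hP]
    by_cases hg : rep g = g
    · rw [if_pos hg, map_sum, Finsupp.finsetSum_apply]
      simp only [Basis.repr_self, Finsupp.single_apply]
      rw [Finset.sum_ite_eq']
      by_cases hr : r g₀ g
      · rw [if_pos ((hcls g g₀).mpr hr), if_pos]
        rw [h2 g₀ g hr, hg]
      · rw [if_neg (fun hmem => hr ((hcls g g₀).mp hmem)), if_neg]
        rintro rfl
        exact hr (hsymm _ _ (h1 g₀))
    · rw [if_neg hg, if_neg]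
      · simp
      · rintro rfl
        exact hg (h2 _ _ (h1 g₀))
  have hPz : P z = ∑ g ∈ (β.repr z).support, β.repr z g • P (β g) := by
    conv_lhs => rw [hz0]
    rw [map_sum]
    simp only [map_smul]
  rw [hPz, map_sum, Finsupp.finsetSum_apply]
  simp only [map_smul, Finsupp.smul_apply, hcoord, smul_eq_mul, mul_ite, mul_one, mul_zero]
  rw [Finset.sum_ite_eq']
  split_ifs with hmem
  · exact hz _ _ (h1 g₀)
  · rw [Finsupp.notMem_support_iff] at hmem
    rw [← hz _ _ (h1 g₀), hmem]

end abstract

section comb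

variable {I : Type u} {d : ℕ}

open Classical in
/-- the finite set of functions with a given multiplicity vector. -/
noncomputable def fib (d : ℕ) (k : I →₀ ℕ) : Finset (Fin d → I) :=
  (Fintype.piFinset (fun _ : Fin d => k.support)).filter (fun c => ty c = k)

lemma mem_fib {k : I →₀ ℕ} {c : Fin d → I} : c ∈ fib d k ↔ ty c = k := by
  classical
  unfold fib
  rw [Finset.mem_filter, Fintype.mem_piFinset]
  constructor
  · exact fun h => h.2
  · intro h
    refine ⟨fun j => ?_, h⟩
    rw [← h, mem_support_ty]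
    exact ⟨j, rfl⟩

variable (I d) in
/-- the setoid "same multiplicity vector". -/
def tySetoid : Setoid (Fin d → I) :=
  ⟨fun c c' => ty c = ty c', ⟨fun _ => rfl, fun h => h.symm, fun h h' => h.trans h'⟩⟩

/-- chosen representative of a multiplicity class. -/
noncomputable def rep (c : Fin d → I) : Fin d → I :=
  Quotient.out (Quotient.mk (tySetoid I d) c)

lemma ty_rep (c : Fin d → I) : ty (rep c) = ty c :=
  Quotient.exact (Quotient.out_eq (Quotient.mk (tySetoid I d) c))

lemma rep_eq {c c' : Fin d → I} (h : ty c = ty c') : rep c = rep c' := by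
  unfold rep
  have : Quotient.mk (tySetoid I d) c = Quotient.mk (tySetoid I d) c' := Quotient.sound h
  rw [this]

lemma rep_rep (c : Fin d → I) : rep (rep c) = rep c := rep_eq (ty_rep c)

end comb

section basis

variable {A : Type u} [CommRing A] {P : Type u} [CommRing P] [Algebra A P] {I : Type u}
  (e : Basis I A P) (d : ℕ)

/-- the basis of the tensor power. -/
noncomputable def bT : Basis (Fin d → I) A (⨂[A] _ : Fin d, P) :=
  Basis.piTensorProduct (fun _ => e)

lemma bT_apply (c : Fin d → I) : bT e d c = tprod A (fun j => e (c j)) := by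
  rw [bT, Basis.piTensorProduct_apply]

lemma perm_bT (σ : Equiv.Perm (Fin d)) (c : Fin d → I) :
    SymTen.perm A P d σ (bT e d c) = bT e d (c ∘ σ.symm) := by
  rw [bT_apply, bT_apply, SymTen.perm_tprod]
  rfl

/-- the orbit sum of multiplicity vector `k`. -/
noncomputable def E (k : I →₀ ℕ) : ⨂[A] _ : Fin d, P := ∑ c ∈ fib d k, bT e d c

lemma perm_E (σ : Equiv.Perm (Fin d)) (k : I →₀ ℕ) :
    SymTen.perm A P d σ (E e d k) = E e d k := by
  unfold E
  rw [map_sum]
  simp only [perm_bT]
  refine Finset.sum_equiv ⟨fun c => c ∘ σ.symm, fun c => c ∘ σ, fun c => by ext; simp,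
    fun c => by ext; simp⟩ ?_ (fun _ _ => rfl)
  intro c
  rw [mem_fib, mem_fib]
  show ty c = k ↔ ty (c ∘ ⇑σ.symm) = k
  rw [ty_comp_perm]

lemma E_mem (k : I →₀ ℕ) : E e d k ∈ SymTen.TS A P d := by
  intro σ
  rw [← SymTen.perm_apply, perm_E]

/-- the orbit sum as a symmetric tensor. -/
noncomputable def E' (k : I →₀ ℕ) : SymTen.TS A P d := ⟨E e d k, E_mem e d k⟩

open Classical in
/-- the retraction onto the symmetric tensors, as an endomorphism. -/
noncomputable def ρ₀ : (⨂[A] _ : Fin d, P) →ₗ[A] (⨂[A] _ : Fin d, P) :=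
  (bT e d).constr A (fun c => if rep c = c then E e d (ty c) else 0)

open Classical in
lemma ρ₀_bT (c : Fin d → I) : ρ₀ e d (bT e d c) = if rep c = c then E e d (ty c) else 0 := by
  rw [ρ₀, Basis.constr_basis]

lemma ρ₀_mem (t : ⨂[A] _ : Fin d, P) : ρ₀ e d t ∈ SymTen.TS A P d := by
  classical
  rw [← (bT e d).linearCombination_repr t, Finsupp.linearCombination_apply, Finsupp.sum, map_sum]
  refine Subalgebra.sum_mem _ (fun c _ => ?_)
  rw [map_smul]
  refine Subalgebra.smul_mem _ ?_ _
  rw [ρ₀_bT]
  split_ifs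
  · exact E_mem e d _
  · exact Subalgebra.zero_mem _

open Classical in
/-- coordinates of an invariant vector are constant on classes; hence the projection fixes it. -/
theorem fix_of_inv {S V : Type*} [CommSemiring S] [AddCommMonoid V] [Module S V]
    (β : Basis (Fin d → I) S V) (Pr : V →ₗ[S] V)
    (hP : ∀ c, Pr (β c) = if rep c = c then ∑ c' ∈ fib d (ty c), β c' else 0)
    (p : Equiv.Perm (Fin d) → V →ₗ[S] V) (hp : ∀ σ c, p σ (β c) = β (c ∘ σ.symm))
    (z : V) (hz : ∀ σ, p σ z = z) : Pr z = z := by
  refine proj_fix' (fun c c' : Fin d → I => ty c = ty c') (fun _ _ h => h.symm) rep ty_rep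
    (fun _ _ h => rep_eq h) (fun c => fib d (ty c)) (fun c c' => mem_fib) β Pr hP z ?_
  intro c c' hcc'
  obtain ⟨σ, rfl⟩ := exists_perm_of_ty_eq c c' hcc'
  have key : ∀ v : V, β.repr (p σ v) c = β.repr v (c ∘ σ) := by
    intro v
    have : (Finsupp.lapply c ∘ₗ β.repr.toLinearMap) ∘ₗ p σ =
        Finsupp.lapply (c ∘ σ) ∘ₗ β.repr.toLinearMap := by
      apply β.ext
      intro h
      simp only [LinearMap.comp_apply, hp, LinearEquiv.coe_coe, Basis.repr_self,
        Finsupp.lapply_apply]
      rw [Finsupp.single_apply, Finsupp.single_apply]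
      congr 1
      apply propext
      constructor
      · intro hh
        rw [← hh]
        ext j
        simp
      · intro hh
        rw [hh]
        ext j
        simp
    exact LinearMap.congr_fun this v
  rw [← key z, hz σ]

lemma ρ₀_of_mem {t : ⨂[A] _ : Fin d, P} (ht : t ∈ SymTen.TS A P d) : ρ₀ e d t = t := by
  classical
  refine fix_of_inv d (bT e d) (ρ₀ e d) (fun c => ?_)
    (fun σ => (SymTen.perm A P d σ).toLinearMap) (fun σ c => perm_bT e d σ c) t (fun σ => ?_)
  · rw [ρ₀_bT]
    rfl
  · rw [AlgHom.toLinearMap_apply, SymTen.perm_apply]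
    exact ht σ

lemma ρ₀_baseChange_of_inv (S : Type u) [CommSemiring S] [Algebra A S]
    (z : S ⊗[A] (⨂[A] _ : Fin d, P))
    (hz : ∀ σ : Equiv.Perm (Fin d), (SymTen.perm A P d σ).toLinearMap.lTensor S z = z) :
    (ρ₀ e d).lTensor S z = z := by
  classical
  have := fix_of_inv d (Algebra.TensorProduct.basis S (bT e d)) ((ρ₀ e d).baseChange S)
    (fun c => ?_) (fun σ => (SymTen.perm A P d σ).toLinearMap.baseChange S) (fun σ c => ?_) z
    (fun σ => ?_)
  · rw [← LinearMap.baseChange_eq_ltensor]
    exact this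
  · rw [Algebra.TensorProduct.basis_apply, LinearMap.baseChange_tmul, ρ₀_bT]
    split_ifs
    · unfold E
      rw [TensorProduct.tmul_sum]
      refine Finset.sum_congr rfl (fun c' _ => ?_)
      rw [Algebra.TensorProduct.basis_apply]
    · rw [TensorProduct.tmul_zero]
  · rw [Algebra.TensorProduct.basis_apply, LinearMap.baseChange_tmul,
      Algebra.TensorProduct.basis_apply, AlgHom.toLinearMap_apply, perm_bT]
  · rw [LinearMap.baseChange_eq_ltensor]
    exact hz σ

/-- the retraction onto the symmetric tensors. -/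
noncomputable def ρ : (⨂[A] _ : Fin d, P) →ₗ[A] SymTen.TS A P d :=
  (ρ₀ e d).codRestrict (Subalgebra.toSubmodule (SymTen.TS A P d)) (ρ₀_mem e d)

lemma val_ρ (t : ⨂[A] _ : Fin d, P) :
    ((ρ e d t : SymTen.TS A P d) : ⨂[A] _ : Fin d, P) = ρ₀ e d t := rfl

lemma ρ_val (t : SymTen.TS A P d) : ρ e d (t : ⨂[A] _ : Fin d, P) = t :=
  Subtype.ext (ρ₀_of_mem e d t.2)

open Classical in
lemma ρ_bT (c : Fin d → I) : ρ e d (bT e d c) = if rep c = c then E' e d (ty c) else 0 := by
  apply Subtype.ext
  rw [val_ρ, ρ₀_bT]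
  split_ifs <;> rfl

lemma span_E' : Submodule.span A (Set.range (E' e d)) = ⊤ := by
  classical
  rw [eq_top_iff]
  rintro y -
  rw [← ρ_val e d y]
  have key : ∀ t, ρ e d t ∈ Submodule.span A (Set.range (E' e d)) := by
    intro t
    rw [← (bT e d).linearCombination_repr t, Finsupp.linearCombination_apply, Finsupp.sum,
      map_sum]
    refine Submodule.sum_mem _ (fun c _ => ?_)
    rw [map_smul]
    refine Submodule.smul_mem _ _ ?_
    rw [ρ_bT]
    split_ifs
    · exact Submodule.subset_span ⟨_, rfl⟩
    · exact Submodule.zero_mem _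
  exact key _

lemma val_comp_ρ : (SymTen.TS A P d).val.toLinearMap ∘ₗ ρ e d = ρ₀ e d := by
  ext t
  rfl

lemma ρ_comp_val : ρ e d ∘ₗ (SymTen.TS A P d).val.toLinearMap = LinearMap.id := by
  ext t
  exact congrArg Subtype.val (ρ_val e d t)

include e in
lemma lTensor_val_injective (S : Type u) [CommSemiring S] [Algebra A S] :
    Function.Injective ((SymTen.TS A P d).val.toLinearMap.lTensor S) := by
  have : (ρ e d).lTensor S ∘ₗ (SymTen.TS A P d).val.toLinearMap.lTensor S = LinearMap.id := by
    rw [← LinearMap.lTensor_comp, ρ_comp_val, LinearMap.lTensor_id]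
  exact Function.LeftInverse.injective (fun z => LinearMap.congr_fun this z)

lemma val_lTensor_ρ (S : Type u) [CommSemiring S] [Algebra A S]
    (z : S ⊗[A] (⨂[A] _ : Fin d, P))
    (hz : ∀ σ : Equiv.Perm (Fin d), (SymTen.perm A P d σ).toLinearMap.lTensor S z = z) :
    (SymTen.TS A P d).val.toLinearMap.lTensor S ((ρ e d).lTensor S z) = z := by
  rw [← LinearMap.comp_apply, ← LinearMap.lTensor_comp, val_comp_ρ]
  exact ρ₀_baseChange_of_inv e d S z hz

lemma perm_lTensor_val (S : Type u) [CommSemiring S] [Algebra A S]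
    (y : S ⊗[A] SymTen.TS A P d) (σ : Equiv.Perm (Fin d)) :
    (SymTen.perm A P d σ).toLinearMap.lTensor S
      ((SymTen.TS A P d).val.toLinearMap.lTensor S y) =
      (SymTen.TS A P d).val.toLinearMap.lTensor S y := by
  induction y using TensorProduct.induction_on with
  | zero => simp
  | tmul s t =>
    rw [LinearMap.lTensor_tmul, LinearMap.lTensor_tmul, AlgHom.toLinearMap_apply,
      AlgHom.toLinearMap_apply, SymTen.perm_apply]
    congr 1
    exact t.2 σ
  | add a b ha hb => simp only [map_add, ha, hb]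

end basis

section law

variable {A : Type u} [CommRing A] {P : Type u} [CommRing P] [Algebra A P] {I : Type u}
  (e : Basis I A P) (d : ℕ) {X : Type u} [CommRing X] [Algebra A X] {n : ℕ}

/-- the values of a law in the tensor power are invariant under all permutations. -/
def InvLaw (L : X →ₚₗ[A] (⨂[A] _ : Fin d, P)) : Prop :=
  ∀ (S : Type u) [CommSemiring S] [Algebra A S] (x : S ⊗[A] X) (σ : Equiv.Perm (Fin d)),
    (SymTen.perm A P d σ).toLinearMap.lTensor S (L.toFun' S x) = L.toFun' S x

/-- a multiplicative law with invariant values in `T^d P`, as a law with values in `TS^d P`. -/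
noncomputable def toTS (L : PolLaw.MulLaw A X (⨂[A] _ : Fin d, P) n) (hL : InvLaw d L.law) :
    PolLaw.MulLaw A X (SymTen.TS A P d) n where
  law := PolLaw.postcomp (ρ e d) L.law
  homog := by
    intro S _ _ s x
    change (ρ e d).lTensor S (L.law.toFun' S (s • x)) = s ^ n • (ρ e d).lTensor S (L.law.toFun' S x)
    rw [L.homog S s x, ← LinearMap.baseChange_eq_ltensor, map_smul]
  mult := by
    intro S _ _
    have hinj := lTensor_val_injective e d S
    refine ⟨hinj ?_, fun x y => hinj ?_⟩
    · change (SymTen.TS A P d).val.toLinearMap.lTensor S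
        ((ρ e d).lTensor S (L.law.toFun' S 1)) = _
      rw [val_lTensor_ρ e d S _ (hL S 1), PolLaw.lTensor_algHom_apply, map_one, (L.mult S).1]
    · change (SymTen.TS A P d).val.toLinearMap.lTensor S
        ((ρ e d).lTensor S (L.law.toFun' S (x * y))) =
        (SymTen.TS A P d).val.toLinearMap.lTensor S
          ((ρ e d).lTensor S (L.law.toFun' S x) * (ρ e d).lTensor S (L.law.toFun' S y))
      rw [val_lTensor_ρ e d S _ (hL S (x * y)), PolLaw.lTensor_algHom_apply, map_mul,
        ← PolLaw.lTensor_algHom_apply, ← PolLaw.lTensor_algHom_apply,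
        val_lTensor_ρ e d S _ (hL S x), val_lTensor_ρ e d S _ (hL S y), (L.mult S).2]

lemma val_toTS_apply (L : PolLaw.MulLaw A X (⨂[A] _ : Fin d, P) n) (hL : InvLaw d L.law)
    (S : Type u) [CommSemiring S] [Algebra A S] (x : S ⊗[A] X) :
    (SymTen.TS A P d).val.toLinearMap.lTensor S ((toTS e d L hL).law.toFun' S x) =
      L.law.toFun' S x :=
  val_lTensor_ρ e d S _ (hL S x)

lemma tpowLaw_invLaw : InvLaw d (SymTen.tpowLaw A P d).law :=
  fun S _ _ x σ => Groth.Agent.Lib.Helper22.SymTenFree.tpowLaw_inv S x σ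

lemma perm_comp_perm (τ σ : Equiv.Perm (Fin d)) :
    (SymTen.perm A P d τ).comp (SymTen.perm A P d σ) = SymTen.perm A P d (τ * σ) :=
  AlgHom.ext (fun x => Groth.Agent.Lib.Helper22.SymTenNorm.perm_perm τ σ x)

lemma symmLaw_invLaw : InvLaw d (SymTen.symmLaw A P d).law := by
  intro S _ _ z τ
  rw [PolLaw.lTensor_algHom_apply]
  unfold SymTen.symmLaw
  rw [PolLaw.MulLaw.prodMap_toFun', map_prod]
  have : ∀ σ : Equiv.Perm (Fin d),
      (Algebra.TensorProduct.map (AlgHom.id S S) (SymTen.perm A P d τ))
        ((Algebra.TensorProduct.map (AlgHom.id S S) (SymTen.perm A P d σ)) z) =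
      (Algebra.TensorProduct.map (AlgHom.id S S) (SymTen.perm A P d (τ * σ))) z := by
    intro σ
    rw [← AlgHom.comp_apply, ← Algebra.TensorProduct.map_id_comp, perm_comp_perm]
  simp only [this]
  exact Equiv.prod_comp (Equiv.mulLeft τ)
    (fun σ => (Algebra.TensorProduct.map (AlgHom.id S S) (SymTen.perm A P d σ)) z)

/-- the tensor power law with values in the symmetric tensors. -/
noncomputable def τ : PolLaw.MulLaw A P (SymTen.TS A P d) d :=
  toTS e d (SymTen.tpowLaw A P d) (tpowLaw_invLaw d)

lemma val_τ_apply (S : Type u) [CommSemiring S] [Algebra A S] (x : S ⊗[A] P) :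
    (SymTen.TS A P d).val.toLinearMap.lTensor S ((τ e d).law.toFun' S x) =
      (SymTen.tpowLaw A P d).law.toFun' S x :=
  val_toTS_apply e d _ _ S x

/-- the norm law `z ↦ ∏ σ z` with values in the symmetric tensors. -/
noncomputable def Nrm : PolLaw.MulLaw A (⨂[A] _ : Fin d, P) (SymTen.TS A P d) d.factorial :=
  toTS e d (SymTen.symmLaw A P d) (symmLaw_invLaw d)

lemma val_Nrm_apply (S : Type u) [CommSemiring S] [Algebra A S]
    (z : S ⊗[A] (⨂[A] _ : Fin d, P)) :
    (SymTen.TS A P d).val.toLinearMap.lTensor S ((Nrm e d).law.toFun' S z) =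
      (SymTen.symmLaw A P d).law.toFun' S z :=
  val_toTS_apply e d _ _ S z

/-- the symmetrisation law on (the image of) symmetric tensors is the `d!`-th power. -/
lemma symmLaw_val (S : Type u) [CommSemiring S] [Algebra A S] (y : S ⊗[A] SymTen.TS A P d) :
    (SymTen.symmLaw A P d).law.toFun' S ((SymTen.TS A P d).val.toLinearMap.lTensor S y) =
      ((SymTen.TS A P d).val.toLinearMap.lTensor S y) ^ d.factorial := by
  unfold SymTen.symmLaw
  rw [PolLaw.MulLaw.prodMap_toFun']
  have : ∀ σ : Equiv.Perm (Fin d),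
      (Algebra.TensorProduct.map (AlgHom.id S S) (SymTen.perm A P d σ))
        ((SymTen.TS A P d).val.toLinearMap.lTensor S y) =
      (SymTen.TS A P d).val.toLinearMap.lTensor S y := by
    intro σ
    rw [← PolLaw.lTensor_algHom_apply]
    exact perm_lTensor_val d S y σ
  simp only [this]
  rw [Finset.prod_const, Finset.card_univ, Fintype.card_perm, Fintype.card_fin]

end law

end Groth.Agent.Lib.Helper24.GamFree
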