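import Mathlib
import Groth.Prelude.Def_PolLaw

/-!
# Coefficient calculus for polynomial laws (helper24)

* `cf l : S ⊗ N → N` — extraction of a coefficient along a functional `l : S → A`;
* `ext_cf` — an element of `A[X_i] ⊗ N` is determined by its monomial coefficients;
* `gen m J = ∑_{i ∈ J} X_i ⊗ m_i` — generic points;
* `Gco m G k` — the `k`-th coefficient of the law `G` with respect to the family `m`, with
  `cf_gen_of_subset`, `cf_gen_of_not_subset`, `Gco_eq_zero_of_degree_ne` (homogeneity);
* `cf_mul` — coefficient of a product over a tensor product of test rings.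
-/

set_option autoImplicit false

namespace Groth.Agent.Lib.Helper24.GamCoef

open scoped TensorProduct
universe u

variable {A : Type u} [CommRing A]

section cf

variable {S : Type u} [CommSemiring S] [Algebra A S] {N : Type u} [AddCommGroup N] [Module A N]

/-- coefficient extraction along a functional. -/
noncomputable def cf (l : S →ₗ[A] A) : S ⊗[A] N →ₗ[A] N :=
  (TensorProduct.lid A N).toLinearMap ∘ₗ l.rTensor N

@[simp] lemma cf_tmul (l : S →ₗ[A] A) (s : S) (n : N) : cf l (s ⊗ₜ[A] n) = l s • n := by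
  simp [cf]

lemma cf_rTensor {S' : Type u} [CommSemiring S'] [Algebra A S'] (ψ : S →ₗ[A] S')
    (l' : S' →ₗ[A] A) (y : S ⊗[A] N) : cf l' (ψ.rTensor N y) = cf (l' ∘ₗ ψ) y := by
  induction y using TensorProduct.induction_on with
  | zero => simp
  | tmul s n => simp
  | add a b ha hb => simp only [map_add, ha, hb]

lemma cf_lTensor {N' : Type u} [AddCommGroup N'] [Module A N'] (g : N →ₗ[A] N')
    (l : S →ₗ[A] A) (y : S ⊗[A] N) : cf l (g.lTensor S y) = g (cf l y) := by
  induction y using TensorProduct.induction_on with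
  | zero => simp
  | tmul s n => simp
  | add a b ha hb => simp only [map_add, ha, hb]

lemma cf_zero (y : S ⊗[A] N) : cf (0 : S →ₗ[A] A) y = 0 := by
  induction y using TensorProduct.induction_on with
  | zero => simp
  | tmul s n => simp
  | add a b ha hb => simp only [map_add, ha, hb, add_zero]

lemma cf_smul (s : S) (l : S →ₗ[A] A) (y : S ⊗[A] N) :
    cf l (s • y) = cf (l ∘ₗ LinearMap.mulLeft A s) y := by
  induction y using TensorProduct.induction_on with
  | zero => simp
  | tmul t n => rw [TensorProduct.smul_tmul', cf_tmul, cf_tmul]; rfl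
  | add a b ha hb => rw [smul_add, map_add, map_add, ha, hb]

lemma cf_id (y : A ⊗[A] N) : cf (LinearMap.id : A →ₗ[A] A) y = TensorProduct.lid A N y := by
  induction y using TensorProduct.induction_on with
  | zero => simp
  | tmul s n => simp
  | add a b ha hb => simp only [map_add, ha, hb]

/-- an element of `A[X_i] ⊗ N` is determined by its monomial coefficients. -/
theorem ext_cf {I : Type u} (y y' : MvPolynomial I A ⊗[A] N)
    (h : ∀ k, cf (MvPolynomial.lcoeff A k) y = cf (MvPolynomial.lcoeff A k) y') : y = y' := by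
  classical
  rw [← sub_eq_zero]
  obtain ⟨c, hc⟩ := TensorProduct.eq_repr_basis_left (MvPolynomial.basisMonomials I A) (y - y')
  have hck : ∀ k, c k = 0 := by
    intro k
    have h1 : cf (MvPolynomial.lcoeff A k) (y - y') = 0 := by rw [map_sub, h k, sub_self]
    rw [← hc, Finsupp.sum, map_sum] at h1
    simp only [MvPolynomial.coe_basisMonomials, cf_tmul, MvPolynomial.lcoeff_apply,
      MvPolynomial.coeff_monomial, ite_smul, one_smul, zero_smul] at h1
    rw [Finset.sum_ite_eq'] at h1
    by_cases hk : k ∈ c.support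
    · rw [if_pos hk] at h1
      exact h1
    · exact Finsupp.notMem_support_iff.mp hk
  have hc0 : c = 0 := Finsupp.ext hck
  rw [← hc, hc0]
  simp

end cf

section mul

variable {Q : Type u} [CommRing Q] [Algebra A Q]
variable {S₁ S₂ : Type u} [CommSemiring S₁] [Algebra A S₁] [CommSemiring S₂] [Algebra A S₂]

/-- the tensor product of two functionals. -/
noncomputable def Lam (l₁ : S₁ →ₗ[A] A) (l₂ : S₂ →ₗ[A] A) : S₁ ⊗[A] S₂ →ₗ[A] A :=
  (TensorProduct.lid A A).toLinearMap ∘ₗ TensorProduct.map l₁ l₂

lemma Lam_tmul (l₁ : S₁ →ₗ[A] A) (l₂ : S₂ →ₗ[A] A) (s₁ : S₁) (s₂ : S₂) :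
    Lam l₁ l₂ (s₁ ⊗ₜ[A] s₂) = l₁ s₁ * l₂ s₂ := by
  simp [Lam]

lemma cf_mul (l₁ : S₁ →ₗ[A] A) (l₂ : S₂ →ₗ[A] A) (y₁ : S₁ ⊗[A] Q) (y₂ : S₂ ⊗[A] Q) :
    cf (Lam l₁ l₂)
      ((Algebra.TensorProduct.includeLeft : S₁ →ₐ[A] S₁ ⊗[A] S₂).toLinearMap.rTensor Q y₁ *
       (Algebra.TensorProduct.includeRight : S₂ →ₐ[A] S₁ ⊗[A] S₂).toLinearMap.rTensor Q y₂) =
      cf l₁ y₁ * cf l₂ y₂ := by
  induction y₁ using TensorProduct.induction_on with
  | zero => simp
  | add a b ha hb => rw [map_add, add_mul, map_add, map_add, add_mul, ha, hb]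
  | tmul s₁ q₁ =>
    induction y₂ using TensorProduct.induction_on with
    | zero => simp
    | add a b ha hb => rw [map_add, mul_add, map_add, map_add, mul_add, ha, hb]
    | tmul s₂ q₂ =>
      rw [LinearMap.rTensor_tmul, LinearMap.rTensor_tmul, AlgHom.toLinearMap_apply,
        AlgHom.toLinearMap_apply, Algebra.TensorProduct.includeLeft_apply,
        Algebra.TensorProduct.includeRight_apply, Algebra.TensorProduct.tmul_mul_tmul,
        Algebra.TensorProduct.tmul_mul_tmul, mul_one, one_mul, cf_tmul, cf_tmul, cf_tmul,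
        Lam_tmul, smul_mul_smul_comm]

end mul

section gen

variable {M : Type u} [AddCommGroup M] [Module A M] {I : Type u} (m : I → M)

/-- generic point supported on the finite set `J`. -/
noncomputable def gen (J : Finset I) : MvPolynomial I A ⊗[A] M :=
  ∑ i ∈ J, (MvPolynomial.X i : MvPolynomial I A) ⊗ₜ[A] m i

lemma rTensor_aeval_gen {S : Type u} [CommSemiring S] [Algebra A S] (s : I → S) (J : Finset I) :
    (MvPolynomial.aeval s : MvPolynomial I A →ₐ[A] S).toLinearMap.rTensor M (gen m J) =
      ∑ i ∈ J, s i ⊗ₜ[A] m i := by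
  unfold gen
  rw [map_sum]
  refine Finset.sum_congr rfl fun i _ => ?_
  rw [LinearMap.rTensor_tmul, AlgHom.toLinearMap_apply, MvPolynomial.aeval_X]

variable (A) in
open Classical in
/-- the endomorphism killing the variables outside `J'`. -/
noncomputable def θ (J' : Finset I) : MvPolynomial I A →ₐ[A] MvPolynomial I A :=
  MvPolynomial.aeval (fun i => if i ∈ J' then MvPolynomial.X i else 0)

lemma θ_gen (J J' : Finset I) (h : J' ⊆ J) :
    (θ A J').toLinearMap.rTensor M (gen m J) = gen m J' := by
  classical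
  unfold θ
  rw [rTensor_aeval_gen]
  unfold gen
  rw [← Finset.sum_subset h (fun i _ hi => by rw [if_neg hi, TensorProduct.zero_tmul])]
  exact Finset.sum_congr rfl (fun i hi => by rw [if_pos hi])

open Classical in
lemma θ_monomial (J' : Finset I) (k' : I →₀ ℕ) :
    θ A J' (MvPolynomial.monomial k' (1 : A)) =
      if k'.support ⊆ J' then MvPolynomial.monomial k' 1 else 0 := by
  classical
  unfold θ
  rw [MvPolynomial.aeval_monomial, map_one, one_mul]
  split_ifs with h
  · rw [MvPolynomial.monic_monomial_eq]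
    refine Finsupp.prod_congr (fun i hi => ?_)
    rw [if_pos (h hi)]
  · rw [Finset.not_subset] at h
    obtain ⟨i, hi, hiJ⟩ := h
    rw [Finsupp.prod]
    refine Finset.prod_eq_zero hi ?_
    rw [if_neg hiJ, zero_pow (Finsupp.mem_support_iff.mp hi)]

open Classical in
lemma lcoeff_comp_θ (J' : Finset I) (k : I →₀ ℕ) :
    (MvPolynomial.lcoeff A k) ∘ₗ (θ A J').toLinearMap =
      if k.support ⊆ J' then MvPolynomial.lcoeff A k else 0 := by
  classical
  apply (MvPolynomial.basisMonomials I A).ext
  intro k'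
  rw [MvPolynomial.coe_basisMonomials, LinearMap.comp_apply, AlgHom.toLinearMap_apply,
    θ_monomial]
  by_cases hkk : k' = k
  · subst hkk
    split_ifs with h
    · rfl
    · simp
  · have h0 : MvPolynomial.lcoeff A k (MvPolynomial.monomial k' (1 : A)) = 0 := by
      rw [MvPolynomial.lcoeff_apply, MvPolynomial.coeff_monomial, if_neg hkk]
    have hL : MvPolynomial.lcoeff A k (if k'.support ⊆ J' then MvPolynomial.monomial k' (1 : A)
        else 0) = 0 := by
      split_ifs
      · exact h0
      · simp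
    rw [hL]
    split_ifs
    · exact h0.symm
    · simp

variable {N : Type u} [AddCommGroup N] [Module A N] (G : M →ₚₗ[A] N)

/-- the `k`-th coefficient of the law `G` with respect to the family `m`. -/
noncomputable def Gco (k : I →₀ ℕ) : N :=
  cf (MvPolynomial.lcoeff A k) (G.toFun' (MvPolynomial I A) (gen m k.support))

theorem cf_gen_of_subset (J : Finset I) (k : I →₀ ℕ) (h : k.support ⊆ J) :
    cf (MvPolynomial.lcoeff A k) (G.toFun' (MvPolynomial I A) (gen m J)) = Gco m G k := by
  unfold Gco
  rw [← θ_gen (A := A) m J k.support h, ← PolynomialLaw.isCompat_apply', cf_rTensor, lcoeff_comp_θ,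
    if_pos (Finset.Subset.refl _)]

theorem cf_gen_of_not_subset (J : Finset I) (k : I →₀ ℕ) (h : ¬ k.support ⊆ J) :
    cf (MvPolynomial.lcoeff A k) (G.toFun' (MvPolynomial I A) (gen m J)) = 0 := by
  have h1 := θ_gen (A := A) m J J (Finset.Subset.refl J)
  have h2 : G.toFun' (MvPolynomial I A) (gen m J) =
      (θ A J).toLinearMap.rTensor N (G.toFun' (MvPolynomial I A) (gen m J)) := by
    rw [PolynomialLaw.isCompat_apply', h1]
  rw [h2, cf_rTensor, lcoeff_comp_θ, if_neg h]
  exact cf_zero _

end gen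

section homog

variable {M : Type u} [AddCommGroup M] [Module A M] {I : Type u} (m : I → M)
  {N : Type u} [AddCommGroup N] [Module A N] (G : M →ₚₗ[A] N)

variable (A I) in
/-- the scaling map `X_i ↦ z X_i`. -/
noncomputable def Ψ : MvPolynomial I A →ₐ[A] Polynomial (MvPolynomial I A) :=
  MvPolynomial.aeval (fun i => Polynomial.X * Polynomial.C (MvPolynomial.X i))

variable (A I) in
/-- the constant embedding. -/
noncomputable def Cp : MvPolynomial I A →ₐ[A] Polynomial (MvPolynomial I A) :=
  MvPolynomial.aeval (fun i => Polynomial.C (MvPolynomial.X i))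

lemma Cp_monomial (k : I →₀ ℕ) :
    Cp A I (MvPolynomial.monomial k (1 : A)) = Polynomial.C (MvPolynomial.monomial k (1 : A)) := by
  unfold Cp
  rw [MvPolynomial.aeval_monomial, map_one, one_mul, MvPolynomial.monic_monomial_eq,
    map_finsuppProd]
  simp only [map_pow]

lemma Ψ_monomial (k : I →₀ ℕ) :
    Ψ A I (MvPolynomial.monomial k (1 : A)) =
      Polynomial.C (MvPolynomial.monomial k (1 : A)) * Polynomial.X ^ k.degree := by
  unfold Ψ
  rw [MvPolynomial.aeval_monomial, map_one, one_mul]
  simp only [mul_pow]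
  rw [Finsupp.prod_mul, mul_comm]
  congr 1
  · rw [MvPolynomial.monic_monomial_eq, map_finsuppProd]
    simp only [map_pow]
  · rw [Finsupp.prod, Finset.prod_pow_eq_pow_sum, Finsupp.degree_apply]

/-- coefficient functional on `A[X_i][z]`. -/
noncomputable def Λ (a : ℕ) (k : I →₀ ℕ) : Polynomial (MvPolynomial I A) →ₗ[A] A :=
  (MvPolynomial.lcoeff A k) ∘ₗ ((Polynomial.lcoeff (MvPolynomial I A) a).restrictScalars A)

lemma Λ_apply (a : ℕ) (k : I →₀ ℕ) (p : Polynomial (MvPolynomial I A)) :
    Λ a k p = MvPolynomial.coeff k (p.coeff a) := rfl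

lemma Λ_comp_Ψ (k : I →₀ ℕ) :
    (Λ k.degree k) ∘ₗ (Ψ A I).toLinearMap = MvPolynomial.lcoeff A k := by
  classical
  apply (MvPolynomial.basisMonomials I A).ext
  intro k'
  rw [MvPolynomial.coe_basisMonomials, LinearMap.comp_apply, AlgHom.toLinearMap_apply,
    Ψ_monomial, Λ_apply, Polynomial.coeff_C_mul_X_pow, MvPolynomial.lcoeff_apply,
    MvPolynomial.coeff_monomial]
  by_cases hkk : k' = k
  · subst hkk
    simp
  · rw [if_neg hkk]
    split_ifs
    · rw [MvPolynomial.coeff_monomial, if_neg hkk]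
    · simp

lemma Λ_comp_mul_Cp (k : I →₀ ℕ) (d : ℕ) (hk : k.degree ≠ d) :
    (Λ k.degree k) ∘ₗ
      (LinearMap.mulLeft A ((Polynomial.X : Polynomial (MvPolynomial I A)) ^ d)) ∘ₗ
        (Cp A I).toLinearMap = 0 := by
  classical
  apply (MvPolynomial.basisMonomials I A).ext
  intro k'
  rw [MvPolynomial.coe_basisMonomials, LinearMap.comp_apply, LinearMap.comp_apply,
    AlgHom.toLinearMap_apply, LinearMap.mulLeft_apply, LinearMap.zero_apply, Cp_monomial,
    mul_comm, Λ_apply, Polynomial.coeff_C_mul_X_pow, if_neg hk, MvPolynomial.coeff_zero]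

theorem Gco_eq_zero_of_degree_ne {d : ℕ} (hG : PolLaw.IsHomog G d) (k : I →₀ ℕ)
    (hk : k.degree ≠ d) : Gco m G k = 0 := by
  unfold Gco
  have h1 : (Ψ A I).toLinearMap.rTensor M (gen m k.support) =
      (Polynomial.X : Polynomial (MvPolynomial I A)) •
        (Cp A I).toLinearMap.rTensor M (gen m k.support) := by
    unfold Ψ Cp
    rw [rTensor_aeval_gen, rTensor_aeval_gen, Finset.smul_sum]
    refine Finset.sum_congr rfl fun i _ => ?_
    rw [TensorProduct.smul_tmul', smul_eq_mul]
  have h2 : (Ψ A I).toLinearMap.rTensor N (G.toFun' (MvPolynomial I A) (gen m k.support)) =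
      (Polynomial.X : Polynomial (MvPolynomial I A)) ^ d •
        (Cp A I).toLinearMap.rTensor N (G.toFun' (MvPolynomial I A) (gen m k.support)) := by
    rw [PolynomialLaw.isCompat_apply', PolynomialLaw.isCompat_apply', h1, hG]
  have h3 := congrArg (cf (Λ k.degree k)) h2
  rw [cf_rTensor, Λ_comp_Ψ, cf_smul, cf_rTensor, LinearMap.comp_assoc, Λ_comp_mul_Cp k d hk,
    cf_zero] at h3
  exact h3

end homog

end Groth.Agent.Lib.Helper24.GamCoef
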