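import Mathlib
import Groth.Prelude.Def_SymTen
import Groth.Prelude.Def_PolLaw2
import Groth.Agent.Lib.Helper24.GamType
import Groth.Agent.Lib.Helper24.GamCoef
import Groth.Agent.Lib.Helper24.GamFree

/-!
# `TS^d_A(P)` is the degree-`d` divided power algebra of an algebra `P` free as a module (helper24)

Main result: `isGammaD_τ e d : PolLaw.IsGammaD (τ e d)` for `e : Basis I A P`.
-/

set_option autoImplicit false

namespace Groth.Agent.Lib.Helper24.GamUniv

open scoped TensorProduct
open Module PiTensorProduct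
open Groth.Agent.Lib.Helper24.GamType Groth.Agent.Lib.Helper24.GamCoef
  Groth.Agent.Lib.Helper24.GamFree

universe u

section mulLaw

variable {A : Type u} [CommRing A] {P Q C' : Type u} [CommRing P] [Algebra A P] [CommRing Q]
  [Algebra A Q] [CommRing C'] [Algebra A C']
  {S₁ S₂ : Type u} [CommSemiring S₁] [Algebra A S₁] [CommSemiring S₂] [Algebra A S₂]

/-- a linear map compatible with two multiplicative laws is multiplicative on coefficients. -/
theorem mul_of_law {d : ℕ} (L : PolLaw.MulLaw A P Q d) (G : PolLaw.MulLaw A P C' d)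
    (h₀ : Q →ₗ[A] C')
    (hb : ∀ (S : Type u) [CommSemiring S] [Algebra A S] (x : S ⊗[A] P),
      h₀.lTensor S (L.law.toFun' S x) = G.law.toFun' S x)
    (l₁ : S₁ →ₗ[A] A) (l₂ : S₂ →ₗ[A] A) (x₁ : S₁ ⊗[A] P) (x₂ : S₂ ⊗[A] P) :
    h₀ (cf l₁ (L.law.toFun' S₁ x₁) * cf l₂ (L.law.toFun' S₂ x₂)) =
      h₀ (cf l₁ (L.law.toFun' S₁ x₁)) * h₀ (cf l₂ (L.law.toFun' S₂ x₂)) := by
  let ι₁ : S₁ →ₐ[A] S₁ ⊗[A] S₂ := Algebra.TensorProduct.includeLeft
  let ι₂ : S₂ →ₐ[A] S₁ ⊗[A] S₂ := Algebra.TensorProduct.includeRight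
  have hL : L.law.toFun' (S₁ ⊗[A] S₂)
      (ι₁.toLinearMap.rTensor P x₁ * ι₂.toLinearMap.rTensor P x₂) =
      ι₁.toLinearMap.rTensor Q (L.law.toFun' S₁ x₁) *
        ι₂.toLinearMap.rTensor Q (L.law.toFun' S₂ x₂) := by
    rw [(L.mult (S₁ ⊗[A] S₂)).2, ← PolynomialLaw.isCompat_apply', ← PolynomialLaw.isCompat_apply']
  have hG : G.law.toFun' (S₁ ⊗[A] S₂)
      (ι₁.toLinearMap.rTensor P x₁ * ι₂.toLinearMap.rTensor P x₂) =
      ι₁.toLinearMap.rTensor C' (G.law.toFun' S₁ x₁) *
        ι₂.toLinearMap.rTensor C' (G.law.toFun' S₂ x₂) := by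
    rw [(G.mult (S₁ ⊗[A] S₂)).2, ← PolynomialLaw.isCompat_apply', ← PolynomialLaw.isCompat_apply']
  have key := hb (S₁ ⊗[A] S₂) (ι₁.toLinearMap.rTensor P x₁ * ι₂.toLinearMap.rTensor P x₂)
  rw [hL, hG, ← hb S₁ x₁, ← hb S₂ x₂] at key
  have key2 := congrArg (cf (Lam l₁ l₂)) key
  rw [cf_lTensor, cf_mul, cf_mul, cf_lTensor, cf_lTensor] at key2
  exact key2

end mulLaw

section univ

variable {A : Type u} [CommRing A] {P : Type u} [CommRing P] [Algebra A P] {I : Type u}
  (e : Basis I A P) (d : ℕ)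

/-- representation of the elements of `S ⊗ P` in the basis. -/
lemma exists_finsupp {S : Type u} [CommSemiring S] [Algebra A S] (x : S ⊗[A] P) :
    ∃ s : I →₀ S, x = ∑ i ∈ s.support, s i ⊗ₜ[A] e i := by
  classical
  refine ⟨(Algebra.TensorProduct.basis S e).repr x, ?_⟩
  conv_lhs => rw [← (Algebra.TensorProduct.basis S e).linearCombination_repr x]
  rw [Finsupp.linearCombination_apply, Finsupp.sum]
  refine Finset.sum_congr rfl fun i _ => ?_
  rw [Algebra.TensorProduct.basis_apply, TensorProduct.smul_tmul', smul_eq_mul, mul_one]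

/-- every point is a specialisation of a generic point. -/
lemma exists_gen {S : Type u} [CommSemiring S] [Algebra A S] (x : S ⊗[A] P) :
    ∃ (J : Finset I) (ψ : MvPolynomial I A →ₐ[A] S), x = ψ.toLinearMap.rTensor P (gen e J) := by
  obtain ⟨s, hs⟩ := exists_finsupp e x
  exact ⟨s.support, MvPolynomial.aeval s, by rw [rTensor_aeval_gen, hs]⟩

lemma tpowLaw_gen (J : Finset I) :
    (SymTen.tpowLaw A P d).law.toFun' (MvPolynomial I A) (gen e J) =
      ∑ c ∈ Fintype.piFinset (fun _ : Fin d => J),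
        (MvPolynomial.monomial (ty c) (1 : A)) ⊗ₜ[A] bT e d c := by
  unfold SymTen.tpowLaw gen
  rw [PolLaw.MulLaw.prodMap_toFun']
  simp only [map_sum, Algebra.TensorProduct.map_tmul, AlgHom.id_apply]
  rw [Finset.prod_univ_sum]
  refine Finset.sum_congr rfl (fun c _ => ?_)
  rw [Groth.Agent.Lib.Helper22.SymTenFree.prod_tmul,
    Groth.Agent.Lib.Helper22.SymTenFree.prod_single, bT_apply]
  congr 1
  unfold ty
  rw [MvPolynomial.monomial_sum_one]
  rfl

open Classical in
lemma cf_tpowLaw_gen (J : Finset I) (k : I →₀ ℕ) :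
    cf (MvPolynomial.lcoeff A k)
      ((SymTen.tpowLaw A P d).law.toFun' (MvPolynomial I A) (gen e J)) =
      if k.support ⊆ J then E e d k else 0 := by
  rw [tpowLaw_gen, map_sum]
  simp only [cf_tmul, MvPolynomial.lcoeff_apply, MvPolynomial.coeff_monomial, ite_smul,
    one_smul, zero_smul]
  rw [← Finset.sum_filter]
  split_ifs with h
  · unfold E
    refine Finset.sum_congr ?_ (fun _ _ => rfl)
    ext c
    rw [Finset.mem_filter, Fintype.mem_piFinset, mem_fib]
    constructor
    · exact fun hc => hc.2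
    · intro hc
      refine ⟨fun j => h ?_, hc⟩
      rw [← hc, mem_support_ty]
      exact ⟨j, rfl⟩
  · apply Finset.sum_eq_zero
    intro c hc
    exfalso
    rw [Finset.mem_filter, Fintype.mem_piFinset] at hc
    apply h
    intro i hi
    rw [← hc.2, mem_support_ty] at hi
    obtain ⟨j, rfl⟩ := hi
    exact hc.1 j

open Classical in
lemma cf_τ_gen (J : Finset I) (k : I →₀ ℕ) :
    cf (MvPolynomial.lcoeff A k) ((τ e d).law.toFun' (MvPolynomial I A) (gen e J)) =
      if k.support ⊆ J then E' e d k else 0 := by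
  have h1 : (SymTen.TS A P d).val.toLinearMap
      (cf (MvPolynomial.lcoeff A k) ((τ e d).law.toFun' (MvPolynomial I A) (gen e J))) =
      cf (MvPolynomial.lcoeff A k)
        ((SymTen.tpowLaw A P d).law.toFun' (MvPolynomial I A) (gen e J)) := by
    rw [← cf_lTensor, val_τ_apply]
  rw [cf_tpowLaw_gen] at h1
  apply Subtype.ext
  refine Eq.trans h1 ?_
  split_ifs <;> rfl

variable {C' : Type u} [CommRing C'] [Algebra A C'] (G : PolLaw.MulLaw A P C' d)

open Classical in
/-- auxiliary linear map on the tensor power. -/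
noncomputable def H : (⨂[A] _ : Fin d, P) →ₗ[A] C' :=
  (bT e d).constr A (fun c => if rep c = c then Gco e G.law (ty c) else 0)

/-- the linear map `TS^d P → C'` attached to a multiplicative law. -/
noncomputable def h₀ : SymTen.TS A P d →ₗ[A] C' :=
  (H e d G) ∘ₗ (SymTen.TS A P d).val.toLinearMap

lemma h₀_E' (k : I →₀ ℕ) : h₀ e d G (E' e d k) = Gco e G.law k := by
  classical
  show H e d G (E e d k) = _
  unfold E H
  rw [map_sum]
  simp only [Basis.constr_basis]
  by_cases hne : (fib d k).Nonempty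
  · obtain ⟨c₁, hc₁⟩ := hne
    have hc₁' : ty c₁ = k := mem_fib.mp hc₁
    have hc₀ : rep c₁ ∈ fib d k := mem_fib.mpr ((ty_rep c₁).trans hc₁')
    have hterm : ∀ c ∈ fib d k, (if rep c = c then Gco e G.law (ty c) else 0) =
        if c = rep c₁ then Gco e G.law k else 0 := by
      intro c hc
      have hck : ty c = k := mem_fib.mp hc
      by_cases hcc : rep c = c
      · rw [if_pos hcc, if_pos, hck]
        rw [← hcc]
        exact rep_eq (hck.trans hc₁'.symm)
      · rw [if_neg hcc, if_neg]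
        rintro rfl
        exact hcc (rep_rep c₁)
    rw [Finset.sum_congr rfl hterm, Finset.sum_ite_eq', if_pos hc₀]
  · rw [Finset.not_nonempty_iff_eq_empty] at hne
    rw [hne, Finset.sum_empty]
    symm
    apply Gco_eq_zero_of_degree_ne e G.law G.homog
    intro hdeg
    obtain ⟨c, hc⟩ := exists_ty_eq d k hdeg
    have : c ∈ fib d k := mem_fib.mpr hc
    rw [hne] at this
    exact absurd this (Finset.notMem_empty c)

theorem h₀_law (S : Type u) [CommSemiring S] [Algebra A S] (x : S ⊗[A] P) :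
    (h₀ e d G).lTensor S ((τ e d).law.toFun' S x) = G.law.toFun' S x := by
  classical
  obtain ⟨J, ψ, rfl⟩ := exists_gen e x
  rw [← PolynomialLaw.isCompat_apply', ← PolynomialLaw.isCompat_apply', ← LinearMap.comp_apply,
    LinearMap.lTensor_comp_rTensor, ← LinearMap.rTensor_comp_lTensor, LinearMap.comp_apply]
  congr 1
  apply ext_cf
  intro k
  rw [cf_lTensor, cf_τ_gen]
  by_cases hk : k.support ⊆ J
  · rw [if_pos hk, h₀_E', cf_gen_of_subset _ _ _ _ hk]
  · rw [if_neg hk, map_zero, cf_gen_of_not_subset _ _ _ _ hk]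

theorem h₀_mul (y y' : SymTen.TS A P d) :
    h₀ e d G (y * y') = h₀ e d G y * h₀ e d G y' := by
  classical
  have hE : ∀ k k', h₀ e d G (E' e d k * E' e d k') =
      h₀ e d G (E' e d k) * h₀ e d G (E' e d k') := by
    intro k k'
    have h1 := cf_τ_gen e d k.support k
    rw [if_pos (Finset.Subset.refl _)] at h1
    have h2 := cf_τ_gen e d k'.support k'
    rw [if_pos (Finset.Subset.refl _)] at h2
    rw [← h1, ← h2]
    exact mul_of_law (τ e d) G (h₀ e d G) (h₀_law e d G) _ _ _ _
  have step1 : ∀ (k' : I →₀ ℕ) (y : SymTen.TS A P d),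
      h₀ e d G (y * E' e d k') = h₀ e d G y * h₀ e d G (E' e d k') := by
    intro k' y
    have hy : y ∈ Submodule.span A (Set.range (E' e d)) := by
      rw [span_E']
      trivial
    induction hy using Submodule.span_induction with
    | mem x hx =>
      obtain ⟨k, rfl⟩ := hx
      exact hE k k'
    | zero => simp
    | add x y _ _ hx hy => rw [add_mul, map_add, map_add, add_mul, hx, hy]
    | smul a x _ hx => rw [smul_mul_assoc, map_smul, map_smul, smul_mul_assoc, hx]
  have hy' : y' ∈ Submodule.span A (Set.range (E' e d)) := by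
    rw [span_E']
    trivial
  induction hy' using Submodule.span_induction with
  | mem x hx =>
    obtain ⟨k', rfl⟩ := hx
    exact step1 k' y
  | zero => simp
  | add x z _ _ hx hz => rw [mul_add, map_add, map_add, mul_add, hx, hz]
  | smul a x _ hx => rw [mul_smul_comm, map_smul, map_smul, mul_smul_comm, hx]

theorem h₀_one : h₀ e d G 1 = 1 := by
  have h := h₀_law e d G A (1 : A ⊗[A] P)
  rw [((τ e d).mult A).1, (G.mult A).1] at h
  have h2 := congrArg (TensorProduct.lid A C') h
  simpa [Algebra.TensorProduct.one_def] using h2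

/-- the algebra map `TS^d P → C'` attached to a multiplicative law. -/
noncomputable def hAlg : SymTen.TS A P d →ₐ[A] C' :=
  AlgHom.ofLinearMap (h₀ e d G) (h₀_one e d G) (h₀_mul e d G)

lemma hAlg_toLinearMap : (hAlg e d G).toLinearMap = h₀ e d G := rfl

/-- `TS^d_A(P)` with the tensor power law is the divided power algebra `Γ^d_A(P)` when `P` is free
as an `A`-module. -/
theorem isGammaD_τ : PolLaw.IsGammaD (τ e d) := by
  classical
  intro C' _ _ G
  refine ⟨hAlg e d G, ?_, ?_⟩
  · apply PolynomialLaw.ext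
    funext S _ _ x
    exact h₀_law e d G S x
  · intro f hf
    apply AlgHom.toLinearMap_injective
    apply LinearMap.ext_on (span_E' e d)
    rintro _ ⟨k, rfl⟩
    have h1 := cf_τ_gen e d k.support k
    rw [if_pos (Finset.Subset.refl _)] at h1
    rw [← h1, ← cf_lTensor, ← cf_lTensor]
    congr 1
    have h2 := congrArg (fun L : P →ₚₗ[A] C' =>
      L.toFun' (MvPolynomial I A) (gen e k.support)) hf
    exact h2.trans (h₀_law e d G _ _).symm

end univ

end Groth.Agent.Lib.Helper24.GamUniv
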