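import Mathlib
import Groth.Prelude.Def_SymTen
import Groth.Prelude.Def_PolLaw2
import Groth.Agent.Lib.Helper20.PolLawKer
import Groth.Agent.Lib.Helper24.GamFree
import Groth.Agent.Lib.Helper24.GamUniv

/-!
# Cayley–Hamilton for multiplicative polynomial laws (helper24)

For a multiplicative law `F : B → A` homogeneous of degree `d` and `b : B`, the characteristic
polynomial `χ_b = F_{A[X]}(b - X)` satisfies `χ_b(b) ∈ ker F`.

The proof reduces to a polynomial algebra `P` (free as a module), where `F = h ∘ τ` for an algebra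
map `h : TS^d(P) → A`, and computes in `T^d(P)[variables]`.
-/

set_option autoImplicit false

namespace Groth.Agent.Lib.Helper24.GamCH

open scoped TensorProduct
open Module
open Groth.Agent.Lib.Helper24.GamFree Groth.Agent.Lib.Helper24.GamUniv
open Groth.Agent.Lib.Helper20.PolLawKer

universe u

variable {A : Type u} [CommRing A]

section free

variable (A) (P : Type u) [CommRing P] [Algebra A P] (d : ℕ)

local notation "RR" => SymTen.TS A P d
local notation "TT" => (⨂[A] _ : Fin d, P)

/-- slot embedding. -/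
noncomputable abbrev sl (j : Fin d) : P →ₐ[A] TT :=
  PiTensorProduct.singleAlgHom (R := A) (A := fun _ : Fin d => P) j

variable (S : Type u) [CommSemiring S] [Algebra A S] {I : Type u} (e : Basis I A P)

/-- constants of `R[S]`. -/
noncomputable abbrev CR : RR →ₐ[A] MvPolynomial S RR :=
  IsScalarTower.toAlgHom A RR (MvPolynomial S RR)

/-- constants of `T[S]`. -/
noncomputable abbrev CT : TT →ₐ[A] MvPolynomial S TT :=
  IsScalarTower.toAlgHom A TT (MvPolynomial S TT)

/-- `R[S] → T[S]`. -/
noncomputable abbrev incl : MvPolynomial S RR →ₐ[A] MvPolynomial S TT :=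
  MvPolynomial.mapAlgHom (SymTen.TS A P d).val

lemma incl_CR (r : RR) : incl A P d S (CR A P d S r) = CT A P d S ((SymTen.TS A P d).val r) := by
  simp only [IsScalarTower.coe_toAlgHom', MvPolynomial.mapAlgHom_apply, MvPolynomial.algebraMap_eq,
    MvPolynomial.map_C, RingHom.coe_coe]

lemma incl_injective : Function.Injective (incl A P d S) := by
  intro a b hab
  exact MvPolynomial.map_injective ((SymTen.TS A P d).val : RR →+* TT) Subtype.val_injective hab

/-- multiplication `R[S] ⊗ R → R[S]`. -/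
noncomputable def μ : MvPolynomial S RR ⊗[A] RR →ₐ[A] MvPolynomial S RR :=
  Algebra.TensorProduct.productMap (AlgHom.id A _) (CR A P d S)

/-- multiplication `R[S] ⊗ T → T[S]`. -/
noncomputable def μ' : MvPolynomial S RR ⊗[A] TT →ₐ[A] MvPolynomial S TT :=
  Algebra.TensorProduct.productMap (incl A P d S) (CT A P d S)

/-- evaluation in the `j`-th slot. -/
noncomputable def ev (j : Fin d) : MvPolynomial S RR ⊗[A] P →ₐ[A] MvPolynomial S TT :=
  Algebra.TensorProduct.productMap (incl A P d S) ((CT A P d S).comp (sl A P d j))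

lemma incl_μ (u : MvPolynomial S RR ⊗[A] RR) :
    incl A P d S (μ A P d S u) = μ' A P d S (Algebra.TensorProduct.map
      (AlgHom.id (MvPolynomial S RR) (MvPolynomial S RR)) (SymTen.TS A P d).val u) := by
  induction u using TensorProduct.induction_on with
  | zero => simp
  | tmul s r =>
    rw [Algebra.TensorProduct.map_tmul, AlgHom.id_apply]
    unfold μ μ'
    rw [Algebra.TensorProduct.productMap_apply_tmul, Algebra.TensorProduct.productMap_apply_tmul,
      map_mul, AlgHom.id_apply, incl_CR]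
  | add a b ha hb => simp only [map_add, ha, hb]

lemma μ'_map (j : Fin d) (y : MvPolynomial S RR ⊗[A] P) :
    μ' A P d S (Algebra.TensorProduct.map
      (AlgHom.id (MvPolynomial S RR) (MvPolynomial S RR)) (sl A P d j) y) = ev A P d S j y := by
  induction y using TensorProduct.induction_on with
  | zero => simp
  | tmul s p => rfl
  | add a b ha hb => simp only [map_add, ha, hb]

include e in
lemma incl_μ_τ (y : MvPolynomial S RR ⊗[A] P) :
    incl A P d S (μ A P d S ((τ e d).law.toFun' (MvPolynomial S RR) y)) = ∏ j, ev A P d S j y := by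
  rw [incl_μ, ← PolLaw.lTensor_algHom_apply, val_τ_apply]
  unfold SymTen.tpowLaw
  rw [PolLaw.MulLaw.prodMap_toFun', map_prod]
  exact Finset.prod_congr rfl fun j _ => μ'_map A P d S j y

variable (h : SymTen.TS A P d →ₐ[A] A) (p₀ : P)

/-- the specialisation map `R[S] → S` attached to `h : R → A`. -/
noncomputable def Θ : MvPolynomial S RR →ₐ[A] S :=
  { MvPolynomial.eval₂Hom ((algebraMap A S).comp (h : RR →+* A)) (fun s : S => s) with
    commutes' := fun a => by
      show MvPolynomial.eval₂Hom _ _ (algebraMap A (MvPolynomial S RR) a) = _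
      rw [MvPolynomial.algebraMap_apply, MvPolynomial.eval₂Hom_C]
      simp }

lemma Θ_X (s : S) : Θ A P d S h (MvPolynomial.X s) = s := by
  show MvPolynomial.eval₂Hom _ _ (MvPolynomial.X s) = s
  rw [MvPolynomial.eval₂Hom_X']

lemma Θ_CR (r : RR) : Θ A P d S h (CR A P d S r) = algebraMap A S (h r) := by
  show MvPolynomial.eval₂Hom _ _ (CR A P d S r) = _
  simp only [IsScalarTower.coe_toAlgHom', MvPolynomial.algebraMap_eq, MvPolynomial.eval₂Hom_C,
    RingHom.comp_apply, RingHom.coe_coe]

lemma Θ_surjective : Function.Surjective (Θ A P d S h) := fun s => ⟨MvPolynomial.X s, Θ_X A P d S h s⟩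

/-- `f ⊗ r ↦ h(r) f(p₀)`. -/
noncomputable def ε : Polynomial A ⊗[A] RR →ₐ[A] P :=
  Algebra.TensorProduct.productMap (Polynomial.aeval p₀) ((Algebra.ofId A P).comp h)

/-- `f ⊗ r ↦ r ⊗ f(p₀)`. -/
noncomputable def εt : Polynomial A ⊗[A] RR →ₐ[A] MvPolynomial S RR ⊗[A] P :=
  Algebra.TensorProduct.productMap
    ((Algebra.TensorProduct.includeRight : P →ₐ[A] MvPolynomial S RR ⊗[A] P).comp
      (Polynomial.aeval p₀))
    ((Algebra.TensorProduct.includeLeft : MvPolynomial S RR →ₐ[A] MvPolynomial S RR ⊗[A] P).comp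
      (CR A P d S))

/-- `f ⊗ t ↦ f(ι_j p₀) t`. -/
noncomputable def εT (j : Fin d) : Polynomial A ⊗[A] TT →ₐ[A] TT :=
  Algebra.TensorProduct.productMap (Polynomial.aeval (sl A P d j p₀)) (AlgHom.id A TT)

lemma aeval_rid_lTensor (u : Polynomial A ⊗[A] RR) :
    Polynomial.aeval p₀ (TensorProduct.rid A (Polynomial A)
      (h.toLinearMap.lTensor (Polynomial A) u)) = ε A P d h p₀ u := by
  induction u using TensorProduct.induction_on with
  | zero => simp
  | tmul f r =>
    unfold ε
    rw [LinearMap.lTensor_tmul, TensorProduct.rid_tmul, map_smul,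
      Algebra.TensorProduct.productMap_apply_tmul, AlgHom.comp_apply, Algebra.ofId_apply,
      AlgHom.toLinearMap_apply, Algebra.smul_def, mul_comm]
  | add a b ha hb => simp only [map_add, ha, hb]

lemma map_Θ_εt (u : Polynomial A ⊗[A] RR) :
    Algebra.TensorProduct.map (Θ A P d S h) (AlgHom.id A P) (εt A P d S p₀ u) =
      (1 : S) ⊗ₜ[A] ε A P d h p₀ u := by
  induction u using TensorProduct.induction_on with
  | zero => simp
  | tmul f r =>
    unfold εt ε
    rw [Algebra.TensorProduct.productMap_apply_tmul, Algebra.TensorProduct.productMap_apply_tmul,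
      map_mul, AlgHom.comp_apply, AlgHom.comp_apply, AlgHom.comp_apply,
      Algebra.TensorProduct.includeRight_apply, Algebra.TensorProduct.includeLeft_apply,
      Algebra.TensorProduct.map_tmul, Algebra.TensorProduct.map_tmul, map_one, Θ_CR,
      AlgHom.id_apply, AlgHom.id_apply, Algebra.TensorProduct.tmul_mul_tmul, one_mul, mul_one,
      Algebra.ofId_apply, Algebra.algebraMap_eq_smul_one, Algebra.algebraMap_eq_smul_one,
      TensorProduct.smul_tmul, mul_smul_comm, mul_one]
  | add a b ha hb => simp only [map_add, ha, hb, TensorProduct.tmul_add]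

lemma ev_εt (j : Fin d) (u : Polynomial A ⊗[A] RR) :
    ev A P d S j (εt A P d S p₀ u) = CT A P d S (εT A P d p₀ j (Algebra.TensorProduct.map
      (AlgHom.id (Polynomial A) (Polynomial A)) (SymTen.TS A P d).val u)) := by
  induction u using TensorProduct.induction_on with
  | zero => simp
  | tmul f r =>
    unfold εt εT ev
    rw [Algebra.TensorProduct.productMap_apply_tmul, map_mul, AlgHom.comp_apply,
      AlgHom.comp_apply, Algebra.TensorProduct.includeRight_apply,
      Algebra.TensorProduct.includeLeft_apply, Algebra.TensorProduct.productMap_apply_tmul,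
      Algebra.TensorProduct.productMap_apply_tmul, map_one, map_one, one_mul, mul_one,
      Algebra.TensorProduct.map_tmul, Algebra.TensorProduct.productMap_apply_tmul,
      AlgHom.id_apply, AlgHom.id_apply, map_mul, AlgHom.comp_apply, incl_CR,
      Polynomial.aeval_algHom_apply]
  | add a b ha hb => simp only [map_add, ha, hb]

lemma εT_tpow (j : Fin d) :
    εT A P d p₀ j ((SymTen.tpowLaw A P d).law.toFun' (Polynomial A)
      ((1 : Polynomial A) ⊗ₜ[A] p₀ - Polynomial.X ⊗ₜ[A] (1 : P))) = 0 := by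
  unfold SymTen.tpowLaw
  rw [PolLaw.MulLaw.prodMap_toFun', map_prod]
  refine Finset.prod_eq_zero (Finset.mem_univ j) ?_
  unfold εT
  rw [map_sub, Algebra.TensorProduct.map_tmul, Algebra.TensorProduct.map_tmul, map_sub,
    Algebra.TensorProduct.productMap_apply_tmul, Algebra.TensorProduct.productMap_apply_tmul]
  simp

lemma lTensor_h_rTensor_Θ (u : MvPolynomial S RR ⊗[A] RR) :
    h.toLinearMap.lTensor S ((Θ A P d S h).toLinearMap.rTensor RR u) =
      (Θ A P d S h (μ A P d S u)) ⊗ₜ[A] (1 : A) := by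
  induction u using TensorProduct.induction_on with
  | zero => simp
  | tmul s r =>
    unfold μ
    rw [LinearMap.rTensor_tmul, LinearMap.lTensor_tmul, AlgHom.toLinearMap_apply,
      AlgHom.toLinearMap_apply, Algebra.TensorProduct.productMap_apply_tmul, map_mul,
      AlgHom.id_apply, Θ_CR, Algebra.algebraMap_eq_smul_one, mul_smul_comm, mul_one,
      TensorProduct.smul_tmul, smul_eq_mul, mul_one]
  | add a b ha hb => simp only [map_add, ha, hb, TensorProduct.add_tmul]

include e in
/-- Cayley–Hamilton for a multiplicative law on an algebra that is free as a module. -/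
theorem CH_free (F' : PolLaw.MulLaw A P A d) (p₀ : P) :
    Polynomial.aeval p₀ (TensorProduct.rid A (Polynomial A) (F'.law.toFun' (Polynomial A)
      ((1 : Polynomial A) ⊗ₜ[A] p₀ - Polynomial.X ⊗ₜ[A] (1 : P)))) ∈ PolLaw.ker F'.law := by
  classical
  obtain ⟨h, hh, -⟩ := isGammaD_τ e d A F'
  have hh' : ∀ (S : Type u) [CommSemiring S] [Algebra A S] (x : S ⊗[A] P),
      h.toLinearMap.lTensor S ((τ e d).law.toFun' S x) = F'.law.toFun' S x := by
    intro S _ _ x
    exact congrArg (fun L : P →ₚₗ[A] A => L.toFun' S x) hh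
  have hc' : Polynomial.aeval p₀ (TensorProduct.rid A (Polynomial A)
      (F'.law.toFun' (Polynomial A) ((1 : Polynomial A) ⊗ₜ[A] p₀ - Polynomial.X ⊗ₜ[A] (1 : P)))) =
      ε A P d h p₀ ((τ e d).law.toFun' (Polynomial A)
        ((1 : Polynomial A) ⊗ₜ[A] p₀ - Polynomial.X ⊗ₜ[A] (1 : P))) := by
    rw [← hh', aeval_rid_lTensor]
  rw [hc', mem_ker_iff]
  intro S _ _ x w
  obtain ⟨xt, rfl⟩ := LinearMap.rTensor_surjective P (g := (Θ A P d S h).toLinearMap)
    (Θ_surjective A P d S h) x
  obtain ⟨wt, rfl⟩ := LinearMap.rTensor_surjective P (g := (Θ A P d S h).toLinearMap)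
    (Θ_surjective A P d S h) w
  have hev : ∀ j, ev A P d S j (εt A P d S p₀ ((τ e d).law.toFun' (Polynomial A)
      ((1 : Polynomial A) ⊗ₜ[A] p₀ - Polynomial.X ⊗ₜ[A] (1 : P)))) = 0 := by
    intro j
    rw [ev_εt, ← PolLaw.lTensor_algHom_apply, val_τ_apply, εT_tpow, map_zero]
  have key : μ A P d S ((τ e d).law.toFun' (MvPolynomial S RR)
      (xt + wt * εt A P d S p₀ ((τ e d).law.toFun' (Polynomial A)
        ((1 : Polynomial A) ⊗ₜ[A] p₀ - Polynomial.X ⊗ₜ[A] (1 : P))))) =
      μ A P d S ((τ e d).law.toFun' (MvPolynomial S RR) xt) := by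
    apply incl_injective A P d S
    rw [incl_μ_τ A P d S e, incl_μ_τ A P d S e]
    refine Finset.prod_congr rfl fun j _ => ?_
    rw [map_add, map_mul, hev, mul_zero, add_zero]
  have tr : ∀ yt : MvPolynomial S RR ⊗[A] P,
      F'.law.toFun' S ((Θ A P d S h).toLinearMap.rTensor P yt) =
        (Θ A P d S h (μ A P d S ((τ e d).law.toFun' (MvPolynomial S RR) yt))) ⊗ₜ[A] (1 : A) := by
    intro yt
    rw [← hh', ← PolynomialLaw.isCompat_apply', lTensor_h_rTensor_Θ]
  have hpt : (Θ A P d S h).toLinearMap.rTensor P xt + (Θ A P d S h).toLinearMap.rTensor P wt *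
      ((1 : S) ⊗ₜ[A] ε A P d h p₀ ((τ e d).law.toFun' (Polynomial A)
        ((1 : Polynomial A) ⊗ₜ[A] p₀ - Polynomial.X ⊗ₜ[A] (1 : P)))) =
      (Θ A P d S h).toLinearMap.rTensor P (xt + wt * εt A P d S p₀ ((τ e d).law.toFun' (Polynomial A)
        ((1 : Polynomial A) ⊗ₜ[A] p₀ - Polynomial.X ⊗ₜ[A] (1 : P)))) := by
    rw [rTensor_eq_map, rTensor_eq_map, rTensor_eq_map, map_add, map_mul, map_Θ_εt]
  rw [hpt, tr, tr, key]

end free

section general

variable {B : Type u} [CommRing B] [Algebra A B] {d : ℕ}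

/-- the characteristic polynomial of `b` with respect to the law `F`. -/
noncomputable def charP (F : PolLaw.MulLaw A B A d) (b : B) : Polynomial A :=
  TensorProduct.rid A (Polynomial A) (F.law.toFun' (Polynomial A)
    ((1 : Polynomial A) ⊗ₜ[A] b - Polynomial.X ⊗ₜ[A] (1 : B)))

lemma charP_precomp {B' : Type u} [CommRing B'] [Algebra A B'] (F : PolLaw.MulLaw A B A d)
    (φ : B' →ₐ[A] B) (b' : B') : charP (F.precomp φ) b' = charP F (φ b') := by
  unfold charP
  show TensorProduct.rid A (Polynomial A) (F.law.toFun' (Polynomial A)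
    (φ.toLinearMap.lTensor (Polynomial A) _)) = _
  rw [map_sub, LinearMap.lTensor_tmul, LinearMap.lTensor_tmul, AlgHom.toLinearMap_apply,
    AlgHom.toLinearMap_apply, map_one]

/-- **Cayley–Hamilton** for multiplicative polynomial laws. -/
theorem CH (F : PolLaw.MulLaw A B A d) (b : B) :
    Polynomial.aeval b (charP F b) ∈ PolLaw.ker F.law := by
  classical
  let π : MvPolynomial B A →ₐ[A] B := MvPolynomial.aeval id
  have hπ : Function.Surjective π := fun b => ⟨MvPolynomial.X b, by simp [π]⟩
  have hπX : π (MvPolynomial.X b) = b := by simp [π]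
  have h0 : Polynomial.aeval (MvPolynomial.X b : MvPolynomial B A)
      (charP (F.precomp π) (MvPolynomial.X b)) ∈ PolLaw.ker (F.precomp π).law :=
    CH_free A (MvPolynomial B A) d (MvPolynomial.basisMonomials B A) (F.precomp π) (MvPolynomial.X b)
  rw [charP_precomp, hπX] at h0
  rw [mem_ker_iff] at h0 ⊢
  intro S _ _ x w
  obtain ⟨x', rfl⟩ := LinearMap.lTensor_surjective S (g := π.toLinearMap) hπ x
  obtain ⟨w', rfl⟩ := LinearMap.lTensor_surjective S (g := π.toLinearMap) hπ w
  have h1 : F.law.toFun' S (π.toLinearMap.lTensor S (x' + w' * ((1 : S) ⊗ₜ[A]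
      Polynomial.aeval (MvPolynomial.X b : MvPolynomial B A) (charP F b)))) =
      F.law.toFun' S (π.toLinearMap.lTensor S x') := h0 S x' w'
  rw [← h1]
  congr 1
  rw [PolLaw.lTensor_algHom_apply, PolLaw.lTensor_algHom_apply, PolLaw.lTensor_algHom_apply,
    map_add, map_mul, Algebra.TensorProduct.map_tmul, AlgHom.id_apply,
    ← Polynomial.aeval_algHom_apply, hπX]

lemma charP_of_mem_ker (F : PolLaw.MulLaw A B A d) (b : B) (hb : b ∈ PolLaw.ker F.law) :
    charP F b = (-Polynomial.X) ^ d := by
  have e1 : (1 : Polynomial A) ⊗ₜ[A] b - Polynomial.X ⊗ₜ[A] (1 : B) =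
      (-Polynomial.X : Polynomial A) • (1 : Polynomial A ⊗[A] B) +
        1 * ((1 : Polynomial A) ⊗ₜ[A] b) := by
    rw [one_mul, Algebra.TensorProduct.one_def, TensorProduct.smul_tmul', smul_eq_mul, mul_one,
      TensorProduct.neg_tmul, ← sub_eq_neg_add]
  unfold charP
  rw [e1, (mem_ker_iff _ _).mp hb, F.homog, (F.mult _).1, Algebra.TensorProduct.one_def,
    TensorProduct.smul_tmul', TensorProduct.rid_tmul, one_smul, smul_eq_mul, mul_one]

lemma neg_pow_mem {R : Type*} [CommRing R] (I : Ideal R) (x : R) (n : ℕ) (h : (-x) ^ n ∈ I) :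
    x ^ n ∈ I := by
  have : x ^ n = (-1) ^ n * (-x) ^ n := by
    rw [← mul_pow]
    simp
  rw [this]
  exact Ideal.mul_mem_left _ _ h

/-- S13696. -/
theorem CH_ideal (F : PolLaw.MulLaw A B A d) (χ : B → Polynomial A)
    (hχ : ∀ b : B, χ b = TensorProduct.rid A (Polynomial A)
      (F.law.toFun' (Polynomial A) ((1 : Polynomial A) ⊗ₜ[A] b - Polynomial.X ⊗ₜ[A] (1 : B)))) :
    Ideal.span (Set.range fun b : B => Polynomial.aeval b (χ b)) ≤ PolLaw.ker F.law ∧
      PolLaw.ker F.law ≤
        (Ideal.span (Set.range fun b : B => Polynomial.aeval b (χ b))).radical := by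
  have hχ' : ∀ b, χ b = charP F b := hχ
  constructor
  · rw [Ideal.span_le]
    rintro _ ⟨b, rfl⟩
    show Polynomial.aeval b (χ b) ∈ PolLaw.ker F.law
    rw [hχ']
    exact CH F b
  · intro b hb
    have h1 : charP F b = (-Polynomial.X) ^ d := charP_of_mem_ker F b hb
    refine ⟨d, ?_⟩
    have h2 : Polynomial.aeval b (χ b) ∈
        Ideal.span (Set.range fun b : B => Polynomial.aeval b (χ b)) :=
      Ideal.subset_span ⟨b, rfl⟩
    rw [hχ', h1, map_pow, map_neg, Polynomial.aeval_X] at h2
    exact neg_pow_mem _ _ _ h2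

/-- S13718. -/
theorem radical_ker_precomp {B' : Type u} [CommRing B'] [Algebra A B']
    (F : PolLaw.MulLaw A B A d) (φ : B' →ₐ[A] B) :
    (PolLaw.ker (F.precomp φ).law).radical = ((PolLaw.ker F.law).comap φ).radical := by
  apply le_antisymm
  · rw [Ideal.radical_le_radical_iff]
    intro b' hb'
    refine ⟨d, ?_⟩
    rw [Ideal.mem_comap, map_pow]
    have h1 : charP F (φ b') = (-Polynomial.X) ^ d := by
      rw [← charP_precomp]
      exact charP_of_mem_ker (F.precomp φ) b' hb'
    have h2 := CH F (φ b')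
    rw [h1, map_pow, map_neg, Polynomial.aeval_X] at h2
    exact neg_pow_mem _ _ _ h2
  · apply Ideal.radical_mono
    intro b' hb'
    rw [Ideal.mem_comap] at hb'
    rw [mem_ker_iff] at hb' ⊢
    intro S _ _ x w
    show F.law.toFun' S (φ.toLinearMap.lTensor S (x + w * ((1 : S) ⊗ₜ[A] b'))) =
      F.law.toFun' S (φ.toLinearMap.lTensor S x)
    rw [PolLaw.lTensor_algHom_apply, PolLaw.lTensor_algHom_apply, map_add, map_mul,
      Algebra.TensorProduct.map_tmul, AlgHom.id_apply]
    exact hb' S _ _

end general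

end Groth.Agent.Lib.Helper24.GamCH
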