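import Mathlib
import Groth.Prelude.Def_SymTen
import Groth.Prelude.Def_PolLaw2
import Groth.Agent.Lib.Helper20.PolLawKer
import Groth.Agent.Lib.Helper20.PolLawQuot
import Groth.Agent.Lib.Helper20.PolyLaw
import Groth.Agent.Lib.Helper24.GamType
import Groth.Agent.Lib.Helper24.GamCoef
import Groth.Agent.Lib.Helper24.GamFree
import Groth.Agent.Lib.Helper24.GamUniv

/-!
# The norm law `T^d_A(B) → Γ^d_A(B)` of degree `d!` (helper24)

For `(C, γ)` a degree-`d` divided power algebra of `B` and `φ : C → TS^d_A(B)` the canonical map,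
we construct a multiplicative law `FT : T^d_A(B) → C` of degree `d!` with `φ ∘ FT = ∏_σ σ` and
`FT ∘ φ = (·)^{d!}`, by descending the norm law of a free presentation `A[X_b] → B`.
-/

set_option autoImplicit false

namespace Groth.Agent.Lib.Helper24.GamDesc

open scoped TensorProduct
open Module PiTensorProduct
open Groth.Agent.Lib.Helper24.GamType Groth.Agent.Lib.Helper24.GamCoef
  Groth.Agent.Lib.Helper24.GamFree Groth.Agent.Lib.Helper24.GamUniv
open Groth.Agent.Lib.Helper20.PolLawKer Groth.Agent.Lib.Helper20.PolLawQuot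

universe u

variable {A : Type u} [CommRing A]

section general

/-- every element of `S ⊗ B` is a finite sum of pure tensors. -/
lemma exists_fin_sum {B : Type u} [AddCommGroup B] [Module A B] {S : Type u} [CommSemiring S]
    [Algebra A S] (x : S ⊗[A] B) :
    ∃ (n : ℕ) (s : Fin n → S) (b : Fin n → B), x = ∑ j, s j ⊗ₜ[A] b j := by
  induction x using TensorProduct.induction_on with
  | zero => exact ⟨0, Fin.elim0, Fin.elim0, by simp⟩
  | tmul s b => exact ⟨1, fun _ => s, fun _ => b, by simp⟩
  | add x y hx hy =>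
    obtain ⟨n, s, b, rfl⟩ := hx
    obtain ⟨n', s', b', rfl⟩ := hy
    refine ⟨n + n', Fin.append s s', Fin.append b b', ?_⟩
    rw [Fin.sum_univ_add]
    simp

/-- (helper20, S13717) if a universal law `γ'` on `B'`, precomposed with a surjection
`π : B → B'`, factors through an algebra map `φ`, then `φ` is surjective. -/
theorem surjective_of_law_factor {B B' C₀ C' : Type u} [CommRing B] [Algebra A B] [CommRing B']
    [Algebra A B'] [CommRing C₀] [Algebra A C₀] [CommRing C'] [Algebra A C'] {d : ℕ}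
    (γ : PolLaw.MulLaw A B C₀ d) (γ' : PolLaw.MulLaw A B' C' d) (hγ' : PolLaw.IsGammaD γ')
    (π : B →ₐ[A] B') (hπ : Function.Surjective π) (φ : C₀ →ₐ[A] C')
    (hφ : PolLaw.postcomp φ.toLinearMap γ.law = (γ'.precomp π).law) :
    Function.Surjective φ := by
  classical
  let j : φ.range →ₐ[A] C' := φ.range.val
  let φ'' : C₀ →ₐ[A] φ.range := φ.rangeRestrict
  have hjφ : j.comp φ'' = φ := by
    ext c
    rfl
  let G : PolLaw.MulLaw A B φ.range d := γ.postcomp φ''
  have hG : ∀ (S : Type u) [CommSemiring S] [Algebra A S] (x : S ⊗[A] B),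
      G.law.toFun' S x = φ''.toLinearMap.lTensor S (γ.law.toFun' S x) := fun S _ _ x => rfl
  have hφ' : ∀ (S : Type u) [CommSemiring S] [Algebra A S] (x : S ⊗[A] B),
      φ.toLinearMap.lTensor S (γ.law.toFun' S x) =
        γ'.law.toFun' S (π.toLinearMap.lTensor S x) := by
    intro S _ _ x
    have h := congrArg (fun L : B →ₚₗ[A] C' => L.toFun' S x) hφ
    exact h
  have hjG : ∀ (S : Type u) [CommSemiring S] [Algebra A S] (x : S ⊗[A] B),
      j.toLinearMap.lTensor S (G.law.toFun' S x) =
        γ'.law.toFun' S (π.toLinearMap.lTensor S x) := by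
    intro S _ _ x
    rw [hG, ← LinearMap.comp_apply, ← LinearMap.lTensor_comp, ← AlgHom.comp_toLinearMap, hjφ, hφ']
  have hker : KerCond G.law π := by
    intro b hb S _ _ x w
    obtain ⟨t₁, rfl⟩ := TensorProduct.exists_finset x
    obtain ⟨t₂, rfl⟩ := TensorProduct.exists_finset w
    let ψ : MvPolynomial ((S × B) ⊕ (S × B)) A →ₐ[A] S :=
      MvPolynomial.aeval (Sum.elim Prod.fst Prod.fst)
    let x₀ : MvPolynomial ((S × B) ⊕ (S × B)) A ⊗[A] B :=
      ∑ p ∈ t₁, (MvPolynomial.X (Sum.inl p) : MvPolynomial ((S × B) ⊕ (S × B)) A) ⊗ₜ[A] p.2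
    let w₀ : MvPolynomial ((S × B) ⊕ (S × B)) A ⊗[A] B :=
      ∑ p ∈ t₂, (MvPolynomial.X (Sum.inr p) : MvPolynomial ((S × B) ⊕ (S × B)) A) ⊗ₜ[A] p.2
    have key : G.law.toFun' (MvPolynomial ((S × B) ⊕ (S × B)) A)
        (x₀ + w₀ * ((1 : MvPolynomial ((S × B) ⊕ (S × B)) A) ⊗ₜ[A] b)) =
        G.law.toFun' (MvPolynomial ((S × B) ⊕ (S × B)) A) x₀ := by
      apply Module.Flat.lTensor_preserves_injective_linearMap
        (M := MvPolynomial ((S × B) ⊕ (S × B)) A) j.toLinearMap Subtype.val_injective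
      rw [hjG, hjG]
      congr 1
      rw [PolLaw.lTensor_algHom_apply, PolLaw.lTensor_algHom_apply, map_add, map_mul,
        Algebra.TensorProduct.map_tmul, hb, TensorProduct.tmul_zero, mul_zero, add_zero]
    have h3 := congrArg (ψ.toLinearMap.rTensor φ.range) key
    rw [PolynomialLaw.isCompat_apply', PolynomialLaw.isCompat_apply', rTensor_eq_map,
      rTensor_eq_map, map_add, map_mul] at h3
    have hx : Algebra.TensorProduct.map ψ (AlgHom.id A B) x₀ = ∑ p ∈ t₁, p.1 ⊗ₜ[A] p.2 := by
      simp [x₀, ψ]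
    have hw : Algebra.TensorProduct.map ψ (AlgHom.id A B) w₀ = ∑ p ∈ t₂, p.1 ⊗ₜ[A] p.2 := by
      simp [w₀, ψ]
    rw [hx, hw] at h3
    simpa using h3
  let G' : PolLaw.MulLaw A B' φ.range d := descendMul G π hπ hker
  have hjG' : ∀ (S : Type u) [CommSemiring S] [Algebra A S] (y : S ⊗[A] B'),
      j.toLinearMap.lTensor S (G'.law.toFun' S y) = γ'.law.toFun' S y := by
    intro S _ _ y
    obtain ⟨x, rfl⟩ := LinearMap.lTensor_surjective S (g := π.toLinearMap) hπ y
    rw [descendMul_apply, hjG]
  obtain ⟨g, hg, -⟩ := hγ' φ.range G'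
  have hg' : ∀ (S : Type u) [CommSemiring S] [Algebra A S] (y : S ⊗[A] B'),
      g.toLinearMap.lTensor S (γ'.law.toFun' S y) = G'.law.toFun' S y := by
    intro S _ _ y
    have h := congrArg (fun L : B' →ₚₗ[A] φ.range => L.toFun' S y) hg
    exact h
  obtain ⟨f₀, -, huniq⟩ := hγ' C' γ'
  have h1 : j.comp g = f₀ := huniq _ (by
    apply PolynomialLaw.ext
    funext S _ _ y
    show (j.comp g).toLinearMap.lTensor S (γ'.law.toFun' S y) = γ'.law.toFun' S y
    rw [AlgHom.comp_toLinearMap, LinearMap.lTensor_comp, LinearMap.comp_apply, hg', hjG'])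
  have h2 : AlgHom.id A C' = f₀ := huniq _ (by
    apply PolynomialLaw.ext
    funext S _ _ y
    show (AlgHom.id A C').toLinearMap.lTensor S (γ'.law.toFun' S y) = γ'.law.toFun' S y
    rw [AlgHom.toLinearMap_id, LinearMap.lTensor_id, LinearMap.id_apply])
  intro c'
  have h3 : j (g c') = c' := by
    have := congrArg (fun f : C' →ₐ[A] C' => f c') (h1.trans h2.symm)
    exact this
  obtain ⟨c, hc⟩ := (g c').2
  exact ⟨c, hc.trans h3⟩

end general

section naturality

variable {P P' : Type u} [CommRing P] [Algebra A P] [CommRing P'] [Algebra A P'] (d : ℕ)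
  (f : P →ₐ[A] P')

lemma tmap_comp_single (j : Fin d) :
    (SymTen.tmap A d f).comp (PiTensorProduct.singleAlgHom (R := A) (A := fun _ : Fin d => P) j) =
      (PiTensorProduct.singleAlgHom (R := A) (A := fun _ : Fin d => P') j).comp f := by
  ext p
  rw [AlgHom.comp_apply, AlgHom.comp_apply, PiTensorProduct.singleAlgHom_apply,
    PiTensorProduct.singleAlgHom_apply, SymTen.tmap_tprod]
  congr 1
  ext i
  simp only [MonoidHom.mulSingle_apply, Pi.mulSingle_apply]
  split_ifs with h
  · subst h
    rfl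
  · exact map_one f

lemma tmap_single (j : Fin d) (p : P) :
    SymTen.tmap A d f (PiTensorProduct.singleAlgHom (R := A) (A := fun _ : Fin d => P) j p) =
      PiTensorProduct.singleAlgHom (R := A) (A := fun _ : Fin d => P') j (f p) := by
  have := congrArg (fun g : P →ₐ[A] (⨂[A] _ : Fin d, P') => g p) (tmap_comp_single d f j)
  exact this

lemma tpowLaw_nat (S : Type u) [CommSemiring S] [Algebra A S] (x : S ⊗[A] P) :
    (SymTen.tmap A d f).toLinearMap.lTensor S ((SymTen.tpowLaw A P d).law.toFun' S x) =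
      (SymTen.tpowLaw A P' d).law.toFun' S (f.toLinearMap.lTensor S x) := by
  rw [PolLaw.lTensor_algHom_apply, PolLaw.lTensor_algHom_apply]
  unfold SymTen.tpowLaw
  rw [PolLaw.MulLaw.prodMap_toFun', PolLaw.MulLaw.prodMap_toFun', map_prod]
  refine Finset.prod_congr rfl (fun j _ => ?_)
  rw [← AlgHom.comp_apply, ← Algebra.TensorProduct.map_id_comp, tmap_comp_single,
    Algebra.TensorProduct.map_id_comp, AlgHom.comp_apply]

lemma tmap_comp_perm (σ : Equiv.Perm (Fin d)) :
    (SymTen.tmap A d f).comp (SymTen.perm A P d σ) =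
      (SymTen.perm A P' d σ).comp (SymTen.tmap A d f) := by
  apply AlgHom.ext
  intro t
  rw [AlgHom.comp_apply, AlgHom.comp_apply, SymTen.perm_apply, SymTen.tmap_reindex,
    ← SymTen.perm_apply]

lemma symmLaw_nat (S : Type u) [CommSemiring S] [Algebra A S] (z : S ⊗[A] (⨂[A] _ : Fin d, P)) :
    (SymTen.tmap A d f).toLinearMap.lTensor S ((SymTen.symmLaw A P d).law.toFun' S z) =
      (SymTen.symmLaw A P' d).law.toFun' S ((SymTen.tmap A d f).toLinearMap.lTensor S z) := by
  rw [PolLaw.lTensor_algHom_apply, PolLaw.lTensor_algHom_apply]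
  unfold SymTen.symmLaw
  rw [PolLaw.MulLaw.prodMap_toFun', PolLaw.MulLaw.prodMap_toFun', map_prod]
  refine Finset.prod_congr rfl (fun σ _ => ?_)
  rw [← AlgHom.comp_apply, ← Algebra.TensorProduct.map_id_comp, tmap_comp_perm,
    Algebra.TensorProduct.map_id_comp, AlgHom.comp_apply]

lemma val_comp_TSmap :
    (SymTen.TS A P' d).val.toLinearMap ∘ₗ (SymTen.TSmap A d f).toLinearMap =
      (SymTen.tmap A d f).toLinearMap ∘ₗ (SymTen.TS A P d).val.toLinearMap := by
  ext t
  rfl

variable {I I' : Type u} (e : Basis I A P) (e' : Basis I' A P')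

lemma τ_nat (S : Type u) [CommSemiring S] [Algebra A S] (x : S ⊗[A] P) :
    (SymTen.TSmap A d f).toLinearMap.lTensor S ((τ e d).law.toFun' S x) =
      (τ e' d).law.toFun' S (f.toLinearMap.lTensor S x) := by
  apply lTensor_val_injective e' d S
  rw [val_τ_apply, ← LinearMap.comp_apply, ← LinearMap.lTensor_comp, val_comp_TSmap,
    LinearMap.lTensor_comp, LinearMap.comp_apply, val_τ_apply, tpowLaw_nat]

lemma Nrm_nat (S : Type u) [CommSemiring S] [Algebra A S] (z : S ⊗[A] (⨂[A] _ : Fin d, P)) :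
    (SymTen.TSmap A d f).toLinearMap.lTensor S ((Nrm e d).law.toFun' S z) =
      (Nrm e' d).law.toFun' S ((SymTen.tmap A d f).toLinearMap.lTensor S z) := by
  apply lTensor_val_injective e' d S
  rw [val_Nrm_apply, ← LinearMap.comp_apply, ← LinearMap.lTensor_comp, val_comp_TSmap,
    LinearMap.lTensor_comp, LinearMap.comp_apply, val_Nrm_apply, symmLaw_nat]

end naturality

section kernel

variable {P B : Type u} [CommRing P] [Algebra A P] [CommRing B] [Algebra A B] (d : ℕ)

lemma tmap_surjective (π : P →ₐ[A] B) (hπ : Function.Surjective π) :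
    Function.Surjective (SymTen.tmap A d π) := by
  have : LinearMap.range (SymTen.tmap A d π).toLinearMap = ⊤ := by
    rw [eq_top_iff, ← PiTensorProduct.span_tprod_eq_top, Submodule.span_le]
    rintro _ ⟨b, rfl⟩
    choose p hp using fun j => hπ (b j)
    refine ⟨PiTensorProduct.tprod A p, ?_⟩
    rw [AlgHom.toLinearMap_apply, SymTen.tmap_tprod]
    congr 1
    funext j
    exact hp j
  intro y
  have hy : y ∈ LinearMap.range (SymTen.tmap A d π).toLinearMap := by
    rw [this]
    trivial
  obtain ⟨x, hx⟩ := hy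
  exact ⟨x, hx⟩

/-- the kernel of `T^d π` is generated by the kernel of `π` placed in one slot. -/
theorem mem_of_tmap_eq_zero (π : P →ₐ[A] B) (hπ : Function.Surjective π)
    (K : Ideal (⨂[A] _ : Fin d, P))
    (hK : ∀ (j : Fin d) (a : P), π a = 0 →
      PiTensorProduct.singleAlgHom (R := A) (A := fun _ : Fin d => P) j a ∈ K)
    (z : ⨂[A] _ : Fin d, P) (hz : SymTen.tmap A d π z = 0) : z ∈ K := by
  classical
  let mk : (⨂[A] _ : Fin d, P) →ₐ[A] ((⨂[A] _ : Fin d, P) ⧸ K) := Ideal.Quotient.mkₐ A K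
  let ι : Fin d → (P →ₐ[A] ⨂[A] _ : Fin d, P) :=
    fun j => PiTensorProduct.singleAlgHom (R := A) (A := fun _ : Fin d => P) j
  have hker : ∀ j, RingHom.ker π.toRingHom ≤ RingHom.ker (mk.comp (ι j)).toRingHom := by
    intro j a ha
    rw [RingHom.mem_ker] at ha ⊢
    show mk (ι j a) = 0
    exact Ideal.Quotient.eq_zero_iff_mem.mpr (hK j a ha)
  let f : Fin d → (B →ₐ[A] ((⨂[A] _ : Fin d, P) ⧸ K)) :=
    fun j => AlgHom.liftOfSurjective π hπ (mk.comp (ι j)) (hker j)
  have hf : ∀ j p, f j (π p) = mk (ι j p) :=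
    fun j p => AlgHom.liftOfSurjective_apply π hπ _ _ p
  let M : MultilinearMap A (fun _ : Fin d => B) ((⨂[A] _ : Fin d, P) ⧸ K) :=
    (MultilinearMap.mkPiAlgebra A (Fin d) ((⨂[A] _ : Fin d, P) ⧸ K)).compLinearMap
        (fun j => (f j).toLinearMap)
  have hM : ∀ b : Fin d → B, M b = ∏ j, f j (b j) := by
    intro b
    show (MultilinearMap.mkPiAlgebra A (Fin d) ((⨂[A] _ : Fin d, P) ⧸ K)).compLinearMap
        (fun j => (f j).toLinearMap) b = _
    rw [MultilinearMap.compLinearMap_apply, MultilinearMap.mkPiAlgebra_apply]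
    rfl
  let Φ : (⨂[A] _ : Fin d, B) →ₐ[A] ((⨂[A] _ : Fin d, P) ⧸ K) :=
    PiTensorProduct.liftAlgHom (R := A) (A := fun _ : Fin d => B) M
      (by
        rw [hM]
        simp)
      (by
        intro x y
        rw [hM, hM, hM, ← Finset.prod_mul_distrib]
        refine Finset.prod_congr rfl (fun j _ => ?_)
        rw [Pi.mul_apply, map_mul])
  have hΦ : Φ.comp (SymTen.tmap A d π) = mk := by
    apply PiTensorProduct.algHom_ext
    intro j
    ext p
    rw [AlgHom.comp_apply, AlgHom.comp_apply, AlgHom.comp_apply, tmap_single,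
      PiTensorProduct.singleAlgHom_apply]
    rw [show Φ = PiTensorProduct.liftAlgHom (R := A) (A := fun _ : Fin d => B) M _ _ from rfl,
      PiTensorProduct.liftAlgHom_apply, PiTensorProduct.lift.tprod, hM]
    rw [Finset.prod_eq_single j]
    · simp only [MonoidHom.mulSingle_apply, Pi.mulSingle_eq_same]
      exact hf j p
    · intro i _ hij
      simp only [MonoidHom.mulSingle_apply, Pi.mulSingle_eq_of_ne hij, map_one]
    · intro h
      exact absurd (Finset.mem_univ j) h
  have h1 : mk z = 0 := by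
    rw [← hΦ, AlgHom.comp_apply, hz, map_zero]
  exact Ideal.Quotient.eq_zero_iff_mem.mp h1

end kernel

section twoMaps

variable {P P'' C : Type u} [CommRing P] [Algebra A P] [CommRing P''] [Algebra A P'']
  [CommRing C] [Algebra A C] {I I'' : Type u} (e : Basis I A P) (e'' : Basis I'' A P'') (d : ℕ)

lemma tmap_comp_tmap_eq_id (p : P'' →ₐ[A] P) (s : P →ₐ[A] P'') (hps : p.comp s = AlgHom.id A P)
    (t : ⨂[A] _ : Fin d, P) : SymTen.tmap A d p (SymTen.tmap A d s t) = t := by
  have : (SymTen.tmap A d p).comp (SymTen.tmap A d s) = AlgHom.id A _ := by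
    apply PiTensorProduct.algHom_ext
    intro j
    ext q
    rw [AlgHom.comp_apply, AlgHom.comp_apply, tmap_single, tmap_single, AlgHom.comp_apply,
      AlgHom.id_apply]
    have := congrArg (fun g : P →ₐ[A] P => g q) hps
    simp only [AlgHom.comp_apply, AlgHom.id_apply] at this
    rw [this]
  exact congrArg (fun g : (⨂[A] _ : Fin d, P) →ₐ[A] (⨂[A] _ : Fin d, P) => g t) this

include e'' in
/-- if `h ∘ TS(p₁) = h ∘ TS(p₂)` for two retractions `p₁, p₂ : P'' → P` of `s : P → P''`, then the
law `h ∘ Nrm` does not distinguish `ι_j (p₁ Y)` from `ι_j (p₂ Y)`. -/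
theorem norm_indep (p₁ p₂ : P'' →ₐ[A] P) (s : P →ₐ[A] P'')
    (h1 : p₁.comp s = AlgHom.id A P) (h2 : p₂.comp s = AlgHom.id A P)
    (h : SymTen.TS A P d →ₐ[A] C)
    (hh : h.comp (SymTen.TSmap A d p₁) = h.comp (SymTen.TSmap A d p₂))
    (Y : P'') (j : Fin d) (S : Type u) [CommSemiring S] [Algebra A S]
    (x w : S ⊗[A] (⨂[A] _ : Fin d, P)) :
    h.toLinearMap.lTensor S ((Nrm e d).law.toFun' S (x + w * ((1 : S) ⊗ₜ[A]
      PiTensorProduct.singleAlgHom (R := A) (A := fun _ : Fin d => P) j (p₁ Y)))) =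
    h.toLinearMap.lTensor S ((Nrm e d).law.toFun' S (x + w * ((1 : S) ⊗ₜ[A]
      PiTensorProduct.singleAlgHom (R := A) (A := fun _ : Fin d => P) j (p₂ Y)))) := by
  let xh : S ⊗[A] (⨂[A] _ : Fin d, P'') :=
    (SymTen.tmap A d s).toLinearMap.lTensor S x + (SymTen.tmap A d s).toLinearMap.lTensor S w *
      ((1 : S) ⊗ₜ[A] PiTensorProduct.singleAlgHom (R := A) (A := fun _ : Fin d => P'') j Y)
  have hx : ∀ (p : P'' →ₐ[A] P), p.comp s = AlgHom.id A P →
      (SymTen.tmap A d p).toLinearMap.lTensor S xh = x + w * ((1 : S) ⊗ₜ[A]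
        PiTensorProduct.singleAlgHom (R := A) (A := fun _ : Fin d => P) j (p Y)) := by
    intro p hp
    have hid : ∀ y : S ⊗[A] (⨂[A] _ : Fin d, P),
        (SymTen.tmap A d p).toLinearMap.lTensor S ((SymTen.tmap A d s).toLinearMap.lTensor S y) =
          y := by
      intro y
      induction y using TensorProduct.induction_on with
      | zero => simp
      | tmul a t =>
        rw [LinearMap.lTensor_tmul, LinearMap.lTensor_tmul, AlgHom.toLinearMap_apply,
          AlgHom.toLinearMap_apply, tmap_comp_tmap_eq_id d p s hp]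
      | add a b ha hb => simp only [map_add, ha, hb]
    show (SymTen.tmap A d p).toLinearMap.lTensor S
      ((SymTen.tmap A d s).toLinearMap.lTensor S x + (SymTen.tmap A d s).toLinearMap.lTensor S w *
        ((1 : S) ⊗ₜ[A] PiTensorProduct.singleAlgHom (R := A) (A := fun _ : Fin d => P'') j Y)) = _
    rw [map_add, hid x]
    congr 1
    rw [PolLaw.lTensor_algHom_apply, map_mul, ← PolLaw.lTensor_algHom_apply, hid w,
      Algebra.TensorProduct.map_tmul, AlgHom.id_apply, tmap_single]
  have hN : ∀ (p : P'' →ₐ[A] P), h.toLinearMap.lTensor S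
      ((Nrm e d).law.toFun' S ((SymTen.tmap A d p).toLinearMap.lTensor S xh)) =
      (h.comp (SymTen.TSmap A d p)).toLinearMap.lTensor S ((Nrm e'' d).law.toFun' S xh) := by
    intro p
    rw [← Nrm_nat d p e'' e, AlgHom.comp_toLinearMap, LinearMap.lTensor_comp,
      LinearMap.comp_apply]
  rw [← hx p₁ h1, ← hx p₂ h2, hN p₁, hN p₂, hh]

end twoMaps

section main

variable {B C : Type u} [CommRing B] [Algebra A B] [CommRing C] [Algebra A C] (d : ℕ)
  (γ : PolLaw.MulLaw A B C d) (hγ : PolLaw.IsGammaD γ) (φ : C →ₐ[A] SymTen.TS A B d)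
  (hφ : ∀ (S : Type u) [CommSemiring S] [Algebra A S] (n : ℕ) (s : Fin n → S) (b : Fin n → B),
      ((SymTen.TS A B d).val.comp φ).toLinearMap.lTensor S
        (γ.law.toFun' S (∑ j, s j ⊗ₜ[A] b j)) =
        ∑ c : Fin d → Fin n, (∏ i, s (c i)) ⊗ₜ[A] PiTensorProduct.tprod A (fun i => b (c i)))

include hγ hφ in
/-- the norm law `T^d_A(B) → Γ^d_A(B)`. -/
theorem exists_FT : ∃ FT : PolLaw.MulLaw A (⨂[A] _ : Fin d, B) C d.factorial,
    (∀ (S : Type u) [CommSemiring S] [Algebra A S] (w : S ⊗[A] (⨂[A] _ : Fin d, B)),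
       ((SymTen.TS A B d).val.comp φ).toLinearMap.lTensor S (FT.law.toFun' S w) =
         (SymTen.symmLaw A B d).law.toFun' S w) ∧
    (∀ (S : Type u) [CommSemiring S] [Algebra A S] (c : S ⊗[A] C),
       FT.law.toFun' S (((SymTen.TS A B d).val.comp φ).toLinearMap.lTensor S c) =
         c ^ d.factorial) := by
  classical
  -- free presentation
  let e : Basis (B →₀ ℕ) A (MvPolynomial B A) := MvPolynomial.basisMonomials B A
  let π : MvPolynomial B A →ₐ[A] B := MvPolynomial.aeval id
  have hπ : Function.Surjective π := fun b => ⟨MvPolynomial.X b, by simp [π]⟩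
  -- the comparison map h
  obtain ⟨h, hh, -⟩ := isGammaD_τ e d C (γ.precomp π)
  have hh' : ∀ (S : Type u) [CommSemiring S] [Algebra A S] (x : S ⊗[A] MvPolynomial B A),
      h.toLinearMap.lTensor S ((τ e d).law.toFun' S x) =
        γ.law.toFun' S (π.toLinearMap.lTensor S x) := by
    intro S _ _ x
    exact congrArg (fun L : MvPolynomial B A →ₚₗ[A] C => L.toFun' S x) hh
  have hsurj : Function.Surjective h := surjective_of_law_factor (τ e d) γ hγ π hπ h hh
  have hφ' : ∀ (S : Type u) [CommSemiring S] [Algebra A S] (x : S ⊗[A] B),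
      ((SymTen.TS A B d).val.comp φ).toLinearMap.lTensor S (γ.law.toFun' S x) =
        (SymTen.tpowLaw A B d).law.toFun' S x := by
    intro S _ _ x
    obtain ⟨n, s, b, rfl⟩ := exists_fin_sum x
    rw [hφ S n s b, Groth.Agent.Lib.Helper22.SymTenFree.tpowLaw_sum]
  -- φ ∘ h = TS(π), after inclusion into the tensor power
  have hφh : ((SymTen.TS A B d).val.comp φ).comp h =
      (SymTen.tmap A d π).comp (SymTen.TS A (MvPolynomial B A) d).val := by
    obtain ⟨f₀, -, huniq⟩ := isGammaD_τ e d (⨂[A] _ : Fin d, B) ((SymTen.tpowLaw A B d).precomp π)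
    have h1 : ((SymTen.TS A B d).val.comp φ).comp h = f₀ := huniq _ (by
      apply PolynomialLaw.ext
      funext S _ _ x
      show (((SymTen.TS A B d).val.comp φ).comp h).toLinearMap.lTensor S
        ((τ e d).law.toFun' S x) = (SymTen.tpowLaw A B d).law.toFun' S (π.toLinearMap.lTensor S x)
      rw [AlgHom.comp_toLinearMap, LinearMap.lTensor_comp, LinearMap.comp_apply, hh', hφ'])
    have h2 : (SymTen.tmap A d π).comp (SymTen.TS A (MvPolynomial B A) d).val = f₀ := huniq _ (by
      apply PolynomialLaw.ext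
      funext S _ _ x
      show ((SymTen.tmap A d π).comp (SymTen.TS A (MvPolynomial B A) d).val).toLinearMap.lTensor S
        ((τ e d).law.toFun' S x) = (SymTen.tpowLaw A B d).law.toFun' S (π.toLinearMap.lTensor S x)
      rw [AlgHom.comp_toLinearMap, LinearMap.lTensor_comp, LinearMap.comp_apply, val_τ_apply,
        tpowLaw_nat])
    rw [h1, h2]
  -- the law G on the tensor power of the presentation
  let G : PolLaw.MulLaw A (⨂[A] _ : Fin d, MvPolynomial B A) C d.factorial := (Nrm e d).postcomp h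
  have hG : ∀ (S : Type u) [CommSemiring S] [Algebra A S]
      (z : S ⊗[A] (⨂[A] _ : Fin d, MvPolynomial B A)),
      G.law.toFun' S z = h.toLinearMap.lTensor S ((Nrm e d).law.toFun' S z) := fun _ _ _ _ => rfl
  have htπ : Function.Surjective (SymTen.tmap A d π) := tmap_surjective d π hπ
  -- kernel condition
  have hker : KerCond G.law (SymTen.tmap A d π) := by
    intro z hz
    have hmem : z ∈ PolLaw.ker G.law := by
      refine mem_of_tmap_eq_zero d π hπ (PolLaw.ker G.law) (fun j a ha => ?_) z hz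
      -- second presentation with one more variable
      let e'' : Basis (Option B →₀ ℕ) A (MvPolynomial (Option B) A) :=
        MvPolynomial.basisMonomials (Option B) A
      let p₁ : MvPolynomial (Option B) A →ₐ[A] MvPolynomial B A :=
        MvPolynomial.aeval (fun o => Option.elim o a MvPolynomial.X)
      let p₂ : MvPolynomial (Option B) A →ₐ[A] MvPolynomial B A :=
        MvPolynomial.aeval (fun o => Option.elim o 0 MvPolynomial.X)
      let s : MvPolynomial B A →ₐ[A] MvPolynomial (Option B) A := MvPolynomial.rename some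
      have hp1 : p₁.comp s = AlgHom.id A _ := by
        apply MvPolynomial.algHom_ext
        intro b
        simp [p₁, s]
      have hp2 : p₂.comp s = AlgHom.id A _ := by
        apply MvPolynomial.algHom_ext
        intro b
        simp [p₂, s]
      have hππ : π.comp p₁ = π.comp p₂ := by
        apply MvPolynomial.algHom_ext
        intro o
        cases o with
        | none => simp [p₁, p₂, ha]
        | some b => simp [p₁, p₂]
      have hhh : h.comp (SymTen.TSmap A d p₁) = h.comp (SymTen.TSmap A d p₂) := by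
        obtain ⟨f₀, -, huniq⟩ := isGammaD_τ e'' d C (γ.precomp (π.comp p₁))
        have hcomp : ∀ (p : MvPolynomial (Option B) A →ₐ[A] MvPolynomial B A),
            π.comp p = π.comp p₁ → h.comp (SymTen.TSmap A d p) = f₀ := by
          intro p hp
          apply huniq
          apply PolynomialLaw.ext
          funext S _ _ x
          show (h.comp (SymTen.TSmap A d p)).toLinearMap.lTensor S ((τ e'' d).law.toFun' S x) =
            γ.law.toFun' S ((π.comp p₁).toLinearMap.lTensor S x)
          rw [AlgHom.comp_toLinearMap, LinearMap.lTensor_comp, LinearMap.comp_apply,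
            τ_nat d p e'' e, hh', ← LinearMap.comp_apply, ← LinearMap.lTensor_comp,
            ← AlgHom.comp_toLinearMap, hp]
        rw [hcomp p₁ rfl, hcomp p₂ hππ.symm]
      rw [mem_ker_iff]
      intro S _ _ x w
      have key := norm_indep e e'' d p₁ p₂ s hp1 hp2 h hhh (MvPolynomial.X none) j S x w
      have e1 : p₁ (MvPolynomial.X none) = a := by simp [p₁]
      have e2 : p₂ (MvPolynomial.X none) = 0 := by simp [p₂]
      rw [e1, e2, map_zero, TensorProduct.tmul_zero, mul_zero, add_zero] at key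
      rw [hG, hG]
      exact key
    exact hmem
  -- the descended law
  let FT : PolLaw.MulLaw A (⨂[A] _ : Fin d, B) C d.factorial :=
    descendMul G (SymTen.tmap A d π) htπ hker
  have hFT : ∀ (S : Type u) [CommSemiring S] [Algebra A S]
      (z : S ⊗[A] (⨂[A] _ : Fin d, MvPolynomial B A)),
      FT.law.toFun' S ((SymTen.tmap A d π).toLinearMap.lTensor S z) =
        h.toLinearMap.lTensor S ((Nrm e d).law.toFun' S z) := by
    intro S _ _ z
    rw [descendMul_apply, hG]
  refine ⟨FT, ?_, ?_⟩
  · intro S _ _ w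
    obtain ⟨w', rfl⟩ := LinearMap.lTensor_surjective S (g := (SymTen.tmap A d π).toLinearMap) htπ w
    rw [hFT, ← LinearMap.comp_apply, ← LinearMap.lTensor_comp, ← AlgHom.comp_toLinearMap, hφh,
      AlgHom.comp_toLinearMap, LinearMap.lTensor_comp, LinearMap.comp_apply, val_Nrm_apply,
      symmLaw_nat]
  · intro S _ _ c
    obtain ⟨c', rfl⟩ := LinearMap.lTensor_surjective S (g := h.toLinearMap) hsurj c
    rw [← LinearMap.comp_apply, ← LinearMap.lTensor_comp, ← AlgHom.comp_toLinearMap, hφh,
      AlgHom.comp_toLinearMap, LinearMap.lTensor_comp, LinearMap.comp_apply, hFT]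
    have hN : (Nrm e d).law.toFun' S
        ((SymTen.TS A (MvPolynomial B A) d).val.toLinearMap.lTensor S c') = c' ^ d.factorial := by
      apply lTensor_val_injective e d S
      rw [val_Nrm_apply, symmLaw_val, PolLaw.lTensor_algHom_apply, PolLaw.lTensor_algHom_apply,
        map_pow]
    rw [hN, PolLaw.lTensor_algHom_apply, PolLaw.lTensor_algHom_apply, map_pow]

include hγ hφ in
/-- the law `TS^d_A(B) → Γ^d_A(B)` of degree `d!` inverse to `φ` up to `d!`-th powers. -/
theorem exists_F : ∃ F : PolLaw.MulLaw A (SymTen.TS A B d) C d.factorial,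
    PolLaw.MulLaw.postcomp φ F = PolLaw.MulLaw.pow A (SymTen.TS A B d) d.factorial ∧
    PolLaw.MulLaw.precomp F φ = PolLaw.MulLaw.pow A C d.factorial := by
  obtain ⟨FT, hQ1, hQ2⟩ := exists_FT d γ hγ φ hφ
  refine ⟨FT.precomp (SymTen.TS A B d).val, ?_, ?_⟩
  · apply PolLaw.MulLaw.ext
    apply Groth.Agent.Lib.Helper20.PolyLaw.law_ext
    intro n
    funext y
    show φ.toLinearMap.lTensor (MvPolynomial (Fin n) A)
      (FT.law.toFun' (MvPolynomial (Fin n) A)
        ((SymTen.TS A B d).val.toLinearMap.lTensor (MvPolynomial (Fin n) A) y)) =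
      y ^ d.factorial
    apply Module.Flat.lTensor_preserves_injective_linearMap (M := MvPolynomial (Fin n) A)
      (SymTen.TS A B d).val.toLinearMap Subtype.val_injective
    rw [← LinearMap.comp_apply, ← LinearMap.lTensor_comp, ← AlgHom.comp_toLinearMap, hQ1,
      symmLaw_val, PolLaw.lTensor_algHom_apply, PolLaw.lTensor_algHom_apply, map_pow]
  · apply PolLaw.MulLaw.ext
    apply PolynomialLaw.ext
    funext S _ _ c
    show FT.law.toFun' S ((SymTen.TS A B d).val.toLinearMap.lTensor S
      (φ.toLinearMap.lTensor S c)) = c ^ d.factorial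
    rw [← LinearMap.comp_apply, ← LinearMap.lTensor_comp, ← AlgHom.comp_toLinearMap]
    exact hQ2 S c

end main

end Groth.Agent.Lib.Helper24.GamDesc
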