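import Mathlib
import Groth.Prelude.Def_SymTen
import Groth.Prelude.Def_PolLaw2
import Groth.Agent.Lib.Helper24.GamCoef
import Groth.Agent.Lib.Helper24.GamFree
import Groth.Agent.Lib.Helper24.GamUniv
import Groth.Agent.Lib.Helper24.GamDesc

/-!
# `Γ^d_A(B)` is spanned by the coefficients of its universal law (helper24)

Consequences: `Γ^d_A(B)` is module-finite (resp. integral) over `A` when `B` is.
-/

set_option autoImplicit false

namespace Groth.Agent.Lib.Helper24.GamSpan

open scoped TensorProduct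
open Groth.Agent.Lib.Helper24.GamCoef Groth.Agent.Lib.Helper24.GamFree
  Groth.Agent.Lib.Helper24.GamUniv Groth.Agent.Lib.Helper24.GamDesc

universe u

variable {A : Type u} [CommRing A]

section coef

variable {I : Type u} {N : Type u} [AddCommGroup N] [Module A N]

lemma cf_lcoeff_sum (c : (I →₀ ℕ) →₀ N) (κ : I →₀ ℕ) :
    cf (MvPolynomial.lcoeff A κ)
      (c.sum fun k v => (MvPolynomial.basisMonomials I A k) ⊗ₜ[A] v) = c κ := by
  classical
  rw [Finsupp.sum, map_sum]
  simp only [MvPolynomial.coe_basisMonomials, cf_tmul, MvPolynomial.lcoeff_apply,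
    MvPolynomial.coeff_monomial, ite_smul, one_smul, zero_smul]
  rw [Finset.sum_ite_eq']
  split_ifs with h
  · rfl
  · exact (Finsupp.notMem_support_iff.mp h).symm

/-- the span of the monomial coefficients of `y₀`. -/
noncomputable def coefSpan (y₀ : MvPolynomial I A ⊗[A] N) : Submodule A N :=
  Submodule.span A (Set.range fun κ : I →₀ ℕ => cf (MvPolynomial.lcoeff A κ) y₀)

lemma cf_mem_coefSpan (y₀ : MvPolynomial I A ⊗[A] N) (l' : MvPolynomial I A →ₗ[A] A) :
    cf l' y₀ ∈ coefSpan y₀ := by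
  classical
  obtain ⟨c, hc⟩ := TensorProduct.eq_repr_basis_left (MvPolynomial.basisMonomials I A) y₀
  have hck : ∀ κ, cf (MvPolynomial.lcoeff A κ) y₀ = c κ := fun κ => by
    rw [← hc, cf_lcoeff_sum]
  have h2 : cf l' y₀ = ∑ k ∈ c.support, l' (MvPolynomial.basisMonomials I A k) • c k := by
    conv_lhs => rw [← hc]
    rw [Finsupp.sum, map_sum]
    simp only [cf_tmul]
  rw [h2]
  refine Submodule.sum_mem _ fun k _ => ?_
  exact Submodule.smul_mem _ _ (Submodule.subset_span ⟨k, hck k⟩)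

lemma coefSpan_fg (y₀ : MvPolynomial I A ⊗[A] N) : (coefSpan y₀).FG := by
  classical
  obtain ⟨c, hc⟩ := TensorProduct.eq_repr_basis_left (MvPolynomial.basisMonomials I A) y₀
  have hck : ∀ κ, cf (MvPolynomial.lcoeff A κ) y₀ = c κ := fun κ => by
    rw [← hc, cf_lcoeff_sum]
  have : coefSpan y₀ = Submodule.span A (↑(c.support.image c) : Set N) := by
    apply le_antisymm
    · apply Submodule.span_le.mpr
      rintro _ ⟨κ, rfl⟩
      show cf (MvPolynomial.lcoeff A κ) y₀ ∈ _
      rw [hck]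
      by_cases h : κ ∈ c.support
      · exact Submodule.subset_span (Finset.mem_coe.mpr (Finset.mem_image_of_mem c h))
      · rw [Finsupp.notMem_support_iff.mp h]
        exact Submodule.zero_mem _
    · apply Submodule.span_le.mpr
      intro n hn
      rw [Finset.mem_coe, Finset.mem_image] at hn
      obtain ⟨κ, -, rfl⟩ := hn
      exact Submodule.subset_span ⟨κ, hck κ⟩
  rw [this]
  exact Submodule.fg_span (Finset.finite_toSet _)

end coef

section points

variable {B : Type u} [AddCommGroup B] [Module A B] {S : Type u} [CommSemiring S] [Algebra A S]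

/-- a point supported on elements of the span of `J₀` can be rewritten as a point supported on
`J₀`. -/
lemma exists_fun_of_mem {ι : Type*} (J : Finset ι) (s' : ι → S) (m : ι → B) (J₀ : Finset B)
    (hm : ∀ i ∈ J, m i ∈ Submodule.span A (↑J₀ : Set B)) :
    ∃ s : B → S, ∑ i ∈ J, s' i ⊗ₜ[A] m i = ∑ b ∈ J₀, s b ⊗ₜ[A] b := by
  classical
  induction J using Finset.induction_on with
  | empty => exact ⟨fun _ => 0, by simp⟩
  | insert i J hi ih =>
    obtain ⟨s, hs⟩ := ih (fun j hj => hm j (Finset.mem_insert_of_mem hj))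
    obtain ⟨f, -, hf⟩ := Submodule.mem_span_finset.mp (hm i (Finset.mem_insert_self i J))
    refine ⟨fun b => s b + f b • s' i, ?_⟩
    rw [Finset.sum_insert hi, hs]
    conv_lhs => rw [← hf]
    rw [TensorProduct.tmul_sum, ← Finset.sum_add_distrib]
    refine Finset.sum_congr rfl fun b _ => ?_
    rw [TensorProduct.add_tmul, TensorProduct.tmul_smul, TensorProduct.smul_tmul', add_comm]

end points

section law

variable {B C : Type u} [AddCommGroup B] [Module A B] [AddCommGroup C] [Module A C]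
  (G : B →ₚₗ[A] C)

/-- the span of the coefficients of `G` at the generic point supported on `J₀`. -/
noncomputable def N₀ (J₀ : Finset B) : Submodule A C :=
  coefSpan (G.toFun' (MvPolynomial B A) (gen (fun b : B => b) J₀))

lemma N₀_fg (J₀ : Finset B) : (N₀ G J₀).FG := coefSpan_fg _

lemma cf_mem_N₀ (J₀ : Finset B) {S : Type u} [CommSemiring S] [Algebra A S] (l : S →ₗ[A] A)
    (s : B → S) : cf l (G.toFun' S (∑ b ∈ J₀, s b ⊗ₜ[A] b)) ∈ N₀ G J₀ := by
  have h1 : (∑ b ∈ J₀, s b ⊗ₜ[A] b) =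
      (MvPolynomial.aeval s : MvPolynomial B A →ₐ[A] S).toLinearMap.rTensor B
        (gen (fun b : B => b) J₀) := (rTensor_aeval_gen (fun b : B => b) s J₀).symm
  rw [h1, ← PolynomialLaw.isCompat_apply', cf_rTensor]
  exact cf_mem_coefSpan _ _

lemma cf_mem_N₀' (J₀ : Finset B) {S : Type u} [CommSemiring S] [Algebra A S] (l : S →ₗ[A] A)
    {ι : Type*} (J : Finset ι) (s' : ι → S) (m : ι → B)
    (hm : ∀ i ∈ J, m i ∈ Submodule.span A (↑J₀ : Set B)) :
    cf l (G.toFun' S (∑ i ∈ J, s' i ⊗ₜ[A] m i)) ∈ N₀ G J₀ := by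
  obtain ⟨s, hs⟩ := exists_fun_of_mem J s' m J₀ hm
  rw [hs]
  exact cf_mem_N₀ G J₀ l s

end law

section mulLaw

variable {B C : Type u} [CommRing B] [Algebra A B] [CommRing C] [Algebra A C] {d : ℕ}
  (γ : PolLaw.MulLaw A B C d)

lemma one_mem_N₀ (J₀ : Finset B) (h1 : (1 : B) ∈ Submodule.span A (↑J₀ : Set B)) :
    (1 : C) ∈ N₀ γ.law J₀ := by
  have h := cf_mem_N₀' γ.law J₀ (LinearMap.id : A →ₗ[A] A) ({()} : Finset Unit)
    (fun _ => (1 : A)) (fun _ => (1 : B)) (fun _ _ => h1)
  rw [Finset.sum_singleton, ← Algebra.TensorProduct.one_def, (γ.mult A).1,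
    Algebra.TensorProduct.one_def, cf_tmul, LinearMap.id_apply, one_smul] at h
  exact h

lemma mul_mem_N₀ (J₀ : Finset B)
    (hmul : ∀ b ∈ J₀, ∀ b' ∈ J₀, b * b' ∈ Submodule.span A (↑J₀ : Set B)) :
    ∀ x y : C, x ∈ N₀ γ.law J₀ → y ∈ N₀ γ.law J₀ → x * y ∈ N₀ γ.law J₀ := by
  classical
  have key : ∀ κ κ' : B →₀ ℕ,
      cf (MvPolynomial.lcoeff A κ) (γ.law.toFun' (MvPolynomial B A) (gen (fun b : B => b) J₀)) *
      cf (MvPolynomial.lcoeff A κ') (γ.law.toFun' (MvPolynomial B A) (gen (fun b : B => b) J₀)) ∈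
        N₀ γ.law J₀ := by
    intro κ κ'
    rw [← cf_mul, PolynomialLaw.isCompat_apply', PolynomialLaw.isCompat_apply',
      ← (γ.mult (MvPolynomial B A ⊗[A] MvPolynomial B A)).2]
    have hpt : (Algebra.TensorProduct.includeLeft :
          MvPolynomial B A →ₐ[A] MvPolynomial B A ⊗[A] MvPolynomial B A).toLinearMap.rTensor B
          (gen (fun b : B => b) J₀) *
        (Algebra.TensorProduct.includeRight :
          MvPolynomial B A →ₐ[A] MvPolynomial B A ⊗[A] MvPolynomial B A).toLinearMap.rTensor B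
          (gen (fun b : B => b) J₀) =
        ∑ p ∈ J₀ ×ˢ J₀, ((MvPolynomial.X p.1 : MvPolynomial B A) ⊗ₜ[A]
          (MvPolynomial.X p.2 : MvPolynomial B A)) ⊗ₜ[A] (p.1 * p.2) := by
      unfold gen
      rw [map_sum, map_sum, Finset.sum_mul_sum, Finset.sum_product]
      refine Finset.sum_congr rfl fun b _ => Finset.sum_congr rfl fun b' _ => ?_
      rw [LinearMap.rTensor_tmul, LinearMap.rTensor_tmul, AlgHom.toLinearMap_apply,
        AlgHom.toLinearMap_apply, Algebra.TensorProduct.includeLeft_apply,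
        Algebra.TensorProduct.includeRight_apply, Algebra.TensorProduct.tmul_mul_tmul,
        Algebra.TensorProduct.tmul_mul_tmul, mul_one, one_mul]
    rw [hpt]
    refine cf_mem_N₀' γ.law J₀ _ (J₀ ×ˢ J₀) _ (fun p : B × B => p.1 * p.2) ?_
    intro p hp
    rw [Finset.mem_product] at hp
    exact hmul p.1 hp.1 p.2 hp.2
  have hle : N₀ γ.law J₀ * N₀ γ.law J₀ ≤ N₀ γ.law J₀ := by
    conv_lhs => unfold N₀ coefSpan
    rw [Submodule.span_mul_span, Submodule.span_le]
    rintro _ ⟨_, ⟨κ, rfl⟩, _, ⟨κ', rfl⟩, rfl⟩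
    exact key κ κ'
  intro x y hx hy
  exact hle (Submodule.mul_mem_mul hx hy)

variable (hγ : PolLaw.IsGammaD γ)

include hγ in
/-- `Γ^d_A(B)` is spanned by coefficients of its universal law. -/
theorem exists_family_span : ∃ m : (B →₀ ℕ) → B,
    Submodule.span A (Set.range fun κ : (B →₀ ℕ) →₀ ℕ => Gco m γ.law κ) = ⊤ := by
  classical
  let e : Module.Basis (B →₀ ℕ) A (MvPolynomial B A) := MvPolynomial.basisMonomials B A
  let π : MvPolynomial B A →ₐ[A] B := MvPolynomial.aeval id
  have hπ : Function.Surjective π := fun b => ⟨MvPolynomial.X b, by simp [π]⟩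
  obtain ⟨h, hh, -⟩ := isGammaD_τ e d C (γ.precomp π)
  have hh' : ∀ (S : Type u) [CommSemiring S] [Algebra A S] (x : S ⊗[A] MvPolynomial B A),
      h.toLinearMap.lTensor S ((τ e d).law.toFun' S x) =
        γ.law.toFun' S (π.toLinearMap.lTensor S x) := by
    intro S _ _ x
    exact congrArg (fun L : MvPolynomial B A →ₚₗ[A] C => L.toFun' S x) hh
  have hsurj : Function.Surjective h := surjective_of_law_factor (τ e d) γ hγ π hπ h hh
  refine ⟨fun k => π (e k), ?_⟩
  have hE : ∀ κ, h (E' e d κ) = Gco (fun k => π (e k)) γ.law κ := by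
    intro κ
    have h1 := cf_τ_gen e d κ.support κ
    rw [if_pos (Finset.Subset.refl _)] at h1
    rw [← h1, ← AlgHom.toLinearMap_apply, ← cf_lTensor, hh']
    unfold Gco
    congr 2
    unfold gen
    rw [map_sum]
    rfl
  rw [eq_top_iff]
  rintro c -
  obtain ⟨y, rfl⟩ := hsurj c
  have hy : y ∈ Submodule.span A (Set.range (E' e d)) := by
    rw [span_E']
    trivial
  induction hy using Submodule.span_induction with
  | mem y hy =>
    obtain ⟨κ, rfl⟩ := hy
    rw [hE]
    exact Submodule.subset_span ⟨κ, rfl⟩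
  | zero =>
    rw [map_zero]
    exact Submodule.zero_mem _
  | add y y' _ _ hy hy' =>
    rw [map_add]
    exact Submodule.add_mem _ hy hy'
  | smul a y _ hy =>
    rw [map_smul]
    exact Submodule.smul_mem _ a hy

include hγ in
/-- S13715. -/
theorem finite_of_isGammaD [Module.Finite A B] : Module.Finite A C := by
  obtain ⟨J₀, hJ₀⟩ := (Module.Finite.fg_top : (⊤ : Submodule A B).FG)
  obtain ⟨m, hm⟩ := exists_family_span γ hγ
  have htop : N₀ γ.law J₀ = ⊤ := by
    rw [eq_top_iff, ← hm, Submodule.span_le]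
    rintro _ ⟨κ, rfl⟩
    show Gco m γ.law κ ∈ N₀ γ.law J₀
    unfold Gco gen
    exact cf_mem_N₀' γ.law J₀ _ κ.support _ m (fun i _ => by rw [hJ₀]; trivial)
  exact ⟨by rw [← htop]; exact N₀_fg γ.law J₀⟩

include hγ in
/-- S13716. -/
theorem isIntegral_of_isGammaD [Algebra.IsIntegral A B] : Algebra.IsIntegral A C := by
  classical
  obtain ⟨m, hm⟩ := exists_family_span γ hγ
  have hG : ∀ κ : (B →₀ ℕ) →₀ ℕ, IsIntegral A (Gco m γ.law κ) := by
    intro κ
    let B' : Subalgebra A B := Algebra.adjoin A (↑(κ.support.image m) : Set B)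
    have hfg : (Subalgebra.toSubmodule B').FG :=
      fg_adjoin_of_finite (Finset.finite_toSet _) (fun x _ => Algebra.IsIntegral.isIntegral x)
    obtain ⟨J₀, hJ₀⟩ := hfg
    have hmem : ∀ b, b ∈ Submodule.span A (↑J₀ : Set B) ↔ b ∈ B' := by
      intro b
      rw [hJ₀]
      exact Iff.rfl
    have h1 : (1 : C) ∈ N₀ γ.law J₀ := one_mem_N₀ γ J₀ ((hmem 1).mpr (one_mem B'))
    have hmul := mul_mem_N₀ γ J₀ (fun b hb b' hb' => (hmem _).mpr
      (mul_mem ((hmem b).mp (Submodule.subset_span hb)) ((hmem b').mp (Submodule.subset_span hb'))))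
    let C₀ : Subalgebra A C := (N₀ γ.law J₀).toSubalgebra h1 hmul
    have hC₀ : (Subalgebra.toSubmodule C₀).FG := by
      rw [Submodule.toSubalgebra_toSubmodule]
      exact N₀_fg _ _
    refine IsIntegral.of_mem_of_fg C₀ hC₀ _ ?_
    show Gco m γ.law κ ∈ N₀ γ.law J₀
    unfold Gco gen
    exact cf_mem_N₀' γ.law J₀ _ κ.support _ m (fun i hi => (hmem _).mpr
      (Algebra.subset_adjoin (Finset.mem_coe.mpr (Finset.mem_image_of_mem m hi))))
  constructor
  intro c
  have hc : c ∈ Submodule.span A (Set.range fun κ : (B →₀ ℕ) →₀ ℕ => Gco m γ.law κ) := by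
    rw [hm]
    trivial
  induction hc using Submodule.span_induction with
  | mem y hy =>
    obtain ⟨κ, rfl⟩ := hy
    exact hG κ
  | zero => exact isIntegral_zero
  | add y y' _ _ hy hy' => exact hy.add hy'
  | smul a y _ hy => exact IsIntegral.smul (R := A) a hy

end mulLaw

end Groth.Agent.Lib.Helper24.GamSpan
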