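import Mathlib
import Groth.Prelude.Def_SymTen
import Groth.Prelude.Def_PolLaw2
import Groth.Agent.Lib.Helper20.PolLawKer
import Groth.Agent.Lib.Helper24.GamCoef
import Groth.Agent.Lib.Helper24.GamSpan
import Groth.Agent.Lib.Helper24.GamCH

/-!
# The characteristic polynomial of a multiplicative law is monic up to sign; integrality of the
image (helper24)
-/

set_option autoImplicit false

namespace Groth.Agent.Lib.Helper24.GamCH2

open scoped TensorProduct
open Groth.Agent.Lib.Helper24.GamCoef Groth.Agent.Lib.Helper24.GamSpan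
  Groth.Agent.Lib.Helper24.GamCH
open Groth.Agent.Lib.Helper20.PolLawKer

universe u

variable {A : Type u} [CommRing A]

lemma coeff_rid (u : Polynomial A ⊗[A] A) (k : ℕ) :
    (TensorProduct.rid A (Polynomial A) u).coeff k = cf (Polynomial.lcoeff A k) u := by
  induction u using TensorProduct.induction_on with
  | zero => simp
  | tmul f a =>
    rw [TensorProduct.rid_tmul, Polynomial.coeff_smul, cf_tmul, Polynomial.lcoeff_apply,
      smul_eq_mul, smul_eq_mul, mul_comm]
  | add x y hx hy => rw [map_add, Polynomial.coeff_add, hx, hy, map_add]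

lemma cf_eq_sum {I N : Type u} [AddCommGroup N] [Module A N] (y₀ : MvPolynomial I A ⊗[A] N) :
    ∃ s : Finset (I →₀ ℕ), ∀ s' : Finset (I →₀ ℕ), s ⊆ s' → ∀ l' : MvPolynomial I A →ₗ[A] A,
      cf l' y₀ = ∑ κ ∈ s', l' (MvPolynomial.monomial κ 1) • cf (MvPolynomial.lcoeff A κ) y₀ := by
  classical
  obtain ⟨c, hc⟩ := TensorProduct.eq_repr_basis_left (MvPolynomial.basisMonomials I A) y₀
  have hck : ∀ κ, cf (MvPolynomial.lcoeff A κ) y₀ = c κ := fun κ => by
    rw [← hc, cf_lcoeff_sum]
  refine ⟨c.support, fun s' hs' l' => ?_⟩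
  rw [← Finset.sum_subset hs' (fun κ _ hκ => by
    rw [hck, Finsupp.notMem_support_iff.mp hκ, smul_zero])]
  conv_lhs => rw [← hc]
  rw [Finsupp.sum, map_sum]
  refine Finset.sum_congr rfl fun κ _ => ?_
  rw [cf_tmul, hck]
  simp only [MvPolynomial.coe_basisMonomials]

variable {B : Type u} [CommRing B] [Algebra A B] {d : ℕ}

/-- the characteristic polynomial has degree `≤ d` and leading coefficient `(-1) ^ d`. -/
theorem charP_coeff (F : PolLaw.MulLaw A B A d) (b : B) :
    (charP F b).coeff d = (-1) ^ d ∧ ∀ k, d < k → (charP F b).coeff k = 0 := by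
  classical
  let m : B × Bool → B := Prod.fst
  let i₀ : B × Bool := (b, true)
  let i₁ : B × Bool := (1, false)
  have h01 : i₀ ≠ i₁ := fun h => Bool.noConfusion (congrArg Prod.snd h)
  let J : Finset (B × Bool) := {i₀, i₁}
  let f : B × Bool → Polynomial A := fun i => if i.2 then 1 else -Polynomial.X
  have hf0 : f i₀ = 1 := rfl
  have hf1 : f i₁ = -Polynomial.X := rfl
  let ψ : MvPolynomial (B × Bool) A →ₐ[A] Polynomial A := MvPolynomial.aeval f
  have hq : ψ.toLinearMap.rTensor B (gen m J) =
      (1 : Polynomial A) ⊗ₜ[A] b - Polynomial.X ⊗ₜ[A] (1 : B) := by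
    rw [rTensor_aeval_gen, Finset.sum_pair h01, hf0, hf1]
    show (1 : Polynomial A) ⊗ₜ[A] b + (-Polynomial.X) ⊗ₜ[A] (1 : B) = _
    rw [TensorProduct.neg_tmul, sub_eq_add_neg]
  have hχ : ∀ k, (charP F b).coeff k = cf (Polynomial.lcoeff A k ∘ₗ ψ.toLinearMap)
      (F.law.toFun' (MvPolynomial (B × Bool) A) (gen m J)) := by
    intro k
    unfold charP
    rw [coeff_rid, ← hq, ← PolynomialLaw.isCompat_apply', cf_rTensor]
  obtain ⟨s, hs⟩ := cf_eq_sum (F.law.toFun' (MvPolynomial (B × Bool) A) (gen m J))
  have hc0 : ∀ κ : B × Bool →₀ ℕ, κ.degree ≠ d →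
      cf (MvPolynomial.lcoeff A κ) (F.law.toFun' (MvPolynomial (B × Bool) A) (gen m J)) = 0 := by
    intro κ hκ
    by_cases hsub : κ.support ⊆ J
    · rw [cf_gen_of_subset m F.law J κ hsub]
      exact Gco_eq_zero_of_degree_ne m F.law F.homog κ hκ
    · exact cf_gen_of_not_subset m F.law J κ hsub
  have hdeg : ∀ κ : B × Bool →₀ ℕ, (ψ (MvPolynomial.monomial κ 1)).natDegree ≤ κ.degree := by
    intro κ
    rw [MvPolynomial.aeval_monomial, map_one, one_mul, Finsupp.prod]
    refine (Polynomial.natDegree_prod_le _ _).trans ?_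
    rw [Finsupp.degree_apply]
    refine Finset.sum_le_sum fun i _ => ?_
    refine (Polynomial.natDegree_pow_le).trans ?_
    have h1 : (f i).natDegree ≤ 1 := by
      show (if i.2 then (1 : Polynomial A) else -Polynomial.X).natDegree ≤ 1
      split_ifs
      · simp
      · rw [Polynomial.natDegree_neg]
        exact Polynomial.natDegree_X_le
    calc κ i * (f i).natDegree ≤ κ i * 1 := Nat.mul_le_mul_left _ h1
      _ = κ i := mul_one _
  have hψJ : ∀ κ : B × Bool →₀ ℕ, κ.support ⊆ J →
      ψ (MvPolynomial.monomial κ 1) = Polynomial.C ((-1) ^ κ i₁) * Polynomial.X ^ κ i₁ := by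
    intro κ hsub
    rw [MvPolynomial.aeval_monomial, map_one, one_mul,
      Finsupp.prod_of_support_subset κ hsub _ (fun i _ => pow_zero _), Finset.prod_pair h01, hf0,
      hf1, one_pow, one_mul, neg_pow, map_pow, map_neg, map_one]
  have hdegJ : ∀ κ : B × Bool →₀ ℕ, κ.support ⊆ J → κ.degree = κ i₀ + κ i₁ := by
    intro κ hsub
    rw [Finsupp.degree_apply, Finset.sum_subset hsub (fun i _ hi => Finsupp.notMem_support_iff.mp hi),
      Finset.sum_pair h01]
  constructor
  · rw [hχ, hs (insert (Finsupp.single i₁ d) s) (Finset.subset_insert _ _),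
      Finset.sum_eq_single (Finsupp.single i₁ d)]
    · have hsub1 : (Finsupp.single i₁ d).support ⊆ ({i₁} : Finset (B × Bool)) :=
        Finsupp.support_single_subset
      have hsubJ : (Finsupp.single i₁ d).support ⊆ J :=
        hsub1.trans (by intro i hi; rw [Finset.mem_singleton] at hi; rw [hi]; simp [J])
      have hgen : gen m ({i₁} : Finset (B × Bool)) =
          (MvPolynomial.X i₁ : MvPolynomial (B × Bool) A) • (1 : MvPolynomial (B × Bool) A ⊗[A] B) := by
        unfold gen
        rw [Finset.sum_singleton, Algebra.TensorProduct.one_def, TensorProduct.smul_tmul',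
          smul_eq_mul, mul_one]
      rw [cf_gen_of_subset m F.law J _ hsubJ, ← cf_gen_of_subset m F.law {i₁} _ hsub1, hgen,
        F.homog, (F.mult _).1, Algebra.TensorProduct.one_def, TensorProduct.smul_tmul', cf_tmul]
      simp only [smul_eq_mul, mul_one]
      rw [MvPolynomial.X_pow_eq_monomial, MvPolynomial.lcoeff_apply,
        MvPolynomial.coeff_monomial, if_pos rfl, mul_one, LinearMap.comp_apply,
        AlgHom.toLinearMap_apply, hψJ _ hsubJ, Polynomial.lcoeff_apply, Finsupp.single_eq_same,
        Polynomial.coeff_C_mul_X_pow, if_pos rfl]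
    · intro κ _ hκ
      by_cases hd : κ.degree = d
      · by_cases hsub : κ.support ⊆ J
        · have hne : κ i₁ ≠ d := by
            intro h1
            apply hκ
            have h0 : κ i₀ = 0 := by
              have := hdegJ κ hsub
              omega
            ext i
            by_cases hi1 : i = i₁
            · rw [hi1, Finsupp.single_eq_same, h1]
            · rw [Finsupp.single_apply, if_neg (Ne.symm hi1)]
              by_cases hi0 : i = i₀
              · rw [hi0, h0]
              · apply Finsupp.notMem_support_iff.mp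
                intro hi
                have := hsub hi
                simp only [J, Finset.mem_insert, Finset.mem_singleton] at this
                rcases this with h | h
                · exact hi0 h
                · exact hi1 h
          rw [LinearMap.comp_apply, AlgHom.toLinearMap_apply, hψJ κ hsub, Polynomial.lcoeff_apply,
            Polynomial.coeff_C_mul_X_pow, if_neg (fun h => hne h.symm), zero_smul]
        · rw [cf_gen_of_not_subset m F.law J κ hsub, smul_zero]
      · rw [hc0 κ hd, smul_zero]
    · intro h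
      exact absurd (Finset.mem_insert_self _ _) h
  · intro k hk
    rw [hχ, hs s (Finset.Subset.refl _)]
    refine Finset.sum_eq_zero fun κ _ => ?_
    by_cases hd : κ.degree = d
    · have h0 : (ψ (MvPolynomial.monomial κ 1)).coeff k = 0 :=
        Polynomial.coeff_eq_zero_of_natDegree_lt (lt_of_le_of_lt (hdeg κ) (hd ▸ hk))
      rw [LinearMap.comp_apply, AlgHom.toLinearMap_apply, Polynomial.lcoeff_apply, h0, zero_smul]
    · rw [hc0 κ hd, smul_zero]

/-- S13695. -/
theorem isIntegral_image (F : PolLaw.MulLaw A B A d) :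
    Algebra.IsIntegral A (PolLaw.image F.law) := by
  constructor
  intro x
  obtain ⟨b, rfl⟩ := Ideal.Quotient.mk_surjective x
  obtain ⟨h1, h2⟩ := charP_coeff F b
  have hp : (Polynomial.C ((-1 : A) ^ d) * charP F b).Monic := by
    apply Polynomial.monic_of_natDegree_le_of_coeff_eq_one d
    · rw [Polynomial.natDegree_le_iff_coeff_eq_zero]
      intro N hN
      rw [Polynomial.coeff_C_mul, h2 N hN, mul_zero]
    · rw [Polynomial.coeff_C_mul, h1, ← mul_pow]
      simp
  refine ⟨Polynomial.C ((-1 : A) ^ d) * charP F b, hp, ?_⟩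
  rw [← Polynomial.aeval_def]
  have h3 : Polynomial.aeval (Ideal.Quotient.mkₐ A (PolLaw.ker F.law) b)
      (Polynomial.C ((-1 : A) ^ d) * charP F b) =
      Ideal.Quotient.mkₐ A (PolLaw.ker F.law)
        (Polynomial.aeval b (Polynomial.C ((-1 : A) ^ d) * charP F b)) :=
    Polynomial.aeval_algHom_apply (Ideal.Quotient.mkₐ A (PolLaw.ker F.law)) b _
  show Polynomial.aeval (Ideal.Quotient.mkₐ A (PolLaw.ker F.law) b) _ = 0
  rw [h3]
  show Ideal.Quotient.mk (PolLaw.ker F.law) _ = 0
  rw [Ideal.Quotient.eq_zero_iff_mem, map_mul, Polynomial.aeval_C]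
  exact Ideal.mul_mem_left _ _ (CH F b)

end Groth.Agent.Lib.Helper24.GamCH2
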