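import Mathlib
import Groth.Prelude.Def_PolLaw
import Groth.Agent.Lib.Helper20.PolLawKer
import Groth.Agent.Lib.Helper24.GamDesc
import Groth.Agent.Lib.Helper24.GamCH2

/-!
# The image `B ⧸ ker F` of a multiplicative law over a domain is torsion free (helper24)

* `exists_lift2`: two points over a test algebra come from a polynomial ring.
* `mem_ker_of_smul_mem`: over a domain `A`, `a • b ∈ ker F` with `a ≠ 0` implies `b ∈ ker F`.
* `comap_minimal_eq_bot`, `exists_prime_over`: minimal primes over `ker F` contract to `0` and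
  every prime of `A` lifts to a prime containing a given minimal prime.
-/

set_option autoImplicit false

namespace Groth.Agent.Lib.Helper24.KerTF

open scoped TensorProduct
open Groth.Agent.Lib.Helper20.PolLawKer Groth.Agent.Lib.Helper24.GamDesc

universe u

variable {A : Type u} [CommRing A] {B : Type u} [CommRing B] [Algebra A B]

/-- two points over a test algebra come from a polynomial ring. -/
lemma exists_lift2 {S : Type u} [CommSemiring S] [Algebra A S] (x w : S ⊗[A] B) :
    ∃ (n : ℕ) (ψ : MvPolynomial (Fin n) A →ₐ[A] S) (x₀ w₀ : MvPolynomial (Fin n) A ⊗[A] B),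
      Algebra.TensorProduct.map ψ (AlgHom.id A B) x₀ = x ∧
      Algebra.TensorProduct.map ψ (AlgHom.id A B) w₀ = w := by
  obtain ⟨n, s, b, rfl⟩ := exists_fin_sum x
  obtain ⟨m, s', b', rfl⟩ := exists_fin_sum w
  refine ⟨n + m, MvPolynomial.aeval (Fin.append s s'),
    ∑ j, MvPolynomial.X (Fin.castAdd m j) ⊗ₜ[A] b j,
    ∑ j, MvPolynomial.X (Fin.natAdd n j) ⊗ₜ[A] b' j, ?_, ?_⟩
  · rw [map_sum]
    refine Finset.sum_congr rfl fun j _ => ?_
    rw [Algebra.TensorProduct.map_tmul, MvPolynomial.aeval_X, Fin.append_left, AlgHom.id_apply]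
  · rw [map_sum]
    refine Finset.sum_congr rfl fun j _ => ?_
    rw [Algebra.TensorProduct.map_tmul, MvPolynomial.aeval_X, Fin.append_right, AlgHom.id_apply]

/-- the kernel condition for `b` over a domain in which `a` stays nonzero, if `a • b ∈ ker F`. -/
lemma key_domain (F : B →ₚₗ[A] A) (a : A) (b : B) (hab : a • b ∈ PolLaw.ker F)
    (S : Type u) [CommRing S] [IsDomain S] [Algebra A S] (ha' : algebraMap A S a ≠ 0)
    (x w : S ⊗[A] B) :
    F.toFun' S (x + w * ((1 : S) ⊗ₜ[A] b)) = F.toFun' S x := by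
  have hσC : ((Polynomial.aeval (Polynomial.C (algebraMap A S a) * Polynomial.X) :
      Polynomial S →ₐ[S] Polynomial S).restrictScalars A).comp
      (Polynomial.CAlgHom : S →ₐ[A] Polynomial S) = Polynomial.CAlgHom := by
    ext s
    simp [Polynomial.CAlgHom]
  have hσX : ((Polynomial.aeval (Polynomial.C (algebraMap A S a) * Polynomial.X) :
      Polynomial S →ₐ[S] Polynomial S).restrictScalars A) Polynomial.X =
      Polynomial.C (algebraMap A S a) * Polynomial.X := by
    simp
  have hσy : Algebra.TensorProduct.map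
      ((Polynomial.aeval (Polynomial.C (algebraMap A S a) * Polynomial.X) :
        Polynomial S →ₐ[S] Polynomial S).restrictScalars A) (AlgHom.id A B)
      (Algebra.TensorProduct.map (Polynomial.CAlgHom : S →ₐ[A] Polynomial S) (AlgHom.id A B) x +
        ((Polynomial.X : Polynomial S) •
          Algebra.TensorProduct.map (Polynomial.CAlgHom : S →ₐ[A] Polynomial S) (AlgHom.id A B) w) *
          ((1 : Polynomial S) ⊗ₜ[A] b)) =
      Algebra.TensorProduct.map (Polynomial.CAlgHom : S →ₐ[A] Polynomial S) (AlgHom.id A B) x +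
        ((Polynomial.X : Polynomial S) •
          Algebra.TensorProduct.map (Polynomial.CAlgHom : S →ₐ[A] Polynomial S) (AlgHom.id A B) w) *
          ((1 : Polynomial S) ⊗ₜ[A] (a • b)) := by
    rw [map_add, map_mul, ← tmul_one_mul, map_mul, map_map_apply, map_map_apply, hσC,
      Algebra.TensorProduct.map_tmul, Algebra.TensorProduct.map_tmul, map_one, map_one,
      AlgHom.id_apply, hσX, tmul_one_mul, tmul_one_mul, TensorProduct.tmul_smul, mul_smul_comm,
      ← smul_mul_assoc, mul_smul, ← Polynomial.algebraMap_apply, algebraMap_smul]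
  have h1 := hab (Polynomial S)
    (Algebra.TensorProduct.map (Polynomial.CAlgHom : S →ₐ[A] Polynomial S) (AlgHom.id A B) x)
    ((Polynomial.X : Polynomial S) •
      Algebra.TensorProduct.map (Polynomial.CAlgHom : S →ₐ[A] Polynomial S) (AlgHom.id A B) w)
  have hσP := rid_rTensor ((Polynomial.aeval (Polynomial.C (algebraMap A S a) * Polynomial.X) :
      Polynomial S →ₐ[S] Polynomial S).restrictScalars A)
    (F.toFun' (Polynomial S)
      (Algebra.TensorProduct.map (Polynomial.CAlgHom : S →ₐ[A] Polynomial S) (AlgHom.id A B) x +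
        ((Polynomial.X : Polynomial S) •
          Algebra.TensorProduct.map (Polynomial.CAlgHom : S →ₐ[A] Polynomial S) (AlgHom.id A B) w) *
          ((1 : Polynomial S) ⊗ₜ[A] b)))
  rw [PolynomialLaw.isCompat_apply', rTensor_eq_map, hσy, h1, C_rid] at hσP
  obtain ⟨P, hP⟩ : ∃ P : Polynomial S, P = TensorProduct.rid A (Polynomial S)
      (F.toFun' (Polynomial S)
      (Algebra.TensorProduct.map (Polynomial.CAlgHom : S →ₐ[A] Polynomial S) (AlgHom.id A B) x +
        ((Polynomial.X : Polynomial S) •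
          Algebra.TensorProduct.map (Polynomial.CAlgHom : S →ₐ[A] Polynomial S) (AlgHom.id A B) w) *
          ((1 : Polynomial S) ⊗ₜ[A] b))) := ⟨_, rfl⟩
  rw [← hP] at hσP
  have hcomp : P.comp (Polynomial.C (algebraMap A S a) * Polynomial.X) =
      Polynomial.C (TensorProduct.rid A S (F.toFun' S x)) := by
    rw [hσP]
    rfl
  have hcoeff : ∀ j, P.coeff (j + 1) = 0 := by
    intro j
    have h := congrArg (fun p => Polynomial.coeff p (j + 1)) hcomp
    simp only [Polynomial.comp_C_mul_X_coeff, Polynomial.coeff_C_succ] at h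
    exact (mul_eq_zero.mp h).resolve_right (pow_ne_zero _ ha')
  have hPC : P = Polynomial.C (P.coeff 0) := by
    ext k
    cases k with
    | zero => simp
    | succ j => rw [hcoeff, Polynomial.coeff_C_succ]
  have e1 : P.eval 1 = TensorProduct.rid A S (F.toFun' S (x + w * ((1 : S) ⊗ₜ[A] b))) := by
    rw [hP, eval_rid, evB_univ, one_smul]
  have e0 : P.eval 0 = TensorProduct.rid A S (F.toFun' S x) := by
    rw [hP, eval_rid, evB_univ, zero_smul, zero_mul, add_zero]
  apply (TensorProduct.rid A S).injective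
  rw [← e1, ← e0, hPC, Polynomial.eval_C, Polynomial.eval_C]

/-- Over a domain, `B ⧸ ker F` is torsion free. -/
theorem mem_ker_of_smul_mem [IsDomain A] (F : B →ₚₗ[A] A) (a : A) (ha : a ≠ 0) (b : B)
    (hab : a • b ∈ PolLaw.ker F) : b ∈ PolLaw.ker F := by
  rw [mem_ker_iff]
  intro S _ _ x w
  obtain ⟨n, ψ, x₀, w₀, rfl, rfl⟩ := exists_lift2 x w
  have h := key_domain F a b hab (MvPolynomial (Fin n) A)
    (by
      rw [MvPolynomial.algebraMap_eq]
      exact (map_ne_zero_iff _ (MvPolynomial.C_injective _ _)).mpr ha) x₀ w₀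
  have h2 := congrArg (ψ.toLinearMap.rTensor A) h
  rw [PolynomialLaw.isCompat_apply', PolynomialLaw.isCompat_apply', rTensor_eq_map,
    rTensor_eq_map, map_add, map_mul, Algebra.TensorProduct.map_tmul, map_one,
    AlgHom.id_apply] at h2
  exact h2

section minimal

variable [IsDomain A] {d : ℕ} (F : PolLaw.MulLaw A B A d)

/-- minimal primes of `B ⧸ ker F` contract to zero. -/
theorem comap_minimal_quot_eq_bot {P' : Ideal (B ⧸ PolLaw.ker F.law)}
    (hP' : P' ∈ minimalPrimes (B ⧸ PolLaw.ker F.law)) :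
    P'.comap (algebraMap A (B ⧸ PolLaw.ker F.law)) = ⊥ := by
  rw [eq_bot_iff]
  intro a ha
  rw [Ideal.mem_bot]
  by_contra hne
  have hmem : algebraMap A (B ⧸ PolLaw.ker F.law) a ∈ P' := ha
  refine Set.disjoint_left.mp (Ideal.disjoint_nonZeroDivisors_of_mem_minimalPrimes hP') hmem ?_
  rw [SetLike.mem_coe, mem_nonZeroDivisors_iff_right]
  intro z hz
  obtain ⟨z, rfl⟩ := Ideal.Quotient.mk_surjective z
  have hz' : Ideal.Quotient.mk (PolLaw.ker F.law) (z * algebraMap A B a) = 0 := by
    rw [map_mul]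
    exact hz
  rw [Ideal.Quotient.eq_zero_iff_mem] at hz' ⊢
  apply mem_ker_of_smul_mem F.law a hne z
  rw [Algebra.smul_def, mul_comm]
  exact hz'

/-- S13703. -/
theorem minimal_over_ker {P : Ideal B} (hP : P ∈ (PolLaw.ker F.law).minimalPrimes) :
    P.comap (algebraMap A B) = ⊥ ∧
      ∀ q : Ideal A, q.IsPrime → ∃ Q : Ideal B, Q.IsPrime ∧ P ≤ Q ∧ Q.comap (algebraMap A B) = q := by
  haveI hI : Algebra.IsIntegral A (B ⧸ PolLaw.ker F.law) :=
    Groth.Agent.Lib.Helper24.GamCH2.isIntegral_image F
  rw [Ideal.minimalPrimes_eq_comap] at hP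
  obtain ⟨P', hP', rfl⟩ := hP
  have hbot := comap_minimal_quot_eq_bot F hP'
  refine ⟨?_, fun q hq => ?_⟩
  · rw [Ideal.comap_comap]
    exact hbot
  · haveI := hq
    obtain ⟨Q', hle, hQ'prime, hQ'⟩ := Ideal.exists_ideal_over_prime_of_isIntegral q P'
      (by rw [hbot]; exact bot_le)
    haveI := hQ'prime
    refine ⟨Q'.comap (Ideal.Quotient.mk _), Ideal.comap_isPrime _ _, Ideal.comap_mono hle, ?_⟩
    rw [Ideal.comap_comap]
    exact hQ'

end minimal

end Groth.Agent.Lib.Helper24.KerTF
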