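import Mathlib
import Groth.Prelude.Def_PolLaw2
import Groth.Agent.Lib.Helper20.PolyLaw
import Groth.Agent.Lib.Helper24.KerTF
import Groth.Agent.Lib.Helper24.KerChar0

/-!
# A multiplicative law `B → A` from a natural family of maps on polynomial rings (helper24)

A family `c k : A[t_1..t_k] ⊗ B → A[t_1..t_k]` natural in algebra maps between polynomial rings
gives a polynomial law `B → A`; if the `c k` are multiplicative and `c k (t ⊗ 1) = t ^ d` then the
law is multiplicative and homogeneous of degree `d`.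
-/

set_option autoImplicit false

namespace Groth.Agent.Lib.Helper24.LawFam

open scoped TensorProduct
open Groth.Agent.Lib.Helper20.PolLawKer Groth.Agent.Lib.Helper20.PolyLaw
  Groth.Agent.Lib.Helper24.KerChar0 Groth.Agent.Lib.Helper24.KerTF

universe u

variable {A : Type u} [CommRing A] {B : Type u} [CommRing B] [Algebra A B]

/-- naturality of a family of maps on polynomial rings. -/
def IsNat (c : ∀ k : ℕ, MvPolynomial (Fin k) A ⊗[A] B → MvPolynomial (Fin k) A) : Prop :=
  ∀ (k m : ℕ) (φ : MvPolynomial (Fin k) A →ₐ[A] MvPolynomial (Fin m) A)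
    (x : MvPolynomial (Fin k) A ⊗[A] B),
    c m (Algebra.TensorProduct.map φ (AlgHom.id A B) x) = φ (c k x)

variable (c : ∀ k : ℕ, MvPolynomial (Fin k) A ⊗[A] B → MvPolynomial (Fin k) A)

/-- the family with values in `A[t] ⊗ A`. -/
noncomputable def Tfam (k : ℕ) (x : MvPolynomial (Fin k) A ⊗[A] B) :
    MvPolynomial (Fin k) A ⊗[A] A :=
  c k x ⊗ₜ[A] (1 : A)

lemma Tfam_compat (hc : IsNat c) : Compat (Tfam c) := by
  intro k m φ
  funext x
  simp only [Function.comp_apply]
  unfold Tfam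
  rw [LinearMap.rTensor_tmul, AlgHom.toLinearMap_apply, rTensor_eq_map, hc]

/-- the law of a natural family. -/
noncomputable def law (hc : IsNat c) : B →ₚₗ[A] A := lawOf (Tfam c) (Tfam_compat c hc)

variable {c}

lemma law_map (hc : IsNat c) {S : Type u} [CommSemiring S] [Algebra A S] {k : ℕ}
    (ψ : MvPolynomial (Fin k) A →ₐ[A] S) (q : MvPolynomial (Fin k) A ⊗[A] B) :
    (law c hc).toFun' S (Algebra.TensorProduct.map ψ (AlgHom.id A B) q) =
      ψ (c k q) ⊗ₜ[A] (1 : A) := by
  rw [← rTensor_eq_map]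
  unfold law
  rw [lawOf_apply]
  unfold Tfam
  rw [LinearMap.rTensor_tmul, AlgHom.toLinearMap_apply]

lemma law_poly (hc : IsNat c) (k : ℕ) (x : MvPolynomial (Fin k) A ⊗[A] B) :
    (law c hc).toFun' (MvPolynomial (Fin k) A) x = c k x ⊗ₜ[A] (1 : A) := by
  unfold law
  rw [lawOf_restrict]
  rfl

theorem law_isMult (hc : IsNat c) (h1 : ∀ k, c k 1 = 1)
    (hmul : ∀ k x y, c k (x * y) = c k x * c k y) : PolLaw.IsMult (law c hc) := by
  intro S _ _
  constructor
  · have e : (1 : S ⊗[A] B) = Algebra.TensorProduct.map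
        (MvPolynomial.aeval (Fin.elim0 : Fin 0 → S) : MvPolynomial (Fin 0) A →ₐ[A] S)
        (AlgHom.id A B) 1 := (map_one _).symm
    rw [e, law_map, h1, map_one]
    rfl
  · intro x y
    obtain ⟨k, ψ, x₀, y₀, rfl, rfl⟩ := exists_lift2 x y
    rw [← map_mul, law_map, law_map, law_map, hmul, map_mul,
      Algebra.TensorProduct.tmul_mul_tmul, mul_one]

theorem law_isHomog (hc : IsNat c) (hmul : ∀ k x y, c k (x * y) = c k x * c k y) {d : ℕ}
    (hs : ∀ k (t : MvPolynomial (Fin k) A), c k (t ⊗ₜ[A] (1 : B)) = t ^ d) :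
    PolLaw.IsHomog (law c hc) d := by
  intro S _ _ s x
  obtain ⟨k, ψ, q, t, rfl, rfl⟩ := PolynomialLaw.exists_lift' (R := A) x s
  rw [rTensor_eq_map, ← map_smul_left, law_map, law_map, ← tmul_one_mul, hmul, hs, map_mul,
    map_pow, TensorProduct.smul_tmul', smul_eq_mul]

/-- the bundled multiplicative law. -/
noncomputable def mulLaw (hc : IsNat c) (h1 : ∀ k, c k 1 = 1)
    (hmul : ∀ k x y, c k (x * y) = c k x * c k y) {d : ℕ}
    (hs : ∀ k (t : MvPolynomial (Fin k) A), c k (t ⊗ₜ[A] (1 : B)) = t ^ d) :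
    PolLaw.MulLaw A B A d :=
  ⟨law c hc, law_isHomog hc hmul hs, law_isMult hc h1 hmul⟩

end Groth.Agent.Lib.Helper24.LawFam
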