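import Mathlib
import Groth.Prelude.Def_PolLaw2
import Groth.Agent.Lib.Helper24.DetNormal
import Groth.Agent.Lib.Helper24.LawFam

/-!
# The determinant law of a finite module over a normal domain (helper24)

`A` an integrally closed domain with fraction field `K`, `M` a finite `A`-module with a
`B`-action. `cN n x ∈ A[t_1..t_n]` is the polynomial whose image in `K[t_1..t_n]` is the
determinant of `x ∈ A[t] ⊗ B` acting on the free module `K[t] ⊗ M`; the family is natural,
multiplicative, homogeneous of degree the generic rank, and computes the determinant over any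
field containing `A[t]`.
-/

set_option autoImplicit false

namespace Groth.Agent.Lib.Helper24.DetNormal2

open scoped TensorProduct
open Groth.Agent.Lib.Helper20.PolLawKer Groth.Agent.Lib.Helper24.DetNormal
  Groth.Agent.Lib.Helper24.LawFam

attribute [local instance] MvPolynomial.algebraMvPolynomial

universe u

section Maps

variable (A : Type u) [CommRing A] (K : Type u) [Field K] [Algebra A K]

/-- `A[t] → K[t]`. -/
noncomputable def jK (n : ℕ) : MvPolynomial (Fin n) A →ₐ[A] MvPolynomial (Fin n) K :=
  IsScalarTower.toAlgHom A (MvPolynomial (Fin n) A) (MvPolynomial (Fin n) K)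

lemma jK_apply (n : ℕ) (q : MvPolynomial (Fin n) A) :
    jK A K n q = MvPolynomial.map (algebraMap A K) q := rfl

/-- `K → K[t]`. -/
noncomputable def κK (n : ℕ) : K →ₐ[A] MvPolynomial (Fin n) K :=
  IsScalarTower.toAlgHom A K (MvPolynomial (Fin n) K)

variable {A}

/-- extension of `φ : A[t_n] → A[t_m]` to `K[t_n] → K[t_m]`. -/
noncomputable def φK {n m : ℕ} (φ : MvPolynomial (Fin n) A →ₐ[A] MvPolynomial (Fin m) A) :
    MvPolynomial (Fin n) K →ₐ[A] MvPolynomial (Fin m) K :=
  (MvPolynomial.aeval (fun i => jK A K m (φ (MvPolynomial.X i))) :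
    MvPolynomial (Fin n) K →ₐ[K] MvPolynomial (Fin m) K).restrictScalars A

lemma φK_comp {n m : ℕ} (φ : MvPolynomial (Fin n) A →ₐ[A] MvPolynomial (Fin m) A) :
    (φK K φ).comp (jK A K n) = (jK A K m).comp φ := by
  apply MvPolynomial.algHom_ext
  intro i
  rw [AlgHom.comp_apply, AlgHom.comp_apply, jK_apply, MvPolynomial.map_X]
  unfold φK
  rw [AlgHom.restrictScalars_apply, MvPolynomial.aeval_X]

end Maps

variable {A : Type u} [CommRing A] {B : Type u} [CommRing B] [Algebra A B]
  {M : Type u} [AddCommGroup M] [Module A M] [Module B M] [IsScalarTower A B M]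
  {K : Type u} [Field K] [Algebra A K]
  [IsDomain A] [IsFractionRing A K] [IsIntegrallyClosed A] [Module.Finite A M]

lemma jK_injective (n : ℕ) : Function.Injective (jK A K n) :=
  MvPolynomial.map_injective _ (IsFractionRing.injective A K)

theorem exists_cN (n : ℕ) (x : MvPolynomial (Fin n) A ⊗[A] B) :
    ∃ q : MvPolynomial (Fin n) A, jK A K n q =
      PolLaw.detAct M (MvPolynomial (Fin n) K)
        (Algebra.TensorProduct.map (jK A K n) (AlgHom.id A B) x) := by
  classical
  obtain ⟨k, g, hg⟩ := Module.Finite.exists_fin (R := A) (M := M)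
  obtain ⟨b, -⟩ := exists_basis (M := M) (κK A K n) (Module.finBasis K (K ⊗[A] M))
  choose c hc using fun i => act_gen (M := M) g hg (jK A K n) x i
  have hint : IsIntegral (MvPolynomial (Fin n) A) (PolLaw.detAct M (MvPolynomial (Fin n) K)
      (Algebra.TensorProduct.map (jK A K n) (AlgHom.id A B) x)) :=
    isIntegral_det b (fun l => (1 : MvPolynomial (Fin n) K) ⊗ₜ[A] g l)
      (span_one_tmul g hg _) _ c (fun i => hc i)
  rw [MvPolynomial.isIntegral_iff_isIntegral_coeff] at hint
  have hmem : PolLaw.detAct M (MvPolynomial (Fin n) K)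
      (Algebra.TensorProduct.map (jK A K n) (AlgHom.id A B) x) ∈
      Set.range (MvPolynomial.map (algebraMap A K)) := by
    rw [MvPolynomial.mem_range_map_iff_coeffs_subset]
    intro y hy
    obtain ⟨m, -, rfl⟩ := MvPolynomial.mem_coeffs_iff.mp (Finset.mem_coe.mp hy)
    exact IsIntegrallyClosed.isIntegral_iff.mp (hint m)
  obtain ⟨q, hq⟩ := hmem
  exact ⟨q, hq⟩

variable (A B M K) in
/-- the determinant polynomial. -/
noncomputable def cN (n : ℕ) (x : MvPolynomial (Fin n) A ⊗[A] B) : MvPolynomial (Fin n) A :=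
  Classical.choose (exists_cN (M := M) (K := K) n x)

lemma cN_spec (n : ℕ) (x : MvPolynomial (Fin n) A ⊗[A] B) :
    jK A K n (cN A B M K n x) = PolLaw.detAct M (MvPolynomial (Fin n) K)
      (Algebra.TensorProduct.map (jK A K n) (AlgHom.id A B) x) :=
  Classical.choose_spec (exists_cN (M := M) (K := K) n x)

theorem cN_isNat : IsNat (cN A B M K) := by
  intro k m φ x
  apply jK_injective (A := A) (K := K) m
  rw [cN_spec, map_map_apply, ← φK_comp K φ, ← map_map_apply,
    detAct_map_K (M := M) (κK A K k) (φK K φ), ← cN_spec]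
  exact DFunLike.congr_fun (φK_comp K φ) (cN A B M K k x)

lemma cN_one (k : ℕ) : cN A B M K k 1 = 1 := by
  apply jK_injective (A := A) (K := K) k
  rw [cN_spec, map_one, PolLaw.detAct_one, map_one]

lemma cN_mul (k : ℕ) (x y : MvPolynomial (Fin k) A ⊗[A] B) :
    cN A B M K k (x * y) = cN A B M K k x * cN A B M K k y := by
  apply jK_injective (A := A) (K := K) k
  rw [cN_spec, map_mul, PolLaw.detAct_mul, map_mul, cN_spec, cN_spec]

lemma cN_tmul_one {d : ℕ} (hd : Module.finrank K (K ⊗[A] M) = d) (k : ℕ)
    (t : MvPolynomial (Fin k) A) : cN A B M K k (t ⊗ₜ[A] (1 : B)) = t ^ d := by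
  apply jK_injective (A := A) (K := K) k
  rw [cN_spec, Algebra.TensorProduct.map_tmul, map_one,
    detAct_tmul_one (M := M) (κK A K k) hd, map_pow]

/-- over any field containing `A[t]` the determinant polynomial is the determinant. -/
theorem cN_det (n : ℕ) (L : Type u) [Field L] [Algebra A L] [Algebra (MvPolynomial (Fin n) A) L]
    [IsScalarTower A (MvPolynomial (Fin n) A) L]
    (hinj : Function.Injective (algebraMap (MvPolynomial (Fin n) A) L))
    (x : MvPolynomial (Fin n) A ⊗[A] B) :
    algebraMap (MvPolynomial (Fin n) A) L (cN A B M K n x) =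
      PolLaw.detAct M L (Algebra.TensorProduct.map
        (IsScalarTower.toAlgHom A (MvPolynomial (Fin n) A) L) (AlgHom.id A B) x) := by
  have hunit : ∀ y : (Submonoid.map (MvPolynomial.C (σ := Fin n)) (nonZeroDivisors A)),
      IsUnit (algebraMap (MvPolynomial (Fin n) A) L y) := by
    rintro ⟨_, a, ha, rfl⟩
    apply IsUnit.mk0
    intro h0
    rw [map_eq_zero_iff _ hinj] at h0
    exact nonZeroDivisors.ne_zero ha (MvPolynomial.C_eq_zero.mp h0)
  obtain ⟨lamR, hlamR⟩ : ∃ lamR : MvPolynomial (Fin n) K →+* L, lamR =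
      IsLocalization.lift (M := Submonoid.map (MvPolynomial.C (σ := Fin n)) (nonZeroDivisors A))
        (S := MvPolynomial (Fin n) K) hunit := ⟨_, rfl⟩
  have hlam : ∀ q, lamR (algebraMap (MvPolynomial (Fin n) A) (MvPolynomial (Fin n) K) q) =
      algebraMap _ L q := by
    intro q
    rw [hlamR]
    exact IsLocalization.lift_eq hunit q
  let lam : MvPolynomial (Fin n) K →ₐ[A] L :=
    { lamR with
      commutes' := fun a => by
        show lamR (algebraMap A (MvPolynomial (Fin n) K) a) = algebraMap A L a
        rw [IsScalarTower.algebraMap_apply A (MvPolynomial (Fin n) A) (MvPolynomial (Fin n) K),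
          hlam, ← IsScalarTower.algebraMap_apply] }
  have hcomp : lam.comp (jK A K n) = IsScalarTower.toAlgHom A (MvPolynomial (Fin n) A) L :=
    AlgHom.ext fun q => hlam q
  have e1 : algebraMap _ L (cN A B M K n x) = lam (jK A K n (cN A B M K n x)) := (hlam _).symm
  rw [e1, cN_spec, ← detAct_map_K (M := M) (κK A K n) lam, map_map_apply, hcomp]

end Groth.Agent.Lib.Helper24.DetNormal2
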