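import Mathlib
import Groth.Prelude.Def_PolLaw2
import Groth.Agent.Lib.Helper20.PolyLaw
import Groth.Agent.Lib.Helper24.KerTF
import Groth.Agent.Lib.Helper24.KerChar0

/-!
# The determinant law of a finitely generated projective module (helper24)

`M` a `B`-module, finitely generated projective over `A`, presented as a direct summand
`i : M → A^n`, `p : A^n → M`, `p ∘ i = id`. For a ring `R` over `A` and `x : R ⊗ B` the
endomorphism `Tm = 1 + i (x - 1) p` of `R ⊗ A^n` has determinant `dT`, natural in `R`,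
multiplicative, and equal to the determinant of `x` on `R ⊗ M` whenever the latter is free
(Sylvester's identity). The resulting law `law p i : B →ₚₗ[A] A` is multiplicative, computes
`detAct` over local rings, is the unique such law, and is homogeneous of degree `d` when `M` has
constant rank `d`.
-/

set_option autoImplicit false

namespace Groth.Agent.Lib.Helper24.DetProj

open scoped TensorProduct
open Groth.Agent.Lib.Helper20.PolLawKer Groth.Agent.Lib.Helper20.PolyLaw
  Groth.Agent.Lib.Helper24.KerChar0 Groth.Agent.Lib.Helper24.KerTF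

universe u

variable {A : Type u} [CommRing A] {B : Type u} [CommRing B] [Algebra A B]
  {M : Type u} [AddCommGroup M] [Module A M] [Module B M] [IsScalarTower A B M]
  {n : ℕ} (p : (Fin n → A) →ₗ[A] M) (i : M →ₗ[A] (Fin n → A))

section Tm

variable (R : Type u) [CommRing R] [Algebra A R]

/-- the endomorphism `1 + i (x - 1) p` of `R ⊗ A^n`. -/
noncomputable def Tm (x : R ⊗[A] B) : Module.End R (R ⊗[A] (Fin n → A)) :=
  LinearMap.id + (i.baseChange R) ∘ₗ (PolLaw.actEnd M R x - LinearMap.id) ∘ₗ (p.baseChange R)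

lemma Tm_apply (x : R ⊗[A] B) (v : R ⊗[A] (Fin n → A)) :
    Tm p i R x v = v + i.baseChange R
      (PolLaw.actEnd M R x (p.baseChange R v) - p.baseChange R v) := rfl

/-- the determinant of `Tm`. -/
noncomputable def dT (x : R ⊗[A] B) : R := LinearMap.det (Tm p i R x)

variable {p i}

lemma hpi' (hpi : p ∘ₗ i = LinearMap.id) (z : R ⊗[A] M) :
    p.baseChange R (i.baseChange R z) = z := by
  rw [← LinearMap.comp_apply, ← LinearMap.baseChange_comp, hpi, LinearMap.baseChange_id,
    LinearMap.id_apply]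

lemma Tm_one : Tm p i R (1 : R ⊗[A] B) = LinearMap.id := by
  refine LinearMap.ext fun v => ?_
  rw [Tm_apply, map_one, Module.End.one_apply, sub_self, map_zero, add_zero]
  rfl

lemma Tm_mul (hpi : p ∘ₗ i = LinearMap.id) (x y : R ⊗[A] B) :
    Tm p i R (x * y) = Tm p i R x ∘ₗ Tm p i R y := by
  refine LinearMap.ext fun v => ?_
  rw [LinearMap.comp_apply, Tm_apply, Tm_apply, Tm_apply, map_mul, Module.End.mul_apply]
  have e : p.baseChange R (v + i.baseChange R
      (PolLaw.actEnd M R y (p.baseChange R v) - p.baseChange R v)) =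
      PolLaw.actEnd M R y (p.baseChange R v) := by
    rw [map_add, hpi' R hpi]
    abel
  rw [e, add_assoc, ← map_add]
  congr 2
  abel

lemma dT_one : dT p i R (1 : R ⊗[A] B) = 1 := by
  unfold dT
  rw [Tm_one, LinearMap.det_id]

lemma dT_mul (hpi : p ∘ₗ i = LinearMap.id) (x y : R ⊗[A] B) :
    dT p i R (x * y) = dT p i R x * dT p i R y := by
  unfold dT
  rw [Tm_mul R hpi, LinearMap.det_comp]

variable {R}

lemma rTensor_baseChange {R' : Type u} [CommRing R'] [Algebra A R'] (ψ : R →ₐ[A] R')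
    {M₁ M₂ : Type u} [AddCommGroup M₁] [Module A M₁] [AddCommGroup M₂] [Module A M₂]
    (f : M₁ →ₗ[A] M₂) (z : R ⊗[A] M₁) :
    ψ.toLinearMap.rTensor M₂ (f.baseChange R z) = f.baseChange R' (ψ.toLinearMap.rTensor M₁ z) := by
  rw [LinearMap.baseChange_eq_ltensor, LinearMap.baseChange_eq_ltensor, ← LinearMap.comp_apply,
    LinearMap.rTensor_comp_lTensor, ← LinearMap.lTensor_comp_rTensor, LinearMap.comp_apply]

lemma rTensor_Tm {R' : Type u} [CommRing R'] [Algebra A R'] (ψ : R →ₐ[A] R') (x : R ⊗[A] B)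
    (v : R ⊗[A] (Fin n → A)) :
    ψ.toLinearMap.rTensor (Fin n → A) (Tm p i R x v) =
      Tm p i R' (Algebra.TensorProduct.map ψ (AlgHom.id A B) x)
        (ψ.toLinearMap.rTensor (Fin n → A) v) := by
  rw [Tm_apply, Tm_apply, map_add, rTensor_baseChange, map_sub, PolLaw.rTensor_actEnd,
    rTensor_baseChange]

theorem dT_map {R' : Type u} [CommRing R'] [Algebra A R'] (ψ : R →ₐ[A] R') (x : R ⊗[A] B) :
    dT p i R' (Algebra.TensorProduct.map ψ (AlgHom.id A B) x) = ψ (dT p i R x) := by
  classical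
  let bP := Module.Free.chooseBasis A (Fin n → A)
  unfold dT
  rw [← LinearMap.det_toMatrix (Algebra.TensorProduct.basis R' bP),
    ← LinearMap.det_toMatrix (Algebra.TensorProduct.basis R bP), AlgHom.map_det]
  congr 1
  ext j k
  simp only [AlgHom.mapMatrix_apply, Matrix.map_apply, LinearMap.toMatrix_apply,
    Algebra.TensorProduct.basis_apply]
  rw [← PolLaw.basis_repr_rTensor (Fin n → A) ψ, rTensor_Tm, LinearMap.rTensor_tmul,
    AlgHom.toLinearMap_apply, map_one]

variable (R)

/-- Sylvester: when `R ⊗ M` is free, `dT` is the determinant of the action. -/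
theorem dT_eq_detAct [Module.Free R (R ⊗[A] M)] [Module.Finite R (R ⊗[A] M)]
    (hpi : p ∘ₗ i = LinearMap.id) (x : R ⊗[A] B) : dT p i R x = PolLaw.detAct M R x := by
  classical
  let bM := Module.Free.chooseBasis R (R ⊗[A] M)
  let bP := Algebra.TensorProduct.basis R (Pi.basisFun A (Fin n))
  unfold dT PolLaw.detAct
  rw [← LinearMap.det_toMatrix bP, ← LinearMap.det_toMatrix bM]
  have h1 : LinearMap.toMatrix bP bP (Tm p i R x) = 1 +
      LinearMap.toMatrix bM bP (i.baseChange R) *
        LinearMap.toMatrix bP bM ((PolLaw.actEnd M R x - LinearMap.id) ∘ₗ p.baseChange R) := by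
    unfold Tm
    rw [map_add, LinearMap.toMatrix_id, LinearMap.toMatrix_comp bP bM bP]
  rw [h1, Matrix.det_one_add_mul_comm, ← LinearMap.toMatrix_comp bM bP bM,
    ← LinearMap.toMatrix_id bM, ← map_add]
  congr 2
  rw [LinearMap.comp_assoc, ← LinearMap.baseChange_comp, hpi, LinearMap.baseChange_id,
    LinearMap.comp_id]
  abel

end Tm

section law

variable (B)

/-- the family of determinants on polynomial rings. -/
noncomputable def Tfam (k : ℕ) (x : MvPolynomial (Fin k) A ⊗[A] B) :
    MvPolynomial (Fin k) A ⊗[A] A :=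
  dT p i (MvPolynomial (Fin k) A) x ⊗ₜ[A] (1 : A)

lemma Tfam_compat : Compat (Tfam B p i) := by
  intro k m φ
  funext x
  simp only [Function.comp_apply]
  unfold Tfam
  rw [LinearMap.rTensor_tmul, AlgHom.toLinearMap_apply, rTensor_eq_map, dT_map]

/-- the determinant law of the projective module `M`. -/
noncomputable def law : B →ₚₗ[A] A := lawOf (Tfam B p i) (Tfam_compat B p i)

variable {B}

lemma law_map {S : Type u} [CommSemiring S] [Algebra A S] {k : ℕ}
    (ψ : MvPolynomial (Fin k) A →ₐ[A] S) (q : MvPolynomial (Fin k) A ⊗[A] B) :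
    (law B p i).toFun' S (Algebra.TensorProduct.map ψ (AlgHom.id A B) q) =
      ψ (dT p i (MvPolynomial (Fin k) A) q) ⊗ₜ[A] (1 : A) := by
  rw [← rTensor_eq_map]
  unfold law
  rw [lawOf_apply]
  unfold Tfam
  rw [LinearMap.rTensor_tmul, AlgHom.toLinearMap_apply]

theorem law_apply (R : Type u) [CommRing R] [Algebra A R] (x : R ⊗[A] B) :
    (law B p i).toFun' R x = dT p i R x ⊗ₜ[A] (1 : A) := by
  obtain ⟨k, ψ, q, rfl⟩ := PolynomialLaw.exists_lift (R := A) (M := B) (S := R) x
  rw [rTensor_eq_map, law_map, dT_map]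

variable {p i}

theorem law_isMult (hpi : p ∘ₗ i = LinearMap.id) : PolLaw.IsMult (law B p i) := by
  intro S _ _
  constructor
  · have h1 : (1 : S ⊗[A] B) = Algebra.TensorProduct.map
        (MvPolynomial.aeval (Fin.elim0 : Fin 0 → S) : MvPolynomial (Fin 0) A →ₐ[A] S)
        (AlgHom.id A B) 1 := (map_one _).symm
    rw [h1, law_map, dT_one, map_one]
    rfl
  · intro x y
    obtain ⟨k, ψ, x₀, y₀, rfl, rfl⟩ := exists_lift2 x y
    rw [← map_mul, law_map, law_map, law_map, dT_mul _ hpi, map_mul,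
      Algebra.TensorProduct.tmul_mul_tmul, mul_one]

theorem law_local (hpi : p ∘ₗ i = LinearMap.id) [Module.Finite A M] [Module.Projective A M]
    (S : Type u) [CommRing S] [IsLocalRing S] [Algebra A S] (x : S ⊗[A] B) :
    (law B p i).toFun' S x = PolLaw.detAct M S x ⊗ₜ[A] (1 : A) := by
  haveI : Module.Free S (S ⊗[A] M) := Module.free_of_flat_of_isLocalRing
  rw [law_apply, dT_eq_detAct S hpi]

theorem law_unique (hpi : p ∘ₗ i = LinearMap.id) [Module.Finite A M] [Module.Projective A M]
    (N' : B →ₚₗ[A] A)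
    (h : ∀ (S : Type u) [CommRing S] [IsLocalRing S] [Algebra A S] (x : S ⊗[A] B),
      N'.toFun' S x = PolLaw.detAct M S x ⊗ₜ[A] (1 : A)) : N' = law B p i := by
  apply law_ext
  intro k
  funext x
  apply (TensorProduct.rid A (MvPolynomial (Fin k) A)).injective
  rw [← sub_eq_zero]
  apply eq_zero_of_localization
  intro J hJ
  rw [map_sub, sub_eq_zero]
  obtain ⟨ℓ, hℓ⟩ : ∃ ℓ : MvPolynomial (Fin k) A →ₐ[A] Localization.AtPrime J,
    ℓ = IsScalarTower.toAlgHom A _ _ := ⟨_, rfl⟩
  have h1 := Fr_map N' ℓ x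
  have h2 := Fr_map (law B p i) ℓ x
  unfold Fr at h1 h2
  have e : ∀ r : MvPolynomial (Fin k) A,
      algebraMap (MvPolynomial (Fin k) A) (Localization.AtPrime J) r = ℓ r := by
    intro r
    rw [hℓ]
    rfl
  rw [e, e, ← h1, ← h2, h, law_local hpi]

theorem dT_tmul_one (hpi : p ∘ₗ i = LinearMap.id) [Module.Finite A M] [Module.Projective A M]
    {d : ℕ} (hd : ∀ q : PrimeSpectrum A, Module.rankAtStalk M q = d)
    (R : Type u) [CommRing R] [Algebra A R] (r : R) :
    dT p i R (r ⊗ₜ[A] (1 : B)) = r ^ d := by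
  rw [← sub_eq_zero]
  apply eq_zero_of_localization
  intro J hJ
  rw [map_sub, sub_eq_zero, map_pow]
  obtain ⟨ℓ, hℓ⟩ : ∃ ℓ : R →ₐ[A] Localization.AtPrime J,
    ℓ = IsScalarTower.toAlgHom A _ _ := ⟨_, rfl⟩
  have e : ∀ r : R, algebraMap R (Localization.AtPrime J) r = ℓ r := by
    intro r
    rw [hℓ]
    rfl
  have h1 := dT_map (p := p) (i := i) ℓ (r ⊗ₜ[A] (1 : B))
  rw [Algebra.TensorProduct.map_tmul, map_one] at h1
  rw [e, e, ← h1]
  haveI : Module.Free (Localization.AtPrime J) (Localization.AtPrime J ⊗[A] M) :=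
    Module.free_of_flat_of_isLocalRing
  rw [dT_eq_detAct _ hpi]
  unfold PolLaw.detAct
  have e2 : (ℓ r ⊗ₜ[A] (1 : B) : Localization.AtPrime J ⊗[A] B) = ℓ r • 1 := by
    rw [Algebra.TensorProduct.one_def, TensorProduct.smul_tmul', smul_eq_mul, mul_one]
  rw [e2, map_smul, map_one, LinearMap.det_smul]
  have e3 : LinearMap.det (1 : Module.End (Localization.AtPrime J)
      (Localization.AtPrime J ⊗[A] M)) = 1 := LinearMap.det_id
  rw [e3, mul_one]
  congr 1
  have e4 := congrFun (Module.rankAtStalk_eq_finrank_of_free (R := Localization.AtPrime J)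
    (M := Localization.AtPrime J ⊗[A] M)) (IsLocalRing.closedPoint (Localization.AtPrime J))
  rw [Module.rankAtStalk_baseChange, hd] at e4
  simpa using e4.symm

theorem law_isHomog (hpi : p ∘ₗ i = LinearMap.id) [Module.Finite A M] [Module.Projective A M]
    {d : ℕ} (hd : ∀ q : PrimeSpectrum A, Module.rankAtStalk M q = d) :
    PolLaw.IsHomog (law B p i) d := by
  intro S _ _ s x
  obtain ⟨k, ψ, q, t, rfl, rfl⟩ := PolynomialLaw.exists_lift' (R := A) x s
  rw [rTensor_eq_map, ← map_smul_left, law_map, law_map, ← tmul_one_mul, dT_mul _ hpi,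
    dT_tmul_one hpi hd, map_mul, map_pow, TensorProduct.smul_tmul', smul_eq_mul]

end law

end Groth.Agent.Lib.Helper24.DetProj
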