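import Mathlib
import Groth.Agent.Lib.Helper21.SymPowA

/-!
# Helper library (helper24): generic lemmas for faithfully flat descent of differential smoothness

* descent of finite presentation of modules along faithfully flat ring maps;
* pure tensors on a generating set span a symmetric power;
* an extension principle for "semilinear" additive maps out of a symmetric power.
-/

set_option autoImplicit false
set_option maxHeartbeats 400000
set_option linter.style.haveILetI false
set_option linter.unusedSectionVars false

namespace Groth.Agent.Lib.Helper24.DiffSmDesc

open TensorProduct

universe u v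

section fp

variable (R S M : Type*) [CommRing R] [CommRing S] [Algebra R S] [Module.FaithfullyFlat R S]
  [AddCommGroup M] [Module R M]

/-- Finite presentation of modules descends along faithfully flat ring maps. -/
theorem finitePresentation_of_faithfullyFlat [Module.FinitePresentation S (S ⊗[R] M)] :
    Module.FinitePresentation R M := by
  haveI : Module.Finite R M := Module.Finite.of_finite_tensorProduct_of_faithfullyFlat S
  obtain ⟨n, f, hf⟩ := Module.Finite.exists_fin' R M
  have hfS : Function.Surjective (f.baseChange S) := LinearMap.lTensor_surjective S hf
  have hker : (LinearMap.ker (f.baseChange S)).FG :=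
    Module.FinitePresentation.fg_ker (f.baseChange S) hfS
  have hex : Function.Exact ((LinearMap.ker f).subtype.baseChange S) (f.baseChange S) :=
    lTensor_exact S f.exact_subtype_ker_map hf
  rw [LinearMap.exact_iff] at hex
  have hinj : Function.Injective ((LinearMap.ker f).subtype.baseChange S) := by
    rw [LinearMap.baseChange_eq_ltensor]
    exact Module.Flat.lTensor_preserves_injective_linearMap _ (Submodule.injective_subtype _)
  haveI : Module.Finite S (S ⊗[R] (LinearMap.ker f)) := by
    have h1 : Module.Finite S (LinearMap.range ((LinearMap.ker f).subtype.baseChange S)) := by
      rw [← hex]; exact Module.Finite.iff_fg.mpr hker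
    exact Module.Finite.equiv (LinearEquiv.ofInjective _ hinj).symm
  haveI : Module.Finite R (LinearMap.ker f) :=
    Module.Finite.of_finite_tensorProduct_of_faithfullyFlat S
  exact Module.finitePresentation_of_surjective f hf (Module.Finite.iff_fg.mp inferInstance)

end fp

section span

variable {B : Type u} [CommRing B] {ι : Type u} [Fintype ι] {M : Type v} [AddCommGroup M]
  [Module B M]

/-- Pure tensors with entries in a generating set span the symmetric power. -/
theorem span_tprod_of_span (G : Set M) (hG : Submodule.span B G = ⊤) :
    Submodule.span B {x : SymmetricPower B ι M |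
      ∃ v : ι → M, (∀ i, v i ∈ G) ∧ SymmetricPower.tprod B v = x} = ⊤ := by
  classical
  have key : ∀ (s : Finset ι) (v : ι → M), (∀ i, i ∉ s → v i ∈ G) →
      SymmetricPower.tprod B v ∈ Submodule.span B {x : SymmetricPower B ι M |
        ∃ v : ι → M, (∀ i, v i ∈ G) ∧ SymmetricPower.tprod B v = x} := by
    intro s
    induction s using Finset.induction_on with
    | empty =>
      intro v hv
      exact Submodule.subset_span ⟨v, fun i => hv i (Finset.notMem_empty i), rfl⟩
    | insert a s ha ih =>
      intro v hv
      have hva : v a ∈ Submodule.span B G := by rw [hG]; trivial
      have h2 : ∀ x ∈ Submodule.span B G,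
          SymmetricPower.tprod B (Function.update v a x) ∈
            Submodule.span B {x : SymmetricPower B ι M |
              ∃ v : ι → M, (∀ i, v i ∈ G) ∧ SymmetricPower.tprod B v = x} := by
        intro x hx
        induction hx using Submodule.span_induction with
        | mem x hx =>
          apply ih
          intro i hi
          by_cases hia : i = a
          · subst hia
            rw [Function.update_self]
            exact hx
          · rw [Function.update_of_ne hia]
            exact hv i (by simp [hia, hi])
        | zero =>
          rw [MultilinearMap.map_update_zero]
          exact zero_mem _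
        | add x y _ _ hx hy =>
          rw [MultilinearMap.map_update_add]
          exact add_mem hx hy
        | smul c x _ hx =>
          rw [MultilinearMap.map_update_smul]
          exact Submodule.smul_mem _ _ hx
      have := h2 (v a) hva
      rwa [Function.update_eq_self] at this
  rw [eq_top_iff, ← SymmetricPower.span_tprod_eq_top B ι M, Submodule.span_le]
  rintro _ ⟨v, rfl⟩
  exact key Finset.univ v (fun i hi => absurd (Finset.mem_univ i) hi)

/-- Two additive maps out of a symmetric power into a ring, both semilinear for the same
`α : B → T`, agree as soon as they agree on pure tensors with entries in a generating set. -/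
theorem addHom_eq_of_semilinear {T : Type*} [Ring T] (α : B → T)
    (F1 F2 : SymmetricPower B ι M →+ T) (G : Set M) (hG : Submodule.span B G = ⊤)
    (h1 : ∀ c ξ, F1 (c • ξ) = α c * F1 ξ) (h2 : ∀ c ξ, F2 (c • ξ) = α c * F2 ξ)
    (h : ∀ v : ι → M, (∀ i, v i ∈ G) →
      F1 (SymmetricPower.tprod B v) = F2 (SymmetricPower.tprod B v)) :
    F1 = F2 := by
  ext ξ
  have hξ : ξ ∈ Submodule.span B {x : SymmetricPower B ι M |
      ∃ v : ι → M, (∀ i, v i ∈ G) ∧ SymmetricPower.tprod B v = x} := by
    rw [span_tprod_of_span G hG]; trivial
  induction hξ using Submodule.span_induction with
  | mem x hx =>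
    obtain ⟨v, hv, rfl⟩ := hx
    exact h v hv
  | zero => rw [map_zero, map_zero]
  | add x y _ _ hx hy => rw [map_add, map_add, hx, hy]
  | smul c x _ hx => rw [h1, h2, hx]

end span

end Groth.Agent.Lib.Helper24.DiffSmDesc
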