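import Mathlib
import Groth.Prelude.Def_PP16
import Groth.Agent.Lib.Helper21.SymGrK
import Groth.Agent.Lib.Helper21.SymGrH
import Groth.Agent.Lib.Helper24.DiffSmDescA

/-!
# Helper library (helper24): faithfully flat descent of differential smoothness (EGA IV 16.10)
-/

set_option autoImplicit false
set_option maxHeartbeats 400000
set_option linter.style.haveILetI false
set_option linter.unusedSectionVars false

namespace Groth.Agent.Lib.Helper24.DiffSmDesc

open TensorProduct KaehlerDifferential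
open Groth.Agent.Lib.Helper21 Groth.Agent.Lib.Helper21.SymGr Groth.Agent.Lib.Helper21.SymPow
  Groth.Agent.Lib.Helper21.SymAlg Groth.Agent.Lib.Helper21.DiffSmooth

universe u

section Psi

variable (A B : Type u) [CommRing A] [CommRing B] [Algebra A B]

/-- the inclusion `I^n/I^(n+1) → P^n_{B/A}` as an additive map -/
noncomputable def Psi (n : ℕ) : PP16.grI A B n →+ PP16.P n A B where
  toFun g := grIncl (KaehlerDifferential.ideal A B) n (toGrJ A B n g)
  map_zero' := by
    show grIncl (KaehlerDifferential.ideal A B) n 0 = 0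
    rw [map_zero]
  map_add' x y := by
    show grIncl (KaehlerDifferential.ideal A B) n (toGrJ A B n x + toGrJ A B n y) = _
    rw [map_add]

theorem Psi_apply (n : ℕ) (g : PP16.grI A B n) :
    Psi A B n g = grIncl (KaehlerDifferential.ideal A B) n (toGrJ A B n g) := rfl

theorem Psi_smul (n : ℕ) (c : B) (g : PP16.grI A B n) :
    Psi A B n (c • g) = Ideal.Quotient.mk _ (c ⊗ₜ[A] (1 : B)) * Psi A B n g := by
  have h := toGrI_smul (A := A) (B := B) n c (toGrJ A B n g)
  have h2 : c • g = toGrI A B n (algebraMap B (B ⊗[A] B) c • toGrJ A B n g) := h.symm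
  rw [h2]
  show grIncl (KaehlerDifferential.ideal A B) n (algebraMap B (B ⊗[A] B) c • toGrJ A B n g) = _
  rw [map_smul, Algebra.smul_def, Ideal.Quotient.algebraMap_eq,
    Algebra.TensorProduct.algebraMap_apply, Algebra.algebraMap_self, RingHom.id_apply]
  rfl

theorem Psi_zetaProd {ι : Type u} [Fintype ι] (b : ι → B) :
    Psi A B (Fintype.card ι) (PP16.zetaProd A B b) =
      Ideal.Quotient.mk _ (∏ i, ((1 : B) ⊗ₜ[A] b i - b i ⊗ₜ[A] (1 : B))) := rfl

theorem Psi_injective (n : ℕ) : Function.Injective (Psi A B n) := by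
  intro x y h
  exact grIncl_injective (KaehlerDifferential.ideal A B) n h

end Psi

section main

variable (A B A' B' : Type u) [CommRing A] [CommRing B] [Algebra A B]
    [CommRing A'] [CommRing B'] [Algebra A' B'] [Algebra A A'] [Algebra B B'] [Algebra A B']
    [IsScalarTower A A' B'] [IsScalarTower A B B'] [Algebra.IsPushout A B A' B']

theorem isPushout' : Algebra.IsPushout A A' B B' := Algebra.IsPushout.symm inferInstance

/-- `B' ⊗_B Ω_{B/A} ≃ Ω_{B'/A'}` -/
noncomputable def kE : B' ⊗[B] Ω[B⁄A] ≃ₗ[B'] Ω[B'⁄A'] :=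
  haveI := isPushout' A B A' B'
  tensorKaehlerEquiv A A' B B'

theorem kE_tmul_D (b' : B') (b : B) :
    kE A B A' B' (b' ⊗ₜ D A B b) = b' • D A' B' (algebraMap B B' b) := by
  haveI := isPushout' A B A' B'
  exact tensorKaehlerEquiv_tmul_D A A' B B' b' b

/-- the `B`-linear map `Ω_{B/A} → Ω_{B'/A'}` -/
noncomputable def kMap : Ω[B⁄A] →ₗ[B] Ω[B'⁄A'] :=
  ((kE A B A' B').toLinearMap.restrictScalars B) ∘ₗ (TensorProduct.mk B B' Ω[B⁄A] 1)

theorem kMap_apply (ω : Ω[B⁄A]) : kMap A B A' B' ω = kE A B A' B' ((1 : B') ⊗ₜ ω) := rfl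

theorem kMap_D (b : B) : kMap A B A' B' (D A B b) = D A' B' (algebraMap B B' b) := by
  rw [kMap_apply, kE_tmul_D, one_smul]

theorem faithfullyFlat [Module.FaithfullyFlat A A'] : Module.FaithfullyFlat B B' :=
  Module.FaithfullyFlat.of_linearEquiv B (B ⊗[A] A')
    (Algebra.IsPushout.equiv A B A' B').symm.toLinearEquiv

theorem finite_projective [Module.FaithfullyFlat A A']
    (hproj : Module.Projective B' Ω[B'⁄A']) (hfin : Module.Finite B' Ω[B'⁄A']) :
    Module.Finite B Ω[B⁄A] ∧ Module.Projective B Ω[B⁄A] := by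
  haveI := faithfullyFlat A B A' B'
  haveI : Module.Finite B' (B' ⊗[B] Ω[B⁄A]) := Module.Finite.equiv (kE A B A' B').symm
  haveI : Module.Projective B' (B' ⊗[B] Ω[B⁄A]) := Module.Projective.of_equiv (kE A B A' B').symm
  haveI : Module.FinitePresentation B' (B' ⊗[B] Ω[B⁄A]) :=
    Module.finitePresentation_of_projective _ _
  haveI : Module.Flat B Ω[B⁄A] := Module.Flat.of_flat_tensorProduct B Ω[B⁄A] B'
  haveI : Module.FinitePresentation B Ω[B⁄A] := finitePresentation_of_faithfullyFlat B B' Ω[B⁄A]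
  exact ⟨Module.Finite.of_finite_tensorProduct_of_faithfullyFlat B',
    Module.Flat.projective_of_finitePresentation⟩

variable (ι : Type u) [Fintype ι]

/-- `Sym^ι_B(Ω_{B/A}) → Sym^ι_{B'}(Ω_{B'/A'})` -/
noncomputable def symMap : SymmetricPower B ι Ω[B⁄A] →+ SymmetricPower B' ι Ω[B'⁄A'] :=
  (toBig (B := B) (R := B') ι (M := Ω[B'⁄A'])).comp
    (SymPow.map (ι := ι) (kMap A B A' B')).toAddMonoidHom

theorem symMap_apply (ξ : SymmetricPower B ι Ω[B⁄A]) :
    symMap A B A' B' ι ξ =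
      toBig (B := B) (R := B') ι (M := Ω[B'⁄A']) (SymPow.map (ι := ι) (kMap A B A' B') ξ) := rfl

theorem symMap_tprod (v : ι → Ω[B⁄A]) :
    symMap A B A' B' ι (SymmetricPower.tprod B v) =
      SymmetricPower.tprod B' (fun i => kMap A B A' B' (v i)) := by
  rw [symMap_apply, SymPow.map_tprod, toBig_tprod]

theorem symMap_smul (c : B) (ξ : SymmetricPower B ι Ω[B⁄A]) :
    symMap A B A' B' ι (c • ξ) = algebraMap B B' c • symMap A B A' B' ι ξ := by
  rw [symMap_apply, map_smul, toBig_smul]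
  rfl

/-- compatibility of the canonical maps `Sym → gr` with base change -/
theorem Psi_comp
    (φ' : SymmetricPower B' ι Ω[B'⁄A'] →ₗ[B'] PP16.grI A' B' (Fintype.card ι))
    (hφ' : ∀ b : ι → B', φ' (SymmetricPower.tprod B' (fun i => D A' B' (b i))) =
      PP16.zetaProd A' B' b)
    (ξ : SymmetricPower B ι Ω[B⁄A]) :
    PP16.map (Fintype.card ι) A B A' B' (Psi A B _ (phi A B ι ξ)) =
      Psi A' B' _ (φ' (symMap A B A' B' ι ξ)) := by
  let F1 : SymmetricPower B ι Ω[B⁄A] →+ PP16.P (Fintype.card ι) A' B' :=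
    (PP16.map (Fintype.card ι) A B A' B').toRingHom.toAddMonoidHom.comp
      ((Psi A B (Fintype.card ι)).comp (phi A B ι).toAddMonoidHom)
  let F2 : SymmetricPower B ι Ω[B⁄A] →+ PP16.P (Fintype.card ι) A' B' :=
    (Psi A' B' (Fintype.card ι)).comp (φ'.toAddMonoidHom.comp (symMap A B A' B' ι))
  have hF : F1 = F2 := by
    apply addHom_eq_of_semilinear
      (fun c => Ideal.Quotient.mk _ (algebraMap B B' c ⊗ₜ[A'] (1 : B'))) F1 F2
      (Set.range (D A B)) (KaehlerDifferential.span_range_derivation A B)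
    · intro c ξ
      show PP16.map (Fintype.card ι) A B A' B' (Psi A B _ (phi A B ι (c • ξ))) =
        _ * PP16.map (Fintype.card ι) A B A' B' (Psi A B _ (phi A B ι ξ))
      rw [map_smul, Psi_smul, map_mul, PP16.map_mk, PP16.tensorMap_tmul, map_one]
    · intro c ξ
      show Psi A' B' _ (φ' (symMap A B A' B' ι (c • ξ))) =
        _ * Psi A' B' _ (φ' (symMap A B A' B' ι ξ))
      rw [symMap_smul, map_smul, Psi_smul]
    · intro v hv
      choose b hb using hv
      have hvb : v = fun i => D A B (b i) := funext (fun i => (hb i).symm)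
      subst hvb
      show PP16.map (Fintype.card ι) A B A' B' (Psi A B (Fintype.card ι)
          (phi A B ι (SymmetricPower.tprod B (fun i => D A B (b i))))) =
        Psi A' B' (Fintype.card ι) (φ' (symMap A B A' B' ι
          (SymmetricPower.tprod B (fun i => D A B (b i)))))
      rw [phi_tprod, Psi_zetaProd, PP16.map_mk, map_prod, symMap_tprod]
      simp only [kMap_D]
      rw [hφ' (fun i => algebraMap B B' (b i)), Psi_zetaProd]
      congr 1
      apply Finset.prod_congr rfl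
      intro i _
      rw [map_sub, PP16.tensorMap_tmul, PP16.tensorMap_tmul, map_one]
  exact DFunLike.congr_fun hF ξ

/-- `Ω_{B'/A'} → B' ⊗_B Sym_B(Ω_{B/A})` -/
noncomputable def ell : Ω[B'⁄A'] →ₗ[B'] B' ⊗[B] SymmetricAlgebra B Ω[B⁄A] :=
  ((SymmetricAlgebra.ι B Ω[B⁄A]).baseChange B') ∘ₗ (kE A B A' B').symm.toLinearMap

theorem ell_kMap (ω : Ω[B⁄A]) :
    ell A B A' B' (kMap A B A' B' ω) = (1 : B') ⊗ₜ[B] SymmetricAlgebra.ι B Ω[B⁄A] ω := by
  show ((SymmetricAlgebra.ι B Ω[B⁄A]).baseChange B')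
    ((kE A B A' B').symm (kE A B A' B' ((1 : B') ⊗ₜ ω))) = _
  rw [LinearEquiv.symm_apply_apply, LinearMap.baseChange_tmul]

/-- `Sym^ι_{B'}(Ω_{B'/A'}) → B' ⊗_B Sym_B(Ω_{B/A})` -/
noncomputable def gam :
    SymmetricPower B' ι Ω[B'⁄A'] →ₗ[B'] B' ⊗[B] SymmetricAlgebra B Ω[B⁄A] :=
  SymPow.lift
    ((MultilinearMap.mkPiAlgebra B' ι (B' ⊗[B] SymmetricAlgebra B Ω[B⁄A])).compLinearMap
      (fun _ => ell A B A' B'))
    (fun e v => by
      simp only [MultilinearMap.compLinearMap_apply, MultilinearMap.mkPiAlgebra_apply]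
      exact Equiv.prod_comp e (fun i => ell A B A' B' (v i)))

theorem gam_tprod (v : ι → Ω[B'⁄A']) :
    gam A B A' B' ι (SymmetricPower.tprod B' v) = ∏ i, ell A B A' B' (v i) := by
  rw [gam, SymPow.lift_tprod]
  simp only [MultilinearMap.compLinearMap_apply, MultilinearMap.mkPiAlgebra_apply]

theorem smul_eq_tmul_one_mul {S : Type u} [CommRing S] [Algebra B S] (r : B') (t : B' ⊗[B] S) :
    r • t = (r ⊗ₜ[B] (1 : S)) * t := by
  induction t using TensorProduct.induction_on with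
  | zero => rw [smul_zero, mul_zero]
  | tmul x y =>
    rw [TensorProduct.smul_tmul', Algebra.TensorProduct.tmul_mul_tmul, smul_eq_mul, one_mul]
  | add x y hx hy => rw [smul_add, mul_add, hx, hy]

theorem gam_symMap (ξ : SymmetricPower B ι Ω[B⁄A]) :
    gam A B A' B' ι (symMap A B A' B' ι ξ) = (1 : B') ⊗ₜ[B] (tau B B Ω[B⁄A] ι ξ) := by
  let F1 : SymmetricPower B ι Ω[B⁄A] →+ B' ⊗[B] SymmetricAlgebra B Ω[B⁄A] :=
    (gam A B A' B' ι).toAddMonoidHom.comp (symMap A B A' B' ι)
  let F2 : SymmetricPower B ι Ω[B⁄A] →+ B' ⊗[B] SymmetricAlgebra B Ω[B⁄A] :=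
    (TensorProduct.mk B B' (SymmetricAlgebra B Ω[B⁄A]) 1).toAddMonoidHom.comp
      (tau B B Ω[B⁄A] ι).toAddMonoidHom
  have hF : F1 = F2 := by
    apply addHom_eq_of_semilinear
      (fun c => (algebraMap B B' c) ⊗ₜ[B] (1 : SymmetricAlgebra B Ω[B⁄A])) F1 F2
      Set.univ Submodule.span_univ
    · intro c ξ
      show gam A B A' B' ι (symMap A B A' B' ι (c • ξ)) = _ * gam A B A' B' ι (symMap A B A' B' ι ξ)
      rw [symMap_smul, map_smul]
      exact smul_eq_tmul_one_mul B B' _ _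
    · intro c ξ
      show (1 : B') ⊗ₜ[B] (tau B B Ω[B⁄A] ι (c • ξ)) = _ * ((1 : B') ⊗ₜ[B] (tau B B Ω[B⁄A] ι ξ))
      rw [map_smul, ← TensorProduct.smul_tmul, Algebra.TensorProduct.tmul_mul_tmul, mul_one,
        one_mul, Algebra.algebraMap_eq_smul_one]
    · intro v _
      show gam A B A' B' ι (symMap A B A' B' ι (SymmetricPower.tprod B v)) =
        (1 : B') ⊗ₜ[B] (tau B B Ω[B⁄A] ι (SymmetricPower.tprod B v))
      rw [symMap_tprod, gam_tprod, tau_tprod]
      simp only [ell_kMap]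
      exact (map_prod (Algebra.TensorProduct.includeRight (R := B) (A := B')
        (B := SymmetricAlgebra B Ω[B⁄A])) (fun i => SymmetricAlgebra.ι B Ω[B⁄A] (v i))
        Finset.univ).symm
  exact DFunLike.congr_fun hF ξ

theorem symMap_eq_zero [Module.FaithfullyFlat A A'] [Module.Projective B Ω[B⁄A]] [Nonempty ι]
    (ξ : SymmetricPower B ι Ω[B⁄A]) (h : symMap A B A' B' ι ξ = 0) : ξ = 0 := by
  haveI := faithfullyFlat A B A' B'
  have h1 := gam_symMap A B A' B' ι ξ
  rw [h, map_zero] at h1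
  have h2 : tau B B Ω[B⁄A] ι ξ = 0 :=
    (Module.FaithfullyFlat.one_tmul_eq_zero_iff B (SymmetricAlgebra B Ω[B⁄A]) (A := B') _).mp h1.symm
  refine eq_zero_of_tau_mem B (C := B) (fun x => ⟨x, rfl⟩) ξ ?_
  rw [h2]
  exact zero_mem _

/-- the canonical map `Sym^ι(Ω) → I^n/I^(n+1)` is injective by descent -/
theorem phi_injective [Module.FaithfullyFlat A A'] [Module.Projective B Ω[B⁄A]] [Nonempty ι]
    (φ' : SymmetricPower B' ι Ω[B'⁄A'] →ₗ[B'] PP16.grI A' B' (Fintype.card ι))
    (hφ' : ∀ b : ι → B', φ' (SymmetricPower.tprod B' (fun i => D A' B' (b i))) =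
      PP16.zetaProd A' B' b)
    (hinj : Function.Injective φ') : Function.Injective (phi A B ι) := by
  rw [injective_iff_map_eq_zero]
  intro ξ hξ
  have h1 := Psi_comp A B A' B' ι φ' hφ' ξ
  rw [hξ, map_zero, map_zero] at h1
  have h2 : φ' (symMap A B A' B' ι ξ) = 0 := by
    apply Psi_injective A' B' (Fintype.card ι)
    rw [← h1, map_zero]
  have h3 : symMap A B A' B' ι ξ = 0 := by
    apply hinj
    rw [h2, map_zero]
  exact symMap_eq_zero A B A' B' ι ξ h3

theorem phi_surjective [Nonempty ι] : Function.Surjective (phi A B ι) := by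
  have h1 := toBig_bijective (B := B) (R := B ⊗[A] B) (ι := ι) (M := Ω[B⁄A]) (mu A B)
    smul_eq_mu_smul
  intro g
  obtain ⟨y, hy⟩ := canon_surjective (KaehlerDifferential.ideal A B) ι (toGrJ A B _ g)
  obtain ⟨ξ, hξ⟩ := h1.2 y
  refine ⟨ξ, ?_⟩
  rw [phi_apply, hξ]
  show toGrI A B _ (canon (KaehlerDifferential.ideal A B) ι y) = g
  rw [hy]
  rfl

/-- Faithfully flat descent of differential smoothness. -/
theorem isDiffSmooth_descent [Module.FaithfullyFlat A A']
    (h : PP16.IsDiffSmooth A' B') (hfin : Module.Finite B' Ω[B'⁄A']) :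
    PP16.IsDiffSmooth A B ∧ Module.Finite B Ω[B⁄A] := by
  obtain ⟨hf, hp⟩ := finite_projective A B A' B' h.1 hfin
  refine ⟨⟨hp, fun ι _ => ?_⟩, hf⟩
  rcases isEmpty_or_nonempty ι with hι | hι
  · exact exists_phi_of_isEmpty ι
  · obtain ⟨φ', hφ', hbij⟩ := h.2 ι
    exact ⟨phi A B ι, phi_tprod ι,
      phi_injective A B A' B' ι φ' hφ' hbij.1, phi_surjective A B ι⟩

end main

end Groth.Agent.Lib.Helper24.DiffSmDesc
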