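import Mathlib
import Groth.Prelude.Def_FlatCA
import Groth.Prelude.Def_Flat
import Groth.Agent.Lib.Helper24.ShrinkA
import Groth.Agent.Lib.Helper12.IntegralDim

/-!
# Dimension of supports of fibre modules: integral maps, surjections, generic points
-/

set_option autoImplicit false
set_option maxHeartbeats 800000
set_option linter.style.haveILetI false
set_option linter.unusedSectionVars false
set_option linter.unusedVariables false

universe u

namespace Groth.Agent.Lib.Helper24.DimDrop

open TensorProduct TopologicalSpace Topology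
open Groth.Agent.Lib.Helper24.Shrink

attribute [local instance] Algebra.TensorProduct.rightAlgebra

section General

theorem comap_mem_support {A B M : Type*} [CommRing A] [CommRing B] [Algebra A B] [AddCommGroup M]
    [Module A M] [Module B M] [IsScalarTower A B M] (q : PrimeSpectrum B)
    (h : q ∈ Module.support B M) :
    PrimeSpectrum.comap (algebraMap A B) q ∈ Module.support A M := by
  rw [Module.mem_support_iff_exists_annihilator] at h ⊢
  obtain ⟨m, hm⟩ := h
  refine ⟨m, fun a ha => ?_⟩
  rw [Submodule.mem_annihilator_span_singleton] at ha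
  show algebraMap A B a ∈ q.asIdeal
  apply hm
  rw [Submodule.mem_annihilator_span_singleton, algebraMap_smul]
  exact ha

theorem mem_support_of_comap_mem {A B M : Type*} [CommRing A] [CommRing B] [Algebra A B]
    [AddCommGroup M] [Module A M] [Module B M] [IsScalarTower A B M]
    (hs : Function.Surjective (algebraMap A B)) (q : PrimeSpectrum B)
    (h : PrimeSpectrum.comap (algebraMap A B) q ∈ Module.support A M) :
    q ∈ Module.support B M := by
  rw [Module.mem_support_iff_exists_annihilator] at h ⊢
  obtain ⟨m, hm⟩ := h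
  refine ⟨m, fun b hb => ?_⟩
  obtain ⟨a, rfl⟩ := hs b
  rw [Submodule.mem_annihilator_span_singleton, algebraMap_smul] at hb
  have h1 : a ∈ (PrimeSpectrum.comap (algebraMap A B) q).asIdeal :=
    hm (by rw [Submodule.mem_annihilator_span_singleton]; exact hb)
  exact h1

theorem ker_le_of_mem_support {A : Type*} (B : Type*) {M : Type*} [CommRing A] [CommRing B]
    [Algebra A B] [AddCommGroup M] [Module A M] [Module B M] [IsScalarTower A B M]
    (q : PrimeSpectrum A) (h : q ∈ Module.support A M) :
    RingHom.ker (algebraMap A B) ≤ q.asIdeal := by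
  rw [Module.mem_support_iff_exists_annihilator] at h
  obtain ⟨m, hm⟩ := h
  intro a ha
  apply hm
  rw [Submodule.mem_annihilator_span_singleton, ← algebraMap_smul B a m, (RingHom.mem_ker).mp ha,
    zero_smul]

theorem dim_zeroLocus {A : Type u} [CommRing A] (I : Ideal A) :
    topologicalKrullDim ↥(PrimeSpectrum.zeroLocus (I : Set A)) = ringKrullDim (A ⧸ I) := by
  rw [← PrimeSpectrum.topologicalKrullDim_eq_ringKrullDim]
  have hsurj : Function.Surjective (Ideal.Quotient.mk I) := Ideal.Quotient.mk_surjective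
  have hemb := PrimeSpectrum.isClosedEmbedding_comap_of_surjective
    (A ⧸ I) (Ideal.Quotient.mk I) hsurj
  have hrange : Set.range (PrimeSpectrum.comap (Ideal.Quotient.mk I)) =
      PrimeSpectrum.zeroLocus (I : Set A) := by
    rw [range_comap_of_surjective _ _ hsurj, Ideal.mk_ker]
  have h1 := IsHomeomorph.topologicalKrullDim_eq _ hemb.isEmbedding.toHomeomorph.isHomeomorph
  rw [h1]
  exact (congrArg (fun s : Set (PrimeSpectrum A) => topologicalKrullDim ↥s) hrange).symm

/-- supports and integral ring maps -/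
theorem supportDim_le_of_isIntegral {A B : Type u} [CommRing A] [CommRing B] (φ : A →+* B)
    (hφ : φ.IsIntegral)
    {M : Type u} [AddCommGroup M] [Module A M] [Module.Finite A M]
    {M' : Type u} [AddCommGroup M'] [Module B M'] [Module.Finite B M']
    (h : ∀ x' ∈ Module.support B M', PrimeSpectrum.comap φ x' ∈ Module.support A M) :
    Module.supportDim B M' ≤ Module.supportDim A M := by
  obtain ⟨I, hI⟩ : ∃ I : Ideal A, I = Module.annihilator A M := ⟨_, rfl⟩
  obtain ⟨J, hJ⟩ : ∃ J : Ideal B, J = Module.annihilator B M' := ⟨_, rfl⟩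
  have hsA : Module.support A M = PrimeSpectrum.zeroLocus (I : Set A) := by
    rw [hI]; exact Module.support_eq_zeroLocus
  have hsB : Module.support B M' = PrimeSpectrum.zeroLocus (J : Set B) := by
    rw [hJ]; exact Module.support_eq_zeroLocus
  have hdA : Module.supportDim A M = ringKrullDim (A ⧸ I) := by
    rw [hI]; exact Module.supportDim_eq_ringKrullDim_quotient_annihilator ..
  have hdB : Module.supportDim B M' = ringKrullDim (B ⧸ J.radical) := by
    rw [supportDim_eq_top, hsB, ← PrimeSpectrum.zeroLocus_radical, dim_zeroLocus]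
  rw [hdA, hdB]
  have hle : I ≤ J.radical.comap φ := by
    intro a ha
    rw [Ideal.mem_comap, Ideal.radical_eq_sInf, Ideal.mem_sInf]
    rintro Q ⟨hJQ, hQ⟩
    have hx' : (⟨Q, hQ⟩ : PrimeSpectrum B) ∈ Module.support B M' := by
      rw [hsB]
      exact (PrimeSpectrum.mem_zeroLocus _ _).mpr (SetLike.coe_subset_coe.mpr hJQ)
    have h1 := h _ hx'
    rw [hsA] at h1
    exact (PrimeSpectrum.mem_zeroLocus _ _).mp h1 ha
  obtain ⟨ψ, hψ⟩ : ∃ ψ : A ⧸ I →+* B ⧸ J.radical, ψ = Ideal.quotientMap J.radical φ hle :=
    ⟨_, rfl⟩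
  have hψint : ψ.IsIntegral := by
    apply RingHom.IsIntegral.tower_top (Ideal.Quotient.mk I) ψ
    rw [hψ, Ideal.quotientMap_comp_mk]
    exact RingHom.IsIntegral.trans _ _ hφ
      (RingHom.isIntegral_of_surjective _ Ideal.Quotient.mk_surjective)
  letI : Algebra (A ⧸ I) (B ⧸ J.radical) := ψ.toAlgebra
  haveI : Algebra.IsIntegral (A ⧸ I) (B ⧸ J.radical) := ⟨hψint⟩
  exact Groth.Agent.Lib.Helper12.ringKrullDim_le_of_isIntegral

/-- if the smallest prime is not in the support, the support has smaller dimension -/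
theorem supportDim_lt_of_min_notMem {A : Type u} [CommRing A] (n : ℕ) (hA : ringKrullDim A ≤ n)
    (x₀ : PrimeSpectrum A) (hmin : ∀ x : PrimeSpectrum A, x₀ ≤ x)
    {M : Type u} [AddCommGroup M] [Module A M] [Module.Finite A M]
    (h : x₀ ∉ Module.support A M) : Module.supportDim A M < (n : WithBot ℕ∞) := by
  rw [Module.supportDim_eq_ringKrullDim_quotient_annihilator]
  by_contra hlt
  rw [not_lt] at hlt
  obtain ⟨l, hl⟩ := Order.le_krullDim_iff.mp hlt
  have hsm : StrictMono (PrimeSpectrum.comap (Ideal.Quotient.mk (Module.annihilator A M))) :=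
    Monotone.strictMono_of_injective (fun P Q hPQ => Ideal.comap_mono hPQ)
      (PrimeSpectrum.comap_injective_of_surjective _ Ideal.Quotient.mk_surjective)
  have hhead : x₀ < PrimeSpectrum.comap (Ideal.Quotient.mk (Module.annihilator A M)) l.head := by
    refine lt_of_le_of_ne (hmin _) ?_
    intro heq
    apply h
    rw [heq, Module.support_eq_zeroLocus, PrimeSpectrum.mem_zeroLocus]
    intro a ha
    show Ideal.Quotient.mk (Module.annihilator A M) a ∈ l.head.asIdeal
    rw [Ideal.Quotient.eq_zero_iff_mem.mpr ha]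
    exact zero_mem _
  have h1 := Order.LTSeries.length_le_krullDim ((l.map _ hsm).cons x₀ hhead)
  have h3 : ((l.map _ hsm).cons x₀ hhead).length = n + 1 := by
    simp [hl]
  rw [h3] at h1
  have h2 : ((n + 1 : ℕ) : WithBot ℕ∞) ≤ (n : WithBot ℕ∞) := h1.trans hA
  have h4 : n + 1 ≤ n := by exact_mod_cast h2
  omega

/-- a map from a finite free module which is bijective after base change to a field -/
theorem exists_alpha {D : Type u} [CommRing D] (K : Type u) [Field K] [Algebra D K]
    (G : Type u) [AddCommGroup G] [Module D G] [Module.Finite D G] :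
    ∃ (r : ℕ) (α : (Fin r → D) →ₗ[D] G), r = Module.finrank K (K ⊗[D] G) ∧
      Function.Bijective (α.baseChange K) := by
  classical
  obtain ⟨s, hs⟩ : ∃ s : Set (K ⊗[D] G), s = Set.range (fun g : G => (1 : K) ⊗ₜ[D] g) :=
    ⟨_, rfl⟩
  have hspan : Submodule.span K s = ⊤ := by
    rw [eq_top_iff]
    rintro x -
    induction x using TensorProduct.induction_on with
    | zero => exact zero_mem _
    | tmul k g =>
      have h0 : k ⊗ₜ[D] g = k • ((1 : K) ⊗ₜ[D] g) := by
        rw [TensorProduct.smul_tmul', smul_eq_mul, mul_one]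
      rw [h0]
      exact Submodule.smul_mem _ _ (Submodule.subset_span (hs ▸ ⟨g, rfl⟩))
    | add x y hx hy => exact add_mem hx hy
  obtain ⟨b, hbs, hbspan, hbli⟩ := exists_linearIndependent K s
  have hrange : Set.range ((↑) : b → K ⊗[D] G) = b := Subtype.range_coe
  have hbtop : ⊤ ≤ Submodule.span K (Set.range ((↑) : b → K ⊗[D] G)) := by
    rw [hrange, hbspan, hspan]
  obtain ⟨bas, hbas⟩ : ∃ bas : Module.Basis b K (K ⊗[D] G), ∀ i, bas i = (i : K ⊗[D] G) :=
    ⟨Module.Basis.mk hbli hbtop, fun i => Module.Basis.mk_apply hbli hbtop i⟩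
  haveI : Finite b := Module.Finite.finite_basis bas
  haveI : Fintype b := Fintype.ofFinite b
  obtain ⟨bas', hbas'⟩ : ∃ bas' : Module.Basis (Fin (Fintype.card b)) K (K ⊗[D] G),
      ∀ i, bas' i = (((Fintype.equivFin b).symm i : b) : K ⊗[D] G) :=
    ⟨bas.reindex (Fintype.equivFin b), fun i => by
      rw [Module.Basis.reindex_apply, hbas]⟩
  have hmem : ∀ i, ∃ g : G, (1 : K) ⊗ₜ[D] g = bas' i := by
    intro i
    have h2 : (((Fintype.equivFin b).symm i : b) : K ⊗[D] G) ∈ s := hbs (Subtype.coe_prop _)
    rw [hs] at h2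
    obtain ⟨g, hg⟩ := h2
    exact ⟨g, hg.trans (hbas' i).symm⟩
  choose g hg using hmem
  obtain ⟨α, hα⟩ : ∃ α : (Fin (Fintype.card b) → D) →ₗ[D] G, ∀ i, α (Pi.single i 1) = g i := by
    refine ⟨(Pi.basisFun D (Fin (Fintype.card b))).constr D g, fun i => ?_⟩
    have h0 := (Pi.basisFun D (Fin (Fintype.card b))).constr_basis D g i
    rwa [Pi.basisFun_apply] at h0
  obtain ⟨bsrc, hbsrc⟩ : ∃ bsrc : Module.Basis (Fin (Fintype.card b)) K
      (K ⊗[D] (Fin (Fintype.card b) → D)), ∀ i, bsrc i = (1 : K) ⊗ₜ[D] (Pi.single i 1) :=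
    ⟨(Pi.basisFun D (Fin (Fintype.card b))).baseChange K, fun i => by
      rw [Module.Basis.baseChange_apply, Pi.basisFun_apply]⟩
  have hcomp : α.baseChange K = ((bsrc.equiv bas' (Equiv.refl _)) : _ →ₗ[K] _) := by
    apply bsrc.ext
    intro i
    rw [LinearEquiv.coe_coe, Module.Basis.equiv_apply, Equiv.refl_apply, hbsrc,
      LinearMap.baseChange_tmul, hα, hg]
  refine ⟨Fintype.card b, α, ?_, ?_⟩
  · rw [Module.finrank_eq_card_basis bas]
  · rw [hcomp]
    exact (bsrc.equiv bas' (Equiv.refl _)).bijective

/-- right exactness: the cokernel dies after a base change making the map surjective -/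
theorem subsingleton_tensor_quot {D : Type u} [CommRing D] (K : Type u) [CommRing K] [Algebra D K]
    {F G : Type u} [AddCommGroup F] [Module D F] [AddCommGroup G] [Module D G] (α : F →ₗ[D] G)
    (hα : Function.Surjective (α.baseChange K)) :
    Subsingleton (K ⊗[D] (G ⧸ LinearMap.range α)) := by
  have hq : Function.Surjective ((LinearMap.range α).mkQ.baseChange K) := by
    rw [LinearMap.baseChange_eq_ltensor]
    exact LinearMap.lTensor_surjective K (Submodule.mkQ_surjective _)
  refine subsingleton_of_forall_eq 0 fun y => ?_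
  obtain ⟨z, rfl⟩ := hq y
  obtain ⟨w, rfl⟩ := hα z
  induction w using TensorProduct.induction_on with
  | zero => simp
  | tmul k v =>
    rw [LinearMap.baseChange_tmul, LinearMap.baseChange_tmul]
    have h0 : (LinearMap.range α).mkQ (α v) = 0 := by
      rw [Submodule.mkQ_apply, Submodule.Quotient.mk_eq_zero]
      exact LinearMap.mem_range_self α v
    rw [h0, TensorProduct.tmul_zero]
  | add x y hx hy => rw [map_add, map_add, hx, hy, add_zero]

end General

section FibMap

variable {R : Type u} [CommRing R] (p : Ideal R) [hp : p.IsPrime]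
  {S T : Type u} [CommRing S] [CommRing T] [Algebra R S] [Algebra R T] [Algebra S T]
  [IsScalarTower R S T]

/-- the map of fibre rings induced by an algebra map -/
noncomputable def fibMap : p.Fiber S →+* p.Fiber T :=
  (Algebra.TensorProduct.map (AlgHom.id R p.ResidueField) (IsScalarTower.toAlgHom R S T)).toRingHom

theorem fibMap_tmul (k : p.ResidueField) (s : S) :
    fibMap (S := S) (T := T) p (k ⊗ₜ[R] s) = k ⊗ₜ[R] algebraMap S T s := by
  simp [fibMap]

theorem cS_comap_fibMap (x' : PrimeSpectrum (p.Fiber T)) :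
    cS p (PrimeSpectrum.comap (fibMap (S := S) (T := T) p) x') =
      PrimeSpectrum.comap (algebraMap S T) (cS p x') := by
  apply PrimeSpectrum.ext
  ext s
  show fibMap (S := S) (T := T) p ((1 : p.ResidueField) ⊗ₜ[R] s) ∈ x'.asIdeal ↔
    (1 : p.ResidueField) ⊗ₜ[R] algebraMap S T s ∈ x'.asIdeal
  rw [fibMap_tmul]

theorem fibMap_surjective (h : Function.Surjective (algebraMap S T)) :
    Function.Surjective (fibMap (S := S) (T := T) p) := by
  intro y
  induction y using TensorProduct.induction_on with
  | zero => exact ⟨0, map_zero _⟩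
  | tmul k t =>
    obtain ⟨s, rfl⟩ := h t
    exact ⟨k ⊗ₜ[R] s, fibMap_tmul p k s⟩
  | add x y hx hy =>
    obtain ⟨a, rfl⟩ := hx
    obtain ⟨b, rfl⟩ := hy
    exact ⟨a + b, map_add _ _ _⟩

theorem fibMap_isIntegral [Algebra.IsIntegral S T] :
    (fibMap (S := S) (T := T) p).IsIntegral := by
  intro y
  induction y using TensorProduct.induction_on with
  | zero => exact RingHom.isIntegralElem_zero _
  | tmul k t =>
    have h1 : (k ⊗ₜ[R] t : p.Fiber T) =
        fibMap (S := S) (T := T) p (k ⊗ₜ[R] (1 : S)) * ((1 : p.ResidueField) ⊗ₜ[R] t) := by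
      rw [fibMap_tmul, map_one, Algebra.TensorProduct.tmul_mul_tmul, mul_one, one_mul]
    rw [h1]
    refine RingHom.IsIntegralElem.mul _ (RingHom.isIntegralElem_map _) ?_
    obtain ⟨q, hq, hq0⟩ := Algebra.IsIntegral.isIntegral (R := S) t
    refine ⟨q.map (Algebra.TensorProduct.includeRight (R := R) (A := p.ResidueField)
      (B := S)).toRingHom, hq.map _, ?_⟩
    rw [Polynomial.eval₂_map]
    have hcomp : (fibMap (S := S) (T := T) p).comp
        (Algebra.TensorProduct.includeRight (R := R) (A := p.ResidueField) (B := S)).toRingHom =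
        (Algebra.TensorProduct.includeRight (R := R) (A := p.ResidueField)
          (B := T)).toRingHom.comp (algebraMap S T) := by
      ext s
      exact fibMap_tmul p 1 s
    rw [hcomp]
    have h2 : ((1 : p.ResidueField) ⊗ₜ[R] t : p.Fiber T) =
        (Algebra.TensorProduct.includeRight (R := R) (A := p.ResidueField)
          (B := T)).toRingHom t := rfl
    rw [h2, ← Polynomial.hom_eval₂, hq0, map_zero]
  | add x y hx hy => exact RingHom.IsIntegralElem.add _ hx hy

theorem supportDim_fib_le_of_isIntegral [Algebra.IsIntegral S T]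
    (G : Type u) [AddCommGroup G] [Module T G] [Module S G] [IsScalarTower S T G]
    [Module.Finite T G] [Module.Finite S G] :
    Module.supportDim (p.Fiber T) ((p.Fiber T) ⊗[T] G) ≤
      Module.supportDim (p.Fiber S) ((p.Fiber S) ⊗[S] G) := by
  refine supportDim_le_of_isIntegral (fibMap (S := S) (T := T) p) (fibMap_isIntegral p) ?_
  intro x' hx'
  rw [mem_support_fib_iff] at hx' ⊢
  rw [cS_comap_fibMap]
  exact comap_mem_support _ hx'

theorem supportDim_fib_le_of_surjective (hs : Function.Surjective (algebraMap S T))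
    (N : Type u) [AddCommGroup N] [Module S N] [Module.Finite S N]
    (G : Type u) [AddCommGroup G] [Module T G] [Module S G] [IsScalarTower S T G]
    [Module.Finite T G] (e : N ≃ₗ[S] G) :
    Module.supportDim (p.Fiber S) ((p.Fiber S) ⊗[S] N) ≤
      Module.supportDim (p.Fiber T) ((p.Fiber T) ⊗[T] G) := by
  rw [supportDim_eq_top, supportDim_eq_top]
  have hemb := PrimeSpectrum.isClosedEmbedding_comap_of_surjective (p.Fiber T)
    (fibMap (S := S) (T := T) p) (fibMap_surjective p hs)
  have hiff : ∀ x' : PrimeSpectrum (p.Fiber T),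
      x' ∈ Module.support (p.Fiber T) ((p.Fiber T) ⊗[T] G) ↔
      PrimeSpectrum.comap (fibMap (S := S) (T := T) p) x' ∈
        Module.support (p.Fiber S) ((p.Fiber S) ⊗[S] N) := by
    intro x'
    rw [mem_support_fib_iff, mem_support_fib_iff, cS_comap_fibMap, e.support_eq]
    exact ⟨comap_mem_support _, mem_support_of_comap_mem hs _⟩
  have hsurj : ∀ x ∈ Module.support (p.Fiber S) ((p.Fiber S) ⊗[S] N),
      ∃ x', PrimeSpectrum.comap (fibMap (S := S) (T := T) p) x' = x := by
    intro x hx
    rw [mem_support_fib_iff, e.support_eq] at hx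
    have hker := ker_le_of_mem_support T _ hx
    have hmem : cS p x ∈ Set.range (PrimeSpectrum.comap (algebraMap S T)) := by
      rw [range_comap_of_surjective _ _ hs]
      exact (PrimeSpectrum.mem_zeroLocus _ _).mpr (SetLike.coe_subset_coe.mpr hker)
    obtain ⟨q', hq'⟩ := hmem
    have hq'p : q'.asIdeal.comap (algebraMap R T) = p := by
      rw [IsScalarTower.algebraMap_eq R S T, ← Ideal.comap_comap]
      have h0 : q'.asIdeal.comap (algebraMap S T) = (cS p x).asIdeal :=
        congrArg PrimeSpectrum.asIdeal hq'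
      rw [h0, cS_comap]
    obtain ⟨x', hx'⟩ := exists_cS_eq p q' hq'p
    refine ⟨x', (cS_isEmbedding p).injective ?_⟩
    rw [cS_comap_fibMap, hx', hq']
  let ψ : Module.support (p.Fiber T) ((p.Fiber T) ⊗[T] G) →
      Module.support (p.Fiber S) ((p.Fiber S) ⊗[S] N) :=
    fun t => ⟨PrimeSpectrum.comap (fibMap (S := S) (T := T) p) t.1, (hiff t.1).mp t.2⟩
  have hψc : Continuous ψ := (hemb.continuous.comp continuous_subtype_val).subtype_mk _
  have hψe : IsEmbedding ψ :=
    IsEmbedding.of_comp hψc continuous_subtype_val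
      (hemb.isEmbedding.comp IsEmbedding.subtypeVal)
  have hψs : Function.Surjective ψ := by
    rintro ⟨x, hx⟩
    obtain ⟨x', rfl⟩ := hsurj x hx
    exact ⟨⟨x', (hiff x').mpr hx⟩, rfl⟩
  exact le_of_eq (IsHomeomorph.topologicalKrullDim_eq _
    (hψe.toHomeomorphOfSurjective hψs).isHomeomorph).symm

end FibMap

end Groth.Agent.Lib.Helper24.DimDrop
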