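import Mathlib
import Groth.Prelude.Def_FlatCA
import Groth.Prelude.Def_Flat
import Groth.Agent.Lib.Helper24.DimDropA
import Groth.Agent.Lib.Helper24.BCDevB
import Groth.Agent.Lib.Helper12.EtaDim

/-!
# One-step dévissage: a fibre basis at the generic point and the drop of dimension
-/

set_option autoImplicit false
set_option maxHeartbeats 1600000
set_option linter.style.haveILetI false
set_option linter.unusedSectionVars false
set_option linter.unusedVariables false

universe u

namespace Groth.Agent.Lib.Helper24.DimDrop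

open TensorProduct
open Groth.Agent.Lib.Helper24.Shrink Groth.Agent.Lib.Helper24.BCDev

attribute [local instance] Algebra.TensorProduct.rightAlgebra

theorem main85 {R S : Type u} [CommRing R] [CommRing S] [Algebra R S] [Algebra.FiniteType R S]
    (N : Type u) [AddCommGroup N] [Module S N] [Module R N] [IsScalarTower R S N] [Module.Finite S N] (p : Ideal R) [p.IsPrime]
    (C D G : Type u) [CommRing C] [CommRing D] [Algebra S C] [Algebra R C] [IsScalarTower R S C]
    [Algebra R D] [Algebra D C] [IsScalarTower R D C] [AddCommGroup G] [Module C G] [Module S G] [IsScalarTower S C G]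
    [Module D G] [IsScalarTower D C G] [Module R G] [IsScalarTower R D G]
    (n : ℕ) (h : FlatCA.IsOneStepDevissage R S N p C D G n) [(p.map (algebraMap R D)).IsPrime] :
    (∃ (r : ℕ) (α : (Fin r → D) →ₗ[D] G), 0 < r ∧ Function.Bijective (α.baseChange (p.map (algebraMap R D)).ResidueField)) ∧
    ∀ (r : ℕ) (α : (Fin r → D) →ₗ[D] G), Function.Bijective (α.baseChange (p.map (algebraMap R D)).ResidueField) →
      Module.supportDim (p.Fiber D) (FlatCA.fiberMod p D (G ⧸ LinearMap.range α)) < (n : WithBot ℕ∞) := by
  classical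
  obtain ⟨⟨e⟩, hsurjC, hfpC, hfinDC, hfinG, hsm, hgi, hdim⟩ := h
  haveI := hfinDC
  haveI := hfinG
  haveI hfinDG : Module.Finite D G := Module.Finite.trans C G
  haveI : Algebra.IsIntegral D C := Algebra.IsIntegral.of_finite D C
  -- a prime of `D` over `p`
  haveI : AlgebraicGeometry.GeometricallyIrreducible
      (AlgebraicGeometry.Spec.map (CommRingCat.ofHom (algebraMap R D))) := hgi
  obtain ⟨Q, hQ⟩ := (AlgebraicGeometry.Spec.map (CommRingCat.ofHom (algebraMap R D))).surjective
    (⟨p, inferInstance⟩ : PrimeSpectrum R)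
  have hQp : (Q : PrimeSpectrum D).asIdeal.comap (algebraMap R D) = p :=
    congrArg PrimeSpectrum.asIdeal hQ
  have hPp : (p.map (algebraMap R D)).comap (algebraMap R D) = p := by
    apply le_antisymm
    · exact (Ideal.comap_mono (Ideal.map_le_iff_le_comap.mpr hQp.ge)).trans hQp.le
    · exact Ideal.le_comap_map
  obtain ⟨xP, hxP⟩ := exists_cS_eq p
    (⟨p.map (algebraMap R D), inferInstance⟩ : PrimeSpectrum D) hPp
  have hmin : ∀ x : PrimeSpectrum (p.Fiber D), xP ≤ x := by
    intro x
    show xP.asIdeal ≤ x.asIdeal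
    rw [asIdeal_eq_map p xP, asIdeal_eq_map p x, hxP]
    unfold FlatCA.fiberIdeal
    apply Ideal.map_mono
    exact Ideal.map_le_iff_le_comap.mpr (cS_comap p x).ge
  have hFdim : ringKrullDim (p.Fiber D) ≤ n := by
    have hsg := smooth_geomIrred_bc (R := R) (D := D) (R' := p.ResidueField)
      (D' := p.Fiber D) n hsm hgi
    exact Groth.Agent.Lib.Helper12.EtaDim.ringKrullDim_le_of_smoothOfRelativeDimension
      p.ResidueField (p.Fiber D) n hsg.1
  have hB : ∀ (r : ℕ) (α : (Fin r → D) →ₗ[D] G),
      Function.Bijective (α.baseChange (p.map (algebraMap R D)).ResidueField) →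
      Module.supportDim (p.Fiber D) (FlatCA.fiberMod p D (G ⧸ LinearMap.range α)) <
        (n : WithBot ℕ∞) := by
    intro r α hα
    haveI := subsingleton_tensor_quot (p.map (algebraMap R D)).ResidueField α hα.2
    have h1 : (⟨p.map (algebraMap R D), inferInstance⟩ : PrimeSpectrum D) ∉
        Module.support D (G ⧸ LinearMap.range α) := by
      rw [Module.mem_support_iff_nontrivial_residueField_tensorProduct]
      exact not_nontrivial _
    have h2 : xP ∉ Module.support (p.Fiber D) ((p.Fiber D) ⊗[D] (G ⧸ LinearMap.range α)) := by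
      rw [mem_support_fib_iff, hxP]
      exact h1
    show Module.supportDim (p.Fiber D) ((p.Fiber D) ⊗[D] (G ⧸ LinearMap.range α)) < _
    exact supportDim_lt_of_min_notMem n hFdim xP hmin h2
  have hA1 : xP ∈ Module.support (p.Fiber D) ((p.Fiber D) ⊗[D] G) := by
    by_contra hcon
    have h1 := supportDim_lt_of_min_notMem n hFdim xP hmin hcon
    have h2 := supportDim_fib_le_of_surjective (S := S) (T := C) p hsurjC N G e
    have h3 := supportDim_fib_le_of_isIntegral (S := D) (T := C) p G
    have h4 : Module.supportDim (p.Fiber S) ((p.Fiber S) ⊗[S] N) = n := hdim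
    rw [h4] at h2
    exact absurd (lt_of_le_of_lt (h2.trans h3) h1) (lt_irrefl _)
  have hA2 : Nontrivial ((p.map (algebraMap R D)).ResidueField ⊗[D] G) := by
    rw [mem_support_fib_iff, hxP,
      Module.mem_support_iff_nontrivial_residueField_tensorProduct] at hA1
    exact hA1
  obtain ⟨r, α, hr, hbij⟩ := exists_alpha (D := D) (p.map (algebraMap R D)).ResidueField G
  refine ⟨⟨r, α, ?_, hbij⟩, hB⟩
  rw [hr]
  exact Module.finrank_pos

end Groth.Agent.Lib.Helper24.DimDrop
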