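import Mathlib
import Groth.Agent.Lib.Helper10.IndCofDiv

set_option autoImplicit false
set_option maxHeartbeats 400000
set_option linter.style.haveILetI false
set_option linter.unusedSectionVars false
set_option linter.unusedVariables false

/-!
# Mittag-Leffler for multiplication maps gives a divisible subobject with small quotient

Sub-lemma (F2) for helper13's S19621.
-/

open CategoryTheory CategoryTheory.Limits H10Ind

universe v u

namespace Groth.Agent.Lib.Helper24.DivQuotML

variable {𝒜 : Type u} [Category.{v} 𝒜] [Abelian 𝒜] {P : ObjectProperty 𝒜}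

/-- (F2) -/
theorem divQuot_of_ml (hP : Setting P) (A : 𝒜) (hA : ∀ n : ℕ, 0 < n → P (tor A n))
    (hML : ∃ m : ℕ, 0 < m ∧ ∀ m' : ℕ, 0 < m' → m ∣ m' →
      imageSubobject (m' • 𝟙 A) = imageSubobject (m • 𝟙 A)) :
    ∃ B' : Subobject A, (∀ k : ℕ, 0 < k → Epi (k • 𝟙 (B' : 𝒜))) ∧ P (cokernel B'.arrow) := by
  obtain ⟨m, hm, hstab⟩ := hML
  refine ⟨imageSubobject (m • 𝟙 A), ?_, ?_⟩
  · intro k hk
    rw [epi_iff_surjective_up_to_refinements]
    intro T x
    have h1 : (imageSubobject (m • 𝟙 A)).Factors (x ≫ (imageSubobject (m • 𝟙 A)).arrow) :=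
      Subobject.factors_comp_arrow x
    have h2 : (imageSubobject ((k * m) • 𝟙 A)).Factors
        (x ≫ (imageSubobject (m • 𝟙 A)).arrow) := by
      rw [hstab (k * m) (Nat.mul_pos hk hm) (dvd_mul_left m k)]; exact h1
    obtain ⟨T', π, hπ, z, hz⟩ := (imageSubobject_factors_iff ((k * m) • 𝟙 A) _).1 h2
    have hfac : (imageSubobject (m • 𝟙 A)).Factors (m • z) := by
      have e : m • z = z ≫ (m • 𝟙 A) := by rw [Preadditive.comp_nsmul, Category.comp_id]
      rw [e]
      exact Subobject.factors_of_factors_right _ (imageSubobject_factors_self (m • 𝟙 A))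
    refine ⟨T', π, hπ, (imageSubobject (m • 𝟙 A)).factorThru (m • z) hfac, ?_⟩
    rw [← cancel_mono (imageSubobject (m • 𝟙 A)).arrow, Category.assoc, Category.assoc,
      Preadditive.nsmul_comp, Category.id_comp, Preadditive.comp_nsmul,
      Subobject.factorThru_arrow, hz, Preadditive.comp_nsmul, Category.comp_id, mul_nsmul]
    exact smul_comm m k z
  · have hQ : P (cokernel (m • 𝟙 A)) :=
      P_cokernel_nsmul hP A m (fun k => hA _ (pow_pos hm k))
    exact hP.iso ((cokernelIsoOfEq (imageSubobject_arrow_comp (m • 𝟙 A)).symm).trans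
      (cokernelEpiComp _ _)) hQ

end Groth.Agent.Lib.Helper24.DivQuotML
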