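import Mathlib

set_option maxHeartbeats 400000
set_option linter.style.haveILetI false
set_option linter.unusedSectionVars false
set_option autoImplicit false

/-! Generic lemmas for extending a DVR with a prescribed algebraic residue extension. -/

namespace Groth.Agent.Lib.Helper24.DvrExt

open Polynomial

universe u

/-- `eval₂` lands in a subring. -/
theorem eval₂_mem_subring {R S : Type*} [CommRing R] [CommRing S] (φ : R →+* S) (U : Subring S)
    (hφ : ∀ r, φ r ∈ U) {a : S} (ha : a ∈ U) (f : R[X]) : f.eval₂ φ a ∈ U := by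
  rw [Polynomial.eval₂_eq_sum_range]
  exact U.sum_mem fun i _ => U.mul_mem (hφ _) (U.pow_mem ha i)

/-- Adjoining a root of a monic polynomial with irreducible reduction to a local ring with
principal maximal ideal gives a local ring with maximal ideal generated by the same element. -/
theorem adjoinRoot_local {R : Type*} [CommRing R] (ϖ : R)
    (hmax : (Ideal.span {ϖ}).IsMaximal)
    (hloc : ∀ r : R, r ∈ Ideal.span {ϖ} ∨ IsUnit r)
    (g : R[X]) (hg : g.Monic)
    (hirr : Irreducible (g.map (Ideal.Quotient.mk (Ideal.span {ϖ})))) (t : AdjoinRoot g) :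
    t ∈ Ideal.span {AdjoinRoot.of g ϖ} ∨ IsUnit t := by
  obtain ⟨I, hI⟩ : ∃ I : Ideal R, I = Ideal.span {ϖ} := ⟨_, rfl⟩
  rw [← hI] at hmax hloc hirr
  haveI := hmax
  letI : Field (R ⧸ I) := Ideal.Quotient.field I
  have hmap : I.map (AdjoinRoot.of g) = Ideal.span {AdjoinRoot.of g ϖ} := by
    rw [hI, Ideal.map_span, Set.image_singleton]
  have hmaxT : (I.map (AdjoinRoot.of g)).IsMaximal := by
    have e := AdjoinRoot.quotAdjoinRootEquivQuotPolynomialQuot I g
    haveI : (Ideal.span {g.map (Ideal.Quotient.mk I)} : Ideal (R ⧸ I)[X]).IsMaximal :=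
      PrincipalIdealRing.isMaximal_of_irreducible hirr
    have hF : IsField ((R ⧸ I)[X] ⧸
        (Ideal.span {g.map (Ideal.Quotient.mk I)} : Ideal (R ⧸ I)[X])) :=
      (Ideal.Quotient.maximal_ideal_iff_isField_quotient _).mp inferInstance
    exact Ideal.Quotient.maximal_of_isField _ (e.toMulEquiv.isField hF)
  by_cases ht : t ∈ I.map (AdjoinRoot.of g)
  · left; rwa [← hmap]
  · right
    by_contra hu
    obtain ⟨M, hM, htM⟩ := exists_max_ideal_of_mem_nonunits (show t ∈ nonunits _ from hu)
    haveI := hM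
    haveI : Module.Finite R (AdjoinRoot g) := hg.finite_adjoinRoot
    haveI : Algebra.IsIntegral R (AdjoinRoot g) := Algebra.IsIntegral.of_finite R _
    have hc : (M.comap (algebraMap R (AdjoinRoot g))).IsMaximal :=
      Ideal.isMaximal_comap_of_isIntegral_of_isMaximal M
    have hle : M.comap (algebraMap R (AdjoinRoot g)) ≤ I := by
      intro r hr
      rcases hloc r with h | h
      · exact h
      · exact absurd (Ideal.eq_top_of_isUnit_mem _ hr h) hc.ne_top
    have heq : M.comap (algebraMap R (AdjoinRoot g)) = I := hc.eq_of_le hmax.ne_top hle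
    have hIM : I.map (AdjoinRoot.of g) ≤ M := by
      rw [Ideal.map_le_iff_le_comap]
      exact heq.ge
    have : I.map (AdjoinRoot.of g) = M := hmaxT.eq_of_le hM.ne_top hIM
    exact ht (this ▸ htM)

variable {Ω : Type u} [Field Ω]

theorem mem_of_isIntegral (V : ValuationSubring Ω) {x : Ω} (hx : IsIntegral V x) : x ∈ V := by
  obtain ⟨y, rfl⟩ := (IsIntegrallyClosed.isIntegral_iff (R := V) (K := Ω)).mp hx
  exact y.2

theorem coe_eval (V : ValuationSubring Ω) (G : (↥V)[X]) (a : V) :
    (G.map (algebraMap V Ω)).eval (a : Ω) = ((G.eval a : V) : Ω) := by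
  have h := Polynomial.eval₂_at_apply (p := G) (algebraMap V Ω) a
  rw [← Polynomial.eval_map] at h
  exact h

theorem residue_eval (V : ValuationSubring Ω) (G : (↥V)[X]) (a : V) :
    (G.map (IsLocalRing.residue V)).eval (IsLocalRing.residue V a) =
      IsLocalRing.residue V (G.eval a) := by
  rw [Polynomial.eval_map, Polynomial.eval₂_at_apply]

/-- The residue field of a valuation ring of an algebraically closed field is algebraically
closed. -/
theorem isAlgClosed_residueField [IsAlgClosed Ω] (V : ValuationSubring Ω) :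
    IsAlgClosed (IsLocalRing.ResidueField V) := by
  apply IsAlgClosed.of_exists_root
  intro p hp hirr
  obtain ⟨G, hG1, -, hG2⟩ := lifts_and_natDegree_eq_and_monic
    ((mem_lifts p).mpr (map_surjective _ IsLocalRing.residue_surjective p)) hp
  have hdeg : (G.map (algebraMap V Ω)).degree ≠ 0 := by
    have h1 : (G.map (algebraMap V Ω)).degree = p.degree := by
      rw [hG2.degree_map, ← hG1, hG2.degree_map]
    rw [h1]
    exact (degree_pos_of_irreducible hirr).ne'
  obtain ⟨a, ha⟩ := IsAlgClosed.exists_root _ hdeg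
  have haV : a ∈ V := mem_of_isIntegral V ⟨G, hG2, by rwa [IsRoot.def, eval_map] at ha⟩
  refine ⟨IsLocalRing.residue V ⟨a, haV⟩, ?_⟩
  rw [← hG1, residue_eval]
  have h0 : G.eval (⟨a, haV⟩ : V) = 0 := by
    apply Subtype.ext
    rw [← coe_eval]
    exact ha
  rw [h0, map_zero]

/-- A root of the reduction of a monic polynomial over a valuation ring of an algebraically
closed field lifts to a root. -/
theorem exists_root_residue [IsAlgClosed Ω] (V : ValuationSubring Ω) (G : (↥V)[X]) (hG : G.Monic)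
    (b : IsLocalRing.ResidueField V) (hb : (G.map (IsLocalRing.residue V)).eval b = 0) :
    ∃ α : V, G.eval α = 0 ∧ IsLocalRing.residue V α = b := by
  obtain ⟨β, rfl⟩ := IsLocalRing.residue_surjective b
  obtain ⟨GΩ, hGΩ⟩ : ∃ GΩ, GΩ = G.map (algebraMap V Ω) := ⟨_, rfl⟩
  have hm : GΩ.Monic := hGΩ ▸ hG.map _
  have hs : GΩ.Splits := IsAlgClosed.splits _
  have hev : GΩ.eval (β : Ω) = (GΩ.roots.map (fun a => (β : Ω) - a)).prod :=
    hs.eval_eq_prod_roots_of_monic hm _
  have h1 : IsLocalRing.residue V (G.eval β) = 0 := by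
    rw [← residue_eval]; exact hb
  by_contra hcon
  push Not at hcon
  by_cases hP : G.eval β = 0
  · exact hcon β hP rfl
  have hroot : ∀ a ∈ GΩ.roots, ((β : Ω) - a) ∈ V ∧ ((β : Ω) - a)⁻¹ ∈ V := by
    intro a ha
    have hra : GΩ.eval a = 0 := (Polynomial.mem_roots hm.ne_zero).mp ha
    have haV : a ∈ V := mem_of_isIntegral V ⟨G, hG, by
      rw [hGΩ, eval_map] at hra; exact hra⟩
    have h0 : G.eval (⟨a, haV⟩ : V) = 0 := by
      apply Subtype.ext
      rw [← coe_eval, ← hGΩ]
      exact hra
    have hne : IsLocalRing.residue V (β - ⟨a, haV⟩) ≠ 0 := by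
      rw [map_sub, sub_ne_zero]
      exact (hcon _ h0).symm
    have hu : IsUnit (β - ⟨a, haV⟩ : V) := (IsLocalRing.residue_ne_zero_iff_isUnit _).mp hne
    obtain ⟨u, hu⟩ := isUnit_iff_exists_inv.mp hu
    have h2 : ((β : Ω) - a) * (u : Ω) = 1 := by
      have := congrArg Subtype.val hu
      simpa using this
    refine ⟨V.sub_mem β.2 haV, ?_⟩
    rw [inv_eq_of_mul_eq_one_right h2]
    exact u.2
  have hprod : (GΩ.roots.map (fun a => (β : Ω) - a)).prod ∈ V ∧
      ((GΩ.roots.map (fun a => (β : Ω) - a)).prod)⁻¹ ∈ V := by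
    apply Multiset.prod_induction (fun x : Ω => x ∈ V ∧ x⁻¹ ∈ V)
    · rintro x y ⟨hx1, hx2⟩ ⟨hy1, hy2⟩
      refine ⟨V.mul_mem _ _ hx1 hy1, ?_⟩
      rw [mul_inv]
      exact V.mul_mem _ _ hx2 hy2
    · exact ⟨V.one_mem, by rw [inv_one]; exact V.one_mem⟩
    · intro x hx
      obtain ⟨a, ha, rfl⟩ := Multiset.mem_map.mp hx
      exact hroot a ha
  rw [← hev, hGΩ, coe_eval] at hprod
  have hc0 : ((G.eval β : V) : Ω) ≠ 0 := fun h => hP (Subtype.ext h)
  have hunit : IsUnit (G.eval β : V) :=
    isUnit_iff_exists_inv.mpr ⟨⟨_, hprod.2⟩, Subtype.ext (by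
      show ((G.eval β : V) : Ω) * ((G.eval β : V) : Ω)⁻¹ = 1
      exact mul_inv_cancel₀ hc0)⟩
  exact ((IsLocalRing.residue_ne_zero_iff_isUnit _).mpr hunit) h1

/-- A simple root of a polynomial with coefficients in the separable closure is separable. -/
theorem mem_separableClosure_of_simple_root {K : Type u} [Field K] [Algebra K Ω]
    [Algebra.IsAlgebraic K Ω] (R : Subring Ω)
    (hRS : ∀ x ∈ R, x ∈ separableClosure K Ω) (g : (↥R)[X]) (α : Ω)
    (h0 : g.eval₂ R.subtype α = 0) (h1 : (derivative g).eval₂ R.subtype α ≠ 0) :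
    α ∈ separableClosure K Ω := by
  let j : ↥R →+* ↥(separableClosure K Ω) :=
    R.subtype.codRestrict (separableClosure K Ω) (fun x => hRS x.1 x.2)
  have hj : (algebraMap (separableClosure K Ω) Ω).comp j = R.subtype := by ext x; rfl
  have e0 : aeval α (g.map j) = 0 := by
    rw [Polynomial.aeval_def, Polynomial.eval₂_map, hj]; exact h0
  have e1 : aeval α (derivative (g.map j)) ≠ 0 := by
    rw [Polynomial.derivative_map, Polynomial.aeval_def, Polynomial.eval₂_map, hj]; exact h1
  haveI : Algebra.IsAlgebraic (separableClosure K Ω) Ω :=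
    Algebra.IsAlgebraic.tower_top (K := K) (separableClosure K Ω)
  have hint : IsIntegral (separableClosure K Ω) α := Algebra.IsIntegral.isIntegral α
  obtain ⟨q, hq⟩ := minpoly.dvd (separableClosure K Ω) α e0
  have hm' : derivative (minpoly (separableClosure K Ω) α) ≠ 0 := by
    intro h
    apply e1
    rw [hq, derivative_mul, h, zero_mul, zero_add, map_mul, minpoly.aeval, zero_mul]
  have hsep : IsSeparable (separableClosure K Ω) α :=
    (Polynomial.separable_iff_derivative_ne_zero (minpoly.irreducible hint)).mpr hm'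
  have : IsSeparable K α := IsSeparable.of_algebra_isSeparable_of_isSeparable K hsep
  exact mem_separableClosure_iff.mpr this

/-- In characteristic `p`, a monic irreducible polynomial of degree `≥ 2` over the residue field
has a monic lift which is either separable mod the maximal ideal or has constant derivative. -/
theorem exists_lift_charP (p : ℕ) [hp : Fact p.Prime] [CharP Ω p]
    (R : Subring Ω) (ϖ : ↥R) (hmax : (Ideal.span {ϖ}).IsMaximal)
    (gbar : (↥R ⧸ Ideal.span {ϖ})[X]) (hmon : gbar.Monic)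
    (hirr : letI : Field (↥R ⧸ Ideal.span {ϖ}) := Ideal.Quotient.field _; Irreducible gbar)
    (hdeg : 2 ≤ gbar.natDegree) :
    ∃ g : (↥R)[X], g.Monic ∧ g.map (Ideal.Quotient.mk (Ideal.span {ϖ})) = gbar ∧
      ((letI : Field (↥R ⧸ Ideal.span {ϖ}) := Ideal.Quotient.field _; gbar.Separable) ∨
        derivative g = C ϖ) := by
  haveI := hmax
  letI : Field (↥R ⧸ Ideal.span {ϖ}) := Ideal.Quotient.field _
  have hsurj : Function.Surjective (Ideal.Quotient.mk (Ideal.span {ϖ})) :=
    Ideal.Quotient.mk_surjective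
  have hpR : (p : ↥R) = 0 := Subtype.ext (by
    rw [Subring.coe_natCast, Subring.coe_zero]; exact CharP.cast_eq_zero Ω p)
  haveI : CharP (↥R ⧸ Ideal.span {ϖ}) p := by
    have h0 : (p : ↥R ⧸ Ideal.span {ϖ}) = 0 := by
      rw [← map_natCast (Ideal.Quotient.mk (Ideal.span {ϖ})), hpR, map_zero]
    exact (CharP.charP_iff_prime_eq_zero hp.out).mpr h0
  have hlift : ∀ q : (↥R ⧸ Ideal.span {ϖ})[X],
      q ∈ Polynomial.lifts (Ideal.Quotient.mk (Ideal.span {ϖ})) := fun q =>
    (mem_lifts q).mpr (map_surjective _ hsurj q)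
  rcases Polynomial.separable_or p hirr with hsep | ⟨-, h, -, rfl⟩
  · obtain ⟨g, hg1, -, hg2⟩ := lifts_and_natDegree_eq_and_monic (hlift gbar) hmon
    exact ⟨g, hg2, hg1, Or.inl hsep⟩
  · have hhmon : h.Monic := (Polynomial.monic_expand_iff hp.out.pos).mp hmon
    obtain ⟨H, hH1, -, hH2⟩ := lifts_and_natDegree_eq_and_monic (hlift h) hhmon
    have hEmon : (expand ↥R p H).Monic := (Polynomial.monic_expand_iff hp.out.pos).mpr hH2
    have hEmap : (expand ↥R p H).map (Ideal.Quotient.mk (Ideal.span {ϖ})) =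
        expand _ p h := by
      rw [Polynomial.map_expand, hH1]
    have hEdeg : (expand ↥R p H).natDegree = (expand (↥R ⧸ Ideal.span {ϖ}) p h).natDegree := by
      rw [← hEmap, hEmon.natDegree_map]
    refine ⟨expand ↥R p H + C ϖ * X, ?_, ?_, Or.inr ?_⟩
    · apply hEmon.add_of_left
      refine lt_of_le_of_lt (degree_C_mul_X_le _) ?_
      rw [degree_eq_natDegree hEmon.ne_zero, hEdeg]
      exact_mod_cast hdeg
    · rw [Polynomial.map_add, hEmap, Polynomial.map_mul, map_C, map_X]
      have : Ideal.Quotient.mk (Ideal.span {ϖ}) ϖ = 0 :=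
        Ideal.Quotient.eq_zero_iff_mem.mpr (Ideal.mem_span_singleton_self ϖ)
      rw [this, C_0, zero_mul, add_zero]
    · rw [derivative_add, derivative_expand, derivative_C_mul, derivative_X, mul_one]
      have : ((p : ℕ) : (↥R)[X]) = 0 := by
        rw [← C_eq_natCast, hpR, C_0]
      rw [this, zero_mul, mul_zero, zero_add]

end Groth.Agent.Lib.Helper24.DvrExt
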