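import Groth.Agent.Lib.Helper24.DvrExtA

set_option maxHeartbeats 400000
set_option linter.style.haveILetI false
set_option linter.unusedSectionVars false
set_option autoImplicit false

/-! The Zorn invariant for DVR extensions inside a valuation ring of an algebraic closure. -/

namespace Groth.Agent.Lib.Helper24.DvrExt

open Polynomial

universe u

variable {A : Type u} [CommRing A] [IsDomain A] [IsDiscreteValuationRing A]
variable {K : Type u} [Field K] [Algebra A K]
variable {Ω : Type u} [Field Ω] [Algebra K Ω] [Algebra A Ω] [IsScalarTower A K Ω]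

variable (A K) in
/-- The invariant. -/
structure Good (V : ValuationSubring Ω) (ϖ : A) (F : Subring (IsLocalRing.ResidueField V))
    (R : Subring Ω) : Prop where
  base : ∀ a : A, algebraMap A Ω a ∈ R
  leV : ∀ x ∈ R, x ∈ V
  sep : ∀ x ∈ R, x ∈ separableClosure K Ω
  inv : ∀ x ∈ R, ∀ hx : x ∈ V, IsLocalRing.residue V ⟨x, hx⟩ ≠ 0 → x⁻¹ ∈ R
  div : ∀ x ∈ R, ∀ hx : x ∈ V, IsLocalRing.residue V ⟨x, hx⟩ = 0 →
    x * (algebraMap A Ω ϖ)⁻¹ ∈ R
  res : ∀ x ∈ R, ∀ hx : x ∈ V, IsLocalRing.residue V ⟨x, hx⟩ ∈ F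

theorem good_base (V : ValuationSubring Ω) (ϖ : A) (hϖ : Irreducible ϖ)
    (F : Subring (IsLocalRing.ResidueField V))
    (hAV : ∀ a : A, algebraMap A Ω a ∈ V)
    (hπV : IsLocalRing.residue V ⟨algebraMap A Ω ϖ, hAV ϖ⟩ = 0)
    (hπ0 : algebraMap A Ω ϖ ≠ 0)
    (hFA : ∀ a : A, IsLocalRing.residue V ⟨algebraMap A Ω a, hAV a⟩ ∈ F) :
    Good A K V ϖ F (algebraMap A Ω).range where
  base a := ⟨a, rfl⟩
  leV := by rintro _ ⟨a, rfl⟩; exact hAV a
  sep := by
    rintro _ ⟨a, rfl⟩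
    rw [IsScalarTower.algebraMap_apply A K Ω]
    exact (separableClosure K Ω).algebraMap_mem _
  inv := by
    rintro _ ⟨a, rfl⟩ hx hne
    have hu : IsUnit a := by
      by_contra h
      have hm : a ∈ IsLocalRing.maximalIdeal A := (IsLocalRing.mem_maximalIdeal a).mpr h
      rw [hϖ.maximalIdeal_eq, Ideal.mem_span_singleton'] at hm
      obtain ⟨c, rfl⟩ := hm
      apply hne
      have : (⟨algebraMap A Ω (c * ϖ), hx⟩ : V) =
          ⟨algebraMap A Ω c, hAV c⟩ * ⟨algebraMap A Ω ϖ, hAV ϖ⟩ :=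
        Subtype.ext (by
          show algebraMap A Ω (c * ϖ) = algebraMap A Ω c * algebraMap A Ω ϖ
          rw [map_mul])
      rw [this, map_mul, hπV, mul_zero]
    obtain ⟨a', ha'⟩ := isUnit_iff_exists_inv.mp hu
    have : algebraMap A Ω a * algebraMap A Ω a' = 1 := by rw [← map_mul, ha', map_one]
    rw [inv_eq_of_mul_eq_one_right this]
    exact ⟨a', rfl⟩
  div := by
    rintro _ ⟨a, rfl⟩ hx h0
    have hm : a ∈ IsLocalRing.maximalIdeal A := by
      rw [IsLocalRing.mem_maximalIdeal]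
      intro hu
      obtain ⟨a', ha'⟩ := isUnit_iff_exists_inv.mp hu
      have h1 : (⟨algebraMap A Ω a, hx⟩ : V) * ⟨algebraMap A Ω a', hAV a'⟩ = 1 :=
        Subtype.ext (by
          show algebraMap A Ω a * algebraMap A Ω a' = 1
          rw [← map_mul, ha', map_one])
      have := congrArg (IsLocalRing.residue V) h1
      rw [map_mul, h0, zero_mul, map_one] at this
      exact zero_ne_one this
    rw [hϖ.maximalIdeal_eq, Ideal.mem_span_singleton'] at hm
    obtain ⟨c, rfl⟩ := hm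
    refine ⟨c, ?_⟩
    rw [map_mul, mul_assoc, mul_inv_cancel₀ hπ0, mul_one]
  res := by rintro _ ⟨a, rfl⟩ hx; exact hFA a

theorem good_sSup (V : ValuationSubring Ω) (ϖ : A) (F : Subring (IsLocalRing.ResidueField V))
    (c : Set (Subring Ω)) (hc : IsChain (· ≤ ·) c) (hne : c.Nonempty)
    (h : ∀ R ∈ c, Good A K V ϖ F R) : Good A K V ϖ F (sSup c) := by
  have hmem : ∀ {x : Ω}, x ∈ sSup c ↔ ∃ R ∈ c, x ∈ R := fun {x} =>
    Subring.mem_sSup_of_directedOn hne hc.directedOn
  have hle : ∀ R ∈ c, R ≤ sSup c := fun R hR => le_sSup hR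
  refine ⟨?_, ?_, ?_, ?_, ?_, ?_⟩
  · intro a
    obtain ⟨R, hR⟩ := hne
    exact hle R hR ((h R hR).base a)
  · intro x hx
    obtain ⟨R, hR, hxR⟩ := hmem.mp hx
    exact (h R hR).leV x hxR
  · intro x hx
    obtain ⟨R, hR, hxR⟩ := hmem.mp hx
    exact (h R hR).sep x hxR
  · intro x hx hxV hne'
    obtain ⟨R, hR, hxR⟩ := hmem.mp hx
    exact hle R hR ((h R hR).inv x hxR hxV hne')
  · intro x hx hxV h0
    obtain ⟨R, hR, hxR⟩ := hmem.mp hx
    exact hle R hR ((h R hR).div x hxR hxV h0)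
  · intro x hx hxV
    obtain ⟨R, hR, hxR⟩ := hmem.mp hx
    exact (h R hR).res x hxR hxV

theorem good_step [IsAlgClosed Ω] [Algebra.IsAlgebraic K Ω]
    (V : ValuationSubring Ω) (ϖ : A) (F : Subring (IsLocalRing.ResidueField V))
    (hAV : ∀ a : A, algebraMap A Ω a ∈ V)
    (hπV : IsLocalRing.residue V ⟨algebraMap A Ω ϖ, hAV ϖ⟩ = 0)
    (hπ0 : algebraMap A Ω ϖ ≠ 0)
    (R : Subring Ω) (hR : Good A K V ϖ F R)
    (b : IsLocalRing.ResidueField V) (hbF : b ∈ F)
    (hbint : ∃ P : A[X], P.Monic ∧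
      P.eval₂ ((IsLocalRing.residue V).comp ((algebraMap A Ω).codRestrict V hAV)) b = 0)
    (hbR : ∀ x ∈ R, ∀ hx : x ∈ V, IsLocalRing.residue V ⟨x, hx⟩ ≠ b) :
    ∃ R' : Subring Ω, Good A K V ϖ F R' ∧ R ≤ R' ∧
      ∃ α ∈ R', ∃ hα : α ∈ V, IsLocalRing.residue V ⟨α, hα⟩ = b := by
  classical
  let incl : ↥R →+* ↥V := R.subtype.codRestrict V (fun x => hR.leV x.1 x.2)
  let ρ : ↥R →+* IsLocalRing.ResidueField V := (IsLocalRing.residue V).comp incl
  have hincl : V.subtype.comp incl = R.subtype := by ext x; rfl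
  let ϖR : ↥R := ⟨algebraMap A Ω ϖ, hR.base ϖ⟩
  have hρϖ : ρ ϖR = 0 := hπV
  have hloc : ∀ r : ↥R, r ∈ Ideal.span {ϖR} ∨ IsUnit r := by
    intro r
    by_cases h : ρ r = 0
    · left
      rw [Ideal.mem_span_singleton']
      exact ⟨⟨r.1 * (algebraMap A Ω ϖ)⁻¹, hR.div r.1 r.2 _ h⟩, Subtype.ext (by
        show r.1 * (algebraMap A Ω ϖ)⁻¹ * algebraMap A Ω ϖ = r.1
        rw [mul_assoc, inv_mul_cancel₀ hπ0, mul_one])⟩
    · right
      have hr0 : r.1 ≠ 0 := by
        intro h0; apply h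
        have : r = 0 := Subtype.ext h0
        rw [this, map_zero]
      exact isUnit_iff_exists_inv.mpr ⟨⟨r.1⁻¹, hR.inv r.1 r.2 _ h⟩, Subtype.ext (by
        show r.1 * r.1⁻¹ = 1
        exact mul_inv_cancel₀ hr0)⟩
  have hker : ∀ r : ↥R, r ∈ Ideal.span {ϖR} → ρ r = 0 := by
    intro r hr
    rw [Ideal.mem_span_singleton'] at hr
    obtain ⟨a, rfl⟩ := hr
    rw [map_mul, hρϖ, mul_zero]
  have hmax : (Ideal.span {ϖR}).IsMaximal := by
    rw [Ideal.isMaximal_iff]
    refine ⟨?_, ?_⟩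
    · intro h1
      have := hker 1 h1
      rw [map_one] at this
      exact one_ne_zero this
    · intro J x hIJ hxI hxJ
      rcases hloc x with h | h
      · exact absurd h hxI
      · exact (Ideal.eq_top_iff_one J).mp (Ideal.eq_top_of_isUnit_mem J hxJ h)
  haveI := hmax
  letI : Field (↥R ⧸ Ideal.span {ϖR}) := Ideal.Quotient.field _
  let ρbar : (↥R ⧸ Ideal.span {ϖR}) →+* IsLocalRing.ResidueField V :=
    Ideal.Quotient.lift _ ρ hker
  letI : Algebra (↥R ⧸ Ideal.span {ϖR}) (IsLocalRing.ResidueField V) := ρbar.toAlgebra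
  have halg : algebraMap (↥R ⧸ Ideal.span {ϖR}) (IsLocalRing.ResidueField V) = ρbar := rfl
  have hρbar : ρbar.comp (Ideal.Quotient.mk _) = ρ := by ext x; rfl
  obtain ⟨P, hPm, hP0⟩ := hbint
  let φR : A →+* ↥R := (algebraMap A Ω).codRestrict R hR.base
  have hint : IsIntegral (↥R ⧸ Ideal.span {ϖR}) b := by
    refine ⟨(P.map φR).map (Ideal.Quotient.mk _), (hPm.map _).map _, ?_⟩
    rw [halg, Polynomial.eval₂_map, Polynomial.eval₂_map, hρbar]
    have : ρ.comp φR =
        (IsLocalRing.residue V).comp ((algebraMap A Ω).codRestrict V hAV) := by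
      ext a; rfl
    rw [this]
    exact hP0
  have hirr : Irreducible (minpoly (↥R ⧸ Ideal.span {ϖR}) b) := minpoly.irreducible hint
  have hmon : (minpoly (↥R ⧸ Ideal.span {ϖR}) b).Monic := minpoly.monic hint
  have hdeg : 2 ≤ (minpoly (↥R ⧸ Ideal.span {ϖR}) b).natDegree := by
    rw [minpoly.two_le_natDegree_iff hint]
    rintro ⟨z, hz⟩
    obtain ⟨r, rfl⟩ := Ideal.Quotient.mk_surjective z
    exact hbR r.1 r.2 (hR.leV r.1 r.2) hz
  obtain ⟨g, hgm, hgmap, α, hαroot, hαres, hαsep⟩ : ∃ g : (↥R)[X], g.Monic ∧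
      g.map (Ideal.Quotient.mk (Ideal.span {ϖR})) = minpoly (↥R ⧸ Ideal.span {ϖR}) b ∧
      ∃ α : V, g.eval₂ incl α = 0 ∧ IsLocalRing.residue V α = b ∧
        (α : Ω) ∈ separableClosure K Ω := by
    have key : ∀ g : (↥R)[X], g.Monic →
        g.map (Ideal.Quotient.mk (Ideal.span {ϖR})) = minpoly (↥R ⧸ Ideal.span {ϖR}) b →
        ∃ α : V, g.eval₂ incl α = 0 ∧ IsLocalRing.residue V α = b := by
      intro g hgm hgmap
      have hb0 : ((g.map incl).map (IsLocalRing.residue V)).eval b = 0 := by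
        rw [Polynomial.map_map]
        have : g.map ρ = (minpoly (↥R ⧸ Ideal.span {ϖR}) b).map ρbar := by
          rw [← hgmap, Polynomial.map_map, hρbar]
        show (g.map ρ).eval b = 0
        rw [this, Polynomial.eval_map, ← halg, ← Polynomial.aeval_def, minpoly.aeval]
      obtain ⟨α, hα1, hα2⟩ := exists_root_residue V (g.map incl) (hgm.map _) b hb0
      exact ⟨α, by rwa [Polynomial.eval_map] at hα1, hα2⟩
    rcases CharP.exists' K with h0 | ⟨p, hp, hchar⟩
    · haveI := h0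
      obtain ⟨g, hg1, -, hg2⟩ := lifts_and_natDegree_eq_and_monic
        ((mem_lifts _).mpr (map_surjective _ Ideal.Quotient.mk_surjective _)) hmon
      obtain ⟨α, hα1, hα2⟩ := key g hg2 hg1
      refine ⟨g, hg2, hg1, α, hα1, hα2, ?_⟩
      have : separableClosure K Ω = ⊤ := (separableClosure.eq_top_iff K Ω).mpr inferInstance
      rw [this]; exact IntermediateField.mem_top
    · haveI := hp
      haveI := hchar
      haveI : CharP Ω p := charP_of_injective_algebraMap (algebraMap K Ω).injective p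
      obtain ⟨g, hg2, hg1, hcase⟩ := exists_lift_charP p R ϖR hmax _ hmon hirr hdeg
      obtain ⟨α, hα1, hα2⟩ := key g hg2 hg1
      refine ⟨g, hg2, hg1, α, hα1, hα2, ?_⟩
      apply mem_separableClosure_of_simple_root R hR.sep g (α : Ω)
      · have := congrArg V.subtype hα1
        rw [Polynomial.hom_eval₂, hincl, map_zero] at this
        exact this
      · rcases hcase with hsep | hder
        · intro hzero
          have h1 : (derivative g).eval₂ incl α = 0 := by
            apply Subtype.ext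
            have := Polynomial.hom_eval₂ (derivative g) incl V.subtype α
            rw [hincl] at this
            exact this.trans hzero
          have h2 := congrArg (IsLocalRing.residue V) h1
          rw [Polynomial.hom_eval₂, map_zero, hα2] at h2
          have h3 : aeval b (derivative (minpoly (↥R ⧸ Ideal.span {ϖR}) b)) = 0 := by
            rw [← hg1, Polynomial.derivative_map, Polynomial.aeval_def, Polynomial.eval₂_map,
              halg, hρbar]
            exact h2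
          exact hsep.aeval_derivative_ne_zero (minpoly.aeval _ b) h3
        · rw [hder, Polynomial.eval₂_C]
          exact hπ0
  let θV : AdjoinRoot g →+* ↥V := AdjoinRoot.lift incl α hαroot
  let θ : AdjoinRoot g →+* Ω := V.subtype.comp θV
  have hθof : ∀ r : ↥R, θ (AdjoinRoot.of g r) = r.1 := by
    intro r
    show ((θV (AdjoinRoot.of g r) : V) : Ω) = r.1
    rw [AdjoinRoot.lift_of]; rfl
  have hθmk : ∀ f : (↥R)[X], θV (AdjoinRoot.mk g f) = f.eval₂ incl α :=
    fun f => AdjoinRoot.lift_mk _ f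
  have hlocT := adjoinRoot_local ϖR hmax hloc g hgm (by rw [hgmap]; exact hirr)
  have hθϖ : θ (AdjoinRoot.of g ϖR) = algebraMap A Ω ϖ := hθof ϖR
  have hresϖ : IsLocalRing.residue V (θV (AdjoinRoot.of g ϖR)) = 0 := by
    rw [AdjoinRoot.lift_of]; exact hρϖ
  refine ⟨θ.range, ⟨?_, ?_, ?_, ?_, ?_, ?_⟩, ?_, ?_⟩
  · intro a; exact ⟨AdjoinRoot.of g ⟨_, hR.base a⟩, hθof _⟩
  · rintro _ ⟨t, rfl⟩; exact (θV t).2
  · rintro _ ⟨t, rfl⟩
    obtain ⟨f, rfl⟩ := AdjoinRoot.mk_surjective t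
    show V.subtype (θV (AdjoinRoot.mk g f)) ∈ _
    rw [hθmk]
    have := Polynomial.hom_eval₂ f incl V.subtype α
    rw [hincl] at this
    rw [this]
    exact eval₂_mem_subring R.subtype (separableClosure K Ω).toSubring
      (fun r => hR.sep r.1 r.2) hαsep f
  · rintro _ ⟨t, rfl⟩ hx hne
    have hxe : (⟨θ t, hx⟩ : V) = θV t := Subtype.ext rfl
    rw [hxe] at hne
    rcases hlocT t with h | h
    · exfalso; apply hne
      rw [Ideal.mem_span_singleton'] at h
      obtain ⟨c, rfl⟩ := h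
      rw [map_mul, map_mul, hresϖ, mul_zero]
    · obtain ⟨u, hu⟩ := isUnit_iff_exists_inv.mp h
      have : θ t * θ u = 1 := by rw [← map_mul, hu, map_one]
      rw [inv_eq_of_mul_eq_one_right this]
      exact ⟨u, rfl⟩
  · rintro _ ⟨t, rfl⟩ hx h0
    have hxe : (⟨θ t, hx⟩ : V) = θV t := Subtype.ext rfl
    rw [hxe] at h0
    rcases hlocT t with h | h
    · rw [Ideal.mem_span_singleton'] at h
      obtain ⟨c, rfl⟩ := h
      refine ⟨c, ?_⟩
      rw [map_mul, hθϖ, mul_assoc, mul_inv_cancel₀ hπ0, mul_one]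
    · exfalso
      have := (h.map θV).map (IsLocalRing.residue V)
      rw [h0] at this
      exact not_isUnit_zero this
  · rintro _ ⟨t, rfl⟩ hx
    have hxe : (⟨θ t, hx⟩ : V) = θV t := Subtype.ext rfl
    rw [hxe]
    obtain ⟨f, rfl⟩ := AdjoinRoot.mk_surjective t
    rw [hθmk, Polynomial.hom_eval₂, hαres]
    exact eval₂_mem_subring _ F (fun r => hR.res r.1 r.2 (hR.leV r.1 r.2)) hbF f
  · intro x hx; exact ⟨AdjoinRoot.of g ⟨x, hx⟩, hθof _⟩
  · refine ⟨(α : Ω), ⟨AdjoinRoot.root g, ?_⟩, α.2, ?_⟩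
    · show ((θV (AdjoinRoot.root g) : V) : Ω) = α
      rw [AdjoinRoot.lift_root]
    · exact hαres

end Groth.Agent.Lib.Helper24.DvrExt
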