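import Groth.Agent.Lib.Helper24.DvrExtB

set_option maxHeartbeats 800000
set_option linter.style.haveILetI false
set_option linter.unusedSectionVars false
set_option autoImplicit false

/-! Existence of an unramified DVR extension with prescribed algebraic residue field. -/

namespace Groth.Agent.Lib.Helper24.DvrExt

open Polynomial

universe u

variable {A : Type u} [CommRing A] [IsDomain A] [IsDiscreteValuationRing A]
variable {K : Type u} [Field K] [Algebra A K]
variable {Ω : Type u} [Field Ω] [Algebra K Ω] [Algebra A Ω] [IsScalarTower A K Ω]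

theorem exists_dvr_extension [IsFractionRing A K] [IsAlgClosed Ω] [Algebra.IsAlgebraic K Ω]
    (k' : Type u) [Field k'] [Algebra (IsLocalRing.ResidueField A) k']
    [Algebra.IsAlgebraic (IsLocalRing.ResidueField A) k'] :
    ∃ (M : Subring Ω) (_ : IsDiscreteValuationRing ↥M) (φ : A →+* ↥M),
      Function.Injective φ ∧ IsLocalHom φ ∧
      Ideal.map φ (IsLocalRing.maximalIdeal A) = IsLocalRing.maximalIdeal ↥M ∧
      (∃ e : IsLocalRing.ResidueField ↥M ≃+* k',
        ∀ a : A, e (IsLocalRing.residue ↥M (φ a)) =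
          algebraMap (IsLocalRing.ResidueField A) k' (IsLocalRing.residue A a)) ∧
      ∀ x : ↥M, ∃ p : A[X], (p.map (algebraMap A K)).Separable ∧ p.eval₂ φ x = 0 := by
  classical
  obtain ⟨ϖ, hϖ⟩ := IsDiscreteValuationRing.exists_irreducible A
  have hinj : Function.Injective (algebraMap A Ω) := by
    rw [IsScalarTower.algebraMap_eq A K Ω]
    exact (algebraMap K Ω).injective.comp (IsFractionRing.injective A K)
  have hπ0 : algebraMap A Ω ϖ ≠ 0 := fun h => hϖ.ne_zero (hinj (h.trans (map_zero _).symm))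
  obtain ⟨V, hAV0, hlocal⟩ := IsLocalRing.exists_factor_valuationRing (algebraMap A Ω)
  have hAV : ∀ a : A, algebraMap A Ω a ∈ V := hAV0
  let fV : A →+* ↥V := (algebraMap A Ω).codRestrict V hAV
  haveI : IsLocalHom fV := by
    constructor
    intro a ha
    obtain ⟨u, hu⟩ := isUnit_iff_exists_inv.mp ha
    have h1 : algebraMap A Ω a * (u : Ω) = 1 := congrArg Subtype.val hu
    apply hlocal.map_nonunit a
    exact isUnit_iff_exists_inv.mpr ⟨⟨(u : Ω), u.2⟩, Subtype.ext h1⟩
  have hπV : IsLocalRing.residue V ⟨algebraMap A Ω ϖ, hAV ϖ⟩ = 0 := by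
    rw [IsLocalRing.residue_eq_zero_iff]
    exact map_nonunit fV ϖ ((IsLocalRing.mem_maximalIdeal ϖ).mpr hϖ.not_isUnit)
  letI : Algebra (IsLocalRing.ResidueField A) (IsLocalRing.ResidueField V) :=
    (IsLocalRing.ResidueField.map fV).toAlgebra
  haveI : IsAlgClosed (IsLocalRing.ResidueField V) := isAlgClosed_residueField V
  let ι : k' →ₐ[IsLocalRing.ResidueField A] IsLocalRing.ResidueField V := IsAlgClosed.lift
  let ιr : k' →+* IsLocalRing.ResidueField V := ι.toRingHom
  have hιc : ∀ z, ιr (algebraMap (IsLocalRing.ResidueField A) k' z) =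
      algebraMap (IsLocalRing.ResidueField A) (IsLocalRing.ResidueField V) z := fun z => ι.commutes z
  let F : Subring (IsLocalRing.ResidueField V) := ιr.range
  have hFA : ∀ a : A, IsLocalRing.residue V ⟨algebraMap A Ω a, hAV a⟩ ∈ F := by
    intro a
    refine ⟨algebraMap _ k' (IsLocalRing.residue A a), ?_⟩
    rw [hιc]
    rfl
  have hbase : Good A K V ϖ F (algebraMap A Ω).range := good_base V ϖ hϖ F hAV hπV hπ0 hFA
  obtain ⟨M, -, hMmax⟩ := zorn_le_nonempty₀ {R | Good A K V ϖ F R}
    (fun c hcs hc y hy => ⟨sSup c, good_sSup V ϖ F c hc ⟨y, hy⟩ (fun R hR => hcs hR),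
      fun z hz => le_sSup hz⟩) _ hbase
  have hM : Good A K V ϖ F M := hMmax.prop
  have hsurjF : ∀ y : k', ∃ x ∈ M, ∃ hx : x ∈ V, IsLocalRing.residue V ⟨x, hx⟩ = ιr y := by
    intro y
    by_contra hcon
    push Not at hcon
    have hyint : IsIntegral (IsLocalRing.ResidueField A) y := Algebra.IsIntegral.isIntegral y
    obtain ⟨P, hP1, -, hP2⟩ := lifts_and_natDegree_eq_and_monic
      ((mem_lifts _).mpr (map_surjective _ IsLocalRing.residue_surjective
        (minpoly (IsLocalRing.ResidueField A) y))) (minpoly.monic hyint)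
    have hbint : ∃ P : A[X], P.Monic ∧
        P.eval₂ ((IsLocalRing.residue V).comp ((algebraMap A Ω).codRestrict V hAV)) (ιr y) = 0 := by
      refine ⟨P, hP2, ?_⟩
      have h1 : (IsLocalRing.residue V).comp ((algebraMap A Ω).codRestrict V hAV) =
          (algebraMap (IsLocalRing.ResidueField A) (IsLocalRing.ResidueField V)).comp
            (IsLocalRing.residue A) := rfl
      rw [h1, ← Polynomial.eval₂_map, hP1, ← Polynomial.aeval_def]
      show aeval (ι y) (minpoly (IsLocalRing.ResidueField A) y) = 0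
      rw [Polynomial.aeval_algHom_apply, minpoly.aeval, map_zero]
    obtain ⟨R', hR', hle, α, hαR', hαV, hαres⟩ :=
      good_step V ϖ F hAV hπV hπ0 M hM (ιr y) ⟨y, rfl⟩ hbint hcon
    have : R' ≤ M := hMmax.le_of_ge hR' hle
    exact hcon α (this hαR') hαV hαres
  let incl : ↥M →+* ↥V := M.subtype.codRestrict V (fun x => hM.leV x.1 x.2)
  let ρ : ↥M →+* IsLocalRing.ResidueField V := (IsLocalRing.residue V).comp incl
  let ϖM : ↥M := ⟨algebraMap A Ω ϖ, hM.base ϖ⟩
  have hρϖ : ρ ϖM = 0 := hπV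
  have hspan : ∀ r : ↥M, ρ r = 0 → r ∈ Ideal.span {ϖM} := by
    intro r h
    rw [Ideal.mem_span_singleton']
    exact ⟨⟨r.1 * (algebraMap A Ω ϖ)⁻¹, hM.div r.1 r.2 _ h⟩, Subtype.ext (by
      show r.1 * (algebraMap A Ω ϖ)⁻¹ * algebraMap A Ω ϖ = r.1
      rw [mul_assoc, inv_mul_cancel₀ hπ0, mul_one])⟩
  have hunit : ∀ r : ↥M, ρ r ≠ 0 → IsUnit r := by
    intro r h
    have hr0 : r.1 ≠ 0 := by
      intro h0; apply h
      have : r = 0 := Subtype.ext h0
      rw [this, map_zero]
    exact isUnit_iff_exists_inv.mpr ⟨⟨r.1⁻¹, hM.inv r.1 r.2 _ h⟩, Subtype.ext (by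
      show r.1 * r.1⁻¹ = 1
      exact mul_inv_cancel₀ hr0)⟩
  have hloc : ∀ r : ↥M, r ∈ Ideal.span {ϖM} ∨ IsUnit r := by
    intro r
    by_cases h : ρ r = 0
    · exact Or.inl (hspan r h)
    · exact Or.inr (hunit r h)
  have hnu : ¬ IsUnit ϖM := by
    intro hu
    have := hu.map ρ
    rw [hρϖ] at this
    exact not_isUnit_zero this
  have hϖM0 : ϖM ≠ 0 := fun h => hπ0 (congrArg Subtype.val h)
  have hirrM : Irreducible ϖM := by
    rw [irreducible_iff]
    refine ⟨hnu, ?_⟩
    intro a b hab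
    rcases hloc a with ha | ha
    · rcases hloc b with hb | hb
      · exfalso
        rw [Ideal.mem_span_singleton'] at ha hb
        obtain ⟨a', rfl⟩ := ha
        obtain ⟨b', rfl⟩ := hb
        have h1 : ϖM * 1 = ϖM * (a' * b' * ϖM) := by
          rw [mul_one]
          calc ϖM = a' * ϖM * (b' * ϖM) := hab
            _ = ϖM * (a' * b' * ϖM) := by ring
        have h2 := mul_left_cancel₀ hϖM0 h1
        exact hnu (IsUnit.of_mul_eq_one (a' * b') (by rw [mul_comm]; exact h2.symm))
      · exact Or.inr hb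
    · exact Or.inl ha
  have hpow : ∀ m : ℕ, ∀ x : ↥M, x ≠ 0 → ¬ (ϖM ^ (m + 1) ∣ x) →
      ∃ n, Associated (ϖM ^ n) x := by
    intro m
    induction m with
    | zero =>
      intro x hx hnd
      rcases hloc x with h | h
      · exfalso; apply hnd
        rw [zero_add, pow_one]
        exact Ideal.mem_span_singleton.mp h
      · exact ⟨0, by rw [pow_zero]; exact (associated_one_iff_isUnit.mpr h).symm⟩
    | succ m ih =>
      intro x hx hnd
      rcases hloc x with h | h
      · rw [Ideal.mem_span_singleton'] at h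
        obtain ⟨c, rfl⟩ := h
        have hc0 : c ≠ 0 := fun h0 => hx (by rw [h0, zero_mul])
        have hcnd : ¬ (ϖM ^ (m + 1) ∣ c) := by
          intro hd
          apply hnd
          rw [pow_succ ϖM (m + 1)]
          exact mul_dvd_mul_right hd ϖM
        obtain ⟨n, hn⟩ := ih c hc0 hcnd
        exact ⟨n + 1, by rw [pow_succ]; exact hn.mul_right ϖM⟩
      · exact ⟨0, by rw [pow_zero]; exact (associated_one_iff_isUnit.mpr h).symm⟩
  let φ : A →+* ↥M := (algebraMap A Ω).codRestrict M hM.base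
  have hφ : M.subtype.comp φ = algebraMap A Ω := by ext a; rfl
  have hbound : ∀ x : ↥M, x ≠ 0 → ∃ m, ¬ (ϖM ^ (m + 1) ∣ x) := by
    intro x hx
    have hx0 : (x : Ω) ≠ 0 := fun h => hx (Subtype.ext h)
    have halg : IsAlgebraic A (x : Ω) :=
      (IsFractionRing.isAlgebraic_iff A K Ω).mpr (Algebra.IsAlgebraic.isAlgebraic _)
    obtain ⟨q, hq0, hq⟩ :=
      halg.exists_nonzero_coeff_and_aeval_eq_zero (mem_nonZeroDivisors_of_ne_zero hx0)
    have hdvd : x ∣ φ (q.coeff 0) := by
      have h1 : (q.map φ).eval x = 0 := by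
        apply Subtype.ext
        have := Polynomial.hom_eval₂ q φ M.subtype x
        rw [hφ] at this
        rw [Polynomial.eval_map]
        show M.subtype (q.eval₂ φ x) = 0
        rw [this, ← Polynomial.aeval_def]
        exact hq
      have h2 := Polynomial.divX_mul_X_add (q.map φ)
      have h3 : (q.map φ).eval x = (divX (q.map φ)).eval x * x + φ (q.coeff 0) := by
        conv_lhs => rw [← h2]
        rw [eval_add, eval_mul, eval_X, eval_C, coeff_map]
      rw [h1] at h3
      refine ⟨-(divX (q.map φ)).eval x, ?_⟩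
      have : φ (q.coeff 0) = -((divX (q.map φ)).eval x * x) :=
        eq_neg_of_add_eq_zero_right h3.symm
      rw [this]; ring
    obtain ⟨m, u, hu⟩ := IsDiscreteValuationRing.eq_unit_mul_pow_irreducible hq0 hϖ
    refine ⟨m, fun hd => ?_⟩
    have h4 : ϖM ^ (m + 1) ∣ φ (u : A) * ϖM ^ m := by
      have : φ (q.coeff 0) = φ (u : A) * ϖM ^ m := by rw [hu, map_mul, map_pow]; rfl
      rw [← this]
      exact hd.trans hdvd
    have hu' : IsUnit (φ (u : A)) := u.isUnit.map φ
    have h5 : ϖM ^ (m + 1) ∣ ϖM ^ m := by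
      obtain ⟨c, hc⟩ := h4
      obtain ⟨v, hv⟩ := isUnit_iff_exists_inv.mp hu'
      refine ⟨v * c, ?_⟩
      calc ϖM ^ m = v * (φ (u : A) * ϖM ^ m) := by
            rw [← mul_assoc, mul_comm v, hv, one_mul]
        _ = v * (ϖM ^ (m + 1) * c) := by rw [hc]
        _ = ϖM ^ (m + 1) * (v * c) := by ring
    obtain ⟨c, hc⟩ := h5
    have h6 : ϖM ^ m * 1 = ϖM ^ m * (ϖM * c) := by
      rw [mul_one, ← mul_assoc, ← pow_succ]; exact hc
    have h7 := mul_left_cancel₀ (pow_ne_zero m hϖM0) h6
    exact hnu (IsUnit.of_mul_eq_one c h7.symm)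
  have hfact : IsDiscreteValuationRing.HasUnitMulPowIrreducibleFactorization ↥M :=
    ⟨ϖM, hirrM, fun {x} hx => by
      obtain ⟨m, hm⟩ := hbound x hx
      exact hpow m x hx hm⟩
  haveI hdvr : IsDiscreteValuationRing ↥M :=
    IsDiscreteValuationRing.ofHasUnitMulPowIrreducibleFactorization hfact
  refine ⟨M, hdvr, φ, ?_, ?_, ?_, ?_, ?_⟩
  · intro a b hab; exact hinj (congrArg Subtype.val hab)
  · constructor
    intro a ha
    have : IsUnit (fV a) := ha.map incl
    exact isUnit_of_map_unit fV a this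
  · rw [hϖ.maximalIdeal_eq, Ideal.map_span, Set.image_singleton, hirrM.maximalIdeal_eq]
    rfl
  · let ιE : k' ≃+* F := RingEquiv.ofLeftInverse (f := ιr)
      (Function.leftInverse_invFun ιr.injective)
    let ψ₀ : ↥M →+* k' :=
      (ιE.symm : F →+* k').comp (ρ.codRestrict F (fun r => hM.res r.1 r.2 _))
    have hψ₀ : ∀ r : ↥M, ιr (ψ₀ r) = ρ r := by
      intro r
      have := congrArg Subtype.val (ιE.apply_symm_apply ⟨ρ r, hM.res r.1 r.2 _⟩)
      exact this
    haveI : IsLocalHom ψ₀ := by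
      constructor
      intro r hr
      apply hunit r
      rw [← hψ₀]
      exact (map_ne_zero ιr).mpr hr.ne_zero
    let e₀ : IsLocalRing.ResidueField ↥M →+* k' := IsLocalRing.ResidueField.lift ψ₀
    have hbij : Function.Bijective e₀ := by
      refine ⟨e₀.injective, ?_⟩
      intro y
      obtain ⟨x, hxM, hxV, hx⟩ := hsurjF y
      refine ⟨IsLocalRing.residue ↥M ⟨x, hxM⟩, ?_⟩
      show ψ₀ ⟨x, hxM⟩ = y
      apply ιr.injective
      rw [hψ₀]
      exact hx
    refine ⟨RingEquiv.ofBijective e₀ hbij, ?_⟩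
    intro a
    show ψ₀ (φ a) = _
    apply ιr.injective
    rw [hψ₀, hιc]
    rfl
  · intro x
    have hsep : IsSeparable K (x : Ω) := mem_separableClosure_iff.mp (hM.sep x.1 x.2)
    obtain ⟨b, hb, hbp⟩ :=
      IsLocalization.integerNormalization_spec (nonZeroDivisors A) (minpoly K (x : Ω))
    refine ⟨IsLocalization.integerNormalization (nonZeroDivisors A) (minpoly K (x : Ω)), ?_, ?_⟩
    · rw [hbp, Algebra.smul_def]
      apply Polynomial.Separable.unit_mul _ hsep
      rw [Polynomial.algebraMap_apply]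
      exact Polynomial.isUnit_C.mpr (IsUnit.mk0 _
        ((map_ne_zero_iff _ (IsFractionRing.injective A K)).mpr (nonZeroDivisors.ne_zero hb)))
    · apply Subtype.ext
      have := Polynomial.hom_eval₂
        (IsLocalization.integerNormalization (nonZeroDivisors A) (minpoly K (x : Ω))) φ M.subtype x
      show M.subtype _ = 0
      rw [this, hφ, ← Polynomial.aeval_def]
      exact IsLocalization.integerNormalization_aeval_eq_zero (nonZeroDivisors A) _
        (minpoly.aeval K _)

end Groth.Agent.Lib.Helper24.DvrExt
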