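import Mathlib

/-!
# Eigenspace decomposition for an endomorphism acting by scalars on the graded pieces of a finite
filtration (helper24)
-/

set_option autoImplicit false
set_option linter.unusedSectionVars false

namespace Groth.Agent.Lib.Helper24.EigenFil

open Module.End

variable {F : Type*} [Field F] {M : Type*} [AddCommGroup M] [Module F M]

/-- the data: a decreasing filtration, finite of length `d`, on whose `n`-th graded piece `Ψ` acts
by the scalar `c n`, the scalars being distinct -/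
structure Data (Q : ℕ → Submodule F M) (Ψ : M →ₗ[F] M) (c : ℕ → F) (d : ℕ) : Prop where
  anti : ∀ {a b : ℕ}, a ≤ b → Q b ≤ Q a
  zero : Q 0 = ⊤
  top : Q (d + 1) = ⊥
  act : ∀ n, ∀ x ∈ Q n, Ψ x - c n • x ∈ Q (n + 1)
  inj : Function.Injective c

variable {Q : ℕ → Submodule F M} {Ψ : M →ₗ[F] M} {c : ℕ → F} {d : ℕ}

namespace Data

variable (D : Data Q Ψ c d)
include D

theorem eq_bot {n : ℕ} (hn : d + 1 ≤ n) : Q n = ⊥ :=
  le_bot_iff.mp (D.top ▸ D.anti hn)

theorem map_mem {n : ℕ} {x : M} (hx : x ∈ Q n) : Ψ x ∈ Q n := by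
  have h := D.act n x hx
  have e : Ψ x = (Ψ x - c n • x) + c n • x := by abel
  rw [e]
  exact add_mem (D.anti (Nat.le_succ n) h) (Submodule.smul_mem _ _ hx)

theorem sub_smul_mem {n : ℕ} {x : M} (hx : x ∈ Q n) (a : F) : Ψ x - a • x ∈ Q n :=
  sub_mem (D.map_mem hx) (Submodule.smul_mem _ _ hx)

theorem c_sub_ne {a b : ℕ} (h : a ≠ b) : c a - c b ≠ 0 :=
  sub_ne_zero.mpr fun e => h (D.inj e)

/-- eigenvectors for `c m` lie in `Q m` -/
theorem eig_le (m : ℕ) : eigenspace Ψ (c m) ≤ Q m := by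
  intro x hx
  rw [mem_eigenspace_iff] at hx
  have key : ∀ n, n ≤ m → x ∈ Q n := by
    intro n
    induction n with
    | zero =>
      intro _
      rw [D.zero]
      trivial
    | succ n ih =>
      intro hn
      have h1 := D.act n x (ih (by omega))
      rw [hx, ← sub_smul] at h1
      have hne := D.c_sub_ne (show m ≠ n by omega)
      have h2 := Submodule.smul_mem (Q (n + 1)) (c m - c n)⁻¹ h1
      rwa [smul_smul, inv_mul_cancel₀ hne, one_smul] at h2
  exact key m le_rfl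

/-- an eigenvector for `c m` in `Q n`, `n > m`, vanishes -/
theorem eig_inf_aux : ∀ (t n m : ℕ), d + 1 ≤ n + t → m < n → ∀ x, x ∈ eigenspace Ψ (c m) → x ∈ Q n →
    x = 0 := by
  intro t
  induction t with
  | zero =>
    intro n m hn _ x _ hxQ
    rw [D.eq_bot (by omega)] at hxQ
    exact (Submodule.mem_bot F).mp hxQ
  | succ t ih =>
    intro n m hn hmn x hx hxQ
    have hx' := mem_eigenspace_iff.mp hx
    have h1 := D.act n x hxQ
    rw [hx', ← sub_smul] at h1
    have h2 : (c m - c n) • x ∈ eigenspace Ψ (c m) := Submodule.smul_mem _ _ hx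
    have h3 := ih (n + 1) m (by omega) (by omega) _ h2 h1
    have hne := D.c_sub_ne (show m ≠ n by omega)
    exact (smul_eq_zero.mp h3).resolve_left hne

theorem eig_inf {m n : ℕ} (hmn : m < n) : eigenspace Ψ (c m) ⊓ Q n = ⊥ := by
  rw [eq_bot_iff]
  intro x hx
  rw [Submodule.mem_inf] at hx
  exact (Submodule.mem_bot F).mpr (D.eig_inf_aux (d + 1) n m (by omega) hmn x hx.1 hx.2)

/-- `Ψ - c m` is surjective on `Q n` for `n > m` -/
theorem surj_aux : ∀ (t n m : ℕ), d + 1 ≤ n + t → m < n → ∀ y0 ∈ Q n,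
    ∃ y ∈ Q n, Ψ y - c m • y = y0 := by
  intro t
  induction t with
  | zero =>
    intro n m hn _ y0 hy0
    rw [D.eq_bot (by omega)] at hy0
    rw [(Submodule.mem_bot F).mp hy0]
    exact ⟨0, zero_mem _, by simp⟩
  | succ t ih =>
    intro n m hn hmn y0 hy0
    have hne := D.c_sub_ne (show n ≠ m by omega)
    have hr : (c n - c m)⁻¹ • (Ψ y0 - c n • y0) ∈ Q (n + 1) :=
      Submodule.smul_mem _ _ (D.act n y0 hy0)
    obtain ⟨y2, hy2, he2⟩ := ih (n + 1) m (by omega) (by omega) _ hr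
    refine ⟨(c n - c m)⁻¹ • y0 - y2,
      sub_mem (Submodule.smul_mem _ _ hy0) (D.anti (Nat.le_succ n) hy2), ?_⟩
    have e : Ψ ((c n - c m)⁻¹ • y0 - y2) - c m • ((c n - c m)⁻¹ • y0 - y2) =
        (c n - c m)⁻¹ • (Ψ y0 - c n • y0) + ((c n - c m)⁻¹ * (c n - c m)) • y0 -
          (Ψ y2 - c m • y2) := by
      rw [map_sub, map_smul]
      module
    rw [e, he2, inv_mul_cancel₀ hne, one_smul]
    abel

theorem le_sup (m : ℕ) : Q m ≤ eigenspace Ψ (c m) ⊔ Q (m + 1) := by
  intro x hx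
  obtain ⟨y, hy, he⟩ := D.surj_aux (d + 1) (m + 1) m (by omega) (Nat.lt_succ_self m) _ (D.act m x hx)
  have hv : x - y ∈ eigenspace Ψ (c m) := by
    rw [mem_eigenspace_iff, map_sub, smul_sub]
    have : Ψ x - Ψ y - (c m • x - c m • y) = (Ψ x - c m • x) - (Ψ y - c m • y) := by abel
    rw [← sub_eq_zero, this, he, sub_self]
  have e : x = (x - y) + y := by abel
  rw [e]
  exact Submodule.add_mem_sup hv hy

/-- **`Q m = V(m) ⊕ Q (m+1)`** -/
theorem sup_eq (m : ℕ) : eigenspace Ψ (c m) ⊔ Q (m + 1) = Q m :=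
  le_antisymm (sup_le (D.eig_le m) (D.anti (Nat.le_succ m))) (D.le_sup m)

theorem le_iSup_aux : ∀ (t n : ℕ), d + 1 ≤ n + t →
    Q n ≤ ⨆ m ∈ Finset.range (d + 1), eigenspace Ψ (c m) := by
  intro t
  induction t with
  | zero =>
    intro n hn
    rw [D.eq_bot (by omega)]
    exact bot_le
  | succ t ih =>
    intro n hn
    rcases Nat.lt_or_ge d n with hdn | hdn
    · rw [D.eq_bot (by omega)]
      exact bot_le
    · rw [← D.sup_eq n]
      refine sup_le ?_ (ih (n + 1) (by omega))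
      exact le_iSup₂_of_le n (Finset.mem_range.mpr (by omega)) le_rfl

/-- the eigenspaces for `c 0, …, c d` span everything -/
theorem iSup_eq_top : ⨆ m ∈ Finset.range (d + 1), eigenspace Ψ (c m) = ⊤ := by
  rw [eq_top_iff, ← D.zero]
  exact D.le_iSup_aux (d + 1) 0 (by omega)

end Data

/-- two commuting endomorphisms with the same filtration have the same eigenspaces -/
theorem eig_le_of_commute {Ψ' : M →ₗ[F] M} {c' : ℕ → F} (D : Data Q Ψ c d) (D' : Data Q Ψ' c' d)
    (hcomm : ∀ x, Ψ (Ψ' x) = Ψ' (Ψ x)) (m : ℕ) :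
    eigenspace Ψ (c m) ≤ eigenspace Ψ' (c' m) := by
  intro x hx
  have hxQ := D.eig_le m hx
  obtain ⟨v, hv, y, hy, rfl⟩ := Submodule.mem_sup.mp (D'.le_sup m hxQ)
  have hx' := mem_eigenspace_iff.mp hx
  have hv' := mem_eigenspace_iff.mp hv
  -- `Ψ v - c m • v ∈ V'(m) ∩ Q (m+1)`
  have h1 : Ψ v - c m • v ∈ eigenspace Ψ' (c' m) := by
    rw [mem_eigenspace_iff, map_sub, map_smul, ← hcomm, hv', map_smul, smul_sub, smul_comm (c' m) (c m)]
  have h2 : Ψ v - c m • v = -(Ψ y - c m • y) := by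
    rw [map_add, smul_add] at hx'
    have : (Ψ v - c m • v) + (Ψ y - c m • y) = 0 := by
      rw [← sub_eq_zero] at hx'
      rw [← hx']
      abel
    exact eq_neg_of_add_eq_zero_left this
  have h3 : Ψ v - c m • v ∈ Q (m + 1) := by
    rw [h2]
    exact neg_mem (D.sub_smul_mem hy (c m))
  have h4 : Ψ v - c m • v = 0 := by
    have := D'.eig_inf (Nat.lt_succ_self m)
    rw [eq_bot_iff] at this
    exact (Submodule.mem_bot F).mp (this (Submodule.mem_inf.mpr ⟨h1, h3⟩))
  have h5 : y ∈ eigenspace Ψ (c m) := by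
    rw [mem_eigenspace_iff, ← sub_eq_zero]
    rw [h4] at h2
    exact neg_eq_zero.mp h2.symm
  have h6 : y = 0 := by
    have := D.eig_inf (Nat.lt_succ_self m)
    rw [eq_bot_iff] at this
    exact (Submodule.mem_bot F).mp (this (Submodule.mem_inf.mpr ⟨h5, hy⟩))
  rw [h6, add_zero]
  exact hv

end Groth.Agent.Lib.Helper24.EigenFil
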