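import Mathlib
import Groth.Prelude.Def_FlatCA
import Groth.Agent.Lib.Helper25.FlatAtCrit
import Groth.Agent.Lib.Helper22.UnramFlat

/-!
# Flatness along an elementary dévissage

Push/pull of flatness of localizations along ring maps, ascent/descent along flat (open) maps,
étale comparison of base rings, and the assembly for `FlatCA.ElemDevissage`.
-/

set_option autoImplicit false
set_option maxHeartbeats 400000
set_option linter.style.haveILetI false
set_option linter.unusedSectionVars false
set_option linter.unusedVariables false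

universe u

namespace Groth.Agent.Lib.Helper24.ElemDev

open TensorProduct
open Groth.Agent.Lib.Helper25.FlatAtCrit

section PushPull

variable {R B C : Type u} [CommRing R] [CommRing B] [CommRing C] [Algebra R B] [Algebra R C]
  [Algebra B C] (M : Type u) [AddCommGroup M] [Module R M] [Module B M] [Module C M]
  [IsScalarTower R B M] [IsScalarTower R C M] [IsScalarTower B C M]

theorem flat_push (U : Submonoid B) (V : Submonoid C)
    (h : ∀ u ∈ U, ∃ v ∈ V, algebraMap B C u ∣ v)
    (hf : Module.Flat R (LocalizedModule U M)) : Module.Flat R (LocalizedModule V M) := by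
  refine (flat_localized_iff M V).mpr ?_
  intro P₁ P₂ _ _ _ _ f hfi z hz
  obtain ⟨s, hs, hsz⟩ := (flat_localized_iff M U).mp hf P₁ P₂ f hfi z hz
  obtain ⟨v, hv, c, hc⟩ := h s hs
  refine ⟨v, hv, ?_⟩
  rw [hc, mul_comm, mul_smul, algebraMap_smul, hsz, smul_zero]

theorem flat_pull (U : Submonoid B) (V : Submonoid C)
    (h : ∀ v ∈ V, ∃ u ∈ U, v ∣ algebraMap B C u)
    (hf : Module.Flat R (LocalizedModule V M)) : Module.Flat R (LocalizedModule U M) := by
  refine (flat_localized_iff M U).mpr ?_
  intro P₁ P₂ _ _ _ _ f hfi z hz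
  obtain ⟨s, hs, hsz⟩ := (flat_localized_iff M V).mp hf P₁ P₂ f hfi z hz
  obtain ⟨u, hu, c, hc⟩ := h s hs
  refine ⟨u, hu, ?_⟩
  rw [← algebraMap_smul C u z, hc, mul_comm, mul_smul, hsz, smul_zero]

end PushPull

section AscDesc

variable {A' B' C' : Type u} [CommRing A'] [CommRing B'] [CommRing C'] [Algebra A' B']
  [Algebra B' C'] [Algebra A' C'] [IsScalarTower A' B' C']
  (M' : Type u) [AddCommGroup M'] [Module A' M'] [Module B' M'] [IsScalarTower A' B' M']
  [Module.Flat B' C']

theorem asc_gen (U : Submonoid B') (V : Submonoid C') (hUV : ∀ u ∈ U, algebraMap B' C' u ∈ V)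
    (hflat : Module.Flat A' (LocalizedModule U M')) :
    Module.Flat A' (LocalizedModule V (C' ⊗[B'] M')) := by
  refine (flat_localized_iff (C' ⊗[B'] M') V).mpr ?_
  have hflat' := (flat_localized_iff M' U).mp hflat
  intro P₁ P₂ _ _ _ _ h hh w hw
  have h1 : ((AlgebraTensorModule.lTensor B' M' h).lTensor C')
      (AlgebraTensorModule.assoc A' B' C' C' M' P₁ w) = 0 := by
    rw [← assoc_lTensor, hw, map_zero]
  have hex' := Module.Flat.lTensor_exact C'
    (LinearMap.exact_subtype_ker_map (AlgebraTensorModule.lTensor B' M' h))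
  obtain ⟨v, hv⟩ := (hex' _).mp h1
  have key : ∀ v : C' ⊗[B'] (LinearMap.ker (AlgebraTensorModule.lTensor B' M' h)),
      ∃ s ∈ U, s • v = 0 := by
    intro v
    induction v using TensorProduct.induction_on with
    | zero => exact ⟨1, Submonoid.one_mem _, smul_zero _⟩
    | tmul c k =>
      obtain ⟨s, hs, hsk⟩ := hflat' P₁ P₂ h hh k.1 k.2
      refine ⟨s, hs, ?_⟩
      have hk0 : s • k = 0 := Subtype.ext hsk
      rw [TensorProduct.smul_tmul', TensorProduct.smul_tmul, hk0, tmul_zero]
    | add x y hx hy =>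
      obtain ⟨s₁, hs₁, h₁⟩ := hx
      obtain ⟨s₂, hs₂, h₂⟩ := hy
      refine ⟨s₁ * s₂, Submonoid.mul_mem _ hs₁ hs₂, ?_⟩
      have e1 : (s₁ * s₂) • x = 0 := by rw [mul_comm, mul_smul, h₁, smul_zero]
      have e2 : (s₁ * s₂) • y = 0 := by rw [mul_smul, h₂, smul_zero]
      rw [smul_add, e1, e2, add_zero]
  obtain ⟨s, hs, hsv⟩ := key v
  refine ⟨algebraMap B' C' s, hUV s hs, ?_⟩
  apply (AlgebraTensorModule.assoc A' B' C' C' M' P₁).injective
  rw [map_smul, map_zero, ← hv, algebraMap_smul, ← map_smul, hsv, map_zero]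

theorem desc_open [Algebra.FinitePresentation B' C'] (g₁ : C') (q' : Ideal C') [q'.IsPrime]
    (hg₁ : g₁ ∉ q')
    (hflat : Module.Flat A' (LocalizedModule (Submonoid.powers g₁) (C' ⊗[B'] M'))) :
    ∃ h : B', algebraMap B' C' h ∉ q' ∧
      Module.Flat A' (LocalizedModule (Submonoid.powers h) M') := by
  have hopen := PrimeSpectrum.isOpenMap_comap_of_hasGoingDown_of_finitePresentation
    (R := B') (S := C')
  have hO : IsOpen (PrimeSpectrum.comap (algebraMap B' C') ''
      (PrimeSpectrum.basicOpen g₁ : Set (PrimeSpectrum C'))) :=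
    hopen _ (PrimeSpectrum.basicOpen g₁).isOpen
  have hmem : PrimeSpectrum.comap (algebraMap B' C') ⟨q', inferInstance⟩ ∈
      PrimeSpectrum.comap (algebraMap B' C') ''
        (PrimeSpectrum.basicOpen g₁ : Set (PrimeSpectrum C')) :=
    ⟨⟨q', inferInstance⟩, hg₁, rfl⟩
  obtain ⟨_, ⟨h, rfl⟩, hqh, hsub⟩ :=
    PrimeSpectrum.isTopologicalBasis_basic_opens.exists_subset_of_mem_open hmem hO
  refine ⟨h, fun hh => hqh hh, ?_⟩
  refine (flat_localized_iff M' (Submonoid.powers h)).mpr ?_
  intro P₁ P₂ _ _ _ _ f hfi z hz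
  obtain ⟨t, ht, htw⟩ := (flat_localized_iff (C' ⊗[B'] M') (Submonoid.powers g₁)).mp hflat
    P₁ P₂ f hfi
    ((AlgebraTensorModule.assoc A' B' C' C' M' P₁).symm ((1 : C') ⊗ₜ[B'] z)) (by
      apply (AlgebraTensorModule.assoc A' B' C' C' M' P₂).injective
      rw [assoc_lTensor, LinearEquiv.apply_symm_apply, map_zero, LinearMap.lTensor_tmul]
      rw [show (AlgebraTensorModule.lTensor B' M' f) z = 0 from hz, tmul_zero])
  have h1 : t ⊗ₜ[B'] z = (0 : C' ⊗[B'] (M' ⊗[A'] P₁)) := by
    have := congrArg (AlgebraTensorModule.assoc A' B' C' C' M' P₁) htw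
    rw [map_smul, LinearEquiv.apply_symm_apply, map_zero, TensorProduct.smul_tmul', smul_eq_mul,
      mul_one] at this
    exact this
  have hex' := Module.Flat.lTensor_exact C'
    (LinearMap.exact_subtype_ker_map (LinearMap.toSpanSingleton B' (M' ⊗[A'] P₁) z))
  have h2 : ((LinearMap.toSpanSingleton B' (M' ⊗[A'] P₁) z).lTensor C') (t ⊗ₜ[B'] (1 : B')) = 0 := by
    rw [LinearMap.lTensor_tmul, LinearMap.toSpanSingleton_apply, one_smul]
    exact h1
  obtain ⟨v, hv⟩ := (hex' _).mp h2
  have key : ∀ v : C' ⊗[B'] (LinearMap.ker (LinearMap.toSpanSingleton B' (M' ⊗[A'] P₁) z)),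
      (TensorProduct.rid B' C')
        (((LinearMap.ker (LinearMap.toSpanSingleton B' (M' ⊗[A'] P₁) z)).subtype.lTensor C') v)
        ∈ Ideal.map (algebraMap B' C')
          (LinearMap.ker (LinearMap.toSpanSingleton B' (M' ⊗[A'] P₁) z)) := by
    intro v
    induction v using TensorProduct.induction_on with
    | zero => simp
    | tmul x a =>
      rw [LinearMap.lTensor_tmul, TensorProduct.rid_tmul, Submodule.subtype_apply,
        Algebra.smul_def]
      exact Ideal.mul_mem_right _ _ (Ideal.mem_map_of_mem _ a.2)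
    | add x y hx hy =>
      rw [map_add, map_add]
      exact add_mem hx hy
  have htmem := key v
  rw [hv, TensorProduct.rid_tmul, one_smul] at htmem
  by_contra hcon
  have hdisj : Disjoint
      ((LinearMap.ker (LinearMap.toSpanSingleton B' (M' ⊗[A'] P₁) z) : Ideal B') : Set B')
      (Submonoid.powers h : Set B') := by
    rw [Set.disjoint_left]
    intro b hb hbp
    refine hcon ⟨b, hbp, ?_⟩
    have : (LinearMap.toSpanSingleton B' (M' ⊗[A'] P₁) z) b = 0 := hb
    rwa [LinearMap.toSpanSingleton_apply] at this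
  obtain ⟨P, hP, h𝔞P, hPh⟩ := Ideal.exists_le_prime_disjoint _ _ hdisj
  have hhP : h ∉ P := fun hh => Set.disjoint_left.mp hPh hh (Submonoid.mem_powers h)
  have hPm : (⟨P, hP⟩ : PrimeSpectrum B') ∈ PrimeSpectrum.comap (algebraMap B' C') ''
      (PrimeSpectrum.basicOpen g₁ : Set (PrimeSpectrum C')) := hsub hhP
  obtain ⟨Q, hQg, hQP⟩ := hPm
  have hle : Ideal.map (algebraMap B' C')
      (LinearMap.ker (LinearMap.toSpanSingleton B' (M' ⊗[A'] P₁) z)) ≤ Q.asIdeal := by
    rw [Ideal.map_le_iff_le_comap]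
    intro b hb
    have hbP : b ∈ P := h𝔞P hb
    have h3 : (PrimeSpectrum.comap (algebraMap B' C') Q).asIdeal = P :=
      congrArg PrimeSpectrum.asIdeal hQP
    rw [← h3] at hbP
    exact hbP
  have htQ : t ∈ Q.asIdeal := hle htmem
  obtain ⟨k, rfl⟩ := ht
  exact hQg (Q.isPrime.mem_of_pow_mem k htQ)

end AscDesc

section Etale

variable {R R' B : Type u} [CommRing R] [CommRing R'] [CommRing B] [Algebra R R'] [Algebra R' B]
  [Algebra R B] [IsScalarTower R R' B]
  (M : Type u) [AddCommGroup M] [Module R M] [Module R' M] [Module B M] [IsScalarTower R B M]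
  [IsScalarTower R' B M] [IsScalarTower R R' M] (U : Submonoid B)

theorem flat_etale_iff [Algebra.Etale R R'] :
    Module.Flat R (LocalizedModule U M) ↔ Module.Flat R' (LocalizedModule U M) := by
  haveI : IsScalarTower R R' (LocalizedModule U M) := ⟨fun r r' x => by
    induction x using LocalizedModule.induction_on with
    | _ m s =>
      rw [LocalizedModule.smul'_mk, LocalizedModule.smul'_mk, LocalizedModule.smul'_mk,
        smul_assoc]⟩
  constructor
  · intro h
    exact Groth.Agent.Lib.Helper22.UnramFlat.flat_of_formallyUnramified R R' _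
  · intro h
    exact Module.Flat.trans R R' _

end Etale

end Groth.Agent.Lib.Helper24.ElemDev
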