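import Mathlib
import Groth.Prelude.Def_FlatCA
import Groth.Agent.Lib.Helper24.ElemDevA

/-!
# Flatness along an elementary dévissage: assembly
-/

set_option autoImplicit false
set_option maxHeartbeats 400000
set_option linter.style.haveILetI false
set_option linter.unusedSectionVars false
set_option linter.unusedVariables false

universe u

namespace Groth.Agent.Lib.Helper24.ElemDev

open TensorProduct
open Groth.Agent.Lib.Helper25.FlatAtCrit

variable {R S : Type u} [CommRing R] [CommRing S] [Algebra R S]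
  {N : Type u} [AddCommGroup N] [Module S N] [Module R N] [IsScalarTower R S N]
  {p : Ideal R} [p.IsPrime] {q : Ideal S} [q.IsPrime] {n : ℕ}
  (E : FlatCA.ElemDevissage R S N p q n)

/-- the `R`-module structure on `G` through `R → R'`. -/
@[reducible] def modRG : Module R E.G := Module.compHom E.G (algebraMap R E.R')

theorem tower1 : IsScalarTower E.R' E.S' E.G :=
  IsScalarTower.of_algebraMap_smul fun r x => by
    rw [← algebraMap_smul E.C (algebraMap E.R' E.S' r) x,
      ← IsScalarTower.algebraMap_apply E.R' E.S' E.C, algebraMap_smul]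

theorem tower2 : letI := modRG E; IsScalarTower R E.R' E.G :=
  letI := modRG E
  IsScalarTower.of_algebraMap_smul fun r x => rfl

theorem tower3 : letI := modRG E; IsScalarTower R E.S' E.G :=
  letI := modRG E
  haveI := tower1 E
  IsScalarTower.of_algebraMap_smul fun r x => by
    show _ = algebraMap R E.R' r • x
    rw [IsScalarTower.algebraMap_apply R E.R' E.S', algebraMap_smul]

theorem primesOver_eq : E.y.primesOver E.C = {E.z} := by
  ext P
  constructor
  · rintro ⟨hP, hPy⟩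
    haveI := hP
    exact E.uniq P hPy
  · intro hP
    rw [Set.mem_singleton_iff] at hP
    subst hP
    exact ⟨inferInstance, inferInstance⟩

theorem flatAt_iff_z : FlatCA.FlatAt R q N ↔ FlatCA.FlatAt E.R' E.z E.G := by
  obtain ⟨hetR, -⟩ := E.etaleR
  obtain ⟨hetS, hqq, -⟩ := E.etaleS
  letI := modRG E
  haveI := tower1 E
  haveI := tower2 E
  haveI := tower3 E
  haveI : Module.Flat S E.S' := inferInstance
  unfold FlatCA.FlatAt
  have h1 : Module.Flat R (LocalizedModule q.primeCompl N) ↔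
      Module.Flat R (LocalizedModule E.q'.primeCompl (E.S' ⊗[S] N)) :=
    ⟨asc N E.q' q hqq.over, desc N E.q' q hqq.over⟩
  have h2 := flat_localized_congr (A' := R) (E.isBaseChange.equiv ≪≫ₗ E.iso) E.q'.primeCompl
  have h3 := flat_etale_iff (R := R) (R' := E.R') (B := E.S') E.G E.q'.primeCompl
  have h4 : Module.Flat E.R' (LocalizedModule E.q'.primeCompl E.G) ↔
      Module.Flat E.R' (LocalizedModule E.z.primeCompl E.G) := by
    constructor
    · refine flat_push E.G _ _ ?_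
      intro u hu
      exact ⟨algebraMap E.S' E.C u,
        fun hv => hu ((Ideal.mem_of_liesOver E.z E.q' u).mpr hv), dvd_rfl⟩
    · refine flat_pull E.G _ _ ?_
      intro v hv
      obtain ⟨u, rfl⟩ := E.surjC v
      exact ⟨u, fun hu => hv ((Ideal.mem_of_liesOver E.z E.q' u).mp hu), dvd_rfl⟩
  exact h1.trans (h2.trans (h3.trans h4))

theorem flatAt_z_iff_y : FlatCA.FlatAt E.R' E.z E.G ↔ FlatCA.FlatAt E.R' E.y E.G := by
  haveI := E.finiteDC
  haveI : Algebra.IsIntegral E.D E.C := inferInstance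
  have hprimes := primesOver_eq E
  unfold FlatCA.FlatAt
  constructor
  · refine flat_pull (R := E.R') (B := E.D) (C := E.C) E.G E.y.primeCompl E.z.primeCompl ?_
    intro v hv
    obtain ⟨r, hr, hdvd⟩ :=
      Ideal.exists_notMem_dvd_algebraMap_of_primesOver_eq_singleton hprimes v hv
    exact ⟨r, hr, hdvd⟩
  · refine flat_push (R := E.R') (B := E.D) (C := E.C) E.G E.y.primeCompl E.z.primeCompl ?_
    intro u hu
    exact ⟨algebraMap E.D E.C u,
      fun hv => hu ((Ideal.mem_of_liesOver E.z E.y u).mpr hv), dvd_rfl⟩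

theorem open_a_to_b
    (h : ∃ g : S, g ∉ q ∧ Module.Flat R (LocalizedModule (Submonoid.powers g) N)) :
    ∃ g : E.C, g ∉ E.z ∧ Module.Flat E.R' (LocalizedModule (Submonoid.powers g) E.G) := by
  obtain ⟨g, hg, hflat⟩ := h
  obtain ⟨hetR, -⟩ := E.etaleR
  obtain ⟨hetS, hqq, -⟩ := E.etaleS
  letI := modRG E
  haveI := tower1 E
  haveI := tower2 E
  haveI := tower3 E
  haveI : Module.Flat S E.S' := inferInstance
  refine ⟨algebraMap E.S' E.C (algebraMap S E.S' g), ?_, ?_⟩
  · intro hmem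
    have h1 : algebraMap S E.S' g ∈ E.q' := (Ideal.mem_of_liesOver E.z E.q' _).mpr hmem
    exact hg ((Ideal.mem_of_liesOver E.q' q g).mpr h1)
  · have h1 := asc_gen N (Submonoid.powers g) (Submonoid.powers (algebraMap S E.S' g))
      (by rintro _ ⟨k, rfl⟩; exact ⟨k, (map_pow _ _ _).symm⟩) hflat
    have h2 := (flat_localized_congr (A' := R) (E.isBaseChange.equiv ≪≫ₗ E.iso)
      (Submonoid.powers (algebraMap S E.S' g))).mp h1
    have h3 := (flat_etale_iff (R := R) (R' := E.R') (B := E.S') E.G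
      (Submonoid.powers (algebraMap S E.S' g))).mp h2
    refine flat_push E.G _ _ ?_ h3
    rintro _ ⟨k, rfl⟩
    exact ⟨_, ⟨k, rfl⟩, dvd_of_eq (map_pow _ _ _)⟩

theorem open_b_to_a
    (h : ∃ g : E.C, g ∉ E.z ∧ Module.Flat E.R' (LocalizedModule (Submonoid.powers g) E.G)) :
    ∃ g : S, g ∉ q ∧ Module.Flat R (LocalizedModule (Submonoid.powers g) N) := by
  obtain ⟨g, hg, hflat⟩ := h
  obtain ⟨hetR, -⟩ := E.etaleR
  obtain ⟨hetS, hqq, -⟩ := E.etaleS
  letI := modRG E
  haveI := tower1 E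
  haveI := tower2 E
  haveI := tower3 E
  haveI : Module.Flat S E.S' := inferInstance
  obtain ⟨g₁, rfl⟩ := E.surjC g
  have hg₁ : g₁ ∉ E.q' := fun h => hg ((Ideal.mem_of_liesOver E.z E.q' g₁).mp h)
  have h3 : Module.Flat E.R' (LocalizedModule (Submonoid.powers g₁) E.G) := by
    refine flat_pull E.G _ _ ?_ hflat
    rintro _ ⟨k, rfl⟩
    exact ⟨g₁ ^ k, ⟨k, rfl⟩, dvd_of_eq (map_pow _ _ _).symm⟩
  have h2 := (flat_etale_iff (R := R) (R' := E.R') (B := E.S') E.G
    (Submonoid.powers g₁)).mpr h3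
  have h1 := (flat_localized_congr (A' := R) (E.isBaseChange.equiv ≪≫ₗ E.iso)
    (Submonoid.powers g₁)).mpr h2
  obtain ⟨h, hh, hfl⟩ := desc_open N g₁ E.q' hg₁ h1
  exact ⟨h, fun hm => hh ((Ideal.mem_of_liesOver E.q' q h).mp hm), hfl⟩

theorem open_b_to_c
    (h : ∃ g : E.C, g ∉ E.z ∧ Module.Flat E.R' (LocalizedModule (Submonoid.powers g) E.G)) :
    ∃ g : E.D, g ∉ E.y ∧ Module.Flat E.R' (LocalizedModule (Submonoid.powers g) E.G) := by
  obtain ⟨g, hg, hflat⟩ := h
  haveI := E.finiteDC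
  haveI : Algebra.IsIntegral E.D E.C := inferInstance
  obtain ⟨r, hr, c, hc⟩ :=
    Ideal.exists_notMem_dvd_algebraMap_of_primesOver_eq_singleton (primesOver_eq E) g hg
  refine ⟨r, hr, ?_⟩
  refine flat_pull (R := E.R') (B := E.D) (C := E.C) E.G _ _ ?_ hflat
  rintro _ ⟨k, rfl⟩
  exact ⟨r ^ k, ⟨k, rfl⟩, ⟨c ^ k, by rw [map_pow, hc, mul_pow]⟩⟩

theorem open_c_to_b
    (h : ∃ g : E.D, g ∉ E.y ∧ Module.Flat E.R' (LocalizedModule (Submonoid.powers g) E.G)) :
    ∃ g : E.C, g ∉ E.z ∧ Module.Flat E.R' (LocalizedModule (Submonoid.powers g) E.G) := by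
  obtain ⟨g, hg, hflat⟩ := h
  refine ⟨algebraMap E.D E.C g, fun hv => hg ((Ideal.mem_of_liesOver E.z E.y g).mpr hv), ?_⟩
  refine flat_push (R := E.R') (B := E.D) (C := E.C) E.G _ _ ?_ hflat
  rintro _ ⟨k, rfl⟩
  exact ⟨_, ⟨k, rfl⟩, dvd_of_eq (map_pow _ _ _)⟩

theorem main :
    [FlatCA.FlatAt R q N, FlatCA.FlatAt E.R' E.z E.G, FlatCA.FlatAt E.R' E.y E.G].TFAE ∧
    [∃ g : S, g ∉ q ∧ Module.Flat R (LocalizedModule (Submonoid.powers g) N),
     ∃ g : E.C, g ∉ E.z ∧ Module.Flat E.R' (LocalizedModule (Submonoid.powers g) E.G),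
     ∃ g : E.D, g ∉ E.y ∧ Module.Flat E.R' (LocalizedModule (Submonoid.powers g) E.G)].TFAE := by
  constructor
  · tfae_have 1 ↔ 2 := flatAt_iff_z E
    tfae_have 2 ↔ 3 := flatAt_z_iff_y E
    tfae_finish
  · tfae_have 1 → 2 := open_a_to_b E
    tfae_have 2 → 1 := open_b_to_a E
    tfae_have 2 → 3 := open_b_to_c E
    tfae_have 3 → 2 := open_c_to_b E
    tfae_finish

end Groth.Agent.Lib.Helper24.ElemDev
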