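import Mathlib

/-!
# Locally finitely presented modules (along a submonoid): elementwise form and transfer lemmas
-/

set_option autoImplicit false
set_option maxHeartbeats 400000
set_option linter.style.haveILetI false
set_option linter.unusedSectionVars false
set_option linter.unusedVariables false

universe u

namespace Groth.Agent.Lib.Helper24.ElemDevFP

open TensorProduct

section Basic

variable (A : Type u) [CommRing A] (U : Submonoid A) (M : Type u) [AddCommGroup M] [Module A M]

/-- `M` receives a surjection from a finitely presented module whose kernel is `U`-torsion. -/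
def LocFP : Prop :=
  ∃ (F : Type u) (_ : AddCommGroup F) (_ : Module A F) (_ : Module.FinitePresentation A F)
    (f : F →ₗ[A] M), Function.Surjective f ∧ ∀ x, f x = 0 → ∃ u ∈ U, u • x = 0

/-- the localization is finitely presented over the localized ring -/
abbrev FPL : Prop := Module.FinitePresentation (Localization U) (LocalizedModule U M)

variable {A U M}

theorem mk_eq_zero_iff' {m : M} {s : U} : LocalizedModule.mk m s = 0 ↔ ∃ u : U, u • m = 0 := by
  rw [IsLocalizedModule.mk_eq_mk', IsLocalizedModule.mk'_eq_zero']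

theorem exists_mk (t : LocalizedModule U M) : ∃ a s, t = LocalizedModule.mk a s := by
  induction t using LocalizedModule.induction_on with
  | _ a s => exact ⟨a, s, rfl⟩

theorem fpl_of_locFP (h : LocFP A U M) : FPL A U M := by
  obtain ⟨F, _, _, hF, f, hsurj, hker⟩ := h
  have hinj : Function.Injective (LocalizedModule.map U f) := by
    rw [injective_iff_map_eq_zero]
    intro x hx
    obtain ⟨a, s, rfl⟩ := exists_mk x
    rw [LocalizedModule.map_mk, mk_eq_zero_iff'] at hx
    obtain ⟨u, hu⟩ := hx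
    have h0 : f ((u : A) • a) = 0 := by rw [map_smul]; exact hu
    obtain ⟨u', hu', hu'a⟩ := hker _ h0
    rw [mk_eq_zero_iff']
    refine ⟨⟨u', hu'⟩ * u, ?_⟩
    rw [Submonoid.smul_def, Submonoid.coe_mul, mul_smul]
    exact hu'a
  exact Module.FinitePresentation.of_equiv
    (LinearEquiv.ofBijective (LocalizedModule.map U f)
      ⟨hinj, LocalizedModule.map_surjective U f hsurj⟩)

theorem exists_fg_ker {P : Type u} [AddCommGroup P] [Module A P] [Module.Finite A P]
    (π : P →ₗ[A] M) (hπ : Function.Surjective π) (h : FPL A U M) :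
    ∃ K₀ : Submodule A P, K₀.FG ∧ K₀ ≤ LinearMap.ker π ∧
      ∀ x ∈ LinearMap.ker π, ∃ u ∈ U, u • x ∈ K₀ := by
  haveI : Module.FinitePresentation (Localization U) (LocalizedModule U M) := h
  have hsurj : Function.Surjective (LocalizedModule.map U π) :=
    LocalizedModule.map_surjective U π hπ
  obtain ⟨T, hT⟩ := Module.FinitePresentation.fg_ker (LocalizedModule.map U π) hsurj
  have key : ∀ t : {t // t ∈ T}, ∃ k ∈ LinearMap.ker π, ∃ s : U,
      t.1 = LocalizedModule.mk k s := by
    rintro ⟨t, ht⟩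
    have htk : t ∈ LinearMap.ker (LocalizedModule.map U π) := by
      rw [← hT]; exact Submodule.subset_span ht
    obtain ⟨a, s, rfl⟩ := exists_mk t
    rw [LinearMap.mem_ker, LocalizedModule.map_mk, mk_eq_zero_iff'] at htk
    obtain ⟨u, hu⟩ := htk
    refine ⟨u • a, ?_, u * s, ?_⟩
    · rw [LinearMap.mem_ker, Submonoid.smul_def, map_smul]; exact hu
    · exact (LocalizedModule.mk_cancel_common_left u s a).symm
  choose k hk s hs using key
  refine ⟨Submodule.span A (Set.range k), Submodule.fg_span (Set.finite_range k), ?_, ?_⟩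
  · rw [Submodule.span_le]
    rintro _ ⟨t, rfl⟩
    exact hk t
  · intro x hx
    have hx1 : LocalizedModule.mk x (1 : U) ∈ LinearMap.ker (LocalizedModule.map U π) := by
      rw [LinearMap.mem_ker, LocalizedModule.map_mk, show π x = 0 from hx,
        LocalizedModule.zero_mk]
    rw [← hT] at hx1
    have hW : Submodule.span (Localization U) (T : Set (LocalizedModule U P)) ≤
        (Submodule.span A (Set.range k)).localized' (Localization U) U
          (LocalizedModule.mkLinearMap U P) := by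
      rw [Submodule.span_le]
      intro t ht
      refine ⟨k ⟨t, ht⟩, Submodule.subset_span ⟨_, rfl⟩, s ⟨t, ht⟩, ?_⟩
      rw [← IsLocalizedModule.mk_eq_mk']
      exact (hs ⟨t, ht⟩).symm
    obtain ⟨m, hm, s', hms⟩ := hW hx1
    rw [← IsLocalizedModule.mk_eq_mk', LocalizedModule.mk_eq] at hms
    obtain ⟨u, hu⟩ := hms
    refine ⟨((u * s' : U) : A), (u * s').2, ?_⟩
    have hux : ((u * s' : U) : A) • x = (u : A) • m := by
      have hu' := hu
      simp only [Submonoid.smul_def, Submonoid.coe_one, one_smul] at hu'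
      rw [Submonoid.coe_mul, mul_smul]
      exact hu'.symm
    rw [hux]
    exact Submodule.smul_mem _ _ hm

theorem locFP_of_fpl [Module.Finite A M] (h : FPL A U M) : LocFP A U M := by
  obtain ⟨n, π, hπ⟩ := Module.Finite.exists_fin' A M
  obtain ⟨K₀, hfg, hle, hK⟩ := exists_fg_ker π hπ h
  refine ⟨(Fin n → A) ⧸ K₀, inferInstance, inferInstance, ?_, K₀.liftQ π hle, ?_, ?_⟩
  · exact Module.finitePresentation_of_surjective K₀.mkQ (Submodule.mkQ_surjective K₀)
      (by rw [Submodule.ker_mkQ]; exact hfg)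
  · intro m
    obtain ⟨x, rfl⟩ := hπ m
    exact ⟨K₀.mkQ x, by simp⟩
  · intro x hx
    obtain ⟨x, rfl⟩ := Submodule.mkQ_surjective K₀ x
    have hx' : x ∈ LinearMap.ker π := by simpa using hx
    obtain ⟨u, hu, hux⟩ := hK x hx'
    refine ⟨u, hu, ?_⟩
    rw [← map_smul, Submodule.mkQ_apply, Submodule.Quotient.mk_eq_zero]
    exact hux

theorem LocFP.congr {M' : Type u} [AddCommGroup M'] [Module A M'] (h : LocFP A U M)
    (e : M ≃ₗ[A] M') : LocFP A U M' := by
  obtain ⟨F, _, _, hF, f, hs, hk⟩ := h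
  refine ⟨F, inferInstance, inferInstance, hF, e.toLinearMap ∘ₗ f, e.surjective.comp hs, ?_⟩
  intro x hx
  refine hk x (e.injective ?_)
  rw [map_zero]
  exact hx

end Basic

section RS

variable {A C : Type u} [CommRing A] [CommRing C] [Algebra A C]
  {G : Type u} [AddCommGroup G] [Module C G] [Module A G] [IsScalarTower A C G]

theorem LocFP.restrict [Module.FinitePresentation A C] {U : Submonoid A} {V : Submonoid C}
    (h : LocFP C V G) (hUV : ∀ v ∈ V, ∃ u ∈ U, v ∣ algebraMap A C u) : LocFP A U G := by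
  obtain ⟨F, _, _, hF, f, hs, hk⟩ := h
  letI : Module A F := Module.compHom F (algebraMap A C)
  haveI : IsScalarTower A C F := IsScalarTower.of_algebraMap_smul (fun _ _ => rfl)
  haveI : Module.FinitePresentation A F := Module.FinitePresentation.trans A F C
  refine ⟨F, inferInstance, inferInstance, inferInstance, f.restrictScalars A, hs, ?_⟩
  intro x hx
  obtain ⟨v, hv, hvx⟩ := hk x hx
  obtain ⟨u, hu, c, hc⟩ := hUV v hv
  refine ⟨u, hu, ?_⟩
  rw [← algebraMap_smul C u x, hc, mul_comm, mul_smul, hvx, smul_zero]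

theorem locFP_extend [Module.Finite A C] [Module.Finite C G] {U : Submonoid A} {V : Submonoid C}
    (hUV : ∀ u ∈ U, algebraMap A C u ∈ V) (h : FPL A U G) : LocFP C V G := by
  obtain ⟨n, π, hπ⟩ := Module.Finite.exists_fin' C G
  obtain ⟨K₀', hfg, hle, hK⟩ := exists_fg_ker (A := A) (U := U) (π.restrictScalars A) hπ h
  obtain ⟨T, hT⟩ := hfg
  have hK₀' : (K₀' : Set (Fin n → C)) ⊆ Submodule.span C (T : Set (Fin n → C)) := by
    rw [← hT]
    intro x hx
    exact Submodule.span_le_restrictScalars A C _ hx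
  have hle' : Submodule.span C (T : Set (Fin n → C)) ≤ LinearMap.ker π := by
    rw [Submodule.span_le]
    intro t ht
    have h1 : t ∈ K₀' := by rw [← hT]; exact Submodule.subset_span ht
    show π t = 0
    exact hle h1
  refine ⟨(Fin n → C) ⧸ Submodule.span C (T : Set (Fin n → C)), inferInstance, inferInstance,
    ?_, (Submodule.span C (T : Set (Fin n → C))).liftQ π hle', ?_, ?_⟩
  · exact Module.finitePresentation_of_surjective (Submodule.span C (T : Set (Fin n → C))).mkQ
      (Submodule.mkQ_surjective _)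
      (by rw [Submodule.ker_mkQ]; exact Submodule.fg_span T.finite_toSet)
  · intro m
    obtain ⟨x, rfl⟩ := hπ m
    exact ⟨(Submodule.span C (T : Set (Fin n → C))).mkQ x, by simp⟩
  · intro x hx
    obtain ⟨x, rfl⟩ := Submodule.mkQ_surjective _ x
    have hx' : x ∈ LinearMap.ker (π.restrictScalars A) := by simpa using hx
    obtain ⟨u, hu, hux⟩ := hK x hx'
    refine ⟨algebraMap A C u, hUV u hu, ?_⟩
    rw [← map_smul, algebraMap_smul, Submodule.mkQ_apply, Submodule.Quotient.mk_eq_zero]
    exact hK₀' hux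

theorem fpl_up [Module.Finite A C] [Module.Finite C G] {U : Submonoid A} {V : Submonoid C}
    (hUV : ∀ u ∈ U, algebraMap A C u ∈ V) (h : FPL A U G) : FPL C V G :=
  fpl_of_locFP (locFP_extend hUV h)

theorem fpl_down [Module.FinitePresentation A C] [Module.Finite C G] {U : Submonoid A}
    {V : Submonoid C} (hUV : ∀ v ∈ V, ∃ u ∈ U, v ∣ algebraMap A C u) (h : FPL C V G) :
    FPL A U G :=
  fpl_of_locFP ((locFP_of_fpl h).restrict hUV)

end RS

section AscDesc

variable {A B : Type u} [CommRing A] [CommRing B] [Algebra A B]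
  {M : Type u} [AddCommGroup M] [Module A M]

theorem LocFP.baseChange {U : Submonoid A} {V : Submonoid B} (h : LocFP A U M)
    (hUV : ∀ u ∈ U, algebraMap A B u ∈ V) : LocFP B V (B ⊗[A] M) := by
  obtain ⟨F, _, _, hF, f, hs, hk⟩ := h
  refine ⟨B ⊗[A] F, inferInstance, inferInstance, inferInstance, f.baseChange B, ?_, ?_⟩
  · rw [LinearMap.baseChange_eq_ltensor]; exact LinearMap.lTensor_surjective B hs
  · intro w hw
    have hex := lTensor_exact B (LinearMap.exact_subtype_ker_map f) hs
    have hw' : (f.lTensor B) w = 0 := by rw [← LinearMap.baseChange_eq_ltensor]; exact hw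
    obtain ⟨ω, rfl⟩ := (hex w).mp hw'
    have key : ∀ ω : B ⊗[A] (LinearMap.ker f), ∃ u ∈ U, u • ω = 0 := by
      intro ω
      induction ω using TensorProduct.induction_on with
      | zero => exact ⟨1, Submonoid.one_mem _, smul_zero _⟩
      | tmul b k =>
        obtain ⟨u, hu, huk⟩ := hk k.1 k.2
        refine ⟨u, hu, ?_⟩
        have hk0 : u • k = 0 := Subtype.ext huk
        rw [← TensorProduct.tmul_smul, hk0, tmul_zero]
      | add x y hx hy =>
        obtain ⟨u₁, h₁, e₁⟩ := hx
        obtain ⟨u₂, h₂, e₂⟩ := hy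
        refine ⟨u₁ * u₂, Submonoid.mul_mem _ h₁ h₂, ?_⟩
        have e1 : (u₁ * u₂) • x = 0 := by rw [mul_comm, mul_smul, e₁, smul_zero]
        have e2 : (u₁ * u₂) • y = 0 := by rw [mul_smul, e₂, smul_zero]
        rw [smul_add, e1, e2, add_zero]
    obtain ⟨u, hu, huω⟩ := key ω
    refine ⟨algebraMap A B u, hUV u hu, ?_⟩
    rw [algebraMap_smul, ← map_smul, huω, map_zero]

theorem range_baseChange_mono {P : Type u} [AddCommGroup P] [Module A P] {K₁ K₂ : Submodule A P}
    (h : K₁ ≤ K₂) :
    LinearMap.range (K₁.subtype.baseChange B) ≤ LinearMap.range (K₂.subtype.baseChange B) := by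
  rintro _ ⟨w, rfl⟩
  refine ⟨(Submodule.inclusion h).baseChange B w, ?_⟩
  rw [← LinearMap.comp_apply, ← LinearMap.baseChange_comp, Submodule.subtype_comp_inclusion]

theorem locFP_descend [Module.Finite A M] {U : Submonoid A} {V : Submonoid B}
    (hD : ∀ (X : Type u) [AddCommGroup X] [Module A X] (x : X) (v : B), v ∈ V →
      v ⊗ₜ[A] x = (0 : B ⊗[A] X) → ∃ u ∈ U, u • x = 0)
    (h : FPL B V (B ⊗[A] M)) : LocFP A U M := by
  classical
  obtain ⟨n, π, hπ⟩ := Module.Finite.exists_fin' A M
  have hπ' : Function.Surjective (π.baseChange B) := by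
    rw [LinearMap.baseChange_eq_ltensor]; exact LinearMap.lTensor_surjective B hπ
  obtain ⟨K₀', hfg, hle, hK⟩ := exists_fg_ker (π.baseChange B) hπ' h
  obtain ⟨T, hT⟩ := hfg
  have hex := lTensor_exact B (LinearMap.exact_subtype_ker_map π) hπ
  have S1 : ∀ ω : B ⊗[A] (LinearMap.ker π), ∃ K₁ : Submodule A (Fin n → A),
      K₁ ≤ LinearMap.ker π ∧ K₁.FG ∧
      ((LinearMap.ker π).subtype.lTensor B) ω ∈ LinearMap.range (K₁.subtype.baseChange B) := by
    intro ω
    induction ω using TensorProduct.induction_on with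
    | zero => exact ⟨⊥, bot_le, Submodule.fg_bot, by rw [map_zero]; exact zero_mem _⟩
    | tmul b k =>
      refine ⟨Submodule.span A {k.1}, ?_, Submodule.fg_span_singleton _, ?_⟩
      · rw [Submodule.span_le, Set.singleton_subset_iff]; exact k.2
      · refine ⟨b ⊗ₜ[A] ⟨k.1, Submodule.subset_span (Set.mem_singleton _)⟩, ?_⟩
        rw [LinearMap.baseChange_tmul, LinearMap.lTensor_tmul]
        rfl
    | add x y hx hy =>
      obtain ⟨K₁, h₁, f₁, m₁⟩ := hx
      obtain ⟨K₂, h₂, f₂, m₂⟩ := hy
      refine ⟨K₁ ⊔ K₂, sup_le h₁ h₂, f₁.sup f₂, ?_⟩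
      rw [map_add]
      exact add_mem (range_baseChange_mono le_sup_left m₁) (range_baseChange_mono le_sup_right m₂)
  have S3 : ∀ T : Finset (B ⊗[A] (Fin n → A)), (∀ t ∈ T, t ∈ LinearMap.ker (π.baseChange B)) →
      ∃ K₁ : Submodule A (Fin n → A), K₁ ≤ LinearMap.ker π ∧ K₁.FG ∧
        ∀ t ∈ T, t ∈ LinearMap.range (K₁.subtype.baseChange B) := by
    intro T
    induction T using Finset.induction_on with
    | empty => intro _; exact ⟨⊥, bot_le, Submodule.fg_bot, by simp⟩
    | insert a s has IH =>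
      intro hmem
      obtain ⟨K₁, h₁, f₁, m₁⟩ := IH (fun t ht => hmem t (Finset.mem_insert_of_mem ht))
      have ha : (π.lTensor B) a = 0 := by
        have := hmem a (Finset.mem_insert_self a s)
        rw [LinearMap.mem_ker] at this
        rw [← LinearMap.baseChange_eq_ltensor]; exact this
      obtain ⟨ω, rfl⟩ := (hex a).mp ha
      obtain ⟨K₂, h₂, f₂, m₂⟩ := S1 ω
      refine ⟨K₁ ⊔ K₂, sup_le h₁ h₂, f₁.sup f₂, ?_⟩
      intro t ht
      rcases Finset.mem_insert.mp ht with rfl | ht'
      · exact range_baseChange_mono le_sup_right m₂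
      · exact range_baseChange_mono le_sup_left (m₁ t ht')
  obtain ⟨K₀, hK₀le, hK₀fg, hK₀T⟩ := S3 T (fun t ht => hle (by
    rw [← hT]; exact Submodule.subset_span ht))
  have hK₀' : K₀' ≤ LinearMap.range (K₀.subtype.baseChange B) := by
    rw [← hT, Submodule.span_le]
    exact fun t ht => hK₀T t ht
  refine ⟨(Fin n → A) ⧸ K₀, inferInstance, inferInstance, ?_, K₀.liftQ π hK₀le, ?_, ?_⟩
  · exact Module.finitePresentation_of_surjective K₀.mkQ (Submodule.mkQ_surjective K₀)
      (by rw [Submodule.ker_mkQ]; exact hK₀fg)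
  · intro m
    obtain ⟨x, rfl⟩ := hπ m
    exact ⟨K₀.mkQ x, by simp⟩
  · intro x hx
    obtain ⟨x, rfl⟩ := Submodule.mkQ_surjective K₀ x
    have hx' : π x = 0 := by simpa using hx
    have hw : (1 : B) ⊗ₜ[A] x ∈ LinearMap.ker (π.baseChange B) := by
      rw [LinearMap.mem_ker, LinearMap.baseChange_tmul, hx', tmul_zero]
    obtain ⟨v, hv, hvw⟩ := hK _ hw
    obtain ⟨ν, hν⟩ := hK₀' hvw
    have hex₀ := lTensor_exact B (LinearMap.exact_subtype_mkQ K₀) (Submodule.mkQ_surjective K₀)
    have h0 : (K₀.mkQ.lTensor B) (v • ((1 : B) ⊗ₜ[A] x)) = 0 := by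
      rw [← hν, LinearMap.baseChange_eq_ltensor]
      exact (hex₀ _).mpr ⟨ν, rfl⟩
    rw [TensorProduct.smul_tmul', smul_eq_mul, mul_one, LinearMap.lTensor_tmul] at h0
    exact hD _ _ v hv h0

theorem mem_map_ann_of_tmul_eq_zero [Module.Flat A B] {X : Type u} [AddCommGroup X] [Module A X]
    (x : X) (v : B) (h : v ⊗ₜ[A] x = (0 : B ⊗[A] X)) :
    v ∈ Ideal.map (algebraMap A B) (LinearMap.ker (LinearMap.toSpanSingleton A X x)) := by
  have hex' := Module.Flat.lTensor_exact B
    (LinearMap.exact_subtype_ker_map (LinearMap.toSpanSingleton A X x))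
  have h2 : ((LinearMap.toSpanSingleton A X x).lTensor B) (v ⊗ₜ[A] (1 : A)) = 0 := by
    rw [LinearMap.lTensor_tmul, LinearMap.toSpanSingleton_apply, one_smul]
    exact h
  obtain ⟨ν, hν⟩ := (hex' _).mp h2
  have key : ∀ ν : B ⊗[A] (LinearMap.ker (LinearMap.toSpanSingleton A X x)),
      (TensorProduct.rid A B)
        (((LinearMap.ker (LinearMap.toSpanSingleton A X x)).subtype.lTensor B) ν)
        ∈ Ideal.map (algebraMap A B) (LinearMap.ker (LinearMap.toSpanSingleton A X x)) := by
    intro ν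
    induction ν using TensorProduct.induction_on with
    | zero => simp
    | tmul b a =>
      rw [LinearMap.lTensor_tmul, TensorProduct.rid_tmul, Submodule.subtype_apply,
        Algebra.smul_def]
      exact Ideal.mul_mem_right _ _ (Ideal.mem_map_of_mem _ a.2)
    | add y z hy hz =>
      rw [map_add, map_add]
      exact add_mem hy hz
  have hmem := key ν
  rwa [hν, TensorProduct.rid_tmul, one_smul] at hmem

theorem descEl_prime [Module.Flat A B] (q' : Ideal B) [q'.IsPrime] (q : Ideal A) [q.IsPrime]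
    (hq : q = q'.comap (algebraMap A B)) :
    ∀ (X : Type u) [AddCommGroup X] [Module A X] (x : X) (v : B), v ∈ q'.primeCompl →
      v ⊗ₜ[A] x = (0 : B ⊗[A] X) → ∃ u ∈ q.primeCompl, u • x = 0 := by
  intro X _ _ x v hv h
  have hmem := mem_map_ann_of_tmul_eq_zero x v h
  by_contra hcon
  have hle : Ideal.map (algebraMap A B) (LinearMap.ker (LinearMap.toSpanSingleton A X x)) ≤ q' := by
    rw [Ideal.map_le_iff_le_comap]
    intro a ha
    by_contra hna
    refine hcon ⟨a, ?_, ?_⟩
    · show a ∉ q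
      rw [hq]
      exact hna
    · have h1 : (LinearMap.toSpanSingleton A X x) a = 0 := ha
      rwa [LinearMap.toSpanSingleton_apply] at h1
  exact hv (hle hmem)

theorem exists_basicOpen_subset [Module.Flat A B] [Algebra.FinitePresentation A B] (g₁ : B)
    (q' : Ideal B) [q'.IsPrime] (hg₁ : g₁ ∉ q') :
    ∃ h : A, algebraMap A B h ∉ q' ∧
      (PrimeSpectrum.basicOpen h : Set (PrimeSpectrum A)) ⊆
        PrimeSpectrum.comap (algebraMap A B) ''
          (PrimeSpectrum.basicOpen g₁ : Set (PrimeSpectrum B)) := by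
  have hopen := PrimeSpectrum.isOpenMap_comap_of_hasGoingDown_of_finitePresentation
    (R := A) (S := B)
  have hO : IsOpen (PrimeSpectrum.comap (algebraMap A B) ''
      (PrimeSpectrum.basicOpen g₁ : Set (PrimeSpectrum B))) :=
    hopen _ (PrimeSpectrum.basicOpen g₁).isOpen
  have hmem : PrimeSpectrum.comap (algebraMap A B) ⟨q', inferInstance⟩ ∈
      PrimeSpectrum.comap (algebraMap A B) ''
        (PrimeSpectrum.basicOpen g₁ : Set (PrimeSpectrum B)) :=
    ⟨⟨q', inferInstance⟩, hg₁, rfl⟩
  obtain ⟨_, ⟨h, rfl⟩, hqh, hsub⟩ :=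
    PrimeSpectrum.isTopologicalBasis_basic_opens.exists_subset_of_mem_open hmem hO
  exact ⟨h, fun hh => hqh hh, hsub⟩

theorem descEl_open [Module.Flat A B] (g₁ : B) (h : A)
    (hsub : (PrimeSpectrum.basicOpen h : Set (PrimeSpectrum A)) ⊆
      PrimeSpectrum.comap (algebraMap A B) ''
        (PrimeSpectrum.basicOpen g₁ : Set (PrimeSpectrum B))) :
    ∀ (X : Type u) [AddCommGroup X] [Module A X] (x : X) (v : B), v ∈ Submonoid.powers g₁ →
      v ⊗ₜ[A] x = (0 : B ⊗[A] X) → ∃ u ∈ Submonoid.powers h, u • x = 0 := by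
  intro X _ _ x v hv hvx
  have htmem := mem_map_ann_of_tmul_eq_zero x v hvx
  by_contra hcon
  have hdisj : Disjoint
      ((LinearMap.ker (LinearMap.toSpanSingleton A X x) : Ideal A) : Set A)
      (Submonoid.powers h : Set A) := by
    rw [Set.disjoint_left]
    intro b hb hbp
    refine hcon ⟨b, hbp, ?_⟩
    have h1 : (LinearMap.toSpanSingleton A X x) b = 0 := hb
    rwa [LinearMap.toSpanSingleton_apply] at h1
  obtain ⟨P, hP, h𝔞P, hPh⟩ := Ideal.exists_le_prime_disjoint _ _ hdisj
  have hhP : h ∉ P := fun hh => Set.disjoint_left.mp hPh hh (Submonoid.mem_powers h)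
  have hPm : (⟨P, hP⟩ : PrimeSpectrum A) ∈ PrimeSpectrum.comap (algebraMap A B) ''
      (PrimeSpectrum.basicOpen g₁ : Set (PrimeSpectrum B)) := hsub hhP
  obtain ⟨Q, hQg, hQP⟩ := hPm
  have hle : Ideal.map (algebraMap A B)
      (LinearMap.ker (LinearMap.toSpanSingleton A X x)) ≤ Q.asIdeal := by
    rw [Ideal.map_le_iff_le_comap]
    intro b hb
    have hbP : b ∈ P := h𝔞P hb
    have h3 : (PrimeSpectrum.comap (algebraMap A B) Q).asIdeal = P :=
      congrArg PrimeSpectrum.asIdeal hQP
    rw [← h3] at hbP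
    exact hbP
  have htQ : v ∈ Q.asIdeal := hle htmem
  obtain ⟨k, rfl⟩ := hv
  exact hQg (Q.isPrime.mem_of_pow_mem k htQ)

end AscDesc

end Groth.Agent.Lib.Helper24.ElemDevFP
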