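import Mathlib
import Groth.Prelude.Def_FlatCA
import Groth.Agent.Lib.Helper24.ElemDevB
import Groth.Agent.Lib.Helper24.ElemDevC

/-!
# Finite presentation along an elementary dévissage: assembly
-/

set_option autoImplicit false
set_option maxHeartbeats 400000
set_option linter.style.haveILetI false
set_option linter.unusedSectionVars false
set_option linter.unusedVariables false

universe u

namespace Groth.Agent.Lib.Helper24.ElemDevFP

open TensorProduct
open Groth.Agent.Lib.Helper24.ElemDev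

variable {R S : Type u} [CommRing R] [CommRing S] [Algebra R S]
  {N : Type u} [AddCommGroup N] [Module S N] [Module R N] [IsScalarTower R S N]
  {p : Ideal R} [p.IsPrime] {q : Ideal S} [q.IsPrime] {n : ℕ}
  (E : FlatCA.ElemDevissage R S N p q n)

theorem fp_of_smoothRelDim {R₀ D₀ : Type u} [CommRing R₀] [CommRing D₀] [Algebra R₀ D₀] (n : ℕ)
    (h : FlatCA.SmoothRelDim n R₀ D₀) : Algebra.FinitePresentation R₀ D₀ := by
  have h1 : AlgebraicGeometry.Smooth
      (AlgebraicGeometry.Spec.map (CommRingCat.ofHom (algebraMap R₀ D₀))) :=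
    AlgebraicGeometry.SmoothOfRelativeDimension.smooth n _
  have h2 : AlgebraicGeometry.LocallyOfFinitePresentation
      (AlgebraicGeometry.Spec.map (CommRingCat.ofHom (algebraMap R₀ D₀))) := inferInstance
  have h3 := (AlgebraicGeometry.HasRingHomProperty.Spec_iff
    (P := @AlgebraicGeometry.LocallyOfFinitePresentation)).mp h2
  exact RingHom.finitePresentation_algebraMap.mp h3

theorem fp_DC [Algebra.FinitePresentation R S] : Algebra.FinitePresentation E.D E.C := by
  obtain ⟨hetR, -⟩ := E.etaleR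
  obtain ⟨hetS, hqq, -⟩ := E.etaleS
  haveI := E.fpC
  haveI : Algebra.FinitePresentation R E.S' := Algebra.FinitePresentation.trans R S E.S'
  haveI : Algebra.FinitePresentation E.R' E.S' :=
    Algebra.FinitePresentation.of_restrict_scalars_finitePresentation R E.R' E.S'
  haveI : Algebra.FinitePresentation E.R' E.C := Algebra.FinitePresentation.trans E.R' E.S' E.C
  haveI : Algebra.FinitePresentation E.R' E.D := fp_of_smoothRelDim n E.smooth
  exact Algebra.FinitePresentation.of_restrict_scalars_finitePresentation E.R' E.D E.C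

theorem finite_S'C : Module.Finite E.S' E.C :=
  Module.Finite.of_surjective (Algebra.linearMap E.S' E.C) E.surjC

theorem mfp_S'C : Module.FinitePresentation E.S' E.C := by
  haveI := finite_S'C E
  haveI := E.fpC
  exact Module.FinitePresentation.of_finite_of_finitePresentation E.S' E.C

theorem mfp_DC [Algebra.FinitePresentation R S] : Module.FinitePresentation E.D E.C := by
  haveI := E.finiteDC
  haveI := fp_DC E
  exact Module.FinitePresentation.of_finite_of_finitePresentation E.D E.C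

theorem finite_S'G [Module.Finite S N] : Module.Finite E.S' E.G :=
  Module.Finite.equiv (E.isBaseChange.equiv ≪≫ₗ E.iso)

/-- `S → S'` up. -/
theorem up_SS' [Module.Finite S N] (U : Submonoid S) (V : Submonoid E.S')
    (hUV : ∀ u ∈ U, algebraMap S E.S' u ∈ V) (h : FPL S U N) : FPL E.S' V E.G := by
  have h1 := locFP_of_fpl h
  have h2 := h1.baseChange (B := E.S') hUV
  exact fpl_of_locFP (h2.congr (E.isBaseChange.equiv ≪≫ₗ E.iso))

/-- `S' → S` down. -/
theorem down_SS' [Module.Finite S N] (U : Submonoid S) (V : Submonoid E.S')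
    (hD : ∀ (X : Type u) [AddCommGroup X] [Module S X] (x : X) (v : E.S'), v ∈ V →
      v ⊗ₜ[S] x = (0 : E.S' ⊗[S] X) → ∃ u ∈ U, u • x = 0)
    (h : FPL E.S' V E.G) : FPL S U N := by
  haveI := finite_S'G E
  have h1 := locFP_of_fpl h
  have h2 := h1.congr (E.isBaseChange.equiv ≪≫ₗ E.iso).symm
  have h3 := fpl_of_locFP h2
  exact fpl_of_locFP (locFP_descend hD h3)

theorem local_1_to_2 [Module.Finite S N] (h : FPL S q.primeCompl N) :
    FPL E.C E.z.primeCompl E.G := by
  obtain ⟨hetS, hqq, -⟩ := E.etaleS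
  haveI := finite_S'C E
  haveI := E.finiteG
  have h1 := up_SS' E q.primeCompl E.q'.primeCompl
    (fun u hu hv => hu ((Ideal.mem_of_liesOver E.q' q u).mpr hv)) h
  exact fpl_up (U := E.q'.primeCompl) (V := E.z.primeCompl)
    (fun u hu hv => hu ((Ideal.mem_of_liesOver E.z E.q' u).mpr hv)) h1

theorem local_2_to_1 [Module.Finite S N] (h : FPL E.C E.z.primeCompl E.G) :
    FPL S q.primeCompl N := by
  obtain ⟨hetS, hqq, -⟩ := E.etaleS
  haveI := mfp_S'C E
  haveI := E.finiteG
  haveI : Module.Flat S E.S' := inferInstance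
  have h1 : FPL E.S' E.q'.primeCompl E.G := fpl_down (fun v hv => by
    obtain ⟨u, rfl⟩ := E.surjC v
    exact ⟨u, fun hu => hv ((Ideal.mem_of_liesOver E.z E.q' u).mp hu), dvd_rfl⟩) h
  exact down_SS' E q.primeCompl E.q'.primeCompl (descEl_prime E.q' q hqq.over) h1

theorem local_2_to_3 [Algebra.FinitePresentation R S] (h : FPL E.C E.z.primeCompl E.G) :
    FPL E.D E.y.primeCompl E.G := by
  haveI := mfp_DC E
  haveI := E.finiteG
  haveI := E.finiteDC
  haveI : Algebra.IsIntegral E.D E.C := inferInstance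
  exact fpl_down (fun v hv => by
    obtain ⟨r, hr, hdvd⟩ :=
      Ideal.exists_notMem_dvd_algebraMap_of_primesOver_eq_singleton (primesOver_eq E) v hv
    exact ⟨r, hr, hdvd⟩) h

theorem local_3_to_2 (h : FPL E.D E.y.primeCompl E.G) : FPL E.C E.z.primeCompl E.G := by
  haveI := E.finiteG
  haveI := E.finiteDC
  exact fpl_up (U := E.y.primeCompl) (V := E.z.primeCompl)
    (fun u hu hv => hu ((Ideal.mem_of_liesOver E.z E.y u).mpr hv)) h

theorem open_1_to_2 [Module.Finite S N]
    (h : ∃ g : S, g ∉ q ∧ FPL S (Submonoid.powers g) N) :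
    ∃ g : E.C, g ∉ E.z ∧ FPL E.C (Submonoid.powers g) E.G := by
  obtain ⟨g, hg, hfp⟩ := h
  obtain ⟨hetS, hqq, -⟩ := E.etaleS
  haveI := finite_S'C E
  haveI := E.finiteG
  refine ⟨algebraMap E.S' E.C (algebraMap S E.S' g), ?_, ?_⟩
  · intro hmem
    have h1 : algebraMap S E.S' g ∈ E.q' := (Ideal.mem_of_liesOver E.z E.q' _).mpr hmem
    exact hg ((Ideal.mem_of_liesOver E.q' q g).mpr h1)
  · have h1 := up_SS' E (Submonoid.powers g) (Submonoid.powers (algebraMap S E.S' g))
      (by rintro _ ⟨k, rfl⟩; exact ⟨k, (map_pow _ _ _).symm⟩) hfp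
    exact fpl_up (by rintro _ ⟨k, rfl⟩; exact ⟨k, (map_pow _ _ _).symm⟩) h1

theorem open_2_to_1 [Module.Finite S N]
    (h : ∃ g : E.C, g ∉ E.z ∧ FPL E.C (Submonoid.powers g) E.G) :
    ∃ g : S, g ∉ q ∧ FPL S (Submonoid.powers g) N := by
  obtain ⟨g, hg, hfp⟩ := h
  obtain ⟨hetS, hqq, -⟩ := E.etaleS
  haveI := mfp_S'C E
  haveI := E.finiteG
  haveI : Module.Flat S E.S' := inferInstance
  obtain ⟨g₁, rfl⟩ := E.surjC g
  have hg₁ : g₁ ∉ E.q' := fun h => hg ((Ideal.mem_of_liesOver E.z E.q' g₁).mp h)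
  have h1 : FPL E.S' (Submonoid.powers g₁) E.G := fpl_down (by
    rintro _ ⟨k, rfl⟩
    exact ⟨g₁ ^ k, ⟨k, rfl⟩, dvd_of_eq (map_pow _ _ _).symm⟩) hfp
  obtain ⟨h, hh, hsub⟩ := exists_basicOpen_subset (A := S) g₁ E.q' hg₁
  refine ⟨h, fun hm => hh ((Ideal.mem_of_liesOver E.q' q h).mp hm), ?_⟩
  exact down_SS' E (Submonoid.powers h) (Submonoid.powers g₁) (descEl_open g₁ h hsub) h1

theorem open_2_to_3 [Algebra.FinitePresentation R S]
    (h : ∃ g : E.C, g ∉ E.z ∧ FPL E.C (Submonoid.powers g) E.G) :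
    ∃ g : E.D, g ∉ E.y ∧ FPL E.D (Submonoid.powers g) E.G := by
  obtain ⟨g, hg, hfp⟩ := h
  haveI := mfp_DC E
  haveI := E.finiteG
  haveI := E.finiteDC
  haveI : Algebra.IsIntegral E.D E.C := inferInstance
  obtain ⟨r, hr, c, hc⟩ :=
    Ideal.exists_notMem_dvd_algebraMap_of_primesOver_eq_singleton (primesOver_eq E) g hg
  refine ⟨r, hr, ?_⟩
  refine fpl_down ?_ hfp
  rintro _ ⟨k, rfl⟩
  exact ⟨r ^ k, ⟨k, rfl⟩, ⟨c ^ k, by rw [map_pow, hc, mul_pow]⟩⟩

theorem open_3_to_2
    (h : ∃ g : E.D, g ∉ E.y ∧ FPL E.D (Submonoid.powers g) E.G) :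
    ∃ g : E.C, g ∉ E.z ∧ FPL E.C (Submonoid.powers g) E.G := by
  obtain ⟨g, hg, hfp⟩ := h
  haveI := E.finiteG
  haveI := E.finiteDC
  refine ⟨algebraMap E.D E.C g, fun hv => hg ((Ideal.mem_of_liesOver E.z E.y g).mpr hv), ?_⟩
  exact fpl_up (by rintro _ ⟨k, rfl⟩; exact ⟨k, (map_pow _ _ _).symm⟩) hfp

theorem main [Algebra.FinitePresentation R S] [Module.Finite S N] :
    Algebra.FinitePresentation E.D E.C ∧
    [Module.FinitePresentation (Localization.AtPrime q) (LocalizedModule q.primeCompl N),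
     Module.FinitePresentation (Localization.AtPrime E.z) (LocalizedModule E.z.primeCompl E.G),
     Module.FinitePresentation (Localization.AtPrime E.y) (LocalizedModule E.y.primeCompl E.G)].TFAE ∧
    [∃ g : S, g ∉ q ∧ Module.FinitePresentation (Localization.Away g)
        (LocalizedModule (Submonoid.powers g) N),
     ∃ g : E.C, g ∉ E.z ∧ Module.FinitePresentation (Localization.Away g)
        (LocalizedModule (Submonoid.powers g) E.G),
     ∃ g : E.D, g ∉ E.y ∧ Module.FinitePresentation (Localization.Away g)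
        (LocalizedModule (Submonoid.powers g) E.G)].TFAE := by
  refine ⟨fp_DC E, ?_, ?_⟩
  · tfae_have 1 → 2 := local_1_to_2 E
    tfae_have 2 → 1 := local_2_to_1 E
    tfae_have 2 → 3 := local_2_to_3 E
    tfae_have 3 → 2 := local_3_to_2 E
    tfae_finish
  · tfae_have 1 → 2 := open_1_to_2 E
    tfae_have 2 → 1 := open_2_to_1 E
    tfae_have 2 → 3 := open_2_to_3 E
    tfae_have 3 → 2 := open_3_to_2 E
    tfae_finish

end Groth.Agent.Lib.Helper24.ElemDevFP
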