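import Mathlib
import Groth.Prelude.Def_PolLaw

/-!
# Base change of a multiplicative polynomial law with values in the new base ring (helper24)

For a law `F : B → k` over `A`, with `k` an `A`-algebra, we construct the law
`bcMul k F : k ⊗[A] B → k` over `k`.  On a `k`-algebra `S` (viewed as an `A`-algebra) it is
`S ⊗[k] (k ⊗[A] B) ≃ S ⊗[A] B → S ⊗[A] k → S ≃ S ⊗[k] k`.
-/

set_option autoImplicit false

namespace Groth.Agent.Lib.Helper24.PolLawBC

open scoped TensorProduct

universe u

variable {A : Type u} [CommRing A] {B : Type u} [CommRing B] [Algebra A B]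
variable (k : Type u) [CommRing k] [Algebra A k]

section compat

variable (S : Type u) [CommSemiring S] [Algebra k S] [Algebra A S] [IsScalarTower A k S]

/-- multiplication `S ⊗[A] k → S`. -/
noncomputable def pm : S ⊗[A] k →ₐ[A] S :=
  Algebra.TensorProduct.productMap (AlgHom.id A S) (IsScalarTower.toAlgHom A k S)

lemma pm_tmul (s : S) (a : k) : pm k S (s ⊗ₜ[A] a) = s * algebraMap k S a := by
  unfold pm
  rw [Algebra.TensorProduct.productMap_apply_tmul, AlgHom.id_apply, IsScalarTower.coe_toAlgHom']

lemma pm_smul (s : S) (z : S ⊗[A] k) : pm k S (s • z) = s * pm k S z := by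
  induction z using TensorProduct.induction_on with
  | zero => simp
  | tmul s' a => rw [TensorProduct.smul_tmul', pm_tmul, pm_tmul, smul_eq_mul, mul_assoc]
  | add x y hx hy => rw [smul_add, map_add, map_add, hx, hy, mul_add]

/-- the value of the base-changed law on the `k`-algebra `S`. -/
noncomputable def bcFun (F : B →ₚₗ[A] k) : S ⊗[k] (k ⊗[A] B) → S ⊗[k] k := fun x =>
  (Algebra.TensorProduct.rid k S S).symm
    (pm k S (F.toFun' S (Algebra.TensorProduct.cancelBaseChange A k S S B x)))

variable {S}
variable {S' : Type u} [CommSemiring S'] [Algebra k S'] [Algebra A S'] [IsScalarTower A k S']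

lemma cancel_rTensor (φ : S →ₐ[k] S') (φA : S →ₐ[A] S') (hφ : ∀ s, φA s = φ s)
    (x : S ⊗[k] (k ⊗[A] B)) :
    Algebra.TensorProduct.cancelBaseChange A k S' S' B (φ.toLinearMap.rTensor (k ⊗[A] B) x) =
      φA.toLinearMap.rTensor B (Algebra.TensorProduct.cancelBaseChange A k S S B x) := by
  induction x using TensorProduct.induction_on with
  | zero => simp
  | tmul s y =>
    induction y using TensorProduct.induction_on with
    | zero => simp
    | tmul a b =>
      rw [LinearMap.rTensor_tmul, Algebra.TensorProduct.cancelBaseChange_tmul,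
        Algebra.TensorProduct.cancelBaseChange_tmul, LinearMap.rTensor_tmul,
        AlgHom.toLinearMap_apply, AlgHom.toLinearMap_apply, hφ, map_smul]
    | add y y' hy hy' =>
      rw [TensorProduct.tmul_add, map_add, map_add, map_add, map_add, hy, hy']
  | add x x' hx hx' => rw [map_add, map_add, map_add, map_add, hx, hx']

lemma pm_rTensor (φ : S →ₐ[k] S') (φA : S →ₐ[A] S') (hφ : ∀ s, φA s = φ s) (z : S ⊗[A] k) :
    pm k S' (φA.toLinearMap.rTensor k z) = φ (pm k S z) := by
  induction z using TensorProduct.induction_on with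
  | zero => simp
  | tmul s a =>
    rw [LinearMap.rTensor_tmul, pm_tmul, pm_tmul, AlgHom.toLinearMap_apply, hφ, map_mul,
      AlgHom.commutes]
  | add x y hx hy => rw [map_add, map_add, map_add, map_add, hx, hy]

lemma rid_symm_rTensor (φ : S →ₐ[k] S') (w : S) :
    (Algebra.TensorProduct.rid k S' S').symm (φ w) =
      φ.toLinearMap.rTensor k ((Algebra.TensorProduct.rid k S S).symm w) := by
  rw [Algebra.TensorProduct.rid_symm_apply, Algebra.TensorProduct.rid_symm_apply,
    LinearMap.rTensor_tmul, AlgHom.toLinearMap_apply]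

lemma bcFun_compat (F : B →ₚₗ[A] k) (φ : S →ₐ[k] S') (φA : S →ₐ[A] S') (hφ : ∀ s, φA s = φ s)
    (x : S ⊗[k] (k ⊗[A] B)) :
    φ.toLinearMap.rTensor k (bcFun k S F x) =
      bcFun k S' F (φ.toLinearMap.rTensor (k ⊗[A] B) x) := by
  unfold bcFun
  rw [cancel_rTensor k φ φA hφ, ← PolynomialLaw.isCompat_apply', pm_rTensor k φ φA hφ,
    rid_symm_rTensor]

variable (S)

lemma bcFun_smul {d : ℕ} (F : PolLaw.MulLaw A B k d) (s : S) (x : S ⊗[k] (k ⊗[A] B)) :
    bcFun k S F.law (s • x) = s ^ d • bcFun k S F.law x := by
  unfold bcFun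
  rw [map_smul, F.homog, pm_smul, ← smul_eq_mul, map_smul]

lemma bcFun_one {d : ℕ} (F : PolLaw.MulLaw A B k d) : bcFun k S F.law 1 = 1 := by
  unfold bcFun
  rw [map_one, (F.mult S).1, map_one, map_one]

lemma bcFun_mul {d : ℕ} (F : PolLaw.MulLaw A B k d) (x y : S ⊗[k] (k ⊗[A] B)) :
    bcFun k S F.law (x * y) = bcFun k S F.law x * bcFun k S F.law y := by
  unfold bcFun
  rw [map_mul, (F.mult S).2, map_mul, map_mul]

end compat

/-- the `A`-algebra structure of a `k`-algebra. -/
@[reducible] def algA (S : Type u) [CommSemiring S] [Algebra k S] : Algebra A S :=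
  Algebra.compHom S (algebraMap A k)

lemma towerA (S : Type u) [CommSemiring S] [Algebra k S] :
    letI := algA (A := A) k S
    IsScalarTower A k S := by
  letI := algA (A := A) k S
  exact IsScalarTower.of_algebraMap_eq (fun _ => rfl)

/-- base change of a polynomial law with values in `k`. -/
noncomputable def bcLaw (F : B →ₚₗ[A] k) : (k ⊗[A] B) →ₚₗ[k] k where
  toFun' S _ _ :=
    letI := algA (A := A) k S
    haveI := towerA (A := A) k S
    bcFun k S F
  isCompat' {S _ _ S' _ _} φ := by
    letI := algA (A := A) k S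
    haveI := towerA (A := A) k S
    letI := algA (A := A) k S'
    haveI := towerA (A := A) k S'
    funext x
    simp only [Function.comp_apply]
    exact bcFun_compat k F φ
      { φ.toRingHom with commutes' := fun a => φ.commutes (algebraMap A k a) } (fun _ => rfl) x

theorem bcLaw_apply (F : B →ₚₗ[A] k) (S : Type u) [CommSemiring S] [Algebra k S]
    [iA : Algebra A S] [iT : IsScalarTower A k S] (x : S ⊗[k] (k ⊗[A] B)) :
    (bcLaw k F).toFun' S x = bcFun k S F x := by
  have e : iA = algA k S := by
    apply Algebra.algebra_ext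
    intro a
    exact IsScalarTower.algebraMap_apply A k S a
  subst e
  rfl

/-- base change of a multiplicative law with values in `k`. -/
noncomputable def bcMul {d : ℕ} (F : PolLaw.MulLaw A B k d) : PolLaw.MulLaw k (k ⊗[A] B) k d where
  law := bcLaw k F.law
  homog S _ _ s x := by
    letI := algA (A := A) k S
    haveI := towerA (A := A) k S
    exact bcFun_smul k S F s x
  mult S _ _ := by
    letI := algA (A := A) k S
    haveI := towerA (A := A) k S
    exact ⟨bcFun_one k S F, bcFun_mul k S F⟩

theorem bcMul_apply {d : ℕ} (F : PolLaw.MulLaw A B k d) (S : Type u) [CommSemiring S]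
    [Algebra k S] [Algebra A S] [IsScalarTower A k S] (x : S ⊗[k] (k ⊗[A] B)) :
    (bcMul k F).law.toFun' S x = bcFun k S F.law x :=
  bcLaw_apply k F.law S x

end Groth.Agent.Lib.Helper24.PolLawBC
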