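import Mathlib
import Groth.Prelude.Def_PolLaw
import Groth.Agent.Lib.Helper20.PolLawKer
import Groth.Agent.Lib.Helper24.PolLawBC
import Groth.Agent.Lib.Helper24.GamCH

/-!
# The base change `bc k F` of a multiplicative law `F : B → A` and its kernel (helper24)

* `bc k F : k ⊗[A] B → k`, the base change of `F : B → A` to an `A`-algebra `k`; `bc_apply`.
* `ker_bc : ker (bc k F) = kerBC F k`.
* `charP_bc`: the characteristic polynomial of `bc k F`; `charP_bc_map`: naturality in `k`.
* `map_aeval`: naturality of polynomial evaluation in `k ⊗[A] B`.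
* `map_mem_kerBC`: functoriality of `kerBC` in the algebra `k`.
-/

set_option autoImplicit false

namespace Groth.Agent.Lib.Helper24.KerBC

open scoped TensorProduct
open Groth.Agent.Lib.Helper20.PolLawKer Groth.Agent.Lib.Helper24.PolLawBC
  Groth.Agent.Lib.Helper24.GamCH

universe u

variable {A : Type u} [CommRing A] {B : Type u} [CommRing B] [Algebra A B]
variable (k : Type u) [CommRing k] [Algebra A k]

section compat

variable (S : Type u) [CommSemiring S] [Algebra k S] [Algebra A S] [IsScalarTower A k S]

lemma cancel_one_tmul (y : k ⊗[A] B) :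
    Algebra.TensorProduct.cancelBaseChange A k S S B ((1 : S) ⊗ₜ[k] y) =
      Algebra.TensorProduct.map (IsScalarTower.toAlgHom A k S) (AlgHom.id A B) y := by
  induction y using TensorProduct.induction_on with
  | zero => simp
  | tmul a b =>
    rw [Algebra.TensorProduct.cancelBaseChange_tmul, Algebra.TensorProduct.map_tmul,
      IsScalarTower.coe_toAlgHom', AlgHom.id_apply, Algebra.smul_def, mul_one]
  | add x y hx hy => rw [TensorProduct.tmul_add, map_add, map_add, hx, hy]

lemma pm_lTensor (u : S ⊗[A] A) :
    pm k S ((Algebra.ofId A k).toLinearMap.lTensor S u) = TensorProduct.rid A S u := by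
  induction u using TensorProduct.induction_on with
  | zero => simp
  | tmul s a =>
    rw [LinearMap.lTensor_tmul, pm_tmul, AlgHom.toLinearMap_apply, TensorProduct.rid_tmul,
      Algebra.ofId_apply, ← IsScalarTower.algebraMap_apply, Algebra.smul_def, mul_comm]
  | add x y hx hy => rw [map_add, map_add, map_add, hx, hy]

lemma rid_rid_symm (v : S) :
    TensorProduct.rid k S ((Algebra.TensorProduct.rid k S S).symm v) = v := by
  rw [Algebra.TensorProduct.rid_symm_apply, TensorProduct.rid_tmul, one_smul]

end compat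

/-- the base change of `F : B → A` to the `A`-algebra `k`. -/
noncomputable def bc {d : ℕ} (F : PolLaw.MulLaw A B A d) : PolLaw.MulLaw k (k ⊗[A] B) k d :=
  bcMul k (F.postcomp (Algebra.ofId A k))

theorem bc_apply {d : ℕ} (F : PolLaw.MulLaw A B A d) (S : Type u) [CommSemiring S]
    [Algebra k S] [Algebra A S] [IsScalarTower A k S] (x : S ⊗[k] (k ⊗[A] B)) :
    (bc k F).law.toFun' S x = (Algebra.TensorProduct.rid k S S).symm
      (TensorProduct.rid A S (F.law.toFun' S
        (Algebra.TensorProduct.cancelBaseChange A k S S B x))) := by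
  unfold bc
  rw [bcMul_apply]
  unfold bcFun
  show (Algebra.TensorProduct.rid k S S).symm (pm k S
    ((Algebra.ofId A k).toLinearMap.lTensor S (F.law.toFun' S _))) = _
  rw [pm_lTensor]

theorem ker_bc {d : ℕ} (F : PolLaw.MulLaw A B A d) :
    PolLaw.ker (bc k F).law = PolLaw.kerBC F.law k := by
  ext b'
  rw [mem_ker_iff, mem_kerBC_iff]
  constructor
  · intro h R _ _ _ _ x w
    have h1 := h R ((Algebra.TensorProduct.cancelBaseChange A k R R B).symm x)
      ((Algebra.TensorProduct.cancelBaseChange A k R R B).symm w)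
    rw [bc_apply, bc_apply] at h1
    have h2 := (TensorProduct.rid A R).injective
      ((Algebra.TensorProduct.rid k R R).symm.injective h1)
    rw [map_add, map_mul, AlgEquiv.apply_symm_apply, AlgEquiv.apply_symm_apply,
      cancel_one_tmul] at h2
    exact h2
  · intro h S _ _ x w
    letI := algA (A := A) k S
    haveI := towerA (A := A) k S
    rw [bc_apply, bc_apply, map_add, map_mul, cancel_one_tmul, h S _ _]

theorem charP_bc {d : ℕ} (F : PolLaw.MulLaw A B A d) (x : k ⊗[A] B) :
    charP (bc k F) x = TensorProduct.rid A (Polynomial k) (F.law.toFun' (Polynomial k)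
      (Algebra.TensorProduct.map (IsScalarTower.toAlgHom A k (Polynomial k)) (AlgHom.id A B) x -
        Polynomial.X ⊗ₜ[A] (1 : B))) := by
  unfold charP
  rw [bc_apply, rid_rid_symm, map_sub, cancel_one_tmul, Algebra.TensorProduct.one_def,
    Algebra.TensorProduct.cancelBaseChange_tmul, one_smul]

variable {k}
variable {k' : Type u} [CommRing k'] [Algebra A k']

theorem charP_bc_map {d : ℕ} (F : PolLaw.MulLaw A B A d) (θ : k →ₐ[A] k') (x : k ⊗[A] B) :
    charP (bc k' F) (Algebra.TensorProduct.map θ (AlgHom.id A B) x) =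
      (charP (bc k F) x).map (θ : k →+* k') := by
  rw [charP_bc, charP_bc]
  have h := rid_rTensor (Polynomial.mapAlgHom θ) (F.law.toFun' (Polynomial k)
    (Algebra.TensorProduct.map (IsScalarTower.toAlgHom A k (Polynomial k)) (AlgHom.id A B) x -
      Polynomial.X ⊗ₜ[A] (1 : B)))
  rw [PolynomialLaw.isCompat_apply', rTensor_eq_map, map_sub, map_map_apply,
    Algebra.TensorProduct.map_tmul, AlgHom.id_apply] at h
  have e1 : (Polynomial.mapAlgHom θ).comp (IsScalarTower.toAlgHom A k (Polynomial k)) =
      (IsScalarTower.toAlgHom A k' (Polynomial k')).comp θ := by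
    ext r
    simp
  have e2 : Polynomial.mapAlgHom θ (Polynomial.X : Polynomial k) = Polynomial.X := by simp
  rw [e1, e2, ← map_map_apply] at h
  rw [h]
  rfl

theorem map_aeval (θ : k →ₐ[A] k') (x : k ⊗[A] B) (p : Polynomial k) :
    Algebra.TensorProduct.map θ (AlgHom.id A B) (Polynomial.aeval x p) =
      Polynomial.aeval (Algebra.TensorProduct.map θ (AlgHom.id A B) x)
        (p.map (θ : k →+* k')) := by
  have h : (algebraMap k' (k' ⊗[A] B)).comp (θ : k →+* k') =
      ((Algebra.TensorProduct.map θ (AlgHom.id A B) : k ⊗[A] B →ₐ[A] k' ⊗[A] B) :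
        k ⊗[A] B →+* k' ⊗[A] B).comp (algebraMap k (k ⊗[A] B)) := by
    ext r
    simp [Algebra.TensorProduct.algebraMap_apply]
  exact Polynomial.map_aeval_eq_aeval_map h p x

theorem map_mem_kerBC (F : B →ₚₗ[A] A) (θ : k →ₐ[A] k') {z : k ⊗[A] B}
    (hz : z ∈ PolLaw.kerBC F k) :
    Algebra.TensorProduct.map θ (AlgHom.id A B) z ∈ PolLaw.kerBC F k' := by
  rw [mem_kerBC_iff] at hz ⊢
  intro R _ _ _ _ x w
  letI : Algebra k R := ((algebraMap k' R).comp (θ : k →+* k')).toAlgebra
  haveI : IsScalarTower A k R := IsScalarTower.of_algebraMap_eq (fun a => by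
    show algebraMap A R a = algebraMap k' R (θ (algebraMap A k a))
    rw [θ.commutes, ← IsScalarTower.algebraMap_apply])
  have h := hz R x w
  rw [map_map_apply]
  have e : (IsScalarTower.toAlgHom A k' R).comp θ = IsScalarTower.toAlgHom A k R := by
    ext r
    rfl
  rw [e]
  exact h

end Groth.Agent.Lib.Helper24.KerBC
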