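import Mathlib
import Groth.Prelude.Def_SymTen
import Groth.Prelude.Def_PolLaw2
import Groth.Agent.Lib.Helper20.PolLawKer
import Groth.Agent.Lib.Helper24.GamFree
import Groth.Agent.Lib.Helper24.GamUniv
import Groth.Agent.Lib.Helper24.GamCH
import Groth.Agent.Lib.Helper24.GamCH2

/-!
# Multiplicative laws over a field (helper24)

Over a field `k`, a multiplicative law `F : B → k` of degree `d` becomes, over a suitable field
extension `K`, the product of `d` algebra maps `g i : B → K` (`exists_points`); its kernel is the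
intersection of the kernels of the `g i` (`ker_eq_iInf`), every prime containing `ker F` is maximal
and there are at most `d` of them (`exists_injective_fin`).
-/

set_option autoImplicit false

namespace Groth.Agent.Lib.Helper24.KerField

open scoped TensorProduct
open Groth.Agent.Lib.Helper20.PolLawKer Groth.Agent.Lib.Helper24.GamFree
  Groth.Agent.Lib.Helper24.GamUniv Groth.Agent.Lib.Helper24.GamCH Groth.Agent.Lib.Helper24.GamCH2

universe u

section integral

variable (A : Type u) [CommRing A] (B : Type u) [CommRing B] [Algebra A B] (d : ℕ)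

/-- the permutation action on the tensor power. -/
@[reducible] noncomputable def permAction :
    MulSemiringAction (Equiv.Perm (Fin d)) (⨂[A] _ : Fin d, B) where
  smul σ t := SymTen.perm A B d σ t
  one_smul t := by
    show SymTen.perm A B d 1 t = t
    induction t using PiTensorProduct.induction_on with
    | smul_tprod r f =>
      rw [map_smul, SymTen.perm_tprod]
      rfl
    | add x y hx hy => rw [map_add, hx, hy]
  mul_smul σ τ t := by
    show SymTen.perm A B d (σ * τ) t = SymTen.perm A B d σ (SymTen.perm A B d τ t)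
    rw [← perm_comp_perm]
    rfl
  smul_zero σ := map_zero _
  smul_add σ x y := map_add _ x y
  smul_one σ := map_one _
  smul_mul σ x y := map_mul _ x y

/-- the tensor power is integral over the symmetric tensors. -/
theorem isIntegral_tensorPower :
    Algebra.IsIntegral (SymTen.TS A B d) (⨂[A] _ : Fin d, B) := by
  letI := permAction A B d
  haveI : Algebra.IsInvariant (SymTen.TS A B d) (⨂[A] _ : Fin d, B) (Equiv.Perm (Fin d)) :=
    ⟨fun t ht => ⟨⟨t, fun σ => by
      rw [← SymTen.perm_apply]
      exact ht σ⟩, rfl⟩⟩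
  exact Algebra.IsInvariant.isIntegral (SymTen.TS A B d) (⨂[A] _ : Fin d, B)
    (Equiv.Perm (Fin d))

end integral

section monic

variable {A : Type u} [CommRing A] {B : Type u} [CommRing B] [Algebra A B] {d : ℕ}
  (F : PolLaw.MulLaw A B A d)

/-- every element of `B` is a root, modulo `ker F`, of a monic polynomial of degree `≤ d`. -/
lemma exists_monic (b : B) : ∃ p : Polynomial A, p.Monic ∧ p.natDegree ≤ d ∧
    Polynomial.aeval b p ∈ PolLaw.ker F.law := by
  obtain ⟨h1, h2⟩ := charP_coeff F b
  have hdeg : (Polynomial.C ((-1 : A) ^ d) * charP F b).natDegree ≤ d := by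
    rw [Polynomial.natDegree_le_iff_coeff_eq_zero]
    intro N hN
    rw [Polynomial.coeff_C_mul, h2 N hN, mul_zero]
  refine ⟨Polynomial.C ((-1 : A) ^ d) * charP F b, ?_, hdeg, ?_⟩
  · apply Polynomial.monic_of_natDegree_le_of_coeff_eq_one d hdeg
    rw [Polynomial.coeff_C_mul, h1, ← mul_pow]
    simp
  · rw [map_mul, Polynomial.aeval_C]
    exact Ideal.mul_mem_left _ _ (CH F b)

end monic

section field

variable {k : Type u} [Field k] {B : Type u} [CommRing B] [Algebra k B] {d : ℕ}
  (F : PolLaw.MulLaw k B k d)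

/-- Over a field extension, `F` is a product of `d` points. -/
theorem exists_points : ∃ (K : Type u) (_ : Field K) (_ : Algebra k K) (g : Fin d → (B →ₐ[k] K)),
    ∀ (S : Type u) [CommSemiring S] [Algebra k S] (x : S ⊗[k] B),
      (Algebra.ofId k K).toLinearMap.lTensor S (F.law.toFun' S x) =
        ∏ i, (g i).toLinearMap.lTensor S x := by
  classical
  let e : Module.Basis (Module.Free.ChooseBasisIndex k B) k B := Module.Free.chooseBasis k B
  obtain ⟨hk, hhk, -⟩ := isGammaD_τ e d k F
  have hhk' : ∀ (S : Type u) [CommSemiring S] [Algebra k S] (x : S ⊗[k] B),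
      hk.toLinearMap.lTensor S ((τ e d).law.toFun' S x) = F.law.toFun' S x := fun S _ _ x =>
    congrArg (fun L : B →ₚₗ[k] k => L.toFun' S x) hhk
  haveI hint : Algebra.IsIntegral (SymTen.TS k B d) (⨂[k] _ : Fin d, B) :=
    isIntegral_tensorPower k B d
  haveI : (RingHom.ker hk).IsPrime := RingHom.ker_isPrime hk
  obtain ⟨𝔓, -, h𝔓prime, h𝔓over⟩ := Ideal.exists_ideal_over_prime_of_isIntegral (RingHom.ker hk)
    (⊥ : Ideal (⨂[k] _ : Fin d, B)) (by
      intro r hr
      rw [Ideal.mem_comap, Ideal.mem_bot] at hr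
      have hr0 : r = 0 := Subtype.ext hr
      rw [hr0]
      exact zero_mem _)
  haveI := h𝔓prime
  have hG0 : ∀ t : ⨂[k] _ : Fin d, B, t ∈ 𝔓 →
      ((IsScalarTower.toAlgHom k ((⨂[k] _ : Fin d, B) ⧸ 𝔓)
        (FractionRing ((⨂[k] _ : Fin d, B) ⧸ 𝔓))).comp (Ideal.Quotient.mkₐ k 𝔓)) t = 0 :=
    fun t ht => by
      show algebraMap _ (FractionRing ((⨂[k] _ : Fin d, B) ⧸ 𝔓)) (Ideal.Quotient.mk 𝔓 t) = 0
      rw [Ideal.Quotient.eq_zero_iff_mem.mpr ht, map_zero]
  obtain ⟨G, hGdef⟩ : ∃ G : (⨂[k] _ : Fin d, B) →ₐ[k] FractionRing ((⨂[k] _ : Fin d, B) ⧸ 𝔓),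
      G = (IsScalarTower.toAlgHom k ((⨂[k] _ : Fin d, B) ⧸ 𝔓)
        (FractionRing ((⨂[k] _ : Fin d, B) ⧸ 𝔓))).comp (Ideal.Quotient.mkₐ k 𝔓) := ⟨_, rfl⟩
  rw [← hGdef] at hG0
  have hGval : G.comp (SymTen.TS k B d).val =
      (Algebra.ofId k (FractionRing ((⨂[k] _ : Fin d, B) ⧸ 𝔓))).comp hk := by
    apply AlgHom.ext
    intro r
    have h1 : r - algebraMap k (SymTen.TS k B d) (hk r) ∈ RingHom.ker hk := by
      rw [RingHom.mem_ker, map_sub, AlgHom.commutes, Algebra.algebraMap_self, RingHom.id_apply,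
        sub_self]
    rw [← h𝔓over, Ideal.mem_comap] at h1
    have h2 := hG0 _ h1
    have h3 : algebraMap (SymTen.TS k B d) (⨂[k] _ : Fin d, B)
        (r - algebraMap k (SymTen.TS k B d) (hk r)) =
        (r : ⨂[k] _ : Fin d, B) - algebraMap k (⨂[k] _ : Fin d, B) (hk r) := rfl
    rw [h3, map_sub, sub_eq_zero, AlgHom.commutes] at h2
    exact h2
  refine ⟨FractionRing ((⨂[k] _ : Fin d, B) ⧸ 𝔓), inferInstance, inferInstance,
    fun i => G.comp (PiTensorProduct.singleAlgHom (R := k) (A := fun _ : Fin d => B) i), ?_⟩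
  intro S _ _ x
  rw [← hhk', ← LinearMap.lTensor_comp_apply, ← AlgHom.comp_toLinearMap, ← hGval,
    AlgHom.comp_toLinearMap, LinearMap.lTensor_comp_apply, val_τ_apply]
  unfold SymTen.tpowLaw
  rw [PolLaw.MulLaw.prodMap_toFun', PolLaw.lTensor_algHom_apply, map_prod]
  refine Finset.prod_congr rfl fun i _ => ?_
  rw [AlgHom.comp_toLinearMap, LinearMap.lTensor_comp_apply, PolLaw.lTensor_algHom_apply,
    PolLaw.lTensor_algHom_apply]

variable (K : Type u) [Field K] [Algebra k K] (g : Fin d → (B →ₐ[k] K))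
  (hg : ∀ (S : Type u) [CommSemiring S] [Algebra k S] (x : S ⊗[k] B),
      (Algebra.ofId k K).toLinearMap.lTensor S (F.law.toFun' S x) =
        ∏ i, (g i).toLinearMap.lTensor S x)

include hg in
theorem ker_eq_iInf : PolLaw.ker F.law = ⨅ i, RingHom.ker (g i) := by
  apply le_antisymm
  · rw [le_iInf_iff]
    intro j b hb
    rw [RingHom.mem_ker]
    have hch := charP_of_mem_ker F b hb
    have h := hg (Polynomial k) ((1 : Polynomial k) ⊗ₜ[k] b - Polynomial.X ⊗ₜ[k] (1 : B))
    have hF : F.law.toFun' (Polynomial k)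
        ((1 : Polynomial k) ⊗ₜ[k] b - Polynomial.X ⊗ₜ[k] (1 : B)) =
        (charP F b) ⊗ₜ[k] (1 : k) := by
      apply (TensorProduct.rid k (Polynomial k)).injective
      rw [TensorProduct.rid_tmul, one_smul]
      rfl
    rw [hF, hch, LinearMap.lTensor_tmul, AlgHom.toLinearMap_apply, map_one] at h
    have h2 := congrArg (Algebra.TensorProduct.productMap
      (Polynomial.mapAlgHom (Algebra.ofId k K))
      (Polynomial.CAlgHom : K →ₐ[k] Polynomial K)) h
    rw [map_prod] at h2
    have hΨ2 : ∀ i, (Algebra.TensorProduct.productMap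
        (Polynomial.mapAlgHom (Algebra.ofId k K)) (Polynomial.CAlgHom : K →ₐ[k] Polynomial K))
        ((g i).toLinearMap.lTensor (Polynomial k)
          ((1 : Polynomial k) ⊗ₜ[k] b - Polynomial.X ⊗ₜ[k] (1 : B))) =
        Polynomial.C (g i b) - Polynomial.X := by
      intro i
      rw [map_sub, LinearMap.lTensor_tmul, LinearMap.lTensor_tmul, map_sub,
        Algebra.TensorProduct.productMap_apply_tmul, Algebra.TensorProduct.productMap_apply_tmul]
      simp
    rw [Finset.prod_congr rfl (fun i _ => hΨ2 i),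
      Algebra.TensorProduct.productMap_apply_tmul] at h2
    have h3 := congrArg (Polynomial.eval (g j b)) h2
    rw [Polynomial.eval_prod, Finset.prod_eq_zero (Finset.mem_univ j) (by simp)] at h3
    simp only [map_pow, map_neg, Polynomial.coe_mapAlgHom, Polynomial.map_X, map_one, mul_one,
      Polynomial.eval_pow, Polynomial.eval_neg, Polynomial.eval_X] at h3
    have h4 : -(g j b) = 0 := (pow_eq_zero_iff (Fin.pos j).ne').mp h3
    exact neg_eq_zero.mp h4
  · intro b hb
    rw [Ideal.mem_iInf] at hb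
    rw [mem_ker_iff]
    intro S _ _ x w
    obtain ⟨ρ, hρ⟩ := LinearMap.exists_leftInverse_of_injective (Algebra.ofId k K).toLinearMap
      (LinearMap.ker_eq_bot.mpr (algebraMap k K).injective)
    have hinj : Function.Injective ((Algebra.ofId k K).toLinearMap.lTensor S) := by
      apply Function.LeftInverse.injective (g := ρ.lTensor S)
      intro u
      rw [← LinearMap.lTensor_comp_apply, hρ, LinearMap.lTensor_id_apply]
    apply hinj
    rw [hg, hg]
    refine Finset.prod_congr rfl fun i _ => ?_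
    rw [PolLaw.lTensor_algHom_apply, PolLaw.lTensor_algHom_apply, map_add, map_mul,
      Algebra.TensorProduct.map_tmul, RingHom.mem_ker.mp (hb i), TensorProduct.tmul_zero,
      mul_zero, add_zero]

/-- every prime containing `ker F` is maximal (over a field). -/
theorem isMaximal_of_ker_le (P : Ideal B) [hP : P.IsPrime] (hle : PolLaw.ker F.law ≤ P) :
    P.IsMaximal := by
  haveI : Algebra.IsIntegral k (B ⧸ PolLaw.ker F.law) := isIntegral_image F
  have hker : RingHom.ker (Ideal.Quotient.mk (PolLaw.ker F.law)) ≤ P := by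
    rw [Ideal.mk_ker]
    exact hle
  haveI hP' : (P.map (Ideal.Quotient.mk (PolLaw.ker F.law))).IsPrime :=
    Ideal.map_isPrime_of_surjective Ideal.Quotient.mk_surjective hker
  have hmax : (P.map (Ideal.Quotient.mk (PolLaw.ker F.law))).IsMaximal := by
    apply Ideal.isMaximal_of_isIntegral_of_isMaximal_comap (R := k)
    have hne : (P.map (Ideal.Quotient.mk (PolLaw.ker F.law))).comap
        (algebraMap k (B ⧸ PolLaw.ker F.law)) ≠ ⊤ := by
      intro h
      exact hP'.ne_top (Ideal.comap_eq_top_iff.mp h)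
    rw [(Ideal.eq_bot_or_top _).resolve_right hne]
    exact Ideal.bot_isMaximal
  have hcm : (P.map (Ideal.Quotient.mk (PolLaw.ker F.law))).comap
      (Ideal.Quotient.mk (PolLaw.ker F.law)) = P := by
    rw [Ideal.comap_map_of_surjective _ Ideal.Quotient.mk_surjective]
    exact sup_eq_left.mpr (by rwa [← RingHom.ker_eq_comap_bot])
  rw [← hcm]
  exact Ideal.comap_isMaximal_of_surjective _ Ideal.Quotient.mk_surjective

include hg in
theorem exists_eq_ker (P : Ideal B) [hP : P.IsPrime] (hle : PolLaw.ker F.law ≤ P) :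
    ∃ i, P = RingHom.ker (g i) := by
  rw [ker_eq_iInf F K g hg, ← Finset.inf_univ_eq_iInf, hP.inf_le'] at hle
  obtain ⟨i, -, hi⟩ := hle
  refine ⟨i, ?_⟩
  haveI : (RingHom.ker (g i)).IsPrime := RingHom.ker_isPrime (g i)
  have hmax : (RingHom.ker (g i)).IsMaximal := by
    apply isMaximal_of_ker_le F
    rw [ker_eq_iInf F K g hg]
    exact iInf_le _ i
  exact (hmax.eq_of_le hP.ne_top hi).symm

/-- at most `d` primes contain `ker F`. -/
theorem exists_injective_fin :
    ∃ f : {P : Ideal B // P.IsPrime ∧ PolLaw.ker F.law ≤ P} → Fin d, Function.Injective f := by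
  obtain ⟨K, _, _, g, hg⟩ := exists_points F
  have h : ∀ P : {P : Ideal B // P.IsPrime ∧ PolLaw.ker F.law ≤ P},
      ∃ i, P.1 = RingHom.ker (g i) := fun P => by
    haveI := P.2.1
    exact exists_eq_ker F K g hg P.1 P.2.2
  choose f hf using h
  refine ⟨f, fun P P' hPP' => Subtype.ext ?_⟩
  rw [hf P, hf P', hPP']

end field

end Groth.Agent.Lib.Helper24.KerField
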