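import Mathlib
import Groth.Prelude.Def_PolLaw
import Groth.Agent.Lib.Helper20.PolLawKer
import Groth.Agent.Lib.Helper24.KerBC

/-!
# The kernel of a law after base change to a polynomial ring (helper24)

`kerBC_mvPolynomial_le`: for `S = A[s₁, …, sₙ]`, `kerBC F S` is the extension of `ker F`
(Vandermonde argument over `A[c]/(Δ(c) c - 1)`, which has an `A`-linear retraction).
-/

set_option autoImplicit false

namespace Groth.Agent.Lib.Helper24.KerVL

open scoped TensorProduct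
open Groth.Agent.Lib.Helper20.PolLawKer Groth.Agent.Lib.Helper24.KerBC

universe u

variable {A : Type u} [CommRing A] {B : Type u} [CommRing B] [Algebra A B]

/-- descent of kernel membership along an algebra with an `A`-linear retraction. -/
theorem mem_ker_of_one_tmul_mem (F : B →ₚₗ[A] A) (R' : Type u) [CommRing R'] [Algebra A R']
    (ρ : R' →ₗ[A] A) (hρ : ρ 1 = 1) (b : B) (hb : (1 : R') ⊗ₜ[A] b ∈ PolLaw.kerBC F R') :
    b ∈ PolLaw.ker F := by
  rw [mem_ker_iff]
  intro S _ _ x w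
  rw [mem_kerBC_iff] at hb
  have h := hb (R' ⊗[A] S)
    (Algebra.TensorProduct.map (Algebra.TensorProduct.includeRight : S →ₐ[A] R' ⊗[A] S)
      (AlgHom.id A B) x)
    (Algebra.TensorProduct.map (Algebra.TensorProduct.includeRight : S →ₐ[A] R' ⊗[A] S)
      (AlgHom.id A B) w)
  have e : Algebra.TensorProduct.map (IsScalarTower.toAlgHom A R' (R' ⊗[A] S)) (AlgHom.id A B)
      ((1 : R') ⊗ₜ[A] b) =
      Algebra.TensorProduct.map (Algebra.TensorProduct.includeRight : S →ₐ[A] R' ⊗[A] S)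
        (AlgHom.id A B) ((1 : S) ⊗ₜ[A] b) := by
    rw [Algebra.TensorProduct.map_tmul, Algebra.TensorProduct.map_tmul, map_one, map_one]
  rw [e, ← map_mul, ← map_add, ← rTensor_eq_map, ← rTensor_eq_map,
    ← PolynomialLaw.isCompat_apply', ← PolynomialLaw.isCompat_apply'] at h
  have hr : ((TensorProduct.lid A S).toLinearMap ∘ₗ ρ.rTensor S) ∘ₗ
      (Algebra.TensorProduct.includeRight : S →ₐ[A] R' ⊗[A] S).toLinearMap = LinearMap.id := by
    ext s
    simp [hρ]
  have h2 := congrArg (((TensorProduct.lid A S).toLinearMap ∘ₗ ρ.rTensor S).rTensor A) h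
  rw [← LinearMap.rTensor_comp_apply, ← LinearMap.rTensor_comp_apply, hr,
    LinearMap.rTensor_id_apply, LinearMap.rTensor_id_apply] at h2
  exact h2

section vdm

variable (A) in
/-- the Vandermonde determinant of `1, X, …, X^N`. -/
noncomputable def Δ (N : ℕ) : Polynomial A :=
  (Matrix.vandermonde (fun i : Fin (N + 1) => (Polynomial.X : Polynomial A) ^ (i : ℕ))).det

lemma Δ_monic (N : ℕ) : (Δ A N).Monic := by
  unfold Δ
  rw [Matrix.det_vandermonde]
  refine Polynomial.monic_prod_of_monic _ _ fun i _ =>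
    Polynomial.monic_prod_of_monic _ _ fun j hj => ?_
  rw [Finset.mem_Ioi] at hj
  refine Polynomial.monic_X_pow_sub ?_
  refine lt_of_le_of_lt (Polynomial.degree_X_pow_le _) ?_
  exact_mod_cast hj

variable (A) in
/-- `Δ X - 1`. -/
noncomputable def gpoly (N : ℕ) : Polynomial A := Δ A N * Polynomial.X - 1

lemma natDegree_Δ_mul_X [Nontrivial A] (N : ℕ) :
    (Δ A N * Polynomial.X).natDegree = (Δ A N).natDegree + 1 := by
  rw [(Δ_monic N).natDegree_mul Polynomial.monic_X, Polynomial.natDegree_X]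

lemma gpoly_natDegree [Nontrivial A] (N : ℕ) :
    (gpoly A N).natDegree = (Δ A N).natDegree + 1 := by
  unfold gpoly
  rw [Polynomial.natDegree_sub_eq_left_of_natDegree_lt, natDegree_Δ_mul_X]
  rw [natDegree_Δ_mul_X, Polynomial.natDegree_one]
  omega

lemma gpoly_monic [Nontrivial A] (N : ℕ) : (gpoly A N).Monic := by
  unfold gpoly
  apply Polynomial.Monic.sub_of_left ((Δ_monic N).mul Polynomial.monic_X)
  apply Polynomial.degree_lt_degree
  rw [Polynomial.natDegree_one, natDegree_Δ_mul_X]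
  omega

lemma aeval_Δ_mul_root (N : ℕ) :
    Polynomial.aeval (AdjoinRoot.root (gpoly A N)) (Δ A N) * AdjoinRoot.root (gpoly A N) = 1 := by
  have h : Polynomial.aeval (AdjoinRoot.root (gpoly A N)) (Δ A N * Polynomial.X - 1) = 0 := by
    rw [AdjoinRoot.aeval_eq]
    exact AdjoinRoot.mk_self (f := gpoly A N)
  rw [map_sub, map_mul, Polynomial.aeval_X, map_one, sub_eq_zero] at h
  exact h

variable (A) in
/-- the Vandermonde matrix of `1, ζ, …, ζ^N` over `A[ζ] = A[X]/(Δ X - 1)`. -/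
noncomputable def V (N : ℕ) : Matrix (Fin (N + 1)) (Fin (N + 1)) (AdjoinRoot (gpoly A N)) :=
  Matrix.vandermonde (fun i : Fin (N + 1) => AdjoinRoot.root (gpoly A N) ^ (i : ℕ))

lemma det_V (N : ℕ) :
    (V A N).det = Polynomial.aeval (AdjoinRoot.root (gpoly A N)) (Δ A N) := by
  have h := RingHom.map_det
    ((Polynomial.aeval (AdjoinRoot.root (gpoly A N)) :
      Polynomial A →ₐ[A] AdjoinRoot (gpoly A N)) : Polynomial A →+* AdjoinRoot (gpoly A N))
    (Matrix.vandermonde (fun i : Fin (N + 1) => (Polynomial.X : Polynomial A) ^ (i : ℕ)))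
  have h2 : (((Polynomial.aeval (AdjoinRoot.root (gpoly A N)) :
      Polynomial A →ₐ[A] AdjoinRoot (gpoly A N)) : Polynomial A →+* AdjoinRoot (gpoly A N)).mapMatrix
      (Matrix.vandermonde (fun i : Fin (N + 1) => (Polynomial.X : Polynomial A) ^ (i : ℕ)))) =
      V A N := by
    ext i j
    simp [V, Matrix.vandermonde_apply]
  rw [h2] at h
  rw [← h]
  rfl

lemma isUnit_det_V (N : ℕ) : IsUnit (V A N).det :=
  IsUnit.of_mul_eq_one _ (by rw [det_V]; exact aeval_Δ_mul_root N)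

lemma exists_retraction [Nontrivial A] (N : ℕ) :
    ∃ ρ : AdjoinRoot (gpoly A N) →ₗ[A] A, ρ 1 = 1 := by
  have hdim : 0 < (AdjoinRoot.powerBasis' (gpoly_monic (A := A) N)).dim := by
    show 0 < (gpoly A N).natDegree
    rw [gpoly_natDegree]
    omega
  refine ⟨(AdjoinRoot.powerBasis' (gpoly_monic (A := A) N)).basis.coord ⟨0, hdim⟩, ?_⟩
  have h1 : (1 : AdjoinRoot (gpoly A N)) =
      (AdjoinRoot.powerBasis' (gpoly_monic (A := A) N)).basis ⟨0, hdim⟩ := by
    rw [PowerBasis.basis_eq_pow]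
    simp
  rw [h1, Module.Basis.coord_apply, Module.Basis.repr_self, Finsupp.single_eq_same]

end vdm

/-- Vandermonde lemma: the coefficients of an element of `kerBC F A[s]` lie in `ker F`. -/
theorem VL (F : B →ₚₗ[A] A) (n : ℕ) (c : (Fin n →₀ ℕ) →₀ B)
    (hz : (c.sum fun κ v => (MvPolynomial.basisMonomials (Fin n) A κ) ⊗ₜ[A] v) ∈
      PolLaw.kerBC F (MvPolynomial (Fin n) A)) :
    ∀ κ, c κ ∈ PolLaw.ker F := by
  classical
  rcases subsingleton_or_nontrivial A with hA | hA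
  · intro κ
    haveI : Subsingleton B := Module.subsingleton A B
    rw [Subsingleton.elim (c κ) 0]
    exact zero_mem _
  intro κ₀
  by_cases hκ₀ : κ₀ ∈ c.support
  swap
  · rw [Finsupp.notMem_support_iff.mp hκ₀]
    exact zero_mem _
  obtain ⟨N, hN⟩ : ∃ N : ℕ, N = c.support.sup (fun κ => Finset.univ.sup (fun j => κ j)) :=
    ⟨_, rfl⟩
  have hbound : ∀ κ ∈ c.support, ∀ j, κ j ≤ N := fun κ hκ j => by
    rw [hN]
    exact (Finset.le_sup (f := fun j => κ j) (Finset.mem_univ j)).trans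
      (Finset.le_sup (f := fun κ : Fin n →₀ ℕ => Finset.univ.sup (fun j => κ j)) hκ)
  obtain ⟨ρ, hρ⟩ := exists_retraction (A := A) N
  apply mem_ker_of_one_tmul_mem F (AdjoinRoot (gpoly A N)) ρ hρ
  have hhat : ∀ κ ∈ c.support, ∀ j, ((Fin.ofNat (N + 1) (κ j) : Fin (N + 1)) : ℕ) = κ j :=
    fun κ hκ j => by
      rw [Fin.val_ofNat]
      exact Nat.mod_eq_of_lt (Nat.lt_succ_of_le (hbound κ hκ j))
  have hθ : ∀ (i : Fin n → Fin (N + 1)), ∀ κ ∈ c.support,
      (MvPolynomial.aeval (fun j => AdjoinRoot.root (gpoly A N) ^ ((i j : Fin (N + 1)) : ℕ)) :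
        MvPolynomial (Fin n) A →ₐ[A] AdjoinRoot (gpoly A N))
        (MvPolynomial.basisMonomials (Fin n) A κ) =
      ∏ j, V A N (i j) (Fin.ofNat (N + 1) (κ j)) := by
    intro i κ hκ
    rw [MvPolynomial.coe_basisMonomials, MvPolynomial.aeval_monomial, map_one, one_mul,
      Finsupp.prod_fintype _ _ (fun j => pow_zero _)]
    refine Finset.prod_congr rfl fun j _ => ?_
    unfold V
    rw [Matrix.vandermonde_apply, hhat κ hκ j]
  have hWV : (V A N)⁻¹ * V A N = 1 := Matrix.nonsing_inv_mul _ (isUnit_det_V N)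
  have hentry : ∀ a a' : Fin (N + 1), ∑ l, (V A N)⁻¹ a l * V A N l a' =
      if a = a' then 1 else 0 := fun a a' => by
    have h := congrFun (congrFun hWV a) a'
    rw [Matrix.mul_apply, Matrix.one_apply] at h
    exact h
  have hsum : ∀ κ ∈ c.support,
      ∑ i : Fin n → Fin (N + 1), (∏ j, (V A N)⁻¹ (Fin.ofNat (N + 1) (κ₀ j)) (i j)) *
        (MvPolynomial.aeval (fun j => AdjoinRoot.root (gpoly A N) ^ ((i j : Fin (N + 1)) : ℕ)) :
          MvPolynomial (Fin n) A →ₐ[A] AdjoinRoot (gpoly A N))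
          (MvPolynomial.basisMonomials (Fin n) A κ) = if κ = κ₀ then 1 else 0 := by
    intro κ hκ
    have h1 : ∀ i : Fin n → Fin (N + 1), (∏ j, (V A N)⁻¹ (Fin.ofNat (N + 1) (κ₀ j)) (i j)) *
        (MvPolynomial.aeval (fun j => AdjoinRoot.root (gpoly A N) ^ ((i j : Fin (N + 1)) : ℕ)) :
          MvPolynomial (Fin n) A →ₐ[A] AdjoinRoot (gpoly A N))
          (MvPolynomial.basisMonomials (Fin n) A κ) =
        ∏ j, ((V A N)⁻¹ (Fin.ofNat (N + 1) (κ₀ j)) (i j) *
          V A N (i j) (Fin.ofNat (N + 1) (κ j))) := fun i => by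
      rw [hθ i κ hκ, Finset.prod_mul_distrib]
    rw [Finset.sum_congr rfl (fun i _ => h1 i), ← Fintype.piFinset_univ,
      ← Finset.prod_univ_sum (fun _ => Finset.univ)
        (fun j l => (V A N)⁻¹ (Fin.ofNat (N + 1) (κ₀ j)) l *
          V A N l (Fin.ofNat (N + 1) (κ j)))]
    rw [Finset.prod_congr rfl (fun j _ => hentry _ _), Fintype.prod_boole]
    by_cases hκκ : κ = κ₀
    · subst hκκ
      rw [if_pos (fun j => rfl), if_pos rfl]
    · rw [if_neg hκκ, if_neg]
      intro h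
      apply hκκ
      ext j
      have h' := congrArg Fin.val (h j)
      rw [hhat κ₀ hκ₀ j, hhat κ hκ j] at h'
      exact h'.symm
  have hy : ∑ i : Fin n → Fin (N + 1),
      ((∏ j, (V A N)⁻¹ (Fin.ofNat (N + 1) (κ₀ j)) (i j)) ⊗ₜ[A] (1 : B)) *
        Algebra.TensorProduct.map
          (MvPolynomial.aeval (fun j => AdjoinRoot.root (gpoly A N) ^ ((i j : Fin (N + 1)) : ℕ)) :
            MvPolynomial (Fin n) A →ₐ[A] AdjoinRoot (gpoly A N)) (AlgHom.id A B)
          (c.sum fun κ v => (MvPolynomial.basisMonomials (Fin n) A κ) ⊗ₜ[A] v) =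
      (1 : AdjoinRoot (gpoly A N)) ⊗ₜ[A] c κ₀ := by
    have hz' : ∀ i : Fin n → Fin (N + 1),
        ((∏ j, (V A N)⁻¹ (Fin.ofNat (N + 1) (κ₀ j)) (i j)) ⊗ₜ[A] (1 : B)) *
        Algebra.TensorProduct.map
          (MvPolynomial.aeval (fun j => AdjoinRoot.root (gpoly A N) ^ ((i j : Fin (N + 1)) : ℕ)) :
            MvPolynomial (Fin n) A →ₐ[A] AdjoinRoot (gpoly A N)) (AlgHom.id A B)
          (c.sum fun κ v => (MvPolynomial.basisMonomials (Fin n) A κ) ⊗ₜ[A] v) =
        ∑ κ ∈ c.support, ((∏ j, (V A N)⁻¹ (Fin.ofNat (N + 1) (κ₀ j)) (i j)) *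
          (MvPolynomial.aeval (fun j => AdjoinRoot.root (gpoly A N) ^ ((i j : Fin (N + 1)) : ℕ)) :
            MvPolynomial (Fin n) A →ₐ[A] AdjoinRoot (gpoly A N))
            (MvPolynomial.basisMonomials (Fin n) A κ)) ⊗ₜ[A] c κ := fun i => by
      rw [Finsupp.sum, map_sum, Finset.mul_sum]
      refine Finset.sum_congr rfl fun κ _ => ?_
      rw [Algebra.TensorProduct.map_tmul, AlgHom.id_apply, Algebra.TensorProduct.tmul_mul_tmul,
        one_mul]
    rw [Finset.sum_congr rfl (fun i _ => hz' i), Finset.sum_comm]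
    have h3 : ∀ κ ∈ c.support, ∑ i : Fin n → Fin (N + 1),
        ((∏ j, (V A N)⁻¹ (Fin.ofNat (N + 1) (κ₀ j)) (i j)) *
          (MvPolynomial.aeval (fun j => AdjoinRoot.root (gpoly A N) ^ ((i j : Fin (N + 1)) : ℕ)) :
            MvPolynomial (Fin n) A →ₐ[A] AdjoinRoot (gpoly A N))
            (MvPolynomial.basisMonomials (Fin n) A κ)) ⊗ₜ[A] c κ =
        (if κ = κ₀ then (1 : AdjoinRoot (gpoly A N)) else 0) ⊗ₜ[A] c κ := fun κ hκ => by
      rw [← TensorProduct.sum_tmul, hsum κ hκ]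
    rw [Finset.sum_congr rfl h3, Finset.sum_eq_single κ₀]
    · rw [if_pos rfl]
    · intro κ _ hne
      rw [if_neg hne, TensorProduct.zero_tmul]
    · intro h
      exact absurd hκ₀ h
  rw [← hy]
  exact Ideal.sum_mem _ fun i _ => Ideal.mul_mem_left _ _ (map_mem_kerBC F _ hz)

/-- over a polynomial ring, the kernel of the base change is the extension of the kernel. -/
theorem kerBC_mvPolynomial_le (F : B →ₚₗ[A] A) (n : ℕ) :
    PolLaw.kerBC F (MvPolynomial (Fin n) A) ≤ (PolLaw.ker F).map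
      (Algebra.TensorProduct.includeRight : B →ₐ[A] MvPolynomial (Fin n) A ⊗[A] B) := by
  intro z hz
  obtain ⟨c, hc⟩ := TensorProduct.eq_repr_basis_left (MvPolynomial.basisMonomials (Fin n) A) z
  rw [← hc] at hz ⊢
  have h := VL F n c hz
  rw [Finsupp.sum]
  refine Ideal.sum_mem _ fun κ _ => ?_
  have e : (MvPolynomial.basisMonomials (Fin n) A κ) ⊗ₜ[A] c κ =
      ((MvPolynomial.basisMonomials (Fin n) A κ) ⊗ₜ[A] (1 : B)) *
        (Algebra.TensorProduct.includeRight : B →ₐ[A] MvPolynomial (Fin n) A ⊗[A] B) (c κ) := by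
    rw [Algebra.TensorProduct.includeRight_apply, Algebra.TensorProduct.tmul_mul_tmul, mul_one,
      one_mul]
  rw [e]
  exact Ideal.mul_mem_left _ _ (Ideal.mem_map_of_mem _ (h κ))

end Groth.Agent.Lib.Helper24.KerVL
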