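import Mathlib
import Groth.Prelude.Def_PolLaw
import Groth.Agent.Lib.Helper20.PolLawKer
import Groth.Agent.Lib.Helper24.GamDesc
import Groth.Agent.Lib.Helper24.GamCH
import Groth.Agent.Lib.Helper24.KerBC
import Groth.Agent.Lib.Helper24.KerVL

/-!
# The support of a family of zero-cycles commutes with base change (helper24)

* `generic_CH`, `CH_mem_map`: the Cayley–Hamilton element of any point `x ∈ k ⊗[A] B` lies in the
  extension of `ker F` to `k ⊗[A] B`.
* `radical_kerBC` (S13697): `kerBC F A'` and the extension of `ker F` have the same radical.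
-/

set_option autoImplicit false

namespace Groth.Agent.Lib.Helper24.KerRad

open scoped TensorProduct
open Groth.Agent.Lib.Helper20.PolLawKer Groth.Agent.Lib.Helper24.GamDesc
  Groth.Agent.Lib.Helper24.GamCH Groth.Agent.Lib.Helper24.KerBC Groth.Agent.Lib.Helper24.KerVL

universe u

variable {A : Type u} [CommRing A] {B : Type u} [CommRing B] [Algebra A B] {d : ℕ}
  (F : PolLaw.MulLaw A B A d)

/-- generic Cayley–Hamilton. -/
theorem generic_CH (n : ℕ) (b : Fin n → B) :
    Polynomial.aeval (∑ j, (MvPolynomial.X j : MvPolynomial (Fin n) A) ⊗ₜ[A] b j)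
      (charP (bc (MvPolynomial (Fin n) A) F)
        (∑ j, (MvPolynomial.X j : MvPolynomial (Fin n) A) ⊗ₜ[A] b j)) ∈
    (PolLaw.ker F.law).map
      (Algebra.TensorProduct.includeRight : B →ₐ[A] MvPolynomial (Fin n) A ⊗[A] B) := by
  apply kerBC_mvPolynomial_le F.law n
  rw [← ker_bc]
  exact CH (bc (MvPolynomial (Fin n) A) F) _

/-- the Cayley–Hamilton element of any point lies in the extension of `ker F`. -/
theorem CH_mem_map (k : Type u) [CommRing k] [Algebra A k] (x : k ⊗[A] B) :
    Polynomial.aeval x (charP (bc k F) x) ∈ (PolLaw.ker F.law).map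
      (Algebra.TensorProduct.includeRight : B →ₐ[A] k ⊗[A] B) := by
  obtain ⟨n, a, b, rfl⟩ := exists_fin_sum x
  have hx : Algebra.TensorProduct.map (MvPolynomial.aeval a : MvPolynomial (Fin n) A →ₐ[A] k)
      (AlgHom.id A B) (∑ j, (MvPolynomial.X j : MvPolynomial (Fin n) A) ⊗ₜ[A] b j) =
      ∑ j, a j ⊗ₜ[A] b j := by
    rw [map_sum]
    refine Finset.sum_congr rfl fun j _ => ?_
    rw [Algebra.TensorProduct.map_tmul, MvPolynomial.aeval_X, AlgHom.id_apply]
  have hle : (PolLaw.ker F.law).map
      (Algebra.TensorProduct.includeRight : B →ₐ[A] MvPolynomial (Fin n) A ⊗[A] B) ≤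
      ((PolLaw.ker F.law).map
        (Algebra.TensorProduct.includeRight : B →ₐ[A] k ⊗[A] B)).comap
        (Algebra.TensorProduct.map (MvPolynomial.aeval a : MvPolynomial (Fin n) A →ₐ[A] k)
          (AlgHom.id A B)) := by
    rw [Ideal.map_le_iff_le_comap]
    intro b₀ hb₀
    rw [Ideal.mem_comap, Ideal.mem_comap]
    have e : Algebra.TensorProduct.map (MvPolynomial.aeval a : MvPolynomial (Fin n) A →ₐ[A] k)
        (AlgHom.id A B)
        ((Algebra.TensorProduct.includeRight : B →ₐ[A] MvPolynomial (Fin n) A ⊗[A] B) b₀) =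
        (Algebra.TensorProduct.includeRight : B →ₐ[A] k ⊗[A] B) b₀ := by
      rw [Algebra.TensorProduct.includeRight_apply, Algebra.TensorProduct.map_tmul, map_one,
        AlgHom.id_apply, Algebra.TensorProduct.includeRight_apply]
    rw [e]
    exact Ideal.mem_map_of_mem _ hb₀
  have h2 := hle (generic_CH F n b)
  rw [Ideal.mem_comap, map_aeval, ← charP_bc_map, hx] at h2
  exact h2

/-- S13697. -/
theorem radical_kerBC (A' : Type u) [CommRing A'] [Algebra A A'] :
    (PolLaw.kerBC F.law A').radical =
      ((PolLaw.ker F.law).map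
        (Algebra.TensorProduct.includeRight : B →ₐ[A] A' ⊗[A] B)).radical := by
  apply le_antisymm
  · rw [Ideal.radical_le_radical_iff, ← ker_bc]
    refine (CH_ideal (bc A' F) (charP (bc A' F)) (fun b => rfl)).2.trans ?_
    apply Ideal.radical_mono
    rw [Ideal.span_le]
    rintro _ ⟨b', rfl⟩
    exact CH_mem_map F A' b'
  · exact Ideal.radical_mono (map_ker_le F.law A')

end Groth.Agent.Lib.Helper24.KerRad
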