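import Mathlib
import Groth.Prelude.Def_PolLaw
import Groth.Agent.Lib.Helper20.PolLawKer
import Groth.Agent.Lib.Helper24.GamCH
import Groth.Agent.Lib.Helper24.GamCH2
import Groth.Agent.Lib.Helper24.KerBC
import Groth.Agent.Lib.Helper24.KerRad
import Groth.Agent.Lib.Helper24.KerField

/-!
# Exact Cayley–Hamilton for laws on unramified algebras whose kernel is nil (helper24)

For an unramified (essentially finite type) `A`-algebra `B` with diagonal idempotent `e ∈ B ⊗ B`
and a multiplicative law `F : B → A` of degree `d` with `ker F ⊆ nilradical B`: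

* `law_one_sub_ee : F_B (1 - e) = 0`;
* `CH_exact : χ_F(b)(b) = 0` for every `b : B`;
* `ker_bc_le_nilradical`: the kernel hypothesis is stable under base change;
* `charP_bc_eval_zero`: the constant term of the characteristic polynomial of `bc S F`.
-/

set_option autoImplicit false
set_option maxHeartbeats 400000
set_option linter.style.haveILetI false
set_option linter.unusedSectionVars false

namespace Groth.Agent.Lib.Helper24.EtNormA

open scoped TensorProduct
open Groth.Agent.Lib.Helper20.PolLawKer Groth.Agent.Lib.Helper24.GamCH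
  Groth.Agent.Lib.Helper24.KerBC

universe u

section elem

variable (A : Type u) [CommRing A] (B : Type u) [CommRing B] [Algebra A B]
  [Algebra.FormallyUnramified A B] [Algebra.EssFiniteType A B]

/-- the diagonal idempotent. -/
noncomputable def ee : B ⊗[A] B := Algebra.FormallyUnramified.elem A B

lemma mul_ee (y : B ⊗[A] B) :
    y * ee A B = (Algebra.TensorProduct.lmul' A y ⊗ₜ[A] (1 : B)) * ee A B := by
  induction y using TensorProduct.induction_on with
  | zero => simp
  | tmul b b' =>
    rw [Algebra.TensorProduct.lmul'_apply_tmul]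
    calc b ⊗ₜ[A] b' * ee A B
        = (b ⊗ₜ[A] (1 : B)) * (((1 : B) ⊗ₜ[A] b') * ee A B) := by
          rw [← mul_assoc, Algebra.TensorProduct.tmul_mul_tmul, mul_one, one_mul]
      _ = (b ⊗ₜ[A] (1 : B)) * ((b' ⊗ₜ[A] (1 : B)) * ee A B) := by
          rw [ee, Algebra.FormallyUnramified.one_tmul_mul_elem]
      _ = ((b * b') ⊗ₜ[A] (1 : B)) * ee A B := by
          rw [← mul_assoc, Algebra.TensorProduct.tmul_mul_tmul, mul_one]
  | add y y' hy hy' => rw [add_mul, hy, hy', map_add, TensorProduct.add_tmul, add_mul]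

lemma lmul_ee : Algebra.TensorProduct.lmul' A (ee A B) = 1 :=
  Algebra.FormallyUnramified.lmul_elem

lemma ee_mul_ee : ee A B * ee A B = ee A B := by
  rw [mul_ee, lmul_ee, ← Algebra.TensorProduct.one_def, one_mul]

lemma sub_mul_ee (b : B) : ((1 : B) ⊗ₜ[A] b - b ⊗ₜ[A] (1 : B)) * ee A B = 0 :=
  Algebra.FormallyUnramified.one_tmul_sub_tmul_one_mul_elem b

lemma one_sub_ee_idem : (1 - ee A B) * (1 - ee A B) = 1 - ee A B := by
  have h := ee_mul_ee A B
  calc (1 - ee A B) * (1 - ee A B) = 1 - ee A B - ee A B + ee A B * ee A B := by ring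
    _ = 1 - ee A B := by rw [h]; ring

end elem

section general

variable {A : Type u} [CommRing A]

lemma rid_eq' {S : Type u} [CommRing S] [Algebra A S] (u : S ⊗[A] A) :
    TensorProduct.rid A S u = Algebra.TensorProduct.rid A S S u := by
  induction u using TensorProduct.induction_on with
  | zero => simp
  | tmul s a => rw [TensorProduct.rid_tmul, Algebra.TensorProduct.rid_tmul]
  | add x y hx hy => rw [map_add, map_add, hx, hy]

variable {B : Type u} [CommRing B] [Algebra A B] {d : ℕ}

lemma map_le_nilradical {J : Ideal B} (hJ : J ≤ nilradical B) (S : Type u) [CommRing S]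
    [Algebra A S] :
    J.map (Algebra.TensorProduct.includeRight : B →ₐ[A] S ⊗[A] B) ≤ nilradical (S ⊗[A] B) := by
  rw [Ideal.map_le_iff_le_comap]
  intro b hb
  have hb' : IsNilpotent b := mem_nilradical.mp (hJ hb)
  rw [Ideal.mem_comap]
  exact mem_nilradical.mpr (hb'.map _)

/-- the kernel hypothesis is stable under base change. -/
theorem ker_bc_le_nilradical (F : PolLaw.MulLaw A B A d) (hF : PolLaw.ker F.law ≤ nilradical B)
    (S : Type u) [CommRing S] [Algebra A S] :
    PolLaw.ker (bc S F).law ≤ nilradical (S ⊗[A] B) := by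
  rw [ker_bc]
  intro y hy
  have hrad : y ∈ (PolLaw.kerBC F.law S).radical := Ideal.le_radical hy
  rw [Groth.Agent.Lib.Helper24.KerRad.radical_kerBC] at hrad
  obtain ⟨n, hn⟩ := hrad
  exact mem_nilradical.mpr (IsNilpotent.of_pow (mem_nilradical.mp (map_le_nilradical hF S hn)))

/-- the constant term of the characteristic polynomial of `bc S G`. -/
lemma charP_bc_eval_zero (G : PolLaw.MulLaw A B A d) (S : Type u) [CommRing S] [Algebra A S]
    (x : S ⊗[A] B) :
    (charP (bc S G) x).eval 0 = TensorProduct.rid A S (G.law.toFun' S x) := by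
  have hid : (ev (A := A) (0 : S)).comp (IsScalarTower.toAlgHom A S (Polynomial S)) =
      AlgHom.id A S := by
    apply AlgHom.ext
    intro s
    rw [AlgHom.comp_apply, ev_apply, IsScalarTower.toAlgHom_apply, Polynomial.algebraMap_apply,
      Polynomial.eval_C]
    rfl
  rw [charP_bc, eval_rid, map_sub, map_map_apply, Algebra.TensorProduct.map_tmul, ev_apply,
    Polynomial.eval_X, TensorProduct.zero_tmul, sub_zero, hid, map_id_apply']

end general

section field

variable {A : Type u} [CommRing A] {B : Type u} [CommRing B] [Algebra A B]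
  [Algebra.FormallyUnramified A B] [Algebra.EssFiniteType A B] {d : ℕ}
  (F : PolLaw.MulLaw A B A d) (hF : PolLaw.ker F.law ≤ nilradical B)

include hF in
/-- the value `F_K(1 - e_K)` vanishes for every field-valued point of `B`. -/
theorem law_one_sub_ee_field (K : Type u) [Field K] [Algebra A K] (φ : B →ₐ[A] K) :
    F.law.toFun' K (Algebra.TensorProduct.map φ (AlgHom.id A B) (1 - ee A B)) = 0 := by
  classical
  obtain ⟨eK, heK⟩ : ∃ eK : K ⊗[A] B,
      eK = Algebra.TensorProduct.map φ (AlgHom.id A B) (ee A B) := ⟨_, rfl⟩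
  have hidem : eK * eK = eK := by rw [heK, ← map_mul, ee_mul_ee]
  obtain ⟨μ, hμdef⟩ : ∃ μ : K ⊗[A] B →ₐ[A] K,
      μ = Algebra.TensorProduct.productMap (AlgHom.id A K) φ := ⟨_, rfl⟩
  have hμ : μ eK = 1 := by
    have h1 : ∀ y : B ⊗[A] B, μ (Algebra.TensorProduct.map φ (AlgHom.id A B) y) =
        φ (Algebra.TensorProduct.lmul' A y) := by
      intro y
      induction y using TensorProduct.induction_on with
      | zero => simp
      | tmul b b' =>
        rw [Algebra.TensorProduct.map_tmul, hμdef, Algebra.TensorProduct.productMap_apply_tmul,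
          Algebra.TensorProduct.lmul'_apply_tmul, AlgHom.id_apply, AlgHom.id_apply, map_mul]
      | add y y' hy hy' => rw [map_add, map_add, hy, hy', map_add, map_add]
    rw [heK, h1, lmul_ee, map_one]
  have hnil : ¬ IsNilpotent eK := by
    intro h
    have h2 := h.map μ
    rw [hμ] at h2
    exact one_ne_zero h2.eq_zero
  obtain ⟨K', _, _, g, hg⟩ := Groth.Agent.Lib.Helper24.KerField.exists_points (bc K F)
  have hker := Groth.Agent.Lib.Helper24.KerField.ker_eq_iInf (bc K F) K' g hg
  have hex : ∃ i, g i eK = 1 := by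
    by_contra hcon
    simp only [not_exists] at hcon
    have h0 : ∀ i, g i eK = 0 := by
      intro i
      have hi : g i eK * g i eK = g i eK := by rw [← map_mul, hidem]
      have h3 : g i eK * (g i eK - 1) = 0 := by rw [mul_sub, hi, mul_one, sub_self]
      rcases mul_eq_zero.mp h3 with h | h
      · exact h
      · exact absurd (sub_eq_zero.mp h) (hcon i)
    have hmem : eK ∈ PolLaw.ker (bc K F).law := by
      rw [hker, Ideal.mem_iInf]
      intro i
      exact RingHom.mem_ker.mpr (h0 i)
    exact hnil (mem_nilradical.mp (ker_bc_le_nilradical F hF K hmem))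
  obtain ⟨i, hi⟩ := hex
  have hval := hg K ((1 : K) ⊗ₜ[K] ((1 : K ⊗[A] B) - eK))
  have hprod : ∏ j, (g j).toLinearMap.lTensor K ((1 : K) ⊗ₜ[K] ((1 : K ⊗[A] B) - eK)) = 0 := by
    apply Finset.prod_eq_zero (Finset.mem_univ i)
    rw [LinearMap.lTensor_tmul, AlgHom.toLinearMap_apply, map_sub, map_one, hi, sub_self,
      TensorProduct.tmul_zero]
  rw [hprod] at hval
  obtain ⟨ρ, hρ⟩ := LinearMap.exists_leftInverse_of_injective (Algebra.ofId K K').toLinearMap
    (LinearMap.ker_eq_bot.mpr (algebraMap K K').injective)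
  have hinj : Function.Injective ((Algebra.ofId K K').toLinearMap.lTensor K) := by
    apply Function.LeftInverse.injective (g := ρ.lTensor K)
    intro u
    rw [← LinearMap.lTensor_comp_apply, hρ, LinearMap.lTensor_id_apply]
  have hz : (bc K F).law.toFun' K ((1 : K) ⊗ₜ[K] ((1 : K ⊗[A] B) - eK)) = 0 := by
    apply hinj
    rw [hval, map_zero]
  have hid : IsScalarTower.toAlgHom A K K = AlgHom.id A K := AlgHom.ext fun x => rfl
  rw [bc_apply, cancel_one_tmul, hid, map_id_apply'] at hz
  have h1 := (Algebra.TensorProduct.rid K K K).symm.injective (hz.trans (map_zero _).symm)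
  have h2 := (TensorProduct.rid A K).injective (h1.trans (map_zero _).symm)
  rw [map_sub, map_one, ← heK]
  exact h2

include hF in
theorem map_z_eq_zero (K : Type u) [Field K] (ψ : B →+* K) :
    ψ (TensorProduct.rid A B (F.law.toFun' B (1 - ee A B))) = 0 := by
  letI : Algebra A K := (ψ.comp (algebraMap A B)).toAlgebra
  obtain ⟨φ, hφ⟩ : ∃ φ : B →ₐ[A] K, ∀ b, φ b = ψ b :=
    ⟨{ toRingHom := ψ, commutes' := fun a => rfl }, fun b => rfl⟩
  have h := law_one_sub_ee_field F hF K φ
  have hc := PolynomialLaw.isCompat_apply' (f := F.law) φ (1 - ee A B)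
  rw [rTensor_eq_map B φ, h] at hc
  have h3 := rid_rTensor φ (F.law.toFun' B (1 - ee A B))
  rw [hc, map_zero] at h3
  rw [← hφ]
  exact h3.symm

include hF in
/-- `F_B(1 - e) = 0`. -/
theorem law_one_sub_ee : F.law.toFun' B (1 - ee A B) = 0 := by
  obtain ⟨z, hz⟩ : ∃ z : B, z = TensorProduct.rid A B (F.law.toFun' B (1 - ee A B)) := ⟨_, rfl⟩
  have hzz : z * z = z := by
    have h1 : F.law.toFun' B (1 - ee A B) * F.law.toFun' B (1 - ee A B) =
        F.law.toFun' B (1 - ee A B) := by
      rw [← (F.mult B).2, one_sub_ee_idem]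
    rw [hz, rid_eq', ← map_mul, h1]
  have hzP : ∀ P : Ideal B, P.IsPrime → z ∈ P := by
    intro P hP
    haveI := hP
    have h := map_z_eq_zero F hF (FractionRing (B ⧸ P))
      ((algebraMap (B ⧸ P) (FractionRing (B ⧸ P))).comp (Ideal.Quotient.mk P))
    rw [← hz, RingHom.comp_apply] at h
    have h2 := (IsFractionRing.injective (B ⧸ P) (FractionRing (B ⧸ P))) (h.trans (map_zero _).symm)
    exact Ideal.Quotient.eq_zero_iff_mem.mp h2
  have hznil : z ∈ nilradical B := by
    rw [nilradical_eq_sInf, Ideal.mem_sInf]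
    intro P hP
    exact hzP P hP
  obtain ⟨n, hn⟩ := mem_nilradical.mp hznil
  have hz0 : z = 0 := by
    cases n with
    | zero =>
      rw [pow_zero] at hn
      calc z = z * 1 := (mul_one z).symm
        _ = 0 := by rw [hn, mul_zero]
    | succ n =>
      have hidem : IsIdempotentElem z := hzz
      rw [hidem.pow_succ_eq] at hn
      exact hn
  apply (TensorProduct.rid A B).injective
  rw [← hz, hz0, map_zero]

include hF in
/-- exact Cayley–Hamilton. -/
theorem CH_exact (b : B) : Polynomial.aeval b (charP F b) = 0 := by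
  have h0 := law_one_sub_ee F hF
  obtain ⟨ψ, hψ⟩ : ∃ ψ : Polynomial A →ₐ[A] B, ψ = Polynomial.aeval b := ⟨_, rfl⟩
  have hψX : ψ Polynomial.X = b := by rw [hψ, Polynomial.aeval_X]
  have hc := PolynomialLaw.isCompat_apply' (f := F.law) ψ
    ((1 : Polynomial A) ⊗ₜ[A] b - Polynomial.X ⊗ₜ[A] (1 : B))
  rw [rTensor_eq_map B ψ, map_sub, Algebra.TensorProduct.map_tmul, Algebra.TensorProduct.map_tmul,
    map_one, AlgHom.id_apply, AlgHom.id_apply, hψX] at hc
  have hfac : ((1 : B) ⊗ₜ[A] b - b ⊗ₜ[A] (1 : B)) =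
      ((1 : B) ⊗ₜ[A] b - b ⊗ₜ[A] (1 : B)) * (1 - ee A B) := by
    rw [mul_sub, mul_one, sub_mul_ee, sub_zero]
  rw [hfac, (F.mult B).2, h0, mul_zero] at hc
  have h3 := rid_rTensor ψ (F.law.toFun' (Polynomial A)
    ((1 : Polynomial A) ⊗ₜ[A] b - Polynomial.X ⊗ₜ[A] (1 : B)))
  rw [hc, map_zero] at h3
  rw [← hψ]
  unfold charP
  exact h3.symm

end field

end Groth.Agent.Lib.Helper24.EtNormA
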