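import Mathlib

/-!
# Independence of the powers of a Kronecker-generic element of a finite étale free algebra
(helper24)

`B` finite free étale over `A` with basis `bb : Basis I A B`, `ν : I → ℕ` injective,
`xK = ∑ i, X ^ ν i ⊗ bb i ∈ A[X] ⊗ B`.

* `exists_points_field`: `card I` distinct points of `B` in an algebraically closed field.
* `det_mem_nonZeroDivisors`: the determinant of the coordinate matrix of `1, xK, …, xK^(n-1)` is a
  non-zero-divisor of `A[X]` (Vandermonde over the fibres + McCoy).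
* `eq_zero_of_aeval_xK`: a polynomial of degree `< card I` over `A[X]` killing `xK` vanishes.
-/

set_option autoImplicit false
set_option maxHeartbeats 400000
set_option linter.style.haveILetI false
set_option linter.unusedSectionVars false

namespace Groth.Agent.Lib.Helper24.EtNormB

open scoped TensorProduct
open Polynomial

universe u

section points

variable {A : Type u} [CommRing A] {B : Type u} [CommRing B] [Algebra A B]
  [Module.Free A B] [Module.Finite A B] [Algebra.Etale A B]

theorem exists_points_field (L : Type u) [Field L] [IsAlgClosed L] [Algebra A L]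
    {I : Type u} [Fintype I] (bb : Module.Basis I A B) :
    ∃ h : I → (B →ₐ[A] L), Function.Injective h := by
  classical
  haveI : Nontrivial A := (algebraMap A L).domain_nontrivial
  haveI : IsArtinianRing (L ⊗[A] B) := isArtinian_of_tower L inferInstance
  haveI : Finite (PrimeSpectrum (L ⊗[A] B)) := inferInstance
  letI : Fintype (PrimeSpectrum (L ⊗[A] B)) := Fintype.ofFinite _
  obtain ⟨E, -⟩ : ∃ E : (L ⊗[A] B) ≃ₐ[L] (PrimeSpectrum (L ⊗[A] B) → L), True :=
    ⟨Algebra.FormallyEtale.equivPiOfIsSepClosed L (L ⊗[A] B), trivial⟩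
  have hcard : Fintype.card (PrimeSpectrum (L ⊗[A] B)) = Fintype.card I := by
    rw [← Module.finrank_fintype_fun_eq_card L, ← E.toLinearEquiv.finrank_eq,
      Module.finrank_baseChange, Module.finrank_eq_card_basis bb]
  obtain ⟨σ, -⟩ : ∃ σ : I ≃ PrimeSpectrum (L ⊗[A] B), True :=
    ⟨Fintype.equivOfCardEq hcard.symm, trivial⟩
  obtain ⟨g, hg⟩ : ∃ g : PrimeSpectrum (L ⊗[A] B) → ((L ⊗[A] B) →ₐ[L] L),
      ∀ p y, g p y = E y p :=
    ⟨fun p => (Pi.evalAlgHom L (fun _ => L) p).comp E.toAlgHom, fun p y => rfl⟩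
  refine ⟨fun i => ((g (σ i)).restrictScalars A).comp Algebra.TensorProduct.includeRight, ?_⟩
  intro i i' hii
  have h1 : ∀ y : L ⊗[A] B, g (σ i) y = g (σ i') y := by
    intro y
    induction y using TensorProduct.induction_on with
    | zero => simp
    | tmul l b =>
      have hb : g (σ i) ((1 : L) ⊗ₜ[A] b) = g (σ i') ((1 : L) ⊗ₜ[A] b) :=
        congrArg (fun f : B →ₐ[A] L => f b) hii
      have e1 : l ⊗ₜ[A] b = l • ((1 : L) ⊗ₜ[A] b) := by
        rw [TensorProduct.smul_tmul', smul_eq_mul, mul_one]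
      rw [e1, map_smul, map_smul, hb]
    | add y y' hy hy' => rw [map_add, map_add, hy, hy']
  have h2 : σ i = σ i' := by
    by_contra hne
    have h3 := h1 (E.symm (Pi.single (σ i) 1))
    rw [hg, hg, AlgEquiv.apply_symm_apply, Pi.single_eq_same,
      Pi.single_eq_of_ne (Ne.symm hne)] at h3
    exact one_ne_zero h3
  exact σ.injective h2

end points

section indep

variable {A : Type u} [CommRing A] {B : Type u} [CommRing B] [Algebra A B]
  {I : Type u} [Fintype I] [DecidableEq I] (bb : Module.Basis I A B) (ν : I → ℕ)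
  (σ : I ≃ Fin (Fintype.card I))

/-- the Kronecker-generic point. -/
noncomputable def xK : A[X] ⊗[A] B := ∑ i, ((X : A[X]) ^ ν i) ⊗ₜ[A] bb i

/-- coordinate matrix of the powers of `xK`. -/
noncomputable def Pm : Matrix I I A[X] := fun j k =>
  (Algebra.TensorProduct.basis A[X] bb).repr (xK bb ν ^ (σ j : ℕ)) k

lemma pow_eq_sum (j : I) : xK bb ν ^ (σ j : ℕ) = ∑ k, (Pm bb ν σ j k) ⊗ₜ[A] bb k := by
  conv_lhs => rw [← (Algebra.TensorProduct.basis A[X] bb).sum_repr (xK bb ν ^ (σ j : ℕ))]
  refine Finset.sum_congr rfl fun k _ => ?_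
  rw [Algebra.TensorProduct.basis_apply, TensorProduct.smul_tmul', smul_eq_mul, mul_one]
  rfl

/-- the specialisation maps. -/
noncomputable def Hm (L : Type u) [Field L] [Algebra A L] (h : B →ₐ[A] L) :
    A[X] ⊗[A] B →ₐ[A] L[X] :=
  Algebra.TensorProduct.productMap (Polynomial.mapAlgHom (Algebra.ofId A L))
    ((Polynomial.CAlgHom : L →ₐ[A] L[X]).comp h)

lemma Hm_tmul (L : Type u) [Field L] [Algebra A L] (h : B →ₐ[A] L) (s : A[X]) (b : B) :
    Hm L h (s ⊗ₜ[A] b) = Polynomial.map (algebraMap A L) s * Polynomial.C (h b) := by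
  unfold Hm
  rw [Algebra.TensorProduct.productMap_apply_tmul, AlgHom.comp_apply]
  rfl

variable [Module.Free A B] [Module.Finite A B] [Algebra.Etale A B]

theorem det_map_ne_zero (hν : Function.Injective ν) (L : Type u) [Field L] [IsAlgClosed L]
    [Algebra A L] : (Pm bb ν σ).det.map (algebraMap A L) ≠ 0 := by
  classical
  intro hdet
  obtain ⟨h, hinj⟩ := exists_points_field (A := A) (B := B) L bb
  obtain ⟨Pbar, hPbar⟩ : ∃ Pbar : Matrix I I L[X],
      Pbar = (Pm bb ν σ).map (Polynomial.map (algebraMap A L)) := ⟨_, rfl⟩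
  have hdet' : Pbar.det = 0 := by
    have h1 := RingHom.map_det (Polynomial.mapRingHom (algebraMap A L)) (Pm bb ν σ)
    rw [RingHom.mapMatrix_apply, Polynomial.coe_mapRingHom] at h1
    rw [hPbar, ← h1]
    exact hdet
  obtain ⟨v, hv0, hv⟩ := Matrix.exists_vecMul_eq_zero_iff.mpr hdet'
  have hvk : ∀ k, ∑ j, v j * Pbar j k = 0 := fun k => congrFun hv k
  obtain ⟨ℓ, hℓdef⟩ : ∃ ℓ : I → L[X], ∀ i, ℓ i = Hm L (h i) (xK bb ν) := ⟨_, fun i => rfl⟩
  have hℓ : ∀ i, ℓ i = ∑ k, Polynomial.C (h i (bb k)) * (X : L[X]) ^ ν k := by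
    intro i
    rw [hℓdef]
    unfold xK
    rw [map_sum]
    refine Finset.sum_congr rfl fun k _ => ?_
    rw [Hm_tmul, Polynomial.map_pow, Polynomial.map_X, mul_comm]
  have hℓinj : Function.Injective ℓ := by
    intro i i' hii
    apply hinj
    apply AlgHom.toLinearMap_injective
    apply bb.ext
    intro k
    have hc := congrArg (fun p : L[X] => p.coeff (ν k)) hii
    simp only [hℓ, Polynomial.finset_sum_coeff, Polynomial.coeff_C_mul_X_pow, hν.eq_iff,
      Finset.sum_ite_eq, Finset.mem_univ, if_true] at hc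
    exact hc
  have hpow : ∀ i j, ℓ i ^ (σ j : ℕ) = ∑ k, Pbar j k * Polynomial.C (h i (bb k)) := by
    intro i j
    rw [hℓdef, ← map_pow, pow_eq_sum bb ν σ j, map_sum]
    refine Finset.sum_congr rfl fun k _ => ?_
    rw [Hm_tmul, hPbar, Matrix.map_apply]
  obtain ⟨Q, hQdef⟩ : ∃ Q : L[X][X], Q = ∑ j, Polynomial.C (v j) * X ^ (σ j : ℕ) := ⟨_, rfl⟩
  have hQeval : ∀ i, Q.eval (ℓ i) = 0 := by
    intro i
    rw [hQdef, Polynomial.eval_finset_sum]
    simp only [Polynomial.eval_mul, Polynomial.eval_C, Polynomial.eval_pow, Polynomial.eval_X]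
    calc ∑ j, v j * ℓ i ^ (σ j : ℕ)
        = ∑ j, ∑ k, v j * (Pbar j k * Polynomial.C (h i (bb k))) := by
          refine Finset.sum_congr rfl fun j _ => ?_
          rw [hpow i j, Finset.mul_sum]
      _ = ∑ k, ∑ j, v j * (Pbar j k * Polynomial.C (h i (bb k))) := Finset.sum_comm
      _ = ∑ k, (∑ j, v j * Pbar j k) * Polynomial.C (h i (bb k)) := by
          refine Finset.sum_congr rfl fun k _ => ?_
          rw [Finset.sum_mul]
          refine Finset.sum_congr rfl fun j _ => ?_
          rw [mul_assoc]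
      _ = 0 := by
          refine Finset.sum_eq_zero fun k _ => ?_
          rw [hvk k, zero_mul]
  rcases Nat.eq_zero_or_pos (Fintype.card I) with h0 | hpos
  · haveI : IsEmpty I := Fintype.card_eq_zero_iff.mp h0
    exact hv0 (funext fun i => isEmptyElim i)
  · have hdeg : Q.natDegree < Fintype.card I := by
      have hle : Q.natDegree ≤ Fintype.card I - 1 := by
        rw [hQdef]
        apply Polynomial.natDegree_sum_le_of_forall_le
        intro j _
        refine (Polynomial.natDegree_C_mul_X_pow_le _ _).trans ?_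
        have := (σ j).isLt
        omega
      omega
    have hQ0 : Q = 0 :=
      Polynomial.eq_zero_of_natDegree_lt_card_of_eval_eq_zero Q hℓinj hQeval hdeg
    apply hv0
    funext j₀
    have hc := congrArg (fun p : L[X][X] => p.coeff (σ j₀ : ℕ)) hQ0
    simp only [hQdef, Polynomial.finset_sum_coeff, Polynomial.coeff_C_mul_X_pow, Fin.val_inj,
      σ.apply_eq_iff_eq, Finset.sum_ite_eq, Finset.mem_univ, if_true, Polynomial.coeff_zero] at hc
    exact hc

theorem det_mem_nonZeroDivisors (hν : Function.Injective ν) :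
    (Pm bb ν σ).det ∈ nonZeroDivisors A[X] := by
  classical
  rw [Polynomial.mem_nonZeroDivisors_iff]
  intro a ha
  by_contra hane
  have hJ : (Submodule.span A {a}).annihilator ≠ ⊤ := by
    intro htop
    have h1 : (1 : A) ∈ (Submodule.span A {a}).annihilator := htop ▸ Submodule.mem_top
    rw [Submodule.mem_annihilator_span_singleton, one_smul] at h1
    exact hane h1
  obtain ⟨m, hm, hJm⟩ := Ideal.exists_le_maximal _ hJ
  haveI := hm
  letI : Field (A ⧸ m) := Ideal.Quotient.field m
  have hzero : (Pm bb ν σ).det.map (algebraMap A (AlgebraicClosure (A ⧸ m))) = 0 := by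
    ext n
    rw [Polynomial.coeff_map, Polynomial.coeff_zero]
    have hc : (Pm bb ν σ).det.coeff n ∈ m := by
      apply hJm
      rw [Submodule.mem_annihilator_span_singleton]
      have h2 := congrArg (fun p : A[X] => p.coeff n) ha
      simp only [Polynomial.coeff_smul, Polynomial.coeff_zero, smul_eq_mul] at h2
      rw [smul_eq_mul, mul_comm]
      exact h2
    rw [IsScalarTower.algebraMap_apply A (A ⧸ m) (AlgebraicClosure (A ⧸ m)),
      Ideal.Quotient.algebraMap_eq, Ideal.Quotient.eq_zero_iff_mem.mpr hc, map_zero]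
  exact det_map_ne_zero bb ν σ hν (AlgebraicClosure (A ⧸ m)) hzero

include σ in
theorem eq_zero_of_aeval_xK (hν : Function.Injective ν) (Q : A[X][X])
    (hdeg : ∀ n, Fintype.card I ≤ n → Q.coeff n = 0)
    (hQ : Polynomial.aeval (xK bb ν) Q = 0) : Q = 0 := by
  classical
  by_contra hQ0
  have hlt : Q.natDegree < Fintype.card I := by
    by_contra hge
    rw [not_lt] at hge
    have h1 := hdeg Q.natDegree hge
    rw [Polynomial.coeff_natDegree, Polynomial.leadingCoeff_eq_zero] at h1
    exact hQ0 h1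
  have hnzd := det_mem_nonZeroDivisors bb ν σ hν
  have hsum : Polynomial.aeval (xK bb ν) Q =
      ∑ j, Q.coeff (σ j : ℕ) • xK bb ν ^ (σ j : ℕ) := by
    rw [Polynomial.aeval_eq_sum_range' hlt, Finset.sum_range]
    exact (Equiv.sum_comp σ (fun i : Fin (Fintype.card I) =>
      Q.coeff (i : ℕ) • xK bb ν ^ (i : ℕ))).symm
  have hk : ∀ k, ∑ j, Q.coeff (σ j : ℕ) * Pm bb ν σ j k = 0 := by
    intro k
    have h1 := congrArg (fun y => (Algebra.TensorProduct.basis A[X] bb).repr y k)
      (hsum.symm.trans hQ)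
    simp only [map_sum, map_smul, map_zero, Finsupp.coe_finset_sum, Finset.sum_apply,
      Finsupp.coe_smul, Pi.smul_apply, smul_eq_mul, Finsupp.coe_zero, Pi.zero_apply] at h1
    exact h1
  have hvec : Matrix.vecMul (fun j => Q.coeff (σ j : ℕ)) (Pm bb ν σ) = 0 :=
    funext fun k => hk k
  have h2 := congrArg (fun w => Matrix.vecMul w (Pm bb ν σ).adjugate) hvec
  simp only [Matrix.vecMul_vecMul, Matrix.mul_adjugate, Matrix.zero_vecMul, Matrix.vecMul_smul,
    Matrix.vecMul_one] at h2
  have hcoef : ∀ j, Q.coeff (σ j : ℕ) = 0 := by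
    intro j
    have h3 := congrFun h2 j
    rw [Pi.smul_apply, Pi.zero_apply, smul_eq_mul] at h3
    exact (mul_left_mem_nonZeroDivisors_eq_zero_iff hnzd).mp h3
  apply hQ0
  apply Polynomial.ext
  intro n
  rw [Polynomial.coeff_zero]
  by_cases hn : n < Fintype.card I
  · have := hcoef (σ.symm ⟨n, hn⟩)
    rwa [Equiv.apply_symm_apply] at this
  · exact hdeg n (not_lt.mp hn)

end indep

end Groth.Agent.Lib.Helper24.EtNormB
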