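import Mathlib
import Groth.Prelude.Def_PolLaw
import Groth.Agent.Lib.Helper20.PolLawKer
import Groth.Agent.Lib.Helper24.GamCoef
import Groth.Agent.Lib.Helper24.GamUniv

/-!
# Kronecker substitution for multiplicative laws (helper24)

* `digits_inj`: uniqueness of base-`D` expansions.
* `nu σ i = (card I + 1) ^ σ i`, `kron σ : A[X_i] → A[X]`, `X_i ↦ X ^ nu σ i`;
  `kron_injOn_homog`: `kron` is injective on polynomials supported in degree `card I`.
* `law_eq_of_kron`: two multiplicative laws `B → A` of degree `card I` (with `B` free on `I`) that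
  agree on the Kronecker point `∑ X ^ nu σ i ⊗ e i` are equal.
-/

set_option autoImplicit false
set_option maxHeartbeats 400000
set_option linter.style.haveILetI false
set_option linter.unusedSectionVars false

namespace Groth.Agent.Lib.Helper24.EtNormC

open scoped TensorProduct
open Groth.Agent.Lib.Helper24.GamCoef Groth.Agent.Lib.Helper24.GamUniv
  Groth.Agent.Lib.Helper20.PolLawKer

universe u

lemma digits_inj (D : ℕ) (hD : 0 < D) : ∀ (n : ℕ) (a b : Fin n → ℕ), (∀ i, a i < D) →
    (∀ i, b i < D) → ∑ i, a i * D ^ (i : ℕ) = ∑ i, b i * D ^ (i : ℕ) → a = b := by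
  intro n
  induction n with
  | zero =>
    intro a b _ _ _
    funext i
    exact i.elim0
  | succ n ih =>
    intro a b ha hb h
    rw [Fin.sum_univ_succ, Fin.sum_univ_succ] at h
    have e : ∀ c : Fin (n + 1) → ℕ, ∑ i : Fin n, c i.succ * D ^ ((i.succ : Fin (n + 1)) : ℕ) =
        D * ∑ i : Fin n, c i.succ * D ^ (i : ℕ) := by
      intro c
      rw [Finset.mul_sum]
      refine Finset.sum_congr rfl fun i _ => ?_
      rw [Fin.val_succ, pow_succ]
      ring
    rw [e a, e b, Fin.val_zero, pow_zero, mul_one, mul_one] at h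
    have h0 : a 0 = b 0 := by
      have h1 := congrArg (· % D) h
      simp only [Nat.add_mul_mod_self_left] at h1
      rwa [Nat.mod_eq_of_lt (ha 0), Nat.mod_eq_of_lt (hb 0)] at h1
    have h1 : ∑ i : Fin n, a i.succ * D ^ (i : ℕ) = ∑ i : Fin n, b i.succ * D ^ (i : ℕ) := by
      rw [h0] at h
      exact Nat.eq_of_mul_eq_mul_left hD (Nat.add_left_cancel h)
    have h2 := ih (fun i => a i.succ) (fun i => b i.succ) (fun i => ha _) (fun i => hb _) h1
    funext i
    refine Fin.cases h0 (fun j => ?_) i
    exact congrFun h2 j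

section kron

variable {A : Type u} [CommRing A] {I : Type u} [Fintype I] (σ : I ≃ Fin (Fintype.card I))

/-- Kronecker exponents. -/
def nu (i : I) : ℕ := (Fintype.card I + 1) ^ (σ i : ℕ)

lemma nu_injective : Function.Injective (nu σ) := by
  intro i j h
  have hpos : 0 < Fintype.card I := Fintype.card_pos_iff.mpr ⟨i⟩
  have h2 : 2 ≤ Fintype.card I + 1 := by omega
  exact σ.injective (Fin.val_injective (Nat.pow_right_injective h2 h))

/-- Kronecker weight of a multi-index. -/
noncomputable def wt (k : I →₀ ℕ) : ℕ := ∑ i, k i * nu σ i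

lemma wt_inj (k k' : I →₀ ℕ) (hk : k.degree = Fintype.card I)
    (hk' : k'.degree = Fintype.card I) (h : wt σ k = wt σ k') : k = k' := by
  have e : ∀ c : I →₀ ℕ, wt σ c =
      ∑ j : Fin (Fintype.card I), c (σ.symm j) * (Fintype.card I + 1) ^ (j : ℕ) := by
    intro c
    calc wt σ c = ∑ j : Fin (Fintype.card I), c (σ.symm j) * nu σ (σ.symm j) :=
          (Equiv.sum_comp σ.symm (fun i => c i * nu σ i)).symm
      _ = _ := Finset.sum_congr rfl fun j _ => by
          unfold nu
          rw [Equiv.apply_symm_apply]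
  rw [e, e] at h
  have h1 := digits_inj (Fintype.card I + 1) (Nat.succ_pos _) _ (fun j => k (σ.symm j))
    (fun j => k' (σ.symm j))
    (fun j => Nat.lt_succ_of_le ((Finsupp.le_degree _ k).trans_eq hk))
    (fun j => Nat.lt_succ_of_le ((Finsupp.le_degree _ k').trans_eq hk')) h
  ext i
  have h2 := congrFun h1 (σ i)
  simp only [Equiv.symm_apply_apply] at h2
  exact h2

variable (A) in
/-- the Kronecker substitution. -/
noncomputable def kron : MvPolynomial I A →ₐ[A] Polynomial A :=
  MvPolynomial.aeval (fun i => (Polynomial.X : Polynomial A) ^ nu σ i)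

lemma kron_eq_sum (p : MvPolynomial I A) :
    kron A σ p = ∑ k ∈ p.support, Polynomial.C (MvPolynomial.coeff k p) *
      Polynomial.X ^ wt σ k := by
  unfold kron
  rw [MvPolynomial.aeval_def, MvPolynomial.eval₂_eq]
  refine Finset.sum_congr rfl fun k _ => ?_
  rw [← Polynomial.C_eq_algebraMap]
  congr 1
  simp only [← pow_mul]
  rw [Finset.prod_pow_eq_pow_sum]
  congr 1
  unfold wt
  rw [← Finset.sum_subset (Finset.subset_univ k.support)]
  · exact Finset.sum_congr rfl fun i _ => mul_comm _ _
  · intro i _ hi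
    rw [Finsupp.notMem_support_iff.mp hi, zero_mul]

theorem kron_injOn_homog (p : MvPolynomial I A)
    (hp : ∀ k, MvPolynomial.coeff k p ≠ 0 → k.degree = Fintype.card I)
    (h : kron A σ p = 0) : p = 0 := by
  classical
  by_contra hp0
  obtain ⟨k₀, hk₀⟩ := MvPolynomial.ne_zero_iff.mp hp0
  have hc := congrArg (fun q : Polynomial A => q.coeff (wt σ k₀)) h
  simp only [kron_eq_sum, Polynomial.finset_sum_coeff, Polynomial.coeff_C_mul_X_pow,
    Polynomial.coeff_zero] at hc
  rw [Finset.sum_eq_single k₀] at hc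
  · rw [if_pos rfl] at hc
    exact hk₀ hc
  · intro k hk hne
    rw [if_neg]
    intro hw
    exact hne (wt_inj σ k k₀ (hp k (MvPolynomial.mem_support_iff.mp hk)) (hp k₀ hk₀) hw.symm)
  · intro hnot
    rw [MvPolynomial.mem_support_iff, not_not] at hnot
    exact absurd hnot hk₀

end kron

section unique

variable {A : Type u} [CommRing A] {B : Type u} [CommRing B] [Algebra A B] {I : Type u}
  [Fintype I] (e : Module.Basis I A B) (σ : I ≃ Fin (Fintype.card I))

lemma coeff_rid_mv (u : MvPolynomial I A ⊗[A] A) (k : I →₀ ℕ) :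
    MvPolynomial.coeff k (TensorProduct.rid A (MvPolynomial I A) u) =
      cf (MvPolynomial.lcoeff A k) u := by
  induction u using TensorProduct.induction_on with
  | zero => simp
  | tmul f a =>
    rw [TensorProduct.rid_tmul, MvPolynomial.coeff_smul, cf_tmul, MvPolynomial.lcoeff_apply,
      smul_eq_mul, smul_eq_mul, mul_comm]
  | add x y hx hy => rw [map_add, MvPolynomial.coeff_add, hx, hy, map_add]

theorem law_eq_of_kron (F N : PolLaw.MulLaw A B A (Fintype.card I))
    (h : F.law.toFun' (Polynomial A)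
        (∑ i, ((Polynomial.X : Polynomial A) ^ nu σ i) ⊗ₜ[A] e i) =
      N.law.toFun' (Polynomial A)
        (∑ i, ((Polynomial.X : Polynomial A) ^ nu σ i) ⊗ₜ[A] e i)) : F = N := by
  classical
  have hco : ∀ (G : PolLaw.MulLaw A B A (Fintype.card I)) (k : I →₀ ℕ),
      MvPolynomial.coeff k (TensorProduct.rid A (MvPolynomial I A)
        (G.law.toFun' (MvPolynomial I A) (gen e Finset.univ))) = Gco e G.law k := by
    intro G k
    rw [← cf_gen_of_subset e G.law Finset.univ k (Finset.subset_univ _)]
    exact coeff_rid_mv _ k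
  have hx : (kron A σ).toLinearMap.rTensor B (gen e Finset.univ) =
      ∑ i, ((Polynomial.X : Polynomial A) ^ nu σ i) ⊗ₜ[A] e i :=
    rTensor_aeval_gen e (fun i => (Polynomial.X : Polynomial A) ^ nu σ i) Finset.univ
  have hkron : ∀ (G : PolLaw.MulLaw A B A (Fintype.card I)),
      kron A σ (TensorProduct.rid A (MvPolynomial I A)
        (G.law.toFun' (MvPolynomial I A) (gen e Finset.univ))) =
      TensorProduct.rid A (Polynomial A) (G.law.toFun' (Polynomial A)
        (∑ i, ((Polynomial.X : Polynomial A) ^ nu σ i) ⊗ₜ[A] e i)) := by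
    intro G
    rw [← rid_rTensor (kron A σ), PolynomialLaw.isCompat_apply', hx]
  have hdiff : TensorProduct.rid A (MvPolynomial I A)
        (F.law.toFun' (MvPolynomial I A) (gen e Finset.univ)) -
      TensorProduct.rid A (MvPolynomial I A)
        (N.law.toFun' (MvPolynomial I A) (gen e Finset.univ)) = 0 := by
    apply kron_injOn_homog σ
    · intro k hk
      by_contra hdeg
      apply hk
      rw [MvPolynomial.coeff_sub, hco F k, hco N k,
        Gco_eq_zero_of_degree_ne e F.law F.homog k hdeg,
        Gco_eq_zero_of_degree_ne e N.law N.homog k hdeg, sub_zero]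
    · rw [map_sub, hkron F, hkron N, h, sub_self]
  have hG : ∀ k, Gco e F.law k = Gco e N.law k := by
    intro k
    rw [← hco F k, ← hco N k, ← sub_eq_zero, ← MvPolynomial.coeff_sub, hdiff,
      MvPolynomial.coeff_zero]
  apply PolLaw.MulLaw.ext
  apply PolynomialLaw.ext
  funext S _ _ x
  obtain ⟨J, ψ, rfl⟩ := exists_gen e x
  rw [← PolynomialLaw.isCompat_apply', ← PolynomialLaw.isCompat_apply']
  congr 1
  apply ext_cf
  intro k
  by_cases hkJ : k.support ⊆ J
  · rw [cf_gen_of_subset e F.law J k hkJ, cf_gen_of_subset e N.law J k hkJ, hG k]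
  · rw [cf_gen_of_not_subset e F.law J k hkJ, cf_gen_of_not_subset e N.law J k hkJ]

end unique

end Groth.Agent.Lib.Helper24.EtNormC
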