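import Mathlib
import Groth.Prelude.Def_PolLaw
import Groth.Agent.S2733
import Groth.Agent.Lib.Helper26.FinFlatPurity
import Groth.Agent.Lib.Helper24.EtNormA
import Groth.Agent.Lib.Helper24.EtNormB
import Groth.Agent.Lib.Helper24.EtNormC

/-!
# The norm law of a finite étale free algebra (helper24)

* `ker_norm_eq_bot`: the kernel of the norm law is zero.
* `unique_aux`: two multiplicative laws of degree `rank B` with nil kernel coincide.
-/

set_option autoImplicit false
set_option maxHeartbeats 400000
set_option linter.style.haveILetI false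
set_option linter.unusedSectionVars false

namespace Groth.Agent.Lib.Helper24.EtNormD

open scoped TensorProduct
open Groth.Agent.Lib.Helper20.PolLawKer Groth.Agent.Lib.Helper24.GamCH
  Groth.Agent.Lib.Helper24.GamCH2 Groth.Agent.Lib.Helper24.KerBC

universe u

variable {A B : Type u} [CommRing A] [CommRing B] [Algebra A B]
  [Module.Free A B] [Module.Finite A B] [Algebra.Etale A B]

theorem ker_norm_eq_bot (d : ℕ) (N : PolLaw.MulLaw A B A d)
    (hN : ∀ (S : Type u) [CommRing S] [Algebra A S] (x : S ⊗[A] B),
      N.law.toFun' S x = Algebra.norm S x ⊗ₜ[A] (1 : A)) :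
    PolLaw.ker N.law = ⊥ := by
  classical
  rw [eq_bot_iff]
  intro b hb
  rw [Ideal.mem_bot]
  obtain ⟨bb, -⟩ : ∃ bb : Module.Basis (Module.Free.ChooseBasisIndex A B) A B, True :=
    ⟨Module.Free.chooseBasis A B, trivial⟩
  have htr : ∀ c : B, Algebra.trace A B (c * b) = 0 := by
    intro c
    have h1 := (mem_ker_iff _ _).mp hb (Polynomial A) 1 ((Polynomial.X : Polynomial A) ⊗ₜ[A] c)
    rw [hN, hN, Algebra.TensorProduct.tmul_mul_tmul, mul_one] at h1
    have h2 : Algebra.norm (Polynomial A)
        ((1 : Polynomial A ⊗[A] B) + Polynomial.X ⊗ₜ[A] (c * b)) = 1 := by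
      have h3 := congrArg (TensorProduct.rid A (Polynomial A)) h1
      rw [TensorProduct.rid_tmul, TensorProduct.rid_tmul, one_smul, one_smul, map_one] at h3
      exact h3
    have hM : Algebra.leftMulMatrix (Algebra.TensorProduct.basis (Polynomial A) bb)
        ((1 : Polynomial A ⊗[A] B) + Polynomial.X ⊗ₜ[A] (c * b)) =
        1 + (Polynomial.X : Polynomial A) •
          (Algebra.leftMulMatrix bb (c * b)).map (Polynomial.C : A →+* Polynomial A) := by
      have e1 : (Polynomial.X : Polynomial A) ⊗ₜ[A] (c * b) =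
          (Polynomial.X : Polynomial A) • ((1 : Polynomial A) ⊗ₜ[A] (c * b)) := by
        rw [TensorProduct.smul_tmul', smul_eq_mul, mul_one]
      rw [map_add, map_one, e1, map_smul]
      congr 2
      rw [Algebra.leftMulMatrix_apply, Groth.Agent.Lib.Helper26.FinFlatPurity.lmul_one_tmul,
        LinearMap.toMatrix_baseChange, ← Algebra.leftMulMatrix_apply]
      rfl
    rw [Algebra.norm_eq_matrix_det (Algebra.TensorProduct.basis (Polynomial A) bb), hM] at h2
    have h4 := congrArg (fun p : Polynomial A => p.coeff 1) h2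
    simp only [Matrix.coeff_det_one_add_X_smul_one, Polynomial.coeff_one, one_ne_zero,
      if_false] at h4
    rw [Algebra.trace_eq_matrix_trace bb]
    exact h4
  have hzero : Algebra.traceForm A B b = 0 := by
    apply LinearMap.ext
    intro c
    rw [Algebra.traceForm_apply, mul_comm, htr c]
    rfl
  have hinj := ((Groth.Agent.S2733.result A B).mp inferInstance).1
  exact hinj (hzero.trans (map_zero _).symm)

theorem unique_aux {I : Type u} [Fintype I] [DecidableEq I] (bb : Module.Basis I A B)
    (F N : PolLaw.MulLaw A B A (Fintype.card I))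
    (hF : PolLaw.ker F.law ≤ nilradical B) (hN0 : PolLaw.ker N.law ≤ nilradical B) : F = N := by
  classical
  obtain ⟨σ, -⟩ : ∃ σ : I ≃ Fin (Fintype.card I), True := ⟨Fintype.equivFin I, trivial⟩
  have hν := EtNormC.nu_injective σ
  apply EtNormC.law_eq_of_kron bb σ F N
  have key : ∀ G : PolLaw.MulLaw A B A (Fintype.card I), PolLaw.ker G.law ≤ nilradical B →
      Polynomial.aeval (EtNormB.xK bb (EtNormC.nu σ))
        (charP (bc (Polynomial A) G) (EtNormB.xK bb (EtNormC.nu σ))) = 0 :=
    fun G hG => EtNormA.CH_exact (bc (Polynomial A) G)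
      (EtNormA.ker_bc_le_nilradical G hG (Polynomial A)) _
  have hQ : charP (bc (Polynomial A) F) (EtNormB.xK bb (EtNormC.nu σ)) -
      charP (bc (Polynomial A) N) (EtNormB.xK bb (EtNormC.nu σ)) = 0 := by
    apply EtNormB.eq_zero_of_aeval_xK bb (EtNormC.nu σ) σ hν
    · intro n hn
      obtain ⟨hF1, hF2⟩ := charP_coeff (bc (Polynomial A) F) (EtNormB.xK bb (EtNormC.nu σ))
      obtain ⟨hN1, hN2⟩ := charP_coeff (bc (Polynomial A) N) (EtNormB.xK bb (EtNormC.nu σ))
      rw [Polynomial.coeff_sub]
      rcases Nat.eq_or_lt_of_le hn with h | h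
      · rw [← h, hF1, hN1, sub_self]
      · rw [hF2 n h, hN2 n h, sub_self]
    · rw [map_sub, key F hF, key N hN0, sub_self]
  have heq := congrArg (Polynomial.eval 0) (sub_eq_zero.mp hQ)
  rw [EtNormA.charP_bc_eval_zero, EtNormA.charP_bc_eval_zero] at heq
  exact (TensorProduct.rid A (Polynomial A)).injective heq

end Groth.Agent.Lib.Helper24.EtNormD
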