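import Mathlib
import Groth.Agent.Lib.Helper24.EtThickLocal

/-!
# Helper library (helper24): lifting étale schemes along a thickening (gluing)

Main result `exists_etale_lift`: for a surjective closed immersion `i : S₀ ⟶ S` and an étale
`q₀ : Y₀ ⟶ S₀` there are an étale `q : Y ⟶ S` and `j : Y₀ ⟶ Y` such that `Y₀` is the base change of
`Y` along `i` (essential surjectivity in the topological invariance of the étale site).
-/

set_option autoImplicit false
set_option maxHeartbeats 400000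
set_option linter.style.haveILetI false
universe u

namespace Groth.Agent.Lib.Helper24.EtThick

open CategoryTheory Limits AlgebraicGeometry
open Groth.Agent.Lib.Helper15

section Generic

variable {X Z : Scheme.{u}} {κ : Type u} (U : κ → X.Opens) (hU : TopologicalSpace.IsOpenCover U)

include hU in
/-- Gluing morphisms defined on the members of a cover by open subsets. -/
theorem exists_glue (f : ∀ a, (U a : Scheme.{u}) ⟶ Z)
    (hf : ∀ a b, X.homOfLE (inf_le_left : U a ⊓ U b ≤ U a) ≫ f a =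
      X.homOfLE (inf_le_right : U a ⊓ U b ≤ U b) ≫ f b) :
    ∃ g : X ⟶ Z, ∀ a, (U a).ι ≫ g = f a := by
  let 𝒰 : X.OpenCover := X.openCoverOfIsOpenCover U hU
  have hcompat : ∀ a b : κ, pullback.fst (𝒰.f a) (𝒰.f b) ≫ f a =
      pullback.snd (𝒰.f a) (𝒰.f b) ≫ f b := by
    intro a b
    show pullback.fst (U a).ι (U b).ι ≫ f a = pullback.snd (U a).ι (U b).ι ≫ f b
    have hpb := isPullback_opens_inf (U a) (U b)
    rw [← cancel_epi hpb.isoPullback.hom, IsPullback.isoPullback_hom_fst_assoc,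
      IsPullback.isoPullback_hom_snd_assoc]
    exact hf a b
  exact ⟨𝒰.glueMorphisms f hcompat, fun a => 𝒰.ι_glueMorphisms f hcompat a⟩

include hU in
theorem hom_ext_of_isOpenCover (g g' : X ⟶ Z) (h : ∀ a, (U a).ι ≫ g = (U a).ι ≫ g') : g = g' :=
  (X.openCoverOfIsOpenCover U hU).hom_ext _ _ h

include hU in
theorem isOpenImmersion_of_isOpenCover (c : X ⟶ Z) (hinj : Function.Injective c.base)
    (h : ∀ a, IsOpenImmersion ((U a).ι ≫ c)) : IsOpenImmersion c :=
  IsOpenImmersion.of_openCover_source c (X.openCoverOfIsOpenCover U hU) hinj h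

end Generic

lemma ι_homOfLE_apply {Y₀ : Scheme.{u}} {U U' : Y₀.Opens} (h : U ≤ U') (t : (U : Scheme.{u})) :
    U'.ι.base ((Y₀.homOfLE h).base t) = U.ι.base t := by
  rw [← Scheme.Hom.comp_apply, Scheme.homOfLE_ι]

lemma exists_of_mem {Y₀ : Scheme.{u}} (U : Y₀.Opens) (y : Y₀) (hy : y ∈ U) :
    ∃ t : (U : Scheme.{u}), U.ι.base t = y := by
  have : y ∈ Set.range U.ι.base := by
    rw [Scheme.Opens.range_ι]
    exact hy
  exact this

section Glue

variable {S S₀ : Scheme.{u}} (i : S₀ ⟶ S) [IsClosedImmersion i] [Surjective i]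
  {Y₀ : Scheme.{u}} (q₀ : Y₀ ⟶ S₀)

/-- The open subsets of `Y₀` which admit a lift to an étale `S`-scheme. -/
abbrev Idx : Type u := {V : Y₀.Opens // Nonempty (EtLift i (V.ι ≫ q₀))}

variable {i q₀}

/-- The chosen lift. -/
noncomputable def Idx.lift (V : Idx i q₀) : EtLift i (V.1.ι ≫ q₀) := V.2.some

lemma Idx.nonempty_of_le (V : Idx i q₀) (U : Y₀.Opens) (h : U ≤ V.1) :
    Nonempty (EtLift i (U.ι ≫ q₀)) :=
  ⟨(V.lift.restrict (Y₀.homOfLE h)).ofEq (Y₀.homOfLE_ι_assoc h q₀)⟩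

variable (i q₀) in
/-- The diagram of chosen lifts. -/
noncomputable def glueFunctor : Idx i q₀ ⥤ Scheme.{u} where
  obj V := V.lift.Y
  map {V V'} h := EtLift.map V.lift V'.lift (Y₀.homOfLE (leOfHom h))
    (Y₀.homOfLE_ι_assoc (leOfHom h) q₀)
  map_id V := by
    rw [← EtLift.map_id V.lift]
    exact EtLift.map_congr _ _ _ _ _ (Scheme.homOfLE_rfl _ _)
  map_comp {V V' V''} h h' := by
    rw [EtLift.map_comp]
    exact EtLift.map_congr _ _ _ _ _ (Scheme.homOfLE_homOfLE _ _ _).symm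

/-- The thickening, as a morphism into the value of the diagram. -/
noncomputable def Idx.ιF (V : Idx i q₀) : (V.1 : Scheme.{u}) ⟶ (glueFunctor i q₀).obj V := V.lift.ι

/-- The structure morphism, as a morphism from the value of the diagram. -/
noncomputable def Idx.pF (V : Idx i q₀) : (glueFunctor i q₀).obj V ⟶ S := V.lift.p

lemma Idx.isPullback_F (V : Idx i q₀) : IsPullback V.ιF (V.1.ι ≫ q₀) V.pF i := V.lift.isPullback

lemma Idx.etale_pF (V : Idx i q₀) : Etale V.pF := V.lift.etale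

lemma Idx.w_F (V : Idx i q₀) : V.ιF ≫ V.pF = (V.1.ι ≫ q₀) ≫ i := V.isPullback_F.w

lemma Idx.injective_ιF (V : Idx i q₀) : Function.Injective V.ιF.base := V.lift.injective_ι

lemma Idx.surjective_ιF (V : Idx i q₀) : Function.Surjective V.ιF.base := V.lift.surjective_ι_base

@[reassoc]
lemma ιF_map {V V' : Idx i q₀} (h : V ⟶ V') :
    V.ιF ≫ (glueFunctor i q₀).map h = Y₀.homOfLE (leOfHom h) ≫ V'.ιF :=
  EtLift.ι_map V.lift V'.lift (Y₀.homOfLE (leOfHom h)) (Y₀.homOfLE_ι_assoc (leOfHom h) q₀)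

@[reassoc]
lemma map_pF {V V' : Idx i q₀} (h : V ⟶ V') :
    (glueFunctor i q₀).map h ≫ V'.pF = V.pF :=
  EtLift.map_p V.lift V'.lift (Y₀.homOfLE (leOfHom h)) (Y₀.homOfLE_ι_assoc (leOfHom h) q₀)

lemma map_ιF_apply {V V' : Idx i q₀} (h : V ⟶ V') (t : (V.1 : Scheme.{u})) :
    ((glueFunctor i q₀).map h).base (V.ιF.base t) =
      V'.ιF.base ((Y₀.homOfLE (leOfHom h)).base t) := by
  rw [← Scheme.Hom.comp_apply, ιF_map, Scheme.Hom.comp_apply]

instance {V V' : Idx i q₀} (h : V ⟶ V') : IsOpenImmersion ((glueFunctor i q₀).map h) :=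
  EtLift.isOpenImmersion_map V.lift V'.lift (Y₀.homOfLE (leOfHom h))
    (Y₀.homOfLE_ι_assoc (leOfHom h) q₀)

instance : ((glueFunctor i q₀) ⋙ Scheme.forget).IsLocallyDirected where
  cond {Vi Vj Vk} fi fj xi xj heq := by
    change ((glueFunctor i q₀).map fi).base xi = ((glueFunctor i q₀).map fj).base xj at heq
    obtain ⟨yi, rfl⟩ := Vi.surjective_ιF xi
    obtain ⟨yj, rfl⟩ := Vj.surjective_ιF xj
    rw [map_ιF_apply, map_ιF_apply] at heq
    have h3 := Vk.injective_ιF heq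
    have h4 : Vi.1.ι.base yi = Vj.1.ι.base yj := by
      rw [← ι_homOfLE_apply (leOfHom fi), ← ι_homOfLE_apply (leOfHom fj), h3]
    have hyi : Vi.1.ι.base yi ∈ Vi.1 := ClosedLift.ι_mem _ _
    have hyj : Vi.1.ι.base yi ∈ Vj.1 := by
      rw [h4]
      exact ClosedLift.ι_mem _ _
    let Vl : Idx i q₀ := ⟨Vi.1 ⊓ Vj.1, Vi.nonempty_of_le _ inf_le_left⟩
    obtain ⟨yl, hyl⟩ := exists_of_mem Vl.1 (Vi.1.ι.base yi) ⟨hyi, hyj⟩
    have hli : Vl ≤ Vi := (inf_le_left : Vi.1 ⊓ Vj.1 ≤ Vi.1)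
    have hlj : Vl ≤ Vj := (inf_le_right : Vi.1 ⊓ Vj.1 ≤ Vj.1)
    refine ⟨Vl, homOfLE hli, homOfLE hlj, Vl.ιF.base yl, ?_, ?_⟩
    · change ((glueFunctor i q₀).map (homOfLE hli)).base (Vl.ιF.base yl) = Vi.ιF.base yi
      rw [map_ιF_apply]
      congr 1
      apply Vi.1.ι.isOpenEmbedding.injective
      rw [ι_homOfLE_apply]
      exact hyl
    · change ((glueFunctor i q₀).map (homOfLE hlj)).base (Vl.ιF.base yl) = Vj.ιF.base yj
      rw [map_ιF_apply]
      congr 1
      apply Vj.1.ι.isOpenEmbedding.injective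
      rw [ι_homOfLE_apply]
      exact hyl.trans h4

variable (i q₀) in
/-- The glued scheme. -/
noncomputable abbrev glued : Scheme.{u} := colimit (glueFunctor i q₀)

variable (i q₀) in
/-- The structure morphism of the glued scheme. -/
noncomputable def gluedP : glued i q₀ ⟶ S :=
  colimit.desc (glueFunctor i q₀)
    { pt := S
      ι :=
        { app := fun V => V.pF
          naturality := fun V V' h => by
            dsimp
            rw [Category.comp_id]
            exact map_pF h } }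

@[reassoc]
lemma ι_gluedP (V : Idx i q₀) :
    colimit.ι (glueFunctor i q₀) V ≫ gluedP i q₀ = V.pF :=
  colimit.ι_desc _ _

instance : Etale (gluedP i q₀) := by
  rw [IsZariskiLocalAtSource.iff_of_openCover (P := @Etale)
    (Scheme.IsLocallyDirected.openCover (glueFunctor i q₀))]
  intro V
  change Etale (colimit.ι (glueFunctor i q₀) V ≫ gluedP i q₀)
  rw [ι_gluedP]
  exact V.etale_pF

variable [Etale q₀]

variable (i q₀) in
lemma isOpenCover_idx : TopologicalSpace.IsOpenCover (fun V : Idx i q₀ => V.1) := by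
  refine TopologicalSpace.IsOpenCover.mk (eq_top_iff.mpr ?_)
  intro y _
  obtain ⟨V, hyV, hV⟩ := exists_local_lift i q₀ y
  exact TopologicalSpace.Opens.mem_iSup.mpr ⟨⟨V, hV⟩, hyV⟩

variable (i q₀) in
theorem exists_gluedJ : ∃ j : Y₀ ⟶ glued i q₀,
    ∀ V : Idx i q₀, V.1.ι ≫ j = V.ιF ≫ colimit.ι (glueFunctor i q₀) V := by
  refine exists_glue (fun V : Idx i q₀ => V.1) (isOpenCover_idx i q₀)
    (fun V => V.ιF ≫ colimit.ι (glueFunctor i q₀) V) ?_
  intro V V'
  let W : Idx i q₀ := ⟨V.1 ⊓ V'.1, V.nonempty_of_le _ inf_le_left⟩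
  have hl : W ≤ V := (inf_le_left : V.1 ⊓ V'.1 ≤ V.1)
  have hr : W ≤ V' := (inf_le_right : V.1 ⊓ V'.1 ≤ V'.1)
  have e1 : Y₀.homOfLE (inf_le_left : V.1 ⊓ V'.1 ≤ V.1) ≫ V.ιF =
      W.ιF ≫ (glueFunctor i q₀).map (homOfLE hl) := (ιF_map (homOfLE hl)).symm
  have e2 : Y₀.homOfLE (inf_le_right : V.1 ⊓ V'.1 ≤ V'.1) ≫ V'.ιF =
      W.ιF ≫ (glueFunctor i q₀).map (homOfLE hr) := (ιF_map (homOfLE hr)).symm
  rw [reassoc_of% e1, reassoc_of% e2, colimit.w, colimit.w]

variable (i q₀) in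
/-- The thickening `Y₀ ⟶ Y`. -/
noncomputable def gluedJ : Y₀ ⟶ glued i q₀ := (exists_gluedJ i q₀).choose

@[reassoc]
lemma ι_gluedJ (V : Idx i q₀) :
    V.1.ι ≫ gluedJ i q₀ = V.ιF ≫ colimit.ι (glueFunctor i q₀) V :=
  (exists_gluedJ i q₀).choose_spec V

lemma gluedJ_apply (V : Idx i q₀) (t : (V.1 : Scheme.{u})) :
    (gluedJ i q₀).base (V.1.ι.base t) =
      (colimit.ι (glueFunctor i q₀) V).base (V.ιF.base t) := by
  rw [← Scheme.Hom.comp_apply, ι_gluedJ, Scheme.Hom.comp_apply]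

variable (i q₀) in
lemma gluedJ_gluedP : gluedJ i q₀ ≫ gluedP i q₀ = q₀ ≫ i := by
  refine hom_ext_of_isOpenCover (fun V : Idx i q₀ => V.1) (isOpenCover_idx i q₀) _ _ fun V => ?_
  rw [ι_gluedJ_assoc, ι_gluedP, V.w_F, Category.assoc]

variable (i q₀) in
/-- **Lifting étale schemes along a thickening.** -/
theorem exists_etale_lift :
    ∃ (Y : Scheme.{u}) (q : Y ⟶ S) (j : Y₀ ⟶ Y), Etale q ∧ IsPullback j q₀ q i := by
  refine ⟨glued i q₀, gluedP i q₀, gluedJ i q₀, inferInstance, ?_⟩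
  obtain ⟨c, hc⟩ : ∃ c : Y₀ ⟶ pullback (gluedP i q₀) i,
      c = pullback.lift (gluedJ i q₀) q₀ (gluedJ_gluedP i q₀) := ⟨_, rfl⟩
  have hc1 : c ≫ pullback.fst _ _ = gluedJ i q₀ := by rw [hc]; exact pullback.lift_fst _ _ _
  have hc2 : c ≫ pullback.snd _ _ = q₀ := by rw [hc]; exact pullback.lift_snd _ _ _
  have hfc : ∀ t : Y₀, (pullback.fst (gluedP i q₀) i).base (c.base t) = (gluedJ i q₀).base t := by
    intro t
    rw [← Scheme.Hom.comp_apply, hc1]
  -- each `V.ι ≫ c` is an open immersion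
  have hopen : ∀ V : Idx i q₀, IsOpenImmersion (V.1.ι ≫ c) := by
    intro V
    have hbig : IsPullback ((V.1.ι ≫ c) ≫ pullback.snd (gluedP i q₀) i) V.ιF i
        (colimit.ι (glueFunctor i q₀) V ≫ gluedP i q₀) := by
      rw [Category.assoc, hc2, ι_gluedP]
      exact V.isPullback_F.flip
    have hsq := IsPullback.of_right hbig (by rw [Category.assoc, hc1, ι_gluedJ])
      (IsPullback.of_hasPullback (gluedP i q₀) i).flip
    exact MorphismProperty.of_isPullback (P := @IsOpenImmersion) hsq.flip inferInstance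
  have hinj : Function.Injective c.base := by
    intro y y' hyy'
    have hj : (gluedJ i q₀).base y = (gluedJ i q₀).base y' := by
      rw [← hfc, ← hfc, hyy']
    obtain ⟨V, hV⟩ := (isOpenCover_idx i q₀).exists_mem y
    obtain ⟨V', hV'⟩ := (isOpenCover_idx i q₀).exists_mem y'
    obtain ⟨t, rfl⟩ := exists_of_mem V.1 y hV
    obtain ⟨t', rfl⟩ := exists_of_mem V'.1 y' hV'
    rw [gluedJ_apply, gluedJ_apply] at hj
    obtain ⟨W, fi, fj, x, hx1, hx2⟩ :=
      (Scheme.IsLocallyDirected.ι_eq_ι_iff (glueFunctor i q₀)).mp hj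
    obtain ⟨z, rfl⟩ := W.surjective_ιF x
    rw [map_ιF_apply] at hx1 hx2
    have h1 := V.injective_ιF hx1
    have h2 := V'.injective_ιF hx2
    rw [← h1, ← h2, ι_homOfLE_apply, ι_homOfLE_apply]
  have hsurj : Function.Surjective c.base := by
    intro z
    obtain ⟨V, x, hx⟩ := Scheme.IsLocallyDirected.ι_jointly_surjective (glueFunctor i q₀)
      ((pullback.fst (gluedP i q₀) i).base z)
    obtain ⟨t, rfl⟩ := V.surjective_ιF x
    refine ⟨V.1.ι.base t, ?_⟩
    apply (pullback.fst (gluedP i q₀) i).isClosedEmbedding.injective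
    rw [hfc, gluedJ_apply]
    exact hx
  haveI : IsOpenImmersion c :=
    isOpenImmersion_of_isOpenCover (fun V : Idx i q₀ => V.1) (isOpenCover_idx i q₀) c hinj hopen
  haveI : Surjective c := ⟨hsurj⟩
  haveI : IsIso c := (isIso_iff_isOpenImmersion_and_surjective c).mpr ⟨inferInstance, inferInstance⟩
  exact IsPullback.of_iso_pullback ⟨gluedJ_gluedP i q₀⟩ (asIso c) hc1 hc2

end Glue

end Groth.Agent.Lib.Helper24.EtThick
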