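import Mathlib
import Groth.Agent.Lib.Helper24.EtThickGlue
import Groth.Agent.Lib.Helper28.Thick.Affine
import Groth.Agent.Lib.Helper1.Thickening

/-!
# Helper library (helper24): topological invariance of the étale site, as an equivalence

For a surjective closed immersion `i : S₀ ⟶ S` and a class `P` of étale morphisms which is stable
under base change and descends along `i`, base change `P.Over ⊤ S ⥤ P.Over ⊤ S₀` is an equivalence.
-/

set_option autoImplicit false
set_option maxHeartbeats 400000
set_option linter.style.haveILetI false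
universe u

namespace Groth.Agent.Lib.Helper24.EtThick

open CategoryTheory Limits AlgebraicGeometry
open Groth.Agent.Lib.Helper15

section Equiv

variable {S S₀ : Scheme.{u}} (i : S₀ ⟶ S) [IsClosedImmersion i] [Surjective i]
  (P : MorphismProperty Scheme.{u}) [P.IsStableUnderBaseChange] (hP : P ≤ @Etale)

include hP in
theorem faithful_pullback : (MorphismProperty.Over.pullback P ⊤ i).Faithful := by
  constructor
  intro X Y φ ψ h
  haveI : Etale Y.hom := hP _ Y.prop
  have e1 : ((MorphismProperty.Over.pullback P ⊤ i).map φ).left ≫ pullback.fst Y.hom i =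
      pullback.fst X.hom i ≫ φ.left := pullback.lift_fst _ _ _
  have e2 : ((MorphismProperty.Over.pullback P ⊤ i).map ψ).left ≫ pullback.fst Y.hom i =
      pullback.fst X.hom i ≫ ψ.left := pullback.lift_fst _ _ _
  have h1 : pullback.fst X.hom i ≫ φ.left = pullback.fst X.hom i ≫ ψ.left := by
    rw [← e1, ← e2, h]
  apply MorphismProperty.Over.Hom.ext
  exact ThickLift.unique_lift Y.hom X.hom (pullback.fst X.hom i) φ.left ψ.left
    (MorphismProperty.Over.w φ) (MorphismProperty.Over.w ψ) h1

include hP in
theorem full_pullback : (MorphismProperty.Over.pullback P ⊤ i).Full := by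
  constructor
  intro X Y h
  haveI : Etale Y.hom := hP _ Y.prop
  let hl : pullback X.hom i ⟶ pullback Y.hom i := h.left
  have hw : hl ≫ pullback.snd Y.hom i = pullback.snd X.hom i := MorphismProperty.Over.w h
  have h₀ : (hl ≫ pullback.fst Y.hom i) ≫ Y.hom = pullback.fst X.hom i ≫ X.hom := by
    rw [Category.assoc, pullback.condition, ← Category.assoc, hw, pullback.condition]
  obtain ⟨f, hf1, hf2⟩ := ThickLift.exists_lift Y.hom X.hom (pullback.fst X.hom i)
    (hl ≫ pullback.fst Y.hom i) h₀
  refine ⟨MorphismProperty.Over.homMk f hf1 trivial, ?_⟩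
  apply MorphismProperty.Over.Hom.ext
  change (pullback.lift (pullback.fst X.hom i ≫ f) (pullback.snd X.hom i) _ :
    pullback X.hom i ⟶ pullback Y.hom i) = hl
  apply pullback.hom_ext
  · rw [pullback.lift_fst]
    exact hf2
  · rw [pullback.lift_snd]
    exact hw.symm

include hP in
theorem essSurj_pullback
    (hdesc : ∀ {Y : Scheme.{u}} (q : Y ⟶ S), Etale q → P (pullback.snd q i) → P q) :
    (MorphismProperty.Over.pullback P ⊤ i).EssSurj := by
  constructor
  intro Y₀
  haveI : Etale Y₀.hom := hP _ Y₀.prop
  obtain ⟨Y, q, j, hq, hpb⟩ := exists_etale_lift i Y₀.hom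
  have hsnd : P (pullback.snd q i) := by
    rw [← P.cancel_left_of_respectsIso hpb.isoPullback.hom, hpb.isoPullback_hom_snd]
    exact Y₀.prop
  have hPq : P q := hdesc q hq hsnd
  refine ⟨MorphismProperty.Over.mk ⊤ q hPq, ⟨MorphismProperty.Over.isoMk hpb.isoPullback.symm ?_⟩⟩
  exact hpb.isoPullback_inv_snd

include hP in
theorem isEquivalence_pullback
    (hdesc : ∀ {Y : Scheme.{u}} (q : Y ⟶ S), Etale q → P (pullback.snd q i) → P q) :
    (MorphismProperty.Over.pullback P ⊤ i).IsEquivalence := by
  haveI := faithful_pullback i P hP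
  haveI := full_pullback i P hP
  haveI := essSurj_pullback i P hP hdesc
  exact { }

end Equiv

/-- Finiteness descends along a thickening of the base (for morphisms locally of finite type). -/
theorem isFinite_of_pullback_snd {S S₀ Y : Scheme.{u}} (i : S₀ ⟶ S) [IsClosedImmersion i]
    [Surjective i] (q : Y ⟶ S) [LocallyOfFiniteType q] (h : IsFinite (pullback.snd q i)) :
    IsFinite q := by
  rw [IsFinite.iff_isIntegralHom_and_locallyOfFiniteType]
  refine ⟨?_, inferInstance⟩
  have hint : IsIntegralHom (pullback.snd q i) := inferInstance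
  rw [IsIntegralHom.iff_universallyClosed_and_isAffineHom] at hint ⊢
  obtain ⟨h1, h2⟩ := hint
  have hX : MoreMor.IsThickening (pullback.fst q i) := ⟨inferInstance, inferInstance⟩
  have hS : MoreMor.IsThickening i := ⟨inferInstance, inferInstance⟩
  refine ⟨(Groth.Agent.Lib.Helper1.Thickening.universallyClosed_iff (pullback.fst q i) i
    (pullback.snd q i) q hX hS pullback.condition).mp h1, ?_⟩
  haveI : IsAffineHom (pullback.fst q i ≫ q) := by
    rw [pullback.condition]
    infer_instance
  exact Groth.Agent.Lib.Helper28.Thick.isAffineHom_of_comp (pullback.fst q i)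
    (pullback.fst q i).surjective q

end Groth.Agent.Lib.Helper24.EtThick
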