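import Mathlib
import Groth.Prelude.Def_Pi1
import Groth.Agent.S0237
import Groth.Agent.Lib.Helper24.FEtNormal

/-!
# Restriction of finite etale covers of a normal integral scheme to the generic point
is fully faithful
-/

set_option autoImplicit false
set_option maxHeartbeats 400000

universe u

namespace Groth.Agent.Lib.Helper24.FEtGeneric

open CategoryTheory CategoryTheory.Limits AlgebraicGeometry TopologicalSpace
open Groth.Agent.Lib.Helper24.FEtNormal

section

variable {X : Scheme.{u}} [IsIntegral X]

instance : NoetherianSpace ↥(Spec (X.presheaf.stalk (genericPoint X))) :=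
  inferInstanceAs (NoetherianSpace (PrimeSpectrum (X.functionField)))

theorem preimage_eq_top (W : X.Opens) [Nonempty W] :
    X.fromSpecStalk (genericPoint X) ⁻¹ᵁ W = ⊤ := by
  rw [eq_top_iff]
  intro z _
  have h1 : X.fromSpecStalk (genericPoint X) z ⤳ genericPoint X := by
    have : X.fromSpecStalk (genericPoint X) z ∈ Set.range (X.fromSpecStalk (genericPoint X)) :=
      ⟨z, rfl⟩
    rw [Scheme.range_fromSpecStalk] at this
    exact this
  have h2 : genericPoint X ∈ W :=
    ((genericPoint_spec X).mem_open_set_iff W.isOpen).mpr (by simpa using ‹Nonempty W›)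
  exact h1.mem_open W.isOpen h2

theorem isIso_fromNormalization_generic (hX : Pi1.IsNormalScheme X) :
    IsIso (X.fromSpecStalk (genericPoint X)).fromNormalization := by
  apply IsZariskiLocalAtTarget.of_forall_exists_morphismRestrict
    (P := MorphismProperty.isomorphisms Scheme) fun x => ?_
  obtain ⟨W, hW, hxW, -⟩ := Opens.isBasis_iff_nbhd.mp X.isBasis_affineOpens (Opens.mem_top x)
  have hW' : IsAffineOpen W := hW
  refine ⟨W, hxW, (isIso_morphismRestrict_iff_isIso_app _ hW').mpr ?_⟩
  haveI : Nonempty W := ⟨⟨x, hxW⟩⟩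
  rw [Scheme.Hom.fromNormalization_app _ hW']
  letI := ((X.fromSpecStalk (genericPoint X)).app W).hom.toAlgebra
  suffices h : Function.Bijective (algebraMap Γ(X, W) (integralClosure Γ(X, W)
      Γ(Spec (X.presheaf.stalk (genericPoint X)), X.fromSpecStalk (genericPoint X) ⁻¹ᵁ W))) by
    haveI : IsIso (CommRingCat.ofHom (algebraMap Γ(X, W) (integralClosure Γ(X, W)
      Γ(Spec (X.presheaf.stalk (genericPoint X)), X.fromSpecStalk (genericPoint X) ⁻¹ᵁ W)))) :=
      (ConcreteCategory.isIso_iff_bijective _).mpr h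
    infer_instance
  have hη : genericPoint X ∈ W :=
    ((genericPoint_spec X).mem_open_set_iff W.isOpen).mpr (by simpa using ‹Nonempty W›)
  -- the isomorphism `K ≅ Γ(Spec K, ι⁻¹W)`
  haveI : IsIso (homOfLE (le_top : X.fromSpecStalk (genericPoint X) ⁻¹ᵁ W ≤ ⊤)) :=
    ⟨⟨homOfLE (by rw [preimage_eq_top W]), Subsingleton.elim _ _, Subsingleton.elim _ _⟩⟩
  let σ : X.functionField ≅ Γ(Spec (X.presheaf.stalk (genericPoint X)),
      X.fromSpecStalk (genericPoint X) ⁻¹ᵁ W) :=
    (Scheme.ΓSpecIso (X.presheaf.stalk (genericPoint X))).symm ≪≫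
      asIso ((Spec (X.presheaf.stalk (genericPoint X))).presheaf.map
        (homOfLE (le_top : X.fromSpecStalk (genericPoint X) ⁻¹ᵁ W ≤ ⊤)).op)
  have hσ : X.germToFunctionField W ≫ σ.hom = (X.fromSpecStalk (genericPoint X)).app W := by
    rw [Scheme.fromSpecStalk_app hη]
    rfl
  have hσ' : ∀ r : Γ(X, W), σ.hom (X.germToFunctionField W r) =
      algebraMap Γ(X, W) Γ(Spec (X.presheaf.stalk (genericPoint X)),
        X.fromSpecStalk (genericPoint X) ⁻¹ᵁ W) r := fun r => by
    have := congrArg (fun k => k.hom r) hσ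
    exact this
  haveI : IsIntegrallyClosed Γ(X, W) := isIntegrallyClosed_sections hX hW'
  haveI := functionField_isFractionRing_of_isAffineOpen X W hW'
  constructor
  · intro a b hab
    have h1 := congrArg Subtype.val hab
    change algebraMap Γ(X, W) _ a = algebraMap Γ(X, W) _ b at h1
    rw [← hσ', ← hσ'] at h1
    have h2 := (ConcreteCategory.bijective_of_isIso σ.hom).1 h1
    exact X.germToFunctionField_injective W h2
  · rintro ⟨c, hc⟩
    obtain ⟨k, rfl⟩ := (ConcreteCategory.bijective_of_isIso σ.hom).2 c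
    have hk : IsIntegral Γ(X, W) k := by
      have := IsIntegral.map_of_comp_eq (RingHom.id Γ(X, W)) σ.inv.hom (by
        ext r
        simp only [RingHom.comp_apply, RingHom.id_apply]
        rw [← hσ' r]
        change algebraMap Γ(X, W) X.functionField r = σ.inv (σ.hom (X.germToFunctionField W r))
        rw [← CategoryTheory.comp_apply, Iso.hom_inv_id]
        rfl) hc
      have e : σ.inv.hom (σ.hom k) = k := by
        rw [← CategoryTheory.comp_apply, Iso.hom_inv_id]
        rfl
      rw [e] at this
      exact this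
    obtain ⟨r, hr⟩ := IsIntegrallyClosed.isIntegral_iff.mp hk
    refine ⟨r, Subtype.ext ?_⟩
    change algebraMap Γ(X, W) _ r = σ.hom k
    rw [← hσ', ← hr]
    rfl

end

end Groth.Agent.Lib.Helper24.FEtGeneric
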