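import Mathlib
import Groth.Prelude.Def_Pi1
import Groth.Agent.S0237
import Groth.Agent.Lib.Helper24.FEtGeneric

/-!
# Restriction of finite etale covers of a normal integral scheme to the generic point / to a
nonempty open is fully faithful
-/

set_option autoImplicit false
set_option maxHeartbeats 400000

universe u

namespace Groth.Agent.Lib.Helper24.FEtGenericFull

open CategoryTheory CategoryTheory.Limits AlgebraicGeometry TopologicalSpace
open Groth.Agent.Lib.Helper24.FEtGeneric

variable {X : Scheme.{u}} [IsIntegral X]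

theorem isIso_fromNormalization_snd (hX : Pi1.IsNormalScheme X) {Yl : Scheme.{u}} (q : Yl ⟶ X)
    [Etale q] :
    IsIso (pullback.snd (X.fromSpecStalk (genericPoint X)) q).fromNormalization := by
  haveI := isIso_fromNormalization_generic hX
  have h := Scheme.Hom.normalizationPullback_snd (X.fromSpecStalk (genericPoint X)) q
  rw [← h]
  infer_instance

theorem denseRange_fromSpecStalk_generic :
    DenseRange (X.fromSpecStalk (genericPoint X)).base := by
  intro x
  have h1 : genericPoint X ∈ Set.range (X.fromSpecStalk (genericPoint X)).base := by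
    refine ⟨IsLocalRing.closedPoint _, ?_⟩
    exact Scheme.fromSpecStalk_closedPoint
  have h2 : x ∈ closure ({genericPoint X} : Set X) :=
    specializes_iff_mem_closure.mp (genericPoint_specializes x)
  exact closure_mono (Set.singleton_subset_iff.mpr h1) h2

theorem full_generic (hX : Pi1.IsNormalScheme X) :
    (FEt.restrict (X.fromSpecStalk (genericPoint X))).Full := by
  constructor
  intro Y Y' g
  obtain ⟨ι, hι⟩ : ∃ ι : Spec (X.presheaf.stalk (genericPoint X)) ⟶ X,
    ι = X.fromSpecStalk (genericPoint X) := ⟨_, rfl⟩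
  have hY : IsFinite Y.hom ∧ Etale Y.hom := Y.prop
  have hY' : IsFinite Y'.hom ∧ Etale Y'.hom := Y'.prop
  obtain ⟨q, hq⟩ : ∃ q : Y.left ⟶ X, q = Y.hom := ⟨_, rfl⟩
  obtain ⟨q', hq'⟩ : ∃ q' : Y'.left ⟶ X, q' = Y'.hom := ⟨_, rfl⟩
  haveI : IsFinite q := hq ▸ hY.1
  haveI : Etale q := hq ▸ hY.2
  haveI : IsFinite q' := hq' ▸ hY'.1
  haveI : Etale q' := hq' ▸ hY'.2
  let gl : pullback q (X.fromSpecStalk (genericPoint X)) ⟶
      pullback q' (X.fromSpecStalk (genericPoint X)) := by
    rw [hq, hq']
    exact g.left
  have hw : gl ≫ pullback.snd q' (X.fromSpecStalk (genericPoint X)) =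
      pullback.snd q (X.fromSpecStalk (genericPoint X)) := by
    subst hq hq'
    exact MorphismProperty.Over.w g
  -- the data
  let σ := (pullbackSymmetry (X.fromSpecStalk (genericPoint X)) q).hom
  have hσ1 : σ ≫ pullback.fst q (X.fromSpecStalk (genericPoint X)) =
      pullback.snd (X.fromSpecStalk (genericPoint X)) q := pullbackSymmetry_hom_comp_fst _ _
  have hσ2 : σ ≫ pullback.snd q (X.fromSpecStalk (genericPoint X)) =
      pullback.fst (X.fromSpecStalk (genericPoint X)) q := pullbackSymmetry_hom_comp_snd _ _
  let j' := pullback.snd (X.fromSpecStalk (genericPoint X)) q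
  have hcond : j' ≫ q = (σ ≫ gl ≫ pullback.fst q' (X.fromSpecStalk (genericPoint X))) ≫ q' := by
    rw [Category.assoc, Category.assoc, pullback.condition, ← Category.assoc gl, hw,
      ← Category.assoc, hσ2, pullback.condition]
  let f₁ : pullback (X.fromSpecStalk (genericPoint X)) q ⟶ pullback q q' :=
    pullback.lift j' (σ ≫ gl ≫ pullback.fst q' (X.fromSpecStalk (genericPoint X))) hcond
  have H : j' = f₁ ≫ pullback.fst q q' := (pullback.lift_fst _ _ _).symm
  haveI : IsIso j'.fromNormalization := isIso_fromNormalization_snd hX q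
  let d := j'.normalizationDesc f₁ (pullback.fst q q') H
  have hd1 : j'.toNormalization ≫ d = f₁ := j'.toNormalization_normalizationDesc _ _ H
  have hd2 : d ≫ pullback.fst q q' = j'.fromNormalization := j'.normalizationDesc_comp _ _ H
  let h' : Y.left ⟶ Y'.left := inv j'.fromNormalization ≫ d ≫ pullback.snd q q'
  have hh' : h' ≫ q' = q := by
    simp only [h', Category.assoc]
    rw [← pullback.condition, ← Category.assoc d, hd2, IsIso.inv_hom_id_assoc]
  have hjh : j' ≫ h' = f₁ ≫ pullback.snd q q' := by
    have e0 : j' ≫ inv j'.fromNormalization = j'.toNormalization := by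
      rw [IsIso.comp_inv_eq]
      exact j'.toNormalization_fromNormalization.symm
    simp only [h']
    rw [← Category.assoc, e0, ← Category.assoc, hd1]
  subst hq hq'
  refine ⟨MorphismProperty.Over.homMk h' hh' trivial, ?_⟩
  apply MorphismProperty.Over.Hom.ext
  change (pullback.lift (pullback.fst Y.hom (X.fromSpecStalk (genericPoint X)) ≫ h')
    (pullback.snd Y.hom (X.fromSpecStalk (genericPoint X))) _ :
    pullback Y.hom (X.fromSpecStalk (genericPoint X)) ⟶
      pullback Y'.hom (X.fromSpecStalk (genericPoint X))) = g.left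
  apply pullback.hom_ext
  · rw [pullback.lift_fst]
    have e1 : σ ≫ pullback.fst Y.hom (X.fromSpecStalk (genericPoint X)) ≫ h' =
        σ ≫ g.left ≫ pullback.fst Y'.hom (X.fromSpecStalk (genericPoint X)) := by
      rw [← Category.assoc, hσ1, hjh, pullback.lift_snd]
      rfl
    exact (cancel_epi σ).mp e1
  · rw [pullback.lift_snd]
    exact hw.symm

theorem faithful_generic :
    (FEt.restrict (X.fromSpecStalk (genericPoint X))).Faithful :=
  Groth.Agent.S0237.result _ denseRange_fromSpecStalk_generic

end Groth.Agent.Lib.Helper24.FEtGenericFull
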