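import Mathlib
import Groth.Prelude.Def_Pi1
import Groth.Agent.S0237
import Groth.Agent.Lib.Helper24.FEtGenericFull

/-!
# Restriction of finite etale covers of a normal integral scheme to a nonempty open is
fully faithful
-/

set_option autoImplicit false
set_option maxHeartbeats 400000

universe u

namespace Groth.Agent.Lib.Helper24.FEtOpenFull

open CategoryTheory CategoryTheory.Limits AlgebraicGeometry TopologicalSpace
open Groth.Agent.Lib.Helper24.FEtGenericFull

variable {X : Scheme.{u}} [IsIntegral X]

theorem denseRange_fromSpecStalkOfMem (U : X.Opens) (hη : genericPoint X ∈ U) :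
    DenseRange (U.fromSpecStalkOfMem (genericPoint X) hη).base := by
  intro u
  obtain ⟨k, hk0⟩ : ∃ k, k = U.fromSpecStalkOfMem (genericPoint X) hη := ⟨_, rfl⟩
  rw [← hk0]
  have hk : k ≫ U.ι = X.fromSpecStalk (genericPoint X) := by
    rw [hk0]
    exact U.fromSpecStalkOfMem_ι _ _
  have h0 : U.ι (k (IsLocalRing.closedPoint _)) = genericPoint X := by
    rw [← Scheme.Hom.comp_apply, hk]
    exact Scheme.fromSpecStalk_closedPoint
  have h1 : k (IsLocalRing.closedPoint _) ⤳ u := by
    apply (Topology.IsInducing.specializes_iff U.ι.isOpenEmbedding.isInducing).mp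
    rw [h0]
    exact genericPoint_specializes _
  have h2 : ({k (IsLocalRing.closedPoint _)} : Set ↥U) ⊆ Set.range k.base := by
    rintro _ rfl
    exact ⟨_, rfl⟩
  exact closure_mono h2 (specializes_iff_mem_closure.mp h1)

theorem full_faithful_open (hX : Pi1.IsNormalScheme X) (U : X.Opens)
    (hU : (U : Set X).Nonempty) : (FEt.restrict U.ι).Full ∧ (FEt.restrict U.ι).Faithful := by
  have hη : genericPoint X ∈ U :=
    ((genericPoint_spec X).mem_open_set_iff U.isOpen).mpr (by simpa using hU)
  obtain ⟨k, hk0⟩ : ∃ k, k = U.fromSpecStalkOfMem (genericPoint X) hη := ⟨_, rfl⟩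
  have hk : X.fromSpecStalk (genericPoint X) = k ≫ U.ι := by
    rw [hk0]
    exact (U.fromSpecStalkOfMem_ι _ _).symm
  let e : FEt.restrict (X.fromSpecStalk (genericPoint X)) ≅ FEt.restrict U.ι ⋙ FEt.restrict k :=
    MorphismProperty.Over.pullbackComp k U.ι (X.fromSpecStalk (genericPoint X)) hk
  haveI : (FEt.restrict U.ι ⋙ FEt.restrict k).Full := by
    haveI := full_generic hX
    exact Functor.Full.of_iso e
  haveI : (FEt.restrict U.ι ⋙ FEt.restrict k).Faithful := by
    haveI := faithful_generic (X := X)
    exact Functor.Faithful.of_iso e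
  haveI : (FEt.restrict k).Faithful :=
    Groth.Agent.S0237.result k (hk0 ▸ denseRange_fromSpecStalkOfMem U hη)
  exact ⟨Functor.Full.of_comp_faithful _ (FEt.restrict k),
    Functor.Faithful.of_comp _ (FEt.restrict k)⟩

end Groth.Agent.Lib.Helper24.FEtOpenFull
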