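/-
Helper24 library (FibBasisA): transfer of injectivity / universal injectivity between
localizations of a linear map at submonoids `T₁ ≤ T₂`, and cokernels of localized maps.
-/
import Mathlib
import Groth.Prelude.Def_FlatCA
import Groth.Agent.Lib.Helper14.FlatOpen.Loc
import Groth.Agent.Lib.Helper8.LocalCriterion2

set_option autoImplicit false
set_option maxHeartbeats 400000
set_option linter.style.haveILetI false
universe u

open TensorProduct

namespace Groth.Agent.Lib.Helper24.FibBasisA

section abstract

variable {S : Type*} [CommRing S]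

/-- Injectivity transfers from a localization at `T₁` to a localization at `T₂ ≥ T₁`. -/
theorem injective_of_le {T₁ T₂ : Submonoid S} (hle : T₁ ≤ T₂)
    {P P' P₁ P₁' P₂ P₂' : Type*} [AddCommGroup P] [AddCommGroup P'] [AddCommGroup P₁]
    [AddCommGroup P₁'] [AddCommGroup P₂] [AddCommGroup P₂'] [Module S P] [Module S P']
    [Module S P₁] [Module S P₁'] [Module S P₂] [Module S P₂']
    (ℓ₁ : P →ₗ[S] P₁) (ℓ₁' : P' →ₗ[S] P₁') (ℓ₂ : P →ₗ[S] P₂) (ℓ₂' : P' →ₗ[S] P₂')
    [IsLocalizedModule T₁ ℓ₁] [IsLocalizedModule T₂ ℓ₂] [IsLocalizedModule T₂ ℓ₂']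
    (B : P →ₗ[S] P') (A₁ : P₁ →ₗ[S] P₁') (A₂ : P₂ →ₗ[S] P₂')
    (h₁ : ∀ x, A₁ (ℓ₁ x) = ℓ₁' (B x)) (h₂ : ∀ x, A₂ (ℓ₂ x) = ℓ₂' (B x))
    (hA₁ : Function.Injective A₁) : Function.Injective A₂ := by
  refine IsLocalizedModule.injective_of_map_zero T₂ ℓ₂ (fun m hm => ?_)
  rw [h₂] at hm
  obtain ⟨s, hs⟩ := (IsLocalizedModule.eq_zero_iff T₂ ℓ₂').1 hm
  have hs' : (s : S) • B m = 0 := hs
  have h3 : A₁ (ℓ₁ ((s : S) • m)) = A₁ 0 := by
    rw [h₁, map_smul, hs', map_zero, map_zero]
  have h4 := hA₁ h3
  obtain ⟨s', hs''⟩ := (IsLocalizedModule.eq_zero_iff T₁ ℓ₁).1 h4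
  have hs3 : (s' : S) • ((s : S) • m) = 0 := hs''
  refine (IsLocalizedModule.eq_zero_iff T₂ ℓ₂).2 ⟨⟨(s' : S), hle s'.2⟩ * s, ?_⟩
  show ((s' : S) * (s : S)) • m = 0
  rw [mul_smul]; exact hs3

end abstract

section tower

variable {R S : Type u} [CommRing R] [CommRing S] [Algebra R S]
  {M N : Type u} [AddCommGroup M] [Module S M] [Module R M] [IsScalarTower R S M]
  [AddCommGroup N] [Module S N] [Module R N] [IsScalarTower R S N]

lemma rTensor_apply_eq (Q : Type u) [AddCommGroup Q] [Module R Q]
    (g : M →ₗ[S] N) (g' : M →ₗ[R] N) (h : ∀ x, g x = g' x) (z : M ⊗[R] Q) :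
    AlgebraTensorModule.rTensor R Q g z = g'.rTensor Q z := by
  induction z using TensorProduct.induction_on with
  | zero => simp
  | tmul m q => simp [h]
  | add a b ha hb => rw [map_add, map_add, ha, hb]

lemma rTensor_map_mk (T : Submonoid S) (u : M →ₗ[S] N) (Q : Type u) [AddCommGroup Q]
    [Module R Q] (x : M ⊗[R] Q) :
    AlgebraTensorModule.rTensor R Q ((LocalizedModule.map T u).restrictScalars S)
      (AlgebraTensorModule.rTensor R Q (LocalizedModule.mkLinearMap T M) x) =
    AlgebraTensorModule.rTensor R Q (LocalizedModule.mkLinearMap T N)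
      (AlgebraTensorModule.rTensor R Q u x) := by
  induction x using TensorProduct.induction_on with
  | zero => simp
  | tmul m q =>
    simp only [AlgebraTensorModule.rTensor_tmul, LinearMap.restrictScalars_apply,
      LocalizedModule.mkLinearMap_apply, LocalizedModule.map_mk]
  | add a b ha hb => simp only [map_add, ha, hb]

lemma rTensor_restrictScalars_injective_iff (T : Submonoid S) (u : M →ₗ[S] N) (Q : Type u)
    [AddCommGroup Q] [Module R Q] :
    Function.Injective
      (AlgebraTensorModule.rTensor R Q ((LocalizedModule.map T u).restrictScalars S)) ↔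
    Function.Injective (((LocalizedModule.map T u).restrictScalars R).rTensor Q) := by
  have e : ∀ z, AlgebraTensorModule.rTensor R Q ((LocalizedModule.map T u).restrictScalars S) z =
      ((LocalizedModule.map T u).restrictScalars R).rTensor Q z :=
    rTensor_apply_eq Q _ _ (fun x => rfl)
  constructor
  · intro h a b hab
    rw [← e, ← e] at hab
    exact h hab
  · intro h a b hab
    rw [e, e] at hab
    exact h hab

/-- Universal injectivity (over `R`) of a localized map passes to further localizations. -/
theorem univInj_map_of_le {T₁ T₂ : Submonoid S} (hle : T₁ ≤ T₂) (u : M →ₗ[S] N)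
    (h : FlatCA.UnivInj R ((LocalizedModule.map T₁ u).restrictScalars R)) :
    FlatCA.UnivInj R ((LocalizedModule.map T₂ u).restrictScalars R) := by
  intro Q _ _
  rw [LinearMap.lTensor_inj_iff_rTensor_inj, ← rTensor_restrictScalars_injective_iff]
  have h1 := (rTensor_restrictScalars_injective_iff T₁ u Q).2
    ((LinearMap.lTensor_inj_iff_rTensor_inj _ _).1 (h Q))
  exact injective_of_le hle
    (AlgebraTensorModule.rTensor R Q (LocalizedModule.mkLinearMap T₁ M))
    (AlgebraTensorModule.rTensor R Q (LocalizedModule.mkLinearMap T₁ N))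
    (AlgebraTensorModule.rTensor R Q (LocalizedModule.mkLinearMap T₂ M))
    (AlgebraTensorModule.rTensor R Q (LocalizedModule.mkLinearMap T₂ N))
    (AlgebraTensorModule.rTensor R Q u)
    (AlgebraTensorModule.rTensor R Q ((LocalizedModule.map T₁ u).restrictScalars S))
    (AlgebraTensorModule.rTensor R Q ((LocalizedModule.map T₂ u).restrictScalars S))
    (rTensor_map_mk T₁ u Q) (rTensor_map_mk T₂ u Q) h1

/-- Injectivity of a localized map passes to further localizations. -/
theorem injective_map_of_le {T₁ T₂ : Submonoid S} (hle : T₁ ≤ T₂) (u : M →ₗ[S] N)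
    (h : Function.Injective (LocalizedModule.map T₁ u)) :
    Function.Injective (LocalizedModule.map T₂ u) := by
  have h2 := injective_of_le hle
    (LocalizedModule.mkLinearMap T₁ M) (LocalizedModule.mkLinearMap T₁ N)
    (LocalizedModule.mkLinearMap T₂ M) (LocalizedModule.mkLinearMap T₂ N) u
    ((LocalizedModule.map T₁ u).restrictScalars S)
    ((LocalizedModule.map T₂ u).restrictScalars S)
    (fun x => by
      simp only [LinearMap.restrictScalars_apply, LocalizedModule.mkLinearMap_apply,
        LocalizedModule.map_mk])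
    (fun x => by
      simp only [LinearMap.restrictScalars_apply, LocalizedModule.mkLinearMap_apply,
        LocalizedModule.map_mk]) h
  exact h2

omit [Algebra R S] in
lemma injective_of_univInj {M N : Type u} [AddCommGroup M] [AddCommGroup N] [Module R M]
    [Module R N] (f : M →ₗ[R] N) (h : FlatCA.UnivInj R f) : Function.Injective f := by
  have h1 := (LinearMap.lTensor_inj_iff_rTensor_inj _ _).1 (h R)
  intro x y hxy
  have h2 : f.rTensor R (x ⊗ₜ[R] (1 : R)) = f.rTensor R (y ⊗ₜ[R] (1 : R)) := by
    rw [LinearMap.rTensor_tmul, LinearMap.rTensor_tmul, hxy]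
  have h3 := h1 h2
  have h4 := congrArg (TensorProduct.rid R M) h3
  rwa [TensorProduct.rid_tmul, TensorProduct.rid_tmul, one_smul, one_smul] at h4

lemma map_exact' (T : Submonoid S) {M₀ M₁ M₂ : Type u} [AddCommGroup M₀] [AddCommGroup M₁]
    [AddCommGroup M₂] [Module S M₀] [Module S M₁] [Module S M₂]
    (f : M₀ →ₗ[S] M₁) (g : M₁ →ₗ[S] M₂) (ex : Function.Exact f g) :
    Function.Exact (LocalizedModule.map T f) (LocalizedModule.map T g) :=
  LocalizedModule.map_exact T f g ex

/-- The cokernel of the localized map is the localized cokernel, for flatness over `R`. -/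
theorem flat_localized_coker_iff (T : Submonoid S) (u : M →ₗ[S] N) :
    Module.Flat R (LocalizedModule T N ⧸ LinearMap.range (LocalizedModule.map T u)) ↔
      Module.Flat R (LocalizedModule T (N ⧸ LinearMap.range u)) := by
  have hex := map_exact' T u (LinearMap.range u).mkQ (LinearMap.exact_map_mkQ_range u)
  have hsurj := LocalizedModule.map_surjective T (LinearMap.range u).mkQ
    (Submodule.mkQ_surjective (LinearMap.range u))
  let e := (hex.linearEquivOfSurjective hsurj).restrictScalars R
  exact ⟨fun h => Module.Flat.of_linearEquiv e.symm, fun h => Module.Flat.of_linearEquiv e⟩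

/-- If the localized map is injective and the localized cokernel is flat, then the localized
target is flat (the source being flat). -/
theorem flat_localized_of_injective_of_flat_coker (T : Submonoid S) (u : M →ₗ[S] N)
    [Module.Flat R M] (hinj : Function.Injective (LocalizedModule.map T u))
    (hC : Module.Flat R (LocalizedModule T (N ⧸ LinearMap.range u))) :
    Module.Flat R (LocalizedModule T N) := by
  haveI : Module.Flat R (LocalizedModule T M) :=
    Groth.Agent.Lib.Helper14.FlatOpen.flat_of_isLocalizedModule (A := R) T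
      (LocalizedModule.mkLinearMap T M) inferInstance
  have hex := map_exact' T u (LinearMap.range u).mkQ (LinearMap.exact_map_mkQ_range u)
  have hsurj := LocalizedModule.map_surjective T (LinearMap.range u).mkQ
    (Submodule.mkQ_surjective (LinearMap.range u))
  exact Groth.Agent.Lib.Helper8.flat_of_exact_of_flat_of_flat
    ((LocalizedModule.map T u).restrictScalars R)
    ((LocalizedModule.map T (LinearMap.range u).mkQ).restrictScalars R) hinj hsurj hex

end tower

end Groth.Agent.Lib.Helper24.FibBasisA
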