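/-
Helper24 library (FibBasisB): for a finitely presented flat algebra `R → S` with geometrically
integral fibres: annihilator lemma via nonzerodivisors on the fibre, and universal injectivity
of a localization of `α : S^r → N` from bijectivity of `α_h` (Stacks 05I3-type argument).
-/
import Mathlib
import Groth.Prelude.Def_FlatCA
import Groth.Agent.Lib.Helper24.EssFPGlobal
import Groth.Agent.Lib.Helper24.FibBasisA
import Groth.Agent.S1223

set_option autoImplicit false
set_option maxHeartbeats 400000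
set_option linter.style.haveILetI false
universe u

open TensorProduct

namespace Groth.Agent.Lib.Helper24.FibBasisB

open Groth.Agent.Lib.Helper9 Groth.Agent.Lib.Helper24.EssFPGlobal
  Groth.Agent.Lib.Helper24.FibBasisA

section R0

variable {R S : Type u} [CommRing R] [CommRing S] [Algebra R S] [Algebra.FinitePresentation R S]
  (N : Type u) [AddCommGroup N] [Module S N] [Module R N] [IsScalarTower R S N]
  [Module.FinitePresentation S N] [Module.Flat R N]

set_option maxHeartbeats 1600000 in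
/-- If `j` kills `z ∈ N ⊗_R Q` and `j` is a nonzerodivisor on the fibre module of `N` over
`p₀ = q₀ ∩ R`, then `z` is killed by an element outside `q₀`. -/
theorem exists_smul_eq_zero_of_nzd_fiber (Q : Type u) [AddCommGroup Q] [Module R Q]
    (z : N ⊗[R] Q) (q₀ : Ideal S) [q₀.IsPrime] (p₀ : Ideal R) [p₀.IsPrime]
    (hp₀ : q₀.comap (algebraMap R S) = p₀) (j : S) (hjz : j • z = 0)
    (hj : ∀ m : FlatCA.fiberMod p₀ S N, j • m = 0 → m = 0) :
    ∃ c : q₀.primeCompl, c • z = 0 := by
  haveI hflat₁ : Module.Flat R (LocalizedModule q₀.primeCompl N) :=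
    Groth.Agent.Lib.Helper14.FlatOpen.flat_of_isLocalizedModule (A := R) q₀.primeCompl
      (LocalizedModule.mkLinearMap q₀.primeCompl N) inferInstance
  have hmax : (IsLocalRing.maximalIdeal (Localization.AtPrime q₀)).comap
      (algebraMap R (Localization.AtPrime q₀)) = p₀ := by
    rw [IsScalarTower.algebraMap_eq R S (Localization.AtPrime q₀), ← Ideal.comap_comap]
    have h5 : (IsLocalRing.maximalIdeal (Localization.AtPrime q₀)).comap
        (algebraMap S (Localization.AtPrime q₀)) = q₀ := Localization.AtPrime.under_maximalIdeal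
    rw [h5, hp₀]
  have hI : ((IsLocalRing.maximalIdeal (Localization.AtPrime q₀)).comap
      (algebraMap R (Localization.AtPrime q₀))).map (algebraMap R (Localization.AtPrime q₀)) =
      (p₀.map (algebraMap R S)).map (algebraMap S (Localization.AtPrime q₀)) := by
    rw [hmax, Ideal.map_map, ← IsScalarTower.algebraMap_eq]
  have huniv := univInj_smul' (R := R) (S := Localization.AtPrime q₀)
    (LocalizedModule q₀.primeCompl N) (S₀ := S) q₀.primeCompl
    (algebraMap S (Localization.AtPrime q₀) j) (by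
      intro x hx
      rw [hI] at hx ⊢
      exact mem_of_smul_mem_localized p₀ N q₀ hp₀ j hj x hx)
  have hkey : ∀ w : N ⊗[R] Q, (algebraMap S (Localization.AtPrime q₀) j) •
      (AlgebraTensorModule.rTensor R Q (LocalizedModule.mkLinearMap q₀.primeCompl N) w) =
      AlgebraTensorModule.rTensor R Q (LocalizedModule.mkLinearMap q₀.primeCompl N) (j • w) := by
    intro w
    rw [map_smul, algebraMap_smul]
  have hz₁ : AlgebraTensorModule.rTensor R Q
      (LocalizedModule.mkLinearMap q₀.primeCompl N) z = 0 := by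
    have h5 := (LinearMap.lTensor_inj_iff_rTensor_inj _ _).1 (huniv Q)
    apply h5
    rw [map_zero, rTensor_lsmul', hkey, hjz, map_zero]
  exact (IsLocalizedModule.eq_zero_iff q₀.primeCompl
    (AlgebraTensorModule.rTensor R Q (LocalizedModule.mkLinearMap q₀.primeCompl N))).1 hz₁

/-- Element version of `exists_smul_eq_zero_of_nzd_fiber`. -/
theorem exists_smul_eq_zero_of_nzd_fiber' (x : N) (q₀ : Ideal S) [q₀.IsPrime] (p₀ : Ideal R)
    [p₀.IsPrime] (hp₀ : q₀.comap (algebraMap R S) = p₀) (j : S) (hjx : j • x = 0)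
    (hj : ∀ m : FlatCA.fiberMod p₀ S N, j • m = 0 → m = 0) :
    ∃ c : q₀.primeCompl, (c : S) • x = 0 := by
  obtain ⟨c, hc⟩ := exists_smul_eq_zero_of_nzd_fiber N R (x ⊗ₜ[R] (1 : R)) q₀ p₀ hp₀ j
    (by rw [TensorProduct.smul_tmul', hjx, TensorProduct.zero_tmul]) hj
  refine ⟨c, ?_⟩
  have hc' : (c : S) • (x ⊗ₜ[R] (1 : R)) = 0 := hc
  have h1 : ((c : S) • x) ⊗ₜ[R] (1 : R) = 0 := by
    rw [← TensorProduct.smul_tmul']; exact hc'
  have h2 := congrArg (TensorProduct.rid R N) h1
  rw [TensorProduct.rid_tmul, one_smul, map_zero] at h2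
  exact h2

end R0

section geom

attribute [local instance] Algebra.TensorProduct.rightAlgebra

variable {R S : Type u} [CommRing R] [CommRing S] [Algebra R S]

theorem fiber_isDomain (hgi : FlatCA.GeomIntegralFibres R S) (p₀ : Ideal R) [p₀.IsPrime] :
    IsDomain (p₀.Fiber S) := by
  haveI := Groth.Agent.S1223.domain_of_geomIntegral hgi p₀.ResidueField
  exact MulEquiv.isDomain _
    (Algebra.TensorProduct.comm R p₀.ResidueField S).toRingEquiv.toMulEquiv

theorem map_isPrime (hgi : FlatCA.GeomIntegralFibres R S) [Module.Flat R S] (p₀ : Ideal R)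
    [p₀.IsPrime] : (p₀.map (algebraMap R S)).IsPrime := by
  haveI := fiber_isDomain hgi p₀
  rw [← Groth.Agent.S1223.ker_includeRight p₀]
  exact RingHom.ker_isPrime _

lemma iota_ne_zero [Module.Flat R S] (p₀ : Ideal R) [p₀.IsPrime] {j : S}
    (hj : j ∉ p₀.map (algebraMap R S)) : FiberAss.iota p₀ S j ≠ 0 := by
  intro h0
  apply hj
  rw [← Groth.Agent.S1223.ker_includeRight p₀]
  exact (RingHom.mem_ker).2 h0

lemma nzd_fiber_aux (hgi : FlatCA.GeomIntegralFibres R S) [Module.Flat R S] (p₀ : Ideal R)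
    [p₀.IsPrime] (F : Type u) [AddCommGroup F] [Module S F] [Module.Free S F] {j : S}
    (hj : j ∉ p₀.map (algebraMap R S)) (m : (p₀.Fiber S) ⊗[S] F) (hm : j • m = 0) : m = 0 := by
  haveI := fiber_isDomain hgi p₀
  rw [FiberAss.smul_eq] at hm
  have hreg : Function.Injective (fun m : (p₀.Fiber S) ⊗[S] F => FiberAss.iota p₀ S j • m) :=
    Module.Flat.isSMulRegular_of_nonZeroDivisors (M := (p₀.Fiber S) ⊗[S] F)
      (mem_nonZeroDivisors_of_ne_zero (iota_ne_zero p₀ hj))
  exact hreg (hm.trans (smul_zero _).symm)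

lemma nzd_fiber (hgi : FlatCA.GeomIntegralFibres R S) [Module.Flat R S] (p₀ : Ideal R)
    [p₀.IsPrime] (F : Type u) [AddCommGroup F] [Module S F] [Module R F] [IsScalarTower R S F]
    [Module.Free S F] {j : S} (hj : j ∉ p₀.map (algebraMap R S)) :
    ∀ m : FlatCA.fiberMod p₀ S F, j • m = 0 → m = 0 :=
  fun m hm => nzd_fiber_aux hgi p₀ F hj m hm

end geom

section key

variable {R S : Type u} [CommRing R] [CommRing S] [Algebra R S] [Algebra.FinitePresentation R S]
  [Module.Flat R S]

lemma rTensor_injective_of_bijective {M₁ M₂ : Type u} [AddCommGroup M₁] [AddCommGroup M₂]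
    [Module R M₁] [Module R M₂] (f : M₁ →ₗ[R] M₂) (hf : Function.Bijective f) (Q : Type u)
    [AddCommGroup Q] [Module R Q] : Function.Injective (f.rTensor Q) := by
  obtain ⟨e, he⟩ : ∃ e : M₁ ≃ₗ[R] M₂, ∀ x, e x = f x :=
    ⟨LinearEquiv.ofBijective f hf, fun x => rfl⟩
  have key : ∀ z, (e.symm.toLinearMap.rTensor Q) ((f.rTensor Q) z) = z := by
    intro z
    induction z using TensorProduct.induction_on with
    | zero => simp
    | tmul m q =>
      rw [LinearMap.rTensor_tmul, LinearMap.rTensor_tmul]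
      congr 1
      show e.symm (f m) = m
      rw [← he, e.symm_apply_apply]
    | add x y hx hy => rw [map_add, map_add, hx, hy]
  intro a b hab
  rw [← key a, hab, key b]

set_option maxHeartbeats 1600000 in
/-- If `α_h` is bijective and `h ∉ (q₀ ∩ R) S` for all primes `q₀` disjoint from `T`, then
`α_T` is universally injective over `R`. -/
theorem univInj_map_of_bijective_away (hgi : FlatCA.GeomIntegralFibres R S)
    {N : Type u} [AddCommGroup N] [Module S N] [Module R N] [IsScalarTower R S N] {r : ℕ}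
    (α : (Fin r → S) →ₗ[S] N) (T : Submonoid S) (h : S)
    (hbij : Function.Bijective (LocalizedModule.map (Submonoid.powers h) α))
    (hh : ∀ (q₀ : Ideal S) [q₀.IsPrime], Disjoint (q₀ : Set S) (T : Set S) →
      h ∉ (q₀.comap (algebraMap R S)).map (algebraMap R S)) :
    FlatCA.UnivInj R ((LocalizedModule.map T α).restrictScalars R) := by
  classical
  intro Q _ _
  rw [LinearMap.lTensor_inj_iff_rTensor_inj, ← rTensor_restrictScalars_injective_iff]
  haveI : Module.Flat R (Fin r → S) := Module.Flat.trans R S _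
  refine IsLocalizedModule.injective_of_map_zero T
    (AlgebraTensorModule.rTensor R Q (LocalizedModule.mkLinearMap T (Fin r → S)))
    (fun z₀ hz₀ => ?_)
  rw [rTensor_map_mk] at hz₀
  obtain ⟨w₁, hw₁⟩ := (IsLocalizedModule.eq_zero_iff T
    (AlgebraTensorModule.rTensor R Q (LocalizedModule.mkLinearMap T N))).1 hz₀
  have hw₁' : (w₁ : S) • (AlgebraTensorModule.rTensor R Q α z₀) = 0 := hw₁
  obtain ⟨z₁, hz₁⟩ : ∃ z₁, z₁ = (w₁ : S) • z₀ := ⟨_, rfl⟩
  have hBz₁ : AlgebraTensorModule.rTensor R Q α z₁ = 0 := by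
    rw [hz₁, map_smul]; exact hw₁'
  have hinjh : Function.Injective (AlgebraTensorModule.rTensor R Q
      ((LocalizedModule.map (Submonoid.powers h) α).restrictScalars S)) := by
    rw [rTensor_restrictScalars_injective_iff]
    exact rTensor_injective_of_bijective
      ((LocalizedModule.map (Submonoid.powers h) α).restrictScalars R) hbij Q
  have h3 : AlgebraTensorModule.rTensor R Q
      (LocalizedModule.mkLinearMap (Submonoid.powers h) (Fin r → S)) z₁ = 0 := by
    apply hinjh
    rw [rTensor_map_mk, hBz₁, map_zero, map_zero]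
  obtain ⟨⟨_, k, rfl⟩, hk⟩ := (IsLocalizedModule.eq_zero_iff (Submonoid.powers h)
    (AlgebraTensorModule.rTensor R Q
      (LocalizedModule.mkLinearMap (Submonoid.powers h) (Fin r → S)))).1 h3
  have hk' : (h ^ k) • z₁ = 0 := hk
  have hclaim : ∃ w₂ : T, (w₂ : S) • z₁ = 0 := by
    by_contra hno
    push Not at hno
    have hdisj : Disjoint ((Submodule.span S {z₁}).annihilator : Set S) (T : Set S) := by
      rw [Set.disjoint_left]
      intro s hs hsT
      exact hno ⟨s, hsT⟩ ((Submodule.mem_annihilator_span_singleton z₁ s).1 hs)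
    obtain ⟨q₀, hq₀, hJq₀, hq₀T⟩ := Ideal.exists_le_prime_disjoint _ T hdisj
    haveI := hq₀
    obtain ⟨p₀, hp₀⟩ : ∃ p₀ : Ideal R, q₀.comap (algebraMap R S) = p₀ := ⟨_, rfl⟩
    haveI : p₀.IsPrime := by
      rw [← hp₀]
      exact Ideal.comap_isPrime _ _
    have hh' : h ∉ p₀.map (algebraMap R S) := by
      rw [← hp₀]
      exact hh q₀ hq₀T
    haveI := map_isPrime hgi p₀
    have hhk : h ^ k ∉ p₀.map (algebraMap R S) := fun hmem =>
      hh' (Ideal.IsPrime.mem_of_pow_mem inferInstance k hmem)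
    obtain ⟨c, hc⟩ := exists_smul_eq_zero_of_nzd_fiber (Fin r → S) Q z₁ q₀ p₀ hp₀ (h ^ k) hk'
      (nzd_fiber hgi p₀ (Fin r → S) hhk)
    have hc' : (c : S) • z₁ = 0 := hc
    exact c.2 (hJq₀ ((Submodule.mem_annihilator_span_singleton z₁ (c : S)).2 hc'))
  obtain ⟨w₂, hw₂⟩ := hclaim
  refine (IsLocalizedModule.eq_zero_iff T _).2 ⟨w₂ * w₁, ?_⟩
  show ((w₂ : S) * (w₁ : S)) • z₀ = 0
  rw [mul_smul, ← hz₁]; exact hw₂

/-- Openness of the image of `D(h)`: a basic open neighbourhood `D(f)` of `rr` all of whose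
points lift to primes of `S` not containing `h`. -/
theorem exists_notMem_forall_exists_prime (rr : Ideal R) [rr.IsPrime] (P : Ideal S) [P.IsPrime]
    (hP : P.comap (algebraMap R S) = rr) (h : S) (hh : h ∉ P) :
    ∃ f : R, f ∉ rr ∧ ∀ (p₀ : Ideal R) [p₀.IsPrime], f ∉ p₀ →
      ∃ q' : Ideal S, q'.IsPrime ∧ q'.comap (algebraMap R S) = p₀ ∧ h ∉ q' := by
  have hopen : IsOpen (PrimeSpectrum.comap (algebraMap R S) ''
      (PrimeSpectrum.basicOpen h : Set (PrimeSpectrum S))) :=
    PrimeSpectrum.isOpenMap_comap_of_hasGoingDown_of_finitePresentation _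
      (PrimeSpectrum.basicOpen h).isOpen
  have hmem : (⟨rr, inferInstance⟩ : PrimeSpectrum R) ∈
      PrimeSpectrum.comap (algebraMap R S) ''
        (PrimeSpectrum.basicOpen h : Set (PrimeSpectrum S)) := by
    refine ⟨⟨P, inferInstance⟩, hh, ?_⟩
    exact PrimeSpectrum.ext hP
  obtain ⟨_, ⟨f, rfl⟩, hfmem, hfsub⟩ :=
    PrimeSpectrum.isTopologicalBasis_basic_opens.exists_subset_of_mem_open hmem hopen
  refine ⟨f, hfmem, fun p₀ _ hfp₀ => ?_⟩
  obtain ⟨q', hq'h, hq'⟩ := hfsub
    (show (⟨p₀, inferInstance⟩ : PrimeSpectrum R) ∈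
      (PrimeSpectrum.basicOpen f : Set (PrimeSpectrum R)) from hfp₀)
  exact ⟨q'.asIdeal, q'.isPrime, congrArg PrimeSpectrum.asIdeal hq', hq'h⟩

end key

end Groth.Agent.Lib.Helper24.FibBasisB
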