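/-
Helper24 library (FibBasisC): for `α : S^r → N` inducing an injection / bijection on the fibre
`κ(𝔭)`, `𝔭 = 𝔯S`: injectivity and flat cokernel at primes over `𝔯` (via Stacks 046Y),
surjectivity at `𝔭`, and `S_q ⊂ S_𝔭`.
-/
import Mathlib
import Groth.Prelude.Def_FlatCA
import Groth.Agent.Lib.Helper24.FibBasisB
import Groth.Agent.Lib.Helper24.EssFPInj2

set_option autoImplicit false
set_option maxHeartbeats 400000
set_option linter.style.haveILetI false
universe u

open TensorProduct

namespace Groth.Agent.Lib.Helper24.FibBasisC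

open Groth.Agent.Lib.Helper9 Groth.Agent.Lib.Helper24.FibBasisA
  Groth.Agent.Lib.Helper24.FibBasisB

section general

variable {S : Type u} [CommRing S] (𝔭 : Ideal S) [𝔭.IsPrime]

lemma one_tmul_eq_zero_of_mem {N : Type u} [AddCommGroup N] [Module S N] {n : N}
    (hn : n ∈ 𝔭 • (⊤ : Submodule S N)) : (1 : 𝔭.ResidueField) ⊗ₜ[S] n = 0 := by
  refine Submodule.smul_induction_on hn ?_ ?_
  · intro a ha n' _
    rw [← TensorProduct.smul_tmul, Algebra.smul_def, mul_one,
      Ideal.algebraMap_residueField_eq_zero.2 ha, TensorProduct.zero_tmul]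
  · intro x y hx hy
    rw [TensorProduct.tmul_add, hx, hy, add_zero]

omit [𝔭.IsPrime] in
lemma mem_smul_top_of_forall_mem {r : ℕ} (v : Fin r → S) (hv : ∀ i, v i ∈ 𝔭) :
    v ∈ 𝔭 • (⊤ : Submodule S (Fin r → S)) := by
  classical
  rw [pi_eq_sum_univ' v]
  exact Submodule.sum_mem _ (fun i _ => Submodule.smul_mem_smul (hv i) Submodule.mem_top)

lemma forall_mem_of_one_tmul_eq_zero {r : ℕ} (v : Fin r → S)
    (hv : (1 : 𝔭.ResidueField) ⊗ₜ[S] v = 0) : ∀ i, v i ∈ 𝔭 := by
  intro i
  have h1 := congrArg (fun w =>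
    TensorProduct.piScalarRight S 𝔭.ResidueField 𝔭.ResidueField (Fin r) w i) hv
  simp only [TensorProduct.piScalarRight_apply, TensorProduct.piScalarRightHom_tmul, map_zero,
    Pi.zero_apply] at h1
  rw [Algebra.smul_def, mul_one] at h1
  exact Ideal.algebraMap_residueField_eq_zero.1 h1

variable {N : Type u} [AddCommGroup N] [Module S N]

lemma mem_of_map_mem (Q₀ : Ideal S) [Q₀.IsPrime] {r : ℕ} (α : (Fin r → S) →ₗ[S] N)
    (hα : Function.Injective (α.baseChange 𝔭.ResidueField))
    (x : LocalizedModule Q₀.primeCompl (Fin r → S))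
    (hx : LocalizedModule.map Q₀.primeCompl α x ∈
      (𝔭.map (algebraMap S (Localization.AtPrime Q₀))) •
        (⊤ : Submodule (Localization.AtPrime Q₀) (LocalizedModule Q₀.primeCompl N))) :
    x ∈ (𝔭.map (algebraMap S (Localization.AtPrime Q₀))) •
        (⊤ : Submodule (Localization.AtPrime Q₀)
          (LocalizedModule Q₀.primeCompl (Fin r → S))) := by
  have hloc : ∀ (X : Type u) [AddCommGroup X] [Module S X],
      (𝔭.map (algebraMap S (Localization.AtPrime Q₀))) •
        (⊤ : Submodule (Localization.AtPrime Q₀) (LocalizedModule Q₀.primeCompl X)) =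
      Submodule.localized' (Localization.AtPrime Q₀) Q₀.primeCompl
        (LocalizedModule.mkLinearMap Q₀.primeCompl X) (𝔭 • (⊤ : Submodule S X)) := by
    intro X _ _
    rw [Submodule.localized'_smul, Ideal.localized'_eq_map, Submodule.localized'_top]
  rw [hloc] at hx ⊢
  obtain ⟨⟨m, t⟩, hmt⟩ := IsLocalizedModule.mk'_surjective Q₀.primeCompl
    (LocalizedModule.mkLinearMap Q₀.primeCompl (Fin r → S)) x
  have hxe : x = IsLocalizedModule.mk'
      (LocalizedModule.mkLinearMap Q₀.primeCompl (Fin r → S)) m t := hmt.symm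
  rw [hxe] at hx ⊢
  have hmap : LocalizedModule.map Q₀.primeCompl α (IsLocalizedModule.mk'
      (LocalizedModule.mkLinearMap Q₀.primeCompl (Fin r → S)) m t) =
      IsLocalizedModule.mk' (LocalizedModule.mkLinearMap Q₀.primeCompl N) (α m) t := by
    rw [← IsLocalizedModule.mk_eq_mk', ← IsLocalizedModule.mk_eq_mk', LocalizedModule.map_mk]
  rw [hmap, Submodule.mem_localized'] at hx
  obtain ⟨n, hn, c', hnc⟩ := hx
  obtain ⟨d, hd⟩ := (IsLocalizedModule.mk'_eq_mk'_iff _ n (α m) c' t).1 hnc
  have h2 : α (((d : S) * (c' : S)) • m) ∈ 𝔭 • (⊤ : Submodule S N) := by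
    have h2' : α (((d : S) * (c' : S)) • m) = d • t • n := by
      rw [← hd, map_smul, mul_smul]
      rfl
    rw [h2']
    simp only [Submonoid.smul_def]
    exact Submodule.smul_mem _ _ (Submodule.smul_mem _ _ hn)
  have h3 : (1 : 𝔭.ResidueField) ⊗ₜ[S] (((d : S) * (c' : S)) • m) = 0 := by
    apply hα
    rw [map_zero, LinearMap.baseChange_tmul]
    exact one_tmul_eq_zero_of_mem 𝔭 h2
  have h4 := mem_smul_top_of_forall_mem 𝔭 _ (forall_mem_of_one_tmul_eq_zero 𝔭 _ h3)
  refine (Submodule.mem_localized' _ _ _ _ _).2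
    ⟨(d * c' : Q₀.primeCompl) • m, h4, d * c' * t, ?_⟩
  exact IsLocalizedModule.mk'_cancel_left _ m _ t

theorem surjective_map_of_surjective_baseChange [Module.Finite S N] {r : ℕ}
    (α : (Fin r → S) →ₗ[S] N)
    (hα : Function.Surjective (α.baseChange 𝔭.ResidueField)) :
    Function.Surjective (LocalizedModule.map 𝔭.primeCompl α) := by
  have hex := LinearMap.exact_map_mkQ_range α
  have hsurjQ : Function.Surjective (LinearMap.range α).mkQ :=
    Submodule.mkQ_surjective (LinearMap.range α)
  have hexT := lTensor_exact 𝔭.ResidueField hex hsurjQ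
  have hsub : Subsingleton (𝔭.ResidueField ⊗[S] (N ⧸ LinearMap.range α)) := by
    refine subsingleton_of_forall_eq 0 (fun y => ?_)
    obtain ⟨x, rfl⟩ := LinearMap.lTensor_surjective 𝔭.ResidueField hsurjQ y
    obtain ⟨w, rfl⟩ := hα x
    exact hexT.apply_apply_eq_zero w
  have hnot : (⟨𝔭, inferInstance⟩ : PrimeSpectrum S) ∉
      Module.support S (N ⧸ LinearMap.range α) := by
    rw [Module.mem_support_iff_nontrivial_residueField_tensorProduct]
    exact not_nontrivial_iff_subsingleton.2 hsub
  have hsubC : Subsingleton (LocalizedModule 𝔭.primeCompl (N ⧸ LinearMap.range α)) :=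
    Module.notMem_support_iff.1 hnot
  have hexL := map_exact' 𝔭.primeCompl α (LinearMap.range α).mkQ hex
  intro y
  exact (hexL y).1 (Subsingleton.elim _ _)

end general

section main

variable {R S : Type u} [CommRing R] [CommRing S] [Algebra R S] [Algebra.FinitePresentation R S]
  (rr : Ideal R) [rr.IsPrime] [(rr.map (algebraMap R S)).IsPrime]
  {N : Type u} [AddCommGroup N] [Module S N] [Module R N] [IsScalarTower R S N]

set_option maxHeartbeats 1600000 in
/-- Stacks 046Y applied at a prime `Q₀` over `rr`. -/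
theorem injective_and_flat_coker_at [Module.FinitePresentation S N] (Q₀ : Ideal S) [Q₀.IsPrime]
    (hQ : Q₀.comap (algebraMap R S) = rr) {r : ℕ} (α : (Fin r → S) →ₗ[S] N)
    (hα : Function.Injective (α.baseChange (rr.map (algebraMap R S)).ResidueField))
    (hflat : Module.Flat R (LocalizedModule Q₀.primeCompl N)) :
    Function.Injective (LocalizedModule.map Q₀.primeCompl α) ∧
      Module.Flat R (LocalizedModule Q₀.primeCompl (N ⧸ LinearMap.range α)) := by
  haveI := hflat
  have hmax : (IsLocalRing.maximalIdeal (Localization.AtPrime Q₀)).comap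
      (algebraMap R (Localization.AtPrime Q₀)) = rr := by
    rw [IsScalarTower.algebraMap_eq R S (Localization.AtPrime Q₀), ← Ideal.comap_comap]
    have h5 : (IsLocalRing.maximalIdeal (Localization.AtPrime Q₀)).comap
        (algebraMap S (Localization.AtPrime Q₀)) = Q₀ := Localization.AtPrime.under_maximalIdeal
    rw [h5, hQ]
  have hI : ((IsLocalRing.maximalIdeal (Localization.AtPrime Q₀)).comap
      (algebraMap R (Localization.AtPrime Q₀))).map (algebraMap R (Localization.AtPrime Q₀)) =
      (rr.map (algebraMap R S)).map (algebraMap S (Localization.AtPrime Q₀)) := by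
    rw [hmax, Ideal.map_map, ← IsScalarTower.algebraMap_eq]
  obtain ⟨h1, h2⟩ := EssFPInj.injective_and_flat_coker' (R := R)
    (S := Localization.AtPrime Q₀) (S₀ := S) Q₀.primeCompl
    (LocalizedModule.map Q₀.primeCompl α) (by
      intro x hx
      rw [hI] at hx ⊢
      exact mem_of_map_mem (rr.map (algebraMap R S)) Q₀ α hα x hx)
  exact ⟨h1, (flat_localized_coker_iff Q₀.primeCompl α).1 h2⟩

/-- `S_q → S_𝔭` is injective (on `S^r`), so injectivity of `α_𝔭` gives injectivity of `α_q`. -/
theorem injective_map_of_injective_map (hgi : FlatCA.GeomIntegralFibres R S) [Module.Flat R S]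
    (q : Ideal S) [q.IsPrime] (hq : q.comap (algebraMap R S) = rr) {r : ℕ}
    (α : (Fin r → S) →ₗ[S] N)
    (hinj : Function.Injective (LocalizedModule.map (rr.map (algebraMap R S)).primeCompl α)) :
    Function.Injective (LocalizedModule.map q.primeCompl α) := by
  rw [injective_iff_map_eq_zero] at hinj ⊢
  intro z hz
  induction z using LocalizedModule.induction_on with
  | h m t =>
    rw [LocalizedModule.map_mk, IsLocalizedModule.mk_eq_mk', IsLocalizedModule.mk'_eq_zero'] at hz
    obtain ⟨s, hs⟩ := hz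
    have hs' : α ((s : S) • m) = 0 := by
      rw [map_smul]; exact hs
    have h1 : LocalizedModule.map (rr.map (algebraMap R S)).primeCompl α
        (LocalizedModule.mk ((s : S) • m) 1) = 0 := by
      rw [LocalizedModule.map_mk, hs', LocalizedModule.zero_mk]
    have h2 := hinj _ h1
    rw [IsLocalizedModule.mk_eq_mk', IsLocalizedModule.mk'_eq_zero'] at h2
    obtain ⟨s', hs''⟩ := h2
    have hs3 : (s' : S) • ((s : S) • m) = 0 := hs''
    haveI : Module.Flat R (Fin r → S) := Module.Flat.trans R S _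
    obtain ⟨c, hc⟩ := exists_smul_eq_zero_of_nzd_fiber' (Fin r → S) ((s : S) • m) q rr hq
      (s' : S) hs3 (nzd_fiber hgi rr (Fin r → S) s'.2)
    rw [IsLocalizedModule.mk_eq_mk', IsLocalizedModule.mk'_eq_zero']
    refine ⟨c * s, ?_⟩
    show ((c : S) * (s : S)) • m = 0
    rw [mul_smul]; exact hc

end main

end Groth.Agent.Lib.Helper24.FibBasisC
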