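import Mathlib
import Groth.Prelude.Def_Flat
import Groth.Agent.Lib.Helper12.Chevalley
import Groth.Agent.Lib.Helper24.FibreLocDim

/-!
# Quasi-finite maps to affine space near a point of given fibre dimension (helper24)
-/

set_option autoImplicit false
set_option maxHeartbeats 400000
set_option linter.style.haveILetI false

universe u

open AlgebraicGeometry CategoryTheory TensorProduct Groth.Agent.Lib.Helper12

namespace Groth.Agent.Lib.Helper24.FibreQF

theorem exists_quasiFinite_of_fiber_dim_le {R B : Type u} [CommRing R] [CommRing B] [Algebra R B]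
    [Algebra.FiniteType R B] (q : PrimeSpectrum B) (n : ℕ)
    (hdim : ringKrullDim ((PrimeSpectrum.comap (algebraMap R B) q).asIdeal.Fiber B) ≤ n) :
    ∃ (φ : MvPolynomial (Fin n) R →ₐ[R] B) (r : B), r ∉ q.asIdeal ∧ φ.toRingHom.FiniteType ∧
      ((algebraMap B (Localization.Away r)).comp φ.toRingHom).QuasiFinite := by
  haveI : Nontrivial ((PrimeSpectrum.comap (algebraMap R B) q).asIdeal.Fiber B) :=
    (PrimeSpectrum.nonempty_iff_nontrivial).mp
      ⟨PrimeSpectrum.preimageHomeomorphFiber R B _ ⟨q, rfl⟩⟩
  obtain ⟨b, hbfin⟩ := Chevalley.fiberMap_finite_aux (A := R) (B := B)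
    (PrimeSpectrum.comap (algebraMap R B) q) n hdim
  let φ : MvPolynomial (Fin n) R →ₐ[R] B := MvPolynomial.aeval b
  have hφft : φ.toRingHom.FiniteType := by
    have h1 : (φ.toRingHom.comp (algebraMap R (MvPolynomial (Fin n) R))).FiniteType := by
      have h2 : φ.toRingHom.comp (algebraMap R (MvPolynomial (Fin n) R)) = algebraMap R B := by
        ext a; simp
      rw [h2]
      exact RingHom.finiteType_algebraMap.mpr inferInstance
    exact RingHom.FiniteType.of_comp_finiteType h1
  have hiso : q ∈ Chevalley.isolatedSet (PrimeSpectrum.comap φ.toRingHom) := by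
    apply Chevalley.isolated_of_fiber φ (PrimeSpectrum.comap (algebraMap R B) q) q rfl
    rw [Chevalley.isolatedSet_eq_univ_of_finite _ hbfin]
    trivial
  letI : Algebra (MvPolynomial (Fin n) R) B := φ.toRingHom.toAlgebra
  haveI : Algebra.FiniteType (MvPolynomial (Fin n) R) B := hφft
  haveI hqf : Algebra.QuasiFiniteAt (MvPolynomial (Fin n) R) q.asIdeal :=
    Algebra.QuasiFiniteAt.of_isOpen_singleton_fiber q hiso
  obtain ⟨S', hS', r, hrq, H⟩ :=
    Algebra.QuasiFiniteAt.exists_fg_and_exists_notMem_and_awayMap_bijective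
      (R := MvPolynomial (Fin n) R) q.asIdeal
  haveI : Module.Finite (MvPolynomial (Fin n) R) S' := ⟨(Submodule.fg_top _).mpr hS'⟩
  haveI : Algebra.QuasiFinite (MvPolynomial (Fin n) R) (Localization.Away r) := .trans _ S' _
  let ψ₀ : Localization.Away r →ₐ[MvPolynomial (Fin n) R] Localization.Away r.1 :=
    Localization.awayMapₐ S'.val r
  have hψ₀ : Function.Surjective ψ₀ := H.2
  haveI : Algebra.QuasiFinite (MvPolynomial (Fin n) R) (Localization.Away r.1) :=
    Algebra.QuasiFinite.of_surjective_algHom ψ₀ hψ₀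
  refine ⟨φ, r.1, hrq, hφft, ?_⟩
  have h3 : (algebraMap (MvPolynomial (Fin n) R) (Localization.Away r.1)).QuasiFinite :=
    RingHom.quasiFinite_algebraMap.mpr inferInstance
  rw [IsScalarTower.algebraMap_eq (MvPolynomial (Fin n) R) B (Localization.Away r.1)] at h3
  exact h3

theorem exists_quasiFinite_away (R S : Type u) [CommRing R] [CommRing S] [Algebra R S]
    [Algebra.FiniteType R S] (q : PrimeSpectrum S) (n : ℕ)
    (h : TopFibreDim.topFibreDim (PrimeSpectrum.comap (algebraMap R S)) q ≤ n) :
    ∃ g : S, g ∉ q.asIdeal ∧ ∃ φ : MvPolynomial (Fin n) R →ₐ[R] Localization.Away g,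
      φ.toRingHom.FiniteType ∧ φ.toRingHom.QuasiFinite := by
  obtain ⟨b₀, hb₀, hdim⟩ := Chevalley.exists_away_dim_le (A := R) n q h
  haveI : Algebra.FiniteType S (Localization.Away b₀) :=
    IsLocalization.finiteType_of_monoid_fg (Submonoid.powers b₀) _
  haveI : Algebra.FiniteType R (Localization.Away b₀) :=
    Algebra.FiniteType.trans (S := S) inferInstance inferInstance
  have hrange := PrimeSpectrum.localization_away_comap_range (Localization.Away b₀) b₀
  obtain ⟨q', hq'⟩ : ∃ q', PrimeSpectrum.comap (algebraMap S (Localization.Away b₀)) q' = q := by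
    have : q ∈ Set.range (PrimeSpectrum.comap (algebraMap S (Localization.Away b₀))) := by
      rw [hrange]; exact hb₀
    exact this
  have hq'p : PrimeSpectrum.comap (algebraMap R (Localization.Away b₀)) q' =
      PrimeSpectrum.comap (algebraMap R S) q := by
    rw [← Chevalley.comap_algebraMap_away, hq']
  have hdim' : ringKrullDim ((PrimeSpectrum.comap (algebraMap R (Localization.Away b₀)) q').asIdeal.Fiber
      (Localization.Away b₀)) ≤ n := by
    rw [hq'p]; exact hdim
  obtain ⟨φ, r, hr, hφft, hqf⟩ := exists_quasiFinite_of_fiber_dim_le (R := R) q' n hdim'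
  obtain ⟨k, s, hs⟩ := IsLocalization.Away.surj b₀ r
  have hunit : IsUnit (algebraMap S (Localization.Away b₀) b₀ ^ k) :=
    (IsLocalization.Away.algebraMap_isUnit b₀).pow k
  have hassoc : Associated (algebraMap S (Localization.Away b₀) s) r :=
    Associated.symm ⟨hunit.unit, by rw [IsUnit.unit_spec, hs]⟩
  haveI : IsLocalization.Away (b₀ * s) (Localization.Away r) :=
    IsLocalization.Away.mul_of_associated (S := Localization.Away b₀) b₀ s r hassoc
  let e : Localization.Away r ≃ₐ[S] Localization.Away (b₀ * s) :=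
    IsLocalization.algEquiv (Submonoid.powers (b₀ * s)) _ _
  haveI : Algebra.FiniteType S (Localization.Away (b₀ * s)) :=
    IsLocalization.finiteType_of_monoid_fg (Submonoid.powers (b₀ * s)) _
  haveI : Algebra.FiniteType R (Localization.Away (b₀ * s)) :=
    Algebra.FiniteType.trans (S := S) inferInstance inferInstance
  refine ⟨b₀ * s, ?_, ?_⟩
  · intro hmem
    rcases q.isPrime.mem_or_mem hmem with h1 | h1
    · exact hb₀ h1
    · have h2 : algebraMap S (Localization.Away b₀) s ∈ q'.asIdeal := by
        have : s ∈ (PrimeSpectrum.comap (algebraMap S (Localization.Away b₀)) q').asIdeal := by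
          rw [hq']; exact h1
        exact this
      rw [← hs] at h2
      exact hr ((Ideal.mul_unit_mem_iff_mem _ hunit).mp h2)
  · let ψ : MvPolynomial (Fin n) R →ₐ[R] Localization.Away (b₀ * s) :=
      (e.restrictScalars R : Localization.Away r →ₐ[R] Localization.Away (b₀ * s)).comp
        ((IsScalarTower.toAlgHom R (Localization.Away b₀) (Localization.Away r)).comp φ)
    refine ⟨ψ, ?_, ?_⟩
    · have h1 : (ψ.toRingHom.comp (algebraMap R (MvPolynomial (Fin n) R))).FiniteType := by
        have h2 : ψ.toRingHom.comp (algebraMap R (MvPolynomial (Fin n) R)) =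
            algebraMap R (Localization.Away (b₀ * s)) := by
          ext a; simp
        rw [h2]
        exact RingHom.finiteType_algebraMap.mpr inferInstance
      exact RingHom.FiniteType.of_comp_finiteType h1
    · have hψ : ψ.toRingHom = (e.toRingEquiv.toRingHom).comp
          ((algebraMap (Localization.Away b₀) (Localization.Away r)).comp φ.toRingHom) :=
        RingHom.ext fun x => rfl
      rw [hψ]
      exact RingHom.QuasiFinite.respectsIso.1 _ e.toRingEquiv hqf

theorem main (R S : Type u) [CommRing R] [CommRing S]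
    [Algebra R S] [Algebra.FiniteType R S] (p : Ideal R) [p.IsPrime] (q : Ideal S) [q.IsPrime]
    [q.LiesOver p] (Q : PrimeSpectrum (p.Fiber S))
    (hQ : Q.asIdeal.comap (Algebra.TensorProduct.includeRight.toRingHom) = q) (n : ℕ)
    (hdim : FlatMor.localDim (PrimeSpectrum (p.Fiber S)) Q = (n : WithBot ℕ∞)) :
    ∃ g : S, g ∉ q ∧ ∃ φ : MvPolynomial (Fin n) R →ₐ[R] Localization.Away g,
      φ.toRingHom.FiniteType ∧ φ.toRingHom.QuasiFinite := by
  obtain rfl : p = q.under R := q.over_def p
  have h : TopFibreDim.topFibreDim (PrimeSpectrum.comap (algebraMap R S))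
      (⟨q, inferInstance⟩ : PrimeSpectrum S) ≤ n := by
    refine (FibreLocDim.forall_fibre_iff R S ⟨q, inferInstance⟩ n).mp (fun Q' hQ'' => ?_)
    have hQQ : Q' = Q := by
      apply Chevalley.comap_includeRight_injective (⟨q.under R, inferInstance⟩ : PrimeSpectrum R)
      exact PrimeSpectrum.ext (hQ''.trans hQ.symm)
    rw [hQQ]
    exact hdim.le
  exact exists_quasiFinite_away R S ⟨q, inferInstance⟩ n h

end Groth.Agent.Lib.Helper24.FibreQF
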