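import Mathlib

/-!
# Algebraic extensions of bounded degree have finitely many embeddings (helper24)

`finite_emb_of_bounded`: if every element of `E` is a root of a monic polynomial over `F` of degree
at most `n`, then `Field.Emb F E` is finite.
-/

set_option autoImplicit false

namespace Groth.Agent.Lib.Helper24.FieldEmb

open scoped IntermediateField

universe u v

variable {F : Type u} {E : Type v} [Field F] [Field E] [Algebra F E]

/-- the separable degree of a finite subextension is bounded by the bound on degrees. -/
lemma finSepDegree_le (n : ℕ) (hdeg : ∀ x : E, (minpoly F x).natDegree ≤ n)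
    (L : IntermediateField F E) [FiniteDimensional F L] : Field.finSepDegree F L ≤ n := by
  rw [Field.finSepDegree_eq F L]
  show Module.finrank F (separableClosure F L) ≤ n
  obtain ⟨α, hα⟩ := Field.exists_primitive_element F (separableClosure F L)
  have hint : IsIntegral F α := IsIntegral.of_finite F α
  rw [← IntermediateField.finrank_top' (F := F) (E := separableClosure F L), ← hα,
    IntermediateField.adjoin.finrank hint, IntermediateField.minpoly_eq,
    IntermediateField.minpoly_eq]
  exact hdeg _

theorem finite_emb_of_bounded (n : ℕ)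
    (h : ∀ x : E, ∃ p : Polynomial F, p.Monic ∧ p.natDegree ≤ n ∧ Polynomial.aeval x p = 0) :
    Finite (Field.Emb F E) := by
  classical
  haveI halg : Algebra.IsAlgebraic F E := ⟨fun x => by
    obtain ⟨p, hp, -, hx⟩ := h x
    exact ⟨p, hp.ne_zero, hx⟩⟩
  have hdeg : ∀ x : E, (minpoly F x).natDegree ≤ n := fun x => by
    obtain ⟨p, hp, hpn, hx⟩ := h x
    exact (Polynomial.natDegree_le_of_dvd (minpoly.dvd F x hx) hp.ne_zero).trans hpn
  by_contra hfin
  rw [not_finite_iff_infinite] at hfin
  have hσ : Function.Injective
      (fun i : Fin (n + 1) => Infinite.natEmbedding (Field.Emb F E) (i : ℕ)) :=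
    fun i j hij => Fin.ext ((Infinite.natEmbedding (Field.Emb F E)).injective hij)
  have hx : ∀ p : Fin (n + 1) × Fin (n + 1), ∃ x : E, p.1 ≠ p.2 →
      Infinite.natEmbedding (Field.Emb F E) (p.1 : ℕ) x ≠
        Infinite.natEmbedding (Field.Emb F E) (p.2 : ℕ) x := by
    intro p
    by_cases hp : p.1 = p.2
    · exact ⟨0, fun h => absurd hp h⟩
    · have hne : Infinite.natEmbedding (Field.Emb F E) (p.1 : ℕ) ≠
          Infinite.natEmbedding (Field.Emb F E) (p.2 : ℕ) := fun h => hp (hσ h)
      obtain ⟨x, hx⟩ := DFunLike.exists_ne hne
      exact ⟨x, fun _ => hx⟩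
  choose x hx using hx
  haveI : FiniteDimensional F (IntermediateField.adjoin F (Set.range x)) :=
    IntermediateField.finiteDimensional_adjoin (fun y _ => (halg.isAlgebraic y).isIntegral)
  have hr : Function.Injective (fun i : Fin (n + 1) =>
      (Infinite.natEmbedding (Field.Emb F E) (i : ℕ)).comp
        (IntermediateField.adjoin F (Set.range x)).val) := by
    intro i j hij
    by_contra hne
    apply hx (i, j) hne
    have hmem : x (i, j) ∈ IntermediateField.adjoin F (Set.range x) :=
      IntermediateField.subset_adjoin F _ ⟨(i, j), rfl⟩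
    exact congrArg (fun f : (IntermediateField.adjoin F (Set.range x)) →ₐ[F]
      AlgebraicClosure E => f ⟨x (i, j), hmem⟩) hij
  have hcard : Nat.card ((IntermediateField.adjoin F (Set.range x)) →ₐ[F] AlgebraicClosure E)
      ≤ n := by
    rw [← Field.finSepDegree_eq_of_isAlgClosed F (IntermediateField.adjoin F (Set.range x))
      (AlgebraicClosure E)]
    exact finSepDegree_le n hdeg _
  have h2 := Nat.card_le_card_of_injective _ hr
  rw [Nat.card_eq_fintype_card, Fintype.card_fin] at h2
  omega

end Groth.Agent.Lib.Helper24.FieldEmb
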