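import Mathlib
import Groth.Agent.Lib.Helper24.SyntRelGCI
import Groth.Agent.Lib.Helper22.RelGCIReg

/-!
# Finite syntomic algebras over a local ring have a square presentation (helper24)
-/

set_option autoImplicit false
set_option maxHeartbeats 400000
set_option linter.style.haveILetI false
set_option linter.unusedSectionVars false
universe u

open MvPolynomial TensorProduct

namespace Groth.Agent.Lib.Helper24.FinSyntSquare

open Groth.Agent.Lib.Helper12 Groth.Agent.Lib.Helper1 Groth.Agent.Lib.Helper24.SyntRelGCI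

section Local

variable (R : Type u) [CommRing R] (n m : ℕ) (b : Fin m → MvPolynomial (Fin n) R)

/-- near a prime, the ideal of relations of a syntomic algebra `R[x_1..x_n]/(b)` is generated by
`n` of its elements. -/
theorem exists_local_gens (hsynt : Synt.IsSyntomic R (Synt.RelGCIRing R n m b))
    (q : Ideal (Synt.RelGCIRing R n m b)) [q.IsPrime] :
    ∃ (F : Fin n → MvPolynomial (Fin n) R) (g : MvPolynomial (Fin n) R),
      (∀ i, F i ∈ Ideal.span (Set.range b)) ∧
      g ∉ q.comap (Ideal.Quotient.mk (Ideal.span (Set.range b))) ∧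
      ∀ y ∈ Ideal.span (Set.range b), g * y ∈ Ideal.span (Set.range F) := by
  classical
  obtain ⟨p, hp⟩ : ∃ p, q.comap (algebraMap R (Synt.RelGCIRing R n m b)) = p := ⟨_, rfl⟩
  haveI : p.IsPrime := by rw [← hp]; infer_instance
  obtain ⟨𝔔, h𝔔p, f, h𝔔, hfI, hLL, hFI⟩ := exists_gens_fibre R n m b p hsynt q hp
  haveI := h𝔔p
  have hle : Ideal.span (Set.range f.get) ≤ Ideal.span (Set.range b) := by
    rw [Ideal.span_le]
    rintro _ ⟨i, rfl⟩
    exact hfI _ (List.get_mem f i)
  haveI := hsynt.1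
  haveI := hsynt.2.1
  have hkey : ∀ y ∈ Ideal.span (Set.range b), ∃ G' : MvPolynomial (Fin n) R,
      G' ∉ q.comap (Ideal.Quotient.mk (Ideal.span (Set.range b))) ∧
        G' * y ∈ Ideal.span (Set.range f.get) ⊔ p.map C := by
    intro y hy
    refine key_mem p n _ 𝔔 h𝔔 (Ideal.span (Set.range b)) (Ideal.span (Set.range f.get)) ?_ y hy
    have e1 : ∀ {k : ℕ} (v : Fin k → MvPolynomial (Fin n) R),
        (Ideal.span (Set.range v)).map (map (algebraMap R p.ResidueField)) =
          Ideal.span (Set.range fun i => map (algebraMap R p.ResidueField) (v i)) := by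
      intro k v
      rw [Ideal.map_span, ← Set.range_comp]
      rfl
    rw [e1, e1]
    exact hFI
  obtain ⟨φ₉, hφ₉⟩ : ∃ φ₉ : Synt.RelGCIRing R n f.length f.get →ₐ[R] Synt.RelGCIRing R n m b,
      ∀ y, φ₉ (Ideal.Quotient.mk _ y) = Ideal.Quotient.mk _ y :=
    ⟨Ideal.Quotient.factorₐ R hle, fun y => rfl⟩
  obtain ⟨g₉, hg₉, hbij⟩ := local_iso R n m b f.length f.get φ₉ hφ₉ q p hp hkey
  have hp₉ : (PrimeSpectrum.comap (algebraMap R (Synt.RelGCIRing R n f.length f.get))
      (⟨q.comap φ₉, inferInstance⟩ : PrimeSpectrum (Synt.RelGCIRing R n f.length f.get))).asIdeal =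
      p := by
    rw [← hp]
    ext r
    show φ₉ (algebraMap R _ r) ∈ q ↔ algebraMap R _ r ∈ q
    rw [AlgHom.commutes]
  have h𝔔₉ : 𝔔.comap (map (algebraMap R p.ResidueField)) =
      (⟨q.comap φ₉, inferInstance⟩ :
        PrimeSpectrum (Synt.RelGCIRing R n f.length f.get)).asIdeal.comap
        (Ideal.Quotient.mk (Ideal.span (Set.range f.get))) := by
    rw [h𝔔]
    ext y
    show Ideal.Quotient.mk _ y ∈ q ↔ φ₉ (Ideal.Quotient.mk _ y) ∈ q
    rw [hφ₉]
  obtain ⟨hcn, -⟩ := topFibreDim_eq_of_locLen R n p f.length f.get _ hp₉ 𝔔 h𝔔₉ hLL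
  obtain ⟨G₉, rfl⟩ := Ideal.Quotient.mk_surjective g₉
  have hgen : ∀ j : Fin m, ∃ k : ℕ, G₉ ^ k * b j ∈ Ideal.span (Set.range f.get) := by
    intro j
    have h0 : φ₉.toRingHom (Ideal.Quotient.mk _ (b j)) = 0 := by
      show φ₉ (Ideal.Quotient.mk _ (b j)) = 0
      rw [hφ₉]
      exact Ideal.Quotient.eq_zero_iff_mem.mpr (Ideal.subset_span (Set.mem_range_self j))
    obtain ⟨k, hk⟩ := Localization.awayMap_injective_iff.mp hbij.1 _ h0
    refine ⟨k, ?_⟩
    rw [← map_pow, ← map_mul] at hk
    exact Ideal.Quotient.eq_zero_iff_mem.mp hk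
  choose k hk using hgen
  refine ⟨fun i => if h : (i : ℕ) < f.length then f.get ⟨i, h⟩ else 0, G₉ ^ (∑ j, k j),
    ?_, ?_, ?_⟩
  · intro i
    dsimp only
    split_ifs with h
    · exact hfI _ (List.get_mem f _)
    · exact Ideal.zero_mem _
  · intro hmem
    apply hg₉
    have h1 : G₉ ∈ q.comap (Ideal.Quotient.mk (Ideal.span (Set.range b))) :=
      Ideal.IsPrime.mem_of_pow_mem inferInstance _ hmem
    show φ₉ (Ideal.Quotient.mk _ G₉) ∈ q
    rw [hφ₉]
    exact h1
  · intro y hy
    have hsub : Ideal.span (Set.range f.get) ≤ Ideal.span (Set.range fun i : Fin n =>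
        if h : (i : ℕ) < f.length then f.get ⟨i, h⟩ else 0) := by
      rw [Ideal.span_le]
      rintro _ ⟨i, rfl⟩
      apply Ideal.subset_span
      refine ⟨⟨i, lt_of_lt_of_le i.2 hcn⟩, ?_⟩
      simp
    apply hsub
    induction hy using Submodule.span_induction with
    | mem x hx =>
      obtain ⟨j, rfl⟩ := hx
      rw [← pow_sub_mul_pow G₉ (Finset.single_le_sum (fun i _ => Nat.zero_le (k i))
        (Finset.mem_univ j)), mul_assoc]
      exact Ideal.mul_mem_left _ _ (hk j)
    | zero =>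
      rw [mul_zero]
      exact Ideal.zero_mem _
    | add x y _ _ hx hy =>
      rw [mul_add]
      exact Ideal.add_mem _ hx hy
    | smul a x _ hx =>
      rw [smul_eq_mul, mul_left_comm]
      exact Ideal.mul_mem_left _ _ hx

end Local

section CRT

/-- semilocal combination of local generators. -/
theorem exists_common_gens {P : Type*} [CommRing P] (J : Ideal P) (hJ : J.FG) {ι : Type*}
    [Fintype ι] [DecidableEq ι] (M : ι → Ideal P) (hM : ∀ i, (M i).IsMaximal)
    (hinj : Function.Injective M) (n : ℕ) (f : ι → Fin n → P) (hf : ∀ i j, f i j ∈ J)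
    (g : ι → P) (hg : ∀ i, g i ∉ M i)
    (hgf : ∀ i, ∀ y ∈ J, g i * y ∈ Ideal.span (Set.range (f i))) :
    ∃ (F : Fin n → P) (h : P), (∀ j, F j ∈ J) ∧ (∀ i, h ∉ M i) ∧
      ∀ y ∈ J, h * y ∈ Ideal.span (Set.range F) := by
  have hcop : Pairwise (Function.onFun IsCoprime M) := fun i l hil => by
    haveI := hM i
    haveI := hM l
    exact Ideal.isCoprime_of_isMaximal (hinj.ne hil)
  have hc : ∀ i, ∃ c : P, ∀ l, c - (if l = i then 1 else 0) ∈ M l := fun i =>
    Ideal.exists_forall_sub_mem_ideal hcop (fun l => if l = i then 1 else 0)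
  choose c hc using hc
  have hci : ∀ i, c i - 1 ∈ M i := fun i => by simpa using hc i i
  have hcl : ∀ i l, l ≠ i → c i ∈ M l := fun i l hli => by simpa [hli] using hc i l
  have hone : ∀ i, (1 : P) ∉ M i := fun i h1 =>
    (hM i).ne_top ((Ideal.eq_top_iff_one _).mpr h1)
  have hciM : ∀ i, c i ∉ M i := fun i hmem => hone i (by
    have := (M i).sub_mem hmem (hci i)
    simpa using this)
  obtain ⟨F, hF⟩ : ∃ F : Fin n → P, F = fun j => ∑ i, c i * f i j := ⟨_, rfl⟩
  have hFJ : ∀ j, F j ∈ J := fun j => by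
    rw [hF]
    exact J.sum_mem fun i _ => Ideal.mul_mem_left _ _ (hf i j)
  have hsup : ∀ i, J ≤ Ideal.span (Set.range F) ⊔ M i • J := by
    intro i y hy
    obtain ⟨u, v, hv, huv⟩ := (hM i).exists_inv (hg i)
    have hy' : y = u * (g i * y) + v * y := by
      rw [← mul_assoc, ← add_mul, huv, one_mul]
    rw [hy']
    refine Submodule.add_mem _ ?_ (Submodule.mem_sup_right (Submodule.smul_mem_smul hv hy))
    apply Ideal.mul_mem_left
    have hle : Ideal.span (Set.range (f i)) ≤ Ideal.span (Set.range F) ⊔ M i • J := by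
      rw [Ideal.span_le]
      rintro _ ⟨j, rfl⟩
      have hFj : F j = c i * f i j + ∑ l ∈ Finset.univ.erase i, c l * f l j := by
        rw [hF]
        exact (Finset.add_sum_erase _ _ (Finset.mem_univ i)).symm
      have hfij : f i j = F j - ((c i - 1) * f i j + ∑ l ∈ Finset.univ.erase i, c l * f l j) := by
        rw [hFj]
        ring
      show f i j ∈ Ideal.span (Set.range F) ⊔ M i • J
      rw [hfij]
      refine Submodule.sub_mem _ (Submodule.mem_sup_left (Ideal.subset_span ⟨j, rfl⟩))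
        (Submodule.mem_sup_right ?_)
      refine Submodule.add_mem _ (Submodule.smul_mem_smul (hci i) (hf i j))
        (Submodule.sum_mem _ fun l hl => ?_)
      exact Submodule.smul_mem_smul (hcl l i (Finset.ne_of_mem_erase hl).symm) (hf l j)
    exact hle (hgf i y hy)
  have hr : ∀ i, ∃ r : P, r - 1 ∈ M i ∧ ∀ y ∈ J, r * y ∈ Ideal.span (Set.range F) := by
    intro i
    obtain ⟨r, hr1, hr2⟩ := Submodule.exists_sub_one_mem_and_smul_le_of_fg_of_le_sup
      (I := M i) (N := Ideal.span (Set.range F)) (N' := J) (P := J) hJ le_rfl (hsup i)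
    exact ⟨r, hr1, fun y hy => hr2 (Submodule.smul_mem_pointwise_smul y r J hy)⟩
  choose r hr1 hr2 using hr
  have hriM : ∀ i, r i ∉ M i := fun i hmem => hone i (by
    have := (M i).sub_mem hmem (hr1 i)
    simpa using this)
  refine ⟨F, ∑ i, c i * r i, hFJ, ?_, ?_⟩
  · intro i hmem
    rw [← Finset.add_sum_erase _ _ (Finset.mem_univ i)] at hmem
    have hrest : ∑ l ∈ Finset.univ.erase i, c l * r l ∈ M i :=
      (M i).sum_mem fun l hl =>
        Ideal.mul_mem_right _ _ (hcl l i (Finset.ne_of_mem_erase hl).symm)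
    have h1 : c i * r i ∈ M i := by
      have := (M i).sub_mem hmem hrest
      simpa using this
    rcases (hM i).isPrime.mem_or_mem h1 with h2 | h2
    · exact hciM i h2
    · exact hriM i h2
  · intro y hy
    rw [Finset.sum_mul]
    refine Ideal.sum_mem _ fun i _ => ?_
    rw [mul_assoc]
    exact Ideal.mul_mem_left _ _ (hr2 i y hy)

end CRT

section Main

variable (A : Type u) [CommRing A] [IsLocalRing A] (n m : ℕ)
  (b : Fin m → MvPolynomial (Fin n) A)

/-- a finite syntomic presented algebra over a local ring has a square presentation. -/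
theorem exists_square_pres [Module.Finite A (Synt.RelGCIRing A n m b)]
    (hsynt : Synt.IsSyntomic A (Synt.RelGCIRing A n m b)) :
    ∃ F : Fin (n + 1) → MvPolynomial (Fin (n + 1)) A,
      Nonempty (Synt.RelGCIRing A n m b ≃ₐ[A] Synt.RelGCIRing A (n + 1) (n + 1) F) := by
  classical
  have hfin : ((IsLocalRing.maximalIdeal A).primesOver (Synt.RelGCIRing A n m b)).Finite :=
    Algebra.QuasiFinite.finite_primesOver _
  haveI : Fintype ((IsLocalRing.maximalIdeal A).primesOver (Synt.RelGCIRing A n m b)) :=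
    hfin.fintype
  have hmax : ∀ i : (IsLocalRing.maximalIdeal A).primesOver (Synt.RelGCIRing A n m b),
      (i.1 : Ideal (Synt.RelGCIRing A n m b)).IsMaximal := by
    intro i
    haveI := i.2.1
    refine Ideal.isMaximal_of_isIntegral_of_isMaximal_comap (R := A) i.1 ?_
    have h1 : IsLocalRing.maximalIdeal A = i.1.comap (algebraMap A _) := i.2.2.over
    rw [← h1]
    infer_instance
  have hM : ∀ i : (IsLocalRing.maximalIdeal A).primesOver (Synt.RelGCIRing A n m b),
      ((i.1 : Ideal (Synt.RelGCIRing A n m b)).comap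
        (Ideal.Quotient.mk (Ideal.span (Set.range b)))).IsMaximal := by
    intro i
    haveI := hmax i
    exact Ideal.comap_isMaximal_of_surjective _ Ideal.Quotient.mk_surjective
  have hinj : Function.Injective
      (fun i : (IsLocalRing.maximalIdeal A).primesOver (Synt.RelGCIRing A n m b) =>
        (i.1 : Ideal (Synt.RelGCIRing A n m b)).comap
          (Ideal.Quotient.mk (Ideal.span (Set.range b)))) := by
    intro i l hil
    exact Subtype.ext
      (Ideal.comap_injective_of_surjective _ Ideal.Quotient.mk_surjective hil)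
  have hloc : ∀ i : (IsLocalRing.maximalIdeal A).primesOver (Synt.RelGCIRing A n m b),
      ∃ (F : Fin n → MvPolynomial (Fin n) A) (g : MvPolynomial (Fin n) A),
        (∀ j, F j ∈ Ideal.span (Set.range b)) ∧
        g ∉ (i.1 : Ideal (Synt.RelGCIRing A n m b)).comap
          (Ideal.Quotient.mk (Ideal.span (Set.range b))) ∧
        ∀ y ∈ Ideal.span (Set.range b), g * y ∈ Ideal.span (Set.range F) := by
    intro i
    haveI := i.2.1
    exact exists_local_gens A n m b hsynt i.1
  choose f g hf hg hgf using hloc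
  obtain ⟨F, h, hFJ, hhM, hhJ⟩ := exists_common_gens (Ideal.span (Set.range b))
    (Submodule.fg_span (Set.finite_range b)) _ hM hinj n f hf g hg hgf
  -- `h` is a unit modulo `(b)`
  have hunit : IsUnit (Ideal.Quotient.mk (Ideal.span (Set.range b)) h) := by
    by_contra hnu
    obtain ⟨𝔫, h𝔫max, h𝔫mem⟩ := exists_max_ideal_of_mem_nonunits hnu
    haveI := h𝔫max
    have hover : 𝔫.LiesOver (IsLocalRing.maximalIdeal A) :=
      ⟨(IsLocalRing.eq_maximalIdeal
        (Ideal.isMaximal_comap_of_isIntegral_of_isMaximal (R := A) 𝔫)).symm⟩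
    exact hhM ⟨𝔫, h𝔫max.isPrime, hover⟩ h𝔫mem
  have hle : Ideal.span (Set.range F) ≤ Ideal.span (Set.range b) := by
    rw [Ideal.span_le]
    rintro _ ⟨j, rfl⟩
    exact hFJ j
  obtain ⟨φ₉, hφ₉⟩ : ∃ φ₉ : Synt.RelGCIRing A n n F →ₐ[A] Synt.RelGCIRing A n m b,
      ∀ y, φ₉ (Ideal.Quotient.mk _ y) = Ideal.Quotient.mk _ y :=
    ⟨Ideal.Quotient.factorₐ A hle, fun y => rfl⟩
  have hbij : Function.Bijective (Localization.awayMap φ₉.toRingHom
      (Ideal.Quotient.mk (Ideal.span (Set.range F)) h)) := by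
    refine ⟨Localization.awayMap_injective_iff.mpr fun a ha => ⟨1, ?_⟩,
      Localization.awayMap_surjective_iff.mpr fun a => ?_⟩
    · obtain ⟨y, rfl⟩ := Ideal.Quotient.mk_surjective a
      have hy : y ∈ Ideal.span (Set.range b) := by
        have ha' : φ₉ (Ideal.Quotient.mk _ y) = 0 := ha
        rw [hφ₉] at ha'
        exact Ideal.Quotient.eq_zero_iff_mem.mp ha'
      rw [pow_one, ← map_mul]
      exact Ideal.Quotient.eq_zero_iff_mem.mpr (hhJ y hy)
    · obtain ⟨y, rfl⟩ := Ideal.Quotient.mk_surjective a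
      refine ⟨Ideal.Quotient.mk _ y, 0, ?_⟩
      rw [pow_zero, one_mul]
      exact hφ₉ y
  obtain ⟨e₃⟩ := RelGCIAway.exists_awayEquiv n n F h
  have hunit' : IsUnit (φ₉ (Ideal.Quotient.mk (Ideal.span (Set.range F)) h)) := by
    rw [hφ₉]
    exact hunit
  let e₂ : Synt.RelGCIRing A n m b ≃ₐ[Synt.RelGCIRing A n m b]
      Localization.Away (φ₉ (Ideal.Quotient.mk (Ideal.span (Set.range F)) h)) :=
    IsLocalization.atUnits _ (Submonoid.powers
      (φ₉ (Ideal.Quotient.mk (Ideal.span (Set.range F)) h)))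
      (Submonoid.powers_le.mpr hunit')
  let e₁ : Localization.Away (Ideal.Quotient.mk (Ideal.span (Set.range F)) h) ≃ₐ[A]
      Localization.Away (φ₉ (Ideal.Quotient.mk (Ideal.span (Set.range F)) h)) :=
    AlgEquiv.ofBijective (Localization.awayMapₐ φ₉ _) hbij
  exact ⟨_, ⟨(e₂.restrictScalars A).trans (e₁.symm.trans e₃)⟩⟩

end Main

section Statement

/-- **S8954**. -/
theorem finite_syntomic_iff (A B : Type u) [CommRing A] [IsLocalRing A] [CommRing B]
    [Algebra A B] [Module.Finite A B] :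
    Synt.IsSyntomic A B ↔ ∃ (n : ℕ) (F : Fin n → MvPolynomial (Fin n) A),
      Nonempty (B ≃ₐ[A] Synt.RelGCIRing A n n F) := by
  constructor
  · intro hsynt
    obtain ⟨n, φ, hφ, hfg⟩ := hsynt.2.1.out
    obtain ⟨m, b, hb⟩ := Submodule.fg_iff_exists_fin_generating_family.mp hfg
    have hker : Ideal.span (Set.range b) = RingHom.ker φ := hb
    let e : Synt.RelGCIRing A n m b ≃ₐ[A] B :=
      (Ideal.quotientEquivAlgOfEq A hker).trans (Ideal.quotientKerAlgEquivOfSurjective hφ)
    have hsynt₀ := Groth.Agent.Lib.Helper6.SyntCover.isSyntomic_of_algEquiv e.symm hsynt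
    haveI : Module.Finite A (Synt.RelGCIRing A n m b) :=
      Module.Finite.equiv e.symm.toLinearEquiv
    obtain ⟨F, ⟨e'⟩⟩ := exists_square_pres A n m b hsynt₀
    exact ⟨n + 1, F, ⟨e.symm.trans e'⟩⟩
  · rintro ⟨n, F, ⟨e⟩⟩
    haveI : Module.Finite A (Synt.RelGCIRing A n n F) := Module.Finite.equiv e.toLinearEquiv
    have hrel : Synt.IsRelGCI A n n F := by
      intro 𝔭 hnt
      refine ⟨le_refl n, ?_⟩
      rw [Nat.sub_self]
      haveI := hnt
      have hK : Ring.KrullDimLE 0 (𝔭.asIdeal.Fiber (Synt.RelGCIRing A n n F)) :=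
        ((isArtinianRing_iff_isNoetherianRing_krullDimLE_zero
          (R := 𝔭.asIdeal.Fiber (Synt.RelGCIRing A n n F))).mp inferInstance).2
      have h0 : ringKrullDim (𝔭.asIdeal.Fiber (Synt.RelGCIRing A n n F)) = 0 :=
        ringKrullDimZero_iff_ringKrullDim_eq_zero.mp hK
      rw [h0]
      rfl
    exact Groth.Agent.Lib.Helper6.SyntCover.isSyntomic_of_algEquiv e.symm
      (Groth.Agent.Lib.Helper22.RelGCIReg.isSyntomic A n n F hrel)

end Statement

end Groth.Agent.Lib.Helper24.FinSyntSquare
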