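/-
Helper24 library (FlatFP): a finite module over a finitely presented algebra `P` over `R`, flat over
`R`, locally (over `Spec R`) finitely presented, with `R` embedding into finitely many of its local
rings, is finitely presented (Stacks 053G).  Uses helper14's openness of the flat locus.
-/
import Mathlib
import Groth.Agent.Lib.Helper14.FlatOpen.Open

set_option autoImplicit false
set_option maxHeartbeats 400000
set_option linter.style.haveILetI false
universe u
open TensorProduct

namespace Groth.Agent.Lib.Helper24.FlatFP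

open Groth.Agent.Lib.Helper14.FlatOpen

/-- the kernel of a surjection from a finite module is, locally at `S`, generated by finitely many
of its elements when the localized target is finitely presented. -/
theorem exists_finset_gen {P F M : Type*} [CommRing P] [AddCommGroup F] [Module P F]
    [Module.Finite P F] [AddCommGroup M] [Module P M] (π : F →ₗ[P] M)
    (hπ : Function.Surjective π) (S : Submonoid P)
    [Module.FinitePresentation (Localization S) (LocalizedModule S M)] :
    ∃ G : Finset F, (↑G : Set F) ⊆ LinearMap.ker π ∧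
      ∀ k ∈ LinearMap.ker π, ∃ t ∈ S, t • k ∈ Submodule.span P (G : Set F) := by
  classical
  let f := LocalizedModule.mkLinearMap S F
  let f' := LocalizedModule.mkLinearMap S M
  let l := (IsLocalizedModule.map S f f' π).extendScalarsOfIsLocalization S (Localization S)
  have hl : Function.Surjective l := IsLocalizedModule.map_surjective S f f' π hπ
  have hfg : (LinearMap.ker l).FG := Module.FinitePresentation.fg_ker l hl
  rw [← LinearMap.localized'_ker_eq_ker_localizedMap (Localization S) S f f' π] at hfg
  obtain ⟨T, hT⟩ := hfg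
  have hmem : ∀ x ∈ T, ∃ m ∈ LinearMap.ker π, ∃ s : S, IsLocalizedModule.mk' f m s = x := by
    intro x hx
    have hx' : x ∈ (LinearMap.ker π).localized' (Localization S) S f := by
      rw [← hT]; exact Submodule.subset_span hx
    exact hx'
  choose! m hm s hs using hmem
  refine ⟨T.image m, ?_, ?_⟩
  · intro y hy
    rw [Finset.coe_image] at hy
    obtain ⟨x, hx, rfl⟩ := hy
    exact hm x hx
  · intro k hk
    have h1 : (LinearMap.ker π).localized' (Localization S) S f ≤
        (Submodule.span P (↑(T.image m) : Set F)).localized' (Localization S) S f := by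
      rw [← hT, Submodule.span_le]
      intro x hx
      refine ⟨m x, Submodule.subset_span ?_, s x, hs x hx⟩
      rw [Finset.coe_image]
      exact ⟨x, hx, rfl⟩
    have h2 : f k ∈ (LinearMap.ker π).localized' (Localization S) S f :=
      ⟨k, hk, 1, by simp⟩
    obtain ⟨m', hm', s', hs'⟩ := h1 h2
    rw [IsLocalizedModule.mk'_eq_iff] at hs'
    have h3 : f m' = f (s' • k) := by
      rw [hs', Submonoid.smul_def, Submonoid.smul_def, map_smul]
    obtain ⟨c, hc⟩ := (IsLocalizedModule.eq_iff_exists S f).1 h3
    refine ⟨(c * s' : S), (c * s').2, ?_⟩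
    have h4 : ((c * s' : S) : P) • k = (c : P) • m' := by
      rw [Submonoid.coe_mul, mul_smul]
      rw [Submonoid.smul_def, Submonoid.smul_def, Submonoid.smul_def] at hc
      exact hc.symm
    rw [h4]
    exact Submodule.smul_mem _ _ hm'

section Main

variable {R P M : Type u} [CommRing R] [CommRing P] [Algebra R P]
  [AddCommGroup M] [Module P M] [Module R M] [IsScalarTower R P M]

/-- finitely many primes at once. -/
theorem exists_finset_gen_finset {F : Type u} [AddCommGroup F] [Module P F] [Module R F]
    [IsScalarTower R P F] [Module.Finite P F] (π : F →ₗ[P] M) (hπ : Function.Surjective π)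
    (hloc : ∀ (p : Ideal R) [p.IsPrime],
      Module.FinitePresentation
        (Localization (Algebra.algebraMapSubmonoid P p.primeCompl))
        (LocalizedModule (Algebra.algebraMapSubmonoid P p.primeCompl) M))
    (T : Finset (PrimeSpectrum R)) :
    ∃ G : Finset F, (↑G : Set F) ⊆ LinearMap.ker π ∧
      ∀ p ∈ T, ∀ k ∈ LinearMap.ker π, ∃ t : R, t ∉ p.asIdeal ∧
        t • k ∈ Submodule.span P (G : Set F) := by
  classical
  have h : ∀ p : PrimeSpectrum R, ∃ G : Finset F, (↑G : Set F) ⊆ LinearMap.ker π ∧
      ∀ k ∈ LinearMap.ker π, ∃ t ∈ Algebra.algebraMapSubmonoid P p.asIdeal.primeCompl,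
        t • k ∈ Submodule.span P (G : Set F) := by
    intro p
    haveI := hloc p.asIdeal
    exact exists_finset_gen π hπ (Algebra.algebraMapSubmonoid P p.asIdeal.primeCompl)
  choose G hG1 hG2 using h
  refine ⟨T.biUnion G, ?_, ?_⟩
  · intro y hy
    rw [Finset.coe_biUnion] at hy
    obtain ⟨p, -, hp⟩ := Set.mem_iUnion₂.1 hy
    exact hG1 p hp
  · intro p hp k hk
    obtain ⟨t, ht, htk⟩ := hG2 p k hk
    obtain ⟨t₀, ht₀, rfl⟩ := ht
    refine ⟨t₀, ht₀, ?_⟩
    rw [algebraMap_smul] at htk
    refine Submodule.span_mono ?_ htk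
    rw [Finset.coe_biUnion]
    exact Set.subset_iUnion₂ (s := fun p _ => (↑(G p) : Set F)) p hp

/-- an element of a flat module killed by elements `t j ∉ p_j` vanishes when `R` embeds in the
product of the `R_{p_j}`. -/
theorem eq_zero_of_flat {W : Type*} [AddCommGroup W] [Module R W] [Module.Flat R W]
    (s : Finset (PrimeSpectrum R))
    (hs : Function.Injective fun r : R => fun p : s =>
      algebraMap R (Localization.AtPrime p.1.asIdeal) r)
    (t : s → R) (ht : ∀ j, t j ∉ j.1.asIdeal) (x : W) (hx : ∀ j, t j • x = 0) : x = 0 := by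
  classical
  let φ : R →ₗ[R] (s → R) := LinearMap.toSpanSingleton R (s → R) t
  have hφ : Function.Injective φ := by
    rw [injective_iff_map_eq_zero]
    intro r hr
    apply hs
    funext j
    have h1 : r * t j = 0 := by
      have := congrFun hr j
      simpa [φ, LinearMap.toSpanSingleton_apply] using this
    have hu : IsUnit (algebraMap R (Localization.AtPrime j.1.asIdeal) (t j)) :=
      IsLocalization.map_units (Localization.AtPrime j.1.asIdeal)
        (⟨t j, ht j⟩ : j.1.asIdeal.primeCompl)
    have h2 := congrArg (algebraMap R (Localization.AtPrime j.1.asIdeal)) h1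
    rw [map_mul, map_zero] at h2
    show algebraMap R (Localization.AtPrime j.1.asIdeal) r =
      algebraMap R (Localization.AtPrime j.1.asIdeal) 0
    rw [map_zero]
    exact (hu.mul_left_eq_zero).1 h2
  have hinj := Module.Flat.lTensor_preserves_injective_linearMap (M := W) φ hφ
  have h0 : (φ.lTensor W) (x ⊗ₜ[R] (1 : R)) = 0 := by
    rw [LinearMap.lTensor_tmul]
    have ht' : φ 1 = ∑ j, t j • (Pi.single j (1 : R) : s → R) := by
      ext i
      simp [φ, LinearMap.toSpanSingleton_apply, Finset.sum_apply, Pi.single_apply]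
    rw [ht', TensorProduct.tmul_sum]
    refine Finset.sum_eq_zero (fun j _ => ?_)
    rw [TensorProduct.tmul_smul, TensorProduct.smul_tmul', hx j, TensorProduct.zero_tmul]
  have h1 : x ⊗ₜ[R] (1 : R) = 0 := hinj (h0.trans (map_zero _).symm)
  have h2 := congrArg (TensorProduct.rid R W) h1
  rwa [TensorProduct.rid_tmul, one_smul, map_zero] at h2

variable [Algebra.FinitePresentation R P] [Module.Finite P M] [Module.Flat R M]

/-- the local statement: around every prime of `P`, `M` is finitely presented. -/
theorem exists_away_fp (s : Finset (PrimeSpectrum R))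
    (hs : Function.Injective fun r : R => fun p : s =>
      algebraMap R (Localization.AtPrime p.1.asIdeal) r)
    (hloc : ∀ (p : Ideal R) [p.IsPrime],
      Module.FinitePresentation
        (Localization (Algebra.algebraMapSubmonoid P p.primeCompl))
        (LocalizedModule (Algebra.algebraMapSubmonoid P p.primeCompl) M))
    (q : Ideal P) [q.IsPrime] :
    ∃ g : P, g ∉ q ∧ Module.FinitePresentation (Localization.Away g)
      (LocalizedModule (Submonoid.powers g) M) := by
  classical
  obtain ⟨r, π, hπ⟩ := Module.Finite.exists_fin' P M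
  let p₀ : PrimeSpectrum R := ⟨q.comap (algebraMap R P), inferInstance⟩
  obtain ⟨G, hGK, hG⟩ := exists_finset_gen_finset (R := R) π hπ hloc (insert p₀ s)
  obtain ⟨K', hK'⟩ : ∃ K' : Submodule P (Fin r → P), K' = Submodule.span P (G : Set (Fin r → P)) :=
    ⟨_, rfl⟩
  have hK'le : K' ≤ LinearMap.ker π := by rw [hK']; exact Submodule.span_le.2 hGK
  have hK'fg : K'.FG := ⟨G, hK'.symm⟩
  let ψ : ((Fin r → P) ⧸ K') →ₗ[P] M := K'.liftQ π hK'le
  have hψmk : ∀ v, ψ (Submodule.Quotient.mk v) = π v := fun v => rfl
  have hψ : Function.Surjective ψ := by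
    intro y
    obtain ⟨v, rfl⟩ := hπ y
    exact ⟨Submodule.Quotient.mk v, rfl⟩
  haveI hfpM' : Module.FinitePresentation P ((Fin r → P) ⧸ K') :=
    Module.finitePresentation_of_surjective K'.mkQ (Submodule.mkQ_surjective _)
      (by rw [Submodule.ker_mkQ]; exact hK'fg)
  have key : ∀ p ∈ insert p₀ s, ∀ m' : (Fin r → P) ⧸ K', ψ m' = 0 →
      ∃ t : R, t ∉ p.asIdeal ∧ t • m' = 0 := by
    intro p hp m' hm'
    obtain ⟨v, rfl⟩ := Submodule.mkQ_surjective K' m'
    have hv : v ∈ LinearMap.ker π := hm'
    obtain ⟨t, ht, htv⟩ := hG p hp v hv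
    refine ⟨t, ht, ?_⟩
    rw [← hK'] at htv
    rw [Submodule.mkQ_apply, ← Submodule.Quotient.mk_smul]
    exact (Submodule.Quotient.mk_eq_zero K').2 htv
  -- flatness of the localization of `M'` at `q`
  haveI hMq : Module.Flat R (LocalizedModule q.primeCompl M) :=
    flat_of_isLocalizedModule q.primeCompl (LocalizedModule.mkLinearMap q.primeCompl M)
      inferInstance
  let ψq : LocalizedModule q.primeCompl ((Fin r → P) ⧸ K') →ₗ[P] LocalizedModule q.primeCompl M :=
    IsLocalizedModule.map q.primeCompl (LocalizedModule.mkLinearMap q.primeCompl _)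
      (LocalizedModule.mkLinearMap q.primeCompl M) ψ
  have hψq_surj : Function.Surjective ψq := IsLocalizedModule.map_surjective _ _ _ ψ hψ
  have hψq_inj : Function.Injective ψq := by
    rw [injective_iff_map_eq_zero]
    intro x hx
    obtain ⟨⟨m', c⟩, rfl⟩ := IsLocalizedModule.mk'_surjective q.primeCompl
      (LocalizedModule.mkLinearMap q.primeCompl ((Fin r → P) ⧸ K')) x
    simp only [Function.uncurry_apply_pair, ψq, IsLocalizedModule.map_mk',
      IsLocalizedModule.mk'_eq_zero] at hx ⊢
    rw [IsLocalizedModule.eq_zero_iff q.primeCompl] at hx ⊢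
    obtain ⟨c', hc'⟩ := hx
    have h0 : ψ ((c' : P) • m') = 0 := by
      rw [map_smul]; exact hc'
    obtain ⟨t, ht, htm⟩ := key p₀ (Finset.mem_insert_self _ _) _ h0
    have htq : algebraMap R P t ∈ q.primeCompl := fun h => ht h
    refine ⟨⟨algebraMap R P t, htq⟩ * c', ?_⟩
    rw [Submonoid.smul_def, Submonoid.coe_mul, mul_smul]
    show algebraMap R P t • ((c' : P) • m') = 0
    rw [algebraMap_smul]
    exact htm
  haveI hM'q : Module.Flat R (LocalizedModule q.primeCompl ((Fin r → P) ⧸ K')) :=
    Module.Flat.of_linearEquiv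
      (LinearEquiv.ofBijective (ψq.restrictScalars R) ⟨hψq_inj, hψq_surj⟩)
  obtain ⟨g, hgq, hflatD⟩ := exists_flatOnD (A := R) (S := P) (N := (Fin r → P) ⧸ K') q hM'q
  haveI hWflat : Module.Flat R (LocalizedModule (Submonoid.powers g) ((Fin r → P) ⧸ K')) :=
    (flatOnD_iff g).1 hflatD
  let ψg : LocalizedModule (Submonoid.powers g) ((Fin r → P) ⧸ K') →ₗ[P]
      LocalizedModule (Submonoid.powers g) M :=
    IsLocalizedModule.map (Submonoid.powers g) (LocalizedModule.mkLinearMap (Submonoid.powers g) _)
      (LocalizedModule.mkLinearMap (Submonoid.powers g) M) ψ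
  have hψg_surj : Function.Surjective ψg := IsLocalizedModule.map_surjective _ _ _ ψ hψ
  have hψg_inj : Function.Injective ψg := by
    rw [injective_iff_map_eq_zero]
    intro x hx
    have hj : ∀ j : s, ∃ t : R, t ∉ j.1.asIdeal ∧ t • x = 0 := by
      intro j
      obtain ⟨⟨m', c⟩, rfl⟩ := IsLocalizedModule.mk'_surjective (Submonoid.powers g)
        (LocalizedModule.mkLinearMap (Submonoid.powers g) ((Fin r → P) ⧸ K')) x
      simp only [Function.uncurry_apply_pair, ψg, IsLocalizedModule.map_mk',
        IsLocalizedModule.mk'_eq_zero] at hx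
      rw [IsLocalizedModule.eq_zero_iff (Submonoid.powers g)] at hx
      obtain ⟨c', hc'⟩ := hx
      have h0 : ψ ((c' : P) • m') = 0 := by
        rw [map_smul]; exact hc'
      obtain ⟨t, ht, htm⟩ := key j.1 (Finset.mem_insert_of_mem j.2) _ h0
      refine ⟨t, ht, ?_⟩
      simp only [Function.uncurry_apply_pair]
      rw [← algebraMap_smul P t, ← IsLocalizedModule.mk'_smul, IsLocalizedModule.mk'_eq_zero,
        IsLocalizedModule.eq_zero_iff (Submonoid.powers g)]
      refine ⟨c', ?_⟩
      rw [Submonoid.smul_def, smul_comm, algebraMap_smul]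
      exact htm
    choose t ht htx using hj
    exact eq_zero_of_flat s hs t ht x htx
  let e : LocalizedModule (Submonoid.powers g) ((Fin r → P) ⧸ K') ≃ₗ[Localization.Away g]
      LocalizedModule (Submonoid.powers g) M :=
    LinearEquiv.ofBijective
      (ψg.extendScalarsOfIsLocalization (Submonoid.powers g) (Localization.Away g))
      ⟨hψg_inj, hψg_surj⟩
  exact ⟨g, hgq, Module.FinitePresentation.of_equiv e⟩

/-- **Stacks 053G** for a finitely presented `R`-algebra `P`. -/
theorem finitePresentation_of_flat (s : Finset (PrimeSpectrum R))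
    (hs : Function.Injective fun r : R => fun p : s =>
      algebraMap R (Localization.AtPrime p.1.asIdeal) r)
    (hloc : ∀ (p : Ideal R) [p.IsPrime],
      Module.FinitePresentation
        (Localization (Algebra.algebraMapSubmonoid P p.primeCompl))
        (LocalizedModule (Algebra.algebraMapSubmonoid P p.primeCompl) M)) :
    Module.FinitePresentation P M := by
  let S' : Set P := {g | Module.FinitePresentation (Localization.Away g)
    (LocalizedModule (Submonoid.powers g) M)}
  have hS' : Ideal.span S' = ⊤ := by
    by_contra hne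
    obtain ⟨m, hm, hle⟩ := Ideal.exists_le_maximal _ hne
    haveI := hm.isPrime
    obtain ⟨g, hgm, hg⟩ := exists_away_fp (R := R) s hs hloc m
    exact hgm (hle (Ideal.subset_span hg))
  exact Module.FinitePresentation.of_localizationSpan S' hS' (fun g => g.2)

end Main

end Groth.Agent.Lib.Helper24.FlatFP
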