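import Mathlib
import Groth.Agent.Lib.Helper24.FpColimA

/-!
# Functors on modules commuting with filtered colimits: additivity and direct sums
-/

set_option maxHeartbeats 400000
set_option linter.style.haveILetI false
set_option linter.unusedSectionVars false
set_option autoImplicit false

universe u v' u'

open CategoryTheory CategoryTheory.Limits

namespace Groth.Agent.Lib.Helper24.FpColim

variable {A : Type u} [CommRing A] {B : Type u'} [Category.{v'} B] [Preadditive B]
  (F' : ModuleCat.{u} A ⥤ B) [PreservesFilteredColimitsOfSize.{u, u} F']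

/-- the property of being finitely presented -/
abbrev FP (A : Type u) [CommRing A] : ObjectProperty (ModuleCat.{u} A) :=
  fun M : ModuleCat.{u} A => Module.FinitePresentation A M

section Additive

variable [((FP A).ι ⋙ F').Additive]

lemma map_add_fp_fp (P P' : ModuleCat.{u} A) (hP : Module.FinitePresentation A P)
    (hP' : Module.FinitePresentation A P') (f g : P ⟶ P') :
    F'.map (f + g) = F'.map f + F'.map g := by
  let X : (FP A).FullSubcategory := ⟨P, hP⟩
  let Y : (FP A).FullSubcategory := ⟨P', hP'⟩
  exact ((FP A).ι ⋙ F').map_add (f := (ObjectProperty.homMk f : X ⟶ Y))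
    (g := (ObjectProperty.homMk g : X ⟶ Y))

lemma map_add_of_fp (P N : ModuleCat.{u} A) (hP : Module.FinitePresentation A P)
    (f g : P ⟶ N) : F'.map (f + g) = F'.map f + F'.map g := by
  obtain ⟨J, _, _, _, D, c, hpt, hdc, hfp⟩ := exists_fpPres N
  subst hpt
  have hc := hdc.isColimit
  obtain ⟨j₁, f₁, hf₁⟩ := hom_factors hc P f
  obtain ⟨j₂, g₂, hg₂⟩ := hom_factors hc P g
  obtain ⟨j, h1, h2⟩ := exists_ge_ge j₁ j₂
  have hf' : (f₁ ≫ D.map (homOfLE h1)) ≫ c.ι.app j = f := by
    rw [Category.assoc, c.w]; exact hf₁
  have hg' : (g₂ ≫ D.map (homOfLE h2)) ≫ c.ι.app j = g := by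
    rw [Category.assoc, c.w]; exact hg₂
  have key := map_add_fp_fp F' P (D.obj j) hP (hfp j) (f₁ ≫ D.map (homOfLE h1))
    (g₂ ≫ D.map (homOfLE h2))
  calc F'.map (f + g)
      = F'.map ((f₁ ≫ D.map (homOfLE h1) + g₂ ≫ D.map (homOfLE h2)) ≫ c.ι.app j) := by
        rw [Preadditive.add_comp, hf', hg']
    _ = F'.map (f₁ ≫ D.map (homOfLE h1) + g₂ ≫ D.map (homOfLE h2)) ≫ F'.map (c.ι.app j) :=
        F'.map_comp _ _
    _ = (F'.map (f₁ ≫ D.map (homOfLE h1)) + F'.map (g₂ ≫ D.map (homOfLE h2))) ≫
          F'.map (c.ι.app j) := by rw [key]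
    _ = F'.map ((f₁ ≫ D.map (homOfLE h1)) ≫ c.ι.app j) +
          F'.map ((g₂ ≫ D.map (homOfLE h2)) ≫ c.ι.app j) := by
        rw [Preadditive.add_comp, ← F'.map_comp, ← F'.map_comp]
    _ = F'.map f + F'.map g := by rw [hf', hg']

theorem map_add_all (M N : ModuleCat.{u} A) (f g : M ⟶ N) :
    F'.map (f + g) = F'.map f + F'.map g := by
  obtain ⟨J, _, _, _, D, c, hpt, hdc, hfp⟩ := exists_fpPres M
  subst hpt
  haveI : IsFiltered J := inferInstance
  haveI : PreservesColimitsOfShape J F' :=
    PreservesFilteredColimitsOfSize.preserves_filtered_colimits J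
  have hc' := isColimitOfPreserves F' hdc.isColimit
  apply hc'.hom_ext
  intro j
  change F'.map (c.ι.app j) ≫ F'.map (f + g) = F'.map (c.ι.app j) ≫ (F'.map f + F'.map g)
  rw [← F'.map_comp, Preadditive.comp_add, map_add_of_fp F' _ _ (hfp j), Preadditive.comp_add,
    F'.map_comp, F'.map_comp]

theorem additive_of_additive_on_fp : F'.Additive where
  map_add {M N f g} := map_add_all F' M N f g

end Additive

section Coprod

variable [HasFiniteBiproducts B] [F'.Additive]

open CoproductsFromFiniteFiltered

theorem preservesCoproducts (α : Type u) : PreservesColimitsOfShape (Discrete α) F' := by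
  haveI : ∀ f : α → ModuleCat.{u} A, PreservesColimit (Discrete.functor f) F' := by
    intro f
    apply preservesColimit_of_preserves_colimit_cocone (coproductIsCoproduct f)
    apply (isColimitMapCoconeCofanMkEquiv _ _ _).symm _
    haveI : IsFiltered (Finset (Discrete α)) := inferInstance
    haveI : PreservesColimitsOfShape (Finset (Discrete α)) F' :=
      PreservesFilteredColimitsOfSize.preserves_filtered_colimits _
    have H := isColimitOfPreserves F' (isColimitFiniteSubproductsCocone f)
    have hS : ∀ S : Finset (Discrete α), IsColimit (Cofan.mk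
        (F'.obj (∐ fun x : S => (Discrete.functor f).obj x))
        (fun x : S => F'.map (Sigma.ι (fun x : S => (Discrete.functor f).obj x) x))) :=
      fun S => isColimitOfHasCoproductOfPreservesColimit F' _
    -- the compatible family attached to a cofan
    have hnat : ∀ (s : Cofan fun a => F'.obj (f a)) (S T : Finset (Discrete α)) (g : S ⟶ T),
        F'.map ((liftToFinsetObj (Discrete.functor f)).map g) ≫
          Cofan.IsColimit.desc (hS T) (fun x => s.inj x.1.as) =
        Cofan.IsColimit.desc (hS S) (fun x => s.inj x.1.as) := by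
      intro s S T g
      apply Cofan.IsColimit.hom_ext (hS S)
      intro x
      rw [Cofan.IsColimit.fac]
      change F'.map (Sigma.ι (fun x : S => (Discrete.functor f).obj x) x) ≫
        F'.map ((liftToFinsetObj (Discrete.functor f)).map g) ≫ _ = _
      rw [← F'.map_comp_assoc]
      have e : Sigma.ι (fun x : S => (Discrete.functor f).obj x) x ≫
          (liftToFinsetObj (Discrete.functor f)).map g =
          Sigma.ι (fun x : T => (Discrete.functor f).obj x) ⟨x.1, g.down.down x.2⟩ := by
        simp [liftToFinsetObj]
      rw [e]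
      exact Cofan.IsColimit.fac (hS T) (fun x => s.inj x.1.as) ⟨x.1, g.down.down x.2⟩
    let coc : ∀ s : Cofan fun a => F'.obj (f a),
        Cocone (liftToFinsetObj (Discrete.functor f) ⋙ F') := fun s =>
      { pt := s.pt
        ι := { app := fun S => Cofan.IsColimit.desc (hS S) (fun x => s.inj x.1.as)
               naturality := fun S T g => by
                rw [Functor.comp_map, hnat s S T g]
                simp } }
    have hι : ∀ (S : Finset (Discrete α)) (x : S),
        Sigma.ι (fun x : S => (Discrete.functor f).obj x) x ≫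
          (finiteSubcoproductsCocone f).ι.app S = Sigma.ι f x.1.as := by
      intro S x
      simp [finiteSubcoproductsCocone]
    refine Cofan.IsColimit.mk _ (fun s => H.desc (coc s)) ?_ ?_
    · intro s a
      change F'.map (Sigma.ι f a) ≫ H.desc (coc s) = s.inj a
      have hfacS : ∀ (S : Finset (Discrete α)) (x : S),
          F'.map (Sigma.ι f x.1.as) ≫ H.desc (coc s) = s.inj x.1.as := by
        intro S x
        have e := hι S x
        have e3 : F'.map (Sigma.ι f x.1.as) =
            F'.map (Sigma.ι (fun x : S => (Discrete.functor f).obj x) x) ≫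
            F'.map ((finiteSubcoproductsCocone f).ι.app S) := by
          rw [← F'.map_comp, e]
          rfl
        have e2 : F'.map ((finiteSubcoproductsCocone f).ι.app S) ≫ H.desc (coc s) =
            (coc s).ι.app S := H.fac (coc s) S
        have step1 : F'.map (Sigma.ι f x.1.as) ≫ H.desc (coc s) =
            F'.map (Sigma.ι (fun x : S => (Discrete.functor f).obj x) x) ≫
            (F'.map ((finiteSubcoproductsCocone f).ι.app S) ≫ H.desc (coc s)) := by
          rw [e3]
          exact Category.assoc _ _ _
        have step2 := congrArg (fun t => F'.map (Sigma.ι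
          (fun x : S => (Discrete.functor f).obj x) x) ≫ t) e2
        exact step1.trans (step2.trans (Cofan.IsColimit.fac (hS S) (fun x => s.inj x.1.as) x))
      exact hfacS {Discrete.mk a} ⟨Discrete.mk a, Finset.mem_singleton_self _⟩
    · intro s m hm
      apply H.hom_ext
      intro S
      rw [H.fac]
      change F'.map ((finiteSubcoproductsCocone f).ι.app S) ≫ m =
        Cofan.IsColimit.desc (hS S) (fun x => s.inj x.1.as)
      apply Cofan.IsColimit.hom_ext (hS S)
      intro x
      rw [Cofan.IsColimit.fac]
      change F'.map (Sigma.ι (fun x : S => (Discrete.functor f).obj x) x) ≫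
        F'.map ((finiteSubcoproductsCocone f).ι.app S) ≫ m = _
      rw [← F'.map_comp_assoc, hι S x]
      exact hm x.1.as
  exact preservesColimitsOfShape_of_discrete F'

end Coprod

end Groth.Agent.Lib.Helper24.FpColim
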