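import Mathlib
import Groth.Agent.Lib.Helper24.FpColimB

/-!
# Functors on modules commuting with filtered colimits: right exactness
-/

set_option maxHeartbeats 400000
set_option linter.style.haveILetI false
set_option linter.unusedSectionVars false
set_option autoImplicit false

universe u v' u'

open CategoryTheory CategoryTheory.Limits

namespace Groth.Agent.Lib.Helper24.FpColim

variable {A : Type u} [CommRing A] {B : Type u'} [Category.{v'} B] [Preadditive B]

section FPcat

/-- the binary bicone of finitely presented modules given by the product module -/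
def fpBicone (X Y : (FP A).FullSubcategory) : BinaryBicone X Y where
  pt := ⟨ModuleCat.of A (X.obj × Y.obj), by
    haveI : Module.FinitePresentation A X.obj := X.property
    haveI : Module.FinitePresentation A Y.obj := Y.property
    exact (inferInstance : Module.FinitePresentation A (X.obj × Y.obj))⟩
  fst := ObjectProperty.homMk (ModuleCat.ofHom (LinearMap.fst A X.obj Y.obj))
  snd := ObjectProperty.homMk (ModuleCat.ofHom (LinearMap.snd A X.obj Y.obj))
  inl := ObjectProperty.homMk (ModuleCat.ofHom (LinearMap.inl A X.obj Y.obj))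
  inr := ObjectProperty.homMk (ModuleCat.ofHom (LinearMap.inr A X.obj Y.obj))
  inl_fst := by
    apply ObjectProperty.hom_ext; apply ModuleCat.hom_ext; apply LinearMap.ext; intro x; rfl
  inl_snd := by
    apply ObjectProperty.hom_ext; apply ModuleCat.hom_ext; apply LinearMap.ext; intro x; rfl
  inr_fst := by
    apply ObjectProperty.hom_ext; apply ModuleCat.hom_ext; apply LinearMap.ext; intro x; rfl
  inr_snd := by
    apply ObjectProperty.hom_ext; apply ModuleCat.hom_ext; apply LinearMap.ext; intro x; rfl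

lemma fpBicone_total (X Y : (FP A).FullSubcategory) :
    (fpBicone X Y).fst ≫ (fpBicone X Y).inl + (fpBicone X Y).snd ≫ (fpBicone X Y).inr =
      𝟙 (fpBicone X Y).pt := by
  apply ObjectProperty.hom_ext; apply ModuleCat.hom_ext; apply LinearMap.ext; intro x
  exact Prod.ext (add_zero _) (zero_add _)

instance : HasBinaryBiproducts (FP A).FullSubcategory :=
  ⟨fun X Y => hasBinaryBiproduct_of_total (fpBicone X Y) (fpBicone_total X Y)⟩

instance : HasZeroObject (FP A).FullSubcategory :=
  ⟨⟨⟨ModuleCat.of A PUnit.{u + 1}, (inferInstance : Module.FinitePresentation A PUnit.{u + 1})⟩,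
    (IsZero.iff_id_eq_zero _).2 (by
      apply ObjectProperty.hom_ext; apply ModuleCat.hom_ext; apply LinearMap.ext; intro x
      exact Subsingleton.elim _ _)⟩⟩

theorem additive_of_preservesFiniteColimits [HasFiniteBiproducts B]
    (G : (FP A).FullSubcategory ⥤ B) [PreservesFiniteColimits G] : G.Additive := by
  haveI : PreservesColimit (Functor.empty.{0} (FP A).FullSubcategory) G := inferInstance
  haveI : G.PreservesZeroMorphisms := Functor.preservesZeroMorphisms_of_preserves_initial_object
  haveI : PreservesColimitsOfShape (Discrete WalkingPair) G := inferInstance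
  haveI := Limits.preservesBinaryBiproducts_of_preservesBinaryCoproducts G
  exact Functor.additive_of_preservesBinaryBiproducts G

end FPcat

section Coker

variable (F' : ModuleCat.{u} A ⥤ B) [PreservesFilteredColimitsOfSize.{u, u} F']
  [PreservesFiniteColimits ((FP A).ι ⋙ F')] [((FP A).ι ⋙ F').Additive]

/-- quotients of finitely presented modules by finitely generated submodules are preserved -/
lemma fp_quot_epi (Ek : ModuleCat.{u} A) (hE : Module.FinitePresentation A Ek)
    (L : Submodule A Ek) (hL : L.FG) :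
    Epi (F'.map (ModuleCat.ofHom L.mkQ)) ∧
    ∀ (X : B) (t : F'.obj Ek ⟶ X),
      (∀ (n : ℕ) (a : ModuleCat.of A (Fin n → A) ⟶ Ek), LinearMap.range a.hom ≤ L →
        F'.map a ≫ t = 0) →
      ∃ s : F'.obj (ModuleCat.of A (Ek ⧸ L)) ⟶ X, F'.map (ModuleCat.ofHom L.mkQ) ≫ s = t := by
  obtain ⟨n, v, hv⟩ := Submodule.fg_iff_exists_fin_generating_family.1 hL
  let a₀ : (Fin n → A) →ₗ[A] Ek := Fintype.linearCombination A v
  have ha₀ : LinearMap.range a₀ = L := by
    rw [← hv]; exact Fintype.range_linearCombination A v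
  haveI := hE
  have hD : Module.FinitePresentation A (Ek ⧸ L) :=
    Module.finitePresentation_of_surjective L.mkQ (Submodule.mkQ_surjective _)
      (by rw [Submodule.ker_mkQ]; exact hL)
  let Xn : (FP A).FullSubcategory := ⟨ModuleCat.of A (Fin n → A),
    (inferInstance : Module.FinitePresentation A (Fin n → A))⟩
  let XE : (FP A).FullSubcategory := ⟨Ek, hE⟩
  let XD : (FP A).FullSubcategory := ⟨ModuleCat.of A (Ek ⧸ L), hD⟩
  let ah : Xn ⟶ XE := ObjectProperty.homMk (ModuleCat.ofHom a₀)
  let qh : XE ⟶ XD := ObjectProperty.homMk (ModuleCat.ofHom L.mkQ)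
  have w : ah ≫ qh = 0 := by
    apply ObjectProperty.hom_ext; apply ModuleCat.hom_ext; apply LinearMap.ext; intro x
    change L.mkQ (a₀ x) = 0
    rw [Submodule.mkQ_apply, Submodule.Quotient.mk_eq_zero, ← ha₀]
    exact ⟨x, rfl⟩
  have hle : ∀ {Z' : (FP A).FullSubcategory} (g' : XE ⟶ Z'), ah ≫ g' = 0 →
      L ≤ LinearMap.ker g'.hom.hom := by
    intro Z' g' hg' x hx
    rw [← ha₀] at hx
    obtain ⟨y, rfl⟩ := hx
    rw [LinearMap.mem_ker]
    have h1 : (ah ≫ g').hom.hom y = 0 := by rw [hg']; rfl
    exact h1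
  have hcok : IsColimit (CokernelCofork.ofπ qh w) :=
    CokernelCofork.IsColimit.ofπ qh w
      (fun {Z'} g' hg' => ObjectProperty.homMk (ModuleCat.ofHom (L.liftQ g'.hom.hom (hle g' hg'))))
      (fun {Z'} g' hg' => by
        apply ObjectProperty.hom_ext; apply ModuleCat.hom_ext
        exact L.liftQ_mkQ g'.hom.hom (hle g' hg'))
      (fun {Z'} g' hg' m hm => by
        apply ObjectProperty.hom_ext; apply ModuleCat.hom_ext
        apply Submodule.linearMap_qext
        have h1 : (qh ≫ m).hom.hom = g'.hom.hom := by rw [hm]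
        have h2 : (L.liftQ g'.hom.hom (hle g' hg')).comp L.mkQ = g'.hom.hom :=
          L.liftQ_mkQ g'.hom.hom (hle g' hg')
        exact h1.trans h2.symm)
  have hG := CokernelCofork.mapIsColimit _ hcok ((FP A).ι ⋙ F')
  refine ⟨⟨fun {X} k l h => Cofork.IsColimit.hom_ext hG h⟩, ?_⟩
  intro X t ht
  have h0 : ((FP A).ι ⋙ F').map ah ≫ t = 0 := by
    refine ht n (ModuleCat.ofHom a₀) ?_
    rw [← ha₀]
    exact le_rfl
  obtain ⟨s, hs⟩ := CokernelCofork.IsColimit.desc' hG t h0
  exact ⟨s, hs⟩

section Legs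

variable {K : Type u} [Preorder K] {E : K ⥤ ModuleCat.{u} A} (cN : Cocone E)
  (Q : Submodule A cN.pt)

/-- leg of the base cocone with clean codomain -/
def legN (k : K) : E.obj k ⟶ cN.pt := cN.ι.app k

/-- the quotient object -/
def quotPt : ModuleCat.{u} A := ModuleCat.of A (cN.pt ⧸ Q)

/-- the quotient map -/
def piN : cN.pt ⟶ quotPt cN Q := ModuleCat.ofHom Q.mkQ

/-- leg of the quotient cocone -/
noncomputable def legR (p : RIdx cN Q) : (quotFunctor cN Q).obj p ⟶ quotPt cN Q :=
  (quotCocone cN Q).ι.app p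

/-- stagewise quotient map -/
noncomputable def qR (p : RIdx cN Q) : E.obj p.k ⟶ (quotFunctor cN Q).obj p :=
  ModuleCat.ofHom p.L.mkQ

lemma sq1 (p : RIdx cN Q) : qR cN Q p ≫ legR cN Q p = legN cN p.k ≫ piN cN Q := by
  apply ModuleCat.hom_ext; apply LinearMap.ext; intro x; rfl

lemma sq2 {p p' : RIdx cN Q} (g : p ⟶ p') :
    qR cN Q p ≫ (quotFunctor cN Q).map g =
      E.map (homOfLE (leOfHom g).1) ≫ qR cN Q p' := by
  apply ModuleCat.hom_ext; apply LinearMap.ext; intro x; rfl

lemma legN_w {k k' : K} (g : k ⟶ k') : E.map g ≫ legN cN k' = legN cN k := cN.w g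

end Legs

variable [F'.Additive]

theorem epi_and_exists_desc {M N : ModuleCat.{u} A} (f : M ⟶ N) :
    Epi (F'.map (ModuleCat.ofHom (LinearMap.range f.hom).mkQ)) ∧
    ∀ (X : B) (t : F'.obj N ⟶ X), F'.map f ≫ t = 0 →
      ∃ s : F'.obj (ModuleCat.of A (N ⧸ LinearMap.range f.hom)) ⟶ X,
        F'.map (ModuleCat.ofHom (LinearMap.range f.hom).mkQ) ≫ s = t := by
  obtain ⟨K, _, _, _, E, cN, hpt, hN, hfpE⟩ := exists_fpPres N
  subst hpt
  obtain ⟨Q, hQ⟩ : ∃ Q : Submodule A cN.pt, Q = LinearMap.range f.hom := ⟨_, rfl⟩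
  rw [← hQ]
  change Epi (F'.map (piN cN Q)) ∧ ∀ (X : B) (t : F'.obj cN.pt ⟶ X), F'.map f ≫ t = 0 →
      ∃ s : F'.obj (quotPt cN Q) ⟶ X, F'.map (piN cN Q) ≫ s = t
  have hR : IsDirColim (quotCocone cN Q) := quotCocone_isDirColim cN Q hN.surj
  haveI : IsFiltered (RIdx cN Q) := inferInstance
  haveI : IsFiltered K := inferInstance
  haveI : PreservesColimitsOfShape (RIdx cN Q) F' :=
    PreservesFilteredColimitsOfSize.preserves_filtered_colimits _
  haveI : PreservesColimitsOfShape K F' :=
    PreservesFilteredColimitsOfSize.preserves_filtered_colimits _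
  have H := isColimitOfPreserves F' hR.isColimit
  have HN := isColimitOfPreserves F' hN.isColimit
  have hC : ∀ p : RIdx cN Q, Epi (F'.map (qR cN Q p)) ∧
      ∀ (X : B) (t : F'.obj (E.obj p.k) ⟶ X),
        (∀ (n : ℕ) (a : ModuleCat.of A (Fin n → A) ⟶ E.obj p.k),
          LinearMap.range a.hom ≤ p.L → F'.map a ≫ t = 0) →
        ∃ s : F'.obj ((quotFunctor cN Q).obj p) ⟶ X, F'.map (qR cN Q p) ≫ s = t :=
    fun p => fp_quot_epi F' (E.obj p.k) (hfpE p.k) p.L p.fg
  have e1 : ∀ (p : RIdx cN Q) {X : B} (u : F'.obj (quotPt cN Q) ⟶ X),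
      F'.map (qR cN Q p) ≫ F'.map (legR cN Q p) ≫ u =
        F'.map (legN cN p.k) ≫ F'.map (piN cN Q) ≫ u := by
    intro p X u
    rw [← F'.map_comp_assoc, sq1, F'.map_comp, Category.assoc]
  refine ⟨⟨fun {X} s s' h => ?_⟩, ?_⟩
  · apply H.hom_ext
    intro p
    change F'.map (legR cN Q p) ≫ s = F'.map (legR cN Q p) ≫ s'
    haveI := (hC p).1
    rw [← cancel_epi (F'.map (qR cN Q p)), e1 p s, e1 p s', h]
  · intro X t ht
    have hstage : ∀ p : RIdx cN Q, ∃ s : F'.obj ((quotFunctor cN Q).obj p) ⟶ X,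
        F'.map (qR cN Q p) ≫ s = F'.map (legN cN p.k) ≫ t := by
      intro p
      apply (hC p).2 X (F'.map (legN cN p.k) ≫ t)
      intro n a ha
      have hrange : ∀ i : Fin n, ∃ m : M, f.hom m = (legN cN p.k).hom (a.hom (Pi.single i 1)) := by
        intro i
        have h1 : (cN.ι.app p.k).hom (a.hom (Pi.single i 1)) ∈ Q :=
          p.le (Submodule.mem_map_of_mem (ha ⟨_, rfl⟩))
        exact (SetLike.ext_iff.1 hQ _).1 h1
      choose m hm using hrange
      have hb : (ModuleCat.ofHom (Fintype.linearCombination A m) :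
          ModuleCat.of A (Fin n → A) ⟶ M) ≫ f = a ≫ legN cN p.k := by
        apply ModuleCat.hom_ext
        apply LinearMap.pi_ext'
        intro i
        apply LinearMap.ext_ring
        change f.hom (Fintype.linearCombination A m (Pi.single i 1)) =
          (legN cN p.k).hom (a.hom (Pi.single i 1))
        rw [Fintype.linearCombination_apply_single, one_smul, hm]
      rw [← F'.map_comp_assoc, ← hb, F'.map_comp, Category.assoc, ht, comp_zero]
    choose s hs using hstage
    have hnat : ∀ (p p' : RIdx cN Q) (g : p ⟶ p'),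
        F'.map ((quotFunctor cN Q).map g) ≫ s p' = s p := by
      intro p p' g
      haveI := (hC p).1
      rw [← cancel_epi (F'.map (qR cN Q p)), hs p, ← F'.map_comp_assoc, sq2 cN Q g,
        F'.map_comp, Category.assoc, hs p', ← F'.map_comp_assoc, legN_w]
    let coc : Cocone (quotFunctor cN Q ⋙ F') :=
      { pt := X
        ι := { app := s
               naturality := fun p p' g => by
                rw [Functor.comp_map, hnat p p' g]
                simp } }
    refine ⟨H.desc coc, ?_⟩
    apply HN.hom_ext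
    intro k
    change F'.map (legN cN k) ≫ F'.map (piN cN Q) ≫ H.desc coc = F'.map (legN cN k) ≫ t
    have e2 : F'.map (legR cN Q ⟨k, ⊥, Submodule.fg_bot, by rw [Submodule.map_bot]; exact bot_le⟩) ≫
        H.desc coc = s ⟨k, ⊥, Submodule.fg_bot, by rw [Submodule.map_bot]; exact bot_le⟩ :=
      H.fac coc ⟨k, ⊥, Submodule.fg_bot, by rw [Submodule.map_bot]; exact bot_le⟩
    have e3 := e1 ⟨k, ⊥, Submodule.fg_bot, by rw [Submodule.map_bot]; exact bot_le⟩ (H.desc coc)
    rw [e2, hs] at e3
    exact e3.symm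

theorem preservesCokernel [HasFiniteBiproducts B] {M N : ModuleCat.{u} A} (f : M ⟶ N) :
    PreservesColimit (parallelPair f 0) F' := by
  apply preservesColimit_of_preserves_colimit_cocone (ModuleCat.cokernelIsColimit f)
  refine (CokernelCofork.isColimitMapCoconeEquiv (ModuleCat.cokernelCocone f) F').symm ?_
  obtain ⟨hepi, hex⟩ := epi_and_exists_desc F' f
  have hw : F'.map f ≫ F'.map (ModuleCat.ofHom (LinearMap.range f.hom).mkQ) = 0 :=
    (ModuleCat.cokernelCocone f).map_condition F'
  exact CokernelCofork.IsColimit.ofπ' (F'.map (ModuleCat.ofHom (LinearMap.range f.hom).mkQ)) hw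
    (fun {X} t ht => ⟨(hex X t ht).choose, (hex X t ht).choose_spec⟩)

theorem preservesFiniteColimits_of_fp [HasFiniteBiproducts B] : PreservesFiniteColimits F' := by
  haveI : ∀ {X Y : ModuleCat.{u} A} (f : X ⟶ Y), PreservesColimit (parallelPair f 0) F' :=
    fun f => preservesCokernel F' f
  exact Functor.preservesFiniteColimits_of_preservesCokernels F'

end Coker

end Groth.Agent.Lib.Helper24.FpColim
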