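import Mathlib
import Groth.Agent.Lib.Helper24.FpColimC
import Groth.Agent.Lib.Helper24.ArrowPresA
import Groth.Agent.Lib.Helper24.CohRingA

/-!
# Functors on modules over a coherent ring commuting with filtered colimits: left exactness
-/

set_option maxHeartbeats 800000
set_option linter.style.haveILetI false
set_option linter.unusedSectionVars false
set_option autoImplicit false

universe u v' u'

open CategoryTheory CategoryTheory.Limits

namespace Groth.Agent.Lib.Helper24.FpColim

variable {A : Type u} [CommRing A] {B : Type u'} [Category.{v'} B] [Preadditive B]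

theorem additive_of_preservesFiniteLimits [HasFiniteBiproducts B]
    (G : (FP A).FullSubcategory ⥤ B) [PreservesFiniteLimits G] : G.Additive := by
  haveI : PreservesLimit (Functor.empty.{0} (FP A).FullSubcategory) G := inferInstance
  haveI : G.PreservesZeroMorphisms := Functor.preservesZeroMorphisms_of_preserves_terminal_object
  haveI : PreservesLimitsOfShape (Discrete WalkingPair) G := inferInstance
  exact Functor.additive_of_preserves_binary_products G

/-- inclusion of the kernel of a map of modules -/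
def kerι {P P' : ModuleCat.{u} A} (g : P ⟶ P') :
    ModuleCat.of A (LinearMap.ker g.hom) ⟶ P := ModuleCat.ofHom (LinearMap.ker g.hom).subtype

lemma kerι_comp {P P' : ModuleCat.{u} A} (g : P ⟶ P') : kerι g ≫ g = 0 := by
  apply ModuleCat.hom_ext; apply LinearMap.ext; intro x
  exact LinearMap.mem_ker.1 x.2

section

variable (hcoh : ∀ I : Ideal A, I.FG → Module.FinitePresentation A I)
  (F' : ModuleCat.{u} A ⥤ B) [PreservesFiniteLimits ((FP A).ι ⋙ F')]
  [((FP A).ι ⋙ F').Additive]
include hcoh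

theorem fp_kernel_isLimit {P P' : ModuleCat.{u} A} (hP : Module.FinitePresentation A P)
    (hP' : Module.FinitePresentation A P') (g : P ⟶ P')
    (w : F'.map (kerι g) ≫ F'.map g = 0) :
    Nonempty (IsLimit (KernelFork.ofι (F'.map (kerι g)) w)) := by
  haveI := hP
  haveI := hP'
  have hK : Module.FinitePresentation A (LinearMap.ker g.hom) := CohRing.fp_ker hcoh g.hom
  let XK : (FP A).FullSubcategory := ⟨ModuleCat.of A (LinearMap.ker g.hom), hK⟩
  let XP : (FP A).FullSubcategory := ⟨P, hP⟩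
  let XP' : (FP A).FullSubcategory := ⟨P', hP'⟩
  let κh : XK ⟶ XP := ObjectProperty.homMk (kerι g)
  let gh : XP ⟶ XP' := ObjectProperty.homMk g
  have w0 : κh ≫ gh = 0 := by
    apply ObjectProperty.hom_ext
    exact kerι_comp g
  have hmem : ∀ {W' : (FP A).FullSubcategory} (g' : W' ⟶ XP), g' ≫ gh = 0 →
      ∀ x, g'.hom.hom x ∈ LinearMap.ker g.hom := by
    intro W' g' hg' x
    rw [LinearMap.mem_ker]
    have h1 : (g' ≫ gh).hom.hom x = 0 := by rw [hg']; rfl
    exact h1
  have hlim : IsLimit (KernelFork.ofι κh w0) :=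
    KernelFork.IsLimit.ofι κh w0
      (fun {W'} g' hg' => ObjectProperty.homMk (ModuleCat.ofHom
        (LinearMap.codRestrict (LinearMap.ker g.hom) g'.hom.hom (hmem g' hg'))))
      (fun {W'} g' hg' => by
        apply ObjectProperty.hom_ext; apply ModuleCat.hom_ext; apply LinearMap.ext; intro x
        rfl)
      (fun {W'} g' hg' m hm => by
        apply ObjectProperty.hom_ext; apply ModuleCat.hom_ext; apply LinearMap.ext; intro x
        apply Subtype.ext
        have h1 : (m ≫ κh).hom.hom x = g'.hom.hom x := by rw [hm]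
        exact h1)
  exact ⟨KernelFork.mapIsLimit _ hlim ((FP A).ι ⋙ F')⟩

variable [HasFiniteBiproducts B] [HasKernels B] [HasFilteredColimitsOfSize.{u, u} B]
  (hcomm : ∀ (J : Type u) [SmallCategory J] [IsFiltered J],
      PreservesLimitsOfShape WalkingParallelPair (colim : (J ⥤ B) ⥤ B))
  [PreservesFilteredColimitsOfSize.{u, u} F'] [F'.Additive]
include hcomm

theorem isLimit_map_kernel {M N : ModuleCat.{u} A} (f : M ⟶ N)
    (wf : F'.map (kerι f) ≫ F'.map f = 0) :
    Nonempty (IsLimit (KernelFork.ofι (F'.map (kerι f)) wf)) := by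
  obtain ⟨JM, _, _, _, DM, cM, hptM, hM, hfpM⟩ := exists_fpPres M
  obtain ⟨JN, _, _, _, DN, cN, hptN, hN, hfpN⟩ := exists_fpPres N
  subst hptM
  subst hptN
  haveI : IsDirected (AIdx cM cN f) (· ≤ ·) := AIdx.isDirected_of cM cN f hN.isColimit hfpM
  haveI : Nonempty (AIdx cM cN f) := AIdx.nonempty_of cM cN f hN.isColimit hfpM
  have hM' := srcCocone_isDirColim cM cN f hN.isColimit hfpM hM
  have hN' := tgtCocone_isDirColim cM cN f hN.isColimit hfpM hN
  have hK' := kerCocone_isDirColim cM cN f hM' hN'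
  haveI : IsFiltered (AIdx cM cN f) := inferInstance
  haveI : PreservesColimitsOfShape (AIdx cM cN f) F' :=
    PreservesFilteredColimitsOfSize.preserves_filtered_colimits _
  haveI : HasColimitsOfShape (AIdx cM cN f) B :=
    HasFilteredColimitsOfSize.HasColimitsOfShape _
  have HK := isColimitOfPreserves F' hK'.isColimit
  have HS := isColimitOfPreserves F' hM'.isColimit
  have HT := isColimitOfPreserves F' hN'.isColimit
  -- the diagrams in `B`
  obtain ⟨κ, hκ⟩ : ∃ κ : kerF cM cN f ⟶ srcF cM cN f, κ = kerIncl cM cN f := ⟨_, rfl⟩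
  obtain ⟨γ, hγ⟩ : ∃ γ : srcF cM cN f ⟶ tgtF cM cN f, γ = arrowNat cM cN f := ⟨_, rfl⟩
  have hκγ : ∀ a : AIdx cM cN f, κ.app a ≫ γ.app a = 0 := fun a => by
    rw [hκ, hγ]
    exact kerι_comp a.φ
  have wκ : Functor.whiskerRight κ F' ≫ Functor.whiskerRight γ F' = 0 := by
    ext a
    change F'.map (κ.app a) ≫ F'.map (γ.app a) = 0
    rw [← F'.map_comp, hκγ, F'.map_zero]
  have K1 : ∀ a : AIdx cM cN f, IsLimit (KernelFork.ofι (f := F'.map (γ.app a))
      (F'.map (κ.app a)) (by rw [← F'.map_comp, hκγ, F'.map_zero])) := fun a => by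
    subst hκ
    subst hγ
    exact (fp_kernel_isLimit hcoh F' (hfpM a.j) (hfpN a.k) a.φ _).some
  have K2 : IsLimit (KernelFork.ofι (Functor.whiskerRight κ F') wκ) := by
    apply evaluationJointlyReflectsLimits
    intro a
    exact (KernelFork.isLimitMapConeEquiv _ ((evaluation (AIdx cM cN f) B).obj a)).symm (K1 a)
  haveI := hcomm (AIdx cM cN f)
  have K3 : IsLimit ((KernelFork.ofι (Functor.whiskerRight κ F') wκ).map colim) :=
    KernelFork.mapIsLimit _ K2 colim
  -- clean legs
  obtain ⟨legK, hlegK⟩ : ∃ l : ∀ a : AIdx cM cN f,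
      (kerF cM cN f).obj a ⟶ ModuleCat.of A (LinearMap.ker f.hom),
      ∀ a, l a = (kerCocone cM cN f).ι.app a := ⟨fun a => (kerCocone cM cN f).ι.app a, fun _ => rfl⟩
  obtain ⟨legS, hlegS⟩ : ∃ l : ∀ a : AIdx cM cN f, (srcF cM cN f).obj a ⟶ cM.pt,
      ∀ a, l a = (srcCocone cM cN f).ι.app a := ⟨fun a => (srcCocone cM cN f).ι.app a, fun _ => rfl⟩
  obtain ⟨legT, hlegT⟩ : ∃ l : ∀ a : AIdx cM cN f, (tgtF cM cN f).obj a ⟶ cN.pt,
      ∀ a, l a = (tgtCocone cM cN f).ι.app a := ⟨fun a => (tgtCocone cM cN f).ι.app a, fun _ => rfl⟩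
  -- comparison isomorphisms
  obtain ⟨eK, heK⟩ : ∃ e : colimit (kerF cM cN f ⋙ F') ≅
      F'.obj (ModuleCat.of A (LinearMap.ker f.hom)),
      ∀ a, colimit.ι (kerF cM cN f ⋙ F') a ≫ e.hom = F'.map (legK a) :=
    ⟨(colimit.isColimit _).coconePointUniqueUpToIso HK,
      fun a => by rw [hlegK]; exact IsColimit.comp_coconePointUniqueUpToIso_hom _ HK a⟩
  obtain ⟨eS, heS⟩ : ∃ e : colimit (srcF cM cN f ⋙ F') ≅ F'.obj cM.pt,
      ∀ a, colimit.ι (srcF cM cN f ⋙ F') a ≫ e.hom = F'.map (legS a) :=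
    ⟨(colimit.isColimit _).coconePointUniqueUpToIso HS,
      fun a => by rw [hlegS]; exact IsColimit.comp_coconePointUniqueUpToIso_hom _ HS a⟩
  obtain ⟨eT, heT⟩ : ∃ e : colimit (tgtF cM cN f ⋙ F') ≅ F'.obj cN.pt,
      ∀ a, colimit.ι (tgtF cM cN f ⋙ F') a ≫ e.hom = F'.map (legT a) :=
    ⟨(colimit.isColimit _).coconePointUniqueUpToIso HT,
      fun a => by rw [hlegT]; exact IsColimit.comp_coconePointUniqueUpToIso_hom _ HT a⟩
  have sqK : ∀ a : AIdx cM cN f, κ.app a ≫ legS a = legK a ≫ kerι f := fun a => by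
    rw [hκ, hlegS, hlegK]
    apply ModuleCat.hom_ext; apply LinearMap.ext; intro x; rfl
  have sqS : ∀ a : AIdx cM cN f, γ.app a ≫ legT a = legS a ≫ f := fun a => by
    rw [hγ, hlegT, hlegS]
    exact a.comm
  have S1 : colimMap (Functor.whiskerRight κ F') ≫ eS.hom = eK.hom ≫ F'.map (kerι f) := by
    apply colimit.hom_ext
    intro a
    have e1 : colimit.ι (kerF cM cN f ⋙ F') a ≫ colimMap (Functor.whiskerRight κ F') ≫ eS.hom
        = F'.map (κ.app a) ≫ colimit.ι (srcF cM cN f ⋙ F') a ≫ eS.hom := by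
      rw [ι_colimMap_assoc, Functor.whiskerRight_app]
    have e2 : F'.map (κ.app a) ≫ F'.map (legS a) = F'.map (legK a) ≫ F'.map (kerι f) := by
      rw [← F'.map_comp, sqK, F'.map_comp]
    have e3 : colimit.ι (kerF cM cN f ⋙ F') a ≫ eK.hom ≫ F'.map (kerι f) =
        F'.map (legK a) ≫ F'.map (kerι f) := by
      rw [← Category.assoc, heK]
    rw [e1, heS, e2, e3]
  have S2 : colimMap (Functor.whiskerRight γ F') ≫ eT.hom = eS.hom ≫ F'.map f := by
    apply colimit.hom_ext
    intro a
    have e1 : colimit.ι (srcF cM cN f ⋙ F') a ≫ colimMap (Functor.whiskerRight γ F') ≫ eT.hom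
        = F'.map (γ.app a) ≫ colimit.ι (tgtF cM cN f ⋙ F') a ≫ eT.hom := by
      rw [ι_colimMap_assoc, Functor.whiskerRight_app]
    have e2 : F'.map (γ.app a) ≫ F'.map (legT a) = F'.map (legS a) ≫ F'.map f := by
      rw [← F'.map_comp, sqS, F'.map_comp]
    have e3 : colimit.ι (srcF cM cN f ⋙ F') a ≫ eS.hom ≫ F'.map f =
        F'.map (legS a) ≫ F'.map f := by
      rw [← Category.assoc, heS]
    rw [e1, heT, e2, e3]
  have S2' : eS.inv ≫ colimMap (Functor.whiskerRight γ F') = F'.map f ≫ eT.inv := by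
    rw [Iso.inv_comp_eq, ← Category.assoc, ← S2, Category.assoc, Iso.hom_inv_id, Category.comp_id]
  have S1' : F'.map (kerι f) = eK.inv ≫ colimMap (Functor.whiskerRight κ F') ≫ eS.hom := by
    rw [S1, Iso.inv_hom_id_assoc]
  haveI hmono : Mono (colimMap (Functor.whiskerRight κ F')) := mono_of_isLimit_fork K3
  haveI hmono2 : Mono (colimMap (Functor.whiskerRight κ F') ≫ eS.hom) := mono_comp _ _
  haveI : Mono (F'.map (kerι f)) := by
    rw [S1']
    exact mono_comp _ _
  refine ⟨KernelFork.IsLimit.ofι' (F'.map (kerι f)) wf (fun {W} k hk => ?_)⟩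
  have hl : (k ≫ eS.inv) ≫ colimMap (Functor.whiskerRight γ F') = 0 := by
    rw [Category.assoc, S2', ← Category.assoc, hk, zero_comp]
  let l : W ⟶ colimit (kerF cM cN f ⋙ F') := (KernelFork.IsLimit.lift' K3 (k ≫ eS.inv) hl).1
  have hl'' : l ≫ colimMap (Functor.whiskerRight κ F') = k ≫ eS.inv :=
    (KernelFork.IsLimit.lift' K3 (k ≫ eS.inv) hl).2
  refine ⟨l ≫ eK.hom, ?_⟩
  rw [Category.assoc, ← S1, ← Category.assoc, hl'', Category.assoc, Iso.inv_hom_id,
    Category.comp_id]

theorem preservesKernel {M N : ModuleCat.{u} A} (f : M ⟶ N) :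
    PreservesLimit (parallelPair f 0) F' := by
  apply preservesLimit_of_preserves_limit_cone (ModuleCat.kernelIsLimit f)
  refine (KernelFork.isLimitMapConeEquiv (ModuleCat.kernelCone f) F').symm ?_
  exact (isLimit_map_kernel hcoh F' hcomm f ((ModuleCat.kernelCone f).map_condition F')).some

theorem preservesFiniteLimits_of_fp : PreservesFiniteLimits F' := by
  haveI : ∀ {X Y : ModuleCat.{u} A} (f : X ⟶ Y), PreservesLimit (parallelPair f 0) F' :=
    fun f => preservesKernel hcoh F' hcomm f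
  exact Functor.preservesFiniteLimits_of_preservesKernels F'

end

end Groth.Agent.Lib.Helper24.FpColim
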