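import Mathlib
import Groth.Agent.Lib.Helper24.FpColimB
import Groth.Agent.Lib.Helper24.ArrowPresA

/-!
# Uniqueness of extensions from finitely presented modules
Two functors on modules commuting with filtered colimits whose restrictions to finitely
presented modules are isomorphic are isomorphic.
-/

set_option maxHeartbeats 400000
set_option linter.style.haveILetI false
set_option linter.unusedSectionVars false
set_option autoImplicit false

universe u v' u'

open CategoryTheory CategoryTheory.Limits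

namespace Groth.Agent.Lib.Helper24.FpExt

open Groth.Agent.Lib.Helper24.FpColim

variable {A : Type u} [CommRing A] {B : Type u'} [Category.{v'} B]

/-- the category of finitely presented modules -/
abbrev FPc (A : Type u) [CommRing A] := (FP A).FullSubcategory

section Uniq

variable (F₁ F₂ : ModuleCat.{u} A ⥤ B)

/-- clean components of a transformation between restrictions -/
def αc (α : (FP A).ι ⋙ F₁ ⟶ (FP A).ι ⋙ F₂) (X : FPc A) : F₁.obj X.obj ⟶ F₂.obj X.obj :=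
  α.app X

lemma αc_nat (α : (FP A).ι ⋙ F₁ ⟶ (FP A).ι ⋙ F₂) {X Y : FPc A} (h : X.obj ⟶ Y.obj) :
    F₁.map h ≫ αc F₁ F₂ α Y = αc F₁ F₂ α X ≫ F₂.map h :=
  α.naturality (ObjectProperty.homMk h)

lemma presShape (G : ModuleCat.{u} A ⥤ B) [PreservesFilteredColimitsOfSize.{u, u} G]
    (J : Type u) [Preorder J] [IsDirected J (· ≤ ·)] [Nonempty J] :
    PreservesColimitsOfShape J G :=
  PreservesFilteredColimitsOfSize.preserves_filtered_colimits J

variable [PreservesFilteredColimitsOfSize.{u, u} F₁]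

lemma hom_ext_fp (M : ModuleCat.{u} A) {Z : B} (a b : F₁.obj M ⟶ Z)
    (h : ∀ (X : FPc A) (g : X.obj ⟶ M), F₁.map g ≫ a = F₁.map g ≫ b) : a = b := by
  obtain ⟨J, _, _, _, D, c, hpt, hdc, hfp⟩ := exists_fpPres M
  subst hpt
  have hc : IsColimit c := hdc.isColimit
  haveI : PreservesColimitsOfShape J F₁ := presShape F₁ J
  have H₁ : IsColimit (F₁.mapCocone c) := isColimitOfPreserves F₁ hc
  apply H₁.hom_ext
  intro j
  exact h ⟨D.obj j, hfp j⟩ (leg c j)

lemma exists_ext_app (α : (FP A).ι ⋙ F₁ ⟶ (FP A).ι ⋙ F₂) (M : ModuleCat.{u} A) :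
    ∃ t : F₁.obj M ⟶ F₂.obj M, ∀ (X : FPc A) (g : X.obj ⟶ M),
      F₁.map g ≫ t = αc F₁ F₂ α X ≫ F₂.map g := by
  obtain ⟨J, _, _, _, D, c, hpt, hdc, hfp⟩ := exists_fpPres M
  subst hpt
  have hc : IsColimit c := hdc.isColimit
  haveI : PreservesColimitsOfShape J F₁ := presShape F₁ J
  have H₁ : IsColimit (F₁.mapCocone c) := isColimitOfPreserves F₁ hc
  let Xj : J → FPc A := fun j => ⟨D.obj j, hfp j⟩
  have hnat : ∀ {j k : J} (f : j ⟶ k),
      F₁.map (D.map f) ≫ αc F₁ F₂ α (Xj k) ≫ F₂.map (leg c k) =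
        αc F₁ F₂ α (Xj j) ≫ F₂.map (leg c j) := by
    intro j k f
    have e1 : F₁.map (D.map f) ≫ αc F₁ F₂ α (Xj k) =
        αc F₁ F₂ α (Xj j) ≫ F₂.map (D.map f) :=
      αc_nat F₁ F₂ α (X := Xj j) (Y := Xj k) (D.map f)
    have e2 : D.map f ≫ leg c k = leg c j := c.w f
    rw [← Category.assoc, e1, Category.assoc, ← F₂.map_comp, e2]
  let s : Cocone (D ⋙ F₁) :=
    { pt := F₂.obj c.pt
      ι := { app := fun j => αc F₁ F₂ α (Xj j) ≫ F₂.map (leg c j)
             naturality := fun j k f => by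
               change F₁.map (D.map f) ≫ αc F₁ F₂ α (Xj k) ≫ F₂.map (leg c k) =
                 (αc F₁ F₂ α (Xj j) ≫ F₂.map (leg c j)) ≫ 𝟙 _
               rw [Category.comp_id]
               exact hnat f } }
  refine ⟨H₁.desc s, ?_⟩
  intro X g
  haveI : Module.FinitePresentation A X.obj := X.property
  obtain ⟨j, φ, hφ⟩ := hom_factors' hc X.obj g
  have h1 : F₁.map (leg c j) ≫ H₁.desc s = αc F₁ F₂ α (Xj j) ≫ F₂.map (leg c j) :=
    H₁.fac s j
  have h2 : F₁.map φ ≫ αc F₁ F₂ α (Xj j) = αc F₁ F₂ α X ≫ F₂.map φ :=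
    αc_nat F₁ F₂ α (X := X) (Y := Xj j) φ
  rw [← hφ, F₁.map_comp, Category.assoc, h1, ← Category.assoc, h2, Category.assoc,
    ← F₂.map_comp]

/-- the component of the extended transformation -/
noncomputable def extApp (α : (FP A).ι ⋙ F₁ ⟶ (FP A).ι ⋙ F₂) (M : ModuleCat.{u} A) :
    F₁.obj M ⟶ F₂.obj M := (exists_ext_app F₁ F₂ α M).choose

@[reassoc]
lemma extApp_spec (α : (FP A).ι ⋙ F₁ ⟶ (FP A).ι ⋙ F₂) (M : ModuleCat.{u} A) (X : FPc A)
    (g : X.obj ⟶ M) : F₁.map g ≫ extApp F₁ F₂ α M = αc F₁ F₂ α X ≫ F₂.map g :=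
  (exists_ext_app F₁ F₂ α M).choose_spec X g

/-- the extended natural transformation -/
noncomputable def extNat (α : (FP A).ι ⋙ F₁ ⟶ (FP A).ι ⋙ F₂) : F₁ ⟶ F₂ where
  app M := extApp F₁ F₂ α M
  naturality M N f := by
    apply hom_ext_fp F₁ M
    intro X g
    have e1 : F₁.map g ≫ F₁.map f ≫ extApp F₁ F₂ α N = αc F₁ F₂ α X ≫ F₂.map (g ≫ f) := by
      rw [← extApp_spec F₁ F₂ α N X (g ≫ f), F₁.map_comp, Category.assoc]
    have e2 : F₁.map g ≫ extApp F₁ F₂ α M ≫ F₂.map f = αc F₁ F₂ α X ≫ F₂.map (g ≫ f) := by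
      rw [extApp_spec_assoc, ← F₂.map_comp]
    exact e1.trans e2.symm

lemma extNat_app_fp (α : (FP A).ι ⋙ F₁ ⟶ (FP A).ι ⋙ F₂) (X : FPc A) :
    (extNat F₁ F₂ α).app X.obj = αc F₁ F₂ α X := by
  change extApp F₁ F₂ α X.obj = _
  have h := extApp_spec F₁ F₂ α X.obj X (𝟙 X.obj)
  rwa [F₁.map_id, F₂.map_id, Category.id_comp, Category.comp_id] at h

lemma nat_ext (θ θ' : F₁ ⟶ F₂) (h : ∀ X : FPc A, θ.app X.obj = θ'.app X.obj) : θ = θ' := by
  ext M
  apply hom_ext_fp F₁ M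
  intro X g
  rw [θ.naturality, θ'.naturality, h X]

end Uniq

theorem iso_of_iso_on_fp (F₁ F₂ : ModuleCat.{u} A ⥤ B)
    [PreservesFilteredColimitsOfSize.{u, u} F₁] [PreservesFilteredColimitsOfSize.{u, u} F₂]
    (e : (FP A).ι ⋙ F₁ ≅ (FP A).ι ⋙ F₂) : Nonempty (F₁ ≅ F₂) := by
  refine ⟨⟨extNat F₁ F₂ e.hom, extNat F₂ F₁ e.inv, ?_, ?_⟩⟩
  · apply nat_ext F₁ F₁
    intro X
    rw [NatTrans.comp_app, extNat_app_fp, extNat_app_fp, NatTrans.id_app]
    exact e.hom_inv_id_app X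
  · apply nat_ext F₂ F₂
    intro X
    rw [NatTrans.comp_app, extNat_app_fp, extNat_app_fp, NatTrans.id_app]
    exact e.inv_hom_id_app X

end Groth.Agent.Lib.Helper24.FpExt
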