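import Mathlib
import Groth.Agent.Lib.Helper24.FpExtA

/-!
# Existence of extensions from finitely presented modules
A functor on finitely presented modules with values in a category with filtered colimits extends
to a functor on all modules which commutes with filtered colimits.
-/

set_option maxHeartbeats 400000
set_option linter.style.haveILetI false
set_option linter.unusedSectionVars false
set_option autoImplicit false

universe u v' u'

open CategoryTheory CategoryTheory.Limits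

namespace Groth.Agent.Lib.Helper24.FpExt

open Groth.Agent.Lib.Helper24.FpColim

variable {A : Type u} [CommRing A] {B : Type u'} [Category.{v'} B]

/-- a directed presentation of a module by finitely presented modules, with the compactness
properties recorded -/
structure Pres (M : ModuleCat.{u} A) where
  J : Type u
  [ord : Preorder J]
  [dir : IsDirected J (· ≤ ·)]
  [ne : Nonempty J]
  D : J ⥤ ModuleCat.{u} A
  hfp : ∀ j, Module.FinitePresentation A (D.obj j)
  lg : ∀ j, D.obj j ⟶ M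
  w : ∀ {j k : J} (h : j ≤ k), mapLE D h ≫ lg k = lg j
  fac : ∀ (P : ModuleCat.{u} A) [Module.FinitePresentation A P] (g : P ⟶ M),
    ∃ (j : J) (φ : P ⟶ D.obj j), φ ≫ lg j = g
  eqz : ∀ (P : ModuleCat.{u} A) [Module.Finite A P] {j : J} (φ ψ : P ⟶ D.obj j),
    φ ≫ lg j = ψ ≫ lg j → ∃ (k : J) (hjk : j ≤ k), φ ≫ mapLE D hjk = ψ ≫ mapLE D hjk

attribute [instance] Pres.ord Pres.dir Pres.ne

lemma pres_nonempty (M : ModuleCat.{u} A) : Nonempty (Pres M) := by
  obtain ⟨J, _, _, _, D, c, hpt, hdc, hfp⟩ := exists_fpPres M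
  subst hpt
  have hc : IsColimit c := hdc.isColimit
  exact ⟨{ J := J, D := D, hfp := hfp, lg := fun j => leg c j,
           w := by intro j k h; exact mapLE_leg c h
           fac := by intro P _ g; exact hom_factors' hc P g
           eqz := by intro P _ j φ ψ h; exact hom_eq_at_stage hc P φ ψ h }⟩

/-- a chosen presentation -/
noncomputable def pres (M : ModuleCat.{u} A) : Pres M := Classical.choice (pres_nonempty M)

variable (F : FPc A ⥤ B) [HasFilteredColimitsOfSize.{u, u} B]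

instance hasColimPres {M : ModuleCat.{u} A} (p : Pres M) : HasColimitsOfShape p.J B :=
  HasFilteredColimitsOfSize.HasColimitsOfShape p.J

section OnePres

variable {M : ModuleCat.{u} A} (p : Pres M)

/-- stage objects -/
abbrev Xp (j : p.J) : FPc A := ⟨p.D.obj j, p.hfp j⟩

/-- the diagram in the full subcategory -/
def Dt : p.J ⥤ FPc A where
  obj j := Xp p j
  map f := ObjectProperty.homMk (p.D.map f)
  map_id j := by apply ObjectProperty.hom_ext; exact p.D.map_id j
  map_comp f g := by apply ObjectProperty.hom_ext; exact p.D.map_comp f g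

lemma fac' (Y : FPc A) (g : Y.obj ⟶ M) :
    ∃ (j : p.J) (φ : Y.obj ⟶ p.D.obj j), φ ≫ p.lg j = g :=
  haveI : Module.FinitePresentation A Y.obj := Y.property
  p.fac Y.obj g

/-- the value of the extension computed with a presentation -/
noncomputable def colimObj : B := colimit (Dt p ⋙ F)

/-- the colimit legs -/
noncomputable def ιp (j : p.J) : F.obj (Xp p j) ⟶ colimObj F p := colimit.ι (Dt p ⋙ F) j

lemma ιp_w {j k : p.J} (h : j ≤ k) :
    F.map (ObjectProperty.homMk (mapLE p.D h) : Xp p j ⟶ Xp p k) ≫ ιp F p k = ιp F p j :=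
  colimit.w (Dt p ⋙ F) (homOfLE h)

/-- the canonical map attached to a map into a stage -/
noncomputable def lamAt (Y : FPc A) (j : p.J) (φ : Y.obj ⟶ p.D.obj j) :
    F.obj Y ⟶ colimObj F p :=
  F.map (ObjectProperty.homMk φ : Y ⟶ Xp p j) ≫ ιp F p j

lemma lamAt_mapLE (Y : FPc A) {j k : p.J} (h : j ≤ k) (φ : Y.obj ⟶ p.D.obj j) :
    lamAt F p Y k (φ ≫ mapLE p.D h) = lamAt F p Y j φ := by
  have e : (ObjectProperty.homMk (φ ≫ mapLE p.D h) : Y ⟶ Xp p k) =
      (ObjectProperty.homMk φ : Y ⟶ Xp p j) ≫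
        (ObjectProperty.homMk (mapLE p.D h) : Xp p j ⟶ Xp p k) := by
    apply ObjectProperty.hom_ext; rfl
  unfold lamAt
  rw [e, F.map_comp, Category.assoc, ιp_w]

lemma lamAt_wd (Y : FPc A) {j j' : p.J} (φ : Y.obj ⟶ p.D.obj j) (φ' : Y.obj ⟶ p.D.obj j')
    (h : φ ≫ p.lg j = φ' ≫ p.lg j') : lamAt F p Y j φ = lamAt F p Y j' φ' := by
  haveI : Module.FinitePresentation A Y.obj := Y.property
  obtain ⟨k₀, h1, h2⟩ := exists_ge_ge j j'
  have e0 : (φ ≫ mapLE p.D h1) ≫ p.lg k₀ = (φ' ≫ mapLE p.D h2) ≫ p.lg k₀ := by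
    rw [Category.assoc, Category.assoc, p.w h1, p.w h2, h]
  obtain ⟨k, hk, e1⟩ := p.eqz Y.obj (φ ≫ mapLE p.D h1) (φ' ≫ mapLE p.D h2) e0
  calc lamAt F p Y j φ = lamAt F p Y k₀ (φ ≫ mapLE p.D h1) := (lamAt_mapLE F p Y h1 φ).symm
    _ = lamAt F p Y k ((φ ≫ mapLE p.D h1) ≫ mapLE p.D hk) := (lamAt_mapLE F p Y hk _).symm
    _ = lamAt F p Y k ((φ' ≫ mapLE p.D h2) ≫ mapLE p.D hk) := by rw [e1]
    _ = lamAt F p Y k₀ (φ' ≫ mapLE p.D h2) := lamAt_mapLE F p Y hk _
    _ = lamAt F p Y j' φ' := lamAt_mapLE F p Y h2 φ'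

/-- the canonical map attached to a map from a finitely presented module -/
noncomputable def lam (Y : FPc A) (g : Y.obj ⟶ M) : F.obj Y ⟶ colimObj F p :=
  lamAt F p Y (fac' p Y g).choose (fac' p Y g).choose_spec.choose

lemma lam_eq (Y : FPc A) (g : Y.obj ⟶ M) (j : p.J) (φ : Y.obj ⟶ p.D.obj j)
    (hφ : φ ≫ p.lg j = g) : lam F p Y g = lamAt F p Y j φ := by
  unfold lam
  apply lamAt_wd
  rw [(fac' p Y g).choose_spec.choose_spec, hφ]

lemma lam_nat {Y Y' : FPc A} (h : Y ⟶ Y') (g' : Y'.obj ⟶ M) :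
    F.map h ≫ lam F p Y' g' = lam F p Y (h.hom ≫ g') := by
  obtain ⟨j, φ', hφ'⟩ := fac' p Y' g'
  have e1 : lam F p Y' g' = lamAt F p Y' j φ' := lam_eq F p Y' g' j φ' hφ'
  have e2 : lam F p Y (h.hom ≫ g') = lamAt F p Y j (h.hom ≫ φ') :=
    lam_eq F p Y _ j (h.hom ≫ φ') (by rw [Category.assoc, hφ'])
  rw [e1, e2]
  unfold lamAt
  have e3 : (ObjectProperty.homMk (h.hom ≫ φ') : Y ⟶ Xp p j) =
      h ≫ (ObjectProperty.homMk φ' : Y' ⟶ Xp p j) := by
    apply ObjectProperty.hom_ext; rfl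
  rw [e3, F.map_comp, Category.assoc]

section desc

variable {Z : B} (u : ∀ (Y : FPc A), (Y.obj ⟶ M) → (F.obj Y ⟶ Z))
  (hu : ∀ (Y Y' : FPc A) (h : Y ⟶ Y') (g' : Y'.obj ⟶ M),
    F.map h ≫ u Y' g' = u Y (h.hom ≫ g'))

/-- the cocone attached to a compatible family -/
noncomputable def descCocone : Cocone (Dt p ⋙ F) where
  pt := Z
  ι := { app := fun j => u (Xp p j) (p.lg j)
         naturality := fun j k f => by
           obtain ⟨h, rfl⟩ : ∃ h : j ≤ k, f = homOfLE h := ⟨leOfHom f, Subsingleton.elim _ _⟩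
           have e1 := hu _ _ (ObjectProperty.homMk (mapLE p.D h) : Xp p j ⟶ Xp p k) (p.lg k)
           have e2 : (ObjectProperty.homMk (mapLE p.D h) : Xp p j ⟶ Xp p k).hom ≫ p.lg k =
               p.lg j := p.w h
           rw [e2] at e1
           change F.map (ObjectProperty.homMk (mapLE p.D h) : Xp p j ⟶ Xp p k) ≫
             u (Xp p k) (p.lg k) = u (Xp p j) (p.lg j) ≫ 𝟙 Z
           rw [Category.comp_id]
           exact e1 }

/-- the map out of the extension attached to a compatible family -/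
noncomputable def descP : colimObj F p ⟶ Z := colimit.desc (Dt p ⋙ F) (descCocone F p u hu)

lemma ιp_descP (j : p.J) : ιp F p j ≫ descP F p u hu = u (Xp p j) (p.lg j) :=
  colimit.ι_desc (descCocone F p u hu) j

lemma lam_descP (Y : FPc A) (g : Y.obj ⟶ M) : lam F p Y g ≫ descP F p u hu = u Y g := by
  obtain ⟨j, φ, hφ⟩ := fac' p Y g
  rw [lam_eq F p Y g j φ hφ]
  unfold lamAt
  rw [Category.assoc, ιp_descP]
  have e1 := hu _ _ (ObjectProperty.homMk φ : Y ⟶ Xp p j) (p.lg j)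
  have e2 : (ObjectProperty.homMk φ : Y ⟶ Xp p j).hom ≫ p.lg j = g := hφ
  rw [e2] at e1
  exact e1

end desc

lemma lamAt_id (j : p.J) : lamAt F p (Xp p j) j (𝟙 (p.D.obj j)) = ιp F p j := by
  unfold lamAt
  have e : (ObjectProperty.homMk (𝟙 (p.D.obj j)) : Xp p j ⟶ Xp p j) = 𝟙 (Xp p j) := by
    apply ObjectProperty.hom_ext; rfl
  rw [e, F.map_id, Category.id_comp]

lemma hom_ext' {Z : B} (a b : colimObj F p ⟶ Z)
    (h : ∀ (Y : FPc A) (g : Y.obj ⟶ M), lam F p Y g ≫ a = lam F p Y g ≫ b) : a = b := by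
  apply colimit.hom_ext
  intro j
  have e := h (Xp p j) (p.lg j)
  rw [lam_eq F p (Xp p j) (p.lg j) j (𝟙 (p.D.obj j)) (Category.id_comp _), lamAt_id] at e
  exact e

end OnePres

/-- the extension on objects -/
noncomputable abbrev extObj (M : ModuleCat.{u} A) : B := colimObj F (pres M)

/-- the extension on maps -/
noncomputable def extMap {M N : ModuleCat.{u} A} (f : M ⟶ N) : extObj F M ⟶ extObj F N :=
  descP F (pres M) (fun Y g => lam F (pres N) Y (g ≫ f))
    (fun Y Y' h g' => by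
      show F.map h ≫ lam F (pres N) Y' (g' ≫ f) = lam F (pres N) Y ((h.hom ≫ g') ≫ f)
      rw [lam_nat, Category.assoc])

@[reassoc]
lemma lam_extMap {M N : ModuleCat.{u} A} (f : M ⟶ N) (Y : FPc A) (g : Y.obj ⟶ M) :
    lam F (pres M) Y g ≫ extMap F f = lam F (pres N) Y (g ≫ f) :=
  lam_descP F (pres M) _ _ Y g

/-- the extension -/
noncomputable def ext : ModuleCat.{u} A ⥤ B where
  obj M := extObj F M
  map f := extMap F f
  map_id M := by
    apply hom_ext' F (pres M)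
    intro Y g
    rw [lam_extMap, Category.comp_id, Category.comp_id]
  map_comp f g := by
    apply hom_ext' F (pres _)
    intro Y g₀
    rw [lam_extMap, lam_extMap_assoc, lam_extMap, Category.assoc]

section Res

/-- the comparison from the extension to the original functor -/
noncomputable def resHom (X₀ : FPc A) : extObj F X₀.obj ⟶ F.obj X₀ :=
  descP F (pres X₀.obj) (fun Y g => F.map (ObjectProperty.homMk g : Y ⟶ X₀))
    (fun Y Y' h g' => by
      show F.map h ≫ F.map (ObjectProperty.homMk g' : Y' ⟶ X₀) =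
        F.map (ObjectProperty.homMk (h.hom ≫ g') : Y ⟶ X₀)
      have e : (ObjectProperty.homMk (h.hom ≫ g') : Y ⟶ X₀) =
          h ≫ (ObjectProperty.homMk g' : Y' ⟶ X₀) := by
        apply ObjectProperty.hom_ext; rfl
      rw [e, F.map_comp])

@[reassoc]
lemma lam_resHom (X₀ : FPc A) (Y : FPc A) (g : Y.obj ⟶ X₀.obj) :
    lam F (pres X₀.obj) Y g ≫ resHom F X₀ = F.map (ObjectProperty.homMk g : Y ⟶ X₀) :=
  lam_descP F (pres X₀.obj) _ _ Y g

/-- the inverse comparison -/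
noncomputable def resInv (X₀ : FPc A) : F.obj X₀ ⟶ extObj F X₀.obj :=
  lam F (pres X₀.obj) X₀ (𝟙 X₀.obj)

lemma resInv_resHom (X₀ : FPc A) : resInv F X₀ ≫ resHom F X₀ = 𝟙 _ := by
  unfold resInv
  rw [lam_resHom]
  have e : (ObjectProperty.homMk (𝟙 X₀.obj) : X₀ ⟶ X₀) = 𝟙 X₀ := by
    apply ObjectProperty.hom_ext; rfl
  rw [e, F.map_id]

lemma resHom_resInv (X₀ : FPc A) : resHom F X₀ ≫ resInv F X₀ = 𝟙 _ := by
  apply hom_ext' F (pres X₀.obj)
  intro Y g
  rw [lam_resHom_assoc, Category.comp_id]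
  unfold resInv
  rw [lam_nat]
  have e : (ObjectProperty.homMk g : Y ⟶ X₀).hom ≫ 𝟙 X₀.obj = g := Category.comp_id g
  rw [e]

lemma resHom_nat {X₀ X₁ : FPc A} (f : X₀ ⟶ X₁) :
    extMap F f.hom ≫ resHom F X₁ = resHom F X₀ ≫ F.map f := by
  apply hom_ext' F (pres X₀.obj)
  intro Y g
  rw [lam_extMap_assoc, lam_resHom, lam_resHom_assoc, ← F.map_comp]
  have e : (ObjectProperty.homMk (g ≫ f.hom) : Y ⟶ X₁) =
      (ObjectProperty.homMk g : Y ⟶ X₀) ≫ f := by
    apply ObjectProperty.hom_ext; rfl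
  rw [e]

/-- the restriction of the extension is the original functor -/
noncomputable def resIso : (FP A).ι ⋙ ext F ≅ F :=
  NatIso.ofComponents
    (fun X₀ => ⟨resHom F X₀, resInv F X₀, resHom_resInv F X₀, resInv_resHom F X₀⟩)
    (fun f => resHom_nat F f)

end Res

section Preserve

variable {I : Type u} [Preorder I] [IsDirected I (· ≤ ·)] [Nonempty I]
  {X : I ⥤ ModuleCat.{u} A} {t : Cocone X} (ht : IsColimit t) (s : Cocone (X ⋙ ext F))

/-- clean legs of a cocone -/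
def sl (i : I) : extObj F (X.obj i) ⟶ s.pt := s.ι.app i

lemma sl_w {i k : I} (h : i ≤ k) : extMap F (mapLE X h) ≫ sl F s k = sl F s i :=
  s.w (homOfLE h)

/-- candidate family, computed at a stage -/
noncomputable def uAt (Y : FPc A) (i : I) (ψ : Y.obj ⟶ X.obj i) : F.obj Y ⟶ s.pt :=
  lam F (pres (X.obj i)) Y ψ ≫ sl F s i

lemma uAt_mapLE (Y : FPc A) {i k : I} (h : i ≤ k) (ψ : Y.obj ⟶ X.obj i) :
    uAt F s Y k (ψ ≫ mapLE X h) = uAt F s Y i ψ := by
  unfold uAt
  rw [← lam_extMap F (mapLE X h) Y ψ, Category.assoc, sl_w]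

include ht in
lemma uAt_wd (Y : FPc A) {i i' : I} (ψ : Y.obj ⟶ X.obj i) (ψ' : Y.obj ⟶ X.obj i')
    (h : ψ ≫ leg t i = ψ' ≫ leg t i') : uAt F s Y i ψ = uAt F s Y i' ψ' := by
  haveI : Module.FinitePresentation A Y.obj := Y.property
  obtain ⟨k₀, h1, h2⟩ := exists_ge_ge i i'
  have e0 : (ψ ≫ mapLE X h1) ≫ leg t k₀ = (ψ' ≫ mapLE X h2) ≫ leg t k₀ := by
    rw [Category.assoc, Category.assoc, mapLE_leg, mapLE_leg, h]
  obtain ⟨k, hk, e1⟩ := hom_eq_at_stage ht Y.obj (ψ ≫ mapLE X h1) (ψ' ≫ mapLE X h2) e0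
  calc uAt F s Y i ψ = uAt F s Y k₀ (ψ ≫ mapLE X h1) := (uAt_mapLE F s Y h1 ψ).symm
    _ = uAt F s Y k ((ψ ≫ mapLE X h1) ≫ mapLE X hk) := (uAt_mapLE F s Y hk _).symm
    _ = uAt F s Y k ((ψ' ≫ mapLE X h2) ≫ mapLE X hk) := by rw [e1]
    _ = uAt F s Y k₀ (ψ' ≫ mapLE X h2) := uAt_mapLE F s Y hk _
    _ = uAt F s Y i' ψ' := uAt_mapLE F s Y h2 ψ'

include ht in
lemma facG (Y : FPc A) (g : Y.obj ⟶ t.pt) :
    ∃ (i : I) (ψ : Y.obj ⟶ X.obj i), ψ ≫ leg t i = g :=
  haveI : Module.FinitePresentation A Y.obj := Y.property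
  hom_factors' ht Y.obj g

/-- candidate family -/
noncomputable def uG (Y : FPc A) (g : Y.obj ⟶ t.pt) : F.obj Y ⟶ s.pt :=
  uAt F s Y (facG ht Y g).choose (facG ht Y g).choose_spec.choose

lemma uG_eq (Y : FPc A) (g : Y.obj ⟶ t.pt) (i : I) (ψ : Y.obj ⟶ X.obj i)
    (hψ : ψ ≫ leg t i = g) : uG F ht s Y g = uAt F s Y i ψ := by
  unfold uG
  apply uAt_wd F ht s
  rw [(facG ht Y g).choose_spec.choose_spec, hψ]

lemma uG_nat (Y Y' : FPc A) (h : Y ⟶ Y') (g' : Y'.obj ⟶ t.pt) :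
    F.map h ≫ uG F ht s Y' g' = uG F ht s Y (h.hom ≫ g') := by
  obtain ⟨i, ψ', hψ'⟩ := facG ht Y' g'
  rw [uG_eq F ht s Y' g' i ψ' hψ',
    uG_eq F ht s Y (h.hom ≫ g') i (h.hom ≫ ψ') (by rw [Category.assoc, hψ'])]
  unfold uAt
  rw [← Category.assoc, lam_nat]

/-- the descent map -/
noncomputable def descG : extObj F t.pt ⟶ s.pt :=
  descP F (pres t.pt) (uG F ht s) (uG_nat F ht s)

/-- the extension preserves directed colimits -/
noncomputable def isColimitMap : IsColimit ((ext F).mapCocone t) where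
  desc s' := descG F ht s'
  fac s' i := by
    show extMap F (leg t i) ≫ descG F ht s' = sl F s' i
    apply hom_ext' F (pres (X.obj i))
    intro Y g
    rw [lam_extMap_assoc]
    unfold descG
    rw [lam_descP, uG_eq F ht s' Y (g ≫ leg t i) i g rfl]
    rfl
  uniq s' m hm := by
    apply hom_ext' F (pres t.pt)
    intro Y g
    obtain ⟨i, ψ, hψ⟩ := facG ht Y g
    unfold descG
    rw [lam_descP, uG_eq F ht s' Y g i ψ hψ]
    have e1 : lam F (pres t.pt) Y g = lam F (pres (X.obj i)) Y ψ ≫ extMap F (leg t i) := by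
      rw [lam_extMap, hψ]
    have e2 : extMap F (leg t i) ≫ m = sl F s' i := hm i
    rw [e1, Category.assoc, e2]
    rfl

end Preserve

theorem preservesFiltered : PreservesFilteredColimitsOfSize.{u, u} (ext F) where
  preserves_filtered_colimits I _ _ := by
    obtain ⟨α, _, _, _, G, hG⟩ := IsFiltered.exists_directed I
    haveI : PreservesColimitsOfShape α (ext F) :=
      ⟨fun {K} => ⟨fun {c} hc => ⟨isColimitMap F hc⟩⟩⟩
    exact Functor.Final.preservesColimitsOfShape_of_final G (ext F)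

theorem exists_extension : ∃ F' : ModuleCat.{u} A ⥤ B,
    PreservesFilteredColimitsOfSize.{u, u} F' ∧ Nonempty ((FP A).ι ⋙ F' ≅ F) :=
  ⟨ext F, preservesFiltered F, ⟨resIso F⟩⟩

end Groth.Agent.Lib.Helper24.FpExt
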