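import Mathlib
import Groth.Prelude.Def_FrobAlg

/-!
# The relative Frobenius of an adic completion (helper24)

`A` Noetherian of characteristic `p` with finite Frobenius, `I` an ideal, `Â` the `I`-adic
completion. Then `Â ⊗_{A,F} A → Â`, `b ⊗ a ↦ b ^ p * a`, is bijective: the source is the
completion of the finite `A`-module `F_* A`, i.e. the completion of `A` for the filtration
`(I ^ n)^{[p]}`, which is cofinal with the `I`-adic one.
-/

set_option autoImplicit false

namespace Groth.Agent.Lib.Helper24.FrobCompl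

open scoped TensorProduct

universe u

variable (p : ℕ) [Fact p.Prime] (A : Type u) [CommRing A] [CharP A p]

/-- the identity `Twist p A → A`, semilinear for the Frobenius. -/
def fs : FrobAlg.Twist p A →ₛₗ[frobenius A p] A where
  toFun := (FrobAlg.toTwist p A).symm
  map_add' := map_add _
  map_smul' r m := by
    rw [Algebra.smul_def, FrobAlg.algebraMap_twist, map_mul, RingEquiv.symm_apply_apply]
    rfl

lemma fs_toTwist (a : A) : fs p A (FrobAlg.toTwist p A a) = a := rfl

lemma toTwist_fs (m : FrobAlg.Twist p A) : FrobAlg.toTwist p A (fs p A m) = m := rfl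

variable (I : Ideal A)

lemma mem_smul_top_iff (n : ℕ) (x : A) : x ∈ (I ^ n • ⊤ : Submodule A A) ↔ x ∈ I ^ n := by
  rw [smul_eq_mul, Ideal.mul_top]

lemma smul_top_le (n : ℕ) : (I ^ n • ⊤ : Submodule A (FrobAlg.Twist p A)) ≤
    Submodule.comap (fs p A) (I ^ n • ⊤ : Submodule A A) := by
  rw [Submodule.smul_le]
  intro r hr m _
  rw [Submodule.mem_comap, map_smulₛₗ, mem_smul_top_iff]
  exact Ideal.mul_mem_right _ _
    (Ideal.pow_mem_of_mem _ hr p (Fact.out : p.Prime).pos)

lemma mul_mem_smul_top (n : ℕ) (a y : FrobAlg.Twist p A)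
    (hy : y ∈ (I ^ n • ⊤ : Submodule A (FrobAlg.Twist p A))) :
    a * y ∈ (I ^ n • ⊤ : Submodule A (FrobAlg.Twist p A)) := by
  refine Submodule.smul_induction_on hy (fun r hr m _ => ?_) (fun x y hx hy => ?_)
  · have : a * (r • m) = r • (a * m) := by
      rw [Algebra.smul_def, Algebra.smul_def, mul_left_comm]
    rw [this]
    exact Submodule.smul_mem_smul hr Submodule.mem_top
  · rw [mul_add]
    exact add_mem hx hy

/-- the ideal of `A` corresponding to `I ^ n • ⊤` in the Frobenius twist. -/
def twIdeal (n : ℕ) : Ideal A where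
  carrier := {x | FrobAlg.toTwist p A x ∈ (I ^ n • ⊤ : Submodule A (FrobAlg.Twist p A))}
  add_mem' {x y} hx hy := by
    have hx' : FrobAlg.toTwist p A x ∈ (I ^ n • ⊤ : Submodule A (FrobAlg.Twist p A)) := hx
    have hy' : FrobAlg.toTwist p A y ∈ (I ^ n • ⊤ : Submodule A (FrobAlg.Twist p A)) := hy
    show FrobAlg.toTwist p A (x + y) ∈ (I ^ n • ⊤ : Submodule A (FrobAlg.Twist p A))
    rw [map_add]
    exact add_mem hx' hy'
  zero_mem' := by
    show FrobAlg.toTwist p A 0 ∈ (I ^ n • ⊤ : Submodule A (FrobAlg.Twist p A))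
    rw [map_zero]
    exact zero_mem _
  smul_mem' a x hx := by
    have hx' : FrobAlg.toTwist p A x ∈ (I ^ n • ⊤ : Submodule A (FrobAlg.Twist p A)) := hx
    show FrobAlg.toTwist p A (a * x) ∈ (I ^ n • ⊤ : Submodule A (FrobAlg.Twist p A))
    rw [map_mul]
    exact mul_mem_smul_top p A I n _ _ hx'

lemma mem_twIdeal (n : ℕ) (x : A) : x ∈ twIdeal p A I n ↔
    FrobAlg.toTwist p A x ∈ (I ^ n • ⊤ : Submodule A (FrobAlg.Twist p A)) := Iff.rfl

/-- the two filtrations are cofinal. -/
lemma cofinal [IsNoetherianRing A] (n : ℕ) : ∃ m, n ≤ m ∧ ∀ x : A, x ∈ I ^ m →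
    FrobAlg.toTwist p A x ∈ (I ^ n • ⊤ : Submodule A (FrobAlg.Twist p A)) := by
  have hle : I ^ n ≤ (twIdeal p A I n).radical := by
    intro r hr
    refine ⟨p, ?_⟩
    rw [mem_twIdeal]
    have : FrobAlg.toTwist p A (r ^ p) = r • (1 : FrobAlg.Twist p A) := by
      rw [Algebra.smul_def, FrobAlg.algebraMap_twist, mul_one]
    rw [this]
    exact Submodule.smul_mem_smul hr Submodule.mem_top
  obtain ⟨k, hk⟩ := Ideal.exists_pow_le_of_le_radical_of_fg hle (IsNoetherian.noetherian (I ^ n))
  refine ⟨n * k + n, Nat.le_add_left _ _, fun x hx => ?_⟩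
  rw [← mem_twIdeal]
  apply hk
  rw [← pow_mul]
  exact Ideal.pow_le_pow_right (Nat.le_add_right _ _) hx

/-- the comparison maps on the finite levels. -/
noncomputable def PhiN (n : ℕ) : (FrobAlg.Twist p A ⧸ (I ^ n • ⊤ : Submodule A (FrobAlg.Twist p A)))
    →ₛₗ[frobenius A p] (A ⧸ (I ^ n • ⊤ : Submodule A A)) :=
  Submodule.mapQ _ _ (fs p A) (smul_top_le p A I n)

lemma PhiN_mk (n : ℕ) (x : FrobAlg.Twist p A) :
    PhiN p A I n (Submodule.Quotient.mk x) = Submodule.Quotient.mk (fs p A x) := rfl

/-- the comparison map of completions. -/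
noncomputable def Phi (y : AdicCompletion I (FrobAlg.Twist p A)) : AdicCompletion I A :=
  ⟨fun n => PhiN p A I n (y.val n), by
    intro m n hmn
    have h := y.property hmn
    have key : ∀ t : FrobAlg.Twist p A ⧸ (I ^ n • ⊤ : Submodule A (FrobAlg.Twist p A)),
        AdicCompletion.transitionMap I A hmn (PhiN p A I n t) =
          PhiN p A I m (AdicCompletion.transitionMap I (FrobAlg.Twist p A) hmn t) := by
      intro t
      induction t using Submodule.Quotient.induction_on with
      | H t => rfl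
    exact (key _).trans (congrArg (PhiN p A I m) h)⟩

lemma Phi_val (y : AdicCompletion I (FrobAlg.Twist p A)) (n : ℕ) :
    (Phi p A I y).val n = PhiN p A I n (y.val n) := rfl

lemma Phi_zero : Phi p A I 0 = 0 := by
  apply AdicCompletion.ext
  intro n
  rw [Phi_val, AdicCompletion.val_zero_apply, AdicCompletion.val_zero_apply, map_zero]

lemma Phi_add (y y' : AdicCompletion I (FrobAlg.Twist p A)) :
    Phi p A I (y + y') = Phi p A I y + Phi p A I y' := by
  apply AdicCompletion.ext
  intro n
  rw [Phi_val, AdicCompletion.val_add_apply, AdicCompletion.val_add_apply, map_add, Phi_val,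
    Phi_val]

lemma Phi_injective [IsNoetherianRing A] : Function.Injective (Phi p A I) := by
  intro y y' h
  apply AdicCompletion.ext
  intro n
  obtain ⟨m, hnm, hm⟩ := cofinal p A I n
  rw [← y.property hnm, ← y'.property hnm]
  obtain ⟨u, hu⟩ := Submodule.Quotient.mk_surjective _ (y.val m)
  obtain ⟨u', hu'⟩ := Submodule.Quotient.mk_surjective _ (y'.val m)
  have h1 : (Phi p A I y).val m = (Phi p A I y').val m := by rw [h]
  rw [Phi_val, Phi_val, ← hu, ← hu', PhiN_mk, PhiN_mk, Submodule.Quotient.eq,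
    mem_smul_top_iff] at h1
  have h2 := hm _ h1
  rw [← hu, ← hu']
  show (Submodule.Quotient.mk u : FrobAlg.Twist p A ⧸ (I ^ n • ⊤ : Submodule A (FrobAlg.Twist p A)))
    = Submodule.Quotient.mk u'
  rw [Submodule.Quotient.eq]
  exact h2

lemma Phi_surjective [IsNoetherianRing A] : Function.Surjective (Phi p A I) := by
  intro x
  obtain ⟨f, rfl⟩ := AdicCompletion.mk_surjective I A x
  choose m hnm hm using cofinal p A I
  have hcompat : ∀ {k n : ℕ}, k ≤ n →
      FrobAlg.toTwist p A (f (m k)) - FrobAlg.toTwist p A (f (m n)) ∈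
        (I ^ k • ⊤ : Submodule A (FrobAlg.Twist p A)) := by
    intro k n hkn
    rcases le_total (m k) (m n) with h | h
    · have h1 := f.property h
      rw [SModEq.sub_mem, mem_smul_top_iff] at h1
      have h2 := hm k _ h1
      rwa [map_sub] at h2
    · have h1 := f.property h
      rw [SModEq.sub_mem, mem_smul_top_iff] at h1
      have h2 := hm n _ h1
      have h3 := Submodule.smul_mono_left (Ideal.pow_le_pow_right hkn) h2
      rw [map_sub] at h3
      rw [← neg_sub]
      exact neg_mem h3
  refine ⟨⟨fun n => Submodule.Quotient.mk (FrobAlg.toTwist p A (f (m n))), ?_⟩, ?_⟩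
  · intro k n hkn
    show (Submodule.Quotient.mk (FrobAlg.toTwist p A (f (m n))) :
      FrobAlg.Twist p A ⧸ (I ^ k • ⊤ : Submodule A (FrobAlg.Twist p A))) =
      Submodule.Quotient.mk (FrobAlg.toTwist p A (f (m k)))
    rw [Submodule.Quotient.eq, ← neg_sub]
    exact neg_mem (hcompat hkn)
  · apply AdicCompletion.ext
    intro n
    show (Submodule.Quotient.mk (f (m n)) : A ⧸ (I ^ n • ⊤ : Submodule A A)) =
      Submodule.Quotient.mk (f n)
    rw [Submodule.Quotient.eq, ← neg_sub]
    have h1 := f.property (hnm n)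
    rw [SModEq.sub_mem] at h1
    exact neg_mem h1

variable [CharP (AdicCompletion I A) p]

lemma relFrob_tmul (b : AdicCompletion I A) (a : FrobAlg.Twist p A) :
    FrobAlg.relFrob p A (AdicCompletion I A) (b ⊗ₜ[A] a) =
      b ^ p * algebraMap A (AdicCompletion I A) (fs p A a) := by
  unfold FrobAlg.relFrob
  rw [RingHom.comp_apply]
  show (FrobAlg.toTarget p A (AdicCompletion I A)).symm
    (Algebra.TensorProduct.lift (FrobAlg.frobHom p A (AdicCompletion I A))
      (FrobAlg.inclHom p A (AdicCompletion I A)) (fun _ _ => Commute.all _ _) (b ⊗ₜ[A] a)) = _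
  rw [Algebra.TensorProduct.lift_tmul]
  rfl

lemma relFrob_eq (z : AdicCompletion I A ⊗[A] FrobAlg.Twist p A) :
    FrobAlg.relFrob p A (AdicCompletion I A) z =
      Phi p A I (AdicCompletion.ofTensorProduct I (FrobAlg.Twist p A) z) := by
  induction z using TensorProduct.induction_on with
  | zero => rw [map_zero, map_zero, Phi_zero]
  | tmul b a =>
    rw [relFrob_tmul, AdicCompletion.ofTensorProduct_tmul]
    apply AdicCompletion.ext
    intro n
    rw [Phi_val, AdicCompletion.smul_eval]
    obtain ⟨β, hβ⟩ := Submodule.Quotient.mk_surjective _ (b.val n)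
    show (b.val n) ^ p * Submodule.Quotient.mk (fs p A a) =
      PhiN p A I n (b.val n • Submodule.Quotient.mk a)
    rw [← hβ]
    show _ = PhiN p A I n (β • Submodule.Quotient.mk a)
    rw [← Submodule.Quotient.mk_smul, PhiN_mk, map_smulₛₗ]
    rfl
  | add x y hx hy => rw [map_add, map_add, Phi_add, hx, hy]

theorem main [IsNoetherianRing A] (hF : (frobenius A p).Finite) :
    Function.Bijective (FrobAlg.relFrob p A (AdicCompletion I A)) := by
  haveI : Module.Finite A (FrobAlg.Twist p A) := hF
  have he := AdicCompletion.ofTensorProduct_bijective_of_finite_of_isNoetherian I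
    (FrobAlg.Twist p A)
  have : ⇑(FrobAlg.relFrob p A (AdicCompletion I A)) =
      Phi p A I ∘ ⇑(AdicCompletion.ofTensorProduct I (FrobAlg.Twist p A)) :=
    funext (relFrob_eq p A I)
  rw [this]
  exact ⟨(Phi_injective p A I).comp he.1, (Phi_surjective p A I).comp he.2⟩

end Groth.Agent.Lib.Helper24.FrobCompl
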