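import Mathlib

/-!
# Finite Frobenius height of an augmented algebra (helper24)

For an `R`-algebra `A` with an augmentation `ε : A →ₐ[R] R`:  the augmentation ideal is killed by a
fixed power iff `A` is finite over `R` (when of finite type) and every geometric fibre `K ⊗ A` is local.
-/

set_option autoImplicit false
set_option maxHeartbeats 400000
universe u
open scoped TensorProduct

namespace Groth.Agent.Lib.Helper24.FrobHeight

variable {R : Type u} [CommRing R] {A : Type u} [CommRing A] [Algebra R A]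

/-- The `K`-algebra map `K ⊗ A → K` induced by an `R`-algebra map `A → K`. -/
noncomputable def liftK {K : Type u} [Field K] [Algebra R K] (φ : A →ₐ[R] K) : K ⊗[R] A →ₐ[K] K :=
  Algebra.TensorProduct.lift (AlgHom.id K K) φ (fun _ _ => Commute.all _ _)

@[simp] lemma liftK_tmul {K : Type u} [Field K] [Algebra R K] (φ : A →ₐ[R] K) (k : K) (a : A) :
    liftK φ (k ⊗ₜ[R] a) = k * φ a := by
  simp [liftK]

lemma liftK_surjective {K : Type u} [Field K] [Algebra R K] (φ : A →ₐ[R] K) :
    Function.Surjective (liftK φ) := fun k => ⟨k ⊗ₜ[R] 1, by simp⟩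

/-- If `K ⊗ A` is local then any two `R`-algebra maps `A → K` have the same kernel. -/
lemma eq_zero_of_local (K : Type u) [Field K] [Algebra R K] [IsLocalRing (K ⊗[R] A)]
    (φ₁ φ₂ : A →ₐ[R] K) (a : A) (h : φ₂ a = 0) : φ₁ a = 0 := by
  have hm : ∀ φ : A →ₐ[R] K, RingHom.ker (liftK φ) = IsLocalRing.maximalIdeal (K ⊗[R] A) :=
    fun φ => IsLocalRing.eq_maximalIdeal
      (RingHom.ker_isMaximal_of_surjective _ (liftK_surjective φ))
  have h2 : ((1 : K) ⊗ₜ[R] a) ∈ RingHom.ker (liftK φ₂) := by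
    rw [RingHom.mem_ker, liftK_tmul, h, mul_zero]
  rw [hm φ₂, ← hm φ₁, RingHom.mem_ker, liftK_tmul, one_mul] at h2
  exact h2

lemma tmul_algebraMap_one {K : Type u} [Field K] [Algebra R K] (k : K) (r : R) :
    (k * algebraMap R K r) ⊗ₜ[R] (1 : A) = k ⊗ₜ[R] algebraMap R A r := by
  calc (k * algebraMap R K r) ⊗ₜ[R] (1 : A) = (r • k) ⊗ₜ[R] (1 : A) := by
        rw [Algebra.smul_def, mul_comm]
    _ = k ⊗ₜ[R] (r • (1 : A)) := TensorProduct.smul_tmul r k 1
    _ = k ⊗ₜ[R] algebraMap R A r := by rw [Algebra.algebraMap_eq_smul_one]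

lemma isNilpotent_sub (ε : A →ₐ[R] R) (N : ℕ) (hN : ∀ a, ε a = 0 → a ^ N = 0)
    (K : Type u) [Field K] [Algebra R K] (z : K ⊗[R] A) :
    IsNilpotent (z - algebraMap K (K ⊗[R] A) (liftK ((Algebra.ofId R K).comp ε) z)) := by
  induction z using TensorProduct.induction_on with
  | zero => simp
  | tmul k a =>
    have h1 : k ⊗ₜ[R] a - algebraMap K (K ⊗[R] A) (liftK ((Algebra.ofId R K).comp ε) (k ⊗ₜ[R] a))
        = k ⊗ₜ[R] (a - algebraMap R A (ε a)) := by
      rw [liftK_tmul, Algebra.TensorProduct.algebraMap_apply, TensorProduct.tmul_sub]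
      congr 1
      rw [AlgHom.comp_apply, Algebra.ofId_apply, Algebra.algebraMap_self_apply]
      exact tmul_algebraMap_one k (ε a)
    rw [h1]
    refine ⟨N, ?_⟩
    rw [Algebra.TensorProduct.tmul_pow, hN _ (by simp), TensorProduct.tmul_zero]
  | add x y hx hy =>
    have h1 : x + y - algebraMap K (K ⊗[R] A) (liftK ((Algebra.ofId R K).comp ε) (x + y))
        = (x - algebraMap K (K ⊗[R] A) (liftK ((Algebra.ofId R K).comp ε) x))
          + (y - algebraMap K (K ⊗[R] A) (liftK ((Algebra.ofId R K).comp ε) y)) := by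
      rw [map_add, map_add]; ring
    rw [h1]
    exact Commute.isNilpotent_add (Commute.all _ _) hx hy

lemma isLocalRing_of_nil (ε : A →ₐ[R] R) (N : ℕ) (hN : ∀ a, ε a = 0 → a ^ N = 0)
    (K : Type u) [Field K] [Algebra R K] : IsLocalRing (K ⊗[R] A) := by
  haveI : Nontrivial (K ⊗[R] A) := by
    refine ⟨⟨0, 1, fun h => ?_⟩⟩
    have h1 := congrArg (liftK ((Algebra.ofId R K).comp ε)) h
    rw [map_zero, map_one] at h1
    exact zero_ne_one h1
  refine IsLocalRing.of_isUnit_or_isUnit_one_sub_self fun z => ?_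
  have hz := isNilpotent_sub ε N hN K z
  by_cases hc : liftK ((Algebra.ofId R K).comp ε) z = 0
  · right
    rw [hc, map_zero, sub_zero] at hz
    exact hz.isUnit_one_sub
  · left
    have hu : IsUnit (algebraMap K (K ⊗[R] A) (liftK ((Algebra.ofId R K).comp ε) z)) :=
      (IsUnit.mk0 _ hc).map _
    have h1 : z = algebraMap K (K ⊗[R] A) (liftK ((Algebra.ofId R K).comp ε) z)
        + (z - algebraMap K (K ⊗[R] A) (liftK ((Algebra.ofId R K).comp ε) z)) := by ring
    rw [h1]
    exact hz.isUnit_add_left_of_commute hu (Commute.all _ _)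

lemma finite_of_nil [Algebra.FiniteType R A] (ε : A →ₐ[R] R) (N : ℕ)
    (hN : ∀ a, ε a = 0 → a ^ N = 0) : Module.Finite R A := by
  haveI : Algebra.IsIntegral R A := ⟨fun a => by
    have h1 : a = algebraMap R A (ε a) + (a - algebraMap R A (ε a)) := by ring
    rw [h1]
    refine IsIntegral.add isIntegral_algebraMap ?_
    refine IsIntegral.of_pow (Nat.succ_pos N) ?_
    rw [pow_succ, hN _ (by simp), zero_mul]
    exact isIntegral_zero⟩
  exact Algebra.IsIntegral.finite

lemma map_eq_zero_of_local (ε : A →ₐ[R] R)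
    (h : ∀ (K : Type u) [Field K] [IsAlgClosed K] [Algebra R K], IsLocalRing (K ⊗[R] A))
    (a : A) (ha : ε a = 0) (L : Type u) [Field L] [IsAlgClosed L] (g : A →+* L) : g a = 0 := by
  letI : Algebra R L := (g.comp (algebraMap R A)).toAlgebra
  haveI := h L
  let φ₁ : A →ₐ[R] L := { g with commutes' := fun r => rfl }
  let φ₂ : A →ₐ[R] L := (Algebra.ofId R L).comp ε
  exact eq_zero_of_local L φ₁ φ₂ a (by simp [φ₂, ha])

lemma mem_prime_of_local (ε : A →ₐ[R] R)
    (h : ∀ (K : Type u) [Field K] [IsAlgClosed K] [Algebra R K], IsLocalRing (K ⊗[R] A))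
    (a : A) (ha : ε a = 0) (q : Ideal A) [q.IsPrime] : a ∈ q := by
  have h2 := map_eq_zero_of_local ε h a ha (AlgebraicClosure (FractionRing (A ⧸ q)))
    ((algebraMap (FractionRing (A ⧸ q)) (AlgebraicClosure (FractionRing (A ⧸ q)))).comp
      ((algebraMap (A ⧸ q) (FractionRing (A ⧸ q))).comp (Ideal.Quotient.mk q)))
  rw [RingHom.comp_apply, RingHom.comp_apply, map_eq_zero_iff _ (RingHom.injective _),
    map_eq_zero_iff _ (IsFractionRing.injective (A ⧸ q) (FractionRing (A ⧸ q)))] at h2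
  exact Ideal.Quotient.eq_zero_iff_mem.mp h2

theorem main (p : ℕ) (hp : p.Prime) [IsNoetherianRing R] [Algebra.FiniteType R A]
    (ε : A →ₐ[R] R) :
    (∃ n : ℕ, ∀ a : A, ε a = 0 → a ^ p ^ n = 0) ↔
      (Module.Finite R A ∧
        ∀ (K : Type u) [Field K] [IsAlgClosed K] [Algebra R K], IsLocalRing (K ⊗[R] A)) := by
  constructor
  · rintro ⟨n, hn⟩
    exact ⟨finite_of_nil ε _ hn, fun K _ _ _ => isLocalRing_of_nil ε _ hn K⟩
  · rintro ⟨-, h⟩
    haveI : IsNoetherianRing A := Algebra.FiniteType.isNoetherianRing R A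
    obtain ⟨N, hN⟩ := IsNoetherianRing.isNilpotent_nilradical A
    refine ⟨N, fun a ha => ?_⟩
    have hmem : a ∈ nilradical A := by
      rw [nilradical_eq_sInf, Ideal.mem_sInf]
      intro q hq
      haveI : q.IsPrime := hq
      exact mem_prime_of_local ε h a ha q
    have h0 : a ^ N = 0 := by
      have h1 := Ideal.pow_mem_pow hmem N
      rw [hN] at h1
      simpa using h1
    exact pow_eq_zero_of_le (Nat.lt_pow_self hp.one_lt).le h0

end Groth.Agent.Lib.Helper24.FrobHeight
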