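import Groth.Agent.Lib.Helper24.FrobRootTower

/-!
# The Frobenius of a smooth algebra over a perfect field is faithfully flat and an extraction of
`p`-th roots on `Spec`.
-/

set_option autoImplicit false
set_option maxHeartbeats 400000
universe u
open FrobAlg TensorProduct CategoryTheory AlgebraicGeometry TopologicalSpace Opposite

namespace Groth.Agent.Lib.Helper24.FrobPthRoot

open Groth.Agent.Lib.Helper24.RootTower Groth.Agent.Lib.Helper24.RelFrobSmooth
  Groth.Agent.Lib.Helper24.RelFrobRank Groth.Agent.Lib.Helper24.FrobRootTower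

section Alg

variable (p : ℕ) [Fact p.Prime] (k : Type u) [Field k] [CharP k p] [PerfectRing k p]

theorem exists_rt_frobenius_of_isStandardSmooth (C : Type u) [CommRing C] [Algebra k C]
    [CharP C p] [Algebra.IsStandardSmooth k C] : ∃ n, RT p n C C (frobenius C p) := by
  obtain ⟨n, γ, hγ, hγe⟩ := RingHom.IsStandardSmooth.exists_etale_mvPolynomial
    (RingHom.isStandardSmooth_algebraMap.mpr (inferInstance : Algebra.IsStandardSmooth k C))
  letI : Algebra (MvPolynomial (Fin n) k) C := γ.toAlgebra
  haveI : Algebra.Etale (MvPolynomial (Fin n) k) C := hγe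
  exact ⟨n, rt_frobenius_of_etale p k n C⟩

theorem frobenius_faithfullyFlat (A : Type u) [CommRing A] [Algebra k A] [CharP A p]
    [Algebra.Smooth k A] : (frobenius A p).FaithfullyFlat := by
  have hp : p.Prime := Fact.out
  rw [RingHom.FaithfullyFlat.iff_flat_and_comap_surjective]
  constructor
  · have hfac : frobenius A p = (relFrob p k A).comp (inclB p k A) := by
      apply RingHom.ext
      intro a
      rw [RingHom.comp_apply, inclB_apply, RelFrobEtale.relFrob_tmul_one, frobenius_def]
    rw [hfac]
    refine RingHom.Flat.comp (RingHom.Flat.of_bijective ?_) (flat_relFrob_of_smooth p k A)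
    have hk : Function.Bijective (algebraMap k (Twist p k)) :=
      (toTwist p k).bijective.comp (bijective_frobenius k p)
    exact Algebra.TensorProduct.includeLeft_bijective (S := k) hk
  · intro q
    refine ⟨q, ?_⟩
    apply PrimeSpectrum.ext
    ext x
    simp only [PrimeSpectrum.comap_asIdeal, Ideal.mem_comap, frobenius_def]
    exact q.isPrime.pow_mem_iff_mem p hp.pos

end Alg

section Sch

variable {R S : CommRingCat.{u}}

theorem spec_app_comp_algebraMap (φ : R ⟶ S) (U : (Spec R).Opens) :
    ((Spec.map φ).app U).hom.comp (algebraMap R Γ(Spec R, U)) =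
      (algebraMap S Γ(Spec S, Spec.map φ ⁻¹ᵁ U)).comp φ.hom := by
  rw [IsAffineOpen.algebraMap_Spec_obj, IsAffineOpen.algebraMap_Spec_obj, ← CommRingCat.hom_comp,
    ← CommRingCat.hom_comp]
  congr 1
  rw [Category.assoc, Scheme.Hom.naturality, ← Category.assoc, ← Category.assoc]
  congr 1
  exact (Scheme.ΓSpecIso_inv_naturality φ).symm


theorem presheaf_map_comp_algebraMap {U V : (Spec R).Opens} (i : U ⟶ V) :
    ((Spec R).presheaf.map i.op).hom.comp (algebraMap R Γ(Spec R, V)) =
      algebraMap R Γ(Spec R, U) := by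
  rw [IsAffineOpen.algebraMap_Spec_obj, IsAffineOpen.algebraMap_Spec_obj, ← CommRingCat.hom_comp]
  congr 1

theorem rt_postcomp_bijective (p n : ℕ) {A B B' : Type u} [CommRing A] [CommRing B] [CommRing B']
    (f : A →+* B) (e : B →+* B') (he : Function.Bijective e) (h : RT p n A B f) :
    RT p n A B' (e.comp f) := by
  have h1 := rt_postcomp p n A B B' f (RingEquiv.ofBijective e he) h
  have h2 : ((RingEquiv.ofBijective e he : B ≃+* B') : B →+* B') = e := RingHom.ext fun _ => rfl
  rwa [h2] at h1

set_option backward.isDefEq.respectTransparency.types false in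
theorem isPthRoot_spec_frobenius (p : ℕ) [Fact p.Prime] (k : Type u) [Field k] [CharP k p]
    [PerfectRing k p] (R : CommRingCat.{u}) [Algebra k R] [CharP R p] [Algebra.Smooth k R]
    (φ : R ⟶ R) (hφ : φ.hom = frobenius R p) :
    Quiet.IsPthRoot p (Spec.map φ) := by
  have hp : p.Prime := Fact.out
  intro x
  obtain ⟨s, hsp, hs⟩ := Algebra.Smooth.exists_span_eq_top_isStandardSmooth k R
  obtain ⟨g, hgs, hgx⟩ : ∃ g ∈ s, g ∉ (x : PrimeSpectrum R).asIdeal := by
    by_contra hcon
    push Not at hcon
    have h1 : Ideal.span s ≤ (x : PrimeSpectrum R).asIdeal := Ideal.span_le.mpr hcon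
    rw [hsp] at h1
    exact (x : PrimeSpectrum R).isPrime.ne_top (top_le_iff.mp h1)
  haveI : Algebra.IsStandardSmooth k (Localization.Away g) := hs g hgs
  let D : (Spec R).Opens := PrimeSpectrum.basicOpen g
  have hDaff : IsAffineOpen D := by
    have := (isAffineOpen_top (Spec R)).basicOpen ((Scheme.ΓSpecIso R).inv g)
    rwa [basicOpen_eq_of_affine] at this
  have hxD : x ∈ D := (PrimeSpectrum.mem_basicOpen g x).mpr hgx
  have hD : Spec.map φ ⁻¹ᵁ D = D := by
    change PrimeSpectrum.basicOpen (φ.hom g) = PrimeSpectrum.basicOpen g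
    rw [hφ, frobenius_def]
    exact PrimeSpectrum.basicOpen_pow g p hp.pos
  refine ⟨⟨D, hDaff⟩, hxD, hD.symm ▸ hDaff, ?_⟩
  haveI : Nonempty D := ⟨⟨x, hxD⟩⟩
  haveI : Nontrivial Γ(Spec R, D) := inferInstance
  haveI : IsLocalization.Away g Γ(Spec R, D) :=
    inferInstanceAs (IsLocalization.Away g Γ(Spec R, PrimeSpectrum.basicOpen g))
  letI algk : Algebra k Γ(Spec R, D) :=
    ((algebraMap R Γ(Spec R, D)).comp (algebraMap k R)).toAlgebra
  haveI : IsScalarTower k R Γ(Spec R, D) := IsScalarTower.of_algebraMap_eq (fun _ => rfl)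
  haveI : CharP Γ(Spec R, D) p := charP_of_algebra_nontrivial p k _
  let e : Localization.Away g ≃ₐ[R] Γ(Spec R, D) :=
    IsLocalization.algEquiv (Submonoid.powers g) _ _
  haveI : Algebra.IsStandardSmooth k Γ(Spec R, D) :=
    Algebra.IsStandardSmooth.of_algEquiv (e.restrictScalars k)
  obtain ⟨n, hn⟩ := exists_rt_frobenius_of_isStandardSmooth p k Γ(Spec R, D)
  have hkey : ((Spec.map φ).app D).hom =
      ((Spec R).presheaf.map (eqToHom hD).op).hom.comp (frobenius Γ(Spec R, D) p) := by
    apply IsLocalization.ringHom_ext (Submonoid.powers g)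
    rw [spec_app_comp_algebraMap, RingHom.comp_assoc, hφ]
    have h1 : (frobenius Γ(Spec R, D) p).comp (algebraMap R Γ(Spec R, D)) =
        (algebraMap R Γ(Spec R, D)).comp (frobenius R p) := by
      apply RingHom.ext
      intro r
      simp only [RingHom.comp_apply, frobenius_def, map_pow]
    rw [h1, ← RingHom.comp_assoc, presheaf_map_comp_algebraMap]
  letI := ((Spec.map φ).app D).hom.toAlgebra
  refine ⟨n, isRootTower_of_rt p n _ _ ?_⟩
  change RT p n _ _ ((Spec.map φ).app D).hom
  rw [hkey]
  exact rt_postcomp_bijective p n _ _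
    (ConcreteCategory.bijective_of_isIso ((Spec R).presheaf.map (eqToHom hD).op)) hn

end Sch

end Groth.Agent.Lib.Helper24.FrobPthRoot
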