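import Groth.Prelude.Def_W4c2gaugesfzipsQuiet
import Mathlib

/-!
# Root towers (towers of elementary `p`-th root extractions) in ring-hom form

* `RT p n f`: the ring hom `f` is a tower of `n` elementary extractions.
* closure under pre/post-composition with isomorphisms, composition, pushouts (`IsPO`, by universal
  property).
-/

set_option autoImplicit false
set_option maxHeartbeats 400000
universe u
open Polynomial

namespace Groth.Agent.Lib.Helper24.RootTower

open Quiet

/-- Ring-hom version of `Quiet.IsRootTower`. -/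
def RT (p : ℕ) : ℕ → ∀ (A B : Type u) [CommRing A] [CommRing B], (A →+* B) → Prop
  | 0, _, _, _, _, f => Function.Bijective f
  | n + 1, A, B, _, _, f => ∃ (a : A) (g : RootRing p A a →+* B),
      g.comp (algebraMap A (RootRing p A a)) = f ∧ RT p n (RootRing p A a) B g

variable (p : ℕ)

theorem isRootTower_of_rt : ∀ (n : ℕ) (A B : Type u) [CommRing A] [CommRing B] [Algebra A B],
    RT p n A B (algebraMap A B) → IsRootTower p n A B := by
  intro n
  induction n with
  | zero =>
    intro A B _ _ _ h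
    exact ⟨(AlgEquiv.ofBijective (Algebra.ofId A B) h).symm⟩
  | succ n ih =>
    intro A B _ _ _ h
    obtain ⟨a, g, hg, h⟩ := h
    refine ⟨a, g.toAlgebra, ?_, ?_⟩
    · letI := g.toAlgebra
      exact IsScalarTower.of_algebraMap_eq (fun x => (RingHom.congr_fun hg x).symm)
    · exact @ih (RootRing p A a) B _ _ g.toAlgebra h

theorem rt_postcomp : ∀ (n : ℕ) (A B B' : Type u) [CommRing A] [CommRing B] [CommRing B']
    (f : A →+* B) (e : B ≃+* B'), RT p n A B f → RT p n A B' ((e : B →+* B').comp f) := by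
  intro n
  induction n with
  | zero =>
    intro A B B' _ _ _ f e h
    exact e.bijective.comp h
  | succ n ih =>
    intro A B B' _ _ _ f e h
    obtain ⟨a, g, hg, h⟩ := h
    exact ⟨a, (e : B →+* B').comp g, by rw [RingHom.comp_assoc, hg], ih _ _ _ g e h⟩

theorem rt_precomp : ∀ (n : ℕ) (A' A B : Type u) [CommRing A'] [CommRing A] [CommRing B]
    (e : A' ≃+* A) (f : A →+* B), RT p n A B f → RT p n A' B (f.comp (e : A' →+* A)) := by
  intro n
  induction n with
  | zero =>
    intro A' A B _ _ _ e f h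
    exact h.comp e.bijective
  | succ n ih =>
    intro A' A B _ _ _ e f h
    obtain ⟨a, g, hg, h⟩ := h
    have hmap : (X ^ p - C (e.symm a) : A'[X]).map (e : A' →+* A) = X ^ p - C a := by
      simp
    let ε : RootRing p A' (e.symm a) ≃+* RootRing p A a :=
      AdjoinRoot.mapRingEquiv e (X ^ p - C (e.symm a)) (X ^ p - C a) (by rw [hmap])
    refine ⟨e.symm a, g.comp (ε : RootRing p A' (e.symm a) →+* RootRing p A a), ?_, ih _ _ _ ε g h⟩
    apply RingHom.ext
    intro x
    rw [← hg]
    simp only [RingHom.comp_apply, RingEquiv.coe_toRingHom]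
    congr 1
    rw [AdjoinRoot.algebraMap_eq, AdjoinRoot.algebraMap_eq]
    simp [ε]

theorem rt_comp : ∀ (n m : ℕ) (A B C : Type u) [CommRing A] [CommRing B] [CommRing C]
    (f : A →+* B) (g : B →+* C), RT p n A B f → RT p m B C g → RT p (n + m) A C (g.comp f) := by
  intro n
  induction n with
  | zero =>
    intro m A B C _ _ _ f g hf hg
    rw [Nat.zero_add]
    exact rt_precomp p m A B C (RingEquiv.ofBijective f hf) g hg
  | succ n ih =>
    intro m A B C _ _ _ f g hf hg
    obtain ⟨a, g₁, hg₁, h⟩ := hf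
    rw [Nat.add_right_comm]
    exact ⟨a, g.comp g₁, by rw [RingHom.comp_assoc, hg₁], ih m _ _ _ g₁ g h hg⟩

theorem rt_of_factor {A B : Type u} [CommRing A] [CommRing B] (a : A)
    (e : RootRing p A a →+* B) (he : Function.Bijective e) :
    RT p 1 A B (e.comp (algebraMap A (RootRing p A a))) :=
  ⟨a, e, rfl, he⟩

/-- A commutative square of ring homs is a pushout (universal property, within `Type u`). -/
def IsPO {P Q S D : Type u} [CommRing P] [CommRing Q] [CommRing S] [CommRing D]
    (f : P →+* Q) (h : P →+* S) (h' : Q →+* D) (f' : S →+* D) : Prop :=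
  f'.comp h = h'.comp f ∧ ∀ (E : Type u) [CommRing E] (α : S →+* E) (β : Q →+* E),
    α.comp h = β.comp f → ∃! δ : D →+* E, δ.comp f' = α ∧ δ.comp h' = β

section PO

variable {P Q S D : Type u} [CommRing P] [CommRing Q] [CommRing S] [CommRing D]

theorem po_bijective {f : P →+* Q} {h : P →+* S} {h' : Q →+* D} {f' : S →+* D}
    (hpo : IsPO f h h' f') (hf : Function.Bijective f) : Function.Bijective f' := by
  obtain ⟨hcomm, hup⟩ := hpo
  let e := RingEquiv.ofBijective f hf
  have hβ : (RingHom.id S).comp h = (h.comp (e.symm : Q →+* P)).comp f := by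
    apply RingHom.ext
    intro x
    simp only [RingHom.comp_apply, RingHom.id_apply, RingEquiv.coe_toRingHom]
    congr 1
    exact (e.symm_apply_apply x).symm
  obtain ⟨δ, ⟨hδ1, hδ2⟩, -⟩ := hup S (RingHom.id S) (h.comp (e.symm : Q →+* P)) hβ
  obtain ⟨δ', -, huniq⟩ := hup D f' h' hcomm
  have h1 : f'.comp δ = δ' := by
    apply huniq
    refine ⟨by rw [RingHom.comp_assoc, hδ1, RingHom.comp_id], ?_⟩
    rw [RingHom.comp_assoc, hδ2, ← RingHom.comp_assoc, hcomm]
    apply RingHom.ext
    intro y
    simp only [RingHom.comp_apply, RingEquiv.coe_toRingHom]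
    congr 1
    exact e.apply_symm_apply y
  have h2 : RingHom.id D = δ' := by
    apply huniq
    exact ⟨RingHom.id_comp _, RingHom.id_comp _⟩
  have h3 : f'.comp δ = RingHom.id D := h1.trans h2.symm
  refine Function.bijective_iff_has_inverse.mpr ⟨δ, fun c => ?_, fun d => ?_⟩
  · exact RingHom.congr_fun hδ1 c
  · exact RingHom.congr_fun h3 d

theorem po_elementary (h : P →+* S) (a : P) :
    IsPO (algebraMap P (RootRing p P a)) h
      (AdjoinRoot.map h (X ^ p - C a) (X ^ p - C (h a)) (by simp))
      (algebraMap S (RootRing p S (h a))) := by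
  refine ⟨?_, ?_⟩
  · apply RingHom.ext
    intro x
    simp only [RingHom.comp_apply, AdjoinRoot.algebraMap_eq, AdjoinRoot.map_of]
  · intro E _ α β hαβ
    have hrootp : (AdjoinRoot.root (X ^ p - C a : P[X])) ^ p =
        AdjoinRoot.of (X ^ p - C a : P[X]) a := by
      have h := AdjoinRoot.eval₂_root (X ^ p - C a : P[X])
      simp only [Polynomial.eval₂_sub, Polynomial.eval₂_pow, Polynomial.eval₂_X,
        Polynomial.eval₂_C] at h
      exact sub_eq_zero.mp h
    have hroot : (X ^ p - C (h a) : S[X]).eval₂ α (β (AdjoinRoot.root (X ^ p - C a : P[X]))) = 0 := by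
      simp only [Polynomial.eval₂_sub, Polynomial.eval₂_pow, Polynomial.eval₂_X,
        Polynomial.eval₂_C]
      rw [← map_pow, hrootp]
      have := RingHom.congr_fun hαβ a
      simp only [RingHom.comp_apply, AdjoinRoot.algebraMap_eq] at this
      rw [this, sub_self]
    refine ⟨AdjoinRoot.lift α _ hroot, ⟨?_, ?_⟩, ?_⟩
    · rw [AdjoinRoot.algebraMap_eq]
      exact AdjoinRoot.lift_comp_of (h := hroot)
    · apply AdjoinRoot.ringHom_ext
      · apply RingHom.ext
        intro x
        simp only [RingHom.comp_apply, AdjoinRoot.map_of, AdjoinRoot.lift_of]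
        have := RingHom.congr_fun hαβ x
        simpa only [RingHom.comp_apply, AdjoinRoot.algebraMap_eq] using this
      · simp only [RingHom.comp_apply, AdjoinRoot.map_root, AdjoinRoot.lift_root]
    · rintro δ' ⟨h1, h2⟩
      apply AdjoinRoot.ringHom_ext
      · rw [AdjoinRoot.lift_comp_of, ← h1, AdjoinRoot.algebraMap_eq]
      · rw [AdjoinRoot.lift_root, ← h2]
        simp only [RingHom.comp_apply, AdjoinRoot.map_root]

theorem po_cancel {R₁ R₁' : Type u} [CommRing R₁] [CommRing R₁']
    {alg : P →+* R₁} {g : R₁ →+* Q} {h : P →+* S} {h₁ : R₁ →+* R₁'} {h' : Q →+* D}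
    {alg' : S →+* R₁'} {g' : R₁' →+* D}
    (houter : IsPO (g.comp alg) h h' (g'.comp alg')) (hleft : IsPO alg h h₁ alg')
    (hg' : g'.comp h₁ = h'.comp g) : IsPO g h₁ h' g' := by
  refine ⟨hg', ?_⟩
  intro E _ α β hαβ
  obtain ⟨ho1, hoUP⟩ := houter
  obtain ⟨hl1, hlUP⟩ := hleft
  have hc : (α.comp alg').comp h = β.comp (g.comp alg) := by
    rw [RingHom.comp_assoc, hl1, ← RingHom.comp_assoc, hαβ, RingHom.comp_assoc]
  obtain ⟨δ, ⟨hδ1, hδ2⟩, hδu⟩ := hoUP E (α.comp alg') β hc
  have hc2 : (α.comp alg').comp h = (α.comp h₁).comp alg := by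
    rw [RingHom.comp_assoc, hl1, RingHom.comp_assoc]
  obtain ⟨ε, -, hεu⟩ := hlUP E (α.comp alg') (α.comp h₁) hc2
  have e1 : δ.comp g' = ε := by
    apply hεu
    refine ⟨by rw [RingHom.comp_assoc, hδ1], ?_⟩
    rw [RingHom.comp_assoc, hg', ← RingHom.comp_assoc, hδ2, hαβ]
  have e2 : α = ε := hεu α ⟨rfl, rfl⟩
  refine ⟨δ, ⟨e1.trans e2.symm, hδ2⟩, ?_⟩
  rintro δ' ⟨h1, h2⟩
  apply hδu
  exact ⟨by rw [← RingHom.comp_assoc, h1], h2⟩

end PO

theorem rt_of_po : ∀ (n : ℕ) (P Q S D : Type u) [CommRing P] [CommRing Q] [CommRing S] [CommRing D]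
    (f : P →+* Q) (h : P →+* S) (h' : Q →+* D) (f' : S →+* D),
    RT p n P Q f → IsPO f h h' f' → RT p n S D f' := by
  intro n
  induction n with
  | zero =>
    intro P Q S D _ _ _ _ f h h' f' hf hpo
    exact po_bijective hpo hf
  | succ n ih =>
    intro P Q S D _ _ _ _ f h h' f' hf hpo
    obtain ⟨a, g, hg, hrt⟩ := hf
    subst hg
    have hleft := po_elementary p h a
    have hc : f'.comp h = (h'.comp g).comp (algebraMap P (RootRing p P a)) := by
      rw [hpo.1, RingHom.comp_assoc]
    obtain ⟨g', ⟨hg'1, hg'2⟩, -⟩ := hleft.2 D f' (h'.comp g) hc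
    have houter : IsPO (g.comp (algebraMap P (RootRing p P a))) h h'
        (g'.comp (algebraMap S (RootRing p S (h a)))) := by
      rw [hg'1]
      exact hpo
    have hright := po_cancel houter hleft hg'2
    exact ⟨h a, g', hg'1, ih _ _ _ _ g _ h' g' hrt hright⟩

end Groth.Agent.Lib.Helper24.RootTower
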