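import Mathlib
import Groth.Prelude.Def_W4c2gaugesfzipsQuiet
import Groth.Agent.Lib.Helper24.RootTower
import Groth.Agent.Lib.Helper24.EtThickGlue
import Groth.Agent.Lib.Helper28.Thick.Affine

/-!
# Helper library (helper24): lifting quasi-etale morphisms along a thickening

* `rt_of_isRootTower`: `Quiet.IsRootTower` implies the ring-hom form `RT`.
* `exists_rt_lift`: a root tower over a quotient `C₀` of `Ct` lifts to a root tower over `Ct`
  whose base change is the given one.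
* `exists_isQuiet_lift`: the scheme-level statement.
-/

set_option autoImplicit false
set_option maxHeartbeats 400000
set_option linter.style.haveILetI false
universe u

namespace Groth.Agent.Lib.Helper24.QuietLift

open CategoryTheory Limits AlgebraicGeometry Polynomial Quiet
open Groth.Agent.Lib.Helper24.RootTower
open Groth.Agent.Lib.Helper24.EtThick

variable (p : ℕ)

theorem rt_of_isRootTower : ∀ (n : ℕ) (A B : Type u) [CommRing A] [CommRing B] [Algebra A B],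
    IsRootTower p n A B → RT p n A B (algebraMap A B) := by
  intro n
  induction n with
  | zero =>
    intro A B _ _ _ h
    obtain ⟨e⟩ := h
    have hfun : ∀ a, algebraMap A B a = e.symm a := fun a => by
      have := e.symm.commutes a
      simp only [Algebra.algebraMap_self, RingHom.id_apply] at this
      exact this.symm
    exact ⟨fun a b hab => e.symm.injective (by rw [← hfun, ← hfun, hab]),
      fun b => ⟨e b, by rw [hfun, e.symm_apply_apply]⟩⟩
  | succ n ih =>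
    intro A B _ _ _ h
    obtain ⟨a, alg, hst, h⟩ := h
    letI := alg
    exact ⟨a, algebraMap (RootRing p A a) B, (IsScalarTower.algebraMap_eq A _ B).symm, ih _ _ h⟩

theorem rt_precomp_bijective (n : ℕ) {A' A B : Type u} [CommRing A'] [CommRing A] [CommRing B]
    (e : A' →+* A) (he : Function.Bijective e) (f : A →+* B) (h : RT p n A B f) :
    RT p n A' B (f.comp e) := by
  have h1 := rt_precomp p n A' A B (RingEquiv.ofBijective e he) f h
  have h2 : ((RingEquiv.ofBijective e he : A' ≃+* A) : A' →+* A) = e := RingHom.ext fun _ => rfl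
  rwa [h2] at h1

theorem rt_postcomp_bijective (n : ℕ) {A B B' : Type u} [CommRing A] [CommRing B] [CommRing B']
    (f : A →+* B) (e : B →+* B') (he : Function.Bijective e) (h : RT p n A B f) :
    RT p n A B' (e.comp f) := by
  have h1 := rt_postcomp p n A B B' f (RingEquiv.ofBijective e he) h
  have h2 : ((RingEquiv.ofBijective e he : B ≃+* B') : B →+* B') = e := RingHom.ext fun _ => rfl
  rwa [h2] at h1

theorem rt_iso_comp (n : ℕ) {A A' B B' : CommRingCat.{u}} (a : A' ⟶ A) [IsIso a] (φ : A ⟶ B)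
    (b : B ⟶ B') [IsIso b] (h : RT p n A B φ.hom) : RT p n A' B' (a ≫ φ ≫ b).hom := by
  have h1 := rt_postcomp_bijective p n φ.hom b.hom (ConcreteCategory.bijective_of_isIso b) h
  exact rt_precomp_bijective p n a.hom (ConcreteCategory.bijective_of_isIso a) _ h1

section PO

variable {P Q S D R₁ R₁' : Type u} [CommRing P] [CommRing Q] [CommRing S] [CommRing D]
  [CommRing R₁] [CommRing R₁']

theorem po_paste {alg : P →+* R₁} {g : R₁ →+* Q} {h : P →+* S} {h₁ : R₁ →+* R₁'} {h' : Q →+* D}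
    {alg' : S →+* R₁'} {g' : R₁' →+* D}
    (hleft : IsPO alg h h₁ alg') (hright : IsPO g h₁ h' g') :
    IsPO (g.comp alg) h h' (g'.comp alg') := by
  obtain ⟨hl1, hlUP⟩ := hleft
  obtain ⟨hr1, hrUP⟩ := hright
  refine ⟨?_, ?_⟩
  · rw [RingHom.comp_assoc, hl1, ← RingHom.comp_assoc, hr1, RingHom.comp_assoc]
  · intro E _ α β hαβ
    have hc : α.comp h = (β.comp g).comp alg := by rw [hαβ, RingHom.comp_assoc]
    obtain ⟨ε, ⟨hε1, hε2⟩, hεu⟩ := hlUP E α (β.comp g) hc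
    obtain ⟨δ, ⟨hδ1, hδ2⟩, hδu⟩ := hrUP E ε β hε2
    refine ⟨δ, ⟨by rw [← RingHom.comp_assoc, hδ1, hε1], hδ2⟩, ?_⟩
    rintro δ' ⟨h1, h2⟩
    apply hδu
    refine ⟨?_, h2⟩
    apply hεu
    refine ⟨by rw [RingHom.comp_assoc, h1], ?_⟩
    rw [RingHom.comp_assoc, hr1, ← RingHom.comp_assoc, h2]

end PO

theorem adjoinRoot_map_surjective {Ct C₀ : Type u} [CommRing Ct] [CommRing C₀] (π : Ct →+* C₀)
    (hπ : Function.Surjective π) (f : Ct[X]) (g : C₀[X]) (h : g ∣ f.map π) :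
    Function.Surjective (AdjoinRoot.map π f g h) := by
  intro y
  obtain ⟨q, rfl⟩ := AdjoinRoot.mk_surjective y
  obtain ⟨q', rfl⟩ := Polynomial.map_surjective π hπ q
  refine ⟨AdjoinRoot.mk f q', ?_⟩
  induction q' using Polynomial.induction_on' with
  | add a b ha hb => simp only [map_add, Polynomial.map_add, ha, hb]
  | monomial n c =>
    rw [← Polynomial.C_mul_X_pow_eq_monomial]
    simp [AdjoinRoot.map_of, AdjoinRoot.map_root]

theorem exists_rt_lift : ∀ (n : ℕ) (Ct C₀ B₀ : Type u) [CommRing Ct] [CommRing C₀] [CommRing B₀]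
    (π : Ct →+* C₀) (_ : Function.Surjective π) (ρ₀ : C₀ →+* B₀), RT p n C₀ B₀ ρ₀ →
    ∃ (Bt : Type u) (_ : CommRing Bt) (ρt : Ct →+* Bt) (π' : Bt →+* B₀),
      RT p n Ct Bt ρt ∧ IsPO ρt π π' ρ₀ := by
  intro n
  induction n with
  | zero =>
    intro Ct C₀ B₀ _ _ _ π hπ ρ₀ h
    have hb : Function.Bijective ρ₀ := h
    refine ⟨Ct, inferInstance, RingHom.id Ct, ρ₀.comp π, Function.bijective_id, ?_⟩
    refine ⟨?_, ?_⟩
    · rw [RingHom.comp_id]
    · intro E _ α β hαβ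
      let e := RingEquiv.ofBijective ρ₀ hb
      refine ⟨α.comp (e.symm : B₀ →+* C₀), ⟨?_, ?_⟩, ?_⟩
      · apply RingHom.ext
        intro x
        simp only [RingHom.comp_apply, RingEquiv.coe_toRingHom]
        congr 1
        exact e.symm_apply_apply x
      · rw [RingHom.comp_id] at hαβ
        rw [← hαβ]
        apply RingHom.ext
        intro x
        simp only [RingHom.comp_apply, RingEquiv.coe_toRingHom]
        congr 1
        exact e.symm_apply_apply (π x)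
      · rintro δ' ⟨h1, -⟩
        apply RingHom.ext
        intro y
        obtain ⟨x, rfl⟩ := hb.2 y
        rw [← h1]
        simp only [RingHom.comp_apply, RingEquiv.coe_toRingHom]
        congr 2
        exact (e.symm_apply_apply x).symm
  | succ n ih =>
    intro Ct C₀ B₀ _ _ _ π hπ ρ₀ h
    obtain ⟨a₀, g₀, hg₀, hrt⟩ := h
    subst hg₀
    obtain ⟨a', rfl⟩ := hπ a₀
    have hπ₁ := adjoinRoot_map_surjective π hπ (X ^ p - C a') (X ^ p - C (π a')) (by simp)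
    obtain ⟨Bt, instBt, gt, π', hgt, hpo⟩ := ih (RootRing p Ct a') (RootRing p C₀ (π a')) B₀
      (AdjoinRoot.map π (X ^ p - C a') (X ^ p - C (π a')) (by simp)) hπ₁ g₀ hrt
    exact ⟨Bt, instBt, gt.comp (algebraMap Ct (RootRing p Ct a')), π', ⟨a', gt, rfl, hgt⟩,
      po_paste (po_elementary p π a') hpo⟩

theorem isPushout_of_isPO {P Q S D : CommRingCat.{u}} (f : P ⟶ Q) (h : P ⟶ S) (h' : Q ⟶ D)
    (f' : S ⟶ D) (hpo : IsPO f.hom h.hom h'.hom f'.hom) : IsPushout f h h' f' := by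
  obtain ⟨hcomm, hUP⟩ := hpo
  have comm : f ≫ h' = h ≫ f' := by
    ext x
    exact (RingHom.congr_fun hcomm x).symm
  have key : ∀ (T : CommRingCat.{u}) (a : Q ⟶ T) (b : S ⟶ T), f ≫ a = h ≫ b →
      ∃ δ : D →+* T, (δ.comp f'.hom = b.hom ∧ δ.comp h'.hom = a.hom) ∧
        ∀ y : D →+* T, (y.comp f'.hom = b.hom ∧ y.comp h'.hom = a.hom) → y = δ := by
    intro T a b hab
    apply hUP
    apply RingHom.ext
    intro x
    exact (congrArg (fun k : P ⟶ T => k.hom x) hab).symm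
  choose d hd hu using key
  refine ⟨⟨comm⟩, ⟨PushoutCocone.IsColimit.mk _
    (fun s => CommRingCat.ofHom (d _ s.inl s.inr s.condition)) ?_ ?_ ?_⟩⟩
  · intro s
    ext x
    exact RingHom.congr_fun (hd _ s.inl s.inr s.condition).2 x
  · intro s
    ext x
    exact RingHom.congr_fun (hd _ s.inl s.inr s.condition).1 x
  · intro s m h1 h2
    have := hu _ s.inl s.inr s.condition m.hom ⟨?_, ?_⟩
    · ext x
      exact RingHom.congr_fun this x
    · apply RingHom.ext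
      intro x
      exact congrArg (fun k : S ⟶ s.pt => k.hom x) h2
    · apply RingHom.ext
      intro x
      exact congrArg (fun k : Q ⟶ s.pt => k.hom x) h1

theorem exists_rt_lift_cat (n : ℕ) {Ct C₀ B₀ : CommRingCat.{u}} (π : Ct ⟶ C₀)
    (hπ : Function.Surjective π.hom) (ρ₀ : C₀ ⟶ B₀) (h : RT p n C₀ B₀ ρ₀.hom) :
    ∃ (Bt : CommRingCat.{u}) (ρt : Ct ⟶ Bt) (π' : Bt ⟶ B₀),
      RT p n Ct Bt ρt.hom ∧ IsPushout ρt π π' ρ₀ := by
  obtain ⟨Bt, inst, ρt, π', hrt, hpo⟩ := exists_rt_lift p n Ct C₀ B₀ π.hom hπ ρ₀.hom h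
  exact ⟨CommRingCat.of Bt, CommRingCat.ofHom ρt, CommRingCat.ofHom π', hrt,
    isPushout_of_isPO _ _ _ _ hpo⟩

section Sch

variable {p}

theorem isPthRoot_of_rt_appTop {X Y : Scheme.{u}} [IsAffine X] [IsAffine Y] (f : Y ⟶ X) (n : ℕ)
    (h : RT p n Γ(X, ⊤) Γ(Y, ⊤) f.appTop.hom) : Quiet.IsPthRoot p f := by
  intro x
  refine ⟨⟨⊤, isAffineOpen_top X⟩, trivial, isAffineOpen_top Y, ?_⟩
  letI := (f.app ⊤).hom.toAlgebra
  exact ⟨n, isRootTower_of_rt p n _ _ h⟩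

theorem isPthRoot_top_ι_comp {Yt : Scheme.{u}} [IsAffine Yt] {Bt : CommRingCat.{u}} (n : ℕ)
    (ρt : Γ(Yt, ⊤) ⟶ Bt) (h : RT p n Γ(Yt, ⊤) Bt ρt.hom) :
    Quiet.IsPthRoot p ((⊤ : (Spec Bt).Opens).ι ≫ Spec.map ρt ≫ Yt.isoSpec.inv) := by
  haveI : IsAffine ((⊤ : (Spec Bt).Opens) : Scheme.{u}) := isAffineOpen_top (Spec Bt)
  haveI : IsIso (⊤ : (Spec Bt).Opens).ι := by
    rw [← Scheme.topIso_hom]
    infer_instance
  haveI : IsIso (Yt.isoSpec.inv.appTop) := inferInstanceAs (IsIso (Yt.isoSpec.inv.app ⊤))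
  haveI : IsIso ((⊤ : (Spec Bt).Opens).ι.appTop) :=
    inferInstanceAs (IsIso ((⊤ : (Spec Bt).Opens).ι.app ⊤))
  apply isPthRoot_of_rt_appTop _ n
  have e1 : (Spec.map ρt).appTop =
      (Scheme.ΓSpecIso _).hom ≫ ρt ≫ (Scheme.ΓSpecIso _).inv := by
    rw [← Scheme.ΓSpecIso_naturality_assoc, Iso.hom_inv_id, Category.comp_id]
  have e2 : ((⊤ : (Spec Bt).Opens).ι ≫ Spec.map ρt ≫ Yt.isoSpec.inv).appTop =
      (Yt.isoSpec.inv.appTop ≫ (Scheme.ΓSpecIso _).hom) ≫ ρt ≫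
        ((Scheme.ΓSpecIso _).inv ≫ (⊤ : (Spec Bt).Opens).ι.appTop) := by
    rw [Scheme.Hom.comp_appTop, Scheme.Hom.comp_appTop, e1]
    simp only [Category.assoc]
  rw [e2]
  exact rt_iso_comp p n _ ρt _ h

theorem isPullback_of_isPushout_appTop {R₀ W Yt : Scheme.{u}} [IsAffine R₀] [IsAffine W]
    [IsAffine Yt] (r' : R₀ ⟶ W) (jt : W ⟶ Yt) {Bt : CommRingCat.{u}} (ρt : Γ(Yt, ⊤) ⟶ Bt)
    (π' : Bt ⟶ Γ(R₀, ⊤)) (hpo : IsPushout ρt jt.appTop π' r'.appTop) :
    IsPullback (R₀.isoSpec.hom ≫ Spec.map π') r' (Spec.map ρt ≫ Yt.isoSpec.inv) jt := by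
  have h0 := isPullback_SpecMap_of_isPushout ρt jt.appTop π' r'.appTop hpo
  refine IsPullback.of_iso h0 R₀.isoSpec.symm (Iso.refl _) W.isoSpec.symm Yt.isoSpec.symm
    ?_ ?_ ?_ ?_
  · simp
  · simp only [Iso.symm_hom]
    exact Scheme.isoSpec_inv_naturality r'
  · simp
  · simp only [Iso.symm_hom]
    exact Scheme.isoSpec_inv_naturality jt

theorem rt_morphismRestrict_appTop {Y X : Scheme.{u}} (r : Y ⟶ X) (W : X.Opens) (n : ℕ)
    (hrt : RT p n Γ(X, W) Γ(Y, r ⁻¹ᵁ W) (r.app W).hom) :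
    RT p n Γ(W.toScheme, ⊤) Γ((r ⁻¹ᵁ W).toScheme, ⊤) (r ∣_ W).appTop.hom := by
  have key : RT p n _ _ (r.appLE W (r ⁻¹ᵁ W) le_rfl).hom := by
    rw [← Scheme.Hom.app_eq_appLE]
    exact hrt
  have h3 := morphismRestrict_app' r W ⊤
  change RT p n _ _ ((r ∣_ W).app ⊤).hom
  rw [h3]
  exact (Scheme.Hom.appLE_congr r _ W.ι_image_top
    (show (r ⁻¹ᵁ W).ι ''ᵁ ((r ∣_ W) ⁻¹ᵁ ⊤) = r ⁻¹ᵁ W from (r ⁻¹ᵁ W).ι_image_top)
    (fun {R S : CommRingCat.{u}} (φ : R ⟶ S) => RT p n R S φ.hom)).mpr key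

/-- **Lifting quasi-etale morphisms along a thickening**, locally on the source. -/
theorem exists_isQuiet_lift {T U U' : Scheme.{u}} (i : U ⟶ T) [IsClosedImmersion i]
    [Surjective i] (f' : U' ⟶ U) (hf' : Quiet.IsQuiet p f') (u : U') :
    ∃ (V : U'.Opens) (T' : Scheme.{u}) (q : T' ⟶ T) (j : (V : Scheme.{u}) ⟶ T'),
      u ∈ V ∧ Quiet.IsQuiet p q ∧ IsPullback j (V.ι ≫ f') q i := by
  obtain ⟨V₀, Y', r, e, huV₀, hr, he, fac⟩ := hf' u
  haveI : Etale e := he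
  obtain ⟨W, hrW, hRaff, hn⟩ := hr (r.base ⟨u, huV₀⟩)
  obtain ⟨n, hn⟩ := hn
  have hrt : RT p n Γ(Y', W.1) Γ(V₀.toScheme, r ⁻¹ᵁ W.1) (r.app W.1).hom := by
    letI := (r.app W.1).hom.toAlgebra
    exact rt_of_isRootTower p n _ _ hn
  haveI hWaff : IsAffine (W.1 : Scheme.{u}) := W.2
  haveI hR₀aff : IsAffine ((r ⁻¹ᵁ W.1 : V₀.toScheme.Opens) : Scheme.{u}) := hRaff
  obtain ⟨Yt, qt, jt, hqt, hpb⟩ := exists_etale_lift i (W.1.ι ≫ e)
  haveI : Etale qt := hqt
  let L : EtLift i (W.1.ι ≫ e) := ⟨Yt, qt, jt, hqt, hpb⟩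
  haveI : IsClosedImmersion jt := L.isClosedImmersion_ι
  haveI : Surjective jt := L.surjective_ι
  haveI : IsAffine Yt :=
    Groth.Agent.Lib.Helper28.Thick.isAffine_of_thickening jt L.surjective_ι_base
  have hρ₀ := rt_morphismRestrict_appTop r W.1 n hrt
  have hπ : Function.Surjective jt.appTop.hom :=
    (IsClosedImmersion.isAffine_surjective_of_isAffine jt).2
  obtain ⟨Bt, ρt, π', hρt, hpo⟩ := exists_rt_lift_cat p n jt.appTop hπ (r ∣_ W.1).appTop hρ₀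
  have sq1 := isPullback_of_isPushout_appTop (r ∣_ W.1) jt ρt π' hpo
  have sq := sq1.paste_vert hpb
  refine ⟨V₀.ι ''ᵁ (r ⁻¹ᵁ W.1), Spec Bt, (Spec.map ρt ≫ Yt.isoSpec.inv) ≫ qt,
    (V₀.ι.isoImage (r ⁻¹ᵁ W.1)).inv ≫ (r ⁻¹ᵁ W.1).toScheme.isoSpec.hom ≫ Spec.map π', ?_, ?_, ?_⟩
  · exact ⟨⟨u, huV₀⟩, hrW, rfl⟩
  · intro y
    exact ⟨⊤, Yt, (⊤ : (Spec Bt).Opens).ι ≫ Spec.map ρt ≫ Yt.isoSpec.inv, qt, trivial,
      isPthRoot_top_ι_comp n ρt hρt, hqt, by simp only [Category.assoc]⟩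
  · refine IsPullback.of_iso sq (V₀.ι.isoImage (r ⁻¹ᵁ W.1)) (Iso.refl _) (Iso.refl _)
      (Iso.refl _) ?_ ?_ ?_ ?_
    · simp
    · rw [Iso.refl_hom, Category.comp_id, Scheme.Hom.isoImage_hom_ι_assoc, ← fac,
        ← Category.assoc, morphismRestrict_ι, Category.assoc]
    · simp
    · simp

end Sch

end Groth.Agent.Lib.Helper24.QuietLift
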