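import Mathlib
import Groth.Prelude.Def_W4c2gaugesfzipsQuiet
import Groth.Agent.Lib.Helper24.QuietLift

/-!
# Helper library (helper24): base change of `p`-th root morphisms and quasi-etale morphisms
-/

set_option autoImplicit false
set_option maxHeartbeats 400000
set_option linter.style.haveILetI false
universe u

namespace Groth.Agent.Lib.Helper24.QuietBC

open CategoryTheory Limits AlgebraicGeometry Polynomial Quiet
open Groth.Agent.Lib.Helper24.RootTower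
open Groth.Agent.Lib.Helper24.QuietLift

variable (p : ℕ)

theorem isPO_of_isPushout {P Q S D : CommRingCat.{u}} {f : P ⟶ Q} {h : P ⟶ S} {h' : Q ⟶ D}
    {f' : S ⟶ D} (hpo : IsPushout f h h' f') : IsPO f.hom h.hom h'.hom f'.hom := by
  refine ⟨?_, ?_⟩
  · rw [← CommRingCat.hom_comp, ← CommRingCat.hom_comp, hpo.w]
  · intro E _ α β hαβ
    have hc : f ≫ (CommRingCat.ofHom β : Q ⟶ CommRingCat.of E) =
        h ≫ (CommRingCat.ofHom α : S ⟶ CommRingCat.of E) := by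
      ext x
      exact (RingHom.congr_fun hαβ x).symm
    refine ⟨(hpo.desc (CommRingCat.ofHom β) (CommRingCat.ofHom α) hc).hom, ⟨?_, ?_⟩, ?_⟩
    · exact congrArg CommRingCat.Hom.hom (hpo.inr_desc _ _ hc)
    · exact congrArg CommRingCat.Hom.hom (hpo.inl_desc _ _ hc)
    · rintro δ' ⟨h1, h2⟩
      have : (CommRingCat.ofHom δ' : D ⟶ CommRingCat.of E) = hpo.desc _ _ hc := by
        apply hpo.hom_ext
        · rw [hpo.inl_desc]
          ext x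
          exact RingHom.congr_fun h2 x
        · rw [hpo.inr_desc]
          ext x
          exact RingHom.congr_fun h1 x
      exact congrArg CommRingCat.Hom.hom this

theorem rt_of_isPushout (n : ℕ) {P Q S D : CommRingCat.{u}} {f : P ⟶ Q} {h : P ⟶ S}
    {h' : Q ⟶ D} {f' : S ⟶ D} (hpo : IsPushout f h h' f') (hrt : RT p n P Q f.hom) :
    RT p n S D f'.hom :=
  rt_of_po p n _ _ _ _ f.hom h.hom h'.hom f'.hom hrt (isPO_of_isPushout hpo)

variable {p}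

theorem isPthRoot_iff {X Y : Scheme.{u}} (f : Y ⟶ X) : Quiet.IsPthRoot p f ↔
    ∀ x : X, ∃ U : X.Opens, IsAffineOpen U ∧ x ∈ U ∧ IsAffineOpen (f ⁻¹ᵁ U) ∧
      ∃ n, RT p n Γ(X, U) Γ(Y, f ⁻¹ᵁ U) (f.app U).hom := by
  constructor
  · intro h x
    obtain ⟨U, hxU, hfU, hn⟩ := h x
    obtain ⟨n, hn⟩ := hn
    refine ⟨U.1, U.2, hxU, hfU, n, ?_⟩
    letI := (f.app U.1).hom.toAlgebra
    exact rt_of_isRootTower p n _ _ hn
  · intro h x
    obtain ⟨U, hU, hxU, hfU, n, hn⟩ := h x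
    refine ⟨⟨U, hU⟩, hxU, hfU, ?_⟩
    letI := (f.app U).hom.toAlgebra
    exact ⟨n, isRootTower_of_rt p n _ _ hn⟩

/-- Base change of a good affine open. -/
theorem good_of_isPullback {X Y X' Y' : Scheme.{u}} {f : Y ⟶ X} {g : X' ⟶ X} {f' : Y' ⟶ X'}
    {g' : Y' ⟶ Y} (H : IsPullback g' f' f g) {U : X.Opens} (hU : IsAffineOpen U)
    (hfU : IsAffineOpen (f ⁻¹ᵁ U)) (n : ℕ)
    (hrt : RT p n Γ(X, U) Γ(Y, f ⁻¹ᵁ U) (f.app U).hom)
    {U' : X'.Opens} (hU' : IsAffineOpen U') (hle : U' ≤ g ⁻¹ᵁ U) :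
    IsAffineOpen (f' ⁻¹ᵁ U') ∧ RT p n Γ(X', U') Γ(Y', f' ⁻¹ᵁ U') (f'.app U').hom := by
  have hUY : f' ⁻¹ᵁ U' = g' ⁻¹ᵁ (f ⁻¹ᵁ U) ⊓ f' ⁻¹ᵁ U' := by
    refine (inf_eq_right.mpr ?_).symm
    have h1 : f' ⁻¹ᵁ U' ≤ f' ⁻¹ᵁ (g ⁻¹ᵁ U) := fun y hy => hle hy
    have h2 : f' ⁻¹ᵁ (g ⁻¹ᵁ U) = g' ⁻¹ᵁ (f ⁻¹ᵁ U) := by
      rw [← Scheme.Hom.comp_preimage, ← Scheme.Hom.comp_preimage, H.w]
    exact h2 ▸ h1
  have hpo := (isIso_pushoutSection_iff H hle (le_refl (f ⁻¹ᵁ U)) hUY).mp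
    (isIso_pushoutSection_of_isAffineOpen H hle (le_refl (f ⁻¹ᵁ U)) hUY hU hU' hfU)
  constructor
  · haveI : IsAffine (U : Scheme.{u}) := hU
    haveI : IsAffine (U' : Scheme.{u}) := hU'
    haveI : IsAffine ((f ⁻¹ᵁ U : Y.Opens) : Scheme.{u}) := hfU
    exact .of_isIso (Scheme.Hom.isPullback_resLE H hle (le_refl (f ⁻¹ᵁ U)) hUY).isoPullback.hom
  · have h3 := rt_of_isPushout p n hpo (by rwa [← Scheme.Hom.app_eq_appLE])
    rwa [← Scheme.Hom.app_eq_appLE] at h3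

/-- `p`-th root morphisms are stable under base change. -/
theorem isPthRoot_of_isPullback {X Y X' Y' : Scheme.{u}} {f : Y ⟶ X} {g : X' ⟶ X}
    {f' : Y' ⟶ X'} {g' : Y' ⟶ Y} (H : IsPullback g' f' f g) (hf : Quiet.IsPthRoot p f) :
    Quiet.IsPthRoot p f' := by
  rw [isPthRoot_iff] at hf ⊢
  intro x'
  obtain ⟨U, hU, hxU, hfU, n, hn⟩ := hf (g.base x')
  obtain ⟨U', hU', hx'U', hU'le⟩ := exists_isAffineOpen_mem_and_subset (X := X') (x := x')
    (U := g ⁻¹ᵁ U) hxU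
  obtain ⟨h1, h2⟩ := good_of_isPullback H hU hfU n hn hU' hU'le
  exact ⟨U', hU', hx'U', h1, n, h2⟩

/-- Quasi-etale morphisms are stable under base change. -/
theorem isQuiet_of_isPullback {X Y X' Y' : Scheme.{u}} (f : Y ⟶ X) (g : X' ⟶ X) (f' : Y' ⟶ X')
    (g' : Y' ⟶ Y) (H : IsPullback g' f' f g) (hf : Quiet.IsQuiet p f) : Quiet.IsQuiet p f' := by
  intro y'
  obtain ⟨V, Y₁, r, e, hyV, hr, he, fac⟩ := hf (g'.base y')
  haveI : Etale e := he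
  have comm : ((g' ∣_ V) ≫ r) ≫ e = ((g' ⁻¹ᵁ V).ι ≫ f') ≫ g := by
    rw [Category.assoc, fac, ← Category.assoc, morphismRestrict_ι, Category.assoc, H.w,
      Category.assoc]
  refine ⟨g' ⁻¹ᵁ V, pullback e g,
    pullback.lift ((g' ∣_ V) ≫ r) ((g' ⁻¹ᵁ V).ι ≫ f') comm, pullback.snd e g, hyV, ?_,
    inferInstance, pullback.lift_snd _ _ _⟩
  have hbot : IsPullback (pullback.fst e g) (pullback.snd e g) e g := IsPullback.of_hasPullback e g
  have houter : IsPullback (g' ∣_ V) ((g' ⁻¹ᵁ V).ι ≫ f') (V.ι ≫ f) g :=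
    (isPullback_morphismRestrict g' V).paste_vert H
  have houter' : IsPullback (g' ∣_ V)
      (pullback.lift ((g' ∣_ V) ≫ r) ((g' ⁻¹ᵁ V).ι ≫ f') comm ≫ pullback.snd e g) (r ≫ e) g := by
    rw [pullback.lift_snd, fac]
    exact houter
  exact isPthRoot_of_isPullback
    (IsPullback.of_bot houter' (pullback.lift_fst _ _ _).symm hbot) hr

end Groth.Agent.Lib.Helper24.QuietBC
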