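import Mathlib
import Groth.Prelude.Def_W4c2gaugesfzipsQuiet
import Groth.Agent.Lib.Helper24.QuietBC
import Groth.Agent.Lib.Helper24.FrobPthRoot
import Groth.Agent.Lib.Helper24.EtThickLocal

/-!
# Helper library (helper24): Frobenius modulo an ideal (base change of the Frobenius of a smooth
algebra over a perfect field along a quotient)
-/

set_option autoImplicit false
set_option maxHeartbeats 400000
set_option linter.style.haveILetI false
universe u

namespace Groth.Agent.Lib.Helper24.FrobQuot

open CategoryTheory Limits AlgebraicGeometry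

section General

variable {R R' : Type u} [CommRing R] [CommRing R'] (F : R →+* R') (I : Ideal R)

theorem isPushout_quotientMap :
    IsPushout (CommRingCat.ofHom F) (CommRingCat.ofHom (Ideal.Quotient.mk I))
      (CommRingCat.ofHom (Ideal.Quotient.mk (I.map F)))
      (CommRingCat.ofHom (Ideal.quotientMap (I.map F) F Ideal.le_comap_map)) := by
  apply EtThick.isPushout_of_surjective
  · ext x
    simp
  · exact Ideal.Quotient.mk_surjective
  · exact Ideal.Quotient.mk_surjective
  · simp [Ideal.mk_ker]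

theorem faithfullyFlat_of_isPushout {P Q S D : CommRingCat.{u}} {f : P ⟶ Q} {h : P ⟶ S}
    {h' : Q ⟶ D} {f' : S ⟶ D} (hpo : IsPushout f h h' f') (hf : f.hom.FaithfullyFlat) :
    f'.hom.FaithfullyFlat := by
  haveI : (RingHom.toMorphismProperty RingHom.FaithfullyFlat).IsStableUnderCobaseChange :=
    RingHom.isStableUnderCobaseChange_toMorphismProperty_iff.mpr
      RingHom.FaithfullyFlat.isStableUnderBaseChange
  exact MorphismProperty.of_isPushout
    (P := RingHom.toMorphismProperty RingHom.FaithfullyFlat) hpo.flip hf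

theorem faithfullyFlat_quotientMap (hF : F.FaithfullyFlat) :
    (Ideal.quotientMap (I.map F) F Ideal.le_comap_map).FaithfullyFlat :=
  faithfullyFlat_of_isPushout (isPushout_quotientMap F I) hF

end General

section Frob

theorem isPthRoot_quotientMap_frobenius (p : ℕ) [Fact p.Prime] (k : Type u) [Field k] [CharP k p]
    [PerfectRing k p] (P : Type u) [CommRing P] [Algebra k P] [CharP P p] [Algebra.Smooth k P]
    (I : Ideal P) :
    Quiet.IsPthRoot p (Spec.map (CommRingCat.ofHom
      (Ideal.quotientMap (I.map (frobenius P p)) (frobenius P p) Ideal.le_comap_map))) := by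
  have hpb := isPullback_SpecMap_of_isPushout _ _ _ _ (isPushout_quotientMap (frobenius P p) I)
  exact QuietBC.isPthRoot_of_isPullback hpb
    (FrobPthRoot.isPthRoot_spec_frobenius p k (CommRingCat.of P)
      (CommRingCat.ofHom (frobenius P p)) rfl)

end Frob

section Reg

open RingTheory.Sequence MvPolynomial

theorem isWeaklyRegular_map_of_flat {R S : Type*} [CommRing R] [CommRing S] (φ : R →+* S)
    (hφ : φ.Flat) {rs : List R} (reg : IsWeaklyRegular R rs) : IsWeaklyRegular S (rs.map φ) := by
  letI := φ.toAlgebra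
  haveI : Module.Flat R S := hφ
  exact reg.of_flat

theorem ofList_ofFn {R : Type*} [CommRing R] {n : ℕ} (g : Fin n → R) :
    Ideal.ofList (List.ofFn g) = Ideal.span (Set.range g) := by
  change Ideal.span _ = _
  congr 1
  ext x
  exact List.mem_ofFn' g x

theorem regular_frobenius (p : ℕ) [Fact p.Prime] (k : Type u) [Field k] [CharP k p]
    [PerfectRing k p] (A : Type u) [CommRing A] [Algebra k A] [CharP A p] [Algebra.Smooth k A]
    (n : ℕ) (t : Fin n → A) (ht : IsRegular A (List.ofFn t)) (r m : ℕ)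
    (v : Fin m → MvPolynomial (Fin r) A)
    (hv : IsRegular (MvPolynomial (Fin r) A ⧸ Ideal.span (Set.range fun i => C (t i) ^ p))
      (List.ofFn fun j => Ideal.Quotient.mk (Ideal.span (Set.range fun i => C (t i) ^ p)) (v j))) :
    IsRegular (MvPolynomial (Fin r) A)
      (List.ofFn (fun i => C (t i) ^ (p ^ 2)) ++ List.ofFn (fun j => v j ^ p)) := by
  have hp : p.Prime := Fact.out
  haveI : Algebra.Smooth A (MvPolynomial (Fin r) A) := ⟨inferInstance, inferInstance⟩
  haveI : Algebra.Smooth k (MvPolynomial (Fin r) A) := Algebra.Smooth.comp k A _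
  have hFA := (FrobPthRoot.frobenius_faithfullyFlat p k A).flat
  have hFP := (FrobPthRoot.frobenius_faithfullyFlat p k (MvPolynomial (Fin r) A)).flat
  obtain ⟨I₁, hI₁⟩ : ∃ I₁ : Ideal (MvPolynomial (Fin r) A),
      I₁ = Ideal.span (Set.range fun i => C (t i) ^ p) := ⟨_, rfl⟩
  rw [← hI₁] at hv
  -- step 1
  have h1 : IsWeaklyRegular A (List.ofFn fun i => t i ^ p) := by
    have := isWeaklyRegular_map_of_flat (frobenius A p) hFA ht.toIsWeaklyRegular
    rw [List.map_ofFn] at this
    exact this
  -- step 2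
  have e2 : (List.ofFn fun i => (C (t i) : MvPolynomial (Fin r) A) ^ p) =
      (List.ofFn fun i => t i ^ p).map (algebraMap A (MvPolynomial (Fin r) A)) := by
    rw [List.map_ofFn]
    congr 1
    funext i
    simp [MvPolynomial.algebraMap_eq]
  have h2 : IsWeaklyRegular (MvPolynomial (Fin r) A)
      (List.ofFn fun i => (C (t i) : MvPolynomial (Fin r) A) ^ p) := by
    rw [e2]
    exact h1.of_flat
  -- step 3
  have hsub : (Ideal.ofList (List.ofFn fun i => (C (t i) : MvPolynomial (Fin r) A) ^ p) • ⊤ :
      Submodule (MvPolynomial (Fin r) A) (MvPolynomial (Fin r) A)) = I₁ := by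
    rw [ofList_ofFn, ← hI₁, smul_eq_mul, Ideal.mul_top]
  have h3 : IsWeaklyRegular (MvPolynomial (Fin r) A ⧸
      (Ideal.ofList (List.ofFn fun i => (C (t i) : MvPolynomial (Fin r) A) ^ p) • ⊤ :
        Submodule (MvPolynomial (Fin r) A) (MvPolynomial (Fin r) A))) (List.ofFn v) := by
    have hv' := hv.toIsWeaklyRegular
    have e3 : (List.ofFn fun j => Ideal.Quotient.mk I₁ (v j)) =
        (List.ofFn v).map (Ideal.Quotient.mk I₁) := by
      rw [List.map_ofFn]
      rfl
    rw [e3] at hv'
    refine (AddEquiv.isWeaklyRegular_congr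
      (e := (Submodule.quotEquivOfEq _ _ hsub).toAddEquiv) ?_).mpr hv'
    refine List.forall₂_map_right_iff.mpr (List.forall₂_same.mpr fun a _ x => ?_)
    obtain ⟨y, rfl⟩ := Submodule.Quotient.mk_surjective _ x
    rfl
  have h4 := (isWeaklyRegular_append_iff (MvPolynomial (Fin r) A) _ _).mpr ⟨h2, h3⟩
  -- step 5
  have e5 : (List.ofFn (fun i => (C (t i) : MvPolynomial (Fin r) A) ^ p) ++ List.ofFn v).map
      (frobenius (MvPolynomial (Fin r) A) p) =
      List.ofFn (fun i => (C (t i) : MvPolynomial (Fin r) A) ^ (p ^ 2)) ++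
        List.ofFn (fun j => v j ^ p) := by
    rw [List.map_append, List.map_ofFn, List.map_ofFn]
    congr 2
    funext i
    simp only [Function.comp_apply, frobenius_def]
    rw [← pow_mul, sq]
  have h5 := isWeaklyRegular_map_of_flat (frobenius (MvPolynomial (Fin r) A) p) hFP h4
  rw [e5] at h5
  refine ⟨h5, ?_⟩
  -- properness
  intro htop
  apply hv.top_ne_smul
  rw [smul_eq_mul, Ideal.mul_top] at htop ⊢
  symm
  rw [Ideal.eq_top_iff_one]
  have hle : Ideal.ofList (List.ofFn (fun i => (C (t i) : MvPolynomial (Fin r) A) ^ (p ^ 2)) ++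
      List.ofFn (fun j => v j ^ p)) ≤ I₁ ⊔ Ideal.span (Set.range v) := by
    rw [Ideal.ofList_append, ofList_ofFn, ofList_ofFn]
    refine sup_le (Ideal.span_le.mpr ?_) (Ideal.span_le.mpr ?_)
    · rintro _ ⟨i, rfl⟩
      apply Ideal.mem_sup_left
      change (C (t i) : MvPolynomial (Fin r) A) ^ (p ^ 2) ∈ I₁
      rw [sq, pow_mul, hI₁]
      exact Ideal.pow_mem_of_mem _ (Ideal.subset_span (Set.mem_range_self i)) p hp.pos
    · rintro _ ⟨j, rfl⟩
      apply Ideal.mem_sup_right
      exact Ideal.pow_mem_of_mem _ (Ideal.subset_span (Set.mem_range_self j)) p hp.pos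
  have h1mem : (1 : MvPolynomial (Fin r) A) ∈ I₁ ⊔ Ideal.span (Set.range v) :=
    hle (htop ▸ Submodule.mem_top)
  have h1q := Ideal.mem_map_of_mem (Ideal.Quotient.mk I₁) h1mem
  rw [Ideal.map_sup, Ideal.map_quotient_self, bot_sup_eq, Ideal.map_span, map_one] at h1q
  rw [ofList_ofFn]
  have hset : (Set.range fun j => Ideal.Quotient.mk I₁ (v j)) =
      ⇑(Ideal.Quotient.mk I₁) '' Set.range v := by
    rw [← Set.range_comp]
    rfl
  rw [hset]
  exact h1q

end Reg

end Groth.Agent.Lib.Helper24.FrobQuot
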