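import Groth.Agent.Lib.Helper24.RelFrobSmooth
import Groth.Agent.Lib.Helper24.RelFrobEtale

/-!
# Relative Frobenius of a smooth algebra of relative dimension `r` is finite locally free of
rank `p ^ r` (affine form)
-/

set_option autoImplicit false
set_option linter.unusedSimpArgs false
universe u v w
open FrobAlg TensorProduct

namespace Groth.Agent.Lib.Helper24.RelFrobRank

open Groth.Agent.Lib.Helper24.RelFrobSmooth

section FreeRank

/-- `S` is a finite free `R`-module of rank `d` through `f`. -/
def IsFreeOfRank {R : Type u} {S : Type v} [CommRing R] [CommRing S] (f : R →+* S) (d : ℕ) :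
    Prop :=
  letI := f.toAlgebra
  Module.Free R S ∧ Module.Finite R S ∧ Module.finrank R S = d

theorem IsFreeOfRank.comp {R : Type u} {S : Type v} {T : Type w} [CommRing R] [CommRing S]
    [CommRing T] [Nontrivial R] [Nontrivial S] {f : R →+* S} {g : S →+* T} {d e : ℕ}
    (hf : IsFreeOfRank f d) (hg : IsFreeOfRank g e) : IsFreeOfRank (g.comp f) (d * e) := by
  letI := f.toAlgebra
  letI := g.toAlgebra
  letI := (g.comp f).toAlgebra
  haveI : IsScalarTower R S T := IsScalarTower.of_algebraMap_eq (fun _ => rfl)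
  obtain ⟨hf1, hf2, hf3⟩ := hf
  obtain ⟨hg1, hg2, hg3⟩ := hg
  haveI := hf1; haveI := hf2; haveI := hg1; haveI := hg2
  refine ⟨Module.Free.trans (R := R) (S := S) (M := T), Module.Finite.trans S T, ?_⟩
  rw [← Module.finrank_mul_finrank R S T, hf3, hg3]

theorem IsFreeOfRank.of_bijective {R : Type u} {S : Type v} [CommRing R] [CommRing S]
    [Nontrivial R] {e : R →+* S} (he : Function.Bijective e) : IsFreeOfRank e 1 := by
  letI := e.toAlgebra
  let E : R ≃ₗ[R] S := LinearEquiv.ofBijective (Algebra.linearMap R S) he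
  refine ⟨Module.Free.of_equiv E, Module.Finite.equiv E, ?_⟩
  rw [← E.finrank_eq, Module.finrank_self]

theorem isFreeOfRank_algebraMap {R : Type u} {S : Type v} [CommRing R] [CommRing S] [Algebra R S]
    [Module.Free R S] [Module.Finite R S] :
    IsFreeOfRank (algebraMap R S) (Module.finrank R S) := by
  rw [IsFreeOfRank, toAlgebra_algebraMap]
  exact ⟨inferInstance, inferInstance, rfl⟩

end FreeRank

section Poly

open MvPolynomial

variable {R : Type u} [CommRing R] [Nontrivial R] {σ : Type w} [DecidableEq σ] (p : ℕ)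

theorem Φ_single_isFreeOfRank (hp : p ≠ 0) (i : σ) :
    IsFreeOfRank (Φ (R := R) p {i}).toRingHom p := by
  let f : Polynomial (MvPolynomial σ R) := Polynomial.X ^ p - Polynomial.C (X i)
  have hf : f.Monic := Polynomial.monic_X_pow_sub_C _ hp
  haveI : Module.Free (MvPolynomial σ R) (AdjoinRoot f) := hf.free_adjoinRoot
  haveI : Module.Finite (MvPolynomial σ R) (AdjoinRoot f) := hf.finite_adjoinRoot
  have hrank : Module.finrank (MvPolynomial σ R) (AdjoinRoot f) = p := by
    rw [(AdjoinRoot.powerBasis' hf).finrank, AdjoinRoot.powerBasis'_dim,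
      Polynomial.natDegree_X_pow_sub_C]
  let φ : MvPolynomial σ R →+* MvPolynomial σ R := (Φ (R := R) p {i}).toRingHom
  have hφX : ∀ j, φ (X j) = if j = i then (X j : MvPolynomial σ R) ^ p else X j := by
    intro j
    change Φ (R := R) p {i} (X j) = _
    rw [Φ_X]
    simp
  have hφC : ∀ r, φ (C r) = C r := fun r => Φ_C p {i} r
  have hroot : f.eval₂ φ (X i) = 0 := by
    simp [f, hφX]
  let e : AdjoinRoot f →+* MvPolynomial σ R := AdjoinRoot.lift φ (X i) hroot
  let g : MvPolynomial σ R →ₐ[R] AdjoinRoot f :=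
    aeval (fun j => if j = i then AdjoinRoot.root f else AdjoinRoot.of f (X j))
  have hgX : ∀ j, g (X j) = if j = i then AdjoinRoot.root f else AdjoinRoot.of f (X j) := by
    intro j; simp [g]
  have hrootp : (AdjoinRoot.root f) ^ p = AdjoinRoot.of f (X i) := by
    have h := AdjoinRoot.eval₂_root f
    simp only [f, Polynomial.eval₂_sub, Polynomial.eval₂_pow, Polynomial.eval₂_X,
      Polynomial.eval₂_C] at h
    exact sub_eq_zero.mp h
  have hgφ : g.toRingHom.comp φ = AdjoinRoot.of f := by
    apply MvPolynomial.ringHom_ext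
    · intro r
      rw [RingHom.comp_apply, hφC]
      change g (C r) = _
      rw [← MvPolynomial.algebraMap_eq, AlgHom.commutes]
      rfl
    · intro j
      rw [RingHom.comp_apply, hφX]
      by_cases hj : j = i
      · subst hj
        rw [if_pos rfl]
        change g (X j ^ p) = _
        rw [map_pow, hgX, if_pos rfl, hrootp]
      · rw [if_neg hj]
        change g (X j) = _
        rw [hgX, if_neg hj]
  have h1 : ∀ x : MvPolynomial σ R, e (g x) = x := by
    intro x
    have : e.comp g.toRingHom = RingHom.id (MvPolynomial σ R) := by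
      apply MvPolynomial.ringHom_ext
      · intro r
        rw [RingHom.comp_apply, RingHom.id_apply]
        change e (g (C r)) = _
        rw [← MvPolynomial.algebraMap_eq, AlgHom.commutes]
        change e (AdjoinRoot.of f (C r)) = _
        rw [AdjoinRoot.lift_of, hφC]
        rfl
      · intro j
        rw [RingHom.comp_apply, RingHom.id_apply]
        change e (g (X j)) = _
        rw [hgX]
        by_cases hj : j = i
        · subst hj
          rw [if_pos rfl, AdjoinRoot.lift_root]
        · rw [if_neg hj, AdjoinRoot.lift_of, hφX, if_neg hj]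
    exact RingHom.congr_fun this x
  have h2 : ∀ y : AdjoinRoot f, g (e y) = y := by
    intro y
    obtain ⟨q, rfl⟩ := AdjoinRoot.mk_surjective y
    have : (g.toRingHom.comp e).comp (AdjoinRoot.mk f) = AdjoinRoot.mk f := by
      apply Polynomial.ringHom_ext
      · intro s
        rw [RingHom.comp_apply, RingHom.comp_apply, AdjoinRoot.mk_C, AdjoinRoot.lift_of]
        exact RingHom.congr_fun hgφ s
      · rw [RingHom.comp_apply, RingHom.comp_apply, AdjoinRoot.mk_X, AdjoinRoot.lift_root]
        change g (X i) = _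
        rw [hgX, if_pos rfl]
    exact RingHom.congr_fun this q
  have hbij : Function.Bijective e :=
    Function.bijective_iff_has_inverse.mpr ⟨g, h2, h1⟩
  have hcomp : φ = e.comp (algebraMap (MvPolynomial σ R) (AdjoinRoot f)) := by
    apply RingHom.ext
    intro s
    rw [RingHom.comp_apply, AdjoinRoot.algebraMap_eq, AdjoinRoot.lift_of]
  haveI : Nontrivial (AdjoinRoot f) := hbij.surjective.nontrivial
  change IsFreeOfRank φ p
  rw [hcomp]
  have h3 := IsFreeOfRank.comp (isFreeOfRank_algebraMap (R := MvPolynomial σ R) (S := AdjoinRoot f))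
    (IsFreeOfRank.of_bijective hbij)
  rwa [hrank, mul_one] at h3

theorem Φ_isFreeOfRank (hp : p ≠ 0) (s : Finset σ) :
    IsFreeOfRank (Φ (R := R) p s).toRingHom (p ^ s.card) := by
  induction s using Finset.induction_on with
  | empty =>
    rw [Φ_empty, Finset.card_empty, pow_zero]
    exact IsFreeOfRank.of_bijective Function.bijective_id
  | insert i s hi ih =>
    rw [Φ_insert p s i hi, Finset.card_insert_of_notMem hi, pow_succ]
    exact IsFreeOfRank.comp ih (Φ_single_isFreeOfRank p hp i)

end Poly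

section PolyFrob

open MvPolynomial

variable (p : ℕ) [Fact p.Prime] (A : Type u) [CommRing A] [CharP A p]
  (σ : Type w) [Fintype σ] [DecidableEq σ]

theorem relFrob_mvPolynomial_isFreeOfRank :
    IsFreeOfRank (relFrob p A (MvPolynomial σ A)) (p ^ Fintype.card σ) := by
  have hp : p.Prime := Fact.out
  haveI : Nontrivial A := CharP.nontrivial_of_char_ne_one (R := A) hp.ne_one
  let θ : MvPolynomial σ A ⊗[A] Twist p A ≃+* MvPolynomial σ (Twist p A) :=
    (Algebra.TensorProduct.comm A (MvPolynomial σ A) (Twist p A)).toRingEquiv.trans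
      (algebraTensorAlgEquiv A (Twist p A)).toRingEquiv
  let μ : MvPolynomial σ (Twist p A) ≃+* MvPolynomial σ A :=
    MvPolynomial.mapEquiv σ (toTwist p A).symm
  have hcomp : ((toTwist p A).symm : Twist p A →+* A).comp (algebraMap A (Twist p A)) =
      frobenius A p := by
    apply RingHom.ext
    intro a
    rw [RingHom.comp_apply, algebraMap_twist, frobenius_def]
    exact RingEquiv.symm_apply_apply _ _
  have hfac : relFrob p A (MvPolynomial σ A) =
      ((Φ (R := A) (σ := σ) p Finset.univ).toRingHom.comp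
        (μ : MvPolynomial σ (Twist p A) →+* MvPolynomial σ A)).comp
        (θ : MvPolynomial σ A ⊗[A] Twist p A →+* MvPolynomial σ (Twist p A)) := by
    apply RingHom.ext
    intro x
    induction x using TensorProduct.induction_on with
    | zero => simp
    | tmul x t =>
      rw [RelFrobSmooth.relFrob_tmul]
      change _ = Φ (R := A) p Finset.univ (μ (θ (x ⊗ₜ[A] t)))
      have hθ : θ (x ⊗ₜ[A] t) = t • MvPolynomial.map (algebraMap A (Twist p A)) x := by
        simp [θ]
      rw [hθ, MvPolynomial.smul_eq_C_mul, map_mul, map_mul]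
      have h1 : μ (C t) = C ((toTwist p A).symm t) := by
        simp [μ]
      have h2 : μ (MvPolynomial.map (algebraMap A (Twist p A)) x) =
          MvPolynomial.map (frobenius A p) x := by
        simp only [μ, MvPolynomial.mapEquiv_apply]
        rw [MvPolynomial.map_map]
        congr 1
      rw [h1, h2, Φ_C, Φ_univ_map_frobenius, mul_comm]
      rfl
    | add x y hx hy => rw [map_add, map_add, hx, hy]
  haveI : Nontrivial (Twist p A) := ‹Nontrivial A›
  haveI : Nontrivial (MvPolynomial σ A ⊗[A] Twist p A) := θ.surjective.nontrivial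
  rw [hfac]
  have h := IsFreeOfRank.comp
    (IsFreeOfRank.of_bijective
      (e := (θ : MvPolynomial σ A ⊗[A] Twist p A →+* MvPolynomial σ (Twist p A))) θ.bijective)
    (IsFreeOfRank.comp (IsFreeOfRank.of_bijective
      (e := (μ : MvPolynomial σ (Twist p A) →+* MvPolynomial σ A)) μ.bijective)
      (Φ_isFreeOfRank (R := A) p hp.ne_zero (Finset.univ : Finset σ)))
  rwa [one_mul, one_mul, Finset.card_univ] at h

end PolyFrob


section Square

open Groth.Agent.Lib.Helper24.RelFrobEtale

/-- Abstract "Frobenius square": `R₀ → S₀` étale, `P → C` étale, with Frobenius-like maps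
`ιP : P → R₀`, `ιC : C → S₀`.  Then `S₀ ⊗[R₀] P → C` is bijective. -/
theorem square_bijective {R₀ S₀ P C : Type u} [CommRing R₀] [CommRing S₀] [CommRing P] [CommRing C]
    (p : ℕ) (hp : p.Prime) (f : R₀ →+* S₀) (g : R₀ →+* P) (h : P →+* C) (k : S₀ →+* C)
    (hcomm : ∀ r, k (f r) = h (g r)) (hf : f.Etale) (hh : h.Etale)
    (ιP : P →+* R₀) (ιC : C →+* S₀) (ha : ∀ x, g (ιP x) = x ^ p) (hb : ∀ s, ιC (k s) = s ^ p)
    (hc : ∀ c, k (ιC c) = c ^ p) (hd : ∀ x, ιC (h x) = f (ιP x)) (hP0 : (p : P) = 0) :
    letI := f.toAlgebra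
    letI := g.toAlgebra
    letI := k.toAlgebra
    ∃ e : S₀ ⊗[R₀] P ≃ₗ[S₀] C, ∀ (s : S₀) (x : P), e (s ⊗ₜ[R₀] x) = k s * h x := by
  letI algf := f.toAlgebra
  letI algg := g.toAlgebra
  letI algh := h.toAlgebra
  letI algk := k.toAlgebra
  letI algR₀C : Algebra R₀ C := (h.comp g).toAlgebra
  haveI : IsScalarTower R₀ P C := IsScalarTower.of_algebraMap_eq (fun _ => rfl)
  haveI : IsScalarTower R₀ S₀ C := IsScalarTower.of_algebraMap_eq (fun r => (hcomm r).symm)
  haveI : Algebra.Etale R₀ S₀ := hf
  haveI : Algebra.Etale P C := hh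
  -- the `P`-algebra `W = P ⊗[R₀] S₀`
  let Θ' : P ⊗[R₀] S₀ →ₐ[P] C :=
    Algebra.TensorProduct.productLeftAlgHom (Algebra.ofId P C) (IsScalarTower.toAlgHom R₀ S₀ C)
  have hΘ' : ∀ (x : P) (s : S₀), Θ' (x ⊗ₜ[R₀] s) = h x * k s := fun x s => by
    simp [Θ']
    rfl
  letI algW : Algebra (P ⊗[R₀] S₀) C := Θ'.toRingHom.toAlgebra
  haveI : IsScalarTower P (P ⊗[R₀] S₀) C :=
    IsScalarTower.of_algebraMap_eq (fun x => (Θ'.commutes x).symm)
  have hC0 : (p : C) = 0 := by
    rw [← map_natCast h p, hP0, map_zero]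
  have hW0 : (p : P ⊗[R₀] S₀) = 0 := by
    rw [← map_natCast (algebraMap P (P ⊗[R₀] S₀)) p, hP0, map_zero]
  let ψ : C →+* P ⊗[R₀] S₀ :=
    (Algebra.TensorProduct.includeRight : S₀ →ₐ[R₀] P ⊗[R₀] S₀).toRingHom.comp ιC
  have hψ : ∀ w : P ⊗[R₀] S₀, ψ (Θ' w) = w ^ p := by
    intro w
    induction w using TensorProduct.induction_on with
    | zero => rw [map_zero, map_zero, zero_pow hp.ne_zero]
    | tmul x s =>
      rw [hΘ']
      change (1 : P) ⊗ₜ[R₀] ιC (h x * k s) = _
      rw [map_mul, hd, hb, Algebra.TensorProduct.tmul_pow, ← ha x]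
      change (1 : P) ⊗ₜ[R₀] (algebraMap R₀ S₀ (ιP x) * s ^ p) =
        (algebraMap R₀ P (ιP x)) ⊗ₜ[R₀] (s ^ p)
      rw [← Algebra.smul_def, ← TensorProduct.smul_tmul, Algebra.smul_def, mul_one]
    | add x y hx hy =>
      rw [map_add, map_add, hx, hy, add_pow_of_cast_zero hp hW0]
  have hbij : Function.Bijective (algebraMap (P ⊗[R₀] S₀) C) := by
    refine core p hp (R := P) (C := P ⊗[R₀] S₀) (B := C) hC0 ?_ ?_
    · intro c
      refine ⟨(1 : P) ⊗ₜ[R₀] ιC c, ?_⟩
      change Θ' _ = _
      rw [hΘ', map_one, one_mul, hc]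
    · intro w hw
      refine ⟨p, ?_⟩
      rw [← hψ w]
      change ψ (algebraMap (P ⊗[R₀] S₀) C w) = 0
      rw [hw, map_zero]
  -- now the `S₀`-linear version
  let Θ : S₀ ⊗[R₀] P →ₐ[S₀] C :=
    Algebra.TensorProduct.productLeftAlgHom (Algebra.ofId S₀ C) (IsScalarTower.toAlgHom R₀ P C)
  have hΘ : ∀ (s : S₀) (x : P), Θ (s ⊗ₜ[R₀] x) = k s * h x := fun s x => by
    simp [Θ]
    rfl
  have hΘΘ' : ∀ w : S₀ ⊗[R₀] P, Θ w = Θ' (Algebra.TensorProduct.comm R₀ S₀ P w) := by
    intro w
    induction w using TensorProduct.induction_on with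
    | zero => simp
    | tmul s x => rw [hΘ, Algebra.TensorProduct.comm_tmul, hΘ', mul_comm]
    | add x y hx hy => simp only [map_add, hx, hy]
  have hΘbij : Function.Bijective Θ := by
    have : (Θ : S₀ ⊗[R₀] P → C) = (algebraMap (P ⊗[R₀] S₀) C) ∘
        (Algebra.TensorProduct.comm R₀ S₀ P) := by
      funext w
      exact hΘΘ' w
    rw [this]
    exact hbij.comp (Algebra.TensorProduct.comm R₀ S₀ P).bijective
  exact ⟨LinearEquiv.ofBijective Θ.toLinearMap hΘbij, fun s x => hΘ s x⟩

theorem rank_square {R₀ S₀ P C : Type u} [CommRing R₀] [CommRing S₀] [CommRing P] [CommRing C]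
    (p : ℕ) (hp : p.Prime) (f : R₀ →+* S₀) (g : R₀ →+* P) (h : P →+* C) (k : S₀ →+* C)
    (hcomm : ∀ r, k (f r) = h (g r)) (hf : f.Etale) (hh : h.Etale)
    (ιP : P →+* R₀) (ιC : C →+* S₀) (ha : ∀ x, g (ιP x) = x ^ p) (hb : ∀ s, ιC (k s) = s ^ p)
    (hc : ∀ c, k (ιC c) = c ^ p) (hd : ∀ x, ιC (h x) = f (ιP x)) (hP0 : (p : P) = 0)
    (hfin : g.Finite) (hflat : g.Flat) (Q : PrimeSpectrum S₀) :
    (letI := k.toAlgebra; Module.rankAtStalk (R := S₀) C Q) =
      (letI := g.toAlgebra; Module.rankAtStalk (R := R₀) P (Q.comap f)) := by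
  obtain ⟨e, -⟩ := square_bijective p hp f g h k hcomm hf hh ιP ιC ha hb hc hd hP0
  letI algf := f.toAlgebra
  letI algg := g.toAlgebra
  letI algk := k.toAlgebra
  haveI : Module.Finite R₀ P := hfin
  haveI : Module.Flat R₀ P := hflat
  have h1 := congrFun (Module.rankAtStalk_eq_of_equiv e) Q
  have h2 := Module.rankAtStalk_baseChange (R := R₀) (M := P) (S := S₀) Q
  exact h1.symm.trans h2

end Square


section Finite

variable (p : ℕ) [Fact p.Prime] (A : Type u) [CommRing A] [CharP A p]
  (B : Type v) [CommRing B] [Algebra A B] [CharP B p]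

/-- `t ↦ 1 ⊗ t`. -/
noncomputable def inclT : Twist p A →+* B ⊗[A] Twist p A :=
  (Algebra.TensorProduct.includeRight : Twist p A →ₐ[A] B ⊗[A] Twist p A).toRingHom

/-- `b ↦ b ⊗ 1`. -/
noncomputable def inclB : B →+* B ⊗[A] Twist p A :=
  (Algebra.TensorProduct.includeLeft : B →ₐ[A] B ⊗[A] Twist p A).toRingHom

theorem inclB_apply (b : B) : inclB p A B b = b ⊗ₜ[A] (1 : Twist p A) := rfl

theorem relFrob_comp_inclT : (relFrob p A B).comp (inclT p A B) =
    (algebraMap A B).comp ((toTwist p A).symm : Twist p A →+* A) := by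
  apply RingHom.ext
  intro t
  change relFrob p A B ((1 : B) ⊗ₜ[A] t) = _
  rw [RelFrobSmooth.relFrob_tmul, one_pow, one_mul]
  rfl

theorem inclT_finiteType [Algebra.FiniteType A B] : (inclT p A B).FiniteType := by
  have h : inclT p A B =
      ((Algebra.TensorProduct.comm A (Twist p A) B).toAlgHom.toRingHom).comp
        (algebraMap (Twist p A) (Twist p A ⊗[A] B)) := by
    apply RingHom.ext
    intro t
    change (1 : B) ⊗ₜ[A] t = Algebra.TensorProduct.comm A (Twist p A) B
      (algebraMap (Twist p A) (Twist p A ⊗[A] B) t)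
    rw [Algebra.TensorProduct.algebraMap_apply, Algebra.algebraMap_self_apply,
      Algebra.TensorProduct.comm_tmul]
  rw [h]
  exact RingHom.FiniteType.comp
    (RingHom.FiniteType.of_surjective _ (Algebra.TensorProduct.comm A (Twist p A) B).surjective)
    (RingHom.finiteType_algebraMap.mpr inferInstance)

theorem symm_toTwist_bijective :
    Function.Bijective ((toTwist p A).symm : Twist p A →+* A) :=
  (toTwist p A).symm.bijective

theorem relFrob_finiteType [Algebra.FiniteType A B] : (relFrob p A B).FiniteType := by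
  apply RingHom.FiniteType.of_comp_finiteType (f := inclT p A B)
  rw [relFrob_comp_inclT]
  exact RingHom.FiniteType.comp (RingHom.finiteType_algebraMap.mpr inferInstance)
    (RingHom.FiniteType.of_surjective _ (symm_toTwist_bijective p A).2)

theorem relFrob_finitePresentation [Algebra.FinitePresentation A B] :
    (relFrob p A B).FinitePresentation := by
  haveI : Algebra.FiniteType A B := Algebra.FiniteType.of_finitePresentation
  apply RingHom.FinitePresentation.of_comp_finiteType (inclT p A B) _ (inclT_finiteType p A B)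
  rw [relFrob_comp_inclT]
  exact RingHom.FinitePresentation.comp (RingHom.finitePresentation_algebraMap.mpr inferInstance)
    (RingHom.FinitePresentation.of_bijective (symm_toTwist_bijective p A))

theorem relFrob_finite [Algebra.FiniteType A B] : (relFrob p A B).Finite := by
  have hp : p.Prime := Fact.out
  have hft := relFrob_finiteType p A B
  letI := (relFrob p A B).toAlgebra
  haveI : Algebra.FiniteType (B ⊗[A] Twist p A) B := hft
  haveI : Algebra.IsIntegral (B ⊗[A] Twist p A) B := ⟨fun b => by
    refine ⟨Polynomial.X ^ p - Polynomial.C (b ⊗ₜ[A] (1 : Twist p A)),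
      Polynomial.monic_X_pow_sub_C _ hp.ne_zero, ?_⟩
    simp only [Polynomial.eval₂_sub, Polynomial.eval₂_pow, Polynomial.eval₂_X,
      Polynomial.eval₂_C]
    change b ^ p - relFrob p A B (b ⊗ₜ[A] 1) = 0
    rw [RelFrobSmooth.relFrob_tmul, map_one, map_one, mul_one, sub_self]⟩
  exact Algebra.IsIntegral.finite

theorem relFrob_projective [Algebra.Smooth A B] :
    letI := (relFrob p A B).toAlgebra
    Module.Projective (B ⊗[A] Twist p A) B := by
  have h1 := relFrob_finite p A B
  have h2 := relFrob_finitePresentation p A B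
  have h3 := flat_relFrob_of_smooth p A B
  letI := (relFrob p A B).toAlgebra
  haveI : Module.Finite (B ⊗[A] Twist p A) B := h1
  haveI : Algebra.FinitePresentation (B ⊗[A] Twist p A) B := h2
  haveI : Module.Flat (B ⊗[A] Twist p A) B := h3
  haveI : Module.FinitePresentation (B ⊗[A] Twist p A) B :=
    Module.FinitePresentation.of_finite_of_finitePresentation _ _
  exact Module.Flat.projective_of_finitePresentation

end Finite

section Concrete

open Groth.Agent.Lib.Helper24.RelFrobEtale

variable (p : ℕ) [Fact p.Prime] (A : Type u) [CommRing A] [CharP A p]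
  (P : Type u) [CommRing P] [Algebra A P] [CharP P p]
  (C : Type u) [CommRing C] [Algebra A C] [CharP C p] [Algebra P C] [IsScalarTower A P C]

/-- The map `P ⊗ T → C ⊗ T`. -/
noncomputable def twistMap : P ⊗[A] Twist p A →+* C ⊗[A] Twist p A :=
  (Algebra.TensorProduct.map (IsScalarTower.toAlgHom A P C) (AlgHom.id A (Twist p A))).toRingHom

theorem twistMap_tmul (x : P) (t : Twist p A) :
    twistMap p A P C (x ⊗ₜ[A] t) = algebraMap P C x ⊗ₜ[A] t := rfl

theorem relFrob_twistMap (z : P ⊗[A] Twist p A) :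
    relFrob p A C (twistMap p A P C z) = algebraMap P C (relFrob p A P z) :=
  relFrob_natural p A P C z

theorem twistMap_etale [Algebra.Etale P C] : (twistMap p A P C).Etale := by
  let m : P ⊗[A] Twist p A →ₐ[A] C ⊗[A] Twist p A :=
    Algebra.TensorProduct.map (IsScalarTower.toAlgHom A P C) (AlgHom.id A (Twist p A))
  letI alg1 : Algebra (P ⊗[A] Twist p A) (C ⊗[A] Twist p A) := m.toRingHom.toAlgebra
  haveI tow1 : IsScalarTower P (P ⊗[A] Twist p A) (C ⊗[A] Twist p A) :=
    IsScalarTower.of_algebraMap_eq (fun x => by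
      change _ = m (algebraMap P (P ⊗[A] Twist p A) x)
      rw [Algebra.TensorProduct.algebraMap_apply, Algebra.TensorProduct.algebraMap_apply]
      simp [m])
  have H : (algebraMap (P ⊗[A] Twist p A) (C ⊗[A] Twist p A)).comp
      (Algebra.TensorProduct.includeRight : Twist p A →ₐ[A] P ⊗[A] Twist p A).toRingHom =
      (Algebra.TensorProduct.includeRight : Twist p A →ₐ[A] C ⊗[A] Twist p A).toRingHom := by
    ext t
    change m ((1 : P) ⊗ₜ[A] t) = (1 : C) ⊗ₜ[A] t
    simp [m]
  haveI po : Algebra.IsPushout P C (P ⊗[A] Twist p A) (C ⊗[A] Twist p A) :=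
    Algebra.IsPushout.tensorProduct_tensorProduct A (Twist p A) P C H
  haveI po' : Algebra.IsPushout P (P ⊗[A] Twist p A) C (C ⊗[A] Twist p A) := po.symm
  let e : (P ⊗[A] Twist p A) ⊗[P] C ≃ₐ[P ⊗[A] Twist p A] C ⊗[A] Twist p A :=
    Algebra.IsPushout.equiv P (P ⊗[A] Twist p A) C (C ⊗[A] Twist p A)
  have et : Algebra.Etale (P ⊗[A] Twist p A) (C ⊗[A] Twist p A) := Algebra.Etale.of_equiv e
  exact et

theorem rank_relFrob_of_etale [Algebra.Etale P C] (hfin : (relFrob p A P).Finite)
    (hflat : (relFrob p A P).Flat) (Q : PrimeSpectrum (C ⊗[A] Twist p A)) :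
    (letI := (relFrob p A C).toAlgebra
     Module.rankAtStalk (R := C ⊗[A] Twist p A) C Q) =
      (letI := (relFrob p A P).toAlgebra
       Module.rankAtStalk (R := P ⊗[A] Twist p A) P (Q.comap (twistMap p A P C))) := by
  have hp : p.Prime := Fact.out
  refine rank_square p hp (twistMap p A P C) (relFrob p A P) (algebraMap P C) (relFrob p A C)
    (fun r => relFrob_twistMap p A P C r) (twistMap_etale p A P C)
    (RingHom.etale_algebraMap.mpr inferInstance) (inclB p A P) (inclB p A C)
    (fun x => relFrob_tmul_one p A P x) (fun s => relFrob_tmul_one_eq_pow p A C s)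
    (fun c => relFrob_tmul_one p A C c) (fun x => ?_) (CharP.cast_eq_zero P p) hfin hflat Q
  rw [inclB_apply, inclB_apply, twistMap_tmul]

end Concrete


section Final

open Groth.Agent.Lib.Helper24.RelFrobEtale
open scoped KaehlerDifferential

variable (p : ℕ) [Fact p.Prime] (A : Type u) [CommRing A] [CharP A p]
  (B : Type u) [CommRing B] [Algebra A B] [CharP B p]

/-- `Spec B → Spec B^(p)` is surjective: an explicit preimage. -/
theorem comap_relFrob_comap_inclB (q : PrimeSpectrum (B ⊗[A] Twist p A)) :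
    (q.comap (inclB p A B)).comap (relFrob p A B) = q := by
  have hp : p.Prime := Fact.out
  apply PrimeSpectrum.ext
  ext x
  simp only [PrimeSpectrum.comap_asIdeal, Ideal.mem_comap]
  rw [inclB_apply, relFrob_tmul_one_eq_pow]
  exact q.isPrime.pow_mem_iff_mem p hp.pos

omit [CharP A p] [Fact p.Prime] in
theorem kaehler_of_etale_mvPolynomial (n : ℕ) (C : Type u) [CommRing C] [Algebra A C]
    [Nontrivial A] [Nontrivial C]
    [Algebra (MvPolynomial (Fin n) A) C] [IsScalarTower A (MvPolynomial (Fin n) A) C]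
    [Algebra.Etale (MvPolynomial (Fin n) A) C] :
    Module.Free C (Ω[C⁄A]) ∧ Module.finrank C (Ω[C⁄A]) = n := by
  let e := KaehlerDifferential.tensorKaehlerEquivOfFormallyEtale A (MvPolynomial (Fin n) A) C
  let b := KaehlerDifferential.mvPolynomialBasis A (Fin n)
  haveI : Module.Free (MvPolynomial (Fin n) A) (Ω[MvPolynomial (Fin n) A⁄A]) :=
    Module.Free.of_basis b
  have h1 : Module.finrank (MvPolynomial (Fin n) A) (Ω[MvPolynomial (Fin n) A⁄A]) = n := by
    rw [Module.finrank_eq_card_basis b, Fintype.card_fin]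
  refine ⟨Module.Free.of_equiv e, ?_⟩
  rw [← e.finrank_eq, Module.finrank_baseChange, h1]

theorem rank_relFrob_of_smooth [Algebra.Smooth A B] (r : ℕ)
    (hr : ∀ q : PrimeSpectrum B, Module.rankAtStalk (R := B) (Ω[B⁄A]) q = r)
    (q : PrimeSpectrum (B ⊗[A] Twist p A)) :
    letI := (relFrob p A B).toAlgebra
    Module.rankAtStalk (R := B ⊗[A] Twist p A) B q = p ^ r := by
  classical
  have hp : p.Prime := Fact.out
  haveI : Nontrivial A := CharP.nontrivial_of_char_ne_one (R := A) hp.ne_one
  obtain ⟨s, hsp, hs⟩ := Algebra.Smooth.exists_span_eq_top_isStandardSmooth A B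
  have hqq' : (q.comap (inclB p A B)).comap (relFrob p A B) = q :=
    comap_relFrob_comap_inclB p A B q
  generalize q.comap (inclB p A B) = q' at hqq'
  obtain ⟨g, hgs, hgq⟩ : ∃ g ∈ s, g ∉ q'.asIdeal := by
    by_contra hcon
    push_neg at hcon
    have h1 : Ideal.span s ≤ q'.asIdeal := Ideal.span_le.mpr hcon
    rw [hsp] at h1
    exact q'.isPrime.ne_top (top_le_iff.mp h1)
  haveI : Algebra.IsStandardSmooth A (Localization.Away g) := hs g hgs
  obtain ⟨Q', hQ'⟩ : ∃ Q' : PrimeSpectrum (Localization.Away g),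
      Q'.comap (algebraMap B (Localization.Away g)) = q' := by
    have h1 : q' ∈ Set.range (PrimeSpectrum.comap (algebraMap B (Localization.Away g))) := by
      rw [PrimeSpectrum.localization_away_comap_range (Localization.Away g) g]
      exact (PrimeSpectrum.mem_basicOpen g q').mpr hgq
    exact h1
  haveI : Nontrivial (Localization.Away g) := Q'.nontrivial
  haveI : CharP (Localization.Away g) p := charP_of_algebra_nontrivial p A _
  obtain ⟨n, γ, hγ, hγe⟩ := RingHom.IsStandardSmooth.exists_etale_mvPolynomial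
    (RingHom.isStandardSmooth_algebraMap.mpr
      (inferInstance : Algebra.IsStandardSmooth A (Localization.Away g)))
  letI : Algebra (MvPolynomial (Fin n) A) (Localization.Away g) := γ.toAlgebra
  haveI : IsScalarTower A (MvPolynomial (Fin n) A) (Localization.Away g) :=
    IsScalarTower.of_algebraMap_eq (fun a => by rw [← hγ]; rfl)
  haveI : Algebra.Etale (MvPolynomial (Fin n) A) (Localization.Away g) := hγe
  -- `n = r`
  have hnr : n = r := by
    obtain ⟨hfree, hrank⟩ := kaehler_of_etale_mvPolynomial A n (Localization.Away g)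
    haveI := hfree
    have h1 := Module.rankAtStalk_isBaseChange
      (KaehlerDifferential.isBaseChange_of_formallyEtale A B (Localization.Away g)) Q'
    rw [hQ', hr q'] at h1
    have h2 := congrFun (Module.rankAtStalk_eq_finrank_of_free
      (R := Localization.Away g) (M := Ω[Localization.Away g⁄A])) Q'
    rw [h1, hrank] at h2
    simpa using h2.symm
  subst hnr
  have h1 := rank_relFrob_of_etale p A B (Localization.Away g) (relFrob_finite p A B)
    (flat_relFrob_of_smooth p A B) (Q'.comap (relFrob p A (Localization.Away g)))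
  obtain ⟨hfree, hfin, hrank⟩ := relFrob_mvPolynomial_isFreeOfRank p A (Fin n)
  have h2 := rank_relFrob_of_etale p A (MvPolynomial (Fin n) A) (Localization.Away g) hfin
    (relFrob_mvPolynomial_flat p A (Fin n)) (Q'.comap (relFrob p A (Localization.Away g)))
  have hQq : (Q'.comap (relFrob p A (Localization.Away g))).comap
      (twistMap p A B (Localization.Away g)) = q := by
    rw [← hqq', ← hQ']
    apply PrimeSpectrum.ext
    ext x
    simp only [PrimeSpectrum.comap_asIdeal, Ideal.mem_comap, relFrob_twistMap]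
  rw [hQq] at h1
  rw [← h1, h2]
  letI := (relFrob p A (MvPolynomial (Fin n) A)).toAlgebra
  haveI := hfree
  haveI := hfin
  have h3 := congrFun (Module.rankAtStalk_eq_finrank_of_free
    (R := MvPolynomial (Fin n) A ⊗[A] Twist p A) (M := MvPolynomial (Fin n) A))
    ((Q'.comap (relFrob p A (Localization.Away g))).comap
      (twistMap p A (MvPolynomial (Fin n) A) (Localization.Away g)))
  rw [h3, hrank]
  simp

end Final

end Groth.Agent.Lib.Helper24.RelFrobRank
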