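import Groth.Agent.Lib.Helper24.RootTower
import Groth.Agent.Lib.Helper24.RelFrobRank

/-!
# The Frobenius of an algebra étale over a polynomial ring over a perfect field is a root tower;
the Frobenius of a smooth algebra over a perfect field is faithfully flat.
-/

set_option autoImplicit false
set_option maxHeartbeats 400000
set_option linter.unusedSimpArgs false
universe u
open FrobAlg TensorProduct

namespace Groth.Agent.Lib.Helper24.FrobRootTower

open Groth.Agent.Lib.Helper24.RootTower Groth.Agent.Lib.Helper24.RelFrobSmooth
open Quiet

section Poly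

open MvPolynomial

variable {R : Type u} [CommRing R] {σ : Type} [DecidableEq σ] (p : ℕ)

theorem Φ_single_factor (i : σ) :
    ∃ e : RootRing p (MvPolynomial σ R) (X i) →+* MvPolynomial σ R, Function.Bijective e ∧
      (Φ (R := R) p {i}).toRingHom = e.comp (algebraMap _ _) := by
  let f : Polynomial (MvPolynomial σ R) := Polynomial.X ^ p - Polynomial.C (X i)
  let φ : MvPolynomial σ R →+* MvPolynomial σ R := (Φ (R := R) p {i}).toRingHom
  have hφX : ∀ j, φ (X j) = if j = i then (X j : MvPolynomial σ R) ^ p else X j := by
    intro j
    change Φ (R := R) p {i} (X j) = _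
    rw [Φ_X]
    simp
  have hφC : ∀ r, φ (C r) = C r := fun r => Φ_C p {i} r
  have hroot : f.eval₂ φ (X i) = 0 := by
    simp [f, hφX]
  let e : AdjoinRoot f →+* MvPolynomial σ R := AdjoinRoot.lift φ (X i) hroot
  let g : MvPolynomial σ R →ₐ[R] AdjoinRoot f :=
    aeval (fun j => if j = i then AdjoinRoot.root f else AdjoinRoot.of f (X j))
  have hgX : ∀ j, g (X j) = if j = i then AdjoinRoot.root f else AdjoinRoot.of f (X j) := by
    intro j; simp [g]
  have hrootp : (AdjoinRoot.root f) ^ p = AdjoinRoot.of f (X i) := by
    have h := AdjoinRoot.eval₂_root f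
    simp only [f, Polynomial.eval₂_sub, Polynomial.eval₂_pow, Polynomial.eval₂_X,
      Polynomial.eval₂_C] at h
    exact sub_eq_zero.mp h
  have hgφ : g.toRingHom.comp φ = AdjoinRoot.of f := by
    apply MvPolynomial.ringHom_ext
    · intro r
      rw [RingHom.comp_apply, hφC]
      change g (C r) = _
      rw [← MvPolynomial.algebraMap_eq, AlgHom.commutes]
      rfl
    · intro j
      rw [RingHom.comp_apply, hφX]
      by_cases hj : j = i
      · subst hj
        rw [if_pos rfl]
        change g (X j ^ p) = _
        rw [map_pow, hgX, if_pos rfl, hrootp]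
      · rw [if_neg hj]
        change g (X j) = _
        rw [hgX, if_neg hj]
  have h1 : ∀ x : MvPolynomial σ R, e (g x) = x := by
    intro x
    have : e.comp g.toRingHom = RingHom.id (MvPolynomial σ R) := by
      apply MvPolynomial.ringHom_ext
      · intro r
        rw [RingHom.comp_apply, RingHom.id_apply]
        change e (g (C r)) = _
        rw [← MvPolynomial.algebraMap_eq, AlgHom.commutes]
        change e (AdjoinRoot.of f (C r)) = _
        rw [AdjoinRoot.lift_of, hφC]
        rfl
      · intro j
        rw [RingHom.comp_apply, RingHom.id_apply]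
        change e (g (X j)) = _
        rw [hgX]
        by_cases hj : j = i
        · subst hj
          rw [if_pos rfl, AdjoinRoot.lift_root]
        · rw [if_neg hj, AdjoinRoot.lift_of, hφX, if_neg hj]
    exact RingHom.congr_fun this x
  have h2 : ∀ y : AdjoinRoot f, g (e y) = y := by
    intro y
    obtain ⟨q, rfl⟩ := AdjoinRoot.mk_surjective y
    have : (g.toRingHom.comp e).comp (AdjoinRoot.mk f) = AdjoinRoot.mk f := by
      apply Polynomial.ringHom_ext
      · intro s
        rw [RingHom.comp_apply, RingHom.comp_apply, AdjoinRoot.mk_C, AdjoinRoot.lift_of]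
        exact RingHom.congr_fun hgφ s
      · rw [RingHom.comp_apply, RingHom.comp_apply, AdjoinRoot.mk_X, AdjoinRoot.lift_root]
        change g (X i) = _
        rw [hgX, if_pos rfl]
    exact RingHom.congr_fun this q
  have hbij : Function.Bijective e :=
    Function.bijective_iff_has_inverse.mpr ⟨g, h2, h1⟩
  have hcomp : φ = e.comp (algebraMap (MvPolynomial σ R) (AdjoinRoot f)) := by
    apply RingHom.ext
    intro s
    rw [RingHom.comp_apply, AdjoinRoot.algebraMap_eq, AdjoinRoot.lift_of]
  exact ⟨e, hbij, hcomp⟩

theorem rt_Φ (s : Finset σ) :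
    RT p s.card (MvPolynomial σ R) (MvPolynomial σ R) (Φ (R := R) p s).toRingHom := by
  induction s using Finset.induction_on with
  | empty =>
    rw [Φ_empty, Finset.card_empty]
    exact Function.bijective_id
  | insert i s hi ih =>
    rw [Φ_insert p s i hi, Finset.card_insert_of_notMem hi]
    obtain ⟨e, he, hfac⟩ := Φ_single_factor (R := R) p i
    have h1 : RT p 1 (MvPolynomial σ R) (MvPolynomial σ R) (Φ (R := R) p {i}).toRingHom := by
      rw [hfac]
      exact rt_of_factor p (X i) e he
    exact rt_comp p s.card 1 _ _ _ _ _ ih h1

end Poly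

section Perfect

open MvPolynomial

variable (p : ℕ) [Fact p.Prime] (k : Type u) [CommRing k] [CharP k p] [PerfectRing k p]
  (σ : Type) [Fintype σ] [DecidableEq σ]

theorem rt_frobenius_mvPolynomial :
    RT p (Fintype.card σ) (MvPolynomial σ k) (MvPolynomial σ k)
      (frobenius (MvPolynomial σ k) p) := by
  have hfac : frobenius (MvPolynomial σ k) p =
      (Φ (R := k) (σ := σ) p Finset.univ).toRingHom.comp (MvPolynomial.map (frobenius k p)) := by
    apply RingHom.ext
    intro x
    rw [RingHom.comp_apply, frobenius_def]
    exact (Φ_univ_map_frobenius p k σ x).symm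
  have hbij : Function.Bijective (MvPolynomial.map (σ := σ) (frobenius k p)) :=
    ⟨MvPolynomial.map_injective _ (bijective_frobenius k p).1,
      MvPolynomial.map_surjective _ (bijective_frobenius k p).2⟩
  have h0 : RT p 0 (MvPolynomial σ k) (MvPolynomial σ k) (MvPolynomial.map (frobenius k p)) := hbij
  have h1 := rt_comp p 0 (Finset.univ : Finset σ).card _ _ _ _ _ h0 (rt_Φ (R := k) p Finset.univ)
  rw [Nat.zero_add, Finset.card_univ] at h1
  rw [hfac]
  exact h1

end Perfect

section Etale

variable (p : ℕ) [Fact p.Prime] (P S : Type u) [CommRing P] [CommRing S] [CharP P p] [CharP S p]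
  [Algebra P S] [Algebra.Etale P S]

theorem po_frobenius_of_etale :
    IsPO (frobenius P p) (algebraMap P S) (algebraMap P S) (frobenius S p) := by
  refine ⟨?_, ?_⟩
  · apply RingHom.ext
    intro x
    simp only [RingHom.comp_apply, frobenius_def, map_pow]
  · intro E _ α β hαβ
    have hbij := RelFrobEtale.bijective_of_etale p P S
    let ρ := RingEquiv.ofBijective (relFrob p P S) hbij
    letI : Algebra P E := (α.comp (algebraMap P S)).toAlgebra
    let α' : S →ₐ[P] E := { α with commutes' := fun x => rfl }
    let β' : Twist p P →ₐ[P] E :=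
      { toRingHom := β.comp ((toTwist p P).symm : Twist p P →+* P)
        commutes' := fun x => by
          change β ((toTwist p P).symm (algebraMap P (Twist p P) x)) = α (algebraMap P S x)
          rw [algebraMap_twist, RingEquiv.symm_apply_apply]
          have := RingHom.congr_fun hαβ x
          simp only [RingHom.comp_apply, frobenius_def] at this
          exact this.symm }
    let lam : S ⊗[P] Twist p P →+* E :=
      (Algebra.TensorProduct.lift α' β' (fun _ _ => Commute.all _ _)).toRingHom
    have hlam : ∀ (c : S) (t : Twist p P),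
        lam (c ⊗ₜ[P] t) = α c * β ((toTwist p P).symm t) := fun c t => by
      change Algebra.TensorProduct.lift α' β' _ (c ⊗ₜ[P] t) = _
      rw [Algebra.TensorProduct.lift_tmul]
      rfl
    let δ : S →+* E := lam.comp (ρ.symm : S →+* S ⊗[P] Twist p P)
    have hδρ : ∀ w, δ (relFrob p P S w) = lam w := fun w => by
      change lam (ρ.symm (ρ w)) = lam w
      rw [RingEquiv.symm_apply_apply]
    refine ⟨δ, ⟨?_, ?_⟩, ?_⟩
    · apply RingHom.ext
      intro c
      rw [RingHom.comp_apply, frobenius_def, ← RelFrobEtale.relFrob_tmul_one p P S c, hδρ, hlam,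
        map_one, map_one, mul_one]
    · apply RingHom.ext
      intro x
      have hx : algebraMap P S x = relFrob p P S ((1 : S) ⊗ₜ[P] toTwist p P x) := by
        rw [RelFrobSmooth.relFrob_tmul, one_pow, one_mul, RingEquiv.symm_apply_apply]
      rw [RingHom.comp_apply, hx, hδρ, hlam, map_one, one_mul, RingEquiv.symm_apply_apply]
    · rintro δ' ⟨h1, h2⟩
      have hcomp : δ'.comp (relFrob p P S) = δ.comp (relFrob p P S) := by
        apply RingHom.ext
        intro w
        induction w using TensorProduct.induction_on with
        | zero => simp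
        | tmul c t =>
          simp only [RingHom.comp_apply]
          rw [hδρ, hlam, RelFrobSmooth.relFrob_tmul, map_mul]
          have e1 := RingHom.congr_fun h1 c
          have e2 := RingHom.congr_fun h2 ((toTwist p P).symm t)
          simp only [RingHom.comp_apply, frobenius_def] at e1 e2
          rw [e1, e2]
        | add x y hx hy => simp only [map_add, hx, hy]
      apply RingHom.ext
      intro c
      obtain ⟨w, rfl⟩ := hbij.2 c
      exact RingHom.congr_fun hcomp w

end Etale

section Main

variable (p : ℕ) [Fact p.Prime] (k : Type u) [CommRing k] [CharP k p] [PerfectRing k p]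

/-- The Frobenius of an algebra étale over a polynomial ring over a perfect ring is a root tower. -/
theorem rt_frobenius_of_etale (n : ℕ) (S : Type u) [CommRing S] [CharP S p]
    [Algebra (MvPolynomial (Fin n) k) S] [Algebra.Etale (MvPolynomial (Fin n) k) S] :
    RT p n S S (frobenius S p) := by
  classical
  have h1 := rt_frobenius_mvPolynomial p k (Fin n)
  rw [Fintype.card_fin] at h1
  exact rt_of_po p n _ _ _ _ _ _ _ _ h1 (po_frobenius_of_etale p (MvPolynomial (Fin n) k) S)

end Main

end Groth.Agent.Lib.Helper24.FrobRootTower
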