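import Mathlib
import Groth.Agent.Lib.Helper9.GeomLib

/-!
# Characters of `GL_n` over a connected base

Natural endomorphisms of `G_m` over a connected ring are power maps; natural additive maps
into `G_m` invariant under scaling are trivial.
-/

set_option autoImplicit false
universe u

namespace Groth.Agent.Lib.Helper24.GLChar

open AddMonoidAlgebra

section GmEnd

variable (R : Type u) [CommRing R]

/-- The universal unit `T` in the Laurent polynomial ring `R[ℤ]`, as a hom from `ℤ`. -/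
noncomputable def Tpow : Multiplicative ℤ →* (AddMonoidAlgebra R ℤ)ˣ :=
  (AddMonoidAlgebra.of R ℤ).toHomUnits

/-- The universal unit `T`. -/
noncomputable def Tu : (AddMonoidAlgebra R ℤ)ˣ := Tpow R (Multiplicative.ofAdd 1)

lemma Tu_val : ((Tu R : (AddMonoidAlgebra R ℤ)ˣ) : AddMonoidAlgebra R ℤ) = single (1:ℤ) (1:R) := rfl

lemma Tu_zpow (j : ℤ) :
    (((Tu R) ^ j : (AddMonoidAlgebra R ℤ)ˣ) : AddMonoidAlgebra R ℤ) = single j (1:R) := by
  have : (Tu R) ^ j = Tpow R (Multiplicative.ofAdd j) := by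
    rw [Tu, ← map_zpow, ← ofAdd_zsmul]; simp
  rw [this]; rfl

variable {R}

/-- evaluation of Laurent polynomials at a unit -/
noncomputable def evUnit {B : Type u} [CommRing B] [Algebra R B] (b : Bˣ) :
    AddMonoidAlgebra R ℤ →ₐ[R] B :=
  AddMonoidAlgebra.lift R B ℤ ((Units.coeHom B).comp (zpowersHom Bˣ b))

lemma evUnit_single {B : Type u} [CommRing B] [Algebra R B] (b : Bˣ) (k : ℤ) (r : R) :
    evUnit b (single k r) = r • ((b ^ k : Bˣ) : B) := by
  simp [evUnit, -LaurentPolynomial.single_eq_C_mul_T]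

lemma map_evUnit_Tu {B : Type u} [CommRing B] [Algebra R B] (b : Bˣ) :
    Units.map ((evUnit (R := R) b).toRingHom : AddMonoidAlgebra R ℤ →* B) (Tu R) = b := by
  ext
  simp [Tu_val, evUnit_single, -LaurentPolynomial.single_eq_C_mul_T]

lemma coeff_inl_mul_inr (x y : AddMonoidAlgebra R ℤ) (k l : ℤ) :
    ((mapDomainAlgHom R R (AddMonoidHom.inl ℤ ℤ) x) *
      (mapDomainAlgHom R R (AddMonoidHom.inr ℤ ℤ) y)).coeff (k, l) = x.coeff k * y.coeff l := by
  induction x using AddMonoidAlgebra.induction_linear with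
  | zero => simp
  | add x₁ x₂ h₁ h₂ => simp only [map_add, add_mul, coeff_add, Finsupp.add_apply, h₁, h₂]
  | single a r =>
    induction y using AddMonoidAlgebra.induction_linear with
    | zero => simp
    | add y₁ y₂ h₁ h₂ => simp only [map_add, mul_add, coeff_add, Finsupp.add_apply, h₁, h₂]
    | single b s =>
      simp [mapDomain_single, single_mul_single, Finsupp.single_apply,
        -LaurentPolynomial.single_eq_C_mul_T]
      split_ifs <;> simp_all

lemma coeff_diag (x : AddMonoidAlgebra R ℤ) (k l : ℤ) :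
    (mapDomainAlgHom R R ((AddMonoidHom.id ℤ).prod (AddMonoidHom.id ℤ)) x).coeff (k, l) =
      if k = l then x.coeff k else 0 := by
  induction x using AddMonoidAlgebra.induction_linear with
  | zero => simp
  | add x₁ x₂ h₁ h₂ =>
    simp only [map_add, coeff_add, Finsupp.add_apply, h₁, h₂]
    split_ifs <;> simp
  | single a r =>
    simp [mapDomain_single, Finsupp.single_apply, -LaurentPolynomial.single_eq_C_mul_T]
    by_cases h1 : a = k
    · subst h1; by_cases h2 : a = l <;> simp [h2]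
    · simp [h1]

/-- Natural endomorphisms of `G_m` over a connected ring are power maps. -/
theorem natEnd_Gm (R : Type u) [CommRing R] [ConnectedSpace (PrimeSpectrum R)]
    (ψ : ∀ (B : Type u) [CommRing B] [Algebra R B], Bˣ →* Bˣ)
    (hψ : ∀ (B C : Type u) [CommRing B] [Algebra R B] [CommRing C] [Algebra R C] (φ : B →ₐ[R] C)
      (b : Bˣ), ψ C (Units.map (φ.toRingHom : B →* C) b) = Units.map (φ.toRingHom : B →* C) (ψ B b)) :
    ∃ a : ℤ, ∀ (B : Type u) [CommRing B] [Algebra R B] (b : Bˣ), ψ B b = b ^ a := by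
  obtain ⟨hnt, hidem⟩ := (Groth.Agent.Lib.Helper9.GeomLib.connectedSpace_iff R).mp inferInstance
  haveI := hnt
  set v : (AddMonoidAlgebra R ℤ)ˣ := ψ (AddMonoidAlgebra R ℤ) (Tu R) with hv
  have hT : Units.map ((mapDomainAlgHom R R ((AddMonoidHom.id ℤ).prod (AddMonoidHom.id ℤ))).toRingHom :
        AddMonoidAlgebra R ℤ →* AddMonoidAlgebra R (ℤ × ℤ)) (Tu R) =
      Units.map ((mapDomainAlgHom R R (AddMonoidHom.inl ℤ ℤ)).toRingHom :
        AddMonoidAlgebra R ℤ →* AddMonoidAlgebra R (ℤ × ℤ)) (Tu R) *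
      Units.map ((mapDomainAlgHom R R (AddMonoidHom.inr ℤ ℤ)).toRingHom :
        AddMonoidAlgebra R ℤ →* AddMonoidAlgebra R (ℤ × ℤ)) (Tu R) := by
    ext : 1
    simp [Tu_val, mapDomain_single, single_mul_single, -LaurentPolynomial.single_eq_C_mul_T]
  have hv2 : mapDomainAlgHom R R ((AddMonoidHom.id ℤ).prod (AddMonoidHom.id ℤ)) (v : AddMonoidAlgebra R ℤ) =
      mapDomainAlgHom R R (AddMonoidHom.inl ℤ ℤ) (v : AddMonoidAlgebra R ℤ) *
        mapDomainAlgHom R R (AddMonoidHom.inr ℤ ℤ) (v : AddMonoidAlgebra R ℤ) := by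
    have := congrArg (ψ (AddMonoidAlgebra R (ℤ × ℤ))) hT
    rw [map_mul, hψ, hψ, hψ] at this
    exact congrArg Units.val this
  have hc : ∀ k l : ℤ, (v : AddMonoidAlgebra R ℤ).coeff k * (v : AddMonoidAlgebra R ℤ).coeff l =
      if k = l then (v : AddMonoidAlgebra R ℤ).coeff k else 0 := by
    intro k l
    rw [← coeff_inl_mul_inr, ← coeff_diag, hv2]
  have hv0 : (v : AddMonoidAlgebra R ℤ) ≠ 0 := v.ne_zero
  obtain ⟨a, ha⟩ : ∃ a, (v : AddMonoidAlgebra R ℤ).coeff a ≠ 0 := by
    by_contra hcon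
    push_neg at hcon
    apply hv0
    ext k
    simpa using hcon k
  have ha1 : (v : AddMonoidAlgebra R ℤ).coeff a = 1 := by
    have : IsIdempotentElem ((v : AddMonoidAlgebra R ℤ).coeff a) := by
      have := hc a a
      rwa [if_pos rfl] at this
    rcases hidem _ this with h | h
    · exact absurd h ha
    · exact h
  have hk : ∀ k, k ≠ a → (v : AddMonoidAlgebra R ℤ).coeff k = 0 := by
    intro k hka
    have := hc k a
    rwa [if_neg hka, ha1, mul_one] at this
  have hvs : (v : AddMonoidAlgebra R ℤ) = single a 1 := by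
    ext k
    rw [coeff_single, Finsupp.single_apply]
    by_cases hka : a = k
    · subst hka; rw [if_pos rfl, ha1]
    · rw [if_neg hka, hk k (Ne.symm hka)]
  refine ⟨a, fun B _ _ b => ?_⟩
  have := hψ (AddMonoidAlgebra R ℤ) B (evUnit b) (Tu R)
  rw [map_evUnit_Tu] at this
  rw [this]
  ext
  rw [Units.coe_map]
  show (evUnit b) (v : AddMonoidAlgebra R ℤ) = _
  rw [hvs, evUnit_single, one_smul]

end GmEnd

section AddNat

variable {R : Type u} [CommRing R]

lemma coeff_castProd (B : Type u) [CommRing B] [Algebra R B] (x : AddMonoidAlgebra B ℕ) (k : ℕ) :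
    (mapDomainAlgHom R B ((Nat.castAddMonoidHom ℤ).prod (AddMonoidHom.id ℕ)) x).coeff ((k:ℤ), k) =
      x.coeff k := by
  induction x using AddMonoidAlgebra.induction_linear with
  | zero => simp
  | add x₁ x₂ h₁ h₂ => simp only [map_add, coeff_add, Finsupp.add_apply, h₁, h₂]
  | single a r =>
    simp [mapDomain_single, Finsupp.single_apply]

lemma coeff_inrNat (B : Type u) [CommRing B] [Algebra R B] (x : AddMonoidAlgebra B ℕ) (k : ℕ)
    (hk : k ≠ 0) :
    (mapDomainAlgHom R B (AddMonoidHom.inr ℤ ℕ) x).coeff ((k:ℤ), k) = 0 := by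
  induction x using AddMonoidAlgebra.induction_linear with
  | zero => simp
  | add x₁ x₂ h₁ h₂ => simp only [map_add, coeff_add, Finsupp.add_apply, h₁, h₂, add_zero]
  | single a r =>
    simp [mapDomain_single, Finsupp.single_apply]
    intro h
    omega

/-- the unit `t = single (1,0) 1` of `B[ℤ × ℕ]` -/
noncomputable def tUnit (B : Type u) [CommRing B] : (AddMonoidAlgebra B (ℤ × ℕ))ˣ :=
  ⟨single (1,0) 1, single (-1,0) 1, by rw [single_mul_single, one_def]; simp; rfl,
    by rw [single_mul_single, one_def]; simp; rfl⟩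

/-- A natural additive-to-multiplicative map on matrices which is invariant under scaling by
units is trivial. -/
theorem addNat_trivial (m n : Type)
    (θ : ∀ (B : Type u) [CommRing B] [Algebra R B], Matrix m n B → Bˣ)
    (hadd : ∀ (B : Type u) [CommRing B] [Algebra R B] (X Y : Matrix m n B),
      θ B (X + Y) = θ B X * θ B Y)
    (hnat : ∀ (B C : Type u) [CommRing B] [Algebra R B] [CommRing C] [Algebra R C] (φ : B →ₐ[R] C)
      (X : Matrix m n B), θ C (X.map φ) = Units.map (φ.toRingHom : B →* C) (θ B X))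
    (hscale : ∀ (B : Type u) [CommRing B] [Algebra R B] (t : Bˣ) (X : Matrix m n B),
      θ B ((t : B) • X) = θ B X)
    (B : Type u) [CommRing B] [Algebra R B] (X : Matrix m n B) : θ B X = 1 := by
  have h0 : θ B 0 = 1 := by
    have h := hadd B 0 0
    rw [add_zero] at h
    have : θ B 0 * θ B 0 = θ B 0 * 1 := by rw [mul_one]; exact h.symm
    exact mul_left_cancel this
  let ιP : B →ₐ[R] AddMonoidAlgebra B ℕ := singleZeroAlgHom
  have hι : ∀ c : B, ιP c = single 0 c := fun c => rfl
  let Y : Matrix m n (AddMonoidAlgebra B ℕ) := (single 1 1 : AddMonoidAlgebra B ℕ) • X.map ιP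
  have hY : ∀ i j, Y i j = single 1 (X i j) := by
    intro i j
    simp [Y, hι, single_mul_single]
  set w : (AddMonoidAlgebra B ℕ)ˣ := θ (AddMonoidAlgebra B ℕ) Y with hw
  let ev : B → (AddMonoidAlgebra B ℕ →ₐ[R] B) := fun b =>
    (AddMonoidAlgebra.lift B B ℕ (powersHom B b)).restrictScalars R
  have hev_single : ∀ (b : B) (k : ℕ) (c : B), ev b (single k c) = c * b ^ k := by
    intro b k c
    show (AddMonoidAlgebra.lift B B ℕ (powersHom B b)) (single k c) = _
    rw [lift_single, powersHom_apply, toAdd_ofAdd, smul_eq_mul]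
  have hev : ∀ b, Y.map (ev b) = b • X := by
    intro b
    ext i j
    rw [Matrix.map_apply, hY, hev_single, pow_one, Matrix.smul_apply, smul_eq_mul, mul_comm]
  have hθ : ∀ b, θ B (b • X) =
      Units.map ((ev b).toRingHom : AddMonoidAlgebra B ℕ →* B) w := by
    intro b
    rw [← hev b, hnat]
  let j₀ : AddMonoidAlgebra B ℕ →ₐ[R] AddMonoidAlgebra B (ℤ × ℕ) :=
    mapDomainAlgHom R B (AddMonoidHom.inr ℤ ℕ)
  let j₁ : AddMonoidAlgebra B ℕ →ₐ[R] AddMonoidAlgebra B (ℤ × ℕ) :=
    mapDomainAlgHom R B ((Nat.castAddMonoidHom ℤ).prod (AddMonoidHom.id ℕ))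
  have hj : Y.map j₁ = ((tUnit B : (AddMonoidAlgebra B (ℤ × ℕ))ˣ) : AddMonoidAlgebra B (ℤ × ℕ)) •
      Y.map j₀ := by
    refine Matrix.ext fun i j => ?_
    rw [Matrix.map_apply, Matrix.smul_apply, Matrix.map_apply, hY, smul_eq_mul]
    show mapDomain _ (single _ _) = single (1,0) 1 * mapDomain _ (single _ _)
    rw [mapDomain_single, mapDomain_single, single_mul_single]
    simp
  have hw2 : j₁ (w : AddMonoidAlgebra B ℕ) = j₀ (w : AddMonoidAlgebra B ℕ) := by
    have h1 := hnat _ _ j₁ Y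
    have h2 := hnat _ _ j₀ Y
    rw [hj, hscale, h2] at h1
    exact (congrArg Units.val h1).symm
  have hck : ∀ k : ℕ, k ≠ 0 → (w : AddMonoidAlgebra B ℕ).coeff k = 0 := by
    intro k hk
    rw [← coeff_castProd (R := R) B (w : AddMonoidAlgebra B ℕ) k]
    show (j₁ (w : AddMonoidAlgebra B ℕ)).coeff _ = 0
    rw [hw2]
    exact coeff_inrNat B _ k hk
  have hws : (w : AddMonoidAlgebra B ℕ) = single 0 ((w : AddMonoidAlgebra B ℕ).coeff 0) := by
    ext k
    rw [coeff_single, Finsupp.single_apply]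
    by_cases hk : 0 = k
    · subst hk; rw [if_pos rfl]
    · rw [if_neg hk, hck k (Ne.symm hk)]
  have hconst : ∀ b, ((Units.map ((ev b).toRingHom : AddMonoidAlgebra B ℕ →* B) w : Bˣ) : B) =
      (w : AddMonoidAlgebra B ℕ).coeff 0 := by
    intro b
    rw [Units.coe_map]
    show ev b (w : AddMonoidAlgebra B ℕ) = _
    rw [hws, hev_single, pow_zero, mul_one, coeff_single, Finsupp.single_eq_same]
  have h1 := hθ 1
  have h2 := hθ 0
  rw [one_smul] at h1
  rw [zero_smul, h0] at h2
  rw [h1]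
  ext
  rw [hconst 1, ← hconst 0, ← h2]

end AddNat

end Groth.Agent.Lib.Helper24.GLChar
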