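import Groth.Agent.Lib.Helper24.GLChar

/-!
# Characters of `GL_n`: block matrices and the inductive step
-/

set_option autoImplicit false
universe u

namespace Groth.Agent.Lib.Helper24.GLChar

open Matrix

section Blocks

variable {ι : Type} [Fintype ι] [DecidableEq ι] {B : Type u} [CommRing B]

/-- block embedding of matrices -/
def embMat : Matrix ι ι B →* Matrix (ι ⊕ Unit) (ι ⊕ Unit) B where
  toFun A := fromBlocks A 0 0 1
  map_one' := fromBlocks_one
  map_mul' A A' := by simp [fromBlocks_multiply]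

/-- block embedding `GL ι → GL (ι ⊕ Unit)` -/
def emb : Matrix.GeneralLinearGroup ι B →* Matrix.GeneralLinearGroup (ι ⊕ Unit) B :=
  Units.map embMat

/-- the corner torus, matrix level -/
def corMat : B →* Matrix (ι ⊕ Unit) (ι ⊕ Unit) B where
  toFun d := fromBlocks 1 0 0 (d • (1 : Matrix Unit Unit B))
  map_one' := by rw [one_smul]; exact fromBlocks_one
  map_mul' d d' := by simp [fromBlocks_multiply, smul_smul, mul_comm]

/-- the corner torus -/
def cor : Bˣ →* Matrix.GeneralLinearGroup (ι ⊕ Unit) B := Units.map corMat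

/-- upper unipotent block matrices -/
def UU (X : Matrix ι Unit B) : Matrix.GeneralLinearGroup (ι ⊕ Unit) B :=
  ⟨fromBlocks 1 X 0 1, fromBlocks 1 (-X) 0 1,
    by simp [fromBlocks_multiply, fromBlocks_one], by simp [fromBlocks_multiply, fromBlocks_one]⟩

/-- lower unipotent block matrices -/
def LL (Y : Matrix Unit ι B) : Matrix.GeneralLinearGroup (ι ⊕ Unit) B :=
  ⟨fromBlocks 1 0 Y 1, fromBlocks 1 0 (-Y) 1,
    by simp [fromBlocks_multiply, fromBlocks_one], by simp [fromBlocks_multiply, fromBlocks_one]⟩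

lemma UU_add (X Y : Matrix ι Unit B) : UU (X + Y) = UU X * UU Y := by
  apply Units.ext
  show fromBlocks 1 (X + Y) 0 1 = fromBlocks 1 X 0 1 * fromBlocks 1 Y 0 1
  simp [fromBlocks_multiply, add_comm]

lemma LL_add (X Y : Matrix Unit ι B) : LL (X + Y) = LL X * LL Y := by
  apply Units.ext
  show fromBlocks 1 0 (X + Y) 1 = fromBlocks 1 0 X 1 * fromBlocks 1 0 Y 1
  simp [fromBlocks_multiply]

lemma UU_cor (X : Matrix ι Unit B) (t : Bˣ) : UU X * cor t = cor t * UU ((t : B) • X) := by
  apply Units.ext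
  show fromBlocks 1 X 0 1 * fromBlocks 1 0 0 ((t : B) • (1 : Matrix Unit Unit B)) =
    fromBlocks 1 0 0 ((t : B) • (1 : Matrix Unit Unit B)) * fromBlocks 1 ((t : B) • X) 0 1
  simp [fromBlocks_multiply]

lemma cor_LL (Y : Matrix Unit ι B) (t : Bˣ) : cor t * LL Y = LL ((t : B) • Y) * cor t := by
  apply Units.ext
  show fromBlocks 1 0 0 ((t : B) • (1 : Matrix Unit Unit B)) * fromBlocks 1 0 Y 1 =
    fromBlocks 1 0 ((t : B) • Y) 1 * fromBlocks 1 0 0 ((t : B) • (1 : Matrix Unit Unit B))
  simp [fromBlocks_multiply]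

variable {C : Type u} [CommRing C]

lemma map_UU (f : B →+* C) (X : Matrix ι Unit B) :
    Matrix.GeneralLinearGroup.map f (UU X) = UU (X.map f) := by
  apply Units.ext
  show (fromBlocks 1 X 0 1).map f = fromBlocks 1 (X.map f) 0 1
  simp [fromBlocks_map]

lemma map_LL (f : B →+* C) (Y : Matrix Unit ι B) :
    Matrix.GeneralLinearGroup.map f (LL Y) = LL (Y.map f) := by
  apply Units.ext
  show (fromBlocks 1 0 Y 1).map f = fromBlocks 1 0 (Y.map f) 1
  simp [fromBlocks_map]

lemma map_emb (f : B →+* C) (h : Matrix.GeneralLinearGroup ι B) :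
    Matrix.GeneralLinearGroup.map f (emb h) = emb (Matrix.GeneralLinearGroup.map f h) := by
  apply Units.ext
  show (fromBlocks h.val 0 0 1).map f = fromBlocks (h.val.map f) 0 0 1
  simp [fromBlocks_map]

lemma map_cor (f : B →+* C) (t : Bˣ) :
    Matrix.GeneralLinearGroup.map f (cor (ι := ι) t) = cor (Units.map (f : B →* C) t) := by
  apply Units.ext
  show (fromBlocks 1 0 0 ((t : B) • (1 : Matrix Unit Unit B))).map f =
    fromBlocks 1 0 0 ((f t) • (1 : Matrix Unit Unit C))
  rw [fromBlocks_map]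
  congr 1
  · simp
  · simp
  · simp
  · ext i j
    simp

lemma det_UU (X : Matrix ι Unit B) : Matrix.GeneralLinearGroup.det (UU X) = 1 := by
  ext
  rw [Matrix.GeneralLinearGroup.val_det_apply]
  show det (fromBlocks 1 X 0 1) = 1
  rw [det_fromBlocks_zero₂₁, det_one, det_one, one_mul]

lemma det_LL (Y : Matrix Unit ι B) : Matrix.GeneralLinearGroup.det (LL Y) = 1 := by
  ext
  rw [Matrix.GeneralLinearGroup.val_det_apply]
  show det (fromBlocks 1 0 Y 1) = 1
  rw [det_fromBlocks_zero₁₂, det_one, det_one, one_mul]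

lemma det_emb (h : Matrix.GeneralLinearGroup ι B) :
    Matrix.GeneralLinearGroup.det (emb h) = Matrix.GeneralLinearGroup.det h := by
  ext
  rw [Matrix.GeneralLinearGroup.val_det_apply, Matrix.GeneralLinearGroup.val_det_apply]
  show det (fromBlocks h.val 0 0 1) = _
  rw [det_fromBlocks_zero₂₁, det_one, mul_one]

lemma det_cor (t : Bˣ) : Matrix.GeneralLinearGroup.det (cor (ι := ι) t) = t := by
  ext
  rw [Matrix.GeneralLinearGroup.val_det_apply]
  show det (fromBlocks 1 0 0 ((t : B) • (1 : Matrix Unit Unit B))) = _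
  rw [det_fromBlocks_zero₂₁, det_one, one_mul, det_smul, det_one, mul_one, Fintype.card_unit, pow_one]

/-- Block decomposition of an invertible matrix with invertible corner. -/
lemma block_decomp (g : Matrix.GeneralLinearGroup (ι ⊕ Unit) B) (d : Bˣ)
    (hd : g.val (Sum.inr ()) (Sum.inr ()) = d) :
    ∃ (h : Matrix.GeneralLinearGroup ι B) (X : Matrix ι Unit B) (Y : Matrix Unit ι B),
      g = UU X * emb h * cor d * LL Y := by
  set M : Matrix (ι ⊕ Unit) (ι ⊕ Unit) B := g.val with hMdef
  set A := M.toBlocks₁₁ with hA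
  set Bk := M.toBlocks₁₂ with hBk
  set C := M.toBlocks₂₁ with hC
  have hD : M.toBlocks₂₂ = (d : B) • (1 : Matrix Unit Unit B) := by
    ext i j
    simp [toBlocks₂₂, ← hd]
  have hM : M = fromBlocks A Bk C ((d : B) • 1) := by
    rw [← hD]; exact (fromBlocks_toBlocks M).symm
  set dinv : B := ((d⁻¹ : Bˣ) : B) with hdinv
  have hdd : (d : B) * dinv = 1 := d.mul_inv
  set X := dinv • Bk with hX
  set Y := dinv • C with hY
  set A' := A - dinv • (Bk * C) with hA'
  have e1 : X * ((d : B) • (1 : Matrix Unit Unit B)) = Bk := by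
    simp only [hX, Matrix.mul_smul, Matrix.mul_one, smul_smul, hdd, one_smul]
  have e2 : ((d : B) • (1 : Matrix Unit Unit B)) * Y = C := by
    simp only [hY, Matrix.smul_mul, Matrix.one_mul, smul_smul, hdd, one_smul]
  have e3 : A' + Bk * Y = A := by
    simp only [hA', hY, Matrix.mul_smul]
    abel
  have hprod : fromBlocks 1 X 0 1 * fromBlocks A' 0 0 1 * fromBlocks 1 0 0 ((d : B) • 1) *
      fromBlocks 1 0 Y 1 = M := by
    rw [hM]
    simp only [fromBlocks_multiply, Matrix.one_mul, Matrix.mul_one, Matrix.mul_zero,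
      Matrix.zero_mul, add_zero, zero_add]
    rw [e1, e2, e3]
  have hdet : M.det = A'.det * d := by
    rw [← hprod]
    simp only [det_mul, det_fromBlocks_zero₂₁, det_fromBlocks_zero₁₂, det_one, det_smul,
      Fintype.card_unit, pow_one, mul_one, one_mul]
  have hAu : IsUnit A'.det := by
    have h1 : IsUnit (A'.det * d) := by
      rw [← hdet]; exact Matrix.isUnits_det_units g
    exact isUnit_of_mul_isUnit_left h1
  refine ⟨Matrix.GeneralLinearGroup.mk'' A' hAu, X, Y, ?_⟩
  apply Units.ext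
  exact hprod.symm

lemma det_of_isEmpty [IsEmpty ι] (g : Matrix.GeneralLinearGroup (ι ⊕ Unit) B) :
    g.val.det = g.val (Sum.inr ()) (Sum.inr ()) := by
  have h := fromBlocks_toBlocks g.val
  rw [Subsingleton.elim (toBlocks₂₁ g.val) 0] at h
  conv_lhs => rw [← h]
  rw [det_fromBlocks_zero₂₁, det_isEmpty, one_mul, det_unique]
  rfl

end Blocks

end Groth.Agent.Lib.Helper24.GLChar
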