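import Groth.Agent.Lib.Helper24.GLChar2

/-!
# Characters of `GL_n`: the inductive step and the main theorem
-/

set_option autoImplicit false
universe u

namespace Groth.Agent.Lib.Helper24.GLChar

open Matrix

section Step

variable {R : Type u} [CommRing R] {ι : Type} [Fintype ι] [DecidableEq ι]
  (χ : ∀ (B : Type u) [CommRing B] [Algebra R B], Matrix.GeneralLinearGroup (ι ⊕ Unit) B →* Bˣ)
  (m a : ℤ)
  (hemb : ∀ (B : Type u) [CommRing B] [Algebra R B] (h : Matrix.GeneralLinearGroup ι B),
    χ B (emb h) = Matrix.GeneralLinearGroup.det h ^ m)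
  (hcor : ∀ (B : Type u) [CommRing B] [Algebra R B] (d : Bˣ), χ B (cor d) = d ^ a)
  (hU : ∀ (B : Type u) [CommRing B] [Algebra R B] (X : Matrix ι Unit B), χ B (UU X) = 1)
  (hL : ∀ (B : Type u) [CommRing B] [Algebra R B] (Y : Matrix Unit ι B), χ B (LL Y) = 1)

include hemb hcor hU hL

theorem decomp (B : Type u) [CommRing B] [Algebra R B]
    (g : Matrix.GeneralLinearGroup (ι ⊕ Unit) B) (d : Bˣ)
    (hd : g.val (Sum.inr ()) (Sum.inr ()) = d) :
    χ B g = Matrix.GeneralLinearGroup.det g ^ m * d ^ (a - m) := by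
  obtain ⟨h, X, Y, rfl⟩ := block_decomp g d hd
  simp only [map_mul, hU, hL, hemb, hcor, det_UU, det_LL, det_emb, det_cor, one_mul, mul_one]
  rw [mul_zpow, mul_assoc, ← _root_.zpow_add, add_sub_cancel]

theorem pow_sub_eq_one (i₀ : ι) (B : Type u) [CommRing B] [Algebra R B] (c : Bˣ) :
    c ^ (a - m) = 1 := by
  have hcorner : ((LL (Matrix.single () i₀ ((c : B) - 1)) * UU (Matrix.single i₀ () 1) :
      Matrix.GeneralLinearGroup (ι ⊕ Unit) B)).val (Sum.inr ()) (Sum.inr ()) = c := by
    show ((fromBlocks 1 0 (Matrix.single () i₀ ((c : B) - 1)) 1 *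
      fromBlocks 1 (Matrix.single i₀ () 1) 0 1 : Matrix (ι ⊕ Unit) (ι ⊕ Unit) B))
      (Sum.inr ()) (Sum.inr ()) = _
    rw [fromBlocks_multiply, fromBlocks_apply₂₂]
    simp
  have := decomp χ m a hemb hcor hU hL B _ c hcorner
  simp only [map_mul, hU, hL, det_UU, det_LL, one_mul, _root_.one_zpow] at this
  exact this.symm

theorem exp_eq [Nontrivial R] (i₀ : ι) : a = m := by
  have h := pow_sub_eq_one χ m a hemb hcor hU hL i₀ (AddMonoidAlgebra R ℤ) (Tu R)
  have h2 := congrArg Units.val h
  rw [Tu_zpow, Units.val_one, AddMonoidAlgebra.one_def] at h2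
  have := (AddMonoidAlgebra.single_left_inj (one_ne_zero)).mp h2
  omega

theorem local_claim (hι : Nonempty ι → a = m) (B : Type u) [CommRing B] [Algebra R B]
    [IsLocalRing B] (g : Matrix.GeneralLinearGroup (ι ⊕ Unit) B) :
    χ B g = Matrix.GeneralLinearGroup.det g ^ a := by
  obtain ⟨g₁, hχ1, hdet1, hunit⟩ : ∃ g₁ : Matrix.GeneralLinearGroup (ι ⊕ Unit) B,
      χ B g₁ = χ B g ∧ Matrix.GeneralLinearGroup.det g₁ = Matrix.GeneralLinearGroup.det g ∧
      IsUnit (g₁.val (Sum.inr ()) (Sum.inr ())) := by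
    by_cases hc : IsUnit (g.val (Sum.inr ()) (Sum.inr ()))
    · exact ⟨g, rfl, rfl, hc⟩
    · have h1 : ∑ k, g.val (Sum.inr ()) k * g⁻¹.val k (Sum.inr ()) = 1 := by
        have := congrFun (congrFun g.mul_inv (Sum.inr ())) (Sum.inr ())
        rw [Matrix.mul_apply, Matrix.one_apply_eq] at this
        exact this
      obtain ⟨j, hj⟩ : ∃ j : ι, IsUnit (g.val (Sum.inr ()) (Sum.inl j)) := by
        by_contra hno
        push Not at hno
        have hmem : ∀ k, g.val (Sum.inr ()) k ∈ IsLocalRing.maximalIdeal B := by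
          intro k
          rw [IsLocalRing.mem_maximalIdeal, mem_nonunits_iff]
          rcases k with j | u
          · exact hno j
          · exact hc
        have h1' : (1 : B) ∈ IsLocalRing.maximalIdeal B := by
          rw [← h1]
          exact Ideal.sum_mem _ (fun k _ => Ideal.mul_mem_right _ _ (hmem k))
        exact (IsLocalRing.maximalIdeal.isMaximal B).ne_top ((Ideal.eq_top_iff_one _).mpr h1')
      refine ⟨g * UU (Matrix.single j () 1), ?_, ?_, ?_⟩
      · rw [map_mul, hU, mul_one]
      · rw [map_mul, det_UU, mul_one]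
      · have hcorner : (g * UU (Matrix.single j () 1)).val (Sum.inr ()) (Sum.inr ()) =
            g.val (Sum.inr ()) (Sum.inl j) + g.val (Sum.inr ()) (Sum.inr ()) := by
          show ((g.val * fromBlocks 1 (Matrix.single j () 1) 0 1 :
            Matrix (ι ⊕ Unit) (ι ⊕ Unit) B)) (Sum.inr ()) (Sum.inr ()) = _
          rw [Matrix.mul_apply, Fintype.sum_sum_type]
          simp [Matrix.single_apply]
        rw [hcorner]
        have : IsUnit ((g.val (Sum.inr ()) (Sum.inl j) + g.val (Sum.inr ()) (Sum.inr ())) +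
            (- g.val (Sum.inr ()) (Sum.inr ()))) := by simpa using hj
        rcases IsLocalRing.isUnit_or_isUnit_of_isUnit_add this with h | h
        · exact h
        · exact absurd ((IsUnit.neg_iff _).mp h) hc
  obtain ⟨d, hd⟩ := hunit
  rw [← hχ1, ← hdet1, decomp χ m a hemb hcor hU hL B g₁ d hd.symm]
  rcases isEmpty_or_nonempty ι with hE | hN
  · have hdd : Matrix.GeneralLinearGroup.det g₁ = d := by
      ext
      rw [Matrix.GeneralLinearGroup.val_det_apply, det_of_isEmpty, hd]
    rw [hdd, ← _root_.zpow_add, add_sub_cancel]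
  · rw [hι hN, sub_self, zpow_zero, mul_one]

theorem general_claim
    (hχ : ∀ (B C : Type u) [CommRing B] [Algebra R B] [CommRing C] [Algebra R C] (φ : B →ₐ[R] C)
      (s : Matrix.GeneralLinearGroup (ι ⊕ Unit) B),
      χ C (Matrix.GeneralLinearGroup.map φ.toRingHom s) =
        Units.map (φ.toRingHom : B →* C) (χ B s))
    (hι : Nonempty ι → a = m) (B : Type u) [CommRing B] [Algebra R B]
    (g : Matrix.GeneralLinearGroup (ι ⊕ Unit) B) :
    χ B g = Matrix.GeneralLinearGroup.det g ^ a := by
  apply Units.ext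
  rw [← sub_eq_zero]
  apply eq_zero_of_localization
  intro J hJ
  rw [map_sub, sub_eq_zero]
  let φ : B →ₐ[R] Localization.AtPrime J := IsScalarTower.toAlgHom R B _
  have h1 := local_claim χ m a hemb hcor hU hL hι (Localization.AtPrime J)
    (Matrix.GeneralLinearGroup.map φ.toRingHom g)
  rw [hχ, Matrix.GeneralLinearGroup.map_det, ← map_zpow] at h1
  exact congrArg Units.val h1

end Step

/-- Every natural character of `GL ι` is a power of the determinant. -/
def QQ (R : Type u) [CommRing R] (ι : Type) [Fintype ι] [DecidableEq ι] : Prop :=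
  ∀ (χ : ∀ (B : Type u) [CommRing B] [Algebra R B], Matrix.GeneralLinearGroup ι B →* Bˣ),
    (∀ (B C : Type u) [CommRing B] [Algebra R B] [CommRing C] [Algebra R C] (φ : B →ₐ[R] C)
      (s : Matrix.GeneralLinearGroup ι B),
      χ C (Matrix.GeneralLinearGroup.map φ.toRingHom s) =
        Units.map (φ.toRingHom : B →* C) (χ B s)) →
    ∃ m : ℤ, ∀ (B : Type u) [CommRing B] [Algebra R B] (s : Matrix.GeneralLinearGroup ι B),
      χ B s = Matrix.GeneralLinearGroup.det s ^ m

theorem QQ_step (R : Type u) [CommRing R] [ConnectedSpace (PrimeSpectrum R)]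
    (ι : Type) [Fintype ι] [DecidableEq ι] (hQ : QQ R ι) : QQ R (ι ⊕ Unit) := by
  intro χ hχ
  haveI : Nontrivial R :=
    ((Groth.Agent.Lib.Helper9.GeomLib.connectedSpace_iff R).mp inferInstance).1
  obtain ⟨m, hm⟩ := hQ (fun B _ _ => (χ B).comp emb) (by
    intro B C _ _ _ _ φ s
    show χ C (emb (Matrix.GeneralLinearGroup.map φ.toRingHom s)) = Units.map _ (χ B (emb s))
    rw [← map_emb, hχ])
  obtain ⟨a, ha⟩ := natEnd_Gm R (fun B _ _ => (χ B).comp cor) (by
    intro B C _ _ _ _ φ b
    show χ C (cor (Units.map _ b)) = Units.map _ (χ B (cor b))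
    rw [← map_cor, hχ])
  have hU : ∀ (B : Type u) [CommRing B] [Algebra R B] (X : Matrix ι Unit B), χ B (UU X) = 1 :=
    addNat_trivial ι Unit (fun B _ _ X => χ B (UU X))
      (by
        intro B _ _ X Y
        show χ B (UU (X + Y)) = χ B (UU X) * χ B (UU Y)
        rw [UU_add, map_mul])
      (by
        intro B C _ _ _ _ φ X
        show χ C (UU (X.map φ)) = Units.map _ (χ B (UU X))
        rw [← hχ, map_UU]
        rfl)
      (by
        intro B _ _ t X
        show χ B (UU ((t : B) • X)) = χ B (UU X)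
        have := congrArg (χ B) (UU_cor X t)
        rw [map_mul, map_mul, mul_comm] at this
        exact (mul_left_cancel this).symm)
  have hL : ∀ (B : Type u) [CommRing B] [Algebra R B] (Y : Matrix Unit ι B), χ B (LL Y) = 1 :=
    addNat_trivial Unit ι (fun B _ _ Y => χ B (LL Y))
      (by
        intro B _ _ X Y
        show χ B (LL (X + Y)) = χ B (LL X) * χ B (LL Y)
        rw [LL_add, map_mul])
      (by
        intro B C _ _ _ _ φ Y
        show χ C (LL (Y.map φ)) = Units.map _ (χ B (LL Y))
        rw [← hχ, map_LL]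
        rfl)
      (by
        intro B _ _ t Y
        show χ B (LL ((t : B) • Y)) = χ B (LL Y)
        have := congrArg (χ B) (cor_LL Y t)
        rw [map_mul, map_mul, mul_comm (χ B (LL ((t : B) • Y)))] at this
        exact (mul_left_cancel this).symm)
  have hι : Nonempty ι → a = m := fun ⟨i₀⟩ => exp_eq χ m a hm ha hU hL i₀
  exact ⟨a, fun B _ _ g => general_claim χ m a hm ha hU hL hχ hι B g⟩

end Groth.Agent.Lib.Helper24.GLChar
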