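import Groth.Agent.Lib.Helper24.GLChar3

/-!
# Characters of products of `GL_n` over a connected base are products of powers of det
-/

set_option autoImplicit false
universe u

namespace Groth.Agent.Lib.Helper24.GLChar

open Matrix

section Transport

variable {ι ι' : Type} [Fintype ι] [DecidableEq ι] [Fintype ι'] [DecidableEq ι']

/-- reindexing `GL` along an equivalence -/
def reGL (e : ι ≃ ι') (B : Type u) [CommRing B] :
    Matrix.GeneralLinearGroup ι B ≃* Matrix.GeneralLinearGroup ι' B :=
  Units.mapEquiv (Matrix.reindexAlgEquiv B B e).toRingEquiv.toMulEquiv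

lemma reGL_val (e : ι ≃ ι') (B : Type u) [CommRing B] (g : Matrix.GeneralLinearGroup ι B) :
    (reGL e B g).val = Matrix.reindex e e g.val := rfl

lemma map_reGL (e : ι ≃ ι') {B C : Type u} [CommRing B] [CommRing C] (f : B →+* C)
    (g : Matrix.GeneralLinearGroup ι B) :
    Matrix.GeneralLinearGroup.map f (reGL e B g) = reGL e C (Matrix.GeneralLinearGroup.map f g) := by
  apply Units.ext
  show (Matrix.reindex e e g.val).map f = Matrix.reindex e e (g.val.map f)
  rfl

lemma det_reGL (e : ι ≃ ι') (B : Type u) [CommRing B] (g : Matrix.GeneralLinearGroup ι B) :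
    Matrix.GeneralLinearGroup.det (reGL e B g) = Matrix.GeneralLinearGroup.det g := by
  ext
  rw [Matrix.GeneralLinearGroup.val_det_apply, Matrix.GeneralLinearGroup.val_det_apply, reGL_val,
    Matrix.det_reindex_self]

theorem QQ_of_equiv (R : Type u) [CommRing R] (e : ι ≃ ι') (hQ : QQ R ι) : QQ R ι' := by
  intro χ hχ
  obtain ⟨m, hm⟩ := hQ (fun B _ _ => (χ B).comp (reGL e B).toMonoidHom) (by
    intro B C _ _ _ _ φ s
    show χ C (reGL e C (Matrix.GeneralLinearGroup.map φ.toRingHom s)) =
      Units.map _ (χ B (reGL e B s))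
    rw [← map_reGL, hχ])
  refine ⟨m, fun B _ _ g => ?_⟩
  have h1 : χ B (reGL e B ((reGL e B).symm g)) =
      Matrix.GeneralLinearGroup.det ((reGL e B).symm g) ^ m := hm B ((reGL e B).symm g)
  rw [← det_reGL e B ((reGL e B).symm g), MulEquiv.apply_symm_apply] at h1
  exact h1

theorem QQ_of_isEmpty (R : Type u) [CommRing R] (ι : Type) [Fintype ι] [DecidableEq ι]
    [IsEmpty ι] : QQ R ι := by
  intro χ _
  refine ⟨0, fun B _ _ s => ?_⟩
  rw [_root_.zpow_zero, Subsingleton.elim s 1, map_one]

end Transport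

theorem QQ_fin (R : Type u) [CommRing R] [ConnectedSpace (PrimeSpectrum R)] :
    ∀ n : ℕ, QQ R (Fin n)
  | 0 => QQ_of_isEmpty R (Fin 0)
  | n + 1 => QQ_of_equiv R (Fintype.equivFinOfCardEq (by simp))
      (QQ_step R (Fin n) (QQ_fin R n))

/-- Characters of `GL(n_1) × ⋯ × GL(n_r)` over a connected base. -/
theorem main (R : Type u) [CommRing R] [ConnectedSpace (PrimeSpectrum R)]
    (r : ℕ) (n : Fin r → ℕ) (hn : ∀ i, 0 < n i)
    (α : ∀ (B : Type u) [CommRing B] [Algebra R B],
      (∀ i, Matrix.GeneralLinearGroup (Fin (n i)) B) →* Bˣ)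
    (hα : ∀ (B C : Type u) [CommRing B] [Algebra R B] [CommRing C] [Algebra R C] (φ : B →ₐ[R] C)
      (s : ∀ i, Matrix.GeneralLinearGroup (Fin (n i)) B),
      α C (fun i => Matrix.GeneralLinearGroup.map φ.toRingHom (s i)) =
        Units.map (φ.toRingHom : B →* C) (α B s)) :
    ∃! m : Fin r → ℤ, ∀ (B : Type u) [CommRing B] [Algebra R B]
      (s : ∀ i, Matrix.GeneralLinearGroup (Fin (n i)) B),
      α B s = ∏ i, Matrix.GeneralLinearGroup.det (s i) ^ (m i) := by
  haveI : Nontrivial R :=
    ((Groth.Agent.Lib.Helper9.GeomLib.connectedSpace_iff R).mp inferInstance).1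
  have key : ∀ i : Fin r, ∃ mi : ℤ, ∀ (B : Type u) [CommRing B] [Algebra R B]
      (g : Matrix.GeneralLinearGroup (Fin (n i)) B),
      α B (Pi.mulSingle i g) = Matrix.GeneralLinearGroup.det g ^ mi := by
    intro i
    exact QQ_fin R (n i) (fun B _ _ => (α B).comp
      (MonoidHom.mulSingle (fun j => Matrix.GeneralLinearGroup (Fin (n j)) B) i)) (by
      intro B C _ _ _ _ φ s
      show α C (Pi.mulSingle i (Matrix.GeneralLinearGroup.map φ.toRingHom s)) =
        Units.map _ (α B (Pi.mulSingle i s))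
      rw [← hα]
      congr 1
      funext j
      exact (Pi.apply_mulSingle
        (fun j => Matrix.GeneralLinearGroup.map (n := Fin (n j)) φ.toRingHom)
        (fun j => map_one _) i s j).symm)
  choose m hm using key
  refine ⟨m, ?_, ?_⟩
  · intro B _ _ s
    let β : (∀ i, Matrix.GeneralLinearGroup (Fin (n i)) B) →* Bˣ :=
      { toFun := fun s => ∏ i, Matrix.GeneralLinearGroup.det (s i) ^ (m i)
        map_one' := by simp
        map_mul' := fun s t => by simp [mul_zpow, Finset.prod_mul_distrib] }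
    have hβ : α B = β := by
      apply MonoidHom.pi_ext
      intro i x
      rw [hm i]
      show _ = ∏ j, Matrix.GeneralLinearGroup.det
        ((Pi.mulSingle i x : ∀ i, Matrix.GeneralLinearGroup (Fin (n i)) B) j) ^ (m j)
      rw [Fintype.prod_eq_single i (fun j hj => by
        rw [Pi.mulSingle_eq_of_ne hj, map_one, _root_.one_zpow]), Pi.mulSingle_eq_same]
    rw [hβ]
    rfl
  · intro m' hm'
    funext i
    have h1 := hm' (AddMonoidAlgebra R ℤ)
      (Pi.mulSingle i (Matrix.GeneralLinearGroup.scalar (Fin (n i)) (Tu R)))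
    rw [hm i] at h1
    rw [Fintype.prod_eq_single i (fun j hj => by
      rw [Pi.mulSingle_eq_of_ne hj, map_one, _root_.one_zpow]), Pi.mulSingle_eq_same,
      Matrix.GeneralLinearGroup.det_scalar, Fintype.card_fin] at h1
    have h2 := congrArg Units.val h1
    rw [← zpow_natCast (Tu R) (n i), ← _root_.zpow_mul, ← _root_.zpow_mul, Tu_zpow, Tu_zpow] at h2
    have h3 := (AddMonoidAlgebra.single_left_inj one_ne_zero).mp h2
    have h4 : (n i : ℤ) ≠ 0 := by
      have := hn i
      omega
    exact (mul_left_cancel₀ h4 h3).symm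

end Groth.Agent.Lib.Helper24.GLChar
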