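import Groth.Agent.Lib.Helper24.GLChar4

/-!
# `SL_n` lies in the commutator subgroup of `GL_n` étale locally
-/

set_option autoImplicit false
universe u

namespace Groth.Agent.Lib.Helper24.GLComm

open Matrix Groth.Agent.Lib.Helper24.GLChar
open scoped commutatorElement

/-- group homs preserve the commutator subgroup -/
lemma map_mem_commutator {G H : Type*} [Group G] [Group H] (f : G →* H) {x : G}
    (hx : x ∈ commutator G) : f x ∈ commutator H := by
  rw [commutator_def] at hx ⊢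
  have h1 : f x ∈ Subgroup.map f ⁅(⊤ : Subgroup G), ⊤⁆ := Subgroup.mem_map_of_mem f hx
  rw [Subgroup.map_commutator] at h1
  exact Subgroup.commutator_mono le_top le_top h1

section Blocks

variable {ι : Type} [Fintype ι] [DecidableEq ι] {B : Type u} [CommRing B]

lemma UU_zero : UU (0 : Matrix ι Unit B) = 1 := by
  apply Units.ext
  exact fromBlocks_one

lemma LL_zero : LL (0 : Matrix Unit ι B) = 1 := by
  apply Units.ext
  exact fromBlocks_one

lemma UU_neg (X : Matrix ι Unit B) : UU (-X) = (UU X)⁻¹ := by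
  rw [eq_inv_iff_mul_eq_one, ← UU_add, neg_add_cancel, UU_zero]

lemma LL_neg (Y : Matrix Unit ι B) : LL (-Y) = (LL Y)⁻¹ := by
  rw [eq_inv_iff_mul_eq_one, ← LL_add, neg_add_cancel, LL_zero]

lemma UU_mem_commutator (t : Bˣ) (ht : IsUnit ((t : B) - 1)) (Z : Matrix ι Unit B) :
    UU Z ∈ commutator (Matrix.GeneralLinearGroup (ι ⊕ Unit) B) := by
  obtain ⟨u, hu⟩ := ht
  obtain ⟨X, hZ⟩ : ∃ X : Matrix ι Unit B, Z = (t : B) • X + (-X) := by
    refine ⟨((u⁻¹ : Bˣ) : B) • Z, ?_⟩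
    have : ∀ X : Matrix ι Unit B, (t : B) • X + (-X) = ((t : B) - 1) • X := by
      intro X
      rw [sub_smul, one_smul, sub_eq_add_neg]
    rw [this, ← hu, smul_smul, Units.mul_inv, one_smul]
  have key : UU Z = ⁅(cor (ι := ι) t)⁻¹, UU X⁆ := by
    rw [commutatorElement_def, inv_inv, hZ, UU_add, UU_neg]
    congr 1
    rw [mul_assoc, UU_cor, ← mul_assoc, inv_mul_cancel, one_mul]
  rw [key, commutator_def]
  exact Subgroup.commutator_mem_commutator (Subgroup.mem_top _) (Subgroup.mem_top _)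

lemma LL_mem_commutator (t : Bˣ) (ht : IsUnit ((t : B) - 1)) (Z : Matrix Unit ι B) :
    LL Z ∈ commutator (Matrix.GeneralLinearGroup (ι ⊕ Unit) B) := by
  obtain ⟨u, hu⟩ := ht
  obtain ⟨Y, hZ⟩ : ∃ Y : Matrix Unit ι B, Z = (t : B) • Y + (-Y) := by
    refine ⟨((u⁻¹ : Bˣ) : B) • Z, ?_⟩
    have : ∀ X : Matrix Unit ι B, (t : B) • X + (-X) = ((t : B) - 1) • X := by
      intro X
      rw [sub_smul, one_smul, sub_eq_add_neg]
    rw [this, ← hu, smul_smul, Units.mul_inv, one_smul]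
  have key : LL Z = ⁅cor (ι := ι) t, LL Y⁆ := by
    rw [commutatorElement_def, hZ, LL_add, LL_neg]
    congr 1
    rw [cor_LL, mul_assoc, mul_inv_cancel, mul_one]
  rw [key, commutator_def]
  exact Subgroup.commutator_mem_commutator (Subgroup.mem_top _) (Subgroup.mem_top _)

lemma corner_mul_UU (s : Matrix.GeneralLinearGroup (ι ⊕ Unit) B) (X : Matrix ι Unit B) :
    (s * UU X).val (Sum.inr ()) (Sum.inr ()) =
      (∑ l, s.val (Sum.inr ()) (Sum.inl l) * X l ()) + s.val (Sum.inr ()) (Sum.inr ()) := by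
  show ((s.val * fromBlocks 1 X 0 1 : Matrix (ι ⊕ Unit) (ι ⊕ Unit) B)) (Sum.inr ()) (Sum.inr ()) = _
  rw [Matrix.mul_apply, Fintype.sum_sum_type]
  simp

lemma row_mul_LL (s : Matrix.GeneralLinearGroup (ι ⊕ Unit) B) (Y : Matrix Unit ι B) (i : ι) :
    (s * LL Y).val (Sum.inr ()) (Sum.inl i) =
      s.val (Sum.inr ()) (Sum.inl i) + s.val (Sum.inr ()) (Sum.inr ()) * Y () i := by
  show ((s.val * fromBlocks 1 0 Y 1 : Matrix (ι ⊕ Unit) (ι ⊕ Unit) B)) (Sum.inr ()) (Sum.inl i) = _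
  rw [Matrix.mul_apply, Fintype.sum_sum_type]
  simp [Matrix.one_apply]

lemma exists_corner_one [Nonempty ι] (t : Bˣ) (ht : IsUnit ((t : B) - 1))
    (s : Matrix.GeneralLinearGroup (ι ⊕ Unit) B)
    (j : ι ⊕ Unit) (hj : IsUnit (s.val (Sum.inr ()) j)) :
    ∃ W ∈ commutator (Matrix.GeneralLinearGroup (ι ⊕ Unit) B),
      (s * W).val (Sum.inr ()) (Sum.inr ()) = 1 := by
  have caseL : ∀ (s : Matrix.GeneralLinearGroup (ι ⊕ Unit) B) (j' : ι),
      IsUnit (s.val (Sum.inr ()) (Sum.inl j')) →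
      ∃ W ∈ commutator (Matrix.GeneralLinearGroup (ι ⊕ Unit) B),
        (s * W).val (Sum.inr ()) (Sum.inr ()) = 1 := by
    intro s j' hu
    obtain ⟨u, hu⟩ := hu
    refine ⟨UU (Matrix.single j' ()
      (((u⁻¹ : Bˣ) : B) * (1 - s.val (Sum.inr ()) (Sum.inr ())))), UU_mem_commutator t ht _, ?_⟩
    rw [corner_mul_UU]
    simp only [Matrix.single_apply, and_true, mul_ite, mul_zero, Finset.sum_ite_eq,
      Finset.mem_univ, if_true]
    rw [← hu, ← mul_assoc, Units.mul_inv, one_mul, sub_add_cancel]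
  rcases j with j' | ⟨⟩
  · exact caseL s j' hj
  · obtain ⟨i₀⟩ := ‹Nonempty ι›
    obtain ⟨d, hd⟩ := hj
    have h1 : (s * LL (Matrix.single () i₀
        (((d⁻¹ : Bˣ) : B) * (1 - s.val (Sum.inr ()) (Sum.inl i₀))))).val
        (Sum.inr ()) (Sum.inl i₀) = 1 := by
      rw [row_mul_LL, Matrix.single_apply_same, ← hd, ← mul_assoc, Units.mul_inv, one_mul,
        add_sub_cancel]
    obtain ⟨W, hW, hc⟩ := caseL (s * LL (Matrix.single () i₀
        (((d⁻¹ : Bˣ) : B) * (1 - s.val (Sum.inr ()) (Sum.inl i₀))))) i₀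
        (by rw [h1]; exact isUnit_one)
    exact ⟨LL _ * W, mul_mem (LL_mem_commutator t ht _) hW, by rw [← mul_assoc]; exact hc⟩

end Blocks

end Groth.Agent.Lib.Helper24.GLComm
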