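import Groth.Agent.Lib.Helper24.GLComm

/-!
# `SL_n` lies in the commutator subgroup of `GL_n` étale locally: the induction
-/

set_option autoImplicit false
universe u

namespace Groth.Agent.Lib.Helper24.GLComm

open Matrix Groth.Agent.Lib.Helper24.GLChar Polynomial

/-- étale-local membership in the commutator subgroup -/
def Good (n : ℕ) (B : Type u) [CommRing B] (q : PrimeSpectrum B)
    (s : Matrix.GeneralLinearGroup (Fin n) B) : Prop :=
  ∃ (B' : Type u) (_ : CommRing B') (_ : Algebra B B'), Algebra.Etale B B' ∧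
    (∃ q' : PrimeSpectrum B', q'.asIdeal.comap (algebraMap B B') = q.asIdeal) ∧
    (Matrix.GeneralLinearGroup.map (algebraMap B B')) s ∈
      commutator (Matrix.GeneralLinearGroup (Fin n) B')

lemma Good.trans {n : ℕ} {B : Type u} [CommRing B] (q : PrimeSpectrum B)
    (s : Matrix.GeneralLinearGroup (Fin n) B)
    (B₁ : Type u) [CommRing B₁] [Algebra B B₁] [Algebra.Etale B B₁] (q₁ : PrimeSpectrum B₁)
    (hq₁ : q₁.asIdeal.comap (algebraMap B B₁) = q.asIdeal)
    (h : Good n B₁ q₁ (Matrix.GeneralLinearGroup.map (algebraMap B B₁) s)) : Good n B q s := by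
  obtain ⟨B', _, _, het, ⟨q', hq'⟩, hmem⟩ := h
  letI : Algebra B B' := ((algebraMap B₁ B').comp (algebraMap B B₁)).toAlgebra
  haveI : IsScalarTower B B₁ B' := IsScalarTower.of_algebraMap_eq (fun _ => rfl)
  refine ⟨B', inferInstance, inferInstance, Algebra.Etale.comp B B₁ B', ⟨q', ?_⟩, ?_⟩
  · rw [IsScalarTower.algebraMap_eq B B₁ B', ← Ideal.comap_comap, hq', hq₁]
  · have : Matrix.GeneralLinearGroup.map (algebraMap B B') s =
        Matrix.GeneralLinearGroup.map (algebraMap B₁ B')
          (Matrix.GeneralLinearGroup.map (algebraMap B B₁) s) := by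
      apply Units.ext
      ext i j
      rfl
    rw [this]
    exact hmem

lemma exists_prime_away {B : Type u} [CommRing B] (q : PrimeSpectrum B) (g : B)
    (hg : g ∉ q.asIdeal) :
    ∃ q₁ : PrimeSpectrum (Localization.Away g),
      q₁.asIdeal.comap (algebraMap B (Localization.Away g)) = q.asIdeal := by
  have hd : Disjoint (Submonoid.powers g : Set B) (q.asIdeal : Set B) :=
    (Ideal.disjoint_powers_iff_notMem_of_isPrime g).mpr hg
  refine ⟨⟨Ideal.map (algebraMap B (Localization.Away g)) q.asIdeal,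
    IsLocalization.isPrime_of_isPrime_disjoint (Submonoid.powers g) _ _ q.isPrime hd⟩, ?_⟩
  exact IsLocalization.under_map_of_isPrime_disjoint (Submonoid.powers g) _ q.isPrime hd

lemma exists_entry_notMem {ι : Type} [Fintype ι] [DecidableEq ι] {B : Type u} [CommRing B]
    (q : PrimeSpectrum B) (s : Matrix.GeneralLinearGroup ι B) (i : ι) :
    ∃ j, s.val i j ∉ q.asIdeal := by
  by_contra hno
  push Not at hno
  have h1 : ∑ k, s.val i k * s⁻¹.val k i = 1 := by
    have := congrFun (congrFun s.mul_inv i) i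
    rw [Matrix.mul_apply, Matrix.one_apply_eq] at this
    exact this
  have : (1 : B) ∈ q.asIdeal := by
    rw [← h1]
    exact Ideal.sum_mem _ (fun k _ => Ideal.mul_mem_right _ _ (hno k))
  exact q.isPrime.ne_top ((Ideal.eq_top_iff_one _).mpr this)

lemma eq_one_of_det_fin_one {B : Type u} [CommRing B] (s : Matrix.GeneralLinearGroup (Fin 1) B)
    (hs : Matrix.GeneralLinearGroup.det s = 1) : s = 1 := by
  apply Units.ext
  ext i j
  have h := congrArg Units.val hs
  rw [Matrix.GeneralLinearGroup.val_det_apply, Matrix.det_fin_one, Units.val_one] at h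
  rw [Subsingleton.elim i 0, Subsingleton.elim j 0]
  simpa using h

theorem step (k : ℕ) (hk : 0 < k)
    (ih : ∀ (B : Type u) [CommRing B] (t : Bˣ) (_ : IsUnit ((t : B) - 1)) (q : PrimeSpectrum B)
      (s : Matrix.GeneralLinearGroup (Fin k) B), Matrix.GeneralLinearGroup.det s = 1 →
      Good k B q s)
    (B : Type u) [CommRing B] (t : Bˣ) (ht : IsUnit ((t : B) - 1)) (q : PrimeSpectrum B)
    (s : Matrix.GeneralLinearGroup (Fin (k + 1)) B) (hs : Matrix.GeneralLinearGroup.det s = 1) :
    Good (k + 1) B q s := by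
  haveI : Nonempty (Fin k) := ⟨⟨0, hk⟩⟩
  let e : Fin k ⊕ Unit ≃ Fin (k + 1) := Fintype.equivFinOfCardEq (by simp)
  obtain ⟨s', hss'⟩ : ∃ s' : Matrix.GeneralLinearGroup (Fin k ⊕ Unit) B, s = reGL e B s' :=
    ⟨(reGL e B).symm s, by rw [MulEquiv.apply_symm_apply]⟩
  have hdet' : Matrix.GeneralLinearGroup.det s' = 1 := by
    rw [← det_reGL e B s', ← hss', hs]
  obtain ⟨j, hj⟩ := exists_entry_notMem q s' (Sum.inr ())
  obtain ⟨q₁, hq₁⟩ := exists_prime_away q (s'.val (Sum.inr ()) j) hj
  haveI : Algebra.Etale B (Localization.Away (s'.val (Sum.inr ()) j)) :=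
    Algebra.Etale.of_isLocalizationAway (s'.val (Sum.inr ()) j)
  refine Good.trans q s (Localization.Away (s'.val (Sum.inr ()) j)) q₁ hq₁ ?_
  set B₁ := Localization.Away (s'.val (Sum.inr ()) j) with hB₁
  set t₁ : B₁ˣ := Units.map (algebraMap B B₁ : B →* B₁) t with ht₁def
  have ht₁ : IsUnit ((t₁ : B₁) - 1) := by
    have := ht.map (algebraMap B B₁)
    simpa [t₁] using this
  set s₁ : Matrix.GeneralLinearGroup (Fin k ⊕ Unit) B₁ :=
    Matrix.GeneralLinearGroup.map (algebraMap B B₁) s' with hs₁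
  have hunit : IsUnit (s₁.val (Sum.inr ()) j) := by
    show IsUnit ((algebraMap B B₁) (s'.val (Sum.inr ()) j))
    exact IsLocalization.Away.algebraMap_isUnit _
  obtain ⟨W, hW, hcorner⟩ := exists_corner_one t₁ ht₁ s₁ j hunit
  obtain ⟨h, X, Y, hdec⟩ := block_decomp (s₁ * W) 1 (by rw [hcorner]; rfl)
  rw [map_one, mul_one] at hdec
  have hdet₁ : Matrix.GeneralLinearGroup.det s₁ = 1 := by
    rw [hs₁, Matrix.GeneralLinearGroup.map_det, hdet', map_one]
  have hdetW : Matrix.GeneralLinearGroup.det W = 1 :=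
    MonoidHom.mem_ker.mp (Abelianization.commutator_subset_ker Matrix.GeneralLinearGroup.det hW)
  have hdeth : Matrix.GeneralLinearGroup.det h = 1 := by
    have := congrArg Matrix.GeneralLinearGroup.det hdec
    simp only [map_mul, det_UU, det_LL, det_emb, hdet₁, hdetW, one_mul, mul_one] at this
    exact this.symm
  obtain ⟨B₂, _, _, het, ⟨q₂, hq₂⟩, hmem⟩ := ih B₁ t₁ ht₁ q₁ h hdeth
  refine ⟨B₂, inferInstance, inferInstance, het, ⟨q₂, hq₂⟩, ?_⟩
  have hs₁eq : s₁ = UU X * emb h * LL Y * W⁻¹ := by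
    rw [← hdec, mul_inv_cancel_right]
  have h1 : Matrix.GeneralLinearGroup.map (algebraMap B B₁) s = reGL e B₁ s₁ := by
    rw [hss', map_reGL]
  have h2 : Matrix.GeneralLinearGroup.map (algebraMap B₁ B₂)
      (Matrix.GeneralLinearGroup.map (algebraMap B B₁) s) =
      reGL e B₂ (Matrix.GeneralLinearGroup.map (algebraMap B₁ B₂) s₁) := by
    rw [h1, map_reGL]
  rw [h2]
  apply map_mem_commutator (reGL e B₂).toMonoidHom
  have e1 : Matrix.GeneralLinearGroup.map (algebraMap B₁ B₂) s₁ =
      UU (X.map (algebraMap B₁ B₂)) * emb (Matrix.GeneralLinearGroup.map (algebraMap B₁ B₂) h) *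
        LL (Y.map (algebraMap B₁ B₂)) * (Matrix.GeneralLinearGroup.map (algebraMap B₁ B₂) W)⁻¹ := by
    rw [hs₁eq]
    simp only [map_mul, map_inv, map_UU, map_LL, map_emb]
  rw [e1]
  have ht₂ : IsUnit (((Units.map (algebraMap B₁ B₂ : B₁ →* B₂) t₁ : B₂ˣ) : B₂) - 1) := by
    have := ht₁.map (algebraMap B₁ B₂)
    simpa using this
  exact mul_mem (mul_mem (mul_mem (UU_mem_commutator _ ht₂ _) (map_mem_commutator emb hmem))
    (LL_mem_commutator _ ht₂ _)) (inv_mem (map_mem_commutator _ hW))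

theorem main_aux : ∀ (n : ℕ) (B : Type u) [CommRing B] (t : Bˣ) (_ : IsUnit ((t : B) - 1))
    (q : PrimeSpectrum B) (s : Matrix.GeneralLinearGroup (Fin n) B),
    Matrix.GeneralLinearGroup.det s = 1 → Good n B q s := by
  intro n
  induction n with
  | zero =>
    intro B _ t ht q s hs
    refine ⟨B, inferInstance, inferInstance, inferInstance, ⟨q, by simp⟩, ?_⟩
    rw [Subsingleton.elim (Matrix.GeneralLinearGroup.map (algebraMap B B) s) 1]
    exact one_mem _
  | succ k ih =>
    rcases Nat.eq_zero_or_pos k with rfl | hk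
    · intro B _ t ht q s hs
      refine ⟨B, inferInstance, inferInstance, inferInstance, ⟨q, by simp⟩, ?_⟩
      rw [eq_one_of_det_fin_one s hs, map_one]
      exact one_mem _
    · intro B _ t ht q s hs
      exact step k hk ih B t ht q s hs

end Groth.Agent.Lib.Helper24.GLComm
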