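import Groth.Agent.Lib.Helper24.GLComm2

/-!
# `SL_n` lies in the commutator subgroup of `GL_n` étale locally: the étale cover
-/

set_option autoImplicit false
universe u

namespace Groth.Agent.Lib.Helper24.GLComm

open Matrix Groth.Agent.Lib.Helper24.GLChar Polynomial

lemma degree_lin_lt {R : Type*} [Ring R] (c : R) :
    degree (-X + C c : R[X]) < ((2 : ℕ) : WithBot ℕ) := by
  calc degree (-X + C c : R[X]) ≤ max (degree (-X : R[X])) (degree (C c)) := degree_add_le _ _
    _ < ((2 : ℕ) : WithBot ℕ) := by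
      refine max_lt ?_ ?_
      · rw [degree_neg]
        exact lt_of_le_of_lt degree_X_le (by norm_num)
      · exact lt_of_le_of_lt degree_C_le (by norm_num)

/-- the standard étale pair `X² - X + ε`, localized at `1 - 4ε`. -/
noncomputable def pairE (A : Type u) [CommRing A] (ε : A) : StandardEtalePair A where
  f := X ^ 2 + (-X + C ε)
  monic_f := monic_X_pow_add (degree_lin_lt ε)
  g := C (1 - 4 * ε)
  cond := ⟨C 2 * X - 1, -4, 1, by
    simp only [derivative_add, derivative_X_pow, derivative_neg, derivative_X, derivative_C,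
      map_sub, map_mul, map_one, pow_one]
    simp
    rw [show (C (2 : A) : A[X]) = 2 from map_ofNat C 2, show (C (4 : A) : A[X]) = 4 from map_ofNat C 4]
    ring⟩

lemma exists_prime_pairE (A : Type u) [CommRing A] (ε : A) (p : PrimeSpectrum A)
    (hp : 1 - 4 * ε ∉ p.asIdeal) :
    ∃ q : PrimeSpectrum (pairE A ε).Ring,
      q.asIdeal.comap (algebraMap A (pairE A ε).Ring) = p.asIdeal := by
  let K := AlgebraicClosure p.asIdeal.ResidueField
  obtain ⟨x, hx⟩ : ∃ x : K, x ^ 2 + (-x + algebraMap A K ε) = 0 := by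
    have hdeg : (X ^ 2 + (-X + C (algebraMap A K ε)) : K[X]).degree ≠ 0 := by
      rw [degree_add_eq_left_of_degree_lt (by rw [degree_X_pow]; exact degree_lin_lt _),
        degree_X_pow]
      norm_num
    obtain ⟨x, hx⟩ := IsAlgClosed.exists_root _ hdeg
    exact ⟨x, by simpa [IsRoot] using hx⟩
  have hker : ∀ a : A, algebraMap A K a = 0 ↔ a ∈ p.asIdeal := by
    intro a
    rw [IsScalarTower.algebraMap_apply A p.asIdeal.ResidueField K,
      map_eq_zero_iff _ (FaithfulSMul.algebraMap_injective p.asIdeal.ResidueField K),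
      Ideal.algebraMap_residueField_eq_zero]
  have hmap : (pairE A ε).HasMap x := by
    refine ⟨?_, ?_⟩
    · simpa [pairE] using hx
    · have : aeval x (pairE A ε).g = algebraMap A K (1 - 4 * ε) := by simp [pairE]
      rw [this, isUnit_iff_ne_zero]
      intro h0
      exact hp ((hker _).mp h0)
  refine ⟨⟨RingHom.ker ((pairE A ε).lift x hmap).toRingHom, RingHom.ker_isPrime _⟩, ?_⟩
  ext a
  rw [Ideal.mem_comap, RingHom.mem_ker]
  show ((pairE A ε).lift x hmap) (algebraMap A _ a) = 0 ↔ _
  rw [AlgHom.commutes, hker]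

lemma exists_unit_pairE (A : Type u) [CommRing A] (ε : A) (hε : ε * ε = 1) :
    ∃ t : ((pairE A ε).Ring)ˣ, IsUnit ((t : (pairE A ε).Ring) - 1) := by
  set x : (pairE A ε).Ring := (pairE A ε).X with hxdef
  set e : (pairE A ε).Ring := algebraMap A (pairE A ε).Ring ε with hedef
  have hx : x ^ 2 + (-x + e) = 0 := by
    have h0 : aeval x (X ^ 2 + (-X + C ε) : A[X]) = 0 :=
      (StandardEtalePair.hasMap_X (P := pairE A ε)).1
    simpa using h0
  have he : e * e = 1 := by rw [hedef, ← map_mul, hε, map_one]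
  have h1 : x * (1 - x) = e := by linear_combination (-1 : (pairE A ε).Ring) * hx
  refine ⟨⟨x, (1 - x) * e, by linear_combination e * h1 + he,
    by linear_combination e * h1 + he⟩, ?_⟩
  exact IsUnit.of_mul_eq_one (-(x * e)) (by
    show (x - 1) * (-(x * e)) = 1
    linear_combination e * h1 + he)

theorem main (A : Type u) [CommRing A] (n : ℕ) (s : Matrix.SpecialLinearGroup (Fin n) A)
    (p : PrimeSpectrum A) : Good n A p (Matrix.SpecialLinearGroup.toGL s) := by
  obtain ⟨ε, hε, hp⟩ : ∃ ε : A, ε * ε = 1 ∧ 1 - 4 * ε ∉ p.asIdeal := by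
    by_cases h3 : (1 - 4 * (1 : A)) ∈ p.asIdeal
    · refine ⟨-1, by ring, fun h5 => ?_⟩
      have h1 : (1 : A) ∈ p.asIdeal := by
        have : (1 : A) = 2 * (1 - 4 * (-1)) + 3 * (1 - 4 * 1) := by ring
        rw [this]
        exact Ideal.add_mem _ (Ideal.mul_mem_left _ _ h5) (Ideal.mul_mem_left _ _ h3)
      exact p.isPrime.ne_top ((Ideal.eq_top_iff_one _).mpr h1)
    · exact ⟨1, by ring, h3⟩
  obtain ⟨q₀, hq₀⟩ := exists_prime_pairE A ε p hp
  obtain ⟨t, ht⟩ := exists_unit_pairE A ε hε
  refine Good.trans p _ (pairE A ε).Ring q₀ hq₀ ?_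
  apply main_aux n (pairE A ε).Ring t ht q₀
  rw [Matrix.GeneralLinearGroup.map_det]
  have : Matrix.GeneralLinearGroup.det (Matrix.SpecialLinearGroup.toGL s) = 1 := by
    ext
    rw [Matrix.GeneralLinearGroup.val_det_apply]
    exact s.2
  rw [this, map_one]

end Groth.Agent.Lib.Helper24.GLComm
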