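import Groth.Prelude.Def_GalDesc
import Groth.Prelude.Def_GSzCSA

/-!
Galois descent helper lemmas (helper24): cocycles of trivialisations, equivariant maps.
-/

set_option autoImplicit false
universe u v w w' w''

open scoped TensorProduct

namespace Groth.Agent.Lib.Helper24

open GalDesc

section Lin

variable {k : Type u} {K : Type v} [Field k] [Field K] [Algebra k K]
variable {M : Type w} {N : Type w'} {P : Type w''}
  [AddCommGroup M] [Module K M] [DistribMulAction (K ≃ₐ[k] K) M] [SMulDistribClass (K ≃ₐ[k] K) K M]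
  [AddCommGroup N] [Module K N] [DistribMulAction (K ≃ₐ[k] K) N] [SMulDistribClass (K ≃ₐ[k] K) K N]
  [AddCommGroup P] [Module K P] [DistribMulAction (K ≃ₐ[k] K) P] [SMulDistribClass (K ≃ₐ[k] K) K P]

/-- If `E : N ≃ P` is equivariant, the cocycles of `g : M ≃ N` and `g' : M ≃ P` are related by
`c = g'⁻¹ ∘ E ∘ g`. -/
theorem cocycle_eq_of_equivariant (g : M ≃ₗ[K] N) (g' : M ≃ₗ[K] P) (E : N ≃ₗ[K] P)
    (hE : ∀ (σ : K ≃ₐ[k] K) (y : N), E (σ • y) = σ • E y) (σ : K ≃ₐ[k] K) :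
    cocycle k g σ =
      ((g.trans E).trans g'.symm)⁻¹ * cocycle k g' σ * σ • ((g.trans E).trans g'.symm) := by
  apply LinearEquiv.ext
  intro x
  change g.symm (σ • g (σ⁻¹ • x)) =
    ((g.trans E).trans g'.symm).symm (g'.symm (σ • g' (σ⁻¹ • (σ • ((g.trans E).trans g'.symm) (σ⁻¹ • x)))))
  rw [inv_smul_smul]
  simp only [LinearEquiv.trans_apply, LinearEquiv.apply_symm_apply, LinearEquiv.symm_trans_apply,
    LinearEquiv.symm_symm, ← hE, LinearEquiv.symm_apply_apply]

/-- Conversely, if the cocycles are related through `c`, then `g' ∘ c ∘ g⁻¹` is equivariant. -/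
theorem equivariant_of_cocycle_eq (g : M ≃ₗ[K] N) (g' : M ≃ₗ[K] P) (c : M ≃ₗ[K] M)
    (h : ∀ σ : K ≃ₐ[k] K, cocycle k g σ = c⁻¹ * cocycle k g' σ * σ • c)
    (σ : K ≃ₐ[k] K) (y : N) :
    ((g.symm.trans c).trans g') (σ • y) = σ • ((g.symm.trans c).trans g') y := by
  have h1 := congrArg (fun f : M ≃ₗ[K] M => c (f (σ • g.symm y))) (h σ)
  change c (g.symm (σ • g (σ⁻¹ • (σ • g.symm y)))) =
    c (c.symm (g'.symm (σ • g' (σ⁻¹ • (σ • c (σ⁻¹ • (σ • g.symm y))))))) at h1
  simp only [inv_smul_smul, LinearEquiv.apply_symm_apply] at h1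
  simp only [LinearEquiv.trans_apply]
  rw [h1, LinearEquiv.apply_symm_apply]

end Lin

section Alg

variable {k : Type u} {K : Type v} [Field k] [Field K] [Algebra k K]
variable {B : Type w} {C : Type w'} {D : Type w''}
  [Ring B] [Algebra K B] [MulSemiringAction (K ≃ₐ[k] K) B] [SMulDistribClass (K ≃ₐ[k] K) K B]
  [Ring C] [Algebra K C] [MulSemiringAction (K ≃ₐ[k] K) C] [SMulDistribClass (K ≃ₐ[k] K) K C]
  [Ring D] [Algebra K D] [MulSemiringAction (K ≃ₐ[k] K) D] [SMulDistribClass (K ≃ₐ[k] K) K D]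

theorem cocycleAlg_eq_of_equivariant (g : B ≃ₐ[K] C) (g' : B ≃ₐ[K] D) (E : C ≃ₐ[K] D)
    (hE : ∀ (σ : K ≃ₐ[k] K) (y : C), E (σ • y) = σ • E y) (σ : K ≃ₐ[k] K) :
    cocycleAlg k g σ =
      ((g.trans E).trans g'.symm)⁻¹ * cocycleAlg k g' σ * σ • ((g.trans E).trans g'.symm) := by
  apply AlgEquiv.ext
  intro x
  change g.symm (σ • g (σ⁻¹ • x)) =
    ((g.trans E).trans g'.symm).symm (g'.symm (σ • g' (σ⁻¹ • (σ • ((g.trans E).trans g'.symm) (σ⁻¹ • x)))))
  rw [inv_smul_smul]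
  simp only [AlgEquiv.trans_apply, AlgEquiv.apply_symm_apply, AlgEquiv.symm_trans_apply,
    AlgEquiv.symm_symm, ← hE, AlgEquiv.symm_apply_apply]

theorem equivariant_of_cocycleAlg_eq (g : B ≃ₐ[K] C) (g' : B ≃ₐ[K] D) (c : B ≃ₐ[K] B)
    (h : ∀ σ : K ≃ₐ[k] K, cocycleAlg k g σ = c⁻¹ * cocycleAlg k g' σ * σ • c)
    (σ : K ≃ₐ[k] K) (y : C) :
    ((g.symm.trans c).trans g') (σ • y) = σ • ((g.symm.trans c).trans g') y := by
  have h1 := congrArg (fun f : B ≃ₐ[K] B => c (f (σ • g.symm y))) (h σ)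
  change c (g.symm (σ • g (σ⁻¹ • (σ • g.symm y)))) =
    c (c.symm (g'.symm (σ • g' (σ⁻¹ • (σ • c (σ⁻¹ • (σ • g.symm y))))))) at h1
  simp only [inv_smul_smul, AlgEquiv.apply_symm_apply] at h1
  simp only [AlgEquiv.trans_apply]
  rw [h1, AlgEquiv.apply_symm_apply]

end Alg

section BaseChangeEquivariant

variable {k : Type u} {K : Type v} [Field k] [Field K] [Algebra k K]
variable {W : Type w} {W' : Type w'} [AddCommGroup W] [Module k W] [AddCommGroup W'] [Module k W']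

theorem smul_tmul_left (σ : K ≃ₐ[k] K) (c : K) (w : W) :
    σ • (c ⊗ₜ[k] w) = (σ c) ⊗ₜ[k] w := rfl

theorem baseChange_smul (e : W →ₗ[k] W') (σ : K ≃ₐ[k] K) (y : K ⊗[k] W) :
    e.baseChange K (σ • y) = σ • e.baseChange K y := by
  induction y using TensorProduct.induction_on with
  | zero => simp
  | tmul c w => simp [smul_tmul_left]
  | add y y' hy hy' => simp only [smul_add, map_add, hy, hy']

theorem equivBaseChange_smul (e : W ≃ₗ[k] W') (σ : K ≃ₐ[k] K) (y : K ⊗[k] W) :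
    e.baseChange k K W W' (σ • y) = σ • e.baseChange k K W W' y :=
  baseChange_smul e.toLinearMap σ y

theorem baseChange_isometry {Ψ : LinearMap.BilinForm k W} {Ψ' : LinearMap.BilinForm k W'}
    (e : W ≃ₗ[k] W') (he : ∀ w₁ w₂, Ψ' (e w₁) (e w₂) = Ψ w₁ w₂) (x y : K ⊗[k] W) :
    Ψ'.baseChange K (e.baseChange k K W W' x) (e.baseChange k K W W' y) = Ψ.baseChange K x y := by
  induction x using TensorProduct.induction_on with
  | zero => simp
  | tmul c w =>
    induction y using TensorProduct.induction_on with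
    | zero => simp
    | tmul c' w' => simp [he]
    | add y y' hy hy' => simp only [map_add, hy, hy']
  | add x x' hx hx' => simp only [map_add, LinearMap.add_apply, hx, hx']

end BaseChangeEquivariant

end Groth.Agent.Lib.Helper24
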