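import Groth.Agent.Lib.Helper24.GalDescent
import Mathlib.FieldTheory.Galois.Basic
import Mathlib.LinearAlgebra.TensorProduct.Basis
import Mathlib.LinearAlgebra.Basis.VectorSpace

/-!
Galois descent helper lemmas, part 2 (helper24): fixed points of `K ⊗[k] W` for a finite Galois
extension, descent of equivariant isomorphisms.
-/

set_option autoImplicit false
universe u v w w' w''

open scoped TensorProduct

namespace Groth.Agent.Lib.Helper24

open GalDesc Module

section Untwisted

variable {k : Type u} {K : Type v} [Field k] [Field K] [Algebra k K]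
variable {W : Type w} [AddCommGroup W] [Module k W] {W' : Type w'} [AddCommGroup W'] [Module k W']

theorem baseChange_repr_smul {ι : Type*} (b : Basis ι k W) (σ : K ≃ₐ[k] K) (x : K ⊗[k] W) (i : ι) :
    (b.baseChange K).repr (σ • x) i = σ ((b.baseChange K).repr x i) := by
  induction x using TensorProduct.induction_on with
  | zero => simp
  | tmul c w => simp [smul_tmul_left]
  | add y y' hy hy' => simp only [smul_add, map_add, Finsupp.add_apply, hy, hy']

theorem one_tmul_injective : Function.Injective (fun w : W => (1 : K) ⊗ₜ[k] w) := by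
  intro w w' h
  let b := Basis.ofVectorSpace k W
  apply b.repr.injective
  ext i
  have h1 := congrArg (fun x => (b.baseChange K).repr x i) h
  simp only [Basis.baseChange_repr_tmul] at h1
  have h2 : algebraMap k K (b.repr w i) = algebraMap k K (b.repr w' i) := by
    simpa [Algebra.algebraMap_eq_smul_one] using h1
  exact (algebraMap k K).injective h2

variable [FiniteDimensional k K] [IsGalois k K]

theorem exists_eq_one_tmul_of_fixed (x : K ⊗[k] W) (hx : ∀ σ : K ≃ₐ[k] K, σ • x = x) :
    ∃ w : W, (1 : K) ⊗ₜ[k] w = x := by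
  let b := Basis.ofVectorSpace k W
  have h1 : ∀ i, ∃ r : k, algebraMap k K r = (b.baseChange K).repr x i := by
    intro i
    have : (b.baseChange K).repr x i ∈ Set.range (algebraMap k K) := by
      rw [IsGalois.mem_range_algebraMap_iff_fixed]
      intro σ
      rw [← baseChange_repr_smul, hx]
    exact this
  choose r hr using h1
  refine ⟨∑ i ∈ ((b.baseChange K).repr x).support, r i • b i, ?_⟩
  conv_rhs => rw [← (b.baseChange K).linearCombination_repr x]
  rw [Finsupp.linearCombination_apply, Finsupp.sum, TensorProduct.tmul_sum]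
  apply Finset.sum_congr rfl
  intro i _
  rw [← hr i, Basis.baseChange_apply, TensorProduct.tmul_smul, Algebra.algebraMap_eq_smul_one,
    TensorProduct.smul_tmul', TensorProduct.smul_tmul', smul_eq_mul, mul_one]

theorem one_tmul_fixed (σ : K ≃ₐ[k] K) (w : W) : σ • ((1 : K) ⊗ₜ[k] w) = (1 : K) ⊗ₜ[k] w := by
  rw [smul_tmul_left, map_one]

/-- An equivariant `K`-linear isomorphism `K ⊗ W ≃ K ⊗ W'` descends to a `k`-linear isomorphism. -/
theorem exists_descent (h : K ⊗[k] W ≃ₗ[K] K ⊗[k] W')
    (hh : ∀ (σ : K ≃ₐ[k] K) (y : K ⊗[k] W), h (σ • y) = σ • h y) :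
    ∃ e : W ≃ₗ[k] W', ∀ w, (1 : K) ⊗ₜ[k] e w = h (1 ⊗ₜ w) := by
  have hh' : ∀ (σ : K ≃ₐ[k] K) (y : K ⊗[k] W'), h.symm (σ • y) = σ • h.symm y := by
    intro σ y
    apply h.injective
    rw [hh, h.apply_symm_apply, h.apply_symm_apply]
  have h1 : ∀ w : W, ∃ w' : W', (1 : K) ⊗ₜ[k] w' = h (1 ⊗ₜ w) := by
    intro w
    apply exists_eq_one_tmul_of_fixed
    intro σ
    rw [← hh, one_tmul_fixed]
  have h2 : ∀ w' : W', ∃ w : W, (1 : K) ⊗ₜ[k] w = h.symm (1 ⊗ₜ w') := by
    intro w'
    apply exists_eq_one_tmul_of_fixed
    intro σ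
    rw [← hh', one_tmul_fixed]
  choose f hf using h1
  choose f' hf' using h2
  have hk : ∀ (r : k) (y : K ⊗[k] W), h (r • y) = r • h y := by
    intro r y
    rw [← algebraMap_smul K r y, map_smul, algebraMap_smul]
  refine ⟨{ toFun := f
            map_add' := ?_
            map_smul' := ?_
            invFun := f'
            left_inv := ?_
            right_inv := ?_ }, hf⟩
  · intro w₁ w₂
    apply one_tmul_injective (k := k) (K := K)
    simp only [hf, TensorProduct.tmul_add, map_add]
  · intro r w
    apply one_tmul_injective (k := k) (K := K)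
    simp only [hf, RingHom.id_apply, TensorProduct.tmul_smul, hk]
  · intro w
    apply one_tmul_injective (k := k) (K := K)
    simp only [hf', hf, h.symm_apply_apply]
  · intro w'
    apply one_tmul_injective (k := k) (K := K)
    simp only [hf', hf, h.apply_symm_apply]

end Untwisted

end Groth.Agent.Lib.Helper24
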