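import Mathlib
import Groth.Prelude.Def_SymTen
import Groth.Prelude.Def_PolLaw2
import Groth.Agent.Lib.Helper24.GamCoef
import Groth.Agent.Lib.Helper24.GamDesc

/-!
# Consequences of the norm law `T^d_A(B) → Γ^d_A(B)` (helper24)

`φ : Γ^d_A(B) → TS^d_A(B)` has kernel and cokernel killed by `d!`, and by `d!`-th powers.
-/

set_option autoImplicit false

namespace Groth.Agent.Lib.Helper24.GamFin

open scoped TensorProduct
open Groth.Agent.Lib.Helper24.GamCoef Groth.Agent.Lib.Helper24.GamDesc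

universe u

variable {A : Type u} [CommRing A]

lemma lid_lTensor {M N : Type u} [AddCommGroup M] [Module A M] [AddCommGroup N] [Module A N]
    (f : M →ₗ[A] N) (w : A ⊗[A] M) :
    TensorProduct.lid A N (f.lTensor A w) = f (TensorProduct.lid A M w) := by
  induction w using TensorProduct.induction_on with
  | zero => simp
  | tmul a m => simp
  | add x y hx hy => simp only [map_add, hx, hy]

/-- the linear coefficient of `(1 + X ⊗ q) ^ n` is `n • q`. -/
lemma cf_one_add_X_pow {N : Type u} [CommRing N] [Algebra A N] (q : N) (n : ℕ) :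
    cf (Polynomial.lcoeff A 1)
      (((1 : Polynomial A ⊗[A] N) + (Polynomial.X : Polynomial A) ⊗ₜ[A] q) ^ n) = n • q := by
  rw [add_comm, add_pow, map_sum]
  have hterm : ∀ m ∈ Finset.range (n + 1), cf (Polynomial.lcoeff A 1)
      (((Polynomial.X : Polynomial A) ⊗ₜ[A] q) ^ m * 1 ^ (n - m) *
        (n.choose m : Polynomial A ⊗[A] N)) = if m = 1 then n • q else 0 := by
    intro m _
    rw [one_pow, mul_one, ← nsmul_eq_mul', map_nsmul, Algebra.TensorProduct.tmul_pow, cf_tmul,
      Polynomial.lcoeff_apply, Polynomial.coeff_X_pow]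
    by_cases h : m = 1
    · subst h
      simp
    · rw [if_neg h, if_neg (fun h' => h h'.symm), zero_smul, smul_zero]
  rw [Finset.sum_congr rfl hterm, Finset.sum_ite_eq']
  by_cases hn : 1 ∈ Finset.range (n + 1)
  · rw [if_pos hn]
  · rw [if_neg hn]
    have : n = 0 := by
      rw [Finset.mem_range] at hn
      omega
    subst this
    rw [zero_smul]

section main

variable {B C : Type u} [CommRing B] [Algebra A B] [CommRing C] [Algebra A C] (d : ℕ)
  (γ : PolLaw.MulLaw A B C d) (hγ : PolLaw.IsGammaD γ) (φ : C →ₐ[A] SymTen.TS A B d)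
  (hφ : ∀ (S : Type u) [CommSemiring S] [Algebra A S] (n : ℕ) (s : Fin n → S) (b : Fin n → B),
      ((SymTen.TS A B d).val.comp φ).toLinearMap.lTensor S
        (γ.law.toFun' S (∑ j, s j ⊗ₜ[A] b j)) =
        ∑ c : Fin d → Fin n, (∏ i, s (c i)) ⊗ₜ[A] PiTensorProduct.tprod A (fun i => b (c i)))

include hγ hφ in
/-- S13396. -/
theorem exists_FT_ground : ∃ F : PolLaw.MulLaw A (⨂[A] _ : Fin d, B) C d.factorial,
    ∀ z : ⨂[A] _ : Fin d, B, ((SymTen.TS A B d).val (φ (F.law.ground z)) : ⨂[A] _ : Fin d, B) =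
      ∏ σ : Equiv.Perm (Fin d), SymTen.perm A B d σ z := by
  obtain ⟨FT, hQ1, -⟩ := exists_FT d γ hγ φ hφ
  refine ⟨FT, fun z => ?_⟩
  have h := congrArg (TensorProduct.lid A _) (hQ1 A ((1 : A) ⊗ₜ[A] z))
  rw [lid_lTensor] at h
  rw [PolynomialLaw.ground_apply]
  have h2 : (SymTen.symmLaw A B d).law.toFun' A ((1 : A) ⊗ₜ[A] z) =
      (1 : A) ⊗ₜ[A] ∏ σ : Equiv.Perm (Fin d), SymTen.perm A B d σ z := by
    unfold SymTen.symmLaw
    rw [PolLaw.MulLaw.prodMap_tmul, one_pow]
  rw [h2, TensorProduct.lid_tmul, one_smul] at h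
  exact h

include hγ hφ in
lemma exists_F' : ∃ F : PolLaw.MulLaw A (SymTen.TS A B d) C d.factorial,
    (∀ (S : Type u) [CommSemiring S] [Algebra A S] (y : S ⊗[A] SymTen.TS A B d),
      φ.toLinearMap.lTensor S (F.law.toFun' S y) = y ^ d.factorial) ∧
    (∀ (S : Type u) [CommSemiring S] [Algebra A S] (c : S ⊗[A] C),
      F.law.toFun' S (φ.toLinearMap.lTensor S c) = c ^ d.factorial) := by
  obtain ⟨F, h1, h2⟩ := exists_F d γ hγ φ hφ
  refine ⟨F, ?_, ?_⟩
  · intro S _ _ y
    exact congrArg (fun L : PolLaw.MulLaw A (SymTen.TS A B d) (SymTen.TS A B d) d.factorial =>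
      L.law.toFun' S y) h1
  · intro S _ _ c
    exact congrArg (fun L : PolLaw.MulLaw A C C d.factorial => L.law.toFun' S c) h2

include hγ hφ in
/-- S13398. -/
theorem pow_factorial : (∀ x : C, φ x = 0 → x ^ d.factorial = 0) ∧
    (∀ y : SymTen.TS A B d, y ^ d.factorial ∈ φ.range) := by
  obtain ⟨F, h1', h2'⟩ := exists_F' d γ hγ φ hφ
  constructor
  · intro x hx
    have h := h2' A ((1 : A) ⊗ₜ[A] x)
    rw [LinearMap.lTensor_tmul, AlgHom.toLinearMap_apply, hx, TensorProduct.tmul_zero,
      Algebra.TensorProduct.tmul_pow, one_pow] at h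
    have h0 : F.law.toFun' A (0 : A ⊗[A] SymTen.TS A B d) = 0 := by
      have := F.homog A (0 : A) (0 : A ⊗[A] SymTen.TS A B d)
      rw [zero_smul, zero_pow (Nat.factorial_ne_zero d), zero_smul] at this
      exact this
    rw [h0] at h
    have := congrArg (TensorProduct.lid A C) h
    rw [map_zero, TensorProduct.lid_tmul, one_smul] at this
    exact this.symm
  · intro y
    have h := h1' A ((1 : A) ⊗ₜ[A] y)
    rw [Algebra.TensorProduct.tmul_pow, one_pow] at h
    have := congrArg (TensorProduct.lid A _) h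
    rw [lid_lTensor, TensorProduct.lid_tmul, one_smul] at this
    exact (AlgHom.mem_range φ).mpr ⟨_, this⟩

include hγ hφ in
/-- S13872. -/
theorem smul_factorial : (∀ x : C, φ x = 0 → d.factorial • x = 0) ∧
    (∀ y : SymTen.TS A B d, d.factorial • y ∈ φ.range) := by
  obtain ⟨F, h1', h2'⟩ := exists_F' d γ hγ φ hφ
  constructor
  · intro x hx
    have h := h2' (Polynomial A)
      ((1 : Polynomial A ⊗[A] C) + (Polynomial.X : Polynomial A) ⊗ₜ[A] x)
    have e1 : φ.toLinearMap.lTensor (Polynomial A)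
        ((1 : Polynomial A ⊗[A] C) + (Polynomial.X : Polynomial A) ⊗ₜ[A] x) = 1 := by
      rw [PolLaw.lTensor_algHom_apply, map_add, map_one, Algebra.TensorProduct.map_tmul, hx,
        TensorProduct.tmul_zero, add_zero]
    rw [e1, (F.mult (Polynomial A)).1] at h
    have := congrArg (cf (Polynomial.lcoeff A 1)) h
    rw [cf_one_add_X_pow, Algebra.TensorProduct.one_def, cf_tmul, Polynomial.lcoeff_apply,
      Polynomial.coeff_one, if_neg one_ne_zero, zero_smul] at this
    exact this.symm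
  · intro y
    have h := h1' (Polynomial A)
      ((1 : Polynomial A ⊗[A] SymTen.TS A B d) + (Polynomial.X : Polynomial A) ⊗ₜ[A] y)
    have := congrArg (cf (Polynomial.lcoeff A 1)) h
    rw [cf_one_add_X_pow, cf_lTensor] at this
    exact (AlgHom.mem_range φ).mpr ⟨_, this⟩

end main

end Groth.Agent.Lib.Helper24.GamFin
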