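import Mathlib
import Groth.Prelude.Def_SymTen
import Groth.Prelude.Def_PolLaw2
import Groth.Agent.Lib.Helper20.PolLawKer
import Groth.Agent.Lib.Helper22.SymTenFree
import Groth.Agent.Lib.Helper24.GamFree
import Groth.Agent.Lib.Helper24.GamUniv
import Groth.Agent.Lib.Helper24.GamDesc
import Groth.Agent.Lib.Helper24.GamFin
import Groth.Agent.Lib.Helper24.PolLawBC

/-!
# Points of `Γ^d_A(B)` with values in a field lift to `TS^d_A(B)` (helper24)

For a field `k` over `A`, every `A`-algebra map `c : Γ^d_A(B) → k` extends along the canonical map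
`φ : Γ^d_A(B) → TS^d_A(B)`.  The extension is obtained from `TS^d_k(k ⊗ B) = Γ^d_k(k ⊗ B)`
(valid because `k ⊗ B` is free over `k`) and the base change of the law `c ∘ γ` to `k`.
-/

set_option autoImplicit false

namespace Groth.Agent.Lib.Helper24.GamRes

open scoped TensorProduct
open Module
open Groth.Agent.Lib.Helper24.GamFree Groth.Agent.Lib.Helper24.GamUniv
  Groth.Agent.Lib.Helper24.GamDesc Groth.Agent.Lib.Helper24.PolLawBC

universe u

variable (A : Type u) [CommRing A] (B : Type u) [CommRing B] [Algebra A B]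
variable (k : Type u) [CommRing k] [Algebra A k] (d : ℕ)

/-- `T^d_A(B) → T^d_k(k ⊗ B)`. -/
noncomputable def κT : (⨂[A] _ : Fin d, B) →ₐ[A] (⨂[k] _ : Fin d, k ⊗[A] B) :=
  PiTensorProduct.liftAlgHom (R := A) (A := fun _ : Fin d => B)
    (((PiTensorProduct.tprod k :
        MultilinearMap k (fun _ : Fin d => k ⊗[A] B) (⨂[k] _ : Fin d, k ⊗[A] B)).restrictScalars
          A).compLinearMap
      (fun _ => (Algebra.TensorProduct.includeRight : B →ₐ[A] k ⊗[A] B).toLinearMap))
    (by simp [PiTensorProduct.one_def]; rfl)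
    (by
      intro x y
      simp [PiTensorProduct.tprod_mul_tprod]
      congr 1
      funext i
      rw [Pi.mul_apply, Algebra.TensorProduct.tmul_mul_tmul, one_mul])

lemma κT_tprod (g : Fin d → B) :
    κT A B k d (PiTensorProduct.tprod A g) = PiTensorProduct.tprod k (fun i => (1 : k) ⊗ₜ[A] g i) := by
  simp [κT]

lemma κT_reindex (σ : Equiv.Perm (Fin d)) (t : ⨂[A] _ : Fin d, B) :
    κT A B k d (PiTensorProduct.reindex A (fun _ : Fin d => B) σ t) =
      PiTensorProduct.reindex k (fun _ : Fin d => k ⊗[A] B) σ (κT A B k d t) := by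
  induction t using PiTensorProduct.induction_on with
  | smul_tprod r g =>
    have h1 : κT A B k d (PiTensorProduct.reindex A (fun _ : Fin d => B) σ
        (r • PiTensorProduct.tprod A g)) =
        r • PiTensorProduct.tprod k (fun i => (1 : k) ⊗ₜ[A] g (σ.symm i)) := by
      rw [map_smul, PiTensorProduct.reindex_tprod, map_smul, κT_tprod]
    have h2 : PiTensorProduct.reindex k (fun _ : Fin d => k ⊗[A] B) σ
        (κT A B k d (r • PiTensorProduct.tprod A g)) =
        r • PiTensorProduct.tprod k (fun i => (1 : k) ⊗ₜ[A] g (σ.symm i)) := by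
      rw [map_smul, κT_tprod, ← algebraMap_smul k r, map_smul, PiTensorProduct.reindex_tprod,
        algebraMap_smul]
    rw [h1, h2]
  | add x y hx hy => simp only [map_add, hx, hy]

/-- `TS^d_A(B) → TS^d_k(k ⊗ B)`. -/
noncomputable def κ : SymTen.TS A B d →+* SymTen.TS k (k ⊗[A] B) d :=
  ((κT A B k d).toRingHom.comp (SymTen.TS A B d).val.toRingHom).codRestrict
    (SymTen.TS k (k ⊗[A] B) d)
    (fun t σ => by
      show PiTensorProduct.reindex k (fun _ : Fin d => k ⊗[A] B) σ (κT A B k d t.1) = κT A B k d t.1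
      rw [← κT_reindex, t.2 σ])

lemma val_κ (t : SymTen.TS A B d) :
    ((κ A B k d t : SymTen.TS k (k ⊗[A] B) d) : ⨂[k] _ : Fin d, k ⊗[A] B) = κT A B k d t.1 := rfl

lemma κT_single (j : Fin d) (b : B) :
    κT A B k d (PiTensorProduct.singleAlgHom (R := A) (A := fun _ : Fin d => B) j b) =
      PiTensorProduct.singleAlgHom (R := k) (A := fun _ : Fin d => k ⊗[A] B) j
        ((1 : k) ⊗ₜ[A] b) := by
  rw [PiTensorProduct.singleAlgHom_apply, PiTensorProduct.singleAlgHom_apply, κT_tprod]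
  congr 1
  ext i
  simp only [MonoidHom.mulSingle_apply, Pi.mulSingle_apply]
  split_ifs with h
  · subst h
    rfl
  · rfl

section points

variable (S : Type u) [CommSemiring S] [Algebra A S]

/-- `S → k ⊗ S`. -/
noncomputable abbrev iS : S →ₐ[A] k ⊗[A] S := Algebra.TensorProduct.includeRight

/-- the `k ⊗ S`-point of `k ⊗ B` attached to an `S`-point of `B`. -/
noncomputable def pt (x : S ⊗[A] B) : (k ⊗[A] S) ⊗[k] (k ⊗[A] B) :=
  (Algebra.TensorProduct.cancelBaseChange A k (k ⊗[A] S) (k ⊗[A] S) B).symm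
    ((iS A k S).toLinearMap.rTensor B x)

lemma pt_tmul (s : S) (b : B) :
    pt A B k S (s ⊗ₜ[A] b) = ((1 : k) ⊗ₜ[A] s) ⊗ₜ[k] ((1 : k) ⊗ₜ[A] b) := by
  unfold pt
  rw [LinearMap.rTensor_tmul, Algebra.TensorProduct.cancelBaseChange_symm_tmul]
  rfl

lemma pt_add (x y : S ⊗[A] B) : pt A B k S (x + y) = pt A B k S x + pt A B k S y := by
  unfold pt
  rw [map_add, map_add]

/-- `S ⊗ T^d_A(B) → (k ⊗ S) ⊗_k T^d_k(k ⊗ B)`. -/
noncomputable def ΛT : S ⊗[A] (⨂[A] _ : Fin d, B) →ₐ[A]
    (k ⊗[A] S) ⊗[k] (⨂[k] _ : Fin d, k ⊗[A] B) :=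
  (Algebra.TensorProduct.mapOfCompatibleSMul k A A (k ⊗[A] S) (⨂[k] _ : Fin d, k ⊗[A] B)).comp
    (Algebra.TensorProduct.map (iS A k S) (κT A B k d))

lemma ΛT_tmul (s : S) (t : ⨂[A] _ : Fin d, B) :
    ΛT A B k d S (s ⊗ₜ[A] t) = ((1 : k) ⊗ₜ[A] s) ⊗ₜ[k] κT A B k d t := rfl

lemma ΛT_slot (j : Fin d) (x : S ⊗[A] B) :
    ΛT A B k d S (Algebra.TensorProduct.map (AlgHom.id S S)
      (PiTensorProduct.singleAlgHom (R := A) (A := fun _ : Fin d => B) j) x) =
      Algebra.TensorProduct.map (AlgHom.id (k ⊗[A] S) (k ⊗[A] S))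
        (PiTensorProduct.singleAlgHom (R := k) (A := fun _ : Fin d => k ⊗[A] B) j)
        (pt A B k S x) := by
  induction x using TensorProduct.induction_on with
  | zero =>
    have : pt A B k S (0 : S ⊗[A] B) = 0 := by
      unfold pt
      rw [map_zero, map_zero]
    rw [this, map_zero, map_zero, map_zero]
  | tmul s b =>
    rw [pt_tmul, Algebra.TensorProduct.map_tmul, Algebra.TensorProduct.map_tmul, ΛT_tmul,
      κT_single, AlgHom.id_apply, AlgHom.id_apply]
  | add x y hx hy => rw [pt_add, map_add, map_add, map_add, hx, hy]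

lemma ΛT_tpow (x : S ⊗[A] B) :
    ΛT A B k d S ((SymTen.tpowLaw A B d).law.toFun' S x) =
      (SymTen.tpowLaw k (k ⊗[A] B) d).law.toFun' (k ⊗[A] S) (pt A B k S x) := by
  unfold SymTen.tpowLaw
  rw [PolLaw.MulLaw.prodMap_toFun', PolLaw.MulLaw.prodMap_toFun', map_prod]
  exact Finset.prod_congr rfl fun j _ => ΛT_slot A B k d S j x

lemma H_identity (H : (⨂[k] _ : Fin d, k ⊗[A] B) →ₗ[k] k) (w : S ⊗[A] (⨂[A] _ : Fin d, B)) :
    H.lTensor (k ⊗[A] S) (ΛT A B k d S w) =
      (Algebra.TensorProduct.rid k (k ⊗[A] S) (k ⊗[A] S)).symm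
        (TensorProduct.comm A S k
          (((H.restrictScalars A) ∘ₗ (κT A B k d).toLinearMap).lTensor S w)) := by
  induction w using TensorProduct.induction_on with
  | zero => simp
  | tmul s t =>
    rw [ΛT_tmul, LinearMap.lTensor_tmul, LinearMap.lTensor_tmul, TensorProduct.comm_tmul,
      Algebra.TensorProduct.rid_symm_apply, LinearMap.comp_apply, LinearMap.restrictScalars_apply,
      AlgHom.toLinearMap_apply]
    conv_lhs => rw [← mul_one (H (κT A B k d t)), ← smul_eq_mul, ← TensorProduct.smul_tmul,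
      TensorProduct.smul_tmul', smul_eq_mul, mul_one]
  | add x y hx hy => simp only [map_add, hx, hy]

lemma pm_iS (z : S ⊗[A] k) :
    pm k (k ⊗[A] S) ((iS A k S).toLinearMap.rTensor k z) = TensorProduct.comm A S k z := by
  induction z using TensorProduct.induction_on with
  | zero => simp
  | tmul s a =>
    rw [LinearMap.rTensor_tmul, pm_tmul, TensorProduct.comm_tmul, AlgHom.toLinearMap_apply,
      Algebra.TensorProduct.includeRight_apply, Algebra.TensorProduct.algebraMap_apply,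
      Algebra.TensorProduct.tmul_mul_tmul, one_mul, mul_one]
    rfl
  | add x y hx hy => simp only [map_add, hx, hy]

lemma bc_pt {d' : ℕ} (F : PolLaw.MulLaw A B k d') (x : S ⊗[A] B) :
    (bcMul k F).law.toFun' (k ⊗[A] S) (pt A B k S x) =
      (Algebra.TensorProduct.rid k (k ⊗[A] S) (k ⊗[A] S)).symm
        (TensorProduct.comm A S k (F.law.toFun' S x)) := by
  rw [bcMul_apply]
  unfold bcFun pt
  rw [AlgEquiv.apply_symm_apply, ← PolynomialLaw.isCompat_apply', pm_iS]

end points

end Groth.Agent.Lib.Helper24.GamRes
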