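import Mathlib
import Groth.Prelude.Def_SymTen
import Groth.Prelude.Def_PolLaw2
import Groth.Agent.Lib.Helper24.GamCoef
import Groth.Agent.Lib.Helper24.GamFree
import Groth.Agent.Lib.Helper24.GamUniv
import Groth.Agent.Lib.Helper24.GamSpan
import Groth.Agent.Lib.Helper24.GamRes
import Groth.Agent.Lib.Helper24.KerField

/-!
# `Γ^d_A(B)` is of finite type when `B` is (helper24, S13713)

* Noether: over a noetherian ring `Z`, `TS^d_Z(P₀)` is of finite type when `P₀` is (Artin–Tate).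
* For `P₀` free over `Z`, the orbit sums of `TS^d_A(A ⊗ P₀)` are the images of those of
  `TS^d_Z(P₀)`, so `TS^d_A(A ⊗ P₀)` is of finite type over any `Z`-algebra `A`.
* `Γ^d_A(A ⊗ P₀) = TS^d_A(A ⊗ P₀) → Γ^d_A(B)` is surjective for `A ⊗ P₀ → B` surjective.
-/

set_option autoImplicit false

namespace Groth.Agent.Lib.Helper24.GamFT

open scoped TensorProduct
open Groth.Agent.Lib.Helper24.GamCoef Groth.Agent.Lib.Helper24.GamFree
  Groth.Agent.Lib.Helper24.GamUniv Groth.Agent.Lib.Helper24.GamSpan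
  Groth.Agent.Lib.Helper24.GamRes Groth.Agent.Lib.Helper24.KerField

universe u

section noether

variable (Z : Type u) [CommRing Z] (P₀ : Type u) [CommRing P₀] [Algebra Z P₀] (d : ℕ)

lemma tprod_eq_prod_single (g : Fin d → P₀) :
    PiTensorProduct.tprod Z g =
      ∏ j, PiTensorProduct.singleAlgHom (R := Z) (A := fun _ : Fin d => P₀) j (g j) := by
  conv_lhs => rw [← Finset.univ_prod_mulSingle g]
  rw [PiTensorProduct.tprod_prod]
  refine Finset.prod_congr rfl fun j _ => ?_
  rw [PiTensorProduct.singleAlgHom_apply]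
  rfl

lemma finiteType_tensorPower [Algebra.FiniteType Z P₀] :
    Algebra.FiniteType Z (⨂[Z] _ : Fin d, P₀) := by
  classical
  obtain ⟨s, hs⟩ := (Algebra.FiniteType.out : (⊤ : Subalgebra Z P₀).FG)
  obtain ⟨G, hG⟩ : ∃ G : Finset (⨂[Z] _ : Fin d, P₀), G = Finset.univ.biUnion (fun j : Fin d =>
      s.image (PiTensorProduct.singleAlgHom (R := Z) (A := fun _ : Fin d => P₀) j)) := ⟨_, rfl⟩
  refine ⟨⟨G, ?_⟩⟩
  have hsingle : ∀ (j : Fin d) (b : P₀),
      PiTensorProduct.singleAlgHom (R := Z) (A := fun _ : Fin d => P₀) j b ∈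
        Algebra.adjoin Z (↑G : Set (⨂[Z] _ : Fin d, P₀)) := by
    intro j b
    have hle : Algebra.adjoin Z (↑s : Set P₀) ≤ (Algebra.adjoin Z
        (↑G : Set (⨂[Z] _ : Fin d, P₀))).comap
        (PiTensorProduct.singleAlgHom (R := Z) (A := fun _ : Fin d => P₀) j) := by
      apply Algebra.adjoin_le
      intro x hx
      rw [SetLike.mem_coe, Subalgebra.mem_comap]
      apply Algebra.subset_adjoin
      rw [hG, Finset.mem_coe, Finset.mem_biUnion]
      exact ⟨j, Finset.mem_univ j, Finset.mem_image_of_mem _ hx⟩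
    have hb : b ∈ Algebra.adjoin Z (↑s : Set P₀) := by
      rw [hs]
      trivial
    exact hle hb
  rw [eq_top_iff]
  intro t _
  have ht : t ∈ Submodule.span Z (Set.range (PiTensorProduct.tprod Z
      (s := fun _ : Fin d => P₀))) := by
    rw [PiTensorProduct.span_tprod_eq_top]
    trivial
  refine (Submodule.span_le (p := Subalgebra.toSubmodule (Algebra.adjoin Z
    (↑G : Set (⨂[Z] _ : Fin d, P₀))))).mpr ?_ ht
  rintro _ ⟨g, rfl⟩
  show PiTensorProduct.tprod Z g ∈ Algebra.adjoin Z (↑G : Set (⨂[Z] _ : Fin d, P₀))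
  rw [tprod_eq_prod_single]
  exact Subalgebra.prod_mem _ (fun j _ => hsingle j (g j))

/-- Noether's theorem on invariants, for symmetric tensors over a noetherian ring. -/
theorem finiteType_TS_of_noetherian [IsNoetherianRing Z] [Algebra.FiniteType Z P₀] :
    Algebra.FiniteType Z (SymTen.TS Z P₀ d) := by
  haveI := finiteType_tensorPower Z P₀ d
  haveI hint : Algebra.IsIntegral (SymTen.TS Z P₀ d) (⨂[Z] _ : Fin d, P₀) :=
    isIntegral_tensorPower Z P₀ d
  haveI : Algebra.FiniteType (SymTen.TS Z P₀ d) (⨂[Z] _ : Fin d, P₀) :=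
    Algebra.FiniteType.of_restrictScalars_finiteType Z _ _
  haveI hfin : Module.Finite (SymTen.TS Z P₀ d) (⨂[Z] _ : Fin d, P₀) :=
    Algebra.IsIntegral.finite
  exact ⟨fg_of_fg_of_fg Z (SymTen.TS Z P₀ d) (⨂[Z] _ : Fin d, P₀) Algebra.FiniteType.out
    hfin.fg_top Subtype.val_injective⟩

end noether

section basechange

variable (Z : Type u) [CommRing Z] (P₀ : Type u) [CommRing P₀] [Algebra Z P₀] {I : Type u}
  (e₀ : Module.Basis I Z P₀) (A : Type u) [CommRing A] [Algebra Z A] (d : ℕ)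

include e₀

lemma κT_E (k : I →₀ ℕ) :
    κT Z P₀ A d (E e₀ d k) = E (Algebra.TensorProduct.basis A e₀) d k := by
  unfold E
  rw [map_sum]
  refine Finset.sum_congr rfl fun c _ => ?_
  rw [bT_apply, bT_apply, κT_tprod]
  congr 1
  funext j
  rw [Algebra.TensorProduct.basis_apply]

theorem finiteType_TS_baseChange (hZ : Algebra.FiniteType Z (SymTen.TS Z P₀ d)) :
    Algebra.FiniteType A (SymTen.TS A (A ⊗[Z] P₀) d) := by
  classical
  obtain ⟨G, hG⟩ := (hZ.out : (⊤ : Subalgebra Z (SymTen.TS Z P₀ d)).FG)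
  refine ⟨⟨G.image (κ Z P₀ A d), ?_⟩⟩
  obtain ⟨SA, hSA⟩ : ∃ SA : Subalgebra A (SymTen.TS A (A ⊗[Z] P₀) d),
      SA = Algebra.adjoin A (↑(G.image (κ Z P₀ A d)) : Set (SymTen.TS A (A ⊗[Z] P₀) d)) :=
    ⟨_, rfl⟩
  rw [← hSA]
  have hκ : ∀ t : SymTen.TS Z P₀ d, κ Z P₀ A d t ∈ SA := by
    intro t
    have ht : t ∈ Algebra.adjoin Z (↑G : Set (SymTen.TS Z P₀ d)) := by
      rw [hG]
      trivial
    induction ht using Algebra.adjoin_induction with
    | mem x hx =>
      rw [hSA]
      exact Algebra.subset_adjoin (Finset.mem_coe.mpr (Finset.mem_image_of_mem _ hx))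
    | algebraMap r =>
      have e : κ Z P₀ A d (algebraMap Z (SymTen.TS Z P₀ d) r) =
          algebraMap A (SymTen.TS A (A ⊗[Z] P₀) d) (algebraMap Z A r) := by
        apply Subtype.ext
        rw [val_κ]
        show κT Z P₀ A d (algebraMap Z (⨂[Z] _ : Fin d, P₀) r) =
          algebraMap A (⨂[A] _ : Fin d, A ⊗[Z] P₀) (algebraMap Z A r)
        rw [AlgHom.commutes, IsScalarTower.algebraMap_apply Z A]
      rw [e]
      exact Subalgebra.algebraMap_mem _ _
    | add x y _ _ hx hy =>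
      rw [map_add]
      exact SA.add_mem hx hy
    | mul x y _ _ hx hy =>
      rw [map_mul]
      exact SA.mul_mem hx hy
  rw [eq_top_iff]
  intro y _
  have hy : y ∈ Submodule.span A (Set.range (E' (Algebra.TensorProduct.basis A e₀) d)) := by
    rw [span_E']
    trivial
  refine (Submodule.span_le (p := Subalgebra.toSubmodule SA)).mpr ?_ hy
  rintro _ ⟨k, rfl⟩
  have e : E' (Algebra.TensorProduct.basis A e₀) d k = κ Z P₀ A d (E' e₀ d k) := by
    apply Subtype.ext
    rw [val_κ]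
    exact (κT_E Z P₀ e₀ A d k).symm
  rw [e]
  exact hκ _

end basechange

section surj

variable {A : Type u} [CommRing A] {B : Type u} [CommRing B] [Algebra A B]
  {P : Type u} [CommRing P] [Algebra A P] {C : Type u} [CommRing C] [Algebra A C]
  {C₁ : Type u} [CommRing C₁] [Algebra A C₁] {d : ℕ}

/-- `Γ^d(P) → Γ^d(B)` is surjective when `P → B` is. -/
theorem surjective_of_precomp (γ : PolLaw.MulLaw A B C d) (hγ : PolLaw.IsGammaD γ)
    (τ₁ : PolLaw.MulLaw A P C₁ d) (π : P →ₐ[A] B) (hπ : Function.Surjective π)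
    (φ : C₁ →ₐ[A] C) (hφ : PolLaw.postcomp φ.toLinearMap τ₁.law = (γ.precomp π).law) :
    Function.Surjective φ := by
  obtain ⟨m, hm⟩ := exists_family_span γ hγ
  have hφ' : ∀ (S : Type u) [CommSemiring S] [Algebra A S] (x : S ⊗[A] P),
      φ.toLinearMap.lTensor S (τ₁.law.toFun' S x) =
        γ.law.toFun' S (π.toLinearMap.lTensor S x) := by
    intro S _ _ x
    exact congrArg (fun L : P →ₚₗ[A] C => L.toFun' S x) hφ
  choose m' hm' using fun i => hπ (m i)
  have hrange : ∀ κ, Gco m γ.law κ ∈ LinearMap.range φ.toLinearMap := by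
    intro κ
    refine ⟨Gco m' τ₁.law κ, ?_⟩
    have e : π.toLinearMap.lTensor (MvPolynomial _ A) (gen m' κ.support) = gen m κ.support := by
      unfold gen
      rw [map_sum]
      refine Finset.sum_congr rfl fun i _ => ?_
      rw [LinearMap.lTensor_tmul, AlgHom.toLinearMap_apply, hm']
    unfold Gco
    rw [← cf_lTensor, hφ', e]
  have htop : (⊤ : Submodule A C) ≤ LinearMap.range φ.toLinearMap := by
    rw [← hm, Submodule.span_le]
    rintro _ ⟨κ, rfl⟩
    exact hrange κ
  intro c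
  obtain ⟨x, hx⟩ := htop (Submodule.mem_top : c ∈ ⊤)
  exact ⟨x, hx⟩

end surj

/-- finite type of `Γ^d_A(B)`, relative to an auxiliary noetherian ring `Z` under `A`. -/
theorem finiteType_aux (Z : Type u) [CommRing Z] [IsNoetherianRing Z]
    {A : Type u} [CommRing A] {B : Type u} [CommRing B] [Algebra A B]
    {C : Type u} [CommRing C] [Algebra A C] [Algebra Z A] [Algebra Z B] [IsScalarTower Z A B]
    {d : ℕ} (γ : PolLaw.MulLaw A B C d) (hγ : PolLaw.IsGammaD γ) [Algebra.FiniteType A B] :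
    Algebra.FiniteType A C := by
  classical
  obtain ⟨n, f, hf⟩ := Algebra.FiniteType.iff_quotient_mvPolynomial''.mp
    (inferInstance : Algebra.FiniteType A B)
  haveI hFT₀ : Algebra.FiniteType Z (SymTen.TS Z (MvPolynomial (Fin n) Z) d) :=
    finiteType_TS_of_noetherian Z (MvPolynomial (Fin n) Z) d
  haveI hFT : Algebra.FiniteType A (SymTen.TS A (A ⊗[Z] MvPolynomial (Fin n) Z) d) :=
    finiteType_TS_baseChange Z (MvPolynomial (Fin n) Z)
      (Module.Free.chooseBasis Z (MvPolynomial (Fin n) Z)) A d hFT₀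
  obtain ⟨g, hg⟩ : ∃ g : MvPolynomial (Fin n) Z →ₐ[Z] B,
      g = MvPolynomial.aeval (fun i => f (MvPolynomial.X i)) := ⟨_, rfl⟩
  obtain ⟨π, hπdef⟩ : ∃ π : A ⊗[Z] MvPolynomial (Fin n) Z →ₐ[A] B,
      π = Algebra.TensorProduct.lift (Algebra.ofId A B) g (fun _ _ => Commute.all _ _) :=
    ⟨_, rfl⟩
  have hπ : Function.Surjective π := by
    intro b
    obtain ⟨p, rfl⟩ := hf b
    induction p using MvPolynomial.induction_on with
    | C a =>
      refine ⟨a ⊗ₜ[Z] 1, ?_⟩
      rw [hπdef, Algebra.TensorProduct.lift_tmul, map_one, mul_one, Algebra.ofId_apply,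
        ← MvPolynomial.algebraMap_eq, AlgHom.commutes]
    | add p q hp hq =>
      obtain ⟨x, hx⟩ := hp
      obtain ⟨y, hy⟩ := hq
      exact ⟨x + y, by rw [map_add, map_add, hx, hy]⟩
    | mul_X p i hp =>
      obtain ⟨x, hx⟩ := hp
      refine ⟨x * ((1 : A) ⊗ₜ[Z] MvPolynomial.X i), ?_⟩
      rw [map_mul, map_mul, hx, hπdef, Algebra.TensorProduct.lift_tmul, map_one, one_mul, hg,
        MvPolynomial.aeval_X]
  obtain ⟨φ, hφ, -⟩ := isGammaD_τ (Algebra.TensorProduct.basis A
    (Module.Free.chooseBasis Z (MvPolynomial (Fin n) Z))) d C (γ.precomp π)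
  have hsurj := surjective_of_precomp γ hγ (τ (Algebra.TensorProduct.basis A
    (Module.Free.chooseBasis Z (MvPolynomial (Fin n) Z))) d) π hπ φ hφ
  exact Algebra.FiniteType.of_surjective φ hsurj

/-- S13713. -/
theorem finiteType_of_isGammaD {A : Type u} [CommRing A] {B : Type u} [CommRing B] [Algebra A B]
    {C : Type u} [CommRing C] [Algebra A C] {d : ℕ} (γ : PolLaw.MulLaw A B C d)
    (hγ : PolLaw.IsGammaD γ) [Algebra.FiniteType A B] : Algebra.FiniteType A C := by
  letI : Algebra (ULift.{u} ℤ) A := ULift.algebra' ℤ A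
  letI : Algebra (ULift.{u} ℤ) B := ULift.algebra' ℤ B
  haveI : IsScalarTower (ULift.{u} ℤ) A B := inferInstance
  haveI : IsNoetherianRing (ULift.{u} ℤ) :=
    isNoetherianRing_of_ringEquiv ℤ (ULift.ringEquiv (R := ℤ)).symm
  exact finiteType_aux (ULift.{u} ℤ) γ hγ

end Groth.Agent.Lib.Helper24.GamFT
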