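import Mathlib
import Groth.Prelude.Def_SymTen

/-!
# Symmetric tensors commute with filtered colimits (helper24)
-/

set_option autoImplicit false
universe u
open scoped TensorProduct

namespace Groth.Agent.Lib.Helper24.TSLim

open SymTen

section Basic
variable (A : Type u) [CommRing A] {B C D : Type u} [CommRing B] [Algebra A B]
  [CommRing C] [Algebra A C] [CommRing D] [Algebra A D] (d : ℕ)

theorem tmap_id (z : ⨂[A] _ : Fin d, B) : tmap A d (AlgHom.id A B) z = z := by
  induction z using PiTensorProduct.induction_on with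
  | smul_tprod r f => simp
  | add x y hx hy => simp [hx, hy]

theorem tmap_comp (f : B →ₐ[A] C) (g : C →ₐ[A] D) (z : ⨂[A] _ : Fin d, B) :
    tmap A d g (tmap A d f z) = tmap A d (g.comp f) z := by
  induction z using PiTensorProduct.induction_on with
  | smul_tprod r f => simp
  | add x y hx hy => simp [hx, hy]

theorem map_update {κ : Type*} [DecidableEq κ] {X Y : Type*} (f : X → Y) (x : κ → X) (b : κ → Y)
    (hx : ∀ k, f (x k) = b k) (k : κ) (v : X) (w : Y) (hvw : f v = w) (k' : κ) :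
    f (Function.update x k v k') = Function.update b k w k' := by
  by_cases hk : k' = k
  · subst hk; simp [hvw]
  · simp [Function.update_of_ne hk, hx]

end Basic

section Lim
variable {A : Type u} [CommRing A] {B : Type u} [CommRing B] [Algebra A B]
    {ι : Type u} [Preorder ι] [IsDirected ι (fun i j => i ≤ j)] [Nonempty ι]
    (Bi : ι → Type u) [∀ i, CommRing (Bi i)] [∀ i, Algebra A (Bi i)]
    (t : ∀ i j : ι, i ≤ j → (Bi i →ₐ[A] Bi j)) (φ : ∀ i : ι, Bi i →ₐ[A] B)
    (hcomp : ∀ (i j : ι) (h : i ≤ j), (φ j).comp (t i j h) = φ i)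
    (hsurj : ∀ b : B, ∃ (i : ι) (x : Bi i), φ i x = b)
    (hzero : ∀ (i : ι) (x : Bi i), φ i x = 0 → ∃ (j : ι) (h : i ≤ j), t i j h x = 0)
    (hid : ∀ (i : ι) (h : i ≤ i), t i i h = AlgHom.id A (Bi i))
    (htrans : ∀ (i j k : ι) (hij : i ≤ j) (hjk : j ≤ k),
      (t j k hjk).comp (t i j hij) = t i k (hij.trans hjk)) (d : ℕ)

omit [Nonempty ι] in
theorem exists_ub [Nonempty ι] {κ : Type*} [Finite κ] (f : κ → ι) : ∃ M, ∀ k, f k ≤ M := by
  classical
  haveI := Fintype.ofFinite κ
  obtain ⟨M, hM⟩ := Finset.exists_le (Finset.univ.image f)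
  exact ⟨M, fun k => hM _ (Finset.mem_image_of_mem f (Finset.mem_univ k))⟩

include hcomp hsurj in
theorem exists_lift {κ : Type*} [Finite κ] (b : κ → B) :
    ∃ (i : ι) (x : κ → Bi i), ∀ k, φ i (x k) = b k := by
  choose j y hy using hsurj
  obtain ⟨M, hM⟩ := exists_ub (fun k => j (b k))
  refine ⟨M, fun k => t _ M (hM k) (y (b k)), fun k => ?_⟩
  have := DFunLike.congr_fun (hcomp (j (b k)) M (hM k)) (y (b k))
  exact this.trans (hy (b k))

include hcomp hsurj in
theorem exists_lift₂ {κ : Type*} [Finite κ] (b : κ → B) (c c' : B) :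
    ∃ (i : ι) (x : κ → Bi i) (y y' : Bi i),
      (∀ k, φ i (x k) = b k) ∧ φ i y = c ∧ φ i y' = c' := by
  obtain ⟨i, Y, hY⟩ := exists_lift Bi t φ hcomp hsurj (κ := Option (Option κ))
    (fun o => o.elim c (fun o' => o'.elim c' b))
  exact ⟨i, fun k => Y (some (some k)), Y none, Y (some none),
    fun k => hY (some (some k)), hY none, hY (some none)⟩

include hcomp hzero htrans in
theorem exists_eq {κ : Type*} [Finite κ] {i j : ι} (x : κ → Bi i) (x' : κ → Bi j)
    (h : ∀ k, φ i (x k) = φ j (x' k)) :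
    ∃ (m : ι) (him : i ≤ m) (hjm : j ≤ m), ∀ k, t i m him (x k) = t j m hjm (x' k) := by
  obtain ⟨l, hil, hjl⟩ := exists_ge_ge i j
  have h0 : ∀ k, φ l (t i l hil (x k) - t j l hjl (x' k)) = 0 := by
    intro k
    rw [map_sub, sub_eq_zero]
    have h1 : φ l (t i l hil (x k)) = φ i (x k) := DFunLike.congr_fun (hcomp i l hil) (x k)
    have h2 : φ l (t j l hjl (x' k)) = φ j (x' k) := DFunLike.congr_fun (hcomp j l hjl) (x' k)
    exact h1.trans ((h k).trans h2.symm)
  choose lk hlk hk using fun k => hzero l _ (h0 k)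
  obtain ⟨M0, hM0⟩ := exists_ub lk
  obtain ⟨m, hM0m, hlm⟩ := exists_ge_ge M0 l
  refine ⟨m, hil.trans hlm, hjl.trans hlm, fun k => ?_⟩
  have e1 : ∀ (i' : ι) (hi'l : i' ≤ l) (h' : i' ≤ m) (z : Bi i'),
      t i' m h' z = t (lk k) m ((hM0 k).trans hM0m) (t l (lk k) (hlk k) (t i' l hi'l z)) := by
    intro i' hi'l h' z
    have a1 : t l (lk k) (hlk k) (t i' l hi'l z) = t i' (lk k) (hi'l.trans (hlk k)) z :=
      DFunLike.congr_fun (htrans i' l (lk k) hi'l (hlk k)) z
    have a2 : t (lk k) m ((hM0 k).trans hM0m) (t i' (lk k) (hi'l.trans (hlk k)) z) = t i' m h' z :=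
      DFunLike.congr_fun (htrans i' (lk k) m (hi'l.trans (hlk k)) ((hM0 k).trans hM0m)) z
    rw [a1, a2]
  rw [← sub_eq_zero, e1 i hil _ (x k), e1 j hjl _ (x' k), ← map_sub, ← map_sub, hk k, map_zero]

/-- transition maps on tensor powers -/
noncomputable def g (i j : ι) (h : i ≤ j) :
    (⨂[A] _ : Fin d, Bi i) →ₗ[A] (⨂[A] _ : Fin d, Bi j) := (tmap A d (t i j h)).toLinearMap

variable [DecidableEq ι]

include hcomp hsurj hzero htrans in
theorem exists_Psi :
    ∃ Ψ : (⨂[A] _ : Fin d, B) →ₗ[A]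
        Module.DirectLimit (fun i => ⨂[A] _ : Fin d, Bi i) (g Bi t d),
      ∀ (i : ι) (z : ⨂[A] _ : Fin d, Bi i), Ψ (tmap A d (φ i) z) =
        Module.DirectLimit.of A ι (fun i => ⨂[A] _ : Fin d, Bi i) (g Bi t d) i z := by
  obtain ⟨F, KP⟩ : ∃ F : (Fin d → B) →
      Module.DirectLimit (fun i => ⨂[A] _ : Fin d, Bi i) (g Bi t d),
      ∀ (b : Fin d → B) (i : ι) (x : Fin d → Bi i), (∀ k, φ i (x k) = b k) →
        F b = Module.DirectLimit.of A ι (fun i => ⨂[A] _ : Fin d, Bi i) (g Bi t d) i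
          (PiTensorProduct.tprod A x) := by
    choose I X hX using fun b : Fin d → B => exists_lift Bi t φ hcomp hsurj b
    refine ⟨fun b => Module.DirectLimit.of A ι (fun i => ⨂[A] _ : Fin d, Bi i) (g Bi t d) (I b)
      (PiTensorProduct.tprod A (X b)), fun b i x hx => ?_⟩
    obtain ⟨m, h1, h2, hm⟩ := exists_eq Bi t φ hcomp hzero htrans (X b) x
      (fun k => (hX b k).trans (hx k).symm)
    have e1 : Module.DirectLimit.of A ι (fun i => ⨂[A] _ : Fin d, Bi i) (g Bi t d) (I b)
        (PiTensorProduct.tprod A (X b)) =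
        Module.DirectLimit.of A ι (fun i => ⨂[A] _ : Fin d, Bi i) (g Bi t d) m
          (g Bi t d (I b) m h1 (PiTensorProduct.tprod A (X b))) :=
      (Module.DirectLimit.of_f).symm
    have e2 : Module.DirectLimit.of A ι (fun i => ⨂[A] _ : Fin d, Bi i) (g Bi t d) i
        (PiTensorProduct.tprod A x) =
        Module.DirectLimit.of A ι (fun i => ⨂[A] _ : Fin d, Bi i) (g Bi t d) m
          (g Bi t d i m h2 (PiTensorProduct.tprod A x)) :=
      (Module.DirectLimit.of_f).symm
    beta_reduce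
    rw [e1, e2]
    have e3 : g Bi t d (I b) m h1 (PiTensorProduct.tprod A (X b)) =
        g Bi t d i m h2 (PiTensorProduct.tprod A x) := by
      show tmap A d (t (I b) m h1) (PiTensorProduct.tprod A (X b)) =
        tmap A d (t i m h2) (PiTensorProduct.tprod A x)
      rw [tmap_tprod, tmap_tprod]
      exact congrArg _ (funext hm)
    rw [e3]
  have hadd : ∀ [DecidableEq (Fin d)] (b : Fin d → B) (k : Fin d) (c c' : B),
      F (Function.update b k (c + c')) = F (Function.update b k c) + F (Function.update b k c') := by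
    intro _ b k c c'
    obtain ⟨i, x, y, y', hx, hy, hy'⟩ := exists_lift₂ Bi t φ hcomp hsurj b c c'
    rw [KP _ i _ (map_update (φ i) x b hx k (y + y') (c + c') (by rw [map_add, hy, hy'])),
      KP _ i _ (map_update (φ i) x b hx k y c hy),
      KP _ i _ (map_update (φ i) x b hx k y' c' hy'),
      MultilinearMap.map_update_add, map_add]
  have hsmul : ∀ [DecidableEq (Fin d)] (b : Fin d → B) (k : Fin d) (a : A) (c : B),
      F (Function.update b k (a • c)) = a • F (Function.update b k c) := by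
    intro _ b k a c
    obtain ⟨i, x, y, y', hx, hy, hy'⟩ := exists_lift₂ Bi t φ hcomp hsurj b c c
    rw [KP _ i _ (map_update (φ i) x b hx k (a • y) (a • c) (by rw [map_smul, hy])),
      KP _ i _ (map_update (φ i) x b hx k y c hy),
      MultilinearMap.map_update_smul, map_smul]
  refine ⟨PiTensorProduct.lift
    { toFun := F, map_update_add' := hadd, map_update_smul' := hsmul }, fun i z => ?_⟩
  induction z using PiTensorProduct.induction_on with
  | smul_tprod r x =>
    simp only [map_smul, tmap_tprod, PiTensorProduct.lift.tprod, MultilinearMap.coe_mk]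
    rw [KP _ i x (fun _ => rfl)]
  | add x y hx hy => rw [map_add, map_add, map_add, hx, hy]

omit [DecidableEq ι] in
include hcomp hsurj hzero hid htrans in
theorem tmap_eq_zero (i : ι) (z : ⨂[A] _ : Fin d, Bi i) (hz : tmap A d (φ i) z = 0) :
    ∃ (j : ι) (h : i ≤ j), tmap A d (t i j h) z = 0 := by
  classical
  haveI : DirectedSystem (fun i => ⨂[A] _ : Fin d, Bi i) (fun i j h => ⇑(g Bi t d i j h)) := by
    refine ⟨fun i x => ?_, fun k j i hij hjk x => ?_⟩
    · show tmap A d (t i i _) x = x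
      rw [hid]; exact tmap_id A d x
    · show tmap A d (t j k hjk) (tmap A d (t i j hij) x) = tmap A d (t i k _) x
      rw [tmap_comp, htrans]
  obtain ⟨Ψ, hΨ⟩ := exists_Psi Bi t φ hcomp hsurj hzero htrans d
  have h0 : Module.DirectLimit.of A ι (fun i => ⨂[A] _ : Fin d, Bi i) (g Bi t d) i z = 0 := by
    rw [← hΨ, hz, map_zero]
  obtain ⟨j, hij, hj⟩ := Module.DirectLimit.of.zero_exact h0
  exact ⟨j, hij, hj⟩

omit [DecidableEq ι] in
include hcomp hsurj in
theorem exists_tmap_eq (z : ⨂[A] _ : Fin d, B) :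
    ∃ (i : ι) (y : ⨂[A] _ : Fin d, Bi i), tmap A d (φ i) y = z := by
  induction z using PiTensorProduct.induction_on with
  | smul_tprod r b =>
    obtain ⟨i, x, hx⟩ := exists_lift Bi t φ hcomp hsurj b
    refine ⟨i, r • PiTensorProduct.tprod A x, ?_⟩
    rw [map_smul, tmap_tprod, show (fun k => φ i (x k)) = b from funext hx]
  | add z₁ z₂ h₁ h₂ =>
    obtain ⟨i₁, y₁, e₁⟩ := h₁
    obtain ⟨i₂, y₂, e₂⟩ := h₂
    obtain ⟨i, h1, h2⟩ := exists_ge_ge i₁ i₂
    refine ⟨i, tmap A d (t i₁ i h1) y₁ + tmap A d (t i₂ i h2) y₂, ?_⟩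
    rw [map_add, tmap_comp, tmap_comp, hcomp, hcomp, e₁, e₂]

omit [DecidableEq ι] in
include hcomp hsurj hzero hid htrans in
theorem TS_limit :
    (∀ z : TS A B d, ∃ (i : ι) (y : TS A (Bi i) d), TSmap A d (φ i) y = z) ∧
      ∀ (i : ι) (y : TS A (Bi i) d), TSmap A d (φ i) y = 0 →
        ∃ (j : ι) (h : i ≤ j), TSmap A d (t i j h) y = 0 := by
  constructor
  · intro z
    obtain ⟨i, y₀, hy₀⟩ := exists_tmap_eq Bi t φ hcomp hsurj d z.1
    have hσ : ∀ σ : Equiv.Perm (Fin d), ∃ (j : ι) (h : i ≤ j), tmap A d (t i j h)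
        (PiTensorProduct.reindex A (fun _ : Fin d => Bi i) σ y₀ - y₀) = 0 := by
      intro σ
      apply tmap_eq_zero Bi t φ hcomp hsurj hzero hid htrans d
      rw [map_sub, tmap_reindex, hy₀, (mem_TS_iff A B d z.1).mp z.2 σ, sub_self]
    choose J hJ hJ0 using hσ
    obtain ⟨M0, hM0⟩ := exists_ub J
    obtain ⟨M, hM0M, hiM⟩ := exists_ge_ge M0 i
    have hy : tmap A d (t i M hiM) y₀ ∈ TS A (Bi M) d := by
      refine (mem_TS_iff A (Bi M) d _).mpr fun σ => ?_
      rw [← tmap_reindex, ← sub_eq_zero, ← map_sub]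
      have := congrArg (tmap A d (t (J σ) M ((hM0 σ).trans hM0M))) (hJ0 σ)
      rw [tmap_comp, htrans, map_zero] at this
      exact this
    refine ⟨M, ⟨_, hy⟩, Subtype.ext ?_⟩
    show tmap A d (φ M) (tmap A d (t i M hiM) y₀) = z.1
    rw [tmap_comp, hcomp, hy₀]
  · intro i y hy
    obtain ⟨j, h, hj⟩ := tmap_eq_zero Bi t φ hcomp hsurj hzero hid htrans d i y.1
      (congrArg Subtype.val hy)
    exact ⟨j, h, Subtype.ext hj⟩

end Lim

end Groth.Agent.Lib.Helper24.TSLim
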