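import Mathlib
import Groth.Agent.Lib.Helper24.TSLim

/-!
# Tensor powers of modules commute with directed colimits (helper24)

Module-level version of `TSLim`, with an extra coefficient module `S`.
-/

set_option autoImplicit false
universe u
open scoped TensorProduct

namespace Groth.Agent.Lib.Helper24.TLim

open Groth.Agent.Lib.Helper24

section Basic
variable {R : Type*} [CommRing R]

/-- the `n`-th tensor power of a linear map. -/
noncomputable abbrev Tm (n : ℕ) {M M' : Type*} [AddCommGroup M] [Module R M] [AddCommGroup M']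
    [Module R M'] (f : M →ₗ[R] M') : (⨂[R] _ : Fin n, M) →ₗ[R] (⨂[R] _ : Fin n, M') :=
  PiTensorProduct.map (fun _ => f)

variable {M M' M'' : Type*} [AddCommGroup M] [Module R M] [AddCommGroup M'] [Module R M']
  [AddCommGroup M''] [Module R M''] (n : ℕ)

theorem Tm_id_apply (z : ⨂[R] _ : Fin n, M) : Tm n (LinearMap.id : M →ₗ[R] M) z = z := by
  induction z using PiTensorProduct.induction_on with
  | smul_tprod r f => simp [PiTensorProduct.map_tprod]
  | add x y hx hy => simp [hx, hy]

theorem Tm_comp_apply (f : M →ₗ[R] M') (g : M' →ₗ[R] M'') (z : ⨂[R] _ : Fin n, M) :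
    Tm n g (Tm n f z) = Tm n (g ∘ₗ f) z := by
  induction z using PiTensorProduct.induction_on with
  | smul_tprod r f => simp [PiTensorProduct.map_tprod]
  | add x y hx hy => simp [hx, hy]

theorem Tm_reindex (f : M →ₗ[R] M') (σ : Equiv.Perm (Fin n)) (z : ⨂[R] _ : Fin n, M) :
    Tm n f (PiTensorProduct.reindex R (fun _ : Fin n => M) σ z) =
      PiTensorProduct.reindex R (fun _ : Fin n => M') σ (Tm n f z) := by
  induction z using PiTensorProduct.induction_on with
  | smul_tprod r f => simp [PiTensorProduct.map_tprod, PiTensorProduct.reindex_tprod]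
  | add x y hx hy => simp [hx, hy]

variable (S : Type*) [AddCommMonoid S] [Module R S]

theorem lTm_comp_apply (f : M →ₗ[R] M') (g : M' →ₗ[R] M'') (w : S ⊗[R] (⨂[R] _ : Fin n, M)) :
    (Tm n g).lTensor S ((Tm n f).lTensor S w) = (Tm n (g ∘ₗ f)).lTensor S w := by
  induction w using TensorProduct.induction_on with
  | zero => simp
  | tmul s z => simp only [LinearMap.lTensor_tmul, Tm_comp_apply]
  | add a b ha hb => simp only [map_add, ha, hb]

end Basic

section Lim
variable {R : Type u} [CommRing R] {N : Type u} [AddCommGroup N] [Module R N]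
    {ι : Type u} [Preorder ι] [IsDirected ι (fun i j => i ≤ j)] [Nonempty ι]
    (Mi : ι → Type u) [∀ i, AddCommGroup (Mi i)] [∀ i, Module R (Mi i)]
    (t : ∀ i j : ι, i ≤ j → (Mi i →ₗ[R] Mi j)) (φ : ∀ i : ι, Mi i →ₗ[R] N)
    (hcomp : ∀ (i j : ι) (h : i ≤ j) (x : Mi i), φ j (t i j h x) = φ i x)
    (hsurj : ∀ b : N, ∃ (i : ι) (x : Mi i), φ i x = b)
    (hzero : ∀ (i : ι) (x : Mi i), φ i x = 0 → ∃ (j : ι) (h : i ≤ j), t i j h x = 0)
    (hid : ∀ (i : ι) (h : i ≤ i) (x : Mi i), t i i h x = x)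
    (htrans : ∀ (i j k : ι) (hij : i ≤ j) (hjk : j ≤ k) (x : Mi i),
      t j k hjk (t i j hij x) = t i k (hij.trans hjk) x) (n : ℕ)

include hcomp hsurj in
theorem exists_lift {κ : Type*} [Finite κ] (b : κ → N) :
    ∃ (i : ι) (x : κ → Mi i), ∀ k, φ i (x k) = b k := by
  choose j y hy using hsurj
  obtain ⟨M, hM⟩ := TSLim.exists_ub (fun k => j (b k))
  exact ⟨M, fun k => t _ M (hM k) (y (b k)), fun k => (hcomp _ _ _ _).trans (hy (b k))⟩

include hcomp hsurj in
theorem exists_lift₂ {κ : Type*} [Finite κ] (b : κ → N) (c c' : N) :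
    ∃ (i : ι) (x : κ → Mi i) (y y' : Mi i),
      (∀ k, φ i (x k) = b k) ∧ φ i y = c ∧ φ i y' = c' := by
  obtain ⟨i, Y, hY⟩ := exists_lift Mi t φ hcomp hsurj (κ := Option (Option κ))
    (fun o => o.elim c (fun o' => o'.elim c' b))
  exact ⟨i, fun k => Y (some (some k)), Y none, Y (some none),
    fun k => hY (some (some k)), hY none, hY (some none)⟩

include hcomp hzero htrans in
theorem exists_eq {κ : Type*} [Finite κ] {i j : ι} (x : κ → Mi i) (x' : κ → Mi j)
    (h : ∀ k, φ i (x k) = φ j (x' k)) :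
    ∃ (m : ι) (him : i ≤ m) (hjm : j ≤ m), ∀ k, t i m him (x k) = t j m hjm (x' k) := by
  obtain ⟨l, hil, hjl⟩ := exists_ge_ge i j
  have h0 : ∀ k, φ l (t i l hil (x k) - t j l hjl (x' k)) = 0 := by
    intro k
    rw [map_sub, sub_eq_zero, hcomp, hcomp]
    exact h k
  choose lk hlk hk using fun k => hzero l _ (h0 k)
  obtain ⟨M0, hM0⟩ := TSLim.exists_ub lk
  obtain ⟨m, hM0m, hlm⟩ := exists_ge_ge M0 l
  refine ⟨m, hil.trans hlm, hjl.trans hlm, fun k => ?_⟩
  have e1 : ∀ (i' : ι) (hi'l : i' ≤ l) (h' : i' ≤ m) (z : Mi i'),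
      t i' m h' z = t (lk k) m ((hM0 k).trans hM0m) (t l (lk k) (hlk k) (t i' l hi'l z)) := by
    intro i' hi'l h' z
    rw [htrans, htrans]
  rw [← sub_eq_zero, e1 i hil _ (x k), e1 j hjl _ (x' k), ← map_sub, ← map_sub, hk k, map_zero]

/-- transition maps on tensor powers -/
noncomputable def g (i j : ι) (h : i ≤ j) :
    (⨂[R] _ : Fin n, Mi i) →ₗ[R] (⨂[R] _ : Fin n, Mi j) := Tm n (t i j h)

variable [DecidableEq ι]

include hcomp hsurj hzero htrans in
theorem exists_Psi :
    ∃ Ψ : (⨂[R] _ : Fin n, N) →ₗ[R]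
        Module.DirectLimit (fun i => ⨂[R] _ : Fin n, Mi i) (g Mi t n),
      ∀ (i : ι) (z : ⨂[R] _ : Fin n, Mi i), Ψ (Tm n (φ i) z) =
        Module.DirectLimit.of R ι (fun i => ⨂[R] _ : Fin n, Mi i) (g Mi t n) i z := by
  obtain ⟨F, KP⟩ : ∃ F : (Fin n → N) →
      Module.DirectLimit (fun i => ⨂[R] _ : Fin n, Mi i) (g Mi t n),
      ∀ (b : Fin n → N) (i : ι) (x : Fin n → Mi i), (∀ k, φ i (x k) = b k) →
        F b = Module.DirectLimit.of R ι (fun i => ⨂[R] _ : Fin n, Mi i) (g Mi t n) i
          (PiTensorProduct.tprod R x) := by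
    choose I X hX using fun b : Fin n → N => exists_lift Mi t φ hcomp hsurj b
    refine ⟨fun b => Module.DirectLimit.of R ι (fun i => ⨂[R] _ : Fin n, Mi i) (g Mi t n) (I b)
      (PiTensorProduct.tprod R (X b)), fun b i x hx => ?_⟩
    obtain ⟨m, h1, h2, hm⟩ := exists_eq Mi t φ hcomp hzero htrans (X b) x
      (fun k => (hX b k).trans (hx k).symm)
    have e1 : Module.DirectLimit.of R ι (fun i => ⨂[R] _ : Fin n, Mi i) (g Mi t n) (I b)
        (PiTensorProduct.tprod R (X b)) =
        Module.DirectLimit.of R ι (fun i => ⨂[R] _ : Fin n, Mi i) (g Mi t n) m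
          (g Mi t n (I b) m h1 (PiTensorProduct.tprod R (X b))) :=
      (Module.DirectLimit.of_f).symm
    have e2 : Module.DirectLimit.of R ι (fun i => ⨂[R] _ : Fin n, Mi i) (g Mi t n) i
        (PiTensorProduct.tprod R x) =
        Module.DirectLimit.of R ι (fun i => ⨂[R] _ : Fin n, Mi i) (g Mi t n) m
          (g Mi t n i m h2 (PiTensorProduct.tprod R x)) :=
      (Module.DirectLimit.of_f).symm
    beta_reduce
    rw [e1, e2]
    have e3 : g Mi t n (I b) m h1 (PiTensorProduct.tprod R (X b)) =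
        g Mi t n i m h2 (PiTensorProduct.tprod R x) := by
      show PiTensorProduct.map (fun _ => t (I b) m h1) (PiTensorProduct.tprod R (X b)) =
        PiTensorProduct.map (fun _ => t i m h2) (PiTensorProduct.tprod R x)
      rw [PiTensorProduct.map_tprod, PiTensorProduct.map_tprod]
      exact congrArg _ (funext hm)
    rw [e3]
  have hadd : ∀ [DecidableEq (Fin n)] (b : Fin n → N) (k : Fin n) (c c' : N),
      F (Function.update b k (c + c')) = F (Function.update b k c) + F (Function.update b k c') := by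
    intro _ b k c c'
    obtain ⟨i, x, y, y', hx, hy, hy'⟩ := exists_lift₂ Mi t φ hcomp hsurj b c c'
    rw [KP _ i _ (TSLim.map_update (φ i) x b hx k (y + y') (c + c') (by rw [map_add, hy, hy'])),
      KP _ i _ (TSLim.map_update (φ i) x b hx k y c hy),
      KP _ i _ (TSLim.map_update (φ i) x b hx k y' c' hy'),
      MultilinearMap.map_update_add, map_add]
  have hsmul : ∀ [DecidableEq (Fin n)] (b : Fin n → N) (k : Fin n) (a : R) (c : N),
      F (Function.update b k (a • c)) = a • F (Function.update b k c) := by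
    intro _ b k a c
    obtain ⟨i, x, y, y', hx, hy, hy'⟩ := exists_lift₂ Mi t φ hcomp hsurj b c c
    rw [KP _ i _ (TSLim.map_update (φ i) x b hx k (a • y) (a • c) (by rw [map_smul, hy])),
      KP _ i _ (TSLim.map_update (φ i) x b hx k y c hy),
      MultilinearMap.map_update_smul, map_smul]
  refine ⟨PiTensorProduct.lift
    { toFun := F, map_update_add' := hadd, map_update_smul' := hsmul }, fun i z => ?_⟩
  induction z using PiTensorProduct.induction_on with
  | smul_tprod r x =>
    simp only [map_smul, PiTensorProduct.map_tprod, PiTensorProduct.lift.tprod,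
      MultilinearMap.coe_mk]
    rw [KP _ i x (fun _ => rfl)]
  | add x y hx hy => rw [map_add, map_add, map_add, hx, hy]

omit [DecidableEq ι] in
include hcomp hsurj hzero hid htrans in
/-- an element of `S ⊗ T^n(M_i)` dying in `S ⊗ T^n(N)` dies at a finite stage. -/
theorem lTensor_map_eq_zero (S : Type u) [AddCommMonoid S] [Module R S] (i : ι)
    (w : S ⊗[R] (⨂[R] _ : Fin n, Mi i)) (hw : (Tm n (φ i)).lTensor S w = 0) :
    ∃ (j : ι) (h : i ≤ j), (Tm n (t i j h)).lTensor S w = 0 := by
  classical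
  haveI : DirectedSystem (fun i => ⨂[R] _ : Fin n, Mi i) (fun i j h => ⇑(g Mi t n i j h)) := by
    refine ⟨fun i x => ?_, fun k j i hij hjk x => ?_⟩
    · show Tm n (t i i _) x = x
      have : t i i le_rfl = LinearMap.id := LinearMap.ext (hid i _)
      rw [this, Tm_id_apply]
    · show Tm n (t j k hjk) (Tm n (t i j hij) x) = Tm n (t i k _) x
      have : t j k hjk ∘ₗ t i j hij = t i k (hij.trans hjk) := LinearMap.ext (htrans i j k hij hjk)
      rw [Tm_comp_apply, this]
  obtain ⟨Ψ, hΨ⟩ := exists_Psi Mi t φ hcomp hsurj hzero htrans n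
  have hΘ : ∀ w : S ⊗[R] (⨂[R] _ : Fin n, Mi i),
      (TensorProduct.directLimitRight (g Mi t n) S) (Ψ.lTensor S ((Tm n (φ i)).lTensor S w)) =
      Module.DirectLimit.of R ι (fun i => S ⊗[R] (⨂[R] _ : Fin n, Mi i))
        (fun i j h => (g Mi t n i j h).lTensor S) i w := by
    intro w
    induction w using TensorProduct.induction_on with
    | zero => simp
    | tmul s z =>
      rw [LinearMap.lTensor_tmul, LinearMap.lTensor_tmul, hΨ]
      exact TensorProduct.directLimitRight_tmul_of (g Mi t n) S s z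
    | add a b ha hb => rw [map_add, map_add, map_add, map_add, ha, hb]
  have h0 : Module.DirectLimit.of R ι (fun i => S ⊗[R] (⨂[R] _ : Fin n, Mi i))
      (fun i j h => (g Mi t n i j h).lTensor S) i w = 0 := by
    rw [← hΘ, hw, map_zero, map_zero]
  obtain ⟨j, hij, hj⟩ := Module.DirectLimit.of.zero_exact h0
  exact ⟨j, hij, hj⟩

end Lim

end Groth.Agent.Lib.Helper24.TLim
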