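import Mathlib
import Groth.Agent.Lib.Helper24.TLim

/-!
# A Lazard-type lemma for tensor powers (helper24)

If `N` is flat, `x : F → N` with `F` finitely presented, and `w ∈ S ⊗ T^n(F)` dies in
`S ⊗ T^n(N)`, then `x` factors through a finite free module `a : F → R^k` with `w` dying in
`S ⊗ T^n(R^k)`.
-/

set_option autoImplicit false
universe u
open scoped TensorProduct

namespace Groth.Agent.Lib.Helper24.LemmaK

open Groth.Agent.Lib.Helper24 Groth.Agent.Lib.Helper24.TLim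

variable {R : Type u} [CommRing R] {N : Type u} [AddCommGroup N] [Module R N]
  (S : Type u) [AddCommMonoid S] [Module R S] (n : ℕ)

/-- Step 1: pass to a finitely generated submodule of the target. -/
theorem step1 {F : Type u} [AddCommGroup F] [Module R F] [Module.Finite R F] (x : F →ₗ[R] N)
    (w : S ⊗[R] (⨂[R] _ : Fin n, F)) (hw : (Tm n x).lTensor S w = 0) :
    ∃ (N' : Submodule R N) (_ : N'.FG) (hx : ∀ f, x f ∈ N'),
      (Tm n (x.codRestrict N' hx)).lTensor S w = 0 := by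
  let ι := {N' : Submodule R N // N'.FG}
  haveI : IsDirected ι (fun i j => i ≤ j) :=
    ⟨fun a b => ⟨⟨a.1 ⊔ b.1, a.2.sup b.2⟩, (le_sup_left : a.1 ≤ a.1 ⊔ b.1),
      (le_sup_right : b.1 ≤ a.1 ⊔ b.1)⟩⟩
  haveI : Nonempty ι := ⟨⟨⊥, Submodule.fg_bot⟩⟩
  have hfg : (LinearMap.range x).FG := by
    rw [LinearMap.range_eq_map]
    exact (Module.Finite.fg_top).map x
  let i₀ : ι := ⟨LinearMap.range x, hfg⟩
  let x₀ : F →ₗ[R] ↥(LinearMap.range x) := x.rangeRestrict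
  have hw₀ : (Tm n (i₀.1.subtype)).lTensor S ((Tm n x₀).lTensor S w) = 0 := by
    rw [lTm_comp_apply]
    exact hw
  obtain ⟨j, hij, hj⟩ := TLim.lTensor_map_eq_zero (ι := ι) (fun i => ↥i.1)
    (fun i j h => Submodule.inclusion h) (fun i => i.1.subtype)
    (fun i j h x => rfl)
    (fun b => ⟨⟨Submodule.span R {b}, Submodule.fg_span_singleton b⟩,
      ⟨b, Submodule.subset_span rfl⟩, rfl⟩)
    (fun i x hx => ⟨i, le_rfl, by
      have : x = 0 := Subtype.ext hx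
      rw [this, map_zero]⟩)
    (fun i h x => Subtype.ext rfl)
    (fun i j k hij hjk x => Subtype.ext rfl) n S i₀ ((Tm n x₀).lTensor S w) hw₀
  rw [lTm_comp_apply] at hj
  refine ⟨j.1, j.2, fun f => hij (LinearMap.mem_range_self x f), ?_⟩
  exact hj

/-- Step 2: pass to a finitely presented quotient of the source. -/
theorem step2 {G N' : Type u} [AddCommGroup G] [Module R G] [AddCommGroup N'] [Module R N']
    (p : G →ₗ[R] N') (hp : Function.Surjective p)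
    (w : S ⊗[R] (⨂[R] _ : Fin n, G)) (hw : (Tm n p).lTensor S w = 0) :
    ∃ (K : Submodule R G) (_ : K.FG) (_ : K ≤ LinearMap.ker p),
      (Tm n K.mkQ).lTensor S w = 0 := by
  let ι := {K : Submodule R G // K.FG ∧ K ≤ LinearMap.ker p}
  haveI : IsDirected ι (fun i j => i ≤ j) :=
    ⟨fun a b => ⟨⟨a.1 ⊔ b.1, a.2.1.sup b.2.1, sup_le a.2.2 b.2.2⟩,
      (le_sup_left : a.1 ≤ a.1 ⊔ b.1), (le_sup_right : b.1 ≤ a.1 ⊔ b.1)⟩⟩
  haveI : Nonempty ι := ⟨⟨⊥, Submodule.fg_bot, bot_le⟩⟩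
  let i₀ : ι := ⟨⊥, Submodule.fg_bot, bot_le⟩
  have hw₀ : (Tm n (i₀.1.liftQ p i₀.2.2)).lTensor S ((Tm n i₀.1.mkQ).lTensor S w) = 0 := by
    rw [lTm_comp_apply, Submodule.liftQ_mkQ]
    exact hw
  obtain ⟨j, hij, hj⟩ := TLim.lTensor_map_eq_zero (ι := ι) (fun i => G ⧸ i.1)
    (fun i j h => Submodule.factor h) (fun i => i.1.liftQ p i.2.2)
    (fun i j h x => by
      obtain ⟨g, rfl⟩ := i.1.mkQ_surjective x
      rfl)
    (fun b => by
      obtain ⟨g, rfl⟩ := hp b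
      exact ⟨i₀, i₀.1.mkQ g, rfl⟩)
    (fun i x hx => by
      obtain ⟨g, rfl⟩ := i.1.mkQ_surjective x
      have hg : p g = 0 := hx
      refine ⟨⟨i.1 ⊔ Submodule.span R {g}, i.2.1.sup (Submodule.fg_span_singleton g),
        sup_le i.2.2 (Submodule.span_le.mpr (Set.singleton_subset_iff.mpr hg))⟩,
        (le_sup_left : i.1 ≤ i.1 ⊔ Submodule.span R {g}), ?_⟩
      show Submodule.factor _ (i.1.mkQ g) = 0
      rw [Submodule.factor_mk]
      exact (Submodule.Quotient.mk_eq_zero _).mpr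
        (Submodule.mem_sup_right (Submodule.subset_span rfl)))
    (fun i h x => by
      obtain ⟨g, rfl⟩ := i.1.mkQ_surjective x
      rfl)
    (fun i j k hij hjk x => Submodule.factor_comp_apply _ _ x) n S i₀
      ((Tm n i₀.1.mkQ).lTensor S w) hw₀
  rw [lTm_comp_apply, Submodule.factor_comp_mk] at hj
  exact ⟨j.1, j.2.1, j.2.2, hj⟩

/-- **Lemma K** with coefficients. -/
theorem lemmaK_S [Module.Flat R N] {F : Type u} [AddCommGroup F] [Module R F]
    [Module.FinitePresentation R F] (x : F →ₗ[R] N)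
    (w : S ⊗[R] (⨂[R] _ : Fin n, F)) (hw : (Tm n x).lTensor S w = 0) :
    ∃ (k : ℕ) (a : F →ₗ[R] (Fin k → R)) (y : (Fin k → R) →ₗ[R] N),
      y ∘ₗ a = x ∧ (Tm n a).lTensor S w = 0 := by
  obtain ⟨N', hN', hx, h1⟩ := step1 S n x w hw
  haveI : Module.Finite R N' := Module.Finite.iff_fg.mpr hN'
  obtain ⟨m, q, hq⟩ := Module.Finite.exists_fin' (R := R) (M := N')
  let x₁ : F →ₗ[R] N' := x.codRestrict N' hx
  let p : F × (Fin m → R) →ₗ[R] N' := x₁.coprod q
  have hp : Function.Surjective p := by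
    intro b
    obtain ⟨c, hc⟩ := hq b
    exact ⟨(0, c), by simp [p, hc]⟩
  have hw₁ : (Tm n p).lTensor S ((Tm n (LinearMap.inl R F (Fin m → R))).lTensor S w) = 0 := by
    rw [lTm_comp_apply, LinearMap.coprod_inl]
    exact h1
  obtain ⟨K, hK, hKp, h2⟩ := step2 S n p hp _ hw₁
  rw [lTm_comp_apply] at h2
  haveI : Module.FinitePresentation R ((F × (Fin m → R)) ⧸ K) :=
    Module.finitePresentation_of_surjective K.mkQ K.mkQ_surjective
      (by rw [Submodule.ker_mkQ]; exact hK)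
  let h₁ : ((F × (Fin m → R)) ⧸ K) →ₗ[R] N := N'.subtype ∘ₗ K.liftQ p hKp
  obtain ⟨k, h₂, h₃, h23⟩ := Module.Flat.exists_factorization_of_finitePresentation h₁
  let e : (Fin k →₀ R) ≃ₗ[R] (Fin k → R) := Finsupp.linearEquivFunOnFinite R R (Fin k)
  refine ⟨k, e.toLinearMap ∘ₗ h₂ ∘ₗ K.mkQ ∘ₗ LinearMap.inl R F (Fin m → R),
    h₃ ∘ₗ e.symm.toLinearMap, ?_, ?_⟩
  · apply LinearMap.ext
    intro f
    have e1 : h₃ (h₂ (K.mkQ (f, 0))) = h₁ (K.mkQ (f, 0)) := by
      rw [h23]; rfl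
    simp only [LinearMap.comp_apply, LinearEquiv.coe_coe, LinearEquiv.symm_apply_apply,
      LinearMap.inl_apply]
    rw [e1]
    show N'.subtype (p (f, 0)) = x f
    simp [p, x₁]
  · have : e.toLinearMap ∘ₗ h₂ ∘ₗ K.mkQ ∘ₗ LinearMap.inl R F (Fin m → R) =
        (e.toLinearMap ∘ₗ h₂) ∘ₗ (K.mkQ ∘ₗ LinearMap.inl R F (Fin m → R)) := rfl
    rw [this, ← lTm_comp_apply, h2, map_zero]

/-- **Lemma K** for one element. -/
theorem lemmaK [Module.Flat R N] {F : Type u} [AddCommGroup F] [Module R F]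
    [Module.FinitePresentation R F] (x : F →ₗ[R] N)
    (u : ⨂[R] _ : Fin n, F) (hu : Tm n x u = 0) :
    ∃ (k : ℕ) (a : F →ₗ[R] (Fin k → R)) (y : (Fin k → R) →ₗ[R] N),
      y ∘ₗ a = x ∧ Tm n a u = 0 := by
  obtain ⟨k, a, y, hya, h⟩ := lemmaK_S R n x ((1 : R) ⊗ₜ[R] u)
    (by rw [LinearMap.lTensor_tmul, hu, TensorProduct.tmul_zero])
  refine ⟨k, a, y, hya, ?_⟩
  rw [LinearMap.lTensor_tmul] at h
  have := congrArg (TensorProduct.lid R _) h
  rwa [TensorProduct.lid_tmul, one_smul, map_zero] at this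

/-- **Lemma K** for finitely many elements. -/
theorem lemmaK_finset [Module.Flat R N] {F : Type u} [AddCommGroup F] [Module R F]
    [Module.FinitePresentation R F] (x : F →ₗ[R] N)
    (U : Finset (⨂[R] _ : Fin n, F)) (hU : ∀ u ∈ U, Tm n x u = 0) :
    ∃ (k : ℕ) (a : F →ₗ[R] (Fin k → R)) (y : (Fin k → R) →ₗ[R] N),
      y ∘ₗ a = x ∧ ∀ u ∈ U, Tm n a u = 0 := by
  classical
  induction U using Finset.induction_on with
  | empty =>
    obtain ⟨k, a, y, hya, -⟩ := lemmaK n x 0 (map_zero _)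
    exact ⟨k, a, y, hya, fun u hu => absurd hu (Finset.notMem_empty u)⟩
  | insert u₀ U hu₀ ih =>
    obtain ⟨k₁, a₁, y₁, h1, h1'⟩ := ih (fun u hu => hU u (Finset.mem_insert_of_mem hu))
    have h0 : Tm n y₁ (Tm n a₁ u₀) = 0 := by
      rw [Tm_comp_apply, h1]
      exact hU u₀ (Finset.mem_insert_self _ _)
    obtain ⟨k₂, a₂, y₂, h2, h2'⟩ := lemmaK n y₁ (Tm n a₁ u₀) h0
    refine ⟨k₂, a₂ ∘ₗ a₁, y₂, by rw [← LinearMap.comp_assoc, h2, h1], fun u hu => ?_⟩
    rw [← Tm_comp_apply]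
    rcases Finset.mem_insert.mp hu with rfl | hu
    · exact h2'
    · rw [h1' u hu, map_zero]

end Groth.Agent.Lib.Helper24.LemmaK
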