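import Mathlib
import Groth.Prelude.Def_SymTen
import Groth.Prelude.Def_PolLaw2
import Groth.Agent.Lib.Helper24.GamType
import Groth.Agent.Lib.Helper24.GamCoef
import Groth.Agent.Lib.Helper24.GamFree
import Groth.Agent.Lib.Helper24.GamUniv
import Groth.Agent.Lib.Helper24.GamDesc
import Groth.Agent.Lib.Helper24.TLim
import Groth.Agent.Lib.Helper22.SymTenFree

/-!
# Symmetric tensors: linear functoriality, generalised orbit sums, the tensor power law with
values in `TS^d`, and a criterion for `TS^d_A(B) = Γ^d_A(B)` (helper24)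
-/

set_option autoImplicit false

namespace Groth.Agent.Lib.Helper24.TSGen

open scoped TensorProduct
open Module PiTensorProduct
open Groth.Agent.Lib.Helper24.TLim Groth.Agent.Lib.Helper24.GamType
  Groth.Agent.Lib.Helper24.GamCoef Groth.Agent.Lib.Helper24.GamFree

universe u

section TSm

variable {A : Type u} [CommRing A] {B B' B'' : Type u} [CommRing B] [Algebra A B]
  [CommRing B'] [Algebra A B'] [CommRing B''] [Algebra A B''] (d : ℕ)

/-- the map on symmetric tensors induced by a *linear* map. -/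
noncomputable def TSm (x : B →ₗ[A] B') : SymTen.TS A B d →ₗ[A] SymTen.TS A B' d where
  toFun z := ⟨Tm d x z.1, fun σ => by rw [← Tm_reindex, z.2 σ]⟩
  map_add' z z' := Subtype.ext (by
    show Tm d x ((z + z' : SymTen.TS A B d) : ⨂[A] _ : Fin d, B) = Tm d x z.1 + Tm d x z'.1
    rw [Subalgebra.coe_add, map_add])
  map_smul' r z := Subtype.ext (by
    show Tm d x ((r • z : SymTen.TS A B d) : ⨂[A] _ : Fin d, B) = r • Tm d x z.1
    rw [Subalgebra.coe_smul, map_smul])

lemma val_TSm (x : B →ₗ[A] B') (z : SymTen.TS A B d) :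
    ((TSm d x z : SymTen.TS A B' d) : ⨂[A] _ : Fin d, B') = Tm d x z.1 := rfl

lemma val_comp_TSm (x : B →ₗ[A] B') :
    (SymTen.TS A B' d).val.toLinearMap ∘ₗ TSm d x =
      Tm d x ∘ₗ (SymTen.TS A B d).val.toLinearMap := LinearMap.ext fun _ => rfl

lemma TSm_comp (f : B →ₗ[A] B') (g : B' →ₗ[A] B'') : TSm d g ∘ₗ TSm d f = TSm d (g ∘ₗ f) :=
  LinearMap.ext fun z => Subtype.ext (Tm_comp_apply d f g z.1)

lemma TSm_comp_apply (f : B →ₗ[A] B') (g : B' →ₗ[A] B'') (z : SymTen.TS A B d) :
    TSm d g (TSm d f z) = TSm d (g ∘ₗ f) z := Subtype.ext (Tm_comp_apply d f g z.1)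

lemma tmap_eq_Tm (f : B →ₐ[A] B') (z : ⨂[A] _ : Fin d, B) :
    SymTen.tmap A d f z = Tm d f.toLinearMap z := by
  induction z using PiTensorProduct.induction_on with
  | smul_tprod r b => simp [PiTensorProduct.map_tprod]
  | add x y hx hy => simp [hx, hy]

lemma TSmap_eq_TSm (f : B →ₐ[A] B') (z : SymTen.TS A B d) :
    SymTen.TSmap A d f z = TSm d f.toLinearMap z := Subtype.ext (tmap_eq_Tm d f z.1)

lemma vl_lTSm (S : Type u) [CommSemiring S] [Algebra A S] (x : B →ₗ[A] B')
    (w : S ⊗[A] SymTen.TS A B d) :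
    (SymTen.TS A B' d).val.toLinearMap.lTensor S ((TSm d x).lTensor S w) =
      (Tm d x).lTensor S ((SymTen.TS A B d).val.toLinearMap.lTensor S w) := by
  rw [← LinearMap.comp_apply, ← LinearMap.lTensor_comp, val_comp_TSm, LinearMap.lTensor_comp,
    LinearMap.comp_apply]

lemma lTSm_comp_apply (S : Type u) [CommSemiring S] [Algebra A S] (f : B →ₗ[A] B')
    (g : B' →ₗ[A] B'') (w : S ⊗[A] SymTen.TS A B d) :
    (TSm d g).lTensor S ((TSm d f).lTensor S w) = (TSm d (g ∘ₗ f)).lTensor S w := by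
  rw [← LinearMap.comp_apply, ← LinearMap.lTensor_comp, TSm_comp]

/-- naturality of the tensor power law for linear maps. -/
theorem tpowLaw_lin (x : B →ₗ[A] B') (S : Type u) [CommSemiring S] [Algebra A S]
    (ξ : S ⊗[A] B) :
    (Tm d x).lTensor S ((SymTen.tpowLaw A B d).law.toFun' S ξ) =
      (SymTen.tpowLaw A B' d).law.toFun' S (x.lTensor S ξ) := by
  obtain ⟨n, s, b, rfl⟩ := GamDesc.exists_fin_sum ξ
  rw [Groth.Agent.Lib.Helper22.SymTenFree.tpowLaw_sum, map_sum, map_sum]
  simp only [LinearMap.lTensor_tmul, PiTensorProduct.map_tprod]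
  rw [Groth.Agent.Lib.Helper22.SymTenFree.tpowLaw_sum]

/-- lifting a linear map from a finite free module through a surjection. -/
lemma exists_lift_lin {P : Type u} [CommRing P] [Algebra A P] (π : P →ₐ[A] B)
    (hπ : Function.Surjective π) {k : ℕ} (y : (Fin k → A) →ₗ[A] B) :
    ∃ y' : (Fin k → A) →ₗ[A] P, π.toLinearMap ∘ₗ y' = y := by
  classical
  choose p hp using fun j : Fin k => hπ (y (Pi.single j 1))
  refine ⟨Fintype.linearCombination A p, ?_⟩
  apply (Pi.basisFun A (Fin k)).ext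
  intro j
  rw [Pi.basisFun_apply, LinearMap.comp_apply, Fintype.linearCombination_apply_single, one_smul]
  exact hp j

end TSm

section Em

variable (A : Type u) [CommRing A] {B B' : Type u} [CommRing B] [Algebra A B]
  [CommRing B'] [Algebra A B'] (d : ℕ) {I : Type u} (m : I → B)

/-- generalised orbit sums for an arbitrary family. -/
noncomputable def Em0 (k : I →₀ ℕ) : ⨂[A] _ : Fin d, B :=
  ∑ c ∈ fib d k, tprod A (fun j => m (c j))

lemma perm_Em0 (σ : Equiv.Perm (Fin d)) (k : I →₀ ℕ) :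
    SymTen.perm A B d σ (Em0 A d m k) = Em0 A d m k := by
  unfold Em0
  rw [map_sum]
  simp only [SymTen.perm_tprod]
  refine Finset.sum_equiv ⟨fun c => c ∘ σ.symm, fun c => c ∘ σ, fun c => by ext; simp,
    fun c => by ext; simp⟩ ?_ (fun _ _ => rfl)
  intro c
  rw [mem_fib, mem_fib]
  show ty c = k ↔ ty (c ∘ ⇑σ.symm) = k
  rw [ty_comp_perm]

lemma Em0_mem (k : I →₀ ℕ) : Em0 A d m k ∈ SymTen.TS A B d := by
  intro σ
  rw [← SymTen.perm_apply, perm_Em0]

/-- the generalised orbit sum as a symmetric tensor. -/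
noncomputable def Em (k : I →₀ ℕ) : SymTen.TS A B d := ⟨Em0 A d m k, Em0_mem A d m k⟩

lemma Tm_Em0 (x : B →ₗ[A] B') (k : I →₀ ℕ) :
    Tm d x (Em0 A d m k) = Em0 A d (fun i => x (m i)) k := by
  unfold Em0
  rw [map_sum]
  simp only [PiTensorProduct.map_tprod]

lemma TSm_Em (x : B →ₗ[A] B') (k : I →₀ ℕ) :
    TSm d x (Em A d m k) = Em A d (fun i => x (m i)) k := Subtype.ext (Tm_Em0 A d m x k)

lemma E'_eq_Em (e : Basis I A B) (k : I →₀ ℕ) : E' e d k = Em A d (fun i => e i) k := by
  apply Subtype.ext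
  show E e d k = Em0 A d (fun i => e i) k
  unfold E Em0
  simp only [bT_apply]

lemma tpowLaw_gen' (J : Finset I) :
    (SymTen.tpowLaw A B d).law.toFun' (MvPolynomial I A) (gen m J) =
      ∑ c ∈ Fintype.piFinset (fun _ : Fin d => J),
        (MvPolynomial.monomial (ty c) (1 : A)) ⊗ₜ[A] tprod A (fun j => m (c j)) := by
  unfold SymTen.tpowLaw gen
  rw [PolLaw.MulLaw.prodMap_toFun']
  simp only [map_sum, Algebra.TensorProduct.map_tmul, AlgHom.id_apply]
  rw [Finset.prod_univ_sum]
  refine Finset.sum_congr rfl (fun c _ => ?_)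
  rw [Groth.Agent.Lib.Helper22.SymTenFree.prod_tmul,
    Groth.Agent.Lib.Helper22.SymTenFree.prod_single]
  congr 1
  unfold ty
  rw [MvPolynomial.monomial_sum_one]
  rfl

open Classical in
lemma cf_tpowLaw_gen' (J : Finset I) (k : I →₀ ℕ) :
    cf (MvPolynomial.lcoeff A k)
      ((SymTen.tpowLaw A B d).law.toFun' (MvPolynomial I A) (gen m J)) =
      if k.support ⊆ J then Em0 A d m k else 0 := by
  rw [tpowLaw_gen', map_sum]
  simp only [cf_tmul, MvPolynomial.lcoeff_apply, MvPolynomial.coeff_monomial, ite_smul,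
    one_smul, zero_smul]
  rw [← Finset.sum_filter]
  split_ifs with h
  · unfold Em0
    refine Finset.sum_congr ?_ (fun _ _ => rfl)
    ext c
    rw [Finset.mem_filter, Fintype.mem_piFinset, mem_fib]
    constructor
    · exact fun hc => hc.2
    · intro hc
      refine ⟨fun j => h ?_, hc⟩
      rw [← hc, mem_support_ty]
      exact ⟨j, rfl⟩
  · apply Finset.sum_eq_zero
    intro c hc
    exfalso
    rw [Finset.mem_filter, Fintype.mem_piFinset] at hc
    apply h
    intro i hi
    rw [← hc.2, mem_support_ty] at hi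
    obtain ⟨j, rfl⟩ := hi
    exact hc.1 j

open Classical in
lemma cf_τ_gen' (τB : PolLaw.MulLaw A B (SymTen.TS A B d) d)
    (hτB : ∀ (S : Type u) [CommSemiring S] [Algebra A S] (ξ : S ⊗[A] B),
      (SymTen.TS A B d).val.toLinearMap.lTensor S (τB.law.toFun' S ξ) =
        (SymTen.tpowLaw A B d).law.toFun' S ξ) (J : Finset I) (k : I →₀ ℕ) :
    cf (MvPolynomial.lcoeff A k) (τB.law.toFun' (MvPolynomial I A) (gen m J)) =
      if k.support ⊆ J then Em A d m k else 0 := by
  have h1 : (SymTen.TS A B d).val.toLinearMap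
      (cf (MvPolynomial.lcoeff A k) (τB.law.toFun' (MvPolynomial I A) (gen m J))) =
      cf (MvPolynomial.lcoeff A k)
        ((SymTen.tpowLaw A B d).law.toFun' (MvPolynomial I A) (gen m J)) := by
    rw [← cf_lTensor, hτB]
  rw [cf_tpowLaw_gen'] at h1
  apply Subtype.ext
  refine Eq.trans h1 ?_
  split_ifs <;> rfl

end Em

section mkτ

variable {A : Type u} [CommRing A] {B : Type u} [CommRing B] [Algebra A B] (d : ℕ)

/-- the values of the tensor power law lift to `S ⊗ TS^d(B)` (no hypothesis on `B`). -/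
theorem exists_preimage (S : Type u) [CommSemiring S] [Algebra A S] (ξ : S ⊗[A] B) :
    ∃ y : S ⊗[A] SymTen.TS A B d, (SymTen.TS A B d).val.toLinearMap.lTensor S y =
      (SymTen.tpowLaw A B d).law.toFun' S ξ := by
  classical
  obtain ⟨n, s, b, rfl⟩ := GamDesc.exists_fin_sum ξ
  let e : Basis (ULift.{u} (Fin n)) A (Fin n → A) :=
    (Pi.basisFun A (Fin n)).reindex Equiv.ulift.symm
  let x : (Fin n → A) →ₗ[A] B := Fintype.linearCombination A b
  have hξ : x.lTensor S (∑ j, s j ⊗ₜ[A] (Pi.single j (1 : A) : Fin n → A)) =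
      ∑ j, s j ⊗ₜ[A] b j := by
    rw [map_sum]
    refine Finset.sum_congr rfl (fun j _ => ?_)
    rw [LinearMap.lTensor_tmul, Fintype.linearCombination_apply_single, one_smul]
  refine ⟨(TSm d x).lTensor S ((τ e d).law.toFun' S
    (∑ j, s j ⊗ₜ[A] (Pi.single j (1 : A) : Fin n → A))), ?_⟩
  rw [vl_lTSm, val_τ_apply, tpowLaw_lin, hξ]

/-- a chosen preimage. -/
noncomputable def pre (S : Type u) [CommSemiring S] [Algebra A S] (ξ : S ⊗[A] B) :
    S ⊗[A] SymTen.TS A B d := (exists_preimage d S ξ).choose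

lemma vl_pre (S : Type u) [CommSemiring S] [Algebra A S] (ξ : S ⊗[A] B) :
    (SymTen.TS A B d).val.toLinearMap.lTensor S (pre d S ξ) =
      (SymTen.tpowLaw A B d).law.toFun' S ξ := (exists_preimage d S ξ).choose_spec

variable (hinj : ∀ (S : Type u) [CommSemiring S] [Algebra A S],
  Function.Injective ((SymTen.TS A B d).val.toLinearMap.lTensor S))

/-- the tensor power law with values in `TS^d(B)`, when `TS^d(B) ⊆ T^d(B)` is pure. -/
noncomputable def mkτ : PolLaw.MulLaw A B (SymTen.TS A B d) d where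
  law :=
    { toFun' := fun S _ _ ξ => pre d S ξ
      isCompat' := by
        intro S _ _ S' _ _ φ
        funext ξ
        simp only [Function.comp_apply]
        apply hinj S'
        rw [vl_pre, ← LinearMap.comp_apply, LinearMap.lTensor_comp_rTensor,
          ← LinearMap.rTensor_comp_lTensor, LinearMap.comp_apply, vl_pre,
          PolynomialLaw.isCompat_apply'] }
  homog := by
    intro S _ _ s ξ
    apply hinj S
    show (SymTen.TS A B d).val.toLinearMap.lTensor S (pre d S (s • ξ)) =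
      (SymTen.TS A B d).val.toLinearMap.lTensor S (s ^ d • pre d S ξ)
    rw [vl_pre, ← LinearMap.baseChange_eq_ltensor, map_smul, LinearMap.baseChange_eq_ltensor,
      vl_pre]
    exact (SymTen.tpowLaw A B d).homog S s ξ
  mult := by
    intro S _ _
    refine ⟨hinj S ?_, fun x y => hinj S ?_⟩
    · show (SymTen.TS A B d).val.toLinearMap.lTensor S (pre d S 1) =
        (SymTen.TS A B d).val.toLinearMap.lTensor S 1
      rw [vl_pre, PolLaw.lTensor_algHom_apply, map_one, ((SymTen.tpowLaw A B d).mult S).1]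
    · show (SymTen.TS A B d).val.toLinearMap.lTensor S (pre d S (x * y)) =
        (SymTen.TS A B d).val.toLinearMap.lTensor S (pre d S x * pre d S y)
      rw [vl_pre, PolLaw.lTensor_algHom_apply, map_mul, ← PolLaw.lTensor_algHom_apply,
        ← PolLaw.lTensor_algHom_apply, vl_pre, vl_pre, ((SymTen.tpowLaw A B d).mult S).2]

lemma val_mkτ (S : Type u) [CommSemiring S] [Algebra A S] (ξ : S ⊗[A] B) :
    (SymTen.TS A B d).val.toLinearMap.lTensor S ((mkτ d hinj).law.toFun' S ξ) =
      (SymTen.tpowLaw A B d).law.toFun' S ξ := vl_pre d S ξ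

end mkτ

section univ

variable {A : Type u} [CommRing A] {B : Type u} [CommRing B] [Algebra A B] (d : ℕ)
  {P P' : Type u} [CommRing P] [Algebra A P] [CommRing P'] [Algebra A P'] {I I' : Type u}
  (e : Basis I A P) (e' : Basis I' A P')

/-- naturality of `τ` for linear maps between free algebras. -/
lemma τ_lin (x : P →ₗ[A] P') (S : Type u) [CommSemiring S] [Algebra A S] (ξ : S ⊗[A] P) :
    (TSm d x).lTensor S ((τ e d).law.toFun' S ξ) = (τ e' d).law.toFun' S (x.lTensor S ξ) := by
  apply GamFree.lTensor_val_injective e' d S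
  rw [vl_lTSm, val_τ_apply, val_τ_apply, tpowLaw_lin]

/-- linear maps out of `TS^d(P)` are determined by their composite with `τ`. -/
theorem lin_ext_of_postcomp {C' : Type u} [AddCommGroup C'] [Module A C']
    (ℓ ℓ' : SymTen.TS A P d →ₗ[A] C')
    (h : ∀ ξ : MvPolynomial I A ⊗[A] P,
      ℓ.lTensor (MvPolynomial I A) ((τ e d).law.toFun' (MvPolynomial I A) ξ) =
        ℓ'.lTensor (MvPolynomial I A) ((τ e d).law.toFun' (MvPolynomial I A) ξ)) : ℓ = ℓ' := by
  classical
  apply LinearMap.ext_on (span_E' e d)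
  rintro _ ⟨k, rfl⟩
  have := congrArg (cf (MvPolynomial.lcoeff A k)) (h (gen e k.support))
  rw [cf_lTensor, cf_lTensor, GamUniv.cf_τ_gen, if_pos (Finset.Subset.refl _)] at this
  exact this

/-- **Criterion**: `(TS^d(B), τ_B)` is `Γ^d(B)` as soon as `TS^d` of a free presentation
surjects onto `TS^d(B)` with a kernel killed by every law coming from `B`. -/
theorem isGammaD_of_surj (π : P →ₐ[A] B) (hπ : Function.Surjective π)
    (τB : PolLaw.MulLaw A B (SymTen.TS A B d) d)
    (hτB : ∀ (S : Type u) [CommSemiring S] [Algebra A S] (ξ : S ⊗[A] B),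
      (SymTen.TS A B d).val.toLinearMap.lTensor S (τB.law.toFun' S ξ) =
        (SymTen.tpowLaw A B d).law.toFun' S ξ)
    (hinj : ∀ (S : Type u) [CommSemiring S] [Algebra A S],
      Function.Injective ((SymTen.TS A B d).val.toLinearMap.lTensor S))
    (hsurj : Function.Surjective (SymTen.TSmap A d π))
    (hker : ∀ (C' : Type u) [CommRing C'] [Algebra A C'] (ψ : SymTen.TS A P d →ₐ[A] C')
      (G : PolLaw.MulLaw A B C' d),
      PolLaw.postcomp ψ.toLinearMap (τ e d).law = (G.precomp π).law →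
        ∀ z, SymTen.TSmap A d π z = 0 → ψ z = 0) :
    PolLaw.IsGammaD τB := by
  have hnat : ∀ (S : Type u) [CommSemiring S] [Algebra A S] (ξ : S ⊗[A] P),
      (SymTen.TSmap A d π).toLinearMap.lTensor S ((τ e d).law.toFun' S ξ) =
        τB.law.toFun' S (π.toLinearMap.lTensor S ξ) := by
    intro S _ _ ξ
    apply hinj S
    rw [hτB, ← LinearMap.comp_apply, ← LinearMap.lTensor_comp, GamDesc.val_comp_TSmap,
      LinearMap.lTensor_comp, LinearMap.comp_apply, val_τ_apply, GamDesc.tpowLaw_nat]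
  intro C' _ _ G
  obtain ⟨ψ, hψ, hψu⟩ := GamUniv.isGammaD_τ e d C' (G.precomp π)
  have hk : RingHom.ker (SymTen.TSmap A d π).toRingHom ≤ RingHom.ker ψ.toRingHom := by
    intro z hz
    rw [RingHom.mem_ker] at hz ⊢
    exact hker C' ψ G hψ z hz
  let h : SymTen.TS A B d →ₐ[A] C' := AlgHom.liftOfSurjective (SymTen.TSmap A d π) hsurj ψ hk
  have hh : ∀ z, h (SymTen.TSmap A d π z) = ψ z :=
    fun z => AlgHom.liftOfSurjective_apply (SymTen.TSmap A d π) hsurj ψ hk z
  have hcomp : h.toLinearMap ∘ₗ (SymTen.TSmap A d π).toLinearMap = ψ.toLinearMap :=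
    LinearMap.ext hh
  refine ⟨h, ?_, ?_⟩
  · ext S _ _ ξ
    obtain ⟨ξ', rfl⟩ := LinearMap.lTensor_surjective S (g := π.toLinearMap) hπ ξ
    show h.toLinearMap.lTensor S (τB.law.toFun' S (π.toLinearMap.lTensor S ξ')) =
      G.law.toFun' S (π.toLinearMap.lTensor S ξ')
    rw [← hnat, ← LinearMap.comp_apply, ← LinearMap.lTensor_comp, hcomp]
    exact congrArg (fun L : P →ₚₗ[A] C' => L.toFun' S ξ') hψ
  · intro h' hh'
    have h1 : h'.comp (SymTen.TSmap A d π) = ψ := by
      apply hψu
      ext S _ _ ξ'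
      show (h'.toLinearMap ∘ₗ (SymTen.TSmap A d π).toLinearMap).lTensor S
        ((τ e d).law.toFun' S ξ') = G.law.toFun' S (π.toLinearMap.lTensor S ξ')
      rw [LinearMap.lTensor_comp, LinearMap.comp_apply, hnat]
      exact congrArg (fun L : B →ₚₗ[A] C' => L.toFun' S (π.toLinearMap.lTensor S ξ')) hh'
    apply AlgHom.ext
    intro z
    obtain ⟨z', rfl⟩ := hsurj z
    rw [hh, ← h1]
    rfl

end univ

end Groth.Agent.Lib.Helper24.TSGen
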