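import Mathlib
import Groth.Agent.Lib.Helper24.TSGen
import Groth.Agent.Lib.Helper24.LemmaK

/-!
# `TS^d_A(B) = Γ^d_A(B)` for flat `B` (helper24)
-/

set_option autoImplicit false

namespace Groth.Agent.Lib.Helper24.TSFlat

open scoped TensorProduct
open Module PiTensorProduct
open Groth.Agent.Lib.Helper24.TLim Groth.Agent.Lib.Helper24.GamType
  Groth.Agent.Lib.Helper24.GamCoef Groth.Agent.Lib.Helper24.GamFree
  Groth.Agent.Lib.Helper24.TSGen Groth.Agent.Lib.Helper24.LemmaK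

universe u

/-- the standard basis of `Fin k → A`, indexed in universe `u`. -/
noncomputable def eb (A : Type u) [CommRing A] (k : ℕ) : Basis (ULift.{u} (Fin k)) A (Fin k → A) :=
  (Pi.basisFun A (Fin k)).reindex Equiv.ulift.symm

section module

variable {A : Type u} [CommRing A] {N : Type u} [AddCommGroup N] [Module A N] (d : ℕ)

/-- every tensor comes from a finitely presented module. -/
theorem exists_Tm_eq (z : ⨂[A] _ : Fin d, N) :
    ∃ (F : Type u) (_ : AddCommGroup F) (_ : Module A F) (_ : Module.FinitePresentation A F)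
      (x : F →ₗ[A] N) (u : ⨂[A] _ : Fin d, F), Tm d x u = z := by
  classical
  induction z using PiTensorProduct.induction_on with
  | smul_tprod r b =>
    refine ⟨Fin d → A, inferInstance, inferInstance, inferInstance,
      Fintype.linearCombination A b, r • tprod A (fun i => (Pi.single i (1 : A) : Fin d → A)), ?_⟩
    rw [map_smul, PiTensorProduct.map_tprod]
    rw [show (fun i => Fintype.linearCombination A b (Pi.single i (1 : A))) = b from
      funext fun i => by rw [Fintype.linearCombination_apply_single, one_smul]]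
  | add z₁ z₂ h₁ h₂ =>
    obtain ⟨F₁, _, _, _, x₁, u₁, e₁⟩ := h₁
    obtain ⟨F₂, _, _, _, x₂, u₂, e₂⟩ := h₂
    refine ⟨F₁ × F₂, inferInstance, inferInstance, inferInstance, x₁.coprod x₂,
      Tm d (LinearMap.inl A F₁ F₂) u₁ + Tm d (LinearMap.inr A F₁ F₂) u₂, ?_⟩
    rw [map_add, Tm_comp_apply, Tm_comp_apply, LinearMap.coprod_inl, LinearMap.coprod_inr, e₁, e₂]

/-- symmetric tensors over a flat module come from symmetric tensors over a finite free module. -/
theorem exists_sym_lift [Module.Flat A N] (z : ⨂[A] _ : Fin d, N)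
    (hz : ∀ σ : Equiv.Perm (Fin d), PiTensorProduct.reindex A (fun _ : Fin d => N) σ z = z) :
    ∃ (k : ℕ) (x : (Fin k → A) →ₗ[A] N) (u : ⨂[A] _ : Fin d, (Fin k → A)),
      (∀ σ : Equiv.Perm (Fin d),
        PiTensorProduct.reindex A (fun _ : Fin d => (Fin k → A)) σ u = u) ∧ Tm d x u = z := by
  classical
  obtain ⟨F, _, _, _, x₀, u₀, h₀⟩ := exists_Tm_eq d z
  let U : Finset (⨂[A] _ : Fin d, F) := Finset.univ.image
    (fun σ : Equiv.Perm (Fin d) => PiTensorProduct.reindex A (fun _ : Fin d => F) σ u₀ - u₀)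
  have hU : ∀ u ∈ U, Tm d x₀ u = 0 := by
    intro u hu
    obtain ⟨σ, -, rfl⟩ := Finset.mem_image.mp hu
    rw [map_sub, Tm_reindex, h₀, hz σ, sub_self]
  obtain ⟨k, a, y, hya, hk⟩ := lemmaK_finset d x₀ U hU
  refine ⟨k, y, Tm d a u₀, fun σ => ?_, ?_⟩
  · rw [← Tm_reindex, ← sub_eq_zero, ← map_sub]
    exact hk _ (Finset.mem_image_of_mem _ (Finset.mem_univ σ))
  · rw [Tm_comp_apply, hya, h₀]

end module

section algebra

variable {A : Type u} [CommRing A] {B : Type u} [CommRing B] [Algebra A B] (d : ℕ)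

theorem exists_TSm_eq [Module.Flat A B] (z : SymTen.TS A B d) :
    ∃ (k : ℕ) (x : (Fin k → A) →ₗ[A] B) (u : SymTen.TS A (Fin k → A) d), TSm d x u = z := by
  obtain ⟨k, x, u, hu, h⟩ := exists_sym_lift d z.1 ((SymTen.mem_TS_iff A B d z.1).mp z.2)
  exact ⟨k, x, ⟨u, (SymTen.mem_TS_iff A (Fin k → A) d u).mpr hu⟩, Subtype.ext h⟩

theorem exists_lTSm_eq [Module.Flat A B] (S : Type u) [CommSemiring S] [Algebra A S]
    (w : S ⊗[A] SymTen.TS A B d) :
    ∃ (k : ℕ) (x : (Fin k → A) →ₗ[A] B) (w' : S ⊗[A] SymTen.TS A (Fin k → A) d),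
      (TSm d x).lTensor S w' = w := by
  induction w using TensorProduct.induction_on with
  | zero => exact ⟨0, 0, 0, map_zero _⟩
  | tmul s z =>
    obtain ⟨k, x, u, rfl⟩ := exists_TSm_eq d z
    exact ⟨k, x, s ⊗ₜ[A] u, LinearMap.lTensor_tmul _ _ _ _⟩
  | add w₁ w₂ h₁ h₂ =>
    obtain ⟨k₁, x₁, w₁', rfl⟩ := h₁
    obtain ⟨k₂, x₂, w₂', rfl⟩ := h₂
    obtain ⟨k, a, y, hya, -⟩ := lemmaK d (x₁.coprod x₂) 0 (map_zero _)
    have e1 : y ∘ₗ (a ∘ₗ LinearMap.inl A (Fin k₁ → A) (Fin k₂ → A)) = x₁ := by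
      rw [← LinearMap.comp_assoc, hya, LinearMap.coprod_inl]
    have e2 : y ∘ₗ (a ∘ₗ LinearMap.inr A (Fin k₁ → A) (Fin k₂ → A)) = x₂ := by
      rw [← LinearMap.comp_assoc, hya, LinearMap.coprod_inr]
    refine ⟨k, y, (TSm d (a ∘ₗ LinearMap.inl A (Fin k₁ → A) (Fin k₂ → A))).lTensor S w₁' +
      (TSm d (a ∘ₗ LinearMap.inr A (Fin k₁ → A) (Fin k₂ → A))).lTensor S w₂', ?_⟩
    rw [map_add, lTSm_comp_apply, lTSm_comp_apply, e1, e2]

theorem eq_zero_of_vl_eq_zero [Module.Flat A B] (S : Type u) [CommSemiring S] [Algebra A S]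
    (w : S ⊗[A] SymTen.TS A B d)
    (hw : (SymTen.TS A B d).val.toLinearMap.lTensor S w = 0) : w = 0 := by
  obtain ⟨k, x, w', rfl⟩ := exists_lTSm_eq d S w
  have h1 : (Tm d x).lTensor S
      ((SymTen.TS A (Fin k → A) d).val.toLinearMap.lTensor S w') = 0 := by
    rw [← vl_lTSm]
    exact hw
  obtain ⟨k', a, y, hya, h2⟩ := lemmaK_S S d x _ h1
  have h3 : (TSm d a).lTensor S w' = 0 := by
    apply GamFree.lTensor_val_injective (eb A k') d S
    rw [vl_lTSm, h2, map_zero]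
  rw [← hya, ← lTSm_comp_apply, h3, map_zero]

/-- **Purity** of the symmetric tensors of a flat algebra in the tensor power. -/
theorem lTensor_val_injective [Module.Flat A B] (S : Type u) [CommSemiring S] [Algebra A S] :
    Function.Injective ((SymTen.TS A B d).val.toLinearMap.lTensor S) := by
  intro w₁ w₂ h
  have h0 : w₁ + (-1 : A) • w₂ = 0 := by
    apply eq_zero_of_vl_eq_zero d S
    rw [map_add, map_smul, h]
    have : (SymTen.TS A B d).val.toLinearMap.lTensor S w₂ +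
        (-1 : A) • (SymTen.TS A B d).val.toLinearMap.lTensor S w₂ =
        ((1 : A) + (-1)) • (SymTen.TS A B d).val.toLinearMap.lTensor S w₂ := by
      rw [add_smul, one_smul]
    rw [this, add_neg_cancel, zero_smul]
  have h1 : (-1 : A) • w₂ + w₂ = 0 := by
    have : (-1 : A) • w₂ + w₂ = ((-1 : A) + 1) • w₂ := by rw [add_smul, one_smul]
    rw [this, neg_add_cancel, zero_smul]
  calc w₁ = w₁ + ((-1 : A) • w₂ + w₂) := by rw [h1, add_zero]
    _ = (w₁ + (-1 : A) • w₂) + w₂ := by rw [add_assoc]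
    _ = w₂ := by rw [h0, zero_add]

theorem TSmap_surjective [Module.Flat A B] {P : Type u} [CommRing P] [Algebra A P]
    (π : P →ₐ[A] B) (hπ : Function.Surjective π) :
    Function.Surjective (SymTen.TSmap A d π) := by
  intro z
  obtain ⟨k, x, u, rfl⟩ := exists_TSm_eq d z
  obtain ⟨x', hx'⟩ := exists_lift_lin π hπ x
  refine ⟨TSm d x' u, ?_⟩
  rw [TSmap_eq_TSm, TSm_comp_apply, hx']

theorem ker_le [Module.Flat A B] {P : Type u} [CommRing P] [Algebra A P] {I : Type u}
    (e : Basis I A P) (π : P →ₐ[A] B) (hπ : Function.Surjective π)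
    (C' : Type u) [CommRing C'] [Algebra A C'] (ψ : SymTen.TS A P d →ₐ[A] C')
    (G : PolLaw.MulLaw A B C' d)
    (hψ : PolLaw.postcomp ψ.toLinearMap (τ e d).law = (G.precomp π).law)
    (z : SymTen.TS A P d) (hz : SymTen.TSmap A d π z = 0) : ψ z = 0 := by
  haveI : Module.Free A P := Module.Free.of_basis e
  obtain ⟨k, x, u, rfl⟩ := exists_TSm_eq d z
  have h1 : Tm d (π.toLinearMap ∘ₗ x) u.1 = 0 := by
    have := congrArg Subtype.val hz
    rw [TSmap_eq_TSm, TSm_comp_apply] at this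
    exact this
  obtain ⟨k', a, y, hya, h2⟩ := lemmaK d (π.toLinearMap ∘ₗ x) u.1 h1
  obtain ⟨y', hy'⟩ := exists_lift_lin π hπ y
  have key : ∀ (x₁ x₂ : (Fin k → A) →ₗ[A] P), π.toLinearMap ∘ₗ x₁ = π.toLinearMap ∘ₗ x₂ →
      ψ.toLinearMap ∘ₗ TSm d x₁ = ψ.toLinearMap ∘ₗ TSm d x₂ := by
    intro x₁ x₂ h12
    apply lin_ext_of_postcomp d (eb A k)
    intro ξ
    have hx : ∀ x' : (Fin k → A) →ₗ[A] P,
        (ψ.toLinearMap ∘ₗ TSm d x').lTensor _ ((τ (eb A k) d).law.toFun' _ ξ) =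
          G.law.toFun' _ ((π.toLinearMap ∘ₗ x').lTensor _ ξ) := by
      intro x'
      rw [LinearMap.lTensor_comp, LinearMap.comp_apply, τ_lin d (eb A k) e x',
        LinearMap.lTensor_comp, LinearMap.comp_apply]
      exact congrArg (fun L : P →ₚₗ[A] C' => L.toFun' _ (x'.lTensor _ ξ)) hψ
    rw [hx, hx, h12]
  have h3 : TSm d a u = 0 := Subtype.ext h2
  have h4 := LinearMap.congr_fun
    (key x (y' ∘ₗ a) (by rw [← LinearMap.comp_assoc, hy', hya])) u
  show ψ (TSm d x u) = 0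
  rw [show ψ (TSm d x u) = ψ (TSm d (y' ∘ₗ a) u) from h4, ← TSm_comp_apply, h3, map_zero,
    map_zero]

/-- **Main theorem, flat case.** -/
theorem exists_τ_flat [Module.Flat A B] :
    ∃ τB : PolLaw.MulLaw A B (SymTen.TS A B d) d,
      (∀ (S : Type u) [CommSemiring S] [Algebra A S] (ξ : S ⊗[A] B),
        (SymTen.TS A B d).val.toLinearMap.lTensor S (τB.law.toFun' S ξ) =
          (SymTen.tpowLaw A B d).law.toFun' S ξ) ∧ PolLaw.IsGammaD τB := by
  have hinj : ∀ (S : Type u) [CommSemiring S] [Algebra A S],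
      Function.Injective ((SymTen.TS A B d).val.toLinearMap.lTensor S) :=
    fun S _ _ => lTensor_val_injective d S
  refine ⟨mkτ d hinj, val_mkτ d hinj, ?_⟩
  let π : MvPolynomial B A →ₐ[A] B := MvPolynomial.aeval id
  have hπ : Function.Surjective π := fun b => ⟨MvPolynomial.X b, by simp [π]⟩
  exact isGammaD_of_surj d (MvPolynomial.basisMonomials B A) π hπ (mkτ d hinj)
    (val_mkτ d hinj) hinj (TSmap_surjective d π hπ)
    (fun C' _ _ ψ G hψ z hz => ker_le d (MvPolynomial.basisMonomials B A) π hπ C' ψ G hψ z hz)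

end algebra

end Groth.Agent.Lib.Helper24.TSFlat
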