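import Mathlib
import Groth.Agent.Lib.Helper24.TSFlat

/-!
# Flatness of the symmetric tensors of a flat module; uniqueness of `Γ^d` (helper24)
-/

set_option autoImplicit false

namespace Groth.Agent.Lib.Helper24.TSFlat2

open scoped TensorProduct
open Module PiTensorProduct
open Groth.Agent.Lib.Helper24.TLim Groth.Agent.Lib.Helper24.GamType
  Groth.Agent.Lib.Helper24.GamCoef Groth.Agent.Lib.Helper24.GamFree
  Groth.Agent.Lib.Helper24.TSGen Groth.Agent.Lib.Helper24.LemmaK
  Groth.Agent.Lib.Helper24.TSFlat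

universe u

section module

variable {A : Type u} [CommRing A] {N : Type u} [AddCommGroup N] [Module A N] (d : ℕ)

theorem exists_Tm_eq_fin : ∀ (l : ℕ) (z : Fin l → ⨂[A] _ : Fin d, N),
    ∃ (F : Type u) (_ : AddCommGroup F) (_ : Module A F) (_ : Module.FinitePresentation A F)
      (x : F →ₗ[A] N) (u : Fin l → ⨂[A] _ : Fin d, F), ∀ i, Tm d x (u i) = z i := by
  intro l
  induction l with
  | zero =>
    intro z
    exact ⟨Fin 0 → A, inferInstance, inferInstance, inferInstance, 0, Fin.elim0,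
      fun i => i.elim0⟩
  | succ l ih =>
    intro z
    obtain ⟨F₁, _, _, _, x₁, u₁, e₁⟩ := ih (Fin.tail z)
    obtain ⟨F₂, _, _, _, x₂, u₂, e₂⟩ := exists_Tm_eq d (z 0)
    refine ⟨F₁ × F₂, inferInstance, inferInstance, inferInstance, x₁.coprod x₂,
      Fin.cons (Tm d (LinearMap.inr A F₁ F₂) u₂) (fun i => Tm d (LinearMap.inl A F₁ F₂) (u₁ i)),
      ?_⟩
    intro i
    refine Fin.cases ?_ (fun j => ?_) i
    · rw [Fin.cons_zero, Tm_comp_apply, LinearMap.coprod_inr, e₂]
    · rw [Fin.cons_succ, Tm_comp_apply, LinearMap.coprod_inl, e₁]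
      rfl

theorem exists_sym_lift_fin [Module.Flat A N] (l : ℕ) (z : Fin l → ⨂[A] _ : Fin d, N)
    (hz : ∀ (i : Fin l) (σ : Equiv.Perm (Fin d)),
      PiTensorProduct.reindex A (fun _ : Fin d => N) σ (z i) = z i) :
    ∃ (k : ℕ) (x : (Fin k → A) →ₗ[A] N) (u : Fin l → ⨂[A] _ : Fin d, (Fin k → A)),
      (∀ (i : Fin l) (σ : Equiv.Perm (Fin d)),
        PiTensorProduct.reindex A (fun _ : Fin d => (Fin k → A)) σ (u i) = u i) ∧
      ∀ i, Tm d x (u i) = z i := by
  classical
  obtain ⟨F, _, _, _, x₀, u₀, h₀⟩ := exists_Tm_eq_fin d l z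
  let U : Finset (⨂[A] _ : Fin d, F) := Finset.univ.image
    (fun p : Fin l × Equiv.Perm (Fin d) =>
      PiTensorProduct.reindex A (fun _ : Fin d => F) p.2 (u₀ p.1) - u₀ p.1)
  have hU : ∀ u ∈ U, Tm d x₀ u = 0 := by
    intro u hu
    obtain ⟨p, -, rfl⟩ := Finset.mem_image.mp hu
    show Tm d x₀ (PiTensorProduct.reindex A (fun _ : Fin d => F) p.2 (u₀ p.1) - u₀ p.1) = 0
    rw [map_sub]
    rw [Tm_reindex]
    rw [h₀ p.1]
    rw [hz p.1 p.2, sub_self]
  obtain ⟨k, a, y, hya, hk⟩ := lemmaK_finset d x₀ U hU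
  refine ⟨k, y, fun i => Tm d a (u₀ i), fun i σ => ?_, fun i => ?_⟩
  · rw [← Tm_reindex, ← sub_eq_zero, ← map_sub]
    have hmem : PiTensorProduct.reindex A (fun _ : Fin d => F) σ (u₀ i) - u₀ i ∈ U :=
      Finset.mem_image.mpr ⟨(i, σ), Finset.mem_univ _, rfl⟩
    exact hk _ hmem
  · rw [Tm_comp_apply, hya, h₀]

/-- the symmetric tensors of a finite free module form a flat module. -/
theorem flat_TS_free (k : ℕ) : Module.Flat A (SymTen.TS A (Fin k → A) d) := by
  haveI : Module.Free A (⨂[A] _ : Fin d, (Fin k → A)) := Module.Free.of_basis (bT (eb A k) d)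
  exact Module.Flat.of_retract (SymTen.TS A (Fin k → A) d).val.toLinearMap (ρ (eb A k) d)
    (ρ_comp_val (eb A k) d)

/-- relations between symmetric tensors over a flat module are trivial (with symmetric
witnesses). -/
theorem sym_relation_trivial [Module.Flat A N] (l : ℕ) (f : Fin l → A)
    (z : Fin l → ⨂[A] _ : Fin d, N)
    (hz : ∀ (i : Fin l) (σ : Equiv.Perm (Fin d)),
      PiTensorProduct.reindex A (fun _ : Fin d => N) σ (z i) = z i)
    (hrel : ∑ i, f i • z i = 0) :
    ∃ (k : ℕ) (a : Fin l → Fin k → A) (y : Fin k → ⨂[A] _ : Fin d, N),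
      (∀ (j : Fin k) (σ : Equiv.Perm (Fin d)),
        PiTensorProduct.reindex A (fun _ : Fin d => N) σ (y j) = y j) ∧
      (∀ i, z i = ∑ j, a i j • y j) ∧ ∀ j, ∑ i, f i * a i j = 0 := by
  obtain ⟨k₀, x, u, hu, hxu⟩ := exists_sym_lift_fin d l z hz
  have h0 : Tm d x (∑ i, f i • u i) = 0 := by
    rw [map_sum, ← hrel]
    exact Finset.sum_congr rfl (fun i _ => by rw [map_smul, hxu])
  obtain ⟨k₁, a₁, y₁, hya, h1⟩ := lemmaK d x _ h0
  let u' : Fin l → SymTen.TS A (Fin k₁ → A) d := fun i =>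
    ⟨Tm d a₁ (u i), (SymTen.mem_TS_iff A (Fin k₁ → A) d _).mpr
      fun σ => by rw [← Tm_reindex, hu i σ]⟩
  have hrel' : ∑ i, f i • u' i = 0 := by
    have h2 : (SymTen.TS A (Fin k₁ → A) d).val.toLinearMap (∑ i, f i • u' i) = 0 := by
      rw [map_sum]
      simp only [map_smul]
      show ∑ i, f i • Tm d a₁ (u i) = 0
      rw [← h1, map_sum]
      simp only [map_smul]
    exact Subtype.ext h2
  haveI := flat_TS_free (A := A) d k₁
  obtain ⟨k, a, y, hy1, hy2⟩ := Module.Flat.isTrivialRelation_of_sum_smul_eq_zero hrel'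
  refine ⟨k, a, fun j => Tm d y₁ (y j).1, fun j σ => by rw [← Tm_reindex, (y j).2 σ],
    fun i => ?_, hy2⟩
  rw [← hxu i, ← hya, ← Tm_comp_apply]
  show Tm d y₁ ((SymTen.TS A (Fin k₁ → A) d).val.toLinearMap (u' i)) = _
  rw [hy1 i, map_sum, map_sum]
  refine Finset.sum_congr rfl (fun j _ => ?_)
  rw [map_smul, map_smul]
  rfl

/-- S14671. -/
theorem flat_symSubmodule [Module.Flat A N] :
    Module.Flat A ↥(⨅ σ : Equiv.Perm (Fin d),
      LinearMap.eqLocus (PiTensorProduct.reindex A (fun _ : Fin d => N) σ).toLinearMap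
        LinearMap.id) := by
  set W : Submodule A (⨂[A] _ : Fin d, N) := ⨅ σ : Equiv.Perm (Fin d),
      LinearMap.eqLocus (PiTensorProduct.reindex A (fun _ : Fin d => N) σ).toLinearMap
        LinearMap.id with hW
  have hmem : ∀ t : ⨂[A] _ : Fin d, N, t ∈ W ↔ ∀ σ : Equiv.Perm (Fin d),
      PiTensorProduct.reindex A (fun _ : Fin d => N) σ t = t := by
    intro t
    rw [hW, Submodule.mem_iInf]
    exact forall_congr' fun σ => LinearMap.mem_eqLocus
  apply Module.Flat.of_forall_isTrivialRelation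
  intro l f z hrel
  have hrel0 : ∑ i, f i • (z i).1 = 0 := by
    have := congrArg W.subtype hrel
    rw [map_sum] at this
    simp only [map_smul, map_zero] at this
    exact this
  obtain ⟨k, a, y, hy, h1, h2⟩ := sym_relation_trivial d l f (fun i => (z i).1)
    (fun i σ => (hmem _).mp (z i).2 σ) hrel0
  refine ⟨k, a, fun j => ⟨y j, (hmem _).mpr (hy j)⟩, fun i => Subtype.ext ?_, h2⟩
  show (z i).1 = W.subtype (∑ j, a i j • (⟨y j, (hmem _).mpr (hy j)⟩ : W))
  rw [map_sum]
  simp only [map_smul]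
  exact h1 i

end module

section algebra

variable {A : Type u} [CommRing A] {B : Type u} [CommRing B] [Algebra A B] (d : ℕ)

/-- the symmetric tensors of a flat algebra form a flat module. -/
theorem flat_TS [Module.Flat A B] : Module.Flat A (SymTen.TS A B d) := by
  apply Module.Flat.of_forall_isTrivialRelation
  intro l f z hrel
  have hrel0 : ∑ i, f i • (z i).1 = 0 := by
    have := congrArg (SymTen.TS A B d).val.toLinearMap hrel
    rw [map_sum] at this
    simp only [map_smul, map_zero] at this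
    exact this
  obtain ⟨k, a, y, hy, h1, h2⟩ := sym_relation_trivial d l f (fun i => (z i).1)
    (fun i σ => (z i).2 σ) hrel0
  refine ⟨k, a, fun j => ⟨y j, (SymTen.mem_TS_iff A B d _).mpr (hy j)⟩,
    fun i => Subtype.ext ?_, h2⟩
  show (z i).1 = (SymTen.TS A B d).val.toLinearMap
    (∑ j, a i j • (⟨y j, (SymTen.mem_TS_iff A B d _).mpr (hy j)⟩ : SymTen.TS A B d))
  rw [map_sum]
  simp only [map_smul]
  exact h1 i

variable {C C'' : Type u} [CommRing C] [Algebra A C] [CommRing C''] [Algebra A C''] {d}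

lemma postcomp_comp (γ : PolLaw.MulLaw A B C d) {C₂ C₃ : Type u} [CommRing C₂] [Algebra A C₂]
    [CommRing C₃] [Algebra A C₃] (f : C →ₐ[A] C₂) (g : C₂ →ₐ[A] C₃) :
    PolLaw.postcomp (g.comp f).toLinearMap γ.law =
      PolLaw.postcomp g.toLinearMap (PolLaw.postcomp f.toLinearMap γ.law) := by
  ext S _ _ ξ
  show (g.toLinearMap ∘ₗ f.toLinearMap).lTensor S (γ.law.toFun' S ξ) =
    g.toLinearMap.lTensor S (f.toLinearMap.lTensor S (γ.law.toFun' S ξ))
  rw [LinearMap.lTensor_comp, LinearMap.comp_apply]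

lemma postcomp_id (γ : PolLaw.MulLaw A B C d) :
    PolLaw.postcomp (AlgHom.id A C).toLinearMap γ.law = γ.law := by
  ext S _ _ ξ
  show (AlgHom.id A C).toLinearMap.lTensor S (γ.law.toFun' S ξ) = γ.law.toFun' S ξ
  rw [AlgHom.toLinearMap_id, LinearMap.lTensor_id, LinearMap.id_apply]

/-- two degree-`d` divided power algebras of `B` are isomorphic. -/
theorem nonempty_algEquiv_of_isGammaD (γ : PolLaw.MulLaw A B C d) (hγ : PolLaw.IsGammaD γ)
    (γ' : PolLaw.MulLaw A B C'' d) (hγ' : PolLaw.IsGammaD γ') :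
    ∃ e : C ≃ₐ[A] C'', PolLaw.postcomp e.toAlgHom.toLinearMap γ.law = γ'.law := by
  obtain ⟨f, hf, -⟩ := hγ C'' γ'
  obtain ⟨g, hg, -⟩ := hγ' C γ
  have h1 : g.comp f = AlgHom.id A C := by
    apply (hγ C γ).unique
    · rw [postcomp_comp, hf, hg]
    · exact postcomp_id γ
  have h2 : f.comp g = AlgHom.id A C'' := by
    apply (hγ' C'' γ').unique
    · rw [postcomp_comp, hg, hf]
    · exact postcomp_id γ'
  exact ⟨AlgEquiv.ofAlgHom f g h2 h1, hf⟩

end algebra

end Groth.Agent.Lib.Helper24.TSFlat2
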