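import Mathlib
import Groth.Prelude.Def_SymTen
import Groth.Prelude.Def_PolLaw
import Groth.Agent.Lib.Helper20.PolLawQuot
import Groth.Agent.Lib.Helper24.GamFT
import Groth.Agent.Lib.Helper24.TSFlat2

/-!
# `Γ^d_A(B)` is of finite presentation when `B` is (helper24, S13714)

* `TS^d_A(A ⊗ P₀) = A ⊗ TS^d_Z(P₀)` for `P₀` free over `Z`; hence `Γ^d_A(A[x_1..x_n])` is of
  finite presentation.
* For `B = P/(f_1..f_m)`, `P = A[x]`, the kernel of `Γ^d(P) → Γ^d(B)` is generated by the
  differences `h₁ t - h₂ t`, `t` running through algebra generators of `Γ^d(P[y_1..y_m])`, where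
  `h₁, h₂` are induced by `y_j ↦ f_j` and `y_j ↦ 0`.
-/

set_option autoImplicit false
set_option maxHeartbeats 400000
set_option linter.style.haveILetI false
set_option linter.unusedSectionVars false

namespace Groth.Agent.Lib.Helper24.GamFP

open scoped TensorProduct
open Module
open Groth.Agent.Lib.Helper24.GamCoef Groth.Agent.Lib.Helper24.GamFree
  Groth.Agent.Lib.Helper24.GamUniv Groth.Agent.Lib.Helper24.GamRes
  Groth.Agent.Lib.Helper24.GamFT Groth.Agent.Lib.Helper20.PolLawQuot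

universe u

section basechange

variable (Z : Type u) [CommRing Z] (P₀ : Type u) [CommRing P₀] [Algebra Z P₀] {I : Type u}
  (e₀ : Module.Basis I Z P₀) (A : Type u) [CommRing A] [Algebra Z A] (d : ℕ)

/-- the comparison map on tensor powers. -/
noncomputable def β : A ⊗[Z] (⨂[Z] _ : Fin d, P₀) →ₗ[A] (⨂[A] _ : Fin d, A ⊗[Z] P₀) :=
  LinearMap.liftBaseChange A (κT Z P₀ A d).toLinearMap

lemma β_tmul (a : A) (t : ⨂[Z] _ : Fin d, P₀) :
    β Z P₀ A d (a ⊗ₜ[Z] t) = a • κT Z P₀ A d t := rfl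

include e₀ in
lemma β_basis (c : Fin d → I) :
    β Z P₀ A d ((Algebra.TensorProduct.basis A (bT e₀ d)) c) =
      bT (Algebra.TensorProduct.basis A e₀) d c := by
  rw [Algebra.TensorProduct.basis_apply, β_tmul, one_smul, bT_apply, bT_apply, κT_tprod]
  congr 1
  funext j
  rw [Algebra.TensorProduct.basis_apply]

include e₀ in
lemma β_injective : Function.Injective (β Z P₀ A d) := by
  have h : β Z P₀ A d = ((Algebra.TensorProduct.basis A (bT e₀ d)).equiv
      (bT (Algebra.TensorProduct.basis A e₀) d) (Equiv.refl _)).toLinearMap := by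
    apply (Algebra.TensorProduct.basis A (bT e₀ d)).ext
    intro c
    rw [β_basis Z P₀ e₀ A d c, LinearEquiv.coe_coe, Module.Basis.equiv_apply, Equiv.refl_apply]
  rw [h]
  exact LinearEquiv.injective _

/-- `κ` as a `Z`-algebra map. -/
noncomputable def κZ : SymTen.TS Z P₀ d →ₐ[Z] SymTen.TS A (A ⊗[Z] P₀) d :=
  { κ Z P₀ A d with
    commutes' := fun r => by
      apply Subtype.ext
      show κT Z P₀ A d (algebraMap Z (⨂[Z] _ : Fin d, P₀) r) =
        algebraMap Z (⨂[A] _ : Fin d, A ⊗[Z] P₀) r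
      rw [AlgHom.commutes] }

lemma κZ_apply (t : SymTen.TS Z P₀ d) : κZ Z P₀ A d t = κ Z P₀ A d t := rfl

/-- the comparison map `A ⊗ TS_Z(P₀) → TS_A(A ⊗ P₀)`. -/
noncomputable def κ' : A ⊗[Z] SymTen.TS Z P₀ d →ₐ[A] SymTen.TS A (A ⊗[Z] P₀) d :=
  Algebra.TensorProduct.lift (Algebra.ofId A _) (κZ Z P₀ A d) (fun _ _ => Commute.all _ _)

lemma val_κ' (x : A ⊗[Z] SymTen.TS Z P₀ d) :
    ((κ' Z P₀ A d x : SymTen.TS A (A ⊗[Z] P₀) d) : ⨂[A] _ : Fin d, A ⊗[Z] P₀) =
      β Z P₀ A d ((SymTen.TS Z P₀ d).val.toLinearMap.lTensor A x) := by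
  induction x using TensorProduct.induction_on with
  | zero => rw [map_zero, map_zero, map_zero]; rfl
  | tmul a t =>
    rw [LinearMap.lTensor_tmul, β_tmul]
    unfold κ'
    rw [Algebra.TensorProduct.lift_tmul, Algebra.ofId_apply, ← Algebra.smul_def, κZ_apply]
    rfl
  | add x y hx hy =>
    rw [map_add, map_add, map_add, ← hx, ← hy]
    rfl

include e₀ in
lemma κ'_injective : Function.Injective (κ' Z P₀ A d) := by
  rw [injective_iff_map_eq_zero]
  intro x hx
  have h1 : β Z P₀ A d ((SymTen.TS Z P₀ d).val.toLinearMap.lTensor A x) = 0 := by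
    rw [← val_κ', hx]
    rfl
  have h2 := β_injective Z P₀ e₀ A d (h1.trans (map_zero _).symm)
  have h3 : (ρ e₀ d).lTensor A ((SymTen.TS Z P₀ d).val.toLinearMap.lTensor A x) = x := by
    rw [← LinearMap.comp_apply, ← LinearMap.lTensor_comp, ρ_comp_val, LinearMap.lTensor_id,
      LinearMap.id_apply]
  rw [← h3, h2, map_zero]

include e₀ in
lemma κ'_surjective : Function.Surjective (κ' Z P₀ A d) := by
  have htop : (⊤ : Submodule A (SymTen.TS A (A ⊗[Z] P₀) d)) ≤
      LinearMap.range (κ' Z P₀ A d).toLinearMap := by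
    rw [← span_E' (Algebra.TensorProduct.basis A e₀) d, Submodule.span_le]
    rintro _ ⟨k, rfl⟩
    refine ⟨(1 : A) ⊗ₜ[Z] E' e₀ d k, ?_⟩
    apply Subtype.ext
    rw [AlgHom.toLinearMap_apply, val_κ', LinearMap.lTensor_tmul, β_tmul, one_smul]
    exact κT_E Z P₀ e₀ A d k
  intro y
  obtain ⟨x, hx⟩ := htop (Submodule.mem_top : y ∈ ⊤)
  exact ⟨x, hx⟩

include e₀ in
theorem fp_TS_baseChange [Algebra.FinitePresentation Z (SymTen.TS Z P₀ d)] :
    Algebra.FinitePresentation A (SymTen.TS A (A ⊗[Z] P₀) d) := by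
  refine Algebra.FinitePresentation.of_surjective (f := κ' Z P₀ A d)
    (κ'_surjective Z P₀ e₀ A d) ?_
  have h0 : RingHom.ker (κ' Z P₀ A d).toRingHom = ⊥ :=
    (RingHom.injective_iff_ker_eq_bot _).mp (κ'_injective Z P₀ e₀ A d)
  rw [h0]
  exact Submodule.fg_bot

end basechange

section transport

variable {A : Type u} [CommRing A] {P P' C : Type u} [CommRing P] [Algebra A P] [CommRing P']
  [Algebra A P'] [CommRing C] [Algebra A C] {d : ℕ}

/-- transport of the universal property along an isomorphism of the source algebra. -/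
theorem isGammaD_precomp_equiv (γ : PolLaw.MulLaw A P C d) (hγ : PolLaw.IsGammaD γ)
    (φ : P' ≃ₐ[A] P) : PolLaw.IsGammaD (γ.precomp φ.toAlgHom) := by
  have hφ1 : ∀ (S : Type u) [CommSemiring S] [Algebra A S] (x : S ⊗[A] P'),
      φ.symm.toAlgHom.toLinearMap.lTensor S (φ.toAlgHom.toLinearMap.lTensor S x) = x := by
    intro S _ _ x
    rw [← LinearMap.comp_apply, ← LinearMap.lTensor_comp]
    have h : φ.symm.toAlgHom.toLinearMap ∘ₗ φ.toAlgHom.toLinearMap = LinearMap.id := by
      apply LinearMap.ext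
      intro p
      simp
    rw [h, LinearMap.lTensor_id, LinearMap.id_apply]
  have hφ2 : ∀ (S : Type u) [CommSemiring S] [Algebra A S] (y : S ⊗[A] P),
      φ.toAlgHom.toLinearMap.lTensor S (φ.symm.toAlgHom.toLinearMap.lTensor S y) = y := by
    intro S _ _ y
    rw [← LinearMap.comp_apply, ← LinearMap.lTensor_comp]
    have h : φ.toAlgHom.toLinearMap ∘ₗ φ.symm.toAlgHom.toLinearMap = LinearMap.id := by
      apply LinearMap.ext
      intro p
      simp
    rw [h, LinearMap.lTensor_id, LinearMap.id_apply]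
  intro C' _ _ F
  obtain ⟨f, hf, huniq⟩ := hγ C' (F.precomp φ.symm.toAlgHom)
  have hf' : ∀ (S : Type u) [CommSemiring S] [Algebra A S] (y : S ⊗[A] P),
      f.toLinearMap.lTensor S (γ.law.toFun' S y) =
        F.law.toFun' S (φ.symm.toAlgHom.toLinearMap.lTensor S y) := by
    intro S _ _ y
    exact congrArg (fun L : P →ₚₗ[A] C' => L.toFun' S y) hf
  refine ⟨f, ?_, ?_⟩
  · apply PolynomialLaw.ext
    funext S _ _ x
    show f.toLinearMap.lTensor S (γ.law.toFun' S (φ.toAlgHom.toLinearMap.lTensor S x)) =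
      F.law.toFun' S x
    rw [hf', hφ1]
  · intro f' hf'2
    apply huniq
    apply PolynomialLaw.ext
    funext S _ _ y
    show f'.toLinearMap.lTensor S (γ.law.toFun' S y) =
      F.law.toFun' S (φ.symm.toAlgHom.toLinearMap.lTensor S y)
    have h3 : f'.toLinearMap.lTensor S (γ.law.toFun' S (φ.toAlgHom.toLinearMap.lTensor S
        (φ.symm.toAlgHom.toLinearMap.lTensor S y))) =
        F.law.toFun' S (φ.symm.toAlgHom.toLinearMap.lTensor S y) :=
      congrArg (fun L : P' →ₚₗ[A] C' =>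
        L.toFun' S (φ.symm.toAlgHom.toLinearMap.lTensor S y)) hf'2
    rw [hφ2] at h3
    exact h3

end transport

section poly

/-- a degree-`d` divided power algebra of finite presentation for a polynomial ring. -/
theorem exists_fp_gammaD (A : Type u) [CommRing A] (d n : ℕ) :
    ∃ (T : Type u) (_ : CommRing T) (_ : Algebra A T)
      (τ₁ : PolLaw.MulLaw A (MvPolynomial (Fin n) A) T d),
      PolLaw.IsGammaD τ₁ ∧ Algebra.FinitePresentation A T := by
  letI : Algebra (ULift.{u} ℤ) A := ULift.algebra' ℤ A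
  haveI : IsNoetherianRing (ULift.{u} ℤ) :=
    isNoetherianRing_of_ringEquiv ℤ (ULift.ringEquiv (R := ℤ)).symm
  haveI hFT₀ : Algebra.FiniteType (ULift.{u} ℤ)
      (SymTen.TS (ULift.{u} ℤ) (MvPolynomial (Fin n) (ULift.{u} ℤ)) d) :=
    finiteType_TS_of_noetherian (ULift.{u} ℤ) (MvPolynomial (Fin n) (ULift.{u} ℤ)) d
  haveI hFP₀ : Algebra.FinitePresentation (ULift.{u} ℤ)
      (SymTen.TS (ULift.{u} ℤ) (MvPolynomial (Fin n) (ULift.{u} ℤ)) d) :=
    Algebra.FinitePresentation.of_finiteType.mp hFT₀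
  have hFP := fp_TS_baseChange (ULift.{u} ℤ) (MvPolynomial (Fin n) (ULift.{u} ℤ))
    (Module.Free.chooseBasis (ULift.{u} ℤ) (MvPolynomial (Fin n) (ULift.{u} ℤ))) A d
  refine ⟨SymTen.TS A (A ⊗[ULift.{u} ℤ] MvPolynomial (Fin n) (ULift.{u} ℤ)) d, inferInstance,
    inferInstance,
    (τ (Algebra.TensorProduct.basis A
      (Module.Free.chooseBasis (ULift.{u} ℤ) (MvPolynomial (Fin n) (ULift.{u} ℤ)))) d).precomp
        (MvPolynomial.algebraTensorAlgEquiv (ULift.{u} ℤ) A).symm.toAlgHom, ?_, hFP⟩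
  exact isGammaD_precomp_equiv _ (isGammaD_τ _ d) _

end poly

section main

variable {A : Type u} [CommRing A] {B : Type u} [CommRing B] [Algebra A B]
  {C : Type u} [CommRing C] [Algebra A C] {d : ℕ}

/-- S13714: `Γ^d_A(B)` is of finite presentation when `B` is. -/
theorem finitePresentation_of_isGammaD (γ : PolLaw.MulLaw A B C d) (hγ : PolLaw.IsGammaD γ)
    [Algebra.FinitePresentation A B] : Algebra.FinitePresentation A C := by
  classical
  obtain ⟨n, π, hπ, hker⟩ := Algebra.FinitePresentation.out (R := A) (A := B)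
  obtain ⟨s, hs⟩ := hker
  obtain ⟨T, _, _, τ₁, hτ₁, hTfp⟩ := exists_fp_gammaD A d n
  obtain ⟨e'', -⟩ : ∃ e'' : Module.Basis
      (Module.Free.ChooseBasisIndex A (MvPolynomial (Fin n ⊕ ↥s) A)) A
      (MvPolynomial (Fin n ⊕ ↥s) A), e'' = Module.Free.chooseBasis A _ := ⟨_, rfl⟩
  have hτ'' := isGammaD_τ e'' d
  haveI hT''ft : Algebra.FiniteType A (SymTen.TS A (MvPolynomial (Fin n ⊕ ↥s) A) d) :=
    finiteType_of_isGammaD (τ e'' d) hτ''
  -- the maps between the polynomial rings
  obtain ⟨v₁, hv₁⟩ : ∃ v₁ : MvPolynomial (Fin n ⊕ ↥s) A →ₐ[A] MvPolynomial (Fin n) A,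
      v₁ = MvPolynomial.aeval
        (Sum.elim MvPolynomial.X (fun j : ↥s => (j : MvPolynomial (Fin n) A))) := ⟨_, rfl⟩
  obtain ⟨v₂, hv₂⟩ : ∃ v₂ : MvPolynomial (Fin n ⊕ ↥s) A →ₐ[A] MvPolynomial (Fin n) A,
      v₂ = MvPolynomial.aeval
        (Sum.elim MvPolynomial.X (fun _ : ↥s => (0 : MvPolynomial (Fin n) A))) := ⟨_, rfl⟩
  obtain ⟨ι, hι⟩ : ∃ ι : MvPolynomial (Fin n) A →ₐ[A] MvPolynomial (Fin n ⊕ ↥s) A,
      ι = MvPolynomial.rename Sum.inl := ⟨_, rfl⟩
  have hv₁ι : v₁.comp ι = AlgHom.id A _ := by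
    apply MvPolynomial.algHom_ext
    intro i
    rw [AlgHom.comp_apply, hι, MvPolynomial.rename_X, hv₁, MvPolynomial.aeval_X, Sum.elim_inl,
      AlgHom.id_apply]
  have hv₂ι : v₂.comp ι = AlgHom.id A _ := by
    apply MvPolynomial.algHom_ext
    intro i
    rw [AlgHom.comp_apply, hι, MvPolynomial.rename_X, hv₂, MvPolynomial.aeval_X, Sum.elim_inl,
      AlgHom.id_apply]
  have hv₁Y : ∀ j : ↥s, v₁ (MvPolynomial.X (Sum.inr j)) = (j : MvPolynomial (Fin n) A) :=
    fun j => by rw [hv₁, MvPolynomial.aeval_X, Sum.elim_inr]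
  have hv₂Y : ∀ j : ↥s, v₂ (MvPolynomial.X (Sum.inr j)) = 0 :=
    fun j => by rw [hv₂, MvPolynomial.aeval_X, Sum.elim_inr]
  have hsker : ∀ j : ↥s, π (j : MvPolynomial (Fin n) A) = 0 := by
    intro j
    have hj : (j : MvPolynomial (Fin n) A) ∈ RingHom.ker π.toRingHom := by
      rw [← hs]
      exact Submodule.subset_span j.2
    exact hj
  have hπv : π.comp v₁ = π.comp v₂ := by
    apply MvPolynomial.algHom_ext
    intro i
    rcases i with i | j
    · rw [AlgHom.comp_apply, AlgHom.comp_apply, hv₁, hv₂, MvPolynomial.aeval_X,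
        MvPolynomial.aeval_X, Sum.elim_inl, Sum.elim_inl]
    · rw [AlgHom.comp_apply, AlgHom.comp_apply, hv₁Y, hv₂Y, hsker, map_zero]
  -- the algebra maps
  obtain ⟨h, hh, -⟩ := hτ₁ C (γ.precomp π)
  have hh' : ∀ (S : Type u) [CommSemiring S] [Algebra A S]
      (x : S ⊗[A] MvPolynomial (Fin n) A),
      h.toLinearMap.lTensor S (τ₁.law.toFun' S x) =
        γ.law.toFun' S (π.toLinearMap.lTensor S x) := by
    intro S _ _ x
    exact congrArg (fun L : MvPolynomial (Fin n) A →ₚₗ[A] C => L.toFun' S x) hh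
  have hsurj : Function.Surjective h := surjective_of_precomp γ hγ τ₁ π hπ h hh
  obtain ⟨h₁, hh₁, -⟩ := hτ'' T (τ₁.precomp v₁)
  obtain ⟨h₂, hh₂, -⟩ := hτ'' T (τ₁.precomp v₂)
  have hh₁' : ∀ (S : Type u) [CommSemiring S] [Algebra A S]
      (z : S ⊗[A] MvPolynomial (Fin n ⊕ ↥s) A),
      h₁.toLinearMap.lTensor S ((τ e'' d).law.toFun' S z) =
        τ₁.law.toFun' S (v₁.toLinearMap.lTensor S z) := by
    intro S _ _ z
    exact congrArg (fun L : MvPolynomial (Fin n ⊕ ↥s) A →ₚₗ[A] T => L.toFun' S z) hh₁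
  have hh₂' : ∀ (S : Type u) [CommSemiring S] [Algebra A S]
      (z : S ⊗[A] MvPolynomial (Fin n ⊕ ↥s) A),
      h₂.toLinearMap.lTensor S ((τ e'' d).law.toFun' S z) =
        τ₁.law.toFun' S (v₂.toLinearMap.lTensor S z) := by
    intro S _ _ z
    exact congrArg (fun L : MvPolynomial (Fin n ⊕ ↥s) A →ₚₗ[A] T => L.toFun' S z) hh₂
  have hcomp : h.comp h₁ = h.comp h₂ := by
    apply (hτ'' C (γ.precomp (π.comp v₁))).unique
    · apply PolynomialLaw.ext
      funext S _ _ z
      show (h.comp h₁).toLinearMap.lTensor S ((τ e'' d).law.toFun' S z) =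
        γ.law.toFun' S ((π.comp v₁).toLinearMap.lTensor S z)
      rw [AlgHom.comp_toLinearMap, LinearMap.lTensor_comp, LinearMap.comp_apply, hh₁', hh',
        AlgHom.comp_toLinearMap, LinearMap.lTensor_comp, LinearMap.comp_apply]
    · rw [hπv]
      apply PolynomialLaw.ext
      funext S _ _ z
      show (h.comp h₂).toLinearMap.lTensor S ((τ e'' d).law.toFun' S z) =
        γ.law.toFun' S ((π.comp v₂).toLinearMap.lTensor S z)
      rw [AlgHom.comp_toLinearMap, LinearMap.lTensor_comp, LinearMap.comp_apply, hh₂', hh',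
        AlgHom.comp_toLinearMap, LinearMap.lTensor_comp, LinearMap.comp_apply]
  -- the finitely generated ideal
  obtain ⟨G, hG⟩ := (hT''ft.out :
    (⊤ : Subalgebra A (SymTen.TS A (MvPolynomial (Fin n ⊕ ↥s) A) d)).FG)
  obtain ⟨J', hJ'⟩ : ∃ J' : Ideal T, J' = Ideal.span ((fun t => h₁ t - h₂ t) ''
      (↑G : Set (SymTen.TS A (MvPolynomial (Fin n ⊕ ↥s) A) d))) := ⟨_, rfl⟩
  have hJ'fg : J'.FG := by
    rw [hJ']
    exact Submodule.fg_span (Set.Finite.image _ G.finite_toSet)
  have hdiff : ∀ t, h₁ t - h₂ t ∈ J' := by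
    intro t
    have ht : t ∈ Algebra.adjoin A
        (↑G : Set (SymTen.TS A (MvPolynomial (Fin n ⊕ ↥s) A) d)) := by
      rw [hG]
      trivial
    induction ht using Algebra.adjoin_induction with
    | mem x hx =>
      rw [hJ']
      exact Ideal.subset_span ⟨x, hx, rfl⟩
    | algebraMap r =>
      rw [AlgHom.commutes, AlgHom.commutes, sub_self]
      exact J'.zero_mem
    | add x y _ _ hx hy =>
      have e : h₁ (x + y) - h₂ (x + y) = (h₁ x - h₂ x) + (h₁ y - h₂ y) := by
        rw [map_add, map_add]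
        ring
      rw [e]
      exact J'.add_mem hx hy
    | mul x y _ _ hx hy =>
      have e : h₁ (x * y) - h₂ (x * y) = h₁ x * (h₁ y - h₂ y) + (h₁ x - h₂ x) * h₂ y := by
        rw [map_mul, map_mul]
        ring
      rw [e]
      exact J'.add_mem (J'.mul_mem_left _ hy) (J'.mul_mem_right _ hx)
  have hkerh : RingHom.ker h.toRingHom = J' := by
    apply le_antisymm
    · obtain ⟨q, hq⟩ : ∃ q : T →ₐ[A] T ⧸ J', q = Ideal.Quotient.mkₐ A J' := ⟨_, rfl⟩
      have hq0 : ∀ t, q t = 0 ↔ t ∈ J' := fun t => by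
        rw [hq, Ideal.Quotient.mkₐ_eq_mk]
        exact Ideal.Quotient.eq_zero_iff_mem
      have hqh : q.comp h₁ = q.comp h₂ := by
        apply AlgHom.ext
        intro t
        rw [AlgHom.comp_apply, AlgHom.comp_apply, ← sub_eq_zero, ← map_sub, hq0]
        exact hdiff t
      have hlift : ∀ b ∈ Ideal.span (↑s : Set (MvPolynomial (Fin n) A)),
          ∃ Y : MvPolynomial (Fin n ⊕ ↥s) A, v₁ Y = b ∧ v₂ Y = 0 := by
        intro b hb
        induction hb using Submodule.span_induction with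
        | mem x hx => exact ⟨MvPolynomial.X (Sum.inr ⟨x, hx⟩), hv₁Y ⟨x, hx⟩, hv₂Y ⟨x, hx⟩⟩
        | zero => exact ⟨0, map_zero _, map_zero _⟩
        | add x y _ _ hx hy =>
          obtain ⟨Y₁, h11, h12⟩ := hx
          obtain ⟨Y₂, h21, h22⟩ := hy
          exact ⟨Y₁ + Y₂, by rw [map_add, h11, h21], by rw [map_add, h12, h22, add_zero]⟩
        | smul a x _ hx =>
          obtain ⟨Y₁, h11, h12⟩ := hx
          refine ⟨ι a * Y₁, ?_, ?_⟩
          · rw [map_mul, h11, ← AlgHom.comp_apply, hv₁ι, AlgHom.id_apply, smul_eq_mul]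
          · rw [map_mul, h12, mul_zero]
      have hKer : KerCond (PolLaw.MulLaw.postcomp q τ₁).law π := by
        intro b hb S _ _ x w
        have hb' : b ∈ Ideal.span (↑s : Set (MvPolynomial (Fin n) A)) := by
          rw [hs]
          exact hb
        obtain ⟨Y, hY₁, hY₂⟩ := hlift b hb'
        have hmul : ∀ (v : MvPolynomial (Fin n ⊕ ↥s) A →ₐ[A] MvPolynomial (Fin n) A)
            (a c : S ⊗[A] MvPolynomial (Fin n ⊕ ↥s) A),
            v.toLinearMap.lTensor S (a * c) =
              v.toLinearMap.lTensor S a * v.toLinearMap.lTensor S c := by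
          intro v a c
          rw [PolLaw.lTensor_algHom_apply, PolLaw.lTensor_algHom_apply,
            PolLaw.lTensor_algHom_apply, map_mul]
        have hvι : ∀ (v : MvPolynomial (Fin n ⊕ ↥s) A →ₐ[A] MvPolynomial (Fin n) A),
            v.comp ι = AlgHom.id A _ → ∀ y : S ⊗[A] MvPolynomial (Fin n) A,
            v.toLinearMap.lTensor S (ι.toLinearMap.lTensor S y) = y := by
          intro v hv y
          rw [← LinearMap.comp_apply, ← LinearMap.lTensor_comp, ← AlgHom.comp_toLinearMap, hv,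
            AlgHom.toLinearMap_id, LinearMap.lTensor_id, LinearMap.id_apply]
        obtain ⟨z, hz⟩ : ∃ z : S ⊗[A] MvPolynomial (Fin n ⊕ ↥s) A,
            z = ι.toLinearMap.lTensor S x + ι.toLinearMap.lTensor S w * ((1 : S) ⊗ₜ[A] Y) :=
          ⟨_, rfl⟩
        have hz₁ : v₁.toLinearMap.lTensor S z = x + w * ((1 : S) ⊗ₜ[A] b) := by
          rw [hz, map_add, hmul, hvι v₁ hv₁ι, hvι v₁ hv₁ι, LinearMap.lTensor_tmul,
            AlgHom.toLinearMap_apply, hY₁]
        have hz₂ : v₂.toLinearMap.lTensor S z = x := by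
          rw [hz, map_add, hmul, hvι v₂ hv₂ι, hvι v₂ hv₂ι, LinearMap.lTensor_tmul,
            AlgHom.toLinearMap_apply, hY₂, TensorProduct.tmul_zero, mul_zero, add_zero]
        show q.toLinearMap.lTensor S (τ₁.law.toFun' S (x + w * ((1 : S) ⊗ₜ[A] b))) =
          q.toLinearMap.lTensor S (τ₁.law.toFun' S x)
        calc q.toLinearMap.lTensor S (τ₁.law.toFun' S (x + w * ((1 : S) ⊗ₜ[A] b)))
            = q.toLinearMap.lTensor S (τ₁.law.toFun' S (v₁.toLinearMap.lTensor S z)) := by
              rw [hz₁]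
          _ = q.toLinearMap.lTensor S (h₁.toLinearMap.lTensor S ((τ e'' d).law.toFun' S z)) := by
              rw [hh₁']
          _ = (q.comp h₁).toLinearMap.lTensor S ((τ e'' d).law.toFun' S z) := by
              rw [AlgHom.comp_toLinearMap, LinearMap.lTensor_comp, LinearMap.comp_apply]
          _ = (q.comp h₂).toLinearMap.lTensor S ((τ e'' d).law.toFun' S z) := by rw [hqh]
          _ = q.toLinearMap.lTensor S (h₂.toLinearMap.lTensor S ((τ e'' d).law.toFun' S z)) := by
              rw [AlgHom.comp_toLinearMap, LinearMap.lTensor_comp, LinearMap.comp_apply]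
          _ = q.toLinearMap.lTensor S (τ₁.law.toFun' S (v₂.toLinearMap.lTensor S z)) := by
              rw [hh₂']
          _ = q.toLinearMap.lTensor S (τ₁.law.toFun' S x) := by rw [hz₂]
      obtain ⟨g, hg, -⟩ := hγ (T ⧸ J') (descendMul (PolLaw.MulLaw.postcomp q τ₁) π hπ hKer)
      have hg' : ∀ (S : Type u) [CommSemiring S] [Algebra A S] (y : S ⊗[A] B),
          g.toLinearMap.lTensor S (γ.law.toFun' S y) =
            (descendMul (PolLaw.MulLaw.postcomp q τ₁) π hπ hKer).law.toFun' S y := by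
        intro S _ _ y
        exact congrArg (fun L : B →ₚₗ[A] T ⧸ J' => L.toFun' S y) hg
      have hgh : g.comp h = q := by
        apply (hτ₁ (T ⧸ J') (PolLaw.MulLaw.postcomp q τ₁)).unique
        · apply PolynomialLaw.ext
          funext S _ _ x
          show (g.comp h).toLinearMap.lTensor S (τ₁.law.toFun' S x) =
            q.toLinearMap.lTensor S (τ₁.law.toFun' S x)
          rw [AlgHom.comp_toLinearMap, LinearMap.lTensor_comp, LinearMap.comp_apply, hh', hg',
            descendMul_apply]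
          rfl
        · rfl
      intro t ht
      have ht0 : h t = 0 := ht
      rw [← hq0, ← hgh, AlgHom.comp_apply, ht0, map_zero]
    · rw [hJ', Ideal.span_le]
      rintro _ ⟨t, _, rfl⟩
      show h (h₁ t - h₂ t) = 0
      rw [map_sub, sub_eq_zero]
      exact AlgHom.congr_fun hcomp t
  refine Algebra.FinitePresentation.of_surjective (f := h) hsurj ?_
  rw [hkerh]
  exact hJ'fg

end main

end Groth.Agent.Lib.Helper24.GamFP
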