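import Mathlib
import Groth.Prelude.Def_SymTen
import Groth.Prelude.Def_PolLaw2
import Groth.Agent.Lib.Helper22.SymTenFree
import Groth.Agent.Lib.Helper24.GamFree
import Groth.Agent.Lib.Helper24.GamUniv
import Groth.Agent.Lib.Helper24.GamDesc
import Groth.Agent.Lib.Helper24.GamFin
import Groth.Agent.Lib.Helper24.PolLawBC
import Groth.Agent.Lib.Helper24.GamRes

/-!
# Field valued points of `Γ^d_A(B)` lift to `TS^d_A(B)` (helper24)

`exists_lift`: for a field `K` over `A`, every `A`-algebra map `c : Γ^d_A(B) → K` extends along the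
canonical map `φ : Γ^d_A(B) → TS^d_A(B)`.
-/

set_option autoImplicit false

namespace Groth.Agent.Lib.Helper24.GamLift

open scoped TensorProduct
open Module
open Groth.Agent.Lib.Helper24.GamFree Groth.Agent.Lib.Helper24.GamUniv
  Groth.Agent.Lib.Helper24.GamDesc Groth.Agent.Lib.Helper24.PolLawBC
  Groth.Agent.Lib.Helper24.GamRes

universe u

variable {A : Type u} [CommRing A] {B : Type u} [CommRing B] [Algebra A B]
  {C : Type u} [CommRing C] [Algebra A C] (d : ℕ)
  (γ : PolLaw.MulLaw A B C d) (hγ : PolLaw.IsGammaD γ) (φ : C →ₐ[A] SymTen.TS A B d)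
  (hφ : ∀ (S : Type u) [CommSemiring S] [Algebra A S] (n : ℕ) (s : Fin n → S) (b : Fin n → B),
      ((SymTen.TS A B d).val.comp φ).toLinearMap.lTensor S
        (γ.law.toFun' S (∑ j, s j ⊗ₜ[A] b j)) =
        ∑ c : Fin d → Fin n, (∏ i, s (c i)) ⊗ₜ[A] PiTensorProduct.tprod A (fun i => b (c i)))

include hγ hφ in
/-- Key lemma: field valued points of `Γ^d_A(B)` lift to `TS^d_A(B)`. -/
theorem exists_lift (K : Type u) [Field K] [Algebra A K] (c : C →ₐ[A] K) :
    ∃ ψ : SymTen.TS A B d →ₐ[A] K, ψ.comp φ = c := by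
  classical
  obtain ⟨F, hF⟩ : ∃ F : PolLaw.MulLaw A B K d, F = γ.postcomp c := ⟨_, rfl⟩
  let e : Basis (Module.Free.ChooseBasisIndex K (K ⊗[A] B)) K (K ⊗[A] B) :=
    Module.Free.chooseBasis K (K ⊗[A] B)
  obtain ⟨hk, hhk, -⟩ := isGammaD_τ e d K (bcMul K F)
  have hhk' : ∀ (S : Type u) [CommSemiring S] [Algebra K S] (x : S ⊗[K] (K ⊗[A] B)),
      hk.toLinearMap.lTensor S ((τ e d).law.toFun' S x) = (bcMul K F).law.toFun' S x := by
    intro S _ _ x
    exact congrArg (fun L : (K ⊗[A] B) →ₚₗ[K] K => L.toFun' S x) hhk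
  obtain ⟨H, hH⟩ : ∃ H : (⨂[K] _ : Fin d, K ⊗[A] B) →ₗ[K] K, H = hk.toLinearMap ∘ₗ ρ e d :=
    ⟨_, rfl⟩
  let ψ : SymTen.TS A B d →ₐ[A] K :=
    { toRingHom := (hk : SymTen.TS K (K ⊗[A] B) d →+* K).comp (κ A B K d)
      commutes' := fun a => by
        show hk (κ A B K d (algebraMap A (SymTen.TS A B d) a)) = algebraMap A K a
        have h1 : κ A B K d (algebraMap A (SymTen.TS A B d) a) =
            algebraMap K (SymTen.TS K (K ⊗[A] B) d) (algebraMap A K a) := by
          apply Subtype.ext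
          rw [val_κ]
          show κT A B K d (algebraMap A (⨂[A] _ : Fin d, B) a) =
            algebraMap K (⨂[K] _ : Fin d, K ⊗[A] B) (algebraMap A K a)
          rw [AlgHom.commutes, IsScalarTower.algebraMap_apply A K (⨂[K] _ : Fin d, K ⊗[A] B)]
        rw [h1, AlgHom.commutes]
        rfl }
  have hψlin : ψ.toLinearMap = ((H.restrictScalars A) ∘ₗ (κT A B K d).toLinearMap) ∘ₗ
      (SymTen.TS A B d).val.toLinearMap := by
    apply LinearMap.ext
    intro t
    show hk (κ A B K d t) = H (κT A B K d (t : ⨂[A] _ : Fin d, B))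
    rw [hH, LinearMap.comp_apply, ← val_κ, ρ_val]
    rfl
  have hmain : ∀ (S : Type u) [CommSemiring S] [Algebra A S] (x : S ⊗[A] B),
      ((H.restrictScalars A) ∘ₗ (κT A B K d).toLinearMap).lTensor S
        ((SymTen.tpowLaw A B d).law.toFun' S x) = F.law.toFun' S x := by
    intro S _ _ x
    apply (TensorProduct.comm A S K).injective
    apply (Algebra.TensorProduct.rid K (K ⊗[A] S) (K ⊗[A] S)).symm.injective
    rw [← H_identity A B K d S H, ΛT_tpow A B K d S x, ← bc_pt A B K S F x,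
      ← hhk' (K ⊗[A] S) (pt A B K S x), ← val_τ_apply e d (K ⊗[A] S) (pt A B K S x),
      ← LinearMap.lTensor_comp_apply, hH, LinearMap.comp_assoc, ρ_comp_val, LinearMap.comp_id]
  have hφ' : ∀ (S : Type u) [CommSemiring S] [Algebra A S] (x : S ⊗[A] B),
      ((SymTen.TS A B d).val.comp φ).toLinearMap.lTensor S (γ.law.toFun' S x) =
        (SymTen.tpowLaw A B d).law.toFun' S x := by
    intro S _ _ x
    obtain ⟨n, s, b, rfl⟩ := exists_fin_sum x
    rw [hφ S n s b, Groth.Agent.Lib.Helper22.SymTenFree.tpowLaw_sum]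
  refine ⟨ψ, ?_⟩
  obtain ⟨f₀, -, huniq⟩ := hγ K F
  have h1 : ψ.comp φ = f₀ := huniq _ (by
    apply PolynomialLaw.ext
    funext S _ _ x
    show (ψ.comp φ).toLinearMap.lTensor S (γ.law.toFun' S x) = F.law.toFun' S x
    rw [AlgHom.comp_toLinearMap, hψlin, LinearMap.comp_assoc, ← AlgHom.comp_toLinearMap,
      LinearMap.lTensor_comp, LinearMap.comp_apply, hφ', hmain])
  have h2 : c = f₀ := huniq _ (by rw [hF]; rfl)
  rw [h1, h2]

end Groth.Agent.Lib.Helper24.GamLift
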