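import Mathlib
import Groth.Agent.Lib.Helper24.TSFlat2

/-!
# Geometric reducedness of the fibres of `Γ^d_A(B)` for flat `B` (helper24)

* `succEquiv`, `zeroEquiv`: `T^{e+1}(B) ≅ T^e(B) ⊗ B`, `T^0(B) ≅ A` as algebras (over any
  commutative ring; the field version is in `Lib/Lead/TPow`).
* `isReduced_tensor_of_noetherian`, `isReduced_tensor_of_field`: if `B` is flat over `A` with
  `K ⊗_A B` reduced for all fields `K` over `A`, then `B ⊗_A R'` is reduced for every reduced
  algebra `R'` over a field over `A`.
* `isReduced_tensor_tpow`: the same for the tensor powers `T^d_A(B)`.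
* `isReduced_of_isGammaD`: `K ⊗_A Γ^d_A(B)` is reduced.
-/

set_option autoImplicit false

namespace Groth.Agent.Lib.Helper24.GamRed

open scoped TensorProduct
open PiTensorProduct

universe u v w

section tpow

/-- A linear map between algebras that is multiplicative on a spanning set is multiplicative. -/
theorem map_mul_of_span {k : Type u} [CommSemiring k] {A : Type v} [Semiring A] [Algebra k A]
    {B : Type w} [Semiring B] [Algebra k B] (l : A →ₗ[k] B) (G : Set A)
    (hG : Submodule.span k G = ⊤) (h : ∀ g ∈ G, ∀ g' ∈ G, l (g * g') = l g * l g') :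
    ∀ x y : A, l (x * y) = l x * l y := by
  have key : (LinearMap.mul k A).compr₂ l = (LinearMap.mul k B).compl₁₂ l l := by
    refine LinearMap.ext_on hG (fun g hg => LinearMap.ext_on hG (fun g' hg' => ?_))
    simpa using h g hg g' hg'
  intro x y
  have := LinearMap.congr_fun (LinearMap.congr_fun key x) y
  simpa using this

variable (k : Type u) [CommRing k] (A : Type v) [CommRing A] [Algebra k A]

/-- `tpow 0 ≅ k`. -/
noncomputable def zeroEquiv : (⨂[k] _ : Fin 0, A) ≃ₐ[k] k :=
  AlgEquiv.ofLinearEquiv (isEmptyEquiv (R := k) (s := fun _ : Fin 0 => A) (Fin 0))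
    (by rw [PiTensorProduct.one_def, isEmptyEquiv_apply_tprod])
    (by
      refine map_mul_of_span
        (isEmptyEquiv (R := k) (s := fun _ : Fin 0 => A) (Fin 0)).toLinearMap _
        span_tprod_eq_top ?_
      rintro _ ⟨a, rfl⟩ _ ⟨a', rfl⟩
      rw [tprod_mul_tprod]
      simp only [LinearEquiv.coe_coe, isEmptyEquiv_apply_tprod, mul_one])

/-- the linear equivalence `tpow e ⊗ A ≃ tpow (e+1)`. -/
noncomputable def succLin (e : ℕ) : (⨂[k] _ : Fin e, A) ⊗[k] A ≃ₗ[k] ⨂[k] _ : Fin (e + 1), A :=
  ((TensorProduct.congr (LinearEquiv.refl k (⨂[k] _ : Fin e, A))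
      (subsingletonEquiv (R := k) (s := fun _ : Fin 1 => A) (0 : Fin 1)).symm).trans
    (tmulEquiv k A)).trans (reindex k (fun _ : Fin e ⊕ Fin 1 => A) finSumFinEquiv)

theorem succLin_tmul (e : ℕ) (a : Fin e → A) (x : A) :
    succLin k A e (tprod k a ⊗ₜ[k] x) =
      tprod k (fun i : Fin (e + 1) => Sum.elim a (fun _ : Fin 1 => x) (finSumFinEquiv.symm i)) := by
  simp only [succLin, LinearEquiv.trans_apply, TensorProduct.congr_tmul, LinearEquiv.refl_apply,
    subsingletonEquiv_symm_apply', tmulEquiv_apply, reindex_tprod]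

theorem span_tmul (e : ℕ) :
    Submodule.span k {t : (⨂[k] _ : Fin e, A) ⊗[k] A | ∃ (a : Fin e → A) (x : A),
      t = tprod k a ⊗ₜ[k] x} = ⊤ := by
  rw [eq_top_iff]
  rintro t -
  induction t using TensorProduct.induction_on with
  | zero => exact Submodule.zero_mem _
  | tmul u x =>
    have hu : u ∈ Submodule.span k (Set.range (tprod k (s := fun _ : Fin e => A))) := by
      rw [span_tprod_eq_top]
      exact Submodule.mem_top
    induction hu using Submodule.span_induction with
    | mem u hu =>
      obtain ⟨a, rfl⟩ := hu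
      exact Submodule.subset_span ⟨a, x, rfl⟩
    | zero =>
      rw [TensorProduct.zero_tmul]
      exact Submodule.zero_mem _
    | add u v _ _ hu hv =>
      rw [TensorProduct.add_tmul]
      exact Submodule.add_mem _ hu hv
    | smul r u _ hu =>
      rw [← TensorProduct.smul_tmul']
      exact Submodule.smul_mem _ r hu
  | add x y hx hy => exact Submodule.add_mem _ hx hy

/-- `tpow e ⊗ A ≅ tpow (e+1)` as algebras. -/
noncomputable def succEquiv (e : ℕ) : (⨂[k] _ : Fin e, A) ⊗[k] A ≃ₐ[k] ⨂[k] _ : Fin (e + 1), A :=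
  AlgEquiv.ofLinearEquiv (succLin k A e)
    (by
      rw [Algebra.TensorProduct.one_def, PiTensorProduct.one_def, succLin_tmul,
        PiTensorProduct.one_def]
      congr 1
      funext i
      rcases finSumFinEquiv.symm i with j | j <;> rfl)
    (by
      refine map_mul_of_span (succLin k A e).toLinearMap _ (span_tmul k A e) ?_
      rintro _ ⟨a, x, rfl⟩ _ ⟨a', x', rfl⟩
      rw [Algebra.TensorProduct.tmul_mul_tmul, tprod_mul_tprod]
      simp only [LinearEquiv.coe_coe, succLin_tmul, tprod_mul_tprod]
      congr 1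
      funext i
      simp only [Pi.mul_apply]
      rcases finSumFinEquiv.symm i with j | j <;> rfl)

end tpow

section red

variable {A : Type u} [CommRing A] {B : Type u} [CommRing B] [Algebra A B]

/-- if `D` embeds in a finite product of algebras `L i` with `B ⊗ L i` reduced and `B` is flat,
then `B ⊗ D` is reduced. -/
theorem isReduced_tensor_of_pi_injective [Module.Flat A B] {ι : Type u} [Fintype ι]
    [DecidableEq ι] (L : ι → Type u) [∀ i, CommRing (L i)] [∀ i, Algebra A (L i)]
    (hL : ∀ i, IsReduced (B ⊗[A] L i)) (D : Type u) [CommRing D] [Algebra A D]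
    (φ : D →ₐ[A] ∀ i, L i) (hφ : Function.Injective φ) : IsReduced (B ⊗[A] D) := by
  haveI : ∀ i, IsReduced (B ⊗[A] L i) := hL
  let Ψ : B ⊗[A] D →ₐ[A] ∀ i, B ⊗[A] L i :=
    (Algebra.TensorProduct.piRight A A B L).toAlgHom.comp
      (Algebra.TensorProduct.map (AlgHom.id A B) φ)
  have hΨ : Function.Injective Ψ := by
    have h1 : Function.Injective (Algebra.TensorProduct.map (AlgHom.id A B) φ) :=
      Module.Flat.lTensor_preserves_injective_linearMap (M := B) φ.toLinearMap hφ
    exact (Algebra.TensorProduct.piRight A A B L).injective.comp h1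
  exact isReduced_of_injective Ψ hΨ

/-- `B ⊗_A D` is reduced for a reduced noetherian `A`-algebra `D`. -/
theorem isReduced_tensor_of_noetherian [Module.Flat A B]
    (hred : ∀ (K : Type u) [Field K] [Algebra A K], IsReduced (K ⊗[A] B))
    (D : Type u) [CommRing D] [Algebra A D] [IsNoetherianRing D] [IsReduced D] :
    IsReduced (B ⊗[A] D) := by
  classical
  have hfin : (minimalPrimes D).Finite := minimalPrimes.finite_of_isNoetherianRing D
  haveI : Fintype (minimalPrimes D) := hfin.fintype
  haveI hprime : ∀ p : minimalPrimes D, p.1.IsPrime :=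
    fun p => Ideal.IsMinimalPrime.isPrime (I := ⊥) p.2
  refine isReduced_tensor_of_pi_injective (fun p : minimalPrimes D => p.1.ResidueField) ?_ D
    (AlgHom.pi fun p => IsScalarTower.toAlgHom A D p.1.ResidueField) ?_
  · intro p
    haveI := hred p.1.ResidueField
    exact isReduced_of_injective (Algebra.TensorProduct.comm A B p.1.ResidueField)
      (Algebra.TensorProduct.comm A B p.1.ResidueField).injective
  · rw [injective_iff_map_eq_zero]
    intro x hx
    have hmem : x ∈ sInf (minimalPrimes D) := by
      rw [Ideal.mem_sInf]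
      intro p hp
      haveI : p.IsPrime := hprime ⟨p, hp⟩
      have h1 : algebraMap D p.ResidueField x = 0 := congrFun hx ⟨p, hp⟩
      exact Ideal.algebraMap_residueField_eq_zero.mp h1
    have h2 : sInf (minimalPrimes D) = (⊥ : Ideal D).radical :=
      Ideal.sInf_minimalPrimes (I := (⊥ : Ideal D))
    have h3 : (⊥ : Ideal D).radical = ⊥ := nilradical_eq_zero D
    rw [h2, h3] at hmem
    exact (Submodule.mem_bot D).mp hmem

/-- `B ⊗_A R'` is reduced for a reduced algebra `R'` over a field `K` over `A`. -/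
theorem isReduced_tensor_of_field [Module.Flat A B]
    (hred : ∀ (K : Type u) [Field K] [Algebra A K], IsReduced (K ⊗[A] B))
    (K : Type u) [Field K] [Algebra A K]
    (R' : Type u) [CommRing R'] [Algebra K R'] [Algebra A R'] [IsScalarTower A K R']
    [IsReduced R'] : IsReduced (B ⊗[A] R') := by
  apply IsReduced.tensorProduct_of_flat_of_forall_fg
  intro D hD
  obtain ⟨s, hs⟩ := hD
  let E₀ : Subalgebra K R' := Algebra.adjoin K (s : Set R')
  let E : Subalgebra A R' := E₀.restrictScalars A
  have hDE : D ≤ E := by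
    rw [← hs]
    apply Algebra.adjoin_le
    intro x hx
    exact (Subalgebra.mem_restrictScalars A).mpr (Algebra.subset_adjoin (R := K) hx)
  haveI : Algebra.FiniteType K E₀ :=
    (Subalgebra.fg_iff_finiteType E₀).mp (Subalgebra.fg_adjoin_finset s)
  haveI : IsNoetherianRing E₀ := Algebra.FiniteType.isNoetherianRing K E₀
  let ρ : E₀ ≃+* E :=
    { toFun := fun x => ⟨x.1, (Subalgebra.mem_restrictScalars A).mpr x.2⟩
      invFun := fun x => ⟨x.1, (Subalgebra.mem_restrictScalars A).mp x.2⟩
      left_inv := fun _ => rfl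
      right_inv := fun _ => rfl
      map_mul' := fun _ _ => rfl
      map_add' := fun _ _ => rfl }
  haveI : IsNoetherianRing E := isNoetherianRing_of_ringEquiv E₀ ρ
  haveI : IsReduced E := isReduced_of_injective E.val Subtype.val_injective
  haveI : IsReduced (B ⊗[A] E) := isReduced_tensor_of_noetherian hred E
  have hinj : Function.Injective
      (Algebra.TensorProduct.map (AlgHom.id A B) (Subalgebra.inclusion hDE)) :=
    Module.Flat.lTensor_preserves_injective_linearMap (M := B)
      (Subalgebra.inclusion hDE).toLinearMap (Subalgebra.inclusion_injective hDE)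
  exact isReduced_of_injective _ hinj

/-- `R' ⊗_A T^d_A(B)` is reduced for a reduced algebra `R'` over a field `K` over `A`. -/
theorem isReduced_tensor_tpow [Module.Flat A B]
    (hred : ∀ (K : Type u) [Field K] [Algebra A K], IsReduced (K ⊗[A] B)) (d : ℕ) :
    ∀ (K : Type u) [Field K] [Algebra A K] (R' : Type u) [CommRing R'] [Algebra K R']
      [Algebra A R'] [IsScalarTower A K R'] [IsReduced R'],
      IsReduced (R' ⊗[A] (⨂[A] _ : Fin d, B)) := by
  induction d with
  | zero =>
    intro K _ _ R' _ _ _ _ _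
    let e : R' ⊗[A] (⨂[A] _ : Fin 0, B) ≃ₐ[A] R' :=
      (Algebra.TensorProduct.congr AlgEquiv.refl (zeroEquiv A B)).trans
        (Algebra.TensorProduct.rid A A R')
    exact isReduced_of_injective e e.injective
  | succ d ih =>
    intro K _ _ R' _ _ _ _ _
    haveI : IsReduced (R' ⊗[A] (⨂[A] _ : Fin d, B)) := ih K R'
    haveI : IsReduced (B ⊗[A] (R' ⊗[A] (⨂[A] _ : Fin d, B))) :=
      isReduced_tensor_of_field hred K (R' ⊗[A] (⨂[A] _ : Fin d, B))
    let e : R' ⊗[A] (⨂[A] _ : Fin (d + 1), B) ≃ₐ[A] B ⊗[A] (R' ⊗[A] (⨂[A] _ : Fin d, B)) :=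
      ((Algebra.TensorProduct.congr AlgEquiv.refl (succEquiv A B d).symm).trans
        (Algebra.TensorProduct.assoc A A A R' (⨂[A] _ : Fin d, B) B).symm).trans
        (Algebra.TensorProduct.comm A _ B)
    exact isReduced_of_injective e e.injective

/-- `K ⊗_A Γ^d_A(B)` is reduced. -/
theorem isReduced_of_isGammaD {C : Type u} [CommRing C] [Algebra A C] {d : ℕ}
    (γ : PolLaw.MulLaw A B C d) (hγ : PolLaw.IsGammaD γ) [Module.Flat A B]
    (hred : ∀ (K : Type u) [Field K] [Algebra A K], IsReduced (K ⊗[A] B))
    (K : Type u) [Field K] [Algebra A K] : IsReduced (K ⊗[A] C) := by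
  obtain ⟨τB, -, hG⟩ := TSFlat.exists_τ_flat (A := A) (B := B) d
  obtain ⟨e, -⟩ := TSFlat2.nonempty_algEquiv_of_isGammaD γ hγ τB hG
  haveI : IsReduced (K ⊗[A] (⨂[A] _ : Fin d, B)) := isReduced_tensor_tpow hred d K K
  let f : K ⊗[A] C →ₐ[A] K ⊗[A] (⨂[A] _ : Fin d, B) :=
    (Algebra.TensorProduct.map (AlgHom.id A K) (SymTen.TS A B d).val).comp
      (Algebra.TensorProduct.congr AlgEquiv.refl e).toAlgHom
  have hf : Function.Injective f := by
    have h1 : Function.Injective
        (Algebra.TensorProduct.map (AlgHom.id A K) (SymTen.TS A B d).val) :=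
      TSFlat.lTensor_val_injective d K
    exact h1.comp (Algebra.TensorProduct.congr AlgEquiv.refl e).injective
  exact isReduced_of_injective f hf

end red

end Groth.Agent.Lib.Helper24.GamRed
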