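import Mathlib
import Groth.Prelude.Def_SymTen
import Groth.Prelude.Def_PolLaw2
import Groth.Agent.Lib.Helper11.UHRing
import Groth.Agent.Lib.Helper24.GamFin
import Groth.Agent.Lib.Helper24.GamLift

/-!
# `Γ^d_A(B) → TS^d_A(B)` is a universal homeomorphism with trivial residue field extensions
(ring level; helper24)
-/

set_option autoImplicit false

namespace Groth.Agent.Lib.Helper24.GamUH

open scoped TensorProduct
open Module
open Groth.Agent.Lib.Helper24.GamFin Groth.Agent.Lib.Helper24.GamLift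
open Groth.Agent.Lib.Helper11.UHRing

universe u

variable {A : Type u} [CommRing A] {B : Type u} [CommRing B] [Algebra A B]
  {C : Type u} [CommRing C] [Algebra A C] (d : ℕ)
  (γ : PolLaw.MulLaw A B C d) (hγ : PolLaw.IsGammaD γ) (φ : C →ₐ[A] SymTen.TS A B d)
  (hφ : ∀ (S : Type u) [CommSemiring S] [Algebra A S] (n : ℕ) (s : Fin n → S) (b : Fin n → B),
      ((SymTen.TS A B d).val.comp φ).toLinearMap.lTensor S
        (γ.law.toFun' S (∑ j, s j ⊗ₜ[A] b j)) =
        ∑ c : Fin d → Fin n, (∏ i, s (c i)) ⊗ₜ[A] PiTensorProduct.tprod A (fun i => b (c i)))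

include hγ hφ in
/-- `Γ^d_A(B) → TS^d_A(B)` is integral, has nil kernel and is universally injective on spectra. -/
theorem uh : UH φ.toRingHom := by
  obtain ⟨hnil, hrange⟩ := pow_factorial d γ hγ φ hφ
  refine ⟨?_, ?_, ?_⟩
  · intro y
    obtain ⟨c₁, hc₁⟩ := (AlgHom.mem_range φ).mp (hrange y)
    refine ⟨Polynomial.X ^ d.factorial - Polynomial.C c₁,
      Polynomial.monic_X_pow_sub_C c₁ (Nat.factorial_ne_zero d), ?_⟩
    rw [Polynomial.eval₂_sub, Polynomial.eval₂_X_pow, Polynomial.eval₂_C]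
    show y ^ d.factorial - φ c₁ = 0
    rw [hc₁, sub_self]
  · intro x hx
    rw [mem_nilradical]
    exact ⟨d.factorial, hnil x hx⟩
  · intro K _ g₁ g₂ hg
    obtain ⟨F, h1', -⟩ := exists_F' d γ hγ φ hφ
    letI : Algebra A K := (g₁.comp (algebraMap A (SymTen.TS A B d))).toAlgebra
    let g₁' : SymTen.TS A B d →ₐ[A] K := { toRingHom := g₁, commutes' := fun a => rfl }
    let g₂' : SymTen.TS A B d →ₐ[A] K :=
      { toRingHom := g₂
        commutes' := fun a => by
          show g₂ (algebraMap A (SymTen.TS A B d) a) = g₁ (algebraMap A (SymTen.TS A B d) a)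
          rw [← φ.commutes a]
          exact (RingHom.congr_fun hg (algebraMap A C a)).symm }
    have hG : ∀ w : K ⊗[A] C,
        Algebra.TensorProduct.productMap (AlgHom.id A K) g₁' (φ.toLinearMap.lTensor K w) =
        Algebra.TensorProduct.productMap (AlgHom.id A K) g₂' (φ.toLinearMap.lTensor K w) := by
      intro w
      induction w using TensorProduct.induction_on with
      | zero => simp
      | tmul k x =>
        rw [LinearMap.lTensor_tmul, AlgHom.toLinearMap_apply,
          Algebra.TensorProduct.productMap_apply_tmul,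
          Algebra.TensorProduct.productMap_apply_tmul]
        congr 1
        exact RingHom.congr_fun hg x
      | add x y hx hy => rw [map_add, map_add, map_add, hx, hy]
    apply RingHom.ext
    intro y
    have hz1 : Algebra.TensorProduct.productMap (AlgHom.id A K) g₁'
        ((1 : K) ⊗ₜ[A] y - (g₁ y) ⊗ₜ[A] (1 : SymTen.TS A B d)) = 0 := by
      rw [map_sub, Algebra.TensorProduct.productMap_apply_tmul,
        Algebra.TensorProduct.productMap_apply_tmul, map_one, map_one, AlgHom.id_apply, one_mul,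
        mul_one]
      exact sub_self (g₁ y)
    have hz2 : Algebra.TensorProduct.productMap (AlgHom.id A K) g₂'
        ((1 : K) ⊗ₜ[A] y - (g₁ y) ⊗ₜ[A] (1 : SymTen.TS A B d)) = g₂ y - g₁ y := by
      rw [map_sub, Algebra.TensorProduct.productMap_apply_tmul,
        Algebra.TensorProduct.productMap_apply_tmul, map_one, map_one, AlgHom.id_apply, one_mul,
        mul_one]
      rfl
    have h := hG (F.law.toFun' K ((1 : K) ⊗ₜ[A] y - (g₁ y) ⊗ₜ[A] (1 : SymTen.TS A B d)))
    rw [h1' K _, map_pow, map_pow, hz1, hz2, zero_pow (Nat.factorial_ne_zero d)] at h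
    have h0 : g₂ y - g₁ y = 0 := (pow_eq_zero_iff (Nat.factorial_ne_zero d)).mp h.symm
    exact (sub_eq_zero.mp h0).symm

include hγ hφ in
/-- `Γ^d_A(B) → TS^d_A(B)` induces trivial residue field extensions. -/
theorem resTriv : ResTriv φ.toRingHom := by
  intro q y
  obtain ⟨hnil, hrange⟩ := pow_factorial d γ hγ φ hφ
  have hdpos : 0 < d.factorial := Nat.factorial_pos d
  let p : Ideal C := q.asIdeal.comap φ
  haveI hp : p.IsPrime := Ideal.comap_isPrime φ q.asIdeal
  let c : C →ₐ[A] FractionRing (C ⧸ p) :=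
    (IsScalarTower.toAlgHom A (C ⧸ p) (FractionRing (C ⧸ p))).comp (Ideal.Quotient.mkₐ A p)
  have hc0 : ∀ x : C, c x = 0 ↔ x ∈ p := by
    intro x
    show algebraMap (C ⧸ p) (FractionRing (C ⧸ p)) (Ideal.Quotient.mk p x) = 0 ↔ x ∈ p
    rw [← Ideal.Quotient.eq_zero_iff_mem]
    exact map_eq_zero_iff _ (IsFractionRing.injective (C ⧸ p) (FractionRing (C ⧸ p)))
  obtain ⟨ψ, hψ⟩ := exists_lift d γ hγ φ hφ (FractionRing (C ⧸ p)) c
  have hψφ : ∀ x : C, ψ (φ x) = c x :=
    fun x => congrArg (fun f : C →ₐ[A] FractionRing (C ⧸ p) => f x) hψ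
  have hker : ∀ t : SymTen.TS A B d, ψ t = 0 ↔ t ∈ q.asIdeal := by
    intro t
    obtain ⟨c₁, hc₁⟩ := (AlgHom.mem_range φ).mp (hrange t)
    rw [← q.isPrime.pow_mem_iff_mem d.factorial hdpos, ← hc₁]
    have hmem : φ c₁ ∈ q.asIdeal ↔ c₁ ∈ p := Iff.rfl
    rw [hmem, ← hc0, ← hψφ, hc₁, map_pow]
    exact (pow_eq_zero_iff hdpos.ne').symm
  obtain ⟨a, s, hs, has⟩ := IsFractionRing.div_surjective (A := C ⧸ p) (ψ y)
  obtain ⟨a', rfl⟩ := Ideal.Quotient.mk_surjective a
  obtain ⟨s', rfl⟩ := Ideal.Quotient.mk_surjective s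
  have hs0 : c s' ≠ 0 := by
    intro h
    have h' : Ideal.Quotient.mk p s' = 0 := Ideal.Quotient.eq_zero_iff_mem.mpr ((hc0 s').mp h)
    exact (nonZeroDivisors.ne_zero hs) h'
  refine ⟨a', s', ?_, ?_⟩
  · show φ s' ∉ q.asIdeal
    intro h
    exact hs0 ((hc0 s').mpr h)
  · show φ s' * y - φ a' ∈ q.asIdeal
    rw [← hker, map_sub, map_mul, hψφ, hψφ]
    have has' : c a' / c s' = ψ y := has
    rw [← has', mul_div_cancel₀ _ hs0, sub_self]

end Groth.Agent.Lib.Helper24.GamUH
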