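import Mathlib

/-!
# `ℤ^n`-graded finite projective modules over `R[x_1, …, x_n]` are graded-free locally on `Spec R`
-/

set_option autoImplicit false
set_option maxHeartbeats 400000
set_option linter.style.haveILetI false
set_option linter.unusedSectionVars false

universe u v

namespace Groth.Agent.Lib.Helper24.GradedFree

open MvPolynomial

section poly

variable {R : Type u} [CommRing R] {n : ℕ}

/-- The sum of exponents. -/
def deg (a : Fin n →₀ ℕ) : ℕ := ∑ i, a i

theorem deg_add (a b : Fin n →₀ ℕ) : deg (a + b) = deg a + deg b := by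
  simp [deg, Finset.sum_add_distrib]

theorem deg_eq_zero {a : Fin n →₀ ℕ} (h : deg a = 0) : a = 0 := by
  ext i
  have := (Finset.sum_eq_zero_iff.mp h) i (Finset.mem_univ i)
  simpa using this

theorem deg_le_totalDegree {c : MvPolynomial (Fin n) R} {a : Fin n →₀ ℕ} (ha : a ∈ c.support) :
    deg a ≤ c.totalDegree := by
  have := MvPolynomial.le_totalDegree ha
  rwa [Finsupp.sum_fintype _ _ (fun _ => rfl)] at this

theorem coeff_pow_eq_zero_of_deg_lt (h : MvPolynomial (Fin n) R) (h0 : coeff 0 h = 0) :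
    ∀ (k : ℕ) (a : Fin n →₀ ℕ), deg a < k → coeff a (h ^ k) = 0 := by
  intro k
  induction k with
  | zero => intro a ha; exact absurd ha (Nat.not_lt_zero _)
  | succ k ih =>
    intro a ha
    classical
    rw [pow_succ, coeff_mul]
    refine Finset.sum_eq_zero ?_
    rintro ⟨a₁, a₂⟩ hmem'
    have hmem : a₁ + a₂ = a := Finset.HasAntidiagonal.mem_antidiagonal.mp hmem'
    dsimp only
    by_cases h2 : a₂ = 0
    · rw [h2, h0, mul_zero]
    · have hd2 : 1 ≤ deg a₂ := Nat.one_le_iff_ne_zero.mpr (fun hz => h2 (deg_eq_zero hz))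
      have hd : deg a₁ + deg a₂ = deg a := by rw [← deg_add, hmem]
      rw [ih a₁ (by omega), zero_mul]

theorem C_pow_mul_eq_zero (h c : MvPolynomial (Fin n) R) (hc : h * c = 0) (k : ℕ)
    (hk : c.totalDegree < k) : (C (constantCoeff h)) ^ k * c = 0 := by
  obtain ⟨r₀, hr₀⟩ : ∃ r₀ : R, r₀ = constantCoeff h := ⟨_, rfl⟩
  rw [← hr₀]
  have h1 : C r₀ * c = (C r₀ - h) * c := by rw [sub_mul, hc, sub_zero]
  have h2 : ∀ j : ℕ, (C r₀) ^ j * c = (C r₀ - h) ^ j * c := by
    intro j
    induction j with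
    | zero => simp
    | succ j ih =>
      calc (C r₀) ^ (j + 1) * c = (C r₀) ^ j * (C r₀ * c) := by ring
        _ = (C r₀) ^ j * ((C r₀ - h) * c) := by rw [h1]
        _ = (C r₀ - h) * ((C r₀) ^ j * c) := by ring
        _ = (C r₀ - h) * ((C r₀ - h) ^ j * c) := by rw [ih]
        _ = (C r₀ - h) ^ (j + 1) * c := by ring
  have h0 : coeff 0 (C r₀ - h) = 0 := by
    rw [coeff_sub, coeff_C, if_pos rfl, hr₀, constantCoeff_eq, sub_self]
  ext a
  rw [coeff_zero]
  by_cases ha : a ∈ c.support
  · have hlt : deg a < k := lt_of_le_of_lt (deg_le_totalDegree ha) hk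
    classical
    rw [h2 k, coeff_mul]
    refine Finset.sum_eq_zero ?_
    rintro ⟨a₁, a₂⟩ hmem'
    have hmem : a₁ + a₂ = a := Finset.HasAntidiagonal.mem_antidiagonal.mp hmem'
    dsimp only
    have hle : deg a₁ ≤ deg a := by rw [← hmem, deg_add]; omega
    rw [coeff_pow_eq_zero_of_deg_lt _ h0 k a₁ (by omega), zero_mul]
  · rw [← C_pow, coeff_C_mul, notMem_support_iff.mp ha, mul_zero]

end poly

section graded

variable {R : Type u} [CommRing R] {n : ℕ}
  {P : Type v} [AddCommGroup P] [Module (MvPolynomial (Fin n) R) P] [Module R P]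
  [IsScalarTower R (MvPolynomial (Fin n) R) P]
  (ℳ : (Fin n → ℤ) → Submodule R P) [DirectSum.Decomposition ℳ]
  [SetLike.GradedSMul (MvPolynomial.weightedHomogeneousSubmodule R
    (fun i : Fin n => (Pi.single i 1 : Fin n → ℤ))) ℳ]

/-- exponent vector as an integer vector -/
def wt (s : Fin n →₀ ℕ) : Fin n → ℤ := fun j => (s j : ℤ)

theorem weight_eq_wt (s : Fin n →₀ ℕ) :
    Finsupp.weight (fun i : Fin n => (Pi.single i 1 : Fin n → ℤ)) s = wt s := by
  ext j
  rw [Finsupp.weight_apply, Finsupp.sum_fintype s (fun i c => c • (Pi.single i (1 : ℤ) : Fin n → ℤ))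
    (fun i => zero_smul _ _), Finset.sum_apply]
  simp [wt, Pi.single_apply]

theorem wt_eq_zero {s : Fin n →₀ ℕ} (h : wt s = 0) : s = 0 := by
  ext j
  have := congrFun h j
  simpa [wt] using this

/-- projection to the degree `d` component -/
noncomputable def proj (d : Fin n → ℤ) : P →ₗ[R] P :=
  (ℳ d).subtype ∘ₗ (DirectSum.component R (Fin n → ℤ) (fun i => ℳ i) d) ∘ₗ
    (DirectSum.decomposeLinearEquiv ℳ).toLinearMap

theorem proj_apply (d : Fin n → ℤ) (x : P) :
    proj ℳ d x = ((DirectSum.decompose ℳ x) d : P) := rfl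

theorem proj_of_mem_same {d : Fin n → ℤ} {x : P} (hx : x ∈ ℳ d) : proj ℳ d x = x := by
  rw [proj_apply]; exact DirectSum.decompose_of_mem_same ℳ hx

theorem proj_of_mem_ne {d e : Fin n → ℤ} {x : P} (hx : x ∈ ℳ e) (hne : e ≠ d) :
    proj ℳ d x = 0 := by
  rw [proj_apply]; exact DirectSum.decompose_of_mem_ne ℳ hx hne

theorem monomial_smul_mem (s : Fin n →₀ ℕ) (a : R) {e : Fin n → ℤ} {y : P} (hy : y ∈ ℳ e) :
    (monomial s a : MvPolynomial (Fin n) R) • y ∈ ℳ (wt s + e) := by
  have h1 : (monomial s a : MvPolynomial (Fin n) R) ∈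
      MvPolynomial.weightedHomogeneousSubmodule R
        (fun i : Fin n => (Pi.single i 1 : Fin n → ℤ)) (wt s) := by
    rw [MvPolynomial.mem_weightedHomogeneousSubmodule]
    exact MvPolynomial.isWeightedHomogeneous_monomial _ s a (weight_eq_wt s)
  exact SetLike.GradedSMul.smul_mem h1 hy

theorem smul_eq_sum (h : MvPolynomial (Fin n) R) (y : P) :
    h • y = ∑ s ∈ h.support, (monomial s (coeff s h) : MvPolynomial (Fin n) R) • y := by
  rw [← Finset.sum_smul, MvPolynomial.support_sum_monomial_coeff]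

theorem proj_smul (d e : Fin n → ℤ) (h : MvPolynomial (Fin n) R) {y : P} (hy : y ∈ ℳ e) :
    proj ℳ d (h • y) =
      (∑ s ∈ h.support.filter (fun s => wt s + e = d), monomial s (coeff s h)) • y := by
  classical
  rw [smul_eq_sum h y, map_sum, Finset.sum_smul, Finset.sum_filter]
  refine Finset.sum_congr rfl (fun s _ => ?_)
  split_ifs with hs
  · exact proj_of_mem_same ℳ (hs ▸ monomial_smul_mem ℳ s _ hy)
  · exact proj_of_mem_ne ℳ (monomial_smul_mem ℳ s _ hy) hs

theorem proj_smul_same (d : Fin n → ℤ) (h : MvPolynomial (Fin n) R) {y : P} (hy : y ∈ ℳ d) :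
    proj ℳ d (h • y) = constantCoeff h • y := by
  classical
  rw [smul_eq_sum h y, map_sum]
  have hterm : ∀ s ∈ h.support, s ≠ 0 →
      proj ℳ d ((monomial s (coeff s h) : MvPolynomial (Fin n) R) • y) = 0 := by
    intro s _ hs
    refine proj_of_mem_ne ℳ (monomial_smul_mem ℳ s _ hy) ?_
    intro heq
    exact hs (wt_eq_zero (add_right_cancel (heq.trans (zero_add d).symm)))
  have hmon : (monomial 0 (coeff 0 h) : MvPolynomial (Fin n) R) • y = constantCoeff h • y := by
    rw [← MvPolynomial.C_apply, ← MvPolynomial.algebraMap_eq, algebraMap_smul,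
      MvPolynomial.constantCoeff_eq]
  have h0 : proj ℳ d ((monomial 0 (coeff 0 h) : MvPolynomial (Fin n) R) • y) =
      constantCoeff h • y := by
    rw [hmon]
    exact proj_of_mem_same ℳ ((ℳ d).smul_mem _ hy)
  have hsum := Finset.sum_eq_single
    (f := fun s => proj ℳ d ((monomial s (coeff s h) : MvPolynomial (Fin n) R) • y)) 0 hterm
    (fun h0' => by
      have hz : coeff 0 h = 0 := MvPolynomial.notMem_support_iff.mp h0'
      simp [hz])
  rw [hsum, h0]

end graded

section loc

variable {R : Type u} [CommRing R] {n : ℕ}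
  {P : Type v} [AddCommGroup P] [Module (MvPolynomial (Fin n) R) P] [Module R P]
  [IsScalarTower R (MvPolynomial (Fin n) R) P]
  (ℳ : (Fin n → ℤ) → Submodule R P) [DirectSum.Decomposition ℳ]
  [Module.Finite (MvPolynomial (Fin n) R) P] [Module.Projective (MvPolynomial (Fin n) R) P]

theorem exists_homogeneous_bijective (𝔓 : Ideal (MvPolynomial (Fin n) R)) [𝔓.IsPrime] :
    ∃ (m : ℕ) (d : Fin m → (Fin n → ℤ)) (f : Fin m → P), (∀ i, f i ∈ ℳ (d i)) ∧
      Function.Bijective (LocalizedModule.map 𝔓.primeCompl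
        (Fintype.linearCombination (MvPolynomial (Fin n) R) f)) := by
  classical
  haveI : Module.FinitePresentation (MvPolynomial (Fin n) R) P :=
    Module.finitePresentation_of_projective _ _
  let v : {y : P // ∃ d, y ∈ ℳ d} → LocalizedModule 𝔓.primeCompl P :=
    fun y => LocalizedModule.mk y.1 1
  have hmk1 : ∀ y : P, (LocalizedModule.mk y 1 : LocalizedModule 𝔓.primeCompl P) ∈
      Submodule.span (Localization.AtPrime 𝔓) (Set.range v) := by
    intro y
    refine DirectSum.Decomposition.inductionOn ℳ ?_ ?_ ?_ y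
    · rw [LocalizedModule.zero_mk]; exact Submodule.zero_mem _
    · intro i y'
      exact Submodule.subset_span ⟨⟨y'.1, i, y'.2⟩, rfl⟩
    · intro y₁ y₂ h₁ h₂
      have hadd : (LocalizedModule.mk (y₁ + y₂) 1 : LocalizedModule 𝔓.primeCompl P) =
          LocalizedModule.mk y₁ 1 + LocalizedModule.mk y₂ 1 := by
        have := map_add (LocalizedModule.mkLinearMap 𝔓.primeCompl P) y₁ y₂
        simpa [LocalizedModule.mkLinearMap_apply] using this
      rw [hadd]; exact Submodule.add_mem _ h₁ h₂
  have hv : Submodule.span (Localization.AtPrime 𝔓) (Set.range v) = ⊤ := by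
    rw [eq_top_iff]
    rintro x -
    refine LocalizedModule.induction_on
      (β := fun x => x ∈ Submodule.span (Localization.AtPrime 𝔓) (Set.range v))
      (fun y s => ?_) x
    have h1 : (LocalizedModule.mk y s : LocalizedModule 𝔓.primeCompl P) =
        (Localization.mk 1 s : Localization 𝔓.primeCompl) • (LocalizedModule.mk y 1) := by
      rw [LocalizedModule.mk_smul_mk, one_smul, mul_one]
    rw [h1]
    exact Submodule.smul_mem _ _ (hmk1 y)
  obtain ⟨κ, a, b, hb⟩ := Module.exists_basis_of_span_of_flat v hv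
  haveI : Finite κ := Module.Finite.finite_basis b
  letI : Fintype κ := Fintype.ofFinite κ
  let eqv : κ ≃ Fin (Fintype.card κ) := Fintype.equivFin κ
  refine ⟨Fintype.card κ, fun i => (a (eqv.symm i)).2.choose, fun i => (a (eqv.symm i)).1,
    fun i => (a (eqv.symm i)).2.choose_spec, ?_⟩
  have hbf : ∀ i, (b.reindex eqv) i = LocalizedModule.mk ((a (eqv.symm i)).1) 1 := fun i => by
    rw [Module.Basis.reindex_apply, hb]
  have key : ∀ c : Fin (Fintype.card κ) → MvPolynomial (Fin n) R,
      (LocalizedModule.mk (Fintype.linearCombination (MvPolynomial (Fin n) R)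
        (fun i => (a (eqv.symm i)).1) c) 1 : LocalizedModule 𝔓.primeCompl P) =
      ∑ i, algebraMap (MvPolynomial (Fin n) R) (Localization.AtPrime 𝔓) (c i) •
        (b.reindex eqv) i := by
    intro c
    rw [Fintype.linearCombination_apply, ← LocalizedModule.mkLinearMap_apply, map_sum]
    refine Finset.sum_congr rfl (fun i _ => ?_)
    rw [map_smul, hbf, algebraMap_smul, LocalizedModule.mkLinearMap_apply]
  constructor
  · rw [← LinearMap.ker_eq_bot, LinearMap.ker_eq_bot']
    intro x
    refine LocalizedModule.induction_on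
      (β := fun x => LocalizedModule.map 𝔓.primeCompl
        (Fintype.linearCombination (MvPolynomial (Fin n) R) (fun i => (a (eqv.symm i)).1)) x = 0 →
          x = 0) (fun c s hx => ?_) x
    rw [LocalizedModule.map_mk, ← LocalizedModule.zero_mk (1 : 𝔓.primeCompl),
      LocalizedModule.mk_eq] at hx
    obtain ⟨u, hu⟩ := hx
    rw [one_smul, smul_zero, smul_zero] at hu
    have h1 : (LocalizedModule.mk (Fintype.linearCombination (MvPolynomial (Fin n) R)
        (fun i => (a (eqv.symm i)).1) c) 1 : LocalizedModule 𝔓.primeCompl P) = 0 := by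
      rw [← LocalizedModule.zero_mk (1 : 𝔓.primeCompl), LocalizedModule.mk_eq]
      exact ⟨u, by rw [one_smul, one_smul, smul_zero]; exact hu⟩
    rw [key c] at h1
    have h2 := Fintype.linearIndependent_iff.mp (b.reindex eqv).linearIndependent _ h1
    have h3 : ∀ i, ∃ t : 𝔓.primeCompl, (t : MvPolynomial (Fin n) R) * c i = 0 := fun i =>
      (IsLocalization.map_eq_zero_iff 𝔓.primeCompl (Localization.AtPrime 𝔓) (c i)).mp (h2 i)
    choose t ht using h3
    have hT : ∀ i, ((∏ j, t j : 𝔓.primeCompl) : MvPolynomial (Fin n) R) * c i = 0 := by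
      intro i
      rw [Submonoid.coe_finsetProd]
      obtain ⟨q, hq⟩ := Finset.dvd_prod_of_mem (fun j => (t j : MvPolynomial (Fin n) R))
        (Finset.mem_univ i)
      rw [hq, mul_comm (t i : MvPolynomial (Fin n) R) q, mul_assoc, ht i, mul_zero]
    rw [← LocalizedModule.zero_mk (1 : 𝔓.primeCompl), LocalizedModule.mk_eq]
    refine ⟨∏ j, t j, ?_⟩
    rw [one_smul, smul_zero, smul_zero]
    funext i
    exact hT i
  · rw [← LinearMap.range_eq_top, eq_top_iff, ← (b.reindex eqv).span_eq, Submodule.span_le]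
    rintro _ ⟨i, rfl⟩
    refine ⟨LocalizedModule.mk (Pi.single i 1) 1, ?_⟩
    rw [LocalizedModule.map_mk, hbf, Fintype.linearCombination_apply_single, one_smul]

end loc

section main

open MvPolynomial DirectSum in
theorem main
    {R : Type u} [CommRing R] (n : ℕ)
    {P : Type v} [AddCommGroup P] [Module (MvPolynomial (Fin n) R) P] [Module R P]
    [IsScalarTower R (MvPolynomial (Fin n) R) P]
    (ℳ : (Fin n → ℤ) → Submodule R P) [DirectSum.Decomposition ℳ]
    [SetLike.GradedSMul (MvPolynomial.weightedHomogeneousSubmodule R (fun i : Fin n => (Pi.single i 1 : Fin n → ℤ))) ℳ]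
    [Module.Finite (MvPolynomial (Fin n) R) P] [Module.Projective (MvPolynomial (Fin n) R) P]
    (p : PrimeSpectrum R) :
    ∃ r : R, r ∉ p.asIdeal ∧ ∃ (m : ℕ) (d : Fin m → (Fin n → ℤ)) (f : Fin m → P), (∀ i, f i ∈ ℳ (d i)) ∧
      (∀ q : P, ∃ (N : ℕ) (c : Fin m → MvPolynomial (Fin n) R), (MvPolynomial.C r : MvPolynomial (Fin n) R) ^ N • q = ∑ i, c i • f i) ∧
      (∀ c : Fin m → MvPolynomial (Fin n) R, ∑ i, c i • f i = 0 →
        ∃ N : ℕ, ∀ i, (MvPolynomial.C r : MvPolynomial (Fin n) R) ^ N * c i = 0) := by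
  classical
  haveI := p.isPrime
  let 𝔓 : Ideal (MvPolynomial (Fin n) R) :=
    Ideal.comap (MvPolynomial.constantCoeff (R := R) (σ := Fin n)) p.asIdeal
  haveI : 𝔓.IsPrime := Ideal.comap_isPrime _ _
  obtain ⟨m, d, f, hfd, hbij⟩ := exists_homogeneous_bijective ℳ 𝔓
  haveI : Module.FinitePresentation (MvPolynomial (Fin n) R) P :=
    Module.finitePresentation_of_projective _ _
  obtain ⟨g, hg, hgbij⟩ := Module.FinitePresentation.exists_notMem_bijective
    (Fintype.linearCombination (MvPolynomial (Fin n) R) f) 𝔓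
    (LocalizedModule.mkLinearMap 𝔓.primeCompl _) (LocalizedModule.mkLinearMap 𝔓.primeCompl P) hbij
  refine ⟨constantCoeff g, fun hr => hg (Ideal.mem_comap.mpr hr), m, d, f, hfd, ?_, ?_⟩
  · have hS1 : ∀ q : P, ∃ (N : ℕ) (c : Fin m → MvPolynomial (Fin n) R),
        g ^ N • q = Fintype.linearCombination (MvPolynomial (Fin n) R) f c := by
      intro q
      obtain ⟨x, hx⟩ := hgbij.2 (LocalizedModule.mk q 1)
      revert hx
      refine LocalizedModule.induction_on
        (β := fun x => LocalizedModule.map (Submonoid.powers g)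
          (Fintype.linearCombination (MvPolynomial (Fin n) R) f) x = LocalizedModule.mk q 1 →
          ∃ (N : ℕ) (c : Fin m → MvPolynomial (Fin n) R),
            g ^ N • q = Fintype.linearCombination (MvPolynomial (Fin n) R) f c)
        (fun c t hx => ?_) x
      rw [LocalizedModule.map_mk, LocalizedModule.mk_eq] at hx
      obtain ⟨u, hu⟩ := hx
      obtain ⟨_, j, rfl⟩ := u
      obtain ⟨_, k, rfl⟩ := t
      rw [one_smul] at hu
      change g ^ j • Fintype.linearCombination (MvPolynomial (Fin n) R) f c =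
        g ^ j • g ^ k • q at hu
      refine ⟨j + k, g ^ j • c, ?_⟩
      rw [map_smul, hu, pow_add, mul_smul]
    have hS2 : ∀ (e : Fin n → ℤ) (q : P), q ∈ ℳ e →
        ∃ (N : ℕ) (c : Fin m → MvPolynomial (Fin n) R),
          (C (constantCoeff g) : MvPolynomial (Fin n) R) ^ N • q = ∑ i, c i • f i := by
      intro e q hq
      obtain ⟨N, c, hc⟩ := hS1 q
      refine ⟨N, fun i => ∑ s ∈ (c i).support.filter (fun s => wt s + d i = e),
        monomial s (coeff s (c i)), ?_⟩
      have h1 := congrArg (proj ℳ e) hc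
      rw [proj_smul_same ℳ e (g ^ N) hq, Fintype.linearCombination_apply, map_sum] at h1
      have h2 : (C (constantCoeff g) : MvPolynomial (Fin n) R) ^ N • q =
          constantCoeff (g ^ N) • q := by
        rw [map_pow, ← C_pow, ← MvPolynomial.algebraMap_eq, algebraMap_smul]
      rw [h2, h1]
      exact Finset.sum_congr rfl (fun i _ => proj_smul ℳ e (d i) (c i) (hfd i))
    intro q
    refine DirectSum.Decomposition.inductionOn ℳ ?_ ?_ ?_ q
    · exact ⟨0, 0, by simp⟩
    · intro e q'
      exact hS2 e q'.1 q'.2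
    · rintro q₁ q₂ ⟨N₁, c₁, h₁⟩ ⟨N₂, c₂, h₂⟩
      refine ⟨N₁ + N₂, fun i => (C (constantCoeff g)) ^ N₂ * c₁ i +
        (C (constantCoeff g)) ^ N₁ * c₂ i, ?_⟩
      have e1 : (C (constantCoeff g) : MvPolynomial (Fin n) R) ^ (N₁ + N₂) • q₁ =
          ∑ i, ((C (constantCoeff g)) ^ N₂ * c₁ i) • f i := by
        rw [pow_add, mul_comm ((C (constantCoeff g) : MvPolynomial (Fin n) R) ^ N₁)
          ((C (constantCoeff g)) ^ N₂), mul_smul, h₁, Finset.smul_sum]
        exact Finset.sum_congr rfl (fun i _ => (mul_smul _ _ _).symm)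
      have e2 : (C (constantCoeff g) : MvPolynomial (Fin n) R) ^ (N₁ + N₂) • q₂ =
          ∑ i, ((C (constantCoeff g)) ^ N₁ * c₂ i) • f i := by
        rw [pow_add, mul_smul, h₂, Finset.smul_sum]
        exact Finset.sum_congr rfl (fun i _ => (mul_smul _ _ _).symm)
      rw [smul_add, e1, e2, ← Finset.sum_add_distrib]
      exact Finset.sum_congr rfl (fun i _ => (add_smul _ _ _).symm)
  · intro c hc
    have hI1 : ∃ N : ℕ, ∀ i, g ^ N * c i = 0 := by
      have h0 : LocalizedModule.map (Submonoid.powers g)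
          (Fintype.linearCombination (MvPolynomial (Fin n) R) f) (LocalizedModule.mk c 1) = 0 := by
        rw [LocalizedModule.map_mk, Fintype.linearCombination_apply, hc, LocalizedModule.zero_mk]
      have h1 : (LocalizedModule.mk c 1 :
          LocalizedModule (Submonoid.powers g) (Fin m → MvPolynomial (Fin n) R)) = 0 :=
        hgbij.1 (h0.trans (map_zero _).symm)
      rw [← LocalizedModule.mkLinearMap_apply,
        IsLocalizedModule.eq_zero_iff (Submonoid.powers g)
          (LocalizedModule.mkLinearMap (Submonoid.powers g)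
            (Fin m → MvPolynomial (Fin n) R))] at h1
      obtain ⟨⟨_, N, rfl⟩, hN⟩ := h1
      refine ⟨N, fun i => ?_⟩
      have := congrFun hN i
      exact this
    obtain ⟨N, hN⟩ := hI1
    refine ⟨N * (∑ i, (c i).totalDegree + 1), fun i => ?_⟩
    have hk : (c i).totalDegree < ∑ i, (c i).totalDegree + 1 :=
      Nat.lt_succ_of_le (Finset.single_le_sum (f := fun i => (c i).totalDegree)
        (fun _ _ => Nat.zero_le _) (Finset.mem_univ i))
    have := C_pow_mul_eq_zero (g ^ N) (c i) (hN i) _ hk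
    rw [map_pow, C_pow, ← pow_mul] at this
    exact this

end main

end Groth.Agent.Lib.Helper24.GradedFree
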