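import Mathlib

set_option maxHeartbeats 400000
set_option linter.style.haveILetI false
set_option linter.unusedSectionVars false
set_option autoImplicit false

/-! Hasse–Davenport, part A: the multiplicative function `lam` on monic polynomials and its
degree sums. -/

namespace Groth.Agent.Lib.Helper24.HDav

open Polynomial Finset

variable {F : Type*} [Field F] [Fintype F]
variable {R : Type*} [CommRing R]
variable (χ : MulChar F R) (ψ : AddChar F R)

/-- `lam f = χ(c_d) ψ(c_1)` for `f = X^d - c_1 X^(d-1) + ⋯ + (-1)^d c_d`. -/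
noncomputable def lam (f : F[X]) : R := χ ((-1) ^ f.natDegree * f.coeff 0) * ψ (-f.nextCoeff)

theorem lam_one : lam χ ψ (1 : F[X]) = 1 := by
  unfold lam
  rw [natDegree_one, pow_zero, one_mul, coeff_one_zero, map_one]
  have : (1 : F[X]).nextCoeff = 0 := by
    rw [← C_1]; exact nextCoeff_C_eq_zero 1
  rw [this, neg_zero, AddChar.map_zero_eq_one, mul_one]

theorem lam_mul {f g : F[X]} (hf : f.Monic) (hg : g.Monic) :
    lam χ ψ (f * g) = lam χ ψ f * lam χ ψ g := by
  unfold lam
  rw [hf.natDegree_mul hg, mul_coeff_zero, hf.nextCoeff_mul hg, pow_add, neg_add,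
    AddChar.map_add_eq_mul]
  have : (-1 : F) ^ f.natDegree * (-1) ^ g.natDegree * (f.coeff 0 * g.coeff 0) =
      ((-1) ^ f.natDegree * f.coeff 0) * ((-1) ^ g.natDegree * g.coeff 0) := by ring
  rw [this, map_mul]
  ring

theorem lam_pow {f : F[X]} (hf : f.Monic) (k : ℕ) : lam χ ψ (f ^ k) = lam χ ψ f ^ k := by
  induction k with
  | zero => rw [pow_zero, pow_zero, lam_one]
  | succ k ih => rw [pow_succ, pow_succ, lam_mul χ ψ (hf.pow k) hf, ih]

theorem finite_monics (n : ℕ) : {f : F[X] | f.Monic ∧ f.natDegree = n}.Finite := by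
  haveI : Finite ↥(degreeLT F (n + 1)) :=
    Finite.of_equiv _ (degreeLTEquiv F (n + 1)).symm.toEquiv
  have h : (Set.range (Subtype.val : ↥(degreeLT F (n + 1)) → F[X])).Finite := Set.finite_range _
  refine h.subset ?_
  rintro f ⟨hf, hn⟩
  have hmem : f ∈ degreeLT F (n + 1) := by
    rw [mem_degreeLT, degree_eq_natDegree hf.ne_zero, hn]
    exact_mod_cast Nat.lt_succ_self n
  exact ⟨⟨f, hmem⟩, rfl⟩

/-- Monic polynomials of degree `n`. -/
noncomputable def monics (n : ℕ) : Finset F[X] := (finite_monics (F := F) n).toFinset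

theorem mem_monics {n : ℕ} {f : F[X]} : f ∈ monics n ↔ f.Monic ∧ f.natDegree = n :=
  Set.Finite.mem_toFinset _

/-- Degree-`n` sum of `lam`. -/
noncomputable def aSum (n : ℕ) : R := ∑ f ∈ monics n, lam χ ψ f

theorem monics_zero : monics (F := F) 0 = {1} := by
  ext f
  rw [mem_monics, Finset.mem_singleton]
  constructor
  · rintro ⟨hf, h0⟩; exact eq_one_of_monic_natDegree_zero hf h0
  · rintro rfl; exact ⟨monic_one, natDegree_one⟩

theorem aSum_zero : aSum χ ψ 0 = 1 := by
  rw [aSum, monics_zero, Finset.sum_singleton, lam_one]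

theorem lam_X_sub_C (c : F) : lam χ ψ (X - C c) = χ c * ψ c := by
  unfold lam
  rw [natDegree_X_sub_C, nextCoeff_X_sub_C, pow_one, coeff_sub, coeff_X_zero, coeff_C_zero,
    neg_neg, zero_sub, neg_one_mul, neg_neg]

theorem aSum_one : aSum χ ψ 1 = ∑ c : F, χ c * ψ c := by
  unfold aSum
  symm
  refine Finset.sum_bij (fun c _ => X - C c) ?_ ?_ ?_ ?_
  · intro c _; rw [mem_monics]; exact ⟨monic_X_sub_C c, natDegree_X_sub_C c⟩
  · intro c₁ _ c₂ _ h
    have := congrArg (fun p => p.coeff 0) h
    simpa using this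
  · intro f hf
    rw [mem_monics] at hf
    refine ⟨-f.coeff 0, Finset.mem_univ _, ?_⟩
    have h1 := eq_X_add_C_of_natDegree_le_one (p := f) (le_of_eq hf.2)
    have h2 : f.coeff 1 = 1 := by
      have := hf.1.leadingCoeff
      rwa [leadingCoeff, hf.2] at this
    rw [map_neg, sub_neg_eq_add]
    conv_rhs => rw [h1, h2, C_1, one_mul]
  · intro c _
    exact (lam_X_sub_C χ ψ c).symm

theorem aSum_eq_zero [IsDomain R] (hψ : ψ ≠ 1) {n : ℕ} (hn : 2 ≤ n) : aSum χ ψ n = 0 := by
  obtain ⟨y, hy⟩ := (AddChar.ne_one_iff).mp hψ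
  have hq : ∀ f : F[X], f ∈ monics n →
      (C y * X ^ (n - 1) : F[X]).natDegree < f.natDegree := by
    intro f hf
    rw [mem_monics] at hf
    rw [hf.2]
    exact lt_of_le_of_lt (natDegree_C_mul_X_pow_le y (n - 1)) (by omega)
  have hq' : ∀ f : F[X], f ∈ monics n →
      (C y * X ^ (n - 1) : F[X]).degree < f.degree := by
    intro f hf
    have h1 := hq f hf
    have hf' := (mem_monics.mp hf)
    rw [degree_eq_natDegree hf'.1.ne_zero]
    refine lt_of_le_of_lt (degree_le_natDegree) ?_
    exact_mod_cast h1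
  have hc0 : (C y * X ^ (n - 1) : F[X]).coeff 0 = 0 := by
    rw [coeff_C_mul, coeff_X_pow, if_neg (by omega), mul_zero]
  have hcn : (C y * X ^ (n - 1) : F[X]).coeff (n - 1) = y := by
    rw [coeff_C_mul, coeff_X_pow, if_pos rfl, mul_one]
  have key : ψ y * aSum χ ψ n = aSum χ ψ n := by
    unfold aSum
    rw [Finset.mul_sum]
    refine Finset.sum_bij' (fun f _ => f - C y * X ^ (n - 1)) (fun f _ => f + C y * X ^ (n - 1))
      ?_ ?_ ?_ ?_ ?_
    · intro f hf
      have hf' := mem_monics.mp hf
      rw [mem_monics]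
      exact ⟨hf'.1.sub_of_left (hq' f hf),
        (natDegree_sub_eq_left_of_natDegree_lt (hq f hf)).trans hf'.2⟩
    · intro f hf
      have hf' := mem_monics.mp hf
      rw [mem_monics]
      exact ⟨hf'.1.add_of_left (hq' f hf),
        (natDegree_add_eq_left_of_natDegree_lt (hq f hf)).trans hf'.2⟩
    · intro f _; exact sub_add_cancel _ _
    · intro f _; exact add_sub_cancel_right _ _
    · intro f hf
      have hf' := mem_monics.mp hf
      have hT : (f - C y * X ^ (n - 1)).natDegree = n :=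
        (natDegree_sub_eq_left_of_natDegree_lt (hq f hf)).trans hf'.2
      unfold lam
      rw [hT, hf'.2, nextCoeff_of_natDegree_pos (by omega), nextCoeff_of_natDegree_pos (by omega),
        hT, hf'.2, coeff_sub, coeff_sub, hc0, hcn, sub_zero, neg_sub, sub_eq_add_neg,
        AddChar.map_add_eq_mul]
      ring
  have h2 : (ψ y - 1) * aSum χ ψ n = 0 := by rw [sub_mul, key, one_mul, sub_self]
  rcases mul_eq_zero.mp h2 with h | h
  · exact absurd (sub_eq_zero.mp h) hy
  · exact h

end Groth.Agent.Lib.Helper24.HDav
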