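import Groth.Agent.Lib.Helper24.HDavA

set_option maxHeartbeats 400000
set_option linter.style.haveILetI false
set_option linter.unusedSectionVars false
set_option autoImplicit false

/-! Hasse–Davenport, part B: the polynomial von Mangoldt function and `∑_{g ∣ f} Λ(g) = deg f`. -/

namespace Groth.Agent.Lib.Helper24.HDav

open Polynomial Finset
open scoped Classical

variable {F : Type*} [Field F] [Fintype F]

/-- `g` is a positive power of a monic irreducible polynomial. -/
def IsPP (g : F[X]) : Prop :=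
  ∃ (P : F[X]) (k : ℕ), Irreducible P ∧ P.Monic ∧ 0 < k ∧ g = P ^ k

omit [Fintype F] in
theorem eq_of_pow_eq_pow {P Q : F[X]} {k l : ℕ} (hP : Irreducible P) (hPm : P.Monic)
    (hQ : Irreducible Q) (hQm : Q.Monic) (hk : 0 < k) (h : P ^ k = Q ^ l) : P = Q := by
  have h1 : P ∣ Q ^ l := by rw [← h]; exact dvd_pow_self P hk.ne'
  have h2 : P ∣ Q := hP.prime.dvd_of_dvd_pow h1
  exact eq_of_monic_of_associated hPm hQm (hP.associated_of_dvd hQ h2)

/-- von Mangoldt function: `deg P` on powers of the monic irreducible `P`, zero elsewhere. -/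
noncomputable def vM (g : F[X]) : ℕ := if h : IsPP g then h.choose.natDegree else 0

omit [Fintype F] in
theorem vM_pow {P : F[X]} (hP : Irreducible P) (hPm : P.Monic) {k : ℕ} (hk : 0 < k) :
    vM (P ^ k) = P.natDegree := by
  have h : IsPP (P ^ k) := ⟨P, k, hP, hPm, hk, rfl⟩
  unfold vM
  rw [dif_pos h]
  obtain ⟨l, hQ, hQm, hl, hpow⟩ := h.choose_spec
  exact congrArg natDegree (eq_of_pow_eq_pow hP hPm hQ hQm hk hpow).symm

omit [Fintype F] in
theorem vM_of_not {g : F[X]} (h : ¬ IsPP g) : vM g = 0 := by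
  unfold vM; rw [dif_neg h]

omit [Fintype F] in
theorem vM_one : vM (1 : F[X]) = 0 := by
  apply vM_of_not
  rintro ⟨P, k, hP, _, hk, h⟩
  exact hP.not_isUnit (isUnit_of_dvd_one (by rw [h]; exact dvd_pow_self P hk.ne'))

/-- Monic divisors of `f`. -/
noncomputable def divs (f : F[X]) : Finset F[X] :=
  ((Finset.range (f.natDegree + 1)).biUnion (fun n => monics n)).filter (· ∣ f)

theorem mem_divs {f g : F[X]} (hf : f ≠ 0) : g ∈ divs f ↔ g.Monic ∧ g ∣ f := by
  unfold divs
  rw [Finset.mem_filter, Finset.mem_biUnion]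
  constructor
  · rintro ⟨⟨n, _, hn⟩, hd⟩
    exact ⟨(mem_monics.mp hn).1, hd⟩
  · rintro ⟨hm, hd⟩
    refine ⟨⟨g.natDegree, ?_, mem_monics.mpr ⟨hm, rfl⟩⟩, hd⟩
    rw [Finset.mem_range]
    exact Nat.lt_succ_of_le (natDegree_le_of_dvd hd hf)

/-- `∑_{g ∣ f} Λ(g)`. -/
noncomputable def Dsum (f : F[X]) : ℕ := ∑ g ∈ divs f, vM g

theorem Dsum_one : Dsum (1 : F[X]) = 0 := by
  unfold Dsum
  apply Finset.sum_eq_zero
  intro g hg
  rw [mem_divs one_ne_zero] at hg
  have : g = 1 := hg.1.eq_one_of_isUnit (isUnit_of_dvd_one hg.2)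
  rw [this, vM_one]

theorem Dsum_mul {P f : F[X]} (hP : Irreducible P) (hPm : P.Monic) (hf : f.Monic) :
    Dsum (P * f) = Dsum f + P.natDegree := by
  have hf0 : f ≠ 0 := hf.ne_zero
  have hPf0 : P * f ≠ 0 := mul_ne_zero hPm.ne_zero hf0
  obtain ⟨e, m, hm, hfe⟩ := WfDvdMonoid.max_power_factor hf0 hP
  have hsub : divs f ⊆ divs (P * f) := by
    intro g hg
    rw [mem_divs hf0] at hg
    rw [mem_divs hPf0]
    exact ⟨hg.1, hg.2.mul_left P⟩
  have hPe : P ^ (e + 1) ∈ divs (P * f) \ divs f := by
    rw [Finset.mem_sdiff, mem_divs hPf0, mem_divs hf0]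
    refine ⟨⟨hPm.pow _, ?_⟩, ?_⟩
    · rw [hfe, pow_succ', ← mul_assoc]
      exact dvd_mul_right _ _
    · rintro ⟨_, hd⟩
      rw [hfe, pow_succ, mul_dvd_mul_iff_left (pow_ne_zero e hPm.ne_zero)] at hd
      exact hm hd
  have key : ∑ g ∈ divs (P * f) \ divs f, vM g = P.natDegree := by
    rw [Finset.sum_eq_single (P ^ (e + 1))]
    · exact vM_pow hP hPm (Nat.succ_pos e)
    · intro g hg hne
      by_contra hv
      have hpp : IsPP g := by
        by_contra hnot
        exact hv (vM_of_not hnot)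
      obtain ⟨Q, k, hQ, hQm, hk, rfl⟩ := hpp
      rw [Finset.mem_sdiff, mem_divs hPf0, mem_divs hf0] at hg
      obtain ⟨⟨_, hd1⟩, hd2⟩ := hg
      have hd2' : ¬ Q ^ k ∣ f := fun h => hd2 ⟨hQm.pow k, h⟩
      by_cases hQP : Q = P
      · rw [hQP] at hd1 hd2' hne
        have hk1 : e + 1 ≤ k := by
          by_contra hlt
          have hke : k ≤ e := by omega
          apply hd2'
          rw [hfe]
          exact Dvd.dvd.mul_right (pow_dvd_pow P hke) m
        have hk2 : k ≤ e + 1 := by
          by_contra hlt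
          have hke : e + 1 + 1 ≤ k := by omega
          have h4 : P ^ (e + 1) * P ∣ P * f := by
            rw [← pow_succ]
            exact dvd_trans (pow_dvd_pow P hke) hd1
          rw [hfe, ← mul_assoc, ← pow_succ'] at h4
          exact hm ((mul_dvd_mul_iff_left (pow_ne_zero _ hPm.ne_zero)).mp h4)
        exact hne (by rw [le_antisymm hk2 hk1])
      · have hcop : IsCoprime Q P := by
          rw [hQ.coprime_iff_not_dvd]
          intro hdvd
          exact hQP (eq_of_monic_of_associated hQm hPm (hQ.associated_of_dvd hP hdvd))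
        have hdf : Q ^ k ∣ f := (hcop.pow_left (m := k)).dvd_of_dvd_mul_left hd1
        exact hd2' hdf
    · intro h; exact absurd hPe h
  unfold Dsum
  rw [← Finset.sum_sdiff hsub, key, add_comm]

theorem Dsum_eq : ∀ (n : ℕ) (f : F[X]), f.Monic → f.natDegree = n → Dsum f = n := by
  intro n
  induction n using Nat.strong_induction_on with
  | _ n ih =>
    intro f hf hn
    by_cases hu : IsUnit f
    · have h1 : f = 1 := hf.eq_one_of_isUnit hu
      subst h1
      rw [natDegree_one] at hn
      subst hn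
      exact Dsum_one
    · obtain ⟨Q, hQ, hQd⟩ := WfDvdMonoid.exists_irreducible_factor hu hf.ne_zero
      have hQ0 : Q ≠ 0 := hQ.ne_zero
      have hPm : (normalize Q).Monic := monic_normalize hQ0
      have hP : Irreducible (normalize Q) := (associated_normalize Q).irreducible hQ
      have hPd : normalize Q ∣ f := normalize_dvd_iff.mpr hQd
      obtain ⟨h, hh⟩ := hPd
      have hhm : h.Monic := by
        apply hPm.of_mul_monic_left
        rw [← hh]; exact hf
      have hdeg : f.natDegree = (normalize Q).natDegree + h.natDegree := by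
        rw [hh]; exact hPm.natDegree_mul hhm
      have hpos : 0 < (normalize Q).natDegree := hP.natDegree_pos
      have hlt : h.natDegree < n := by omega
      rw [hh, Dsum_mul hP hPm hhm, ih h.natDegree hlt h hhm rfl]
      omega

end Groth.Agent.Lib.Helper24.HDav
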