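import Groth.Agent.Lib.Helper24.HDavB

set_option maxHeartbeats 400000
set_option linter.style.haveILetI false
set_option linter.unusedSectionVars false
set_option autoImplicit false

/-! Hasse–Davenport, part C: the convolution identity `n a_n = ∑ b_i a_j` and its consequence
`b_n = -(-a_1)^n`. -/

namespace Groth.Agent.Lib.Helper24.HDav

open Polynomial Finset
open scoped Classical

variable {F : Type*} [Field F] [Fintype F]
variable {R : Type*} [CommRing R]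
variable (χ : MulChar F R) (ψ : AddChar F R)

/-- Degree-`n` sum of `Λ · lam`. -/
noncomputable def bSum (n : ℕ) : R := ∑ g ∈ monics n, (vM g : R) * lam χ ψ g

theorem divs_data {n : ℕ} {f g : F[X]} (hf : f ∈ monics n) (hg : g ∈ divs f) :
    g.Monic ∧ g.natDegree ≤ n ∧ (f /ₘ g).Monic ∧ (f /ₘ g).natDegree = n - g.natDegree ∧
      g * (f /ₘ g) = f := by
  obtain ⟨hfm, hfn⟩ := mem_monics.mp hf
  obtain ⟨hgm, h, rfl⟩ := (mem_divs hfm.ne_zero).mp hg
  have hhm : h.Monic := hgm.of_mul_monic_left hfm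
  have hdeg := hgm.natDegree_mul hhm
  rw [mul_divByMonic_cancel_left h hgm]
  refine ⟨hgm, by omega, hhm, by omega, rfl⟩

theorem convId (n : ℕ) : (n : R) * aSum χ ψ n =
    ∑ ij ∈ Finset.HasAntidiagonal.antidiagonal n, bSum χ ψ ij.1 * aSum χ ψ ij.2 := by
  have hL : (n : R) * aSum χ ψ n =
      ∑ f ∈ monics n, ∑ g ∈ divs f, (vM g : R) * lam χ ψ f := by
    unfold aSum
    rw [Finset.mul_sum]
    refine Finset.sum_congr rfl (fun f hf => ?_)
    have hf' := mem_monics.mp hf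
    have hD : (∑ g ∈ divs f, vM g) = n := Dsum_eq n f hf'.1 hf'.2
    rw [← Finset.sum_mul, ← Nat.cast_sum, hD]
  have hR : ∑ ij ∈ Finset.HasAntidiagonal.antidiagonal n, bSum χ ψ ij.1 * aSum χ ψ ij.2 =
      ∑ ij ∈ Finset.HasAntidiagonal.antidiagonal n, ∑ gh ∈ monics ij.1 ×ˢ monics ij.2,
        (vM gh.1 : R) * lam χ ψ gh.1 * lam χ ψ gh.2 := by
    refine Finset.sum_congr rfl (fun ij _ => ?_)
    unfold bSum aSum
    rw [Finset.sum_mul_sum, Finset.sum_product]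
  rw [hL, hR, Finset.sum_sigma', Finset.sum_sigma']
  refine Finset.sum_bij'
    (fun x _ => ⟨(x.2.natDegree, n - x.2.natDegree), (x.2, x.1 /ₘ x.2)⟩)
    (fun y _ => ⟨y.2.1 * y.2.2, y.2.1⟩) ?_ ?_ ?_ ?_ ?_
  · rintro ⟨f, g⟩ hx
    obtain ⟨hf, hg⟩ := Finset.mem_sigma.mp hx
    dsimp only at hf hg
    obtain ⟨hgm, hle, hqm, hqn, hmul⟩ := divs_data hf hg
    rw [Finset.mem_sigma]
    dsimp only
    refine ⟨?_, ?_⟩
    · rw [Finset.HasAntidiagonal.mem_antidiagonal]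
      dsimp only
      omega
    · rw [Finset.mem_product]
      dsimp only
      exact ⟨mem_monics.mpr ⟨hgm, rfl⟩, mem_monics.mpr ⟨hqm, hqn⟩⟩
  · rintro ⟨⟨i, j⟩, ⟨g, h⟩⟩ hy
    obtain ⟨hij, hgh⟩ := Finset.mem_sigma.mp hy
    dsimp only at hij hgh
    rw [Finset.HasAntidiagonal.mem_antidiagonal] at hij
    dsimp only at hij
    obtain ⟨hg, hh⟩ := Finset.mem_product.mp hgh
    dsimp only at hg hh
    obtain ⟨hgm, hgn⟩ := mem_monics.mp hg
    obtain ⟨hhm, hhn⟩ := mem_monics.mp hh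
    rw [Finset.mem_sigma]
    dsimp only
    refine ⟨mem_monics.mpr ⟨hgm.mul hhm, ?_⟩,
      (mem_divs (hgm.mul hhm).ne_zero).mpr ⟨hgm, dvd_mul_right _ _⟩⟩
    rw [hgm.natDegree_mul hhm, hgn, hhn, hij]
  · rintro ⟨f, g⟩ hx
    obtain ⟨hf, hg⟩ := Finset.mem_sigma.mp hx
    dsimp only at hf hg
    obtain ⟨hgm, hle, hqm, hqn, hmul⟩ := divs_data hf hg
    dsimp only
    rw [hmul]
  · rintro ⟨⟨i, j⟩, ⟨g, h⟩⟩ hy
    obtain ⟨hij, hgh⟩ := Finset.mem_sigma.mp hy
    dsimp only at hij hgh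
    rw [Finset.HasAntidiagonal.mem_antidiagonal] at hij
    dsimp only at hij
    obtain ⟨hg, hh⟩ := Finset.mem_product.mp hgh
    dsimp only at hg hh
    obtain ⟨hgm, hgn⟩ := mem_monics.mp hg
    obtain ⟨hhm, hhn⟩ := mem_monics.mp hh
    dsimp only
    have hj : n - i = j := by omega
    rw [mul_divByMonic_cancel_left h hgm, hgn, hj]
  · rintro ⟨f, g⟩ hx
    obtain ⟨hf, hg⟩ := Finset.mem_sigma.mp hx
    dsimp only at hf hg
    obtain ⟨hgm, hle, hqm, hqn, hmul⟩ := divs_data hf hg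
    dsimp only
    rw [mul_assoc, ← lam_mul χ ψ hgm hqm, hmul]

theorem bSum_zero : bSum χ ψ 0 = 0 := by
  rw [bSum, monics_zero, Finset.sum_singleton, vM_one, Nat.cast_zero, zero_mul]

theorem bSum_one : bSum χ ψ 1 = aSum χ ψ 1 := by
  have h := convId χ ψ 1
  rw [Finset.Nat.sum_antidiagonal_eq_sum_range_succ (fun i j => bSum χ ψ i * aSum χ ψ j),
    Finset.sum_range_succ, Finset.sum_range_one] at h
  rw [bSum_zero, zero_mul, zero_add, Nat.sub_self, aSum_zero, mul_one, Nat.cast_one,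
    one_mul] at h
  exact h.symm

theorem bSum_rec [IsDomain R] (hψ : ψ ≠ 1) (m : ℕ) :
    bSum χ ψ (m + 1 + 1) = -(bSum χ ψ (m + 1) * aSum χ ψ 1) := by
  have h := convId χ ψ (m + 1 + 1)
  rw [aSum_eq_zero χ ψ hψ (by omega : 2 ≤ m + 1 + 1), mul_zero,
    Finset.Nat.sum_antidiagonal_eq_sum_range_succ (fun i j => bSum χ ψ i * aSum χ ψ j),
    Finset.sum_range_succ, Finset.sum_range_succ] at h
  have h0 : ∑ k ∈ Finset.range (m + 1), bSum χ ψ k * aSum χ ψ (m + 1 + 1 - k) = 0 := by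
    apply Finset.sum_eq_zero
    intro k hk
    rw [Finset.mem_range] at hk
    rw [aSum_eq_zero χ ψ hψ (by omega : 2 ≤ m + 1 + 1 - k), mul_zero]
  have e1 : m + 1 + 1 - (m + 1) = 1 := by omega
  have e2 : m + 1 + 1 - (m + 1 + 1) = 0 := by omega
  rw [h0, e1, e2, aSum_zero, mul_one, zero_add] at h
  exact eq_neg_of_add_eq_zero_right h.symm

theorem bSum_eq [IsDomain R] (hψ : ψ ≠ 1) (n : ℕ) :
    bSum χ ψ (n + 1) = -(-aSum χ ψ 1) ^ (n + 1) := by
  induction n with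
  | zero => rw [zero_add, bSum_one, pow_one, neg_neg]
  | succ n ih => rw [bSum_rec χ ψ hψ n, ih]; ring

end Groth.Agent.Lib.Helper24.HDav
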