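import Groth.Agent.Lib.Helper24.HDavC

set_option maxHeartbeats 400000
set_option linter.style.haveILetI false
set_option linter.unusedSectionVars false
set_option autoImplicit false

/-! Hasse–Davenport, part D: the sum over the extension field as the sum `b_n`. -/

namespace Groth.Agent.Lib.Helper24.HDav

open Polynomial Finset IntermediateField
open scoped Classical

variable {F : Type*} [Field F] [Fintype F]
variable {E : Type*} [Field E] [Fintype E] [Algebra F E]
variable {R : Type*} [CommRing R] (χ : MulChar F R) (ψ : AddChar F R)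

/-- The "characteristic polynomial" of `x`: the appropriate power of its minimal polynomial. -/
noncomputable def gx (F : Type*) {E : Type*} [Field F] [Field E] [Algebra F E] (x : E) : F[X] :=
  (minpoly F x) ^ (Module.finrank F⟮x⟯ E)

theorem gx_mem (x : E) : gx F x ∈ monics (Module.finrank F E) := by
  have hint : IsIntegral F x := IsIntegral.of_finite F x
  rw [mem_monics]
  refine ⟨(minpoly.monic hint).pow _, ?_⟩
  unfold gx
  rw [natDegree_pow, ← IntermediateField.adjoin.finrank hint, mul_comm]
  exact Module.finrank_mul_finrank F F⟮x⟯ E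

theorem lam_gx (x : E) :
    lam χ ψ (gx F x) = χ (Algebra.norm F x) * ψ (Algebra.trace F E x) := by
  have hint : IsIntegral F x := IsIntegral.of_finite F x
  have h1 : Algebra.norm F (AdjoinSimple.gen F x) =
      (-1) ^ (minpoly F x).natDegree * (minpoly F x).coeff 0 := by
    simpa [IntermediateField.minpoly_gen F x] using
      Algebra.PowerBasis.norm_gen_eq_coeff_zero_minpoly (IntermediateField.adjoin.powerBasis hint)
  have hN : Algebra.norm F x =
      ((-1) ^ (minpoly F x).natDegree * (minpoly F x).coeff 0) ^ Module.finrank F⟮x⟯ E := by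
    rw [Algebra.norm_eq_norm_adjoin F x, h1]
  have hT : Algebra.trace F E x = Module.finrank F⟮x⟯ E • (-(minpoly F x).nextCoeff) := by
    rw [trace_eq_finrank_mul_minpoly_nextCoeff F x, nsmul_eq_mul]
  unfold gx
  rw [lam_pow χ ψ (minpoly.monic hint), hN, hT, AddChar.map_nsmul_eq_pow, map_pow, ← mul_pow]
  rfl

theorem card_minpoly_eq {P : F[X]} (hP : Irreducible P) (hPm : P.Monic)
    (hd : P.natDegree ∣ Module.finrank F E) :
    ((Finset.univ : Finset E).filter (fun x => minpoly F x = P)).card = P.natDegree := by
  have hdvd : P ∣ X ^ (Nat.card F) ^ (Module.finrank F E) - X :=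
    hP.natDegree_dvd_iff_dvd_X_pow_card_pow_sub_X.mp hd
  have hcard : Nat.card E = Nat.card F ^ Module.finrank F E := Module.natCard_eq_pow_finrank
  have hsplitE : Splits (X ^ (Nat.card E) - X : Polynomial E) :=
    Polynomial.splits_X_pow_nat_card_sub_X
  have hmap : (X ^ (Nat.card F) ^ (Module.finrank F E) - X : F[X]).map (algebraMap F E) =
      X ^ (Nat.card E) - X := by
    rw [hcard, Polynomial.map_sub, Polynomial.map_pow, map_X]
  have hne : (X ^ (Nat.card E) - X : Polynomial E) ≠ 0 :=
    FiniteField.X_pow_card_sub_X_ne_zero E Finite.one_lt_card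
  have hsplit : Splits (P.map (algebraMap F E)) := by
    refine Splits.of_dvd hsplitE hne ?_
    rw [← hmap]
    exact Polynomial.map_dvd (algebraMap F E) hdvd
  have hsep : P.Separable := PerfectField.separable_of_irreducible hP
  have hfilter : (Finset.univ : Finset E).filter (fun x => minpoly F x = P) =
      (P.map (algebraMap F E)).roots.toFinset := by
    ext x
    rw [Finset.mem_filter, Multiset.mem_toFinset, mem_roots (Polynomial.map_ne_zero hPm.ne_zero),
      IsRoot.def, eval_map_algebraMap]
    constructor
    · rintro ⟨_, hx⟩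
      rw [← hx]; exact minpoly.aeval F x
    · intro hx
      exact ⟨Finset.mem_univ _, (minpoly.eq_of_irreducible_of_monic hP hx hPm).symm⟩
  rw [hfilter, Multiset.toFinset_card_of_nodup (nodup_roots hsep.map),
    ← hsplit.natDegree_eq_card_roots, natDegree_map]

theorem card_fiber {g : F[X]} (hg : g ∈ monics (Module.finrank F E)) :
    ((Finset.univ : Finset E).filter (fun x => gx F x = g)).card = vM g := by
  by_cases hpp : IsPP g
  · obtain ⟨P, k, hP, hPm, hk, rfl⟩ := hpp
    rw [vM_pow hP hPm hk]
    obtain ⟨_, hdeg⟩ := mem_monics.mp hg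
    rw [natDegree_pow] at hdeg
    have hd : P.natDegree ∣ Module.finrank F E := ⟨k, by rw [← hdeg, mul_comm]⟩
    rw [← card_minpoly_eq (E := E) hP hPm hd]
    apply congrArg Finset.card
    apply Finset.filter_congr
    intro x _
    have hint : IsIntegral F x := IsIntegral.of_finite F x
    have hkx : 0 < Module.finrank F⟮x⟯ E := Module.finrank_pos
    constructor
    · intro hx
      exact eq_of_pow_eq_pow (minpoly.irreducible hint) (minpoly.monic hint) hP hPm hkx hx
    · intro hx
      have h1 := (mem_monics.mp (gx_mem (F := F) x)).2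
      unfold gx at h1 ⊢
      rw [natDegree_pow, hx] at h1
      rw [hx]
      congr 1
      exact Nat.eq_of_mul_eq_mul_right hP.natDegree_pos (h1.trans hdeg.symm)
  · rw [vM_of_not hpp, Finset.card_eq_zero, Finset.filter_eq_empty_iff]
    intro x _ hx
    apply hpp
    have hint : IsIntegral F x := IsIntegral.of_finite F x
    exact ⟨minpoly F x, Module.finrank F⟮x⟯ E, minpoly.irreducible hint, minpoly.monic hint,
      Module.finrank_pos, hx.symm⟩

theorem sum_eq_bSum :
    ∑ x : E, χ (Algebra.norm F x) * ψ (Algebra.trace F E x) =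
      bSum χ ψ (Module.finrank F E) := by
  have h1 : ∑ x : E, χ (Algebra.norm F x) * ψ (Algebra.trace F E x) =
      ∑ x : E, lam χ ψ (gx F x) :=
    Finset.sum_congr rfl (fun x _ => (lam_gx χ ψ x).symm)
  rw [h1, ← Finset.sum_fiberwise_of_maps_to (g := gx F) (t := monics (Module.finrank F E))
    (fun x _ => gx_mem x)]
  unfold bSum
  refine Finset.sum_congr rfl (fun g hg => ?_)
  rw [← card_fiber (E := E) hg, ← nsmul_eq_mul, ← Finset.sum_const]
  refine Finset.sum_congr (Finset.ext (fun x => by simp only [Finset.mem_filter]))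
    (fun x hx => ?_)
  rw [(Finset.mem_filter.mp hx).2]

theorem hasse_davenport [IsDomain R] (hψ : ψ ≠ 1) :
    -(∑ x : E, χ (Algebra.norm F x) * ψ (Algebra.trace F E x)) =
      (-(∑ x : F, χ x * ψ x)) ^ Module.finrank F E := by
  rw [sum_eq_bSum, ← aSum_one]
  obtain ⟨m, hm⟩ : ∃ m, Module.finrank F E = m + 1 :=
    Nat.exists_eq_succ_of_ne_zero (Module.finrank_pos (R := F) (M := E)).ne'
  rw [hm, bSum_eq χ ψ hψ m, neg_neg]

end Groth.Agent.Lib.Helper24.HDav
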