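import Mathlib
import Groth.Agent.Lib.Helper26.HenselFEtLift
import Groth.Agent.Lib.Helper8.EtaleIrredSch

/-!
# Helper library (helper24): splitting off the finite part over a henselian pair

For a henselian pair `(A, I)` and a quasi-compact separated étale `g : U ⟶ Spec A` whose reduction
modulo `I` is finite, `U` is the disjoint union of an open and closed part finite over `A` and a
part missing `V(I)`.  Uses Mathlib's Zariski main theorem and helper26's idempotent lifting.
-/

set_option autoImplicit false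
set_option maxHeartbeats 400000
set_option linter.style.haveILetI false
universe u

namespace Groth.Agent.Lib.Helper24.HensSplit

open CategoryTheory Limits AlgebraicGeometry
open Groth.Agent.Lib.Helper26.HenselTFAE Groth.Agent.Lib.Helper26.HenselIdem

/-- Zariski's main theorem over an affine base, packaged. -/
theorem exists_openImmersion_integral {A : CommRingCat.{u}} {U : Scheme.{u}} (g : U ⟶ Spec A)
    [QuasiCompact g] [IsSeparated g] [Etale g] :
    ∃ (B : CommRingCat.{u}) (a : A ⟶ B) (j : U ⟶ Spec B), a.hom.IsIntegral ∧ IsOpenImmersion j ∧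
      j ≫ Spec.map a = g := by
  haveI : LocallyQuasiFinite g :=
    Groth.Agent.Lib.Helper8.EtaleIrredSch.locallyQuasiFinite_of_etale g
  haveI : IsAffine g.normalization := isAffine_of_isAffineHom g.fromNormalization
  refine ⟨Γ(g.normalization, ⊤), (Scheme.ΓSpecIso A).inv ≫ g.fromNormalization.appTop,
    g.toNormalization ≫ g.normalization.isoSpec.hom, ?_, inferInstance, ?_⟩
  · rw [CommRingCat.hom_comp]
    exact RingHom.IsIntegral.trans _ _ (RingHom.isIntegral_of_surjective _
      (ConcreteCategory.bijective_of_isIso (Scheme.ΓSpecIso A).inv).2)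
      (g.fromNormalization.isIntegral_app ⊤ (isAffineOpen_top _))
  · rw [Category.assoc, Spec.map_comp, ← Category.assoc (g.normalization.isoSpec.hom),
      Scheme.isoSpec_hom_naturality, Category.assoc, Scheme.isoSpec_Spec_hom, ← Spec.map_comp,
      Iso.inv_hom_id, Spec.map_id, Category.comp_id, Scheme.Hom.toNormalization_fromNormalization]

theorem exists_clopen_finite_part (A : Type u) [CommRing A] (I : Ideal A) [HenselianRing A I]
    {U : Scheme.{u}} (g : U ⟶ Spec (CommRingCat.of A)) [Etale g]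
    (B : CommRingCat.{u}) (a : CommRingCat.of A ⟶ B) (j : U ⟶ Spec B) (ha : a.hom.IsIntegral)
    [IsOpenImmersion j] (hj : j ≫ Spec.map a = g)
    (hfin : IsFinite (pullback.snd g (Spec.map (CommRingCat.ofHom (Ideal.Quotient.mk I))))) :
    ∃ W : U.Opens, IsClosed (W : Set U) ∧ IsFinite (W.ι ≫ g) ∧
      ∀ u : U, u ∉ W → ¬ I ≤ (g.base u : PrimeSpectrum A).asIdeal := by
  subst hj
  obtain ⟨i, hi⟩ : ∃ i : Spec (CommRingCat.of (A ⧸ I)) ⟶ Spec (CommRingCat.of A),
    i = Spec.map (CommRingCat.ofHom (Ideal.Quotient.mk I)) := ⟨_, rfl⟩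
  rw [← hi] at hfin
  haveI : IsClosedImmersion i := by
    rw [hi]
    exact IsClosedImmersion.spec_of_surjective _ Ideal.Quotient.mk_surjective
  have hI : I ≤ Ideal.jacobson ⊥ := HenselianRing.jac
  have hF := liftsFactorizations_of_liftsEtale I (liftsEtale_of_henselianRing I)
  letI : Algebra A B := a.hom.toAlgebra
  haveI : Algebra.IsIntegral A B := ⟨ha⟩
  obtain ⟨J, hJ⟩ : ∃ J : Ideal B, J = I.map (algebraMap A B) := ⟨_, rfl⟩
  have hZ : ∀ x : PrimeSpectrum B, J ≤ x.asIdeal ↔ I ≤ (PrimeSpectrum.comap a.hom x).asIdeal := by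
    intro x
    rw [hJ, Ideal.map_le_iff_le_comap]
    rfl
  -- the closed set `S`
  obtain ⟨q, hq'⟩ : ∃ q : pullback (j ≫ Spec.map a) i ⟶ Spec B,
    q = pullback.fst (j ≫ Spec.map a) i ≫ j := ⟨_, rfl⟩
  have hq : q ≫ Spec.map a = pullback.snd (j ≫ Spec.map a) i ≫ i := by
    rw [hq', Category.assoc]
    exact pullback.condition
  haveI : IsFinite (pullback.snd (j ≫ Spec.map a) i) := hfin
  haveI : IsProper (q ≫ Spec.map a) := by
    rw [hq]
    infer_instance
  haveI : IsProper q := IsProper.of_comp q (Spec.map a)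
  have hSclosed : IsClosed (Set.range q) := q.isClosedMap.isClosed_range
  have hrange_i : Set.range i = PrimeSpectrum.zeroLocus (I : Set A) := by
    have := range_comap_of_surjective _ (Ideal.Quotient.mk I)
      Ideal.Quotient.mk_surjective
    rw [Ideal.mk_ker] at this
    rw [hi]
    exact this
  have hSmem : ∀ x : PrimeSpectrum B, x ∈ Set.range q ↔
      ∃ u : U, j u = x ∧ I ≤ (PrimeSpectrum.comap a.hom (j u)).asIdeal := by
    intro x
    constructor
    · rintro ⟨w, rfl⟩
      refine ⟨pullback.fst (j ≫ Spec.map a) i w, by rw [hq']; rfl, ?_⟩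
      have h1 : (j ≫ Spec.map a) (pullback.fst (j ≫ Spec.map a) i w) ∈ Set.range i := by
        have : pullback.fst (j ≫ Spec.map a) i w ∈ Set.range (pullback.fst (j ≫ Spec.map a) i) :=
          ⟨w, rfl⟩
        rw [Scheme.Pullback.range_fst] at this
        exact this
      rw [hrange_i] at h1
      exact fun r hr => (PrimeSpectrum.mem_zeroLocus _ _).mp h1 hr
    · rintro ⟨u, rfl, hu⟩
      have h1 : u ∈ Set.range (pullback.fst (j ≫ Spec.map a) i) := by
        rw [Scheme.Pullback.range_fst]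
        show (j ≫ Spec.map a) u ∈ Set.range i
        rw [hrange_i]
        exact (PrimeSpectrum.mem_zeroLocus _ _).mpr (fun r hr => hu hr)
      obtain ⟨w, hw⟩ := h1
      refine ⟨w, ?_⟩
      rw [hq']
      show j (pullback.fst (j ≫ Spec.map a) i w) = j u
      rw [hw]
  have hjopen : IsOpen (Set.range j) := j.isOpenEmbedding.isOpen_range
  -- the clopen subset of `Spec (B/J)`
  obtain ⟨c, hc⟩ : ∃ c : PrimeSpectrum (B ⧸ J) → PrimeSpectrum B,
    c = PrimeSpectrum.comap (Ideal.Quotient.mk J) := ⟨_, rfl⟩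
  have hccont : Continuous c := by
    rw [hc]; exact PrimeSpectrum.continuous_comap _
  have hcZ : ∀ y, J ≤ (c y).asIdeal := by
    intro y b hb
    rw [hc]
    show Ideal.Quotient.mk J b ∈ y.asIdeal
    rw [Ideal.Quotient.eq_zero_iff_mem.mpr hb]
    exact zero_mem _
  have hcrange : ∀ x : PrimeSpectrum B, J ≤ x.asIdeal → ∃ y, c y = x := by
    intro x hx
    have h1 : x ∈ Set.range (PrimeSpectrum.comap (Ideal.Quotient.mk J)) := by
      rw [range_comap_of_surjective _ _ Ideal.Quotient.mk_surjective, Ideal.mk_ker,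
        PrimeSpectrum.mem_zeroLocus]
      exact hx
    rw [hc]
    exact h1
  have hSj : ∀ y, c y ∈ Set.range q ↔ c y ∈ Set.range j := by
    intro y
    rw [hSmem]
    constructor
    · rintro ⟨u, hu, -⟩
      exact ⟨u, hu⟩
    · rintro ⟨u, hu⟩
      refine ⟨u, hu, ?_⟩
      rw [hu, ← hZ]
      exact hcZ y
  have hS'clopen : IsClopen (c ⁻¹' Set.range q) := by
    refine ⟨hSclosed.preimage hccont, ?_⟩
    have : c ⁻¹' Set.range q = c ⁻¹' Set.range j := by
      ext y
      exact hSj y
    rw [this]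
    exact hjopen.preimage hccont
  obtain ⟨ebar, hebar, hS'⟩ := PrimeSpectrum.isClopen_iff.mp hS'clopen
  subst hJ
  obtain ⟨e, he, hee⟩ := (bijOn_idempotents I hI hF B).surjOn
    (show ebar ∈ {e | IsIdempotentElem e} from hebar)
  have hee' : Ideal.Quotient.mk (I.map (algebraMap A B)) e = ebar := hee
  have hT'clopen : IsClopen (PrimeSpectrum.basicOpen e : Set (PrimeSpectrum B)) :=
    PrimeSpectrum.isClopen_iff.mpr ⟨e, he, rfl⟩
  have hT'S : ∀ x : PrimeSpectrum B, I.map (algebraMap A B) ≤ x.asIdeal →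
      (x ∈ (PrimeSpectrum.basicOpen e : Set (PrimeSpectrum B)) ↔ x ∈ Set.range q) := by
    intro x hx
    obtain ⟨y, rfl⟩ := hcrange x hx
    have h1 : c y ∈ Set.range q ↔ y ∈ (PrimeSpectrum.basicOpen ebar : Set _) := by
      rw [← hS']; rfl
    rw [h1, ← hee', hc]
    rfl
  -- `T' ⊆ range j`
  have hT'j : (PrimeSpectrum.basicOpen e : Set (PrimeSpectrum B)) ⊆ Set.range j := by
    by_contra hne
    obtain ⟨x, hxT, hxj⟩ := Set.not_subset.mp hne
    have hZc : IsClosed ((PrimeSpectrum.basicOpen e : Set (PrimeSpectrum B)) ∩ (Set.range j)ᶜ) :=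
      hT'clopen.1.inter hjopen.isClosed_compl
    obtain ⟨K, hK⟩ := (PrimeSpectrum.isClosed_iff_zeroLocus_ideal _).mp hZc
    have hKne : K ≠ ⊤ := by
      rintro rfl
      have h0 : PrimeSpectrum.zeroLocus ((⊤ : Ideal B) : Set B) = ∅ :=
        PrimeSpectrum.zeroLocus_empty_iff_eq_top.mpr rfl
      have : x ∈ PrimeSpectrum.zeroLocus ((⊤ : Ideal B) : Set B) := hK ▸ ⟨hxT, hxj⟩
      rw [h0] at this
      exact this
    obtain ⟨m, hm, hKm⟩ := Ideal.exists_le_maximal K hKne
    let xm : PrimeSpectrum B := ⟨m, hm.isPrime⟩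
    have hxm : xm ∈ (PrimeSpectrum.basicOpen e : Set (PrimeSpectrum B)) ∩ (Set.range j)ᶜ := by
      rw [hK, PrimeSpectrum.mem_zeroLocus]
      exact hKm
    have hJm : I.map (algebraMap A B) ≤ xm.asIdeal := by
      refine le_trans (map_le_jacobson_of_isIntegral I hI) ?_
      exact sInf_le ⟨bot_le, hm⟩
    have : xm ∈ Set.range q := (hT'S xm hJm).mp hxm.1
    obtain ⟨u, hu, -⟩ := (hSmem xm).mp this
    exact hxm.2 ⟨u, hu⟩
  -- the open and closed subset `W`
  let T'o : (Spec B).Opens := ⟨(PrimeSpectrum.basicOpen e : Set (PrimeSpectrum B)), hT'clopen.2⟩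
  refine ⟨j ⁻¹ᵁ T'o, ?_, ?_, ?_⟩
  · exact hT'clopen.1.preimage j.continuous
  · have hrange : Set.range ((j ⁻¹ᵁ T'o).ι ≫ j) =
        (PrimeSpectrum.basicOpen e : Set (PrimeSpectrum B)) := by
      ext x
      constructor
      · rintro ⟨w, rfl⟩
        exact w.2
      · intro hx
        obtain ⟨u, rfl⟩ := hT'j hx
        exact ⟨⟨u, hx⟩, rfl⟩
    haveI : IsClosedImmersion ((j ⁻¹ᵁ T'o).ι ≫ j) :=
      IsClosedImmersion.of_isPreimmersion _ (by rw [hrange]; exact hT'clopen.1)
    haveI : IsIntegralHom (Spec.map a) := IsIntegralHom.SpecMap_iff.mpr ha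
    rw [IsFinite.iff_isIntegralHom_and_locallyOfFiniteType]
    refine ⟨?_, inferInstance⟩
    rw [← Category.assoc]
    infer_instance
  · intro u hu hIu
    apply hu
    have h1 : j u ∈ Set.range q := (hSmem (j u)).mpr ⟨u, rfl, hIu⟩
    have h2 : I.map (algebraMap A B) ≤ (j u).asIdeal := (hZ (j u)).mpr hIu
    exact (hT'S (j u) h2).mpr h1

/-- The splitting theorem (Stacks 09XI-type, scheme version). -/
theorem exists_clopen_finite (A : Type u) [CommRing A] (I : Ideal A) [HenselianRing A I]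
    {U : Scheme.{u}} (g : U ⟶ Spec (CommRingCat.of A)) [QuasiCompact g] [IsSeparated g] [Etale g]
    (hfin : IsFinite (pullback.snd g (Spec.map (CommRingCat.ofHom (Ideal.Quotient.mk I))))) :
    ∃ W : U.Opens, IsClosed (W : Set U) ∧ IsFinite (W.ι ≫ g) ∧
      ∀ u : U, u ∉ W → ¬ I ≤ (g.base u : PrimeSpectrum A).asIdeal := by
  obtain ⟨B, a, j, ha, hjo, hj⟩ := exists_openImmersion_integral g
  exact exists_clopen_finite_part A I g B a j ha hj hfin

end Groth.Agent.Lib.Helper24.HensSplit
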