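import Groth.Prelude.Def_Conn
import Mathlib

/-!
# Hochschild's formula for rank-one differentials and p-linearity of the p-curvature
-/

namespace Groth.Agent.Lib.Helper24.Hochschild

open Finset

section Leib

variable {A : Type*} {B : Type*} [CommRing A] [CommRing B] [Algebra A B] (θ : Derivation A B B)

lemma iterate_mul_anti (n : ℕ) (x y : B) :
    (⇑θ)^[n] (x * y)
      = ∑ ij ∈ antidiagonal n, (n.choose ij.1 : B) * ((⇑θ)^[ij.1] x * (⇑θ)^[ij.2] y) := by
  induction n with
  | zero => simp
  | succ n ih =>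
    rw [Function.iterate_succ_apply', ih, map_sum]
    rw [Finset.sum_antidiagonal_choose_succ_mul (fun i j => (⇑θ)^[i] x * (⇑θ)^[j] y) n]
    rw [← Finset.sum_add_distrib]
    apply Finset.sum_congr rfl
    rintro ⟨i, j⟩ hij
    have hc : (n.choose j : B) = (n.choose i : B) := by
      rw [Nat.choose_symm_of_eq_add (mem_antidiagonal.mp hij).symm]
    simp only [Function.iterate_succ_apply', Derivation.leibniz, smul_eq_mul,
      Derivation.map_natCast, hc]
    ring

/-- Leibniz, range form, index = order of derivative on `y`. -/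
lemma iterate_mul_range (n : ℕ) (x y : B) :
    (⇑θ)^[n] (x * y)
      = ∑ i ∈ range (n + 1), (n.choose i : B) * ((⇑θ)^[n - i] x * (⇑θ)^[i] y) := by
  rw [mul_comm x y, iterate_mul_anti]
  rw [Finset.Nat.sum_antidiagonal_eq_sum_range_succ
    (fun i j => (n.choose i : B) * ((⇑θ)^[i] y * (⇑θ)^[j] x)) n]
  apply Finset.sum_congr rfl
  intro i _
  ring

/-- In characteristic `p` the `p`-th iterate of a derivation is a derivation. -/
noncomputable def iterP (p : ℕ) [Fact p.Prime] [CharP B p] : Derivation A B B :=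
  Derivation.mk' ((θ : B →ₗ[A] B) ^ p) (by
    intro x y
    have hp : p.Prime := Fact.out
    simp only [Module.End.pow_apply, Derivation.coeFn_coe, smul_eq_mul]
    rw [iterate_mul_range, Finset.sum_range_succ]
    obtain ⟨q, hq⟩ : ∃ q, p = q + 1 := ⟨p - 1, by have := hp.two_le; omega⟩
    rw [show range p = range (q + 1) by rw [hq], Finset.sum_range_succ']
    have hz : ∑ k ∈ range q, ((p.choose (k + 1) : ℕ) : B)
        * ((⇑θ)^[p - (k + 1)] x * (⇑θ)^[k + 1] y) = 0 := by
      apply Finset.sum_eq_zero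
      intro k hk
      have hk' : k + 1 < p := by
        have := mem_range.mp hk
        omega
      have : ((p.choose (k + 1) : ℕ) : B) = 0 :=
        (CharP.cast_eq_zero_iff B p _).mpr (hp.dvd_choose_self (by omega) hk')
      rw [this, zero_mul]
    rw [hz]
    simp only [Nat.choose_zero_right, Nat.choose_self, Nat.cast_one, one_mul, Nat.sub_zero,
      Function.iterate_zero, id_eq, Nat.sub_self, zero_add]
    ring)

lemma iterP_apply (p : ℕ) [Fact p.Prime] [CharP B p] (b : B) :
    iterP θ p b = (⇑θ)^[p] b := by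
  simp [iterP, Module.End.pow_apply]

lemma eq_zero_of_natCast_mul (p : ℕ) [Fact p.Prime] [CharP B p] (n : ℕ) (hn0 : 0 < n)
    (hn : n < p) (z : B) (h : (n : B) * z = 0) : z = 0 := by
  have hp : p.Prime := Fact.out
  have hcop : Nat.Coprime n p :=
    ((Nat.Prime.coprime_iff_not_dvd hp).mpr (Nat.not_dvd_of_pos_of_lt hn0 hn)).symm
  obtain ⟨m, -, hm⟩ := Nat.exists_mul_mod_eq_one_of_coprime hcop hp.one_lt
  have h1 : ((n * m : ℕ) : B) = ((1 : ℕ) : B) := by
    rw [CharP.natCast_eq_natCast B p]
    unfold Nat.ModEq; rw [hm, Nat.mod_eq_of_lt hp.one_lt]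
  push_cast at h1
  calc z = (n : B) * m * z := by rw [h1, one_mul]
    _ = m * ((n : B) * z) := by ring
    _ = 0 := by rw [h, mul_zero]

/-- coefficient of `θ^i y` in `Σ a_k θ^k (x y)`. -/
noncomputable def Bc (a : ℕ → B) (n : ℕ) (x : B) (i : ℕ) : B :=
  ∑ k ∈ Ico i (n + 1), a k * (k.choose i : B) * (⇑θ)^[k - i] x

lemma sum_iterate_mul (a : ℕ → B) (n : ℕ) (x y : B) :
    ∑ k ∈ range (n + 1), a k * (⇑θ)^[k] (x * y)
      = ∑ i ∈ range (n + 1), Bc θ a n x i * (⇑θ)^[i] y := by
  simp only [iterate_mul_range, Finset.mul_sum, Bc, Finset.sum_mul]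
  rw [Finset.sum_comm' (s := range (n + 1)) (t := fun k => range (k + 1)) (t' := range (n + 1))
    (s' := fun i => Ico i (n + 1))]
  · apply Finset.sum_congr rfl; intro i _; apply Finset.sum_congr rfl; intro k _; ring
  · intro k i; simp only [mem_range, mem_Ico]; omega

theorem indep (p : ℕ) [Fact p.Prime] [CharP B p]
    (hgen : ∀ a : B, (∀ x, a * θ x = 0) → a = 0) :
    ∀ K : ℕ, K < p → ∀ a : ℕ → B, (∀ y, ∑ k ∈ range (K + 1), a k * (⇑θ)^[k] y = 0) →
      ∀ k, k ≤ K → a k = 0 := by
  intro K
  induction K with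
  | zero =>
    intro _ a h k hk
    have := h 1
    simp at this
    obtain rfl : k = 0 := by omega
    exact this
  | succ K ih =>
    intro hK a h
    have hK' : K < p := by omega
    have htop : a (K + 1) = 0 := by
      apply hgen
      intro x
      have hrel : ∀ y, ∑ i ∈ range (K + 1), (Bc θ a (K + 1) x i - x * a i) * (⇑θ)^[i] y = 0 := by
        intro y
        have h1 := h (x * y)
        rw [sum_iterate_mul] at h1
        have h2 := h y
        have h3 : ∑ i ∈ range (K + 1 + 1),
            (Bc θ a (K + 1) x i - x * a i) * (⇑θ)^[i] y = 0 := by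
          simp only [sub_mul, Finset.sum_sub_distrib, h1, mul_assoc, ← Finset.mul_sum, h2,
            mul_zero, sub_zero]
        rw [Finset.sum_range_succ] at h3
        have htopc : Bc θ a (K + 1) x (K + 1) - x * a (K + 1) = 0 := by
          simp [Bc]; ring
        rw [htopc, zero_mul, add_zero] at h3
        exact h3
      have hb := ih hK' _ hrel K le_rfl
      have hcomp : Bc θ a (K + 1) x K - x * a K = ((K + 1 : ℕ) : B) * (a (K + 1) * θ x) := by
        simp only [Bc]
        rw [Finset.sum_Ico_eq_sum_range]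
        have : K + 1 + 1 - K = 2 := by omega
        rw [this, Finset.sum_range_succ, Finset.sum_range_one]
        simp [Nat.choose_succ_self_right]
        ring
      rw [hcomp] at hb
      exact eq_zero_of_natCast_mul p (K + 1) (by omega) hK _ hb
    intro k hk
    rcases Nat.lt_or_ge k (K + 1) with hlt | hge
    · apply ih hK' a _ k (by omega)
      intro y
      have := h y
      rw [Finset.sum_range_succ, htop, zero_mul, add_zero] at this
      exact this
    · obtain rfl : k = K + 1 := by omega
      exact htop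

end Leib

section Coef

variable {A : Type*} {B : Type*} [CommRing A] [CommRing B] [Algebra A B] (θ : Derivation A B B)
  (f : B)

/-- normal-ordering coefficients of `(f θ)^n`. -/
noncomputable def cc : ℕ → ℕ → B
  | 0, k => if k = 0 then 1 else 0
  | (n + 1), k => f * (θ (cc n k) + (if k = 0 then 0 else cc n (k - 1)))

lemma cc_eq_zero_of_lt : ∀ n k, n < k → cc θ f n k = 0
  | 0, k, h => by
      rw [cc, if_neg (by omega)]
  | n + 1, k, h => by
      rw [cc, cc_eq_zero_of_lt n k (by omega), if_neg (by omega),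
        cc_eq_zero_of_lt n (k - 1) (by omega)]
      simp

variable {N : Type*} [AddCommGroup N] [Module B N] [Module A N] [IsScalarTower A B N]
  (T : N →ₗ[A] N)

lemma iterate_smul (hT : ∀ (b : B) (n : N), T (b • n) = θ b • n + b • T n) (n : ℕ) (x : N) :
    (fun z => f • T z)^[n] x = ∑ k ∈ range (n + 1), cc θ f n k • (⇑T)^[k] x := by
  induction n with
  | zero => simp [cc]
  | succ n ih =>
    rw [Function.iterate_succ_apply', ih, map_sum, Finset.smul_sum]
    have hR : ∑ k ∈ range (n + 1 + 1), cc θ f (n + 1) k • (⇑T)^[k] x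
        = ∑ k ∈ range (n + 1 + 1), (f * θ (cc θ f n k)) • (⇑T)^[k] x
          + ∑ k ∈ range (n + 1 + 1),
              (f * (if k = 0 then 0 else cc θ f n (k - 1))) • (⇑T)^[k] x := by
      rw [← Finset.sum_add_distrib]
      apply Finset.sum_congr rfl
      intro k _
      rw [cc, mul_add, add_smul]
    rw [hR, Finset.sum_range_succ (fun k => (f * θ (cc θ f n k)) • (⇑T)^[k] x) (n + 1),
      cc_eq_zero_of_lt θ f n (n + 1) (by omega), map_zero, mul_zero, zero_smul, add_zero]
    rw [Finset.sum_range_succ'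
      (fun k => (f * (if k = 0 then 0 else cc θ f n (k - 1))) • (⇑T)^[k] x) (n + 1)]
    simp only [if_true, mul_zero, zero_smul, add_zero, Nat.add_sub_cancel,
      if_neg (Nat.succ_ne_zero _), hT, smul_add, Finset.sum_add_distrib, smul_smul,
      Function.iterate_succ_apply']

end Coef

section Main

universe v u

open TensorProduct

variable {A : Type v} {B M : Type u} [CommRing A] [CommRing B] [Algebra A B]
  [AddCommGroup M] [Module B M] [Module A M] [IsScalarTower A B M]

lemma alongDer_leibniz (nabla : M →ₗ[A] M ⊗[B] Ω[B⁄A])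
    (hc : Conn.IsConn (KaehlerDifferential.D A B) nabla) (θ : Derivation A B B) (b : B) (m : M) :
    Conn.alongDer nabla θ (b • m) = θ b • m + b • Conn.alongDer nabla θ m := by
  rw [Conn.alongDer, Conn.along_apply, Conn.along_apply, hc b m, map_add, map_add,
    LinearMap.map_smul, LinearEquiv.map_smul, TensorProduct.map_tmul, TensorProduct.rid_tmul,
    LinearMap.id_apply, Derivation.liftKaehlerDifferential_comp_D, add_comm]

lemma lift_lincomb (a b : B) (D₁ D₂ : Derivation A B B) :
    (a • D₁ + b • D₂).liftKaehlerDifferential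
      = a • D₁.liftKaehlerDifferential + b • D₂.liftKaehlerDifferential := by
  apply Derivation.liftKaehlerDifferential_unique
  ext x
  simp [Derivation.liftKaehlerDifferential_comp_D]

lemma alongDer_lincomb (nabla : M →ₗ[A] M ⊗[B] Ω[B⁄A]) (a b : B) (D₁ D₂ : Derivation A B B)
    (m : M) :
    Conn.alongDer nabla (a • D₁ + b • D₂) m
      = a • Conn.alongDer nabla D₁ m + b • Conn.alongDer nabla D₂ m := by
  simp only [Conn.alongDer, Conn.along_apply, lift_lincomb, TensorProduct.map_add_right,
    TensorProduct.map_smul_right, LinearMap.add_apply, LinearMap.smul_apply, map_add,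
    LinearEquiv.map_smul]

variable (bΩ : Module.Basis (Fin 1) B (Ω[B⁄A])) (θ₀ : Derivation A B B)

lemma eq_smul_dual (hθ₀ : θ₀.liftKaehlerDifferential (bΩ 0) = 1) (θ : Derivation A B B) :
    θ = (θ.liftKaehlerDifferential (bΩ 0)) • θ₀ := by
  have hl : θ.liftKaehlerDifferential
      = (θ.liftKaehlerDifferential (bΩ 0)) • θ₀.liftKaehlerDifferential := by
    apply bΩ.ext
    intro i
    rw [Subsingleton.elim i 0]
    simp [hθ₀]
  ext b
  have h1 := LinearMap.congr_fun hl (KaehlerDifferential.D A B b)
  simpa [Derivation.liftKaehlerDifferential_comp_D] using h1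

lemma gen_of_dual (hθ₀ : θ₀.liftKaehlerDifferential (bΩ 0) = 1) (a : B)
    (hx : ∀ x, a * θ₀ x = 0) : a = 0 := by
  have key : ∀ ξ : Ω[B⁄A], a * θ₀.liftKaehlerDifferential ξ = 0 := by
    intro ξ
    have hξ : ξ ∈ Submodule.span B (Set.range (KaehlerDifferential.D A B)) := by
      rw [KaehlerDifferential.span_range_derivation]; trivial
    induction hξ using Submodule.span_induction with
    | mem ξ h =>
      obtain ⟨x, rfl⟩ := h
      rw [Derivation.liftKaehlerDifferential_comp_D]; exact hx x
    | zero => simp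
    | add u v _ _ hu hv => rw [map_add, mul_add, hu, hv, add_zero]
    | smul r u _ hu => rw [LinearMap.map_smul, smul_eq_mul, mul_left_comm, hu, mul_zero]
  have := key (bΩ 0)
  rwa [hθ₀, mul_one] at this

theorem main (p : ℕ) [Fact p.Prime] [CharP B p]
    (hθ₀ : θ₀.liftKaehlerDifferential (bΩ 0) = 1)
    (nabla : M →ₗ[A] M ⊗[B] Ω[B⁄A])
    (hc : Conn.IsConn (KaehlerDifferential.D A B) nabla)
    (h0 : ∀ θp : Derivation A B B, Conn.IsIterPow θ₀ p θp → Conn.pCurv p nabla θ₀ θp = 0)
    (θ θp : Derivation A B B) (hiter : Conn.IsIterPow θ p θp) :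
    Conn.pCurv p nabla θ θp = 0 := by
  have hp : p.Prime := Fact.out
  set f : B := θ.liftKaehlerDifferential (bΩ 0) with hf
  have hθ : θ = f • θ₀ := eq_smul_dual bΩ θ₀ hθ₀ θ
  set c := cc θ₀ f with hcdef
  -- step 2: formula for θp on B
  have hTB : ∀ (b n : B), (θ₀ : B →ₗ[A] B) (b • n) = θ₀ b • n + b • (θ₀ : B →ₗ[A] B) n := by
    intro b n
    simp only [smul_eq_mul, Derivation.coeFn_coe, Derivation.leibniz]
    ring
  have hθfun : (⇑θ : B → B) = fun z => f • (θ₀ : B →ₗ[A] B) z := by
    funext z
    rw [hθ]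
    simp
  have hθp : ∀ y, θp y = ∑ k ∈ range (p + 1), c p k * (⇑θ₀)^[k] y := by
    intro y
    rw [hiter y, hθfun, iterate_smul θ₀ f (θ₀ : B →ₗ[A] B) hTB p y]
    simp only [smul_eq_mul, Derivation.coeFn_coe]
    rfl
  -- step 3
  set θ₀p := iterP θ₀ p with hθ₀p
  have hiter0 : Conn.IsIterPow θ₀ p θ₀p := fun b => iterP_apply θ₀ p b
  set W : Derivation A B B := θp - (c p p) • θ₀p with hW
  set e : B := W.liftKaehlerDifferential (bΩ 0) with he
  have hWe : W = e • θ₀ := eq_smul_dual bΩ θ₀ hθ₀ W
  obtain ⟨q, hq⟩ : ∃ q, p = q + 1 := ⟨p - 1, by have := hp.two_le; omega⟩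
  have hq1 : 1 ≤ q := by have := hp.two_le; omega
  have hWy : ∀ y, W y = ∑ k ∈ range (q + 1), c p k * (⇑θ₀)^[k] y := by
    intro y
    have := hθp y
    rw [Finset.sum_range_succ] at this
    rw [hW, Derivation.sub_apply, Derivation.smul_apply, iterP_apply, this, hq]
    simp
  have hrel : ∀ y, ∑ k ∈ range (q + 1),
      (c p k - (if k = 1 then e else 0)) * (⇑θ₀)^[k] y = 0 := by
    intro y
    simp only [sub_mul, Finset.sum_sub_distrib, ite_mul, zero_mul]
    rw [← hWy y, Finset.sum_ite_eq' (range (q + 1)) 1, if_pos (by simp; omega), hWe]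
    simp
  have hvan := indep θ₀ p (gen_of_dual bΩ θ₀ hθ₀) q (by omega) _ hrel
  have hck : ∀ k, k ≤ q → k ≠ 1 → c p k = 0 := by
    intro k hk hk1
    have := hvan k hk
    rwa [if_neg hk1, sub_zero] at this
  -- θp as combination
  have hθp2 : θp = c p 1 • θ₀ + c p p • θ₀p := by
    ext y
    rw [hθp y, Derivation.add_apply, Derivation.smul_apply, Derivation.smul_apply, iterP_apply]
    rw [Finset.sum_eq_add 1 p (by omega)]
    · simp
    · intro k hk hne
      rw [hck k (by have := mem_range.mp hk; omega) hne.1, zero_mul]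
    · intro h; exact absurd (mem_range.mpr (by omega)) h
    · intro h; exact absurd (mem_range.mpr (by omega)) h
  -- on M
  set T := Conn.alongDer nabla θ₀ with hTdef
  have hTM : ∀ (b : B) (m : M), T (b • m) = θ₀ b • m + b • T m :=
    fun b m => alongDer_leibniz nabla hc θ₀ b m
  have hTθ : (⇑(Conn.alongDer nabla θ) : M → M) = fun z => f • T z := by
    funext z
    have := alongDer_lincomb nabla f 0 θ₀ θ₀ z
    rw [zero_smul, add_zero, zero_smul, add_zero] at this
    rw [hθ]
    exact this
  have h00 := h0 θ₀p hiter0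
  have hTp : ∀ m, Conn.alongDer nabla θ₀p m = (⇑T)^[p] m := by
    intro m
    have := LinearMap.congr_fun h00 m
    rw [Conn.pCurv, LinearMap.sub_apply, LinearMap.zero_apply, sub_eq_zero,
      Module.End.pow_apply] at this
    exact this.symm
  apply LinearMap.ext
  intro m
  rw [Conn.pCurv, LinearMap.sub_apply, LinearMap.zero_apply, sub_eq_zero, Module.End.pow_apply,
    hTθ, iterate_smul θ₀ f T hTM p m, hθp2, alongDer_lincomb, hTp]
  rw [Finset.sum_eq_add 1 p (by omega)]
  · simp [hcdef, hTdef]
  · intro k hk hne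
    rw [← hcdef, hck k (by have := mem_range.mp hk; omega) hne.1, zero_smul]
  · intro h; exact absurd (mem_range.mpr (by omega)) h
  · intro h; exact absurd (mem_range.mpr (by omega)) h

end Main

end Groth.Agent.Lib.Helper24.Hochschild
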