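import Mathlib

/-!
# Elementwise criteria for `homologyMap` of complexes of modules to be mono / epi (helper24)
-/

namespace Groth.Agent.Lib.Helper24.HomologyElem

open CategoryTheory

universe v u

variable {R : Type u} [Ring R]

section SC

variable {S₁ S₂ : ShortComplex (ModuleCat.{v} R)} (φ : S₁ ⟶ S₂)

/-- The induced map on cycles, as a linear map between kernels. -/
noncomputable def cyc : LinearMap.ker S₁.g.hom →ₗ[R] LinearMap.ker S₂.g.hom :=
  (ShortComplex.cyclesMap' φ S₁.moduleCatLeftHomologyData S₂.moduleCatLeftHomologyData).hom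

/-- The induced map on homology, as a linear map between the concrete quotients. -/
noncomputable def hmap :
    (LinearMap.ker S₁.g.hom ⧸ LinearMap.range S₁.moduleCatToCycles) →ₗ[R]
      (LinearMap.ker S₂.g.hom ⧸ LinearMap.range S₂.moduleCatToCycles) :=
  (ShortComplex.leftHomologyMap' φ S₁.moduleCatLeftHomologyData
    S₂.moduleCatLeftHomologyData).hom

lemma cyc_val (z : LinearMap.ker S₁.g.hom) : ((cyc φ z : LinearMap.ker S₂.g.hom) : S₂.X₂) =
    φ.τ₂.hom z.1 := by
  have h := ShortComplex.cyclesMap'_i φ S₁.moduleCatLeftHomologyData S₂.moduleCatLeftHomologyData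
  exact congrArg (fun m => m.hom z) h

lemma hmap_mk (z : LinearMap.ker S₁.g.hom) :
    hmap φ (Submodule.Quotient.mk z) = Submodule.Quotient.mk (cyc φ z) := by
  have h := ShortComplex.leftHomologyπ_naturality' φ S₁.moduleCatLeftHomologyData
    S₂.moduleCatLeftHomologyData
  exact congrArg (fun m => m.hom z) h

lemma mk_eq_zero_iff (S : ShortComplex (ModuleCat.{v} R)) (z : LinearMap.ker S.g.hom) :
    (Submodule.Quotient.mk z : LinearMap.ker S.g.hom ⧸ LinearMap.range S.moduleCatToCycles) = 0 ↔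
      ∃ x : S.X₁, S.f.hom x = z.1 := by
  rw [Submodule.Quotient.mk_eq_zero, LinearMap.mem_range]
  constructor
  · rintro ⟨x, hx⟩
    exact ⟨x, congrArg Subtype.val hx⟩
  · rintro ⟨x, hx⟩
    exact ⟨x, Subtype.ext hx⟩

lemma mono_iff_leftHomologyMap' :
    Mono (ShortComplex.homologyMap φ) ↔ Mono (ShortComplex.leftHomologyMap' φ
      S₁.moduleCatLeftHomologyData S₂.moduleCatLeftHomologyData) := by
  have e1 : ShortComplex.leftHomologyMap' φ S₁.moduleCatLeftHomologyData
      S₂.moduleCatLeftHomologyData = S₁.moduleCatLeftHomologyData.homologyIso.inv ≫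
        ShortComplex.homologyMap φ ≫ S₂.moduleCatLeftHomologyData.homologyIso.hom := by
    rw [← ShortComplex.LeftHomologyData.leftHomologyIso_hom_naturality, Iso.inv_hom_id_assoc]
  have e2 : ShortComplex.homologyMap φ = S₁.moduleCatLeftHomologyData.homologyIso.hom ≫
      ShortComplex.leftHomologyMap' φ S₁.moduleCatLeftHomologyData
        S₂.moduleCatLeftHomologyData ≫ S₂.moduleCatLeftHomologyData.homologyIso.inv := by
    rw [e1]
    simp
  constructor
  · intro _
    rw [e1]
    infer_instance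
  · intro _
    rw [e2]
    infer_instance

lemma epi_iff_leftHomologyMap' :
    Epi (ShortComplex.homologyMap φ) ↔ Epi (ShortComplex.leftHomologyMap' φ
      S₁.moduleCatLeftHomologyData S₂.moduleCatLeftHomologyData) := by
  have e1 : ShortComplex.leftHomologyMap' φ S₁.moduleCatLeftHomologyData
      S₂.moduleCatLeftHomologyData = S₁.moduleCatLeftHomologyData.homologyIso.inv ≫
        ShortComplex.homologyMap φ ≫ S₂.moduleCatLeftHomologyData.homologyIso.hom := by
    rw [← ShortComplex.LeftHomologyData.leftHomologyIso_hom_naturality, Iso.inv_hom_id_assoc]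
  have e2 : ShortComplex.homologyMap φ = S₁.moduleCatLeftHomologyData.homologyIso.hom ≫
      ShortComplex.leftHomologyMap' φ S₁.moduleCatLeftHomologyData
        S₂.moduleCatLeftHomologyData ≫ S₂.moduleCatLeftHomologyData.homologyIso.inv := by
    rw [e1]
    simp
  constructor
  · intro _
    rw [e1]
    infer_instance
  · intro _
    rw [e2]
    infer_instance

theorem mono_homologyMap_iff : Mono (ShortComplex.homologyMap φ) ↔
    ∀ x : S₁.X₂, S₁.g.hom x = 0 → (∃ y : S₂.X₁, S₂.f.hom y = φ.τ₂.hom x) →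
      ∃ x' : S₁.X₁, S₁.f.hom x' = x := by
  rw [mono_iff_leftHomologyMap', ModuleCat.mono_iff_injective]
  change Function.Injective (hmap φ) ↔ _
  constructor
  · intro hinj x hx hy
    let z : LinearMap.ker S₁.g.hom := ⟨x, LinearMap.mem_ker.2 hx⟩
    have h1 : hmap φ (Submodule.Quotient.mk z) = 0 := by
      rw [hmap_mk, mk_eq_zero_iff, cyc_val]
      exact hy
    have h2 : (Submodule.Quotient.mk z :
        LinearMap.ker S₁.g.hom ⧸ LinearMap.range S₁.moduleCatToCycles) = 0 :=
      hinj (h1.trans (map_zero _).symm)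
    exact (mk_eq_zero_iff S₁ z).1 h2
  · intro h
    rw [← LinearMap.ker_eq_bot, LinearMap.ker_eq_bot']
    intro q hq
    obtain ⟨z, rfl⟩ := Submodule.Quotient.mk_surjective _ q
    rw [hmap_mk, mk_eq_zero_iff, cyc_val] at hq
    rw [mk_eq_zero_iff]
    exact h z.1 (LinearMap.mem_ker.1 z.2) hq

theorem epi_homologyMap_iff : Epi (ShortComplex.homologyMap φ) ↔
    ∀ y : S₂.X₂, S₂.g.hom y = 0 → ∃ x : S₁.X₂, S₁.g.hom x = 0 ∧
      ∃ w : S₂.X₁, S₂.f.hom w = φ.τ₂.hom x - y := by
  rw [epi_iff_leftHomologyMap', ModuleCat.epi_iff_surjective]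
  change Function.Surjective (hmap φ) ↔ _
  constructor
  · intro hsurj y hy
    let zy : LinearMap.ker S₂.g.hom := ⟨y, LinearMap.mem_ker.2 hy⟩
    obtain ⟨q, hq⟩ := hsurj (Submodule.Quotient.mk zy)
    obtain ⟨z, rfl⟩ := Submodule.Quotient.mk_surjective _ q
    rw [hmap_mk, ← sub_eq_zero, ← Submodule.Quotient.mk_sub, mk_eq_zero_iff] at hq
    obtain ⟨w, hw⟩ := hq
    refine ⟨z.1, LinearMap.mem_ker.1 z.2, w, ?_⟩
    rw [hw, Submodule.coe_sub, cyc_val]
  · intro h q
    obtain ⟨zy, rfl⟩ := Submodule.Quotient.mk_surjective _ q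
    obtain ⟨x, hx, w, hw⟩ := h zy.1 (LinearMap.mem_ker.1 zy.2)
    let z : LinearMap.ker S₁.g.hom := ⟨x, LinearMap.mem_ker.2 hx⟩
    refine ⟨Submodule.Quotient.mk z, ?_⟩
    rw [hmap_mk, ← sub_eq_zero, ← Submodule.Quotient.mk_sub, mk_eq_zero_iff]
    refine ⟨w, ?_⟩
    rw [hw, Submodule.coe_sub, cyc_val]

end SC

section HC

variable {ι : Type*} {c : ComplexShape ι} {K L : HomologicalComplex (ModuleCat.{v} R) c}
  (f : K ⟶ L)

theorem mono_homologyMap_iff' (i j k : ι) (hj : c.prev i = j) (hk : c.next i = k) :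
    Mono (HomologicalComplex.homologyMap f i) ↔
      ∀ x : K.X i, (K.d i k).hom x = 0 → (∃ y : L.X j, (L.d j i).hom y = (f.f i).hom x) →
        ∃ x' : K.X j, (K.d j i).hom x' = x := by
  subst hj hk
  exact mono_homologyMap_iff ((HomologicalComplex.shortComplexFunctor _ c i).map f)

theorem epi_homologyMap_iff' (i j k : ι) (hj : c.prev i = j) (hk : c.next i = k) :
    Epi (HomologicalComplex.homologyMap f i) ↔
      ∀ y : L.X i, (L.d i k).hom y = 0 → ∃ x : K.X i, (K.d i k).hom x = 0 ∧
        ∃ w : L.X j, (L.d j i).hom w = (f.f i).hom x - y := by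
  subst hj hk
  exact epi_homologyMap_iff ((HomologicalComplex.shortComplexFunctor _ c i).map f)

end HC

end Groth.Agent.Lib.Helper24.HomologyElem
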