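import Mathlib

/-!
# The symmetric algebra of the image of an idempotent matrix, by generators and relations

For an `m × m` matrix `col` over a ring `A` with `col * col = col` (in the form
`∑ j, col i j * col j k = col i k`), the algebra `Sym col = A[y_1..y_m]/(y_i - ∑_j col i j y_j)`
is a retract of the polynomial algebra `A[y]`, hence smooth and projective over `A`, with an
augmentation `y ↦ 0`.
-/

set_option autoImplicit false
set_option maxHeartbeats 400000
set_option linter.style.haveILetI false
set_option linter.unusedSectionVars false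
set_option linter.unusedVariables false

universe u

open MvPolynomial

namespace Groth.Agent.Lib.Helper24.IdemSym

section

variable {A : Type u} [CommRing A] {m : ℕ} (col : Fin m → Fin m → A)

/-- the linear forms `ℓ_i = X_i − ∑_j col i j X_j` -/
noncomputable def ell (i : Fin m) : MvPolynomial (Fin m) A :=
  X i - ∑ j, C (col i j) * X j

/-- the ideal of relations -/
noncomputable def L : Ideal (MvPolynomial (Fin m) A) := Ideal.span (Set.range (ell col))

/-- the algebra `A[y]/(ℓ)` -/
abbrev Sym : Type u := MvPolynomial (Fin m) A ⧸ L col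

/-- the generators -/
noncomputable def y (i : Fin m) : Sym col := Ideal.Quotient.mk (L col) (X i)

theorem L_fg : (L col).FG := Submodule.fg_span (Set.finite_range _)

theorem mk_C (a : A) : Ideal.Quotient.mk (L col) (C a) = algebraMap A (Sym col) a := rfl

theorem y_rel (i : Fin m) : y col i = ∑ j, algebraMap A (Sym col) (col i j) * y col j := by
  have h : ell col i ∈ L col := Ideal.subset_span (Set.mem_range_self i)
  have h2 : Ideal.Quotient.mk (L col) (ell col i) = 0 := Ideal.Quotient.eq_zero_iff_mem.mpr h
  unfold ell at h2
  rw [map_sub, sub_eq_zero, map_sum] at h2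
  show Ideal.Quotient.mk (L col) (X i) = _
  rw [h2]
  refine Finset.sum_congr rfl fun j _ => ?_
  rw [map_mul]
  rfl

/-- the augmentation `y ↦ 0` -/
noncomputable def retr : Sym col →ₐ[A] A :=
  Ideal.Quotient.liftₐ (L col) (MvPolynomial.aeval (fun _ : Fin m => (0 : A))) (by
    have hle : L col ≤ RingHom.ker (MvPolynomial.aeval (R := A) (fun _ : Fin m => (0 : A))).toRingHom := by
      unfold L
      rw [Ideal.span_le]
      rintro _ ⟨i, rfl⟩
      show MvPolynomial.aeval (fun _ : Fin m => (0 : A)) (ell col i) = 0
      unfold ell
      simp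
    intro a ha
    exact hle ha)

theorem induction_on {motive : Sym col → Prop}
    (hC : ∀ a : A, motive (algebraMap A (Sym col) a))
    (hadd : ∀ p q, motive p → motive q → motive (p + q))
    (hmul : ∀ p i, motive p → motive (p * y col i)) : ∀ x, motive x := by
  intro x
  obtain ⟨p, rfl⟩ := Ideal.Quotient.mk_surjective x
  induction p using MvPolynomial.induction_on with
  | C a => exact hC a
  | add p q hp hq => rw [map_add]; exact hadd _ _ hp hq
  | mul_X p i hp => rw [map_mul]; exact hmul _ i hp

instance finitePresentation : Algebra.FinitePresentation A (Sym col) :=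
  Algebra.FinitePresentation.quotient (L_fg col)

variable (hE : ∀ i k, ∑ j, col i j * col j k = col i k)

/-- the linear forms `Y_i = ∑_k col i k X_k` -/
noncomputable def Yf (i : Fin m) : MvPolynomial (Fin m) A := ∑ k, C (col i k) * X k

include hE in
theorem aeval_Yf_ell (i : Fin m) : MvPolynomial.aeval (Yf col) (ell col i) = 0 := by
  unfold ell
  rw [map_sub, aeval_X, map_sum, sub_eq_zero]
  simp only [map_mul, aeval_C, aeval_X, MvPolynomial.algebraMap_eq]
  unfold Yf
  simp only [Finset.mul_sum]
  rw [Finset.sum_comm]
  refine Finset.sum_congr rfl fun k _ => ?_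
  rw [← hE i k, map_sum, Finset.sum_mul]
  refine Finset.sum_congr rfl fun j _ => ?_
  rw [map_mul, mul_assoc]

/-- the section `Sym col → A[y]`, `y_i ↦ Y_i` -/
noncomputable def sec : Sym col →ₐ[A] MvPolynomial (Fin m) A :=
  Ideal.Quotient.liftₐ (L col) (MvPolynomial.aeval (Yf col)) (by
    have hle : L col ≤ RingHom.ker (MvPolynomial.aeval (R := A) (Yf col)).toRingHom := by
      unfold L
      rw [Ideal.span_le]
      rintro _ ⟨i, rfl⟩
      exact aeval_Yf_ell col hE i
    intro a ha
    exact hle ha)

theorem sec_comp : (Ideal.Quotient.mkₐ A (L col)).comp (sec col hE) = AlgHom.id A (Sym col) := by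
  apply Ideal.Quotient.algHom_ext
  apply MvPolynomial.algHom_ext
  intro i
  show Ideal.Quotient.mk (L col) (sec col hE (Ideal.Quotient.mk (L col) (X i))) =
    Ideal.Quotient.mk (L col) (X i)
  have h1 : sec col hE (Ideal.Quotient.mk (L col) (X i)) = Yf col i := by
    show MvPolynomial.aeval (Yf col) (X i) = _
    rw [aeval_X]
  rw [h1]
  apply Ideal.Quotient.eq.mpr
  have h2 : Yf col i - X i = - ell col i := by
    unfold Yf ell
    ring
  rw [h2]
  exact (L col).neg_mem (Ideal.subset_span (Set.mem_range_self i))

theorem sec_apply (x : Sym col) : Ideal.Quotient.mk (L col) (sec col hE x) = x :=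
  AlgHom.congr_fun (sec_comp col hE) x

include hE in
theorem formallySmooth : Algebra.FormallySmooth A (Sym col) := by
  let f : MvPolynomial (Fin m) A →ₐ[A] Sym col := Ideal.Quotient.mkₐ A (L col)
  let g : Sym col →ₐ[A] MvPolynomial (Fin m) A ⧸ RingHom.ker f.toRingHom ^ 2 :=
    (Ideal.Quotient.mkₐ A _).comp (sec col hE)
  refine Algebra.FormallySmooth.of_split f g ?_
  apply AlgHom.ext
  intro x
  show f.kerSquareLift (Ideal.Quotient.mk _ (sec col hE x)) = x
  rw [AlgHom.kerSquareLift_mk]
  exact sec_apply col hE x

include hE in
theorem smooth : Algebra.Smooth A (Sym col) :=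
  { formallySmooth := formallySmooth col hE
    finitePresentation := inferInstance }

include hE in
theorem projective : Module.Projective A (Sym col) :=
  Module.Projective.of_split (sec col hE).toLinearMap (Ideal.Quotient.mkₐ A (L col)).toLinearMap
    (LinearMap.ext fun x => sec_apply col hE x)

end

end Groth.Agent.Lib.Helper24.IdemSym
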