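import Mathlib
import Groth.Prelude
import Groth.Agent.Lib.Helper3.InvGen

/-!
# Closed points of a proper integral curve over a field are infinite in number;
a section generating somewhere is nonzero
-/

set_option autoImplicit false
set_option maxHeartbeats 400000
set_option linter.style.haveILetI false
set_option linter.unusedSectionVars false
set_option linter.unusedVariables false

universe u
open CategoryTheory CategoryTheory.Limits AlgebraicGeometry TopologicalSpace Opposite
open Groth.Agent.Lib.Helper3.InvGen Groth.Agent.Lib.Helper3.QCSec

namespace Groth.Agent.Lib.Helper24.InfClosedPts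

variable (k : Type u) [Field k] {X : Scheme.{u}} [X.Over (Spec (CommRingCat.of k))]
  [IsIntegral X] [IsProper (X ↘ Spec (CommRingCat.of k))]

include k in
/-- (R2) a proper integral scheme of dimension one over a field has infinitely many closed
points. -/
theorem infinite_closedPoints (hdim : topologicalKrullDim X = 1) :
    {x : X | IsClosed ({x} : Set X)}.Infinite := by
  intro hfin
  haveI : JacobsonSpace X :=
    LocallyOfFiniteType.jacobsonSpace (X ↘ Spec (CommRingCat.of k))
  have hd : DiscreteTopology X := JacobsonSpace.discreteTopology hfin
  have h0 := topologicalKrullDim_zero_of_discreteTopology X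
  rw [hdim] at h0
  exact absurd h0 (by decide)

include k in
/-- (R6b) a section which generates `L` at some point is nonzero. -/
theorem ne_zero_of_mem_genLocus {L : X.Modules} (s : Coh.structureModule X ⟶ L) (x : X)
    (hx : x ∈ CohB1.genLocus L s) : s ≠ 0 := by
  rintro rfl
  obtain ⟨W, hxW, hW⟩ := (mem_genLocus_iff _ x).mp hx
  have h1 : IsGenAt L W (sec (0 : Coh.structureModule X ⟶ L) W) := hW.self
  have h0 : sec (0 : Coh.structureModule X ⟶ L) W = 0 := rfl
  have h10 : (1 : Γ(X, W)) = 0 := by
    apply h1.1
    change (1 : Γ(X, W)) • sec (0 : Coh.structureModule X ⟶ L) W =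
      (0 : Γ(X, W)) • sec (0 : Coh.structureModule X ⟶ L) W
    rw [h0, smul_zero, smul_zero]
  have hW' : W = ⊥ := by
    rw [← X.basicOpen_of_isUnit (f := (1 : Γ(X, W))) isUnit_one, h10, Scheme.basicOpen_zero]
  rw [hW'] at hxW
  exact hxW

end Groth.Agent.Lib.Helper24.InfClosedPts
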