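import Mathlib

/-!
# Field-theoretic input for multiplicative laws on a finite field extension (helper24)

`K/k` finite, `K_s = separableClosure k K`, `Ω` an algebraically closed extension of `k`.

* `pow_gcd_mem`, `exists_exponent_eq`: the exponent of `K/K_s` is a power of the exponential
  characteristic.
* `restrict_injective`, `restrict_bijective`, `eq_of_apply_prim`, `card_emb`: embeddings of `K`
  into `Ω` versus those of `K_s`.
* `coeff_one_prod`, `coeff_one_pow'`, `coeff_pow_expChar_pow`: coefficient extraction.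
* `mem_of_sum`, `pow_mem_of_sum`: the trace-form argument: if `∑_τ τ(δ ^ q ^ c) ∈ k` for all `δ`,
  then `K ^ (q ^ c) ⊆ K_s`.
-/

set_option autoImplicit false
set_option maxHeartbeats 400000
set_option linter.style.haveILetI false
set_option linter.unusedSectionVars false

namespace Groth.Agent.Lib.Helper24.InsepA

open Polynomial IntermediateField

universe u

section gcd

variable {k K : Type*} [Field k] [Field K] [Algebra k K]

lemma pow_gcd_mem (L : IntermediateField k K) {x : K} {a b : ℕ} (ha : x ^ a ∈ L)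
    (hb : x ^ b ∈ L) : x ^ Nat.gcd a b ∈ L := by
  rcases eq_or_ne x 0 with rfl | hx
  · rcases Nat.eq_zero_or_pos (Nat.gcd a b) with h | h
    · rw [h, pow_zero]; exact one_mem L
    · rw [zero_pow h.ne']; exact zero_mem L
  · have h1 : x ^ Nat.gcd a b = (x ^ a) ^ (Nat.gcdA a b) * (x ^ b) ^ (Nat.gcdB a b) := by
      rw [← zpow_natCast x (Nat.gcd a b), Nat.gcd_eq_gcd_ab, zpow_add₀ hx, zpow_mul, zpow_mul,
        zpow_natCast, zpow_natCast]
    rw [h1]
    exact mul_mem (zpow_mem ha _) (zpow_mem hb _)

end gcd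

section coeff

variable {R : Type*} [CommSemiring R]

lemma coeff_zero_prod {ι : Type*} (s : Finset ι) (a : ι → R) :
    (∏ i ∈ s, (1 + C (a i) * X)).coeff 0 = 1 := by
  rw [Polynomial.coeff_zero_eq_eval_zero, Polynomial.eval_prod]
  simp

lemma coeff_one_prod {ι : Type*} (s : Finset ι) (a : ι → R) :
    (∏ i ∈ s, (1 + C (a i) * X)).coeff 1 = ∑ i ∈ s, a i := by
  classical
  induction s using Finset.induction_on with
  | empty => simp [Polynomial.coeff_one]
  | insert j s hj ih =>
    have h0 : (1 + C (a j) * X : R[X]).coeff 0 = 1 := by simp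
    have h1 : (1 + C (a j) * X : R[X]).coeff 1 = a j := by simp [Polynomial.coeff_one]
    rw [Finset.prod_insert hj, Finset.sum_insert hj, Polynomial.mul_coeff_one, ih,
      coeff_zero_prod, h0, h1, one_mul, mul_one, add_comm]

lemma coeff_zero_pow' (G : R[X]) (h0 : G.coeff 0 = 1) (n : ℕ) : (G ^ n).coeff 0 = 1 := by
  rw [Polynomial.coeff_zero_eq_eval_zero, Polynomial.eval_pow,
    ← Polynomial.coeff_zero_eq_eval_zero, h0, one_pow]

lemma coeff_one_pow' (G : R[X]) (h0 : G.coeff 0 = 1) (n : ℕ) :
    (G ^ n).coeff 1 = n * G.coeff 1 := by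
  induction n with
  | zero => simp [Polynomial.coeff_one]
  | succ n ih =>
    rw [pow_succ, Polynomial.mul_coeff_one, ih, coeff_zero_pow' G h0, h0]
    push_cast
    ring

lemma coeff_pow_expChar_pow (q : ℕ) [ExpChar R q] (G : R[X]) (c : ℕ) :
    (G ^ q ^ c).coeff (q ^ c) = (G.coeff 1) ^ q ^ c := by
  have h := Polynomial.coeff_expand_mul (expChar_pow_pos R q c) G 1
  rw [one_mul] at h
  rw [← Polynomial.map_iterateFrobenius_expand q G c, Polynomial.coeff_map, h,
    iterateFrobenius_def]

end coeff

section expo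

variable {k : Type u} [Field k] {K : Type u} [Field K] [Algebra k K] [FiniteDimensional k K]

theorem exists_exponent_eq (q : ℕ) [hq : ExpChar k q] (e : ℕ) (he : 0 < e)
    (hexp : ∀ x : K, x ^ e ∈ separableClosure k K)
    (hmin : ∀ n : ℕ, 0 < n → (∀ x : K, x ^ n ∈ separableClosure k K) → e ≤ n) :
    ∃ a : ℕ, e = q ^ a := by
  obtain _ | @⟨_, hprime, hchar⟩ := hq
  · refine ⟨0, ?_⟩
    have htop : separableClosure k K = ⊤ :=
      (separableClosure.eq_top_iff k K).mpr inferInstance
    have h1 := hmin 1 one_pos (fun x => by rw [htop]; exact IntermediateField.mem_top)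
    rw [pow_zero]
    omega
  · obtain ⟨a, e', he', hee⟩ := Nat.exists_eq_pow_mul_and_not_dvd he.ne' q hprime.ne_one
    refine ⟨a, ?_⟩
    haveI : ExpChar k q := ExpChar.prime hprime
    haveI : ExpChar (separableClosure k K) q :=
      expChar_of_injective_algebraMap (algebraMap k (separableClosure k K)).injective q
    have hK : ∀ x : K, x ^ (q ^ a) ∈ separableClosure k K := by
      intro x
      obtain ⟨N, y, hy⟩ := IsPurelyInseparable.pow_mem (separableClosure k K) q x
      have hN' : x ^ q ^ N ∈ separableClosure k K := by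
        rw [← hy]; exact y.2
      have hg := pow_gcd_mem (separableClosure k K) (hexp x) hN'
      have hdvd : Nat.gcd e (q ^ N) ∣ q ^ a := by
        have h1 : Nat.gcd e (q ^ N) ∣ q ^ N := Nat.gcd_dvd_right _ _
        obtain ⟨j, -, hjeq⟩ := (Nat.dvd_prime_pow hprime).mp h1
        have h2 : q ^ j ∣ q ^ a * e' := by
          rw [← hjeq, ← hee]; exact Nat.gcd_dvd_left _ _
        have hcop : Nat.Coprime (q ^ j) e' :=
          Nat.Coprime.pow_left _ ((Nat.Prime.coprime_iff_not_dvd hprime).mpr he')
        rw [hjeq]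
        exact hcop.dvd_of_dvd_mul_right h2
      obtain ⟨c, hc⟩ := hdvd
      rw [hc, pow_mul]
      exact pow_mem hg c
    have h1 := hmin (q ^ a) (pow_pos hprime.pos a) hK
    have hpos : 0 < q ^ a := pow_pos hprime.pos a
    have he'pos : 0 < e' := by
      rcases Nat.eq_zero_or_pos e' with h | h
      · rw [h, mul_zero] at hee; omega
      · exact h
    rw [hee] at h1 ⊢
    have : e' = 1 := by
      by_contra hne
      have h2 : 2 ≤ e' := by omega
      nlinarith
    rw [this, mul_one]

end expo

section emb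

variable {k : Type u} [Field k] {K : Type u} [Field K] [Algebra k K] [FiniteDimensional k K]
variable (Ω : Type u) [Field Ω] [Algebra k Ω] [IsAlgClosed Ω]

lemma restrict_injective :
    Function.Injective (fun τ : K →ₐ[k] Ω => τ.comp (separableClosure k K).val) := by
  intro τ τ' h
  have h1 := IsPurelyInseparable.injective_comp_algebraMap (separableClosure k K) K Ω
  have h2 : (τ : K →+* Ω) = (τ' : K →+* Ω) := by
    apply h1
    show (τ : K →+* Ω).comp (algebraMap (separableClosure k K) K) =
      (τ' : K →+* Ω).comp (algebraMap (separableClosure k K) K)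
    ext y
    exact DFunLike.congr_fun h y
  exact AlgHom.coe_ringHom_injective h2

lemma nonempty_emb : Nonempty (K →ₐ[k] Ω) := ⟨IsAlgClosed.lift⟩

lemma eq_of_apply_prim {x₀ : separableClosure k K} (hx₀ : k⟮x₀⟯ = ⊤) (τ τ' : K →ₐ[k] Ω)
    (h : τ (x₀ : K) = τ' (x₀ : K)) : τ = τ' := by
  apply restrict_injective Ω
  show τ.comp (separableClosure k K).val = τ'.comp (separableClosure k K).val
  exact (Field.primitive_element_iff_algHom_eq_of_eval k Ω (fun x => IsAlgClosed.splits _) x₀
    (τ.comp (separableClosure k K).val)).mp hx₀ _ h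

lemma card_emb : Fintype.card (K →ₐ[k] Ω) = Field.finSepDegree k K := by
  rw [Field.finSepDegree_eq_of_isAlgClosed k K Ω, Nat.card_eq_fintype_card]

lemma restrict_bijective :
    Function.Bijective (fun τ : K →ₐ[k] Ω => τ.comp (separableClosure k K).val) := by
  rw [Fintype.bijective_iff_injective_and_card]
  refine ⟨restrict_injective Ω, ?_⟩
  rw [card_emb, AlgHom.card k (separableClosure k K) Ω]
  exact Field.finSepDegree_eq k K

/-- `β ↦ ∑_τ τ(y β)` on `K_s`. -/
noncomputable def ell (y : K) : separableClosure k K →ₗ[k] Ω :=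
  ∑ τ : K →ₐ[k] Ω,
    τ.toLinearMap.comp ((LinearMap.mulLeft k y).comp (separableClosure k K).val.toLinearMap)

lemma ell_apply (y : K) (β : separableClosure k K) :
    ell Ω y β = ∑ τ : K →ₐ[k] Ω, τ (y * β) := by
  unfold ell
  rw [LinearMap.sum_apply]
  rfl

theorem mem_of_sum (y : K)
    (h : ∀ β : separableClosure k K, ∃ c : k,
      ∑ τ : K →ₐ[k] Ω, τ (y * β) = algebraMap k Ω c) :
    y ∈ separableClosure k K := by
  classical
  obtain ⟨ρ, hρ⟩ := LinearMap.exists_leftInverse_of_injective (Algebra.linearMap k Ω)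
    (LinearMap.ker_eq_bot.mpr (algebraMap k Ω).injective)
  obtain ⟨φ, hφ⟩ : ∃ φ : separableClosure k K →ₗ[k] k, φ = ρ.comp (ell Ω y) := ⟨_, rfl⟩
  have hφ' : ∀ β, algebraMap k Ω (φ β) = ∑ τ : K →ₐ[k] Ω, τ (y * β) := by
    intro β
    obtain ⟨c, hc⟩ := h β
    rw [hφ, LinearMap.comp_apply, ell_apply, hc]
    have h1 := LinearMap.congr_fun hρ c
    rw [LinearMap.comp_apply, LinearMap.id_apply, Algebra.linearMap_apply] at h1
    rw [h1]
  obtain ⟨y', hy'⟩ : ∃ y' : separableClosure k K,
      ∀ β, Algebra.trace k (separableClosure k K) (y' * β) = φ β := by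
    refine ⟨((Algebra.traceForm k (separableClosure k K)).toDual
      (traceForm_nondegenerate k _)).symm φ, fun β => ?_⟩
    have h1 := LinearMap.BilinForm.apply_toDual_symm_apply
      (B := Algebra.traceForm k (separableClosure k K))
      (hB := traceForm_nondegenerate k _) φ β
    rw [Algebra.traceForm_apply] at h1
    exact h1
  have hsum : ∀ β : separableClosure k K,
      ∑ τ : K →ₐ[k] Ω, (τ (y' : K) - τ y) * τ (β : K) = 0 := by
    intro β
    have h1 := trace_eq_sum_embeddings (K := k) (L := separableClosure k K) Ω (x := y' * β)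
    rw [hy', hφ'] at h1
    have h2 : ∑ τ : K →ₐ[k] Ω, τ ((y' : K) * β) =
        ∑ σ : separableClosure k K →ₐ[k] Ω, σ (y' * β) :=
      Fintype.sum_bijective _ (restrict_bijective Ω) _ _ (fun τ => rfl)
    rw [← h2] at h1
    simp only [sub_mul, Finset.sum_sub_distrib, ← map_mul]
    rw [← h1, sub_self]
  obtain ⟨mh, hmh⟩ : ∃ mh : (K →ₐ[k] Ω) → (separableClosure k K →* Ω),
      ∀ τ β, mh τ β = τ (β : K) :=
    ⟨fun τ => MonoidHomClass.toMonoidHom (τ.comp (separableClosure k K).val), fun τ β => rfl⟩
  have hmh_inj : Function.Injective mh := by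
    intro τ τ' hττ
    apply restrict_injective Ω
    apply AlgHom.ext
    intro β
    have h1 := DFunLike.congr_fun hττ β
    rw [hmh, hmh] at h1
    exact h1
  have hli := (linearIndependent_monoidHom (separableClosure k K) Ω).comp mh hmh_inj
  have hzero := Fintype.linearIndependent_iff.mp hli (fun τ => τ (y' : K) - τ y) (by
    funext β
    rw [Finset.sum_apply]
    exact (Finset.sum_congr rfl fun τ _ => by
      show (τ (y' : K) - τ y) * mh τ β = (τ (y' : K) - τ y) * τ (β : K)
      rw [hmh]).trans (hsum β))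
  obtain ⟨τ₀⟩ := nonempty_emb (k := k) (K := K) Ω
  have h0 := hzero τ₀
  have h1 : (y' : K) = y := (τ₀ : K →+* Ω).injective (sub_eq_zero.mp h0)
  rw [← h1]
  exact y'.2

theorem pow_mem_of_sum (q : ℕ) [ExpChar k q] (c : ℕ)
    (h : ∀ δ : K, ∃ a : k, ∑ τ : K →ₐ[k] Ω, τ (δ ^ q ^ c) = algebraMap k Ω a) (γ : K) :
    γ ^ q ^ c ∈ separableClosure k K := by
  apply mem_of_sum Ω
  intro β
  have hW : (⊤ : Submodule k (separableClosure k K)) ≤
      Submodule.comap (ell Ω (γ ^ q ^ c)) (LinearMap.range (Algebra.linearMap k Ω)) := by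
    have hspan := Field.span_map_pow_expChar_pow_eq_top_of_isSeparable (F := k)
      (E := separableClosure k K) q c (v := id) (by rw [Set.range_id, Submodule.span_univ])
    rw [← hspan, Submodule.span_le]
    rintro _ ⟨β', rfl⟩
    rw [SetLike.mem_coe, Submodule.mem_comap, LinearMap.mem_range]
    obtain ⟨a, ha⟩ := h (γ * β')
    refine ⟨a, ?_⟩
    rw [Algebra.linearMap_apply, ← ha, ell_apply]
    refine Finset.sum_congr rfl fun τ _ => ?_
    show τ ((γ * (β' : K)) ^ q ^ c) =
      τ (γ ^ q ^ c * ((β' ^ q ^ c : separableClosure k K) : K))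
    rw [SubmonoidClass.coe_pow, mul_pow]
  have h1 := hW (Submodule.mem_top (x := β))
  rw [Submodule.mem_comap, LinearMap.mem_range] at h1
  obtain ⟨a, ha⟩ := h1
  refine ⟨a, ?_⟩
  rw [← ell_apply, ← ha, Algebra.linearMap_apply]

end emb

end Groth.Agent.Lib.Helper24.InsepA
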