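import Mathlib
import Groth.Prelude.Def_PolLaw2
import Groth.Agent.Lib.Helper20.PolLawKer
import Groth.Agent.Lib.Helper24.KerField
import Groth.Agent.Lib.Helper24.InsepA

/-!
# Structure of multiplicative laws `K → k` on a finite field extension (helper24)

A multiplicative law `F : K → k` of degree `d` becomes, over an algebraically closed field `Ω`,
the `m`-th power of the product of all embeddings `K → Ω`, with `d = m · [K:k]_s`; the exponent of
`K / K_s` divides `m`; and `F` is unique.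
-/

set_option autoImplicit false
set_option maxHeartbeats 400000
set_option linter.style.haveILetI false
set_option linter.unusedSectionVars false

namespace Groth.Agent.Lib.Helper24.InsepB

open scoped TensorProduct
open Polynomial IntermediateField
open Groth.Agent.Lib.Helper24.InsepA

universe u

section pts

variable {k : Type u} [Field k] {B : Type u} [CommRing B] [Algebra k B] {d : ℕ}

/-- `g` are the points of `F` in `Ω`. -/
def IsPts (F : PolLaw.MulLaw k B k d) (Ω : Type u) [Field Ω] [Algebra k Ω]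
    (g : Fin d → (B →ₐ[k] Ω)) : Prop :=
  ∀ (S : Type u) [CommSemiring S] [Algebra k S] (x : S ⊗[k] B),
    (Algebra.ofId k Ω).toLinearMap.lTensor S (F.law.toFun' S x) =
      ∏ i, (g i).toLinearMap.lTensor S x

lemma IsPts.transfer {F : PolLaw.MulLaw k B k d} {Ω : Type u} [Field Ω] [Algebra k Ω]
    {g : Fin d → (B →ₐ[k] Ω)} (h : IsPts F Ω g)
    {Ω' : Type u} [Field Ω'] [Algebra k Ω'] (j : Ω →ₐ[k] Ω') :
    IsPts F Ω' (fun i => j.comp (g i)) := by
  intro S _ _ x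
  have hj : Algebra.ofId k Ω' = j.comp (Algebra.ofId k Ω) := by
    apply AlgHom.ext
    intro c
    rw [AlgHom.comp_apply, Algebra.ofId_apply, Algebra.ofId_apply, AlgHom.commutes]
  rw [hj, AlgHom.comp_toLinearMap, LinearMap.lTensor_comp_apply, h S x,
    PolLaw.lTensor_algHom_apply j S, map_prod]
  refine Finset.prod_congr rfl fun i _ => ?_
  rw [← PolLaw.lTensor_algHom_apply, AlgHom.comp_toLinearMap, LinearMap.lTensor_comp_apply]

lemma lTensor_ofId_injective (Ω : Type u) [Field Ω] [Algebra k Ω] (S : Type u) [CommSemiring S]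
    [Algebra k S] : Function.Injective ((Algebra.ofId k Ω).toLinearMap.lTensor S) := by
  obtain ⟨ρ, hρ⟩ := LinearMap.exists_leftInverse_of_injective (Algebra.ofId k Ω).toLinearMap
    (LinearMap.ker_eq_bot.mpr (algebraMap k Ω).injective)
  apply Function.LeftInverse.injective (g := ρ.lTensor S)
  intro u
  rw [← LinearMap.lTensor_comp_apply, hρ, LinearMap.lTensor_id_apply]

theorem exists_common_pts (F F' : PolLaw.MulLaw k B k d) :
    ∃ (Ω : Type u) (_ : Field Ω) (_ : Algebra k Ω) (_ : IsAlgClosed Ω)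
      (g g' : Fin d → (B →ₐ[k] Ω)), IsPts F Ω g ∧ IsPts F' Ω g' := by
  obtain ⟨K₁, _, _, g₁, hg₁⟩ := Groth.Agent.Lib.Helper24.KerField.exists_points F
  obtain ⟨K₂, _, _, g₂, hg₂⟩ := Groth.Agent.Lib.Helper24.KerField.exists_points F'
  haveI : Nontrivial (K₁ ⊗[k] K₂) :=
    Algebra.TensorProduct.nontrivial_of_algebraMap_injective_of_flat_left (R := k) K₁ K₂
      (algebraMap k K₂).injective
  obtain ⟨𝔪, h𝔪⟩ := Ideal.exists_maximal (K₁ ⊗[k] K₂)
  letI : Field ((K₁ ⊗[k] K₂) ⧸ 𝔪) := Ideal.Quotient.field 𝔪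
  obtain ⟨j₁, -⟩ : ∃ j₁ : K₁ →ₐ[k] AlgebraicClosure ((K₁ ⊗[k] K₂) ⧸ 𝔪), True :=
    ⟨(IsScalarTower.toAlgHom k ((K₁ ⊗[k] K₂) ⧸ 𝔪) _).comp
      ((Ideal.Quotient.mkₐ k 𝔪).comp
        (Algebra.TensorProduct.includeLeft : K₁ →ₐ[k] K₁ ⊗[k] K₂)), trivial⟩
  obtain ⟨j₂, -⟩ : ∃ j₂ : K₂ →ₐ[k] AlgebraicClosure ((K₁ ⊗[k] K₂) ⧸ 𝔪), True :=
    ⟨(IsScalarTower.toAlgHom k ((K₁ ⊗[k] K₂) ⧸ 𝔪) _).comp
      ((Ideal.Quotient.mkₐ k 𝔪).comp
        (Algebra.TensorProduct.includeRight : K₂ →ₐ[k] K₁ ⊗[k] K₂)), trivial⟩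
  exact ⟨AlgebraicClosure ((K₁ ⊗[k] K₂) ⧸ 𝔪), inferInstance, inferInstance, inferInstance,
    fun i => j₁.comp (g₁ i), fun i => j₂.comp (g₂ i),
    IsPts.transfer (F := F) (g := g₁) hg₁ j₁, IsPts.transfer (F := F') (g := g₂) hg₂ j₂⟩

theorem exists_closed_pts (F : PolLaw.MulLaw k B k d) :
    ∃ (Ω : Type u) (_ : Field Ω) (_ : Algebra k Ω) (_ : IsAlgClosed Ω)
      (g : Fin d → (B →ₐ[k] Ω)), IsPts F Ω g := by
  obtain ⟨Ω, i1, i2, i3, g, -, hg, -⟩ := exists_common_pts F F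
  exact ⟨Ω, i1, i2, i3, g, hg⟩

variable (Ω : Type u) [Field Ω] [Algebra k Ω]

/-- specialisation `k[X] ⊗ B → (Polynomial Ω)` along `τ`. -/
noncomputable def Φ (τ : B →ₐ[k] Ω) : k[X] ⊗[k] B →ₐ[k] (Polynomial Ω) :=
  Algebra.TensorProduct.productMap (Polynomial.mapAlgHom (Algebra.ofId k Ω))
    ((Polynomial.CAlgHom : Ω →ₐ[k] (Polynomial Ω)).comp τ)

lemma Φ_tmul (τ : B →ₐ[k] Ω) (p : k[X]) (b : B) :
    Φ Ω τ (p ⊗ₜ[k] b) = p.map (algebraMap k Ω) * C (τ b) := by
  unfold Φ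
  rw [Algebra.TensorProduct.productMap_apply_tmul]
  rfl

lemma Φ_lTensor (τ : B →ₐ[k] Ω) (y : k[X] ⊗[k] B) :
    Algebra.TensorProduct.productMap (Polynomial.mapAlgHom (Algebra.ofId k Ω))
      (Polynomial.CAlgHom : Ω →ₐ[k] (Polynomial Ω)) (τ.toLinearMap.lTensor k[X] y) = Φ Ω τ y := by
  induction y using TensorProduct.induction_on with
  | zero => simp
  | tmul p b =>
    rw [LinearMap.lTensor_tmul, Algebra.TensorProduct.productMap_apply_tmul, Φ_tmul]
    rfl
  | add y y' hy hy' => rw [map_add, map_add, map_add, hy, hy']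

theorem map_rid_eq {F : PolLaw.MulLaw k B k d} {g : Fin d → (B →ₐ[k] Ω)} (hg : IsPts F Ω g)
    (y : k[X] ⊗[k] B) :
    (TensorProduct.rid k k[X] (F.law.toFun' k[X] y)).map (algebraMap k Ω) =
      ∏ i, Φ Ω (g i) y := by
  have h := hg k[X] y
  obtain ⟨p, hp⟩ : ∃ p, p = TensorProduct.rid k k[X] (F.law.toFun' k[X] y) := ⟨_, rfl⟩
  have hu : F.law.toFun' k[X] y = p ⊗ₜ[k] (1 : k) := by
    apply (TensorProduct.rid k k[X]).injective
    rw [TensorProduct.rid_tmul, one_smul, hp]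
  rw [← hp]
  rw [hu, LinearMap.lTensor_tmul, AlgHom.toLinearMap_apply, map_one] at h
  have h2 := congrArg (Algebra.TensorProduct.productMap
    (Polynomial.mapAlgHom (Algebra.ofId k Ω)) (Polynomial.CAlgHom : Ω →ₐ[k] (Polynomial Ω))) h
  rw [map_prod, Algebra.TensorProduct.productMap_apply_tmul, map_one, mul_one,
    Finset.prod_congr rfl (fun i _ => Φ_lTensor Ω (g i) y)] at h2
  exact h2

end pts

section struct

variable {k : Type u} [Field k] {K : Type u} [Field K] [Algebra k K] [FiniteDimensional k K]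
  {d : ℕ}
variable (Ω : Type u) [Field Ω] [Algebra k Ω] [IsAlgClosed Ω]

open scoped Classical

theorem exists_mult (g : Fin d → (K →ₐ[k] Ω)) (p₀ : k[X]) (x₀ : separableClosure k K)
    (hx₀ : k⟮x₀⟯ = ⊤)
    (hp₀ : p₀.map (algebraMap k Ω) = ∏ i, (X - C (g i (x₀ : K)))) :
    ∃ m : ℕ, ∀ τ : K →ₐ[k] Ω, (Finset.univ.filter (fun i => g i = τ)).card = m := by
  classical
  obtain ⟨f, hf⟩ : ∃ f, f = minpoly k (x₀ : K) := ⟨_, rfl⟩
  have hint : IsIntegral k (x₀ : K) := IsIntegral.of_finite k _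
  have hprime : Prime f := by rw [hf]; exact minpoly.prime hint
  have hsep : f.Separable := by rw [hf]; exact mem_separableClosure_iff.mp x₀.2
  have hfm : f.Monic := by rw [hf]; exact minpoly.monic hint
  have hroot : ∀ τ : K →ₐ[k] Ω, (f.map (algebraMap k Ω)).IsRoot (τ (x₀ : K)) := by
    intro τ
    rw [Polynomial.IsRoot.def, Polynomial.eval_map_algebraMap, Polynomial.aeval_algHom_apply,
      hf, minpoly.aeval, map_zero]
  have hdvd : p₀ ∣ f ^ d := by
    rw [← Polynomial.map_dvd_map' (algebraMap k Ω), hp₀, Polynomial.map_pow]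
    calc ∏ i, (X - C (g i (x₀ : K))) ∣ ∏ _i : Fin d, f.map (algebraMap k Ω) :=
          Finset.prod_dvd_prod_of_dvd _ _
            (fun i _ => Polynomial.dvd_iff_isRoot.mpr (hroot (g i)))
      _ = (f.map (algebraMap k Ω)) ^ d := by
          rw [Finset.prod_const, Finset.card_univ, Fintype.card_fin]
  obtain ⟨m, -, hm⟩ := (dvd_prime_pow hprime d).mp hdvd
  have hp₀m : p₀.Monic := by
    have h1 : (p₀.map (algebraMap k Ω)).Monic := by
      rw [hp₀]
      exact Polynomial.monic_prod_of_monic _ _ (fun i _ => Polynomial.monic_X_sub_C _)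
    exact Polynomial.monic_of_injective (algebraMap k Ω).injective h1
  have hpeq : p₀ = f ^ m := Polynomial.eq_of_monic_of_associated hp₀m (hfm.pow m) hm
  have hroots : (Finset.univ.val.map (fun i => g i (x₀ : K))) =
      m • (f.map (algebraMap k Ω)).roots := by
    have h2 : (p₀.map (algebraMap k Ω)).roots = m • (f.map (algebraMap k Ω)).roots := by
      rw [hpeq, Polynomial.map_pow, Polynomial.roots_pow]
    rw [← h2, hp₀, Finset.prod_eq_multiset_prod]
    have h3 : Finset.univ.val.map (fun i => (X : (Polynomial Ω)) - C (g i (x₀ : K))) =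
        (Finset.univ.val.map (fun i => g i (x₀ : K))).map (fun a => X - C a) := by
      rw [Multiset.map_map]
      rfl
    rw [h3, Polynomial.roots_multiset_prod_X_sub_C]
  refine ⟨m, fun τ => ?_⟩
  have hmem : τ (x₀ : K) ∈ (f.map (algebraMap k Ω)).roots := by
    rw [Polynomial.mem_roots (Polynomial.map_ne_zero hfm.ne_zero)]
    exact hroot τ
  have hnodup : (f.map (algebraMap k Ω)).roots.Nodup := Polynomial.nodup_roots hsep.map
  have hcount := congrArg (Multiset.count (τ (x₀ : K))) hroots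
  rw [Multiset.count_nsmul, Multiset.count_eq_one_of_mem hnodup hmem, mul_one,
    Multiset.count_map] at hcount
  rw [← hcount]
  have hfe : (Finset.univ.filter (fun i => g i = τ)) =
      Finset.univ.filter (fun i => τ (x₀ : K) = g i (x₀ : K)) := by
    apply Finset.filter_congr
    intro i _
    constructor
    · intro h; rw [h]
    · intro h; exact eq_of_apply_prim Ω hx₀ _ _ h.symm
  rw [hfe]
  rfl

theorem card_eq (g : Fin d → (K →ₐ[k] Ω)) (m : ℕ)
    (hm : ∀ τ : K →ₐ[k] Ω, (Finset.univ.filter (fun i => g i = τ)).card = m) :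
    d = m * Field.finSepDegree k K := by
  classical
  have h1 := Finset.card_eq_sum_card_fiberwise (s := (Finset.univ : Finset (Fin d)))
    (t := (Finset.univ : Finset (K →ₐ[k] Ω))) (f := g) (fun _ _ => Finset.mem_coe.mpr (Finset.mem_univ _))
  rw [Finset.card_univ, Fintype.card_fin] at h1
  rw [h1, Finset.sum_congr rfl (fun τ _ => hm τ), Finset.sum_const, Finset.card_univ,
    smul_eq_mul, mul_comm, card_emb Ω]

theorem prod_eq_pow (g : Fin d → (K →ₐ[k] Ω)) (m : ℕ)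
    (hm : ∀ τ : K →ₐ[k] Ω, (Finset.univ.filter (fun i => g i = τ)).card = m)
    {M : Type*} [CommMonoid M] (φ : (K →ₐ[k] Ω) → M) :
    ∏ i, φ (g i) = (∏ τ, φ τ) ^ m := by
  classical
  rw [← Finset.prod_fiberwise Finset.univ g (fun i => φ (g i)), ← Finset.prod_pow]
  refine Finset.prod_congr rfl fun τ _ => ?_
  rw [Finset.prod_congr rfl (fun i hi => by rw [(Finset.mem_filter.mp hi).2] :
    ∀ i ∈ Finset.univ.filter (fun i => g i = τ), φ (g i) = φ τ), Finset.prod_const, hm τ]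

theorem struct_thm (F : PolLaw.MulLaw k K k d) (g : Fin d → (K →ₐ[k] Ω)) (hg : IsPts F Ω g) :
    ∃ m : ℕ, d = m * Field.finSepDegree k K ∧
      (∀ τ : K →ₐ[k] Ω, (Finset.univ.filter (fun i => g i = τ)).card = m) ∧
      ∀ (S : Type u) [CommSemiring S] [Algebra k S] (x : S ⊗[k] K),
        (Algebra.ofId k Ω).toLinearMap.lTensor S (F.law.toFun' S x) =
          (∏ τ : K →ₐ[k] Ω, τ.toLinearMap.lTensor S x) ^ m := by
  classical
  obtain ⟨x₀, hx₀⟩ := Field.exists_primitive_element k (separableClosure k K)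
  obtain ⟨y, hy⟩ : ∃ y : k[X] ⊗[k] K, y = X ⊗ₜ[k] (1 : K) - (1 : k[X]) ⊗ₜ[k] (x₀ : K) :=
    ⟨_, rfl⟩
  have h1 := map_rid_eq Ω hg y
  have hΦ : ∀ τ : K →ₐ[k] Ω, Φ Ω τ y = X - C (τ (x₀ : K)) := by
    intro τ
    rw [hy, map_sub, Φ_tmul, Φ_tmul, Polynomial.map_one, Polynomial.map_X, map_one, map_one,
      mul_one, one_mul]
  rw [Finset.prod_congr rfl (fun i _ => hΦ (g i))] at h1
  obtain ⟨m, hm⟩ := exists_mult Ω g _ x₀ hx₀ h1
  refine ⟨m, card_eq Ω g m hm, hm, ?_⟩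
  intro S _ _ x
  rw [hg S x]
  exact prod_eq_pow Ω g m hm (fun τ => τ.toLinearMap.lTensor S x)

theorem sum_pow_mem (F : PolLaw.MulLaw k K k d) (g : Fin d → (K →ₐ[k] Ω)) (hg : IsPts F Ω g)
    (m : ℕ) (hm : ∀ τ : K →ₐ[k] Ω, (Finset.univ.filter (fun i => g i = τ)).card = m)
    (q : ℕ) (hprime : q.Prime) [CharP k q] (c m' : ℕ) (hmm : m = q ^ c * m') (hm' : ¬ q ∣ m')
    (δ : K) :
    ∃ a : k, ∑ τ : K →ₐ[k] Ω, τ (δ ^ q ^ c) = algebraMap k Ω a := by
  classical
  haveI : ExpChar k q := ExpChar.prime hprime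
  haveI : ExpChar Ω q := expChar_of_injective_algebraMap (algebraMap k Ω).injective q
  haveI : CharP Ω q := charP_of_injective_algebraMap (algebraMap k Ω).injective q
  obtain ⟨y, hy⟩ : ∃ y : k[X] ⊗[k] K, y = (1 : k[X]) ⊗ₜ[k] (1 : K) + X ⊗ₜ[k] δ := ⟨_, rfl⟩
  obtain ⟨p, hp⟩ : ∃ p : k[X], p = TensorProduct.rid k k[X] (F.law.toFun' k[X] y) := ⟨_, rfl⟩
  have h1 := map_rid_eq Ω hg y
  rw [← hp] at h1
  have hΦ : ∀ τ : K →ₐ[k] Ω, Φ Ω τ y = 1 + C (τ δ) * X := by
    intro τ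
    rw [hy, map_add, Φ_tmul, Φ_tmul, Polynomial.map_one, Polynomial.map_X, map_one, map_one,
      mul_one, mul_comm]
  have h3 := prod_eq_pow Ω g m hm (fun τ => Φ Ω τ y)
  have hmm' : m = m' * q ^ c := by rw [hmm, mul_comm]
  rw [Finset.prod_congr rfl (fun τ _ => hΦ τ), hmm', pow_mul] at h3
  rw [h3] at h1
  have h2 := congrArg (fun P : (Polynomial Ω) => P.coeff (q ^ c)) h1
  beta_reduce at h2
  rw [Polynomial.coeff_map, coeff_pow_expChar_pow, coeff_one_pow' _ (coeff_zero_prod _ _),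
    coeff_one_prod, mul_pow, sum_pow_char_pow] at h2
  have hne : ((m' : ℕ) : Ω) ^ q ^ c ≠ 0 :=
    pow_ne_zero _ ((CharP.cast_eq_zero_iff Ω q m').not.mpr hm')
  refine ⟨p.coeff (q ^ c) / ((m' : ℕ) : k) ^ q ^ c, ?_⟩
  rw [map_div₀, map_pow, map_natCast, eq_div_iff hne, mul_comm, h2]
  congr 1
  refine Finset.sum_congr rfl fun τ _ => ?_
  rw [map_pow]

theorem exponent_dvd (F : PolLaw.MulLaw k K k d) (g : Fin d → (K →ₐ[k] Ω)) (hg : IsPts F Ω g)
    (m : ℕ) (hm : ∀ τ : K →ₐ[k] Ω, (Finset.univ.filter (fun i => g i = τ)).card = m)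
    (e : ℕ) (he : 0 < e) (hexp : ∀ x : K, x ^ e ∈ separableClosure k K)
    (hmin : ∀ n : ℕ, 0 < n → (∀ x : K, x ^ n ∈ separableClosure k K) → e ≤ n) : e ∣ m := by
  obtain ⟨q, hq⟩ : ∃ q, q = ringExpChar k := ⟨_, rfl⟩
  have hE : ExpChar k q := hq ▸ ringExpChar.expChar k
  obtain ⟨a, ha⟩ := exists_exponent_eq q e he hexp hmin
  rcases Nat.eq_zero_or_pos m with hm0 | hmpos
  · rw [hm0]; exact dvd_zero _
  obtain _ | @⟨_, hprime, hchar⟩ := hE
  · rw [ha, one_pow]; exact one_dvd _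
  · obtain ⟨c, m', hm', hmm⟩ := Nat.exists_eq_pow_mul_and_not_dvd hmpos.ne' q hprime.ne_one
    haveI : ExpChar k q := ExpChar.prime hprime
    have hK : ∀ γ : K, γ ^ q ^ c ∈ separableClosure k K :=
      pow_mem_of_sum Ω q c (fun δ => sum_pow_mem Ω F g hg m hm q hprime c m' hmm hm' δ)
    have h1 := hmin (q ^ c) (pow_pos hprime.pos c) hK
    rw [ha] at h1 ⊢
    have hac : a ≤ c := (Nat.pow_le_pow_iff_right hprime.one_lt).mp h1
    rw [hmm]
    exact Dvd.dvd.mul_right (pow_dvd_pow q hac) m'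

theorem unique (F F' : PolLaw.MulLaw k K k d) : F = F' := by
  obtain ⟨Ω, _, _, _, g, g', hg, hg'⟩ := exists_common_pts F F'
  obtain ⟨m, hd, -, hF⟩ := struct_thm Ω F g hg
  obtain ⟨m', hd', -, hF'⟩ := struct_thm Ω F' g' hg'
  have hpos : 0 < Field.finSepDegree k K := by
    rw [← card_emb Ω]
    exact Fintype.card_pos_iff.mpr (nonempty_emb Ω)
  have hmm : m = m' := Nat.eq_of_mul_eq_mul_right hpos (hd.symm.trans hd')
  apply PolLaw.MulLaw.ext
  apply PolynomialLaw.ext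
  funext S _ _ x
  apply lTensor_ofId_injective Ω S
  rw [hF, hF', hmm]

theorem dvd_of_exists (F : PolLaw.MulLaw k K k d)
    (e : ℕ) (he : 0 < e) (hexp : ∀ x : K, x ^ e ∈ separableClosure k K)
    (hmin : ∀ n : ℕ, 0 < n → (∀ x : K, x ^ n ∈ separableClosure k K) → e ≤ n) :
    Field.finSepDegree k K * e ∣ d := by
  obtain ⟨Ω, _, _, _, g, hg⟩ := exists_closed_pts F
  obtain ⟨m, hd, hm, -⟩ := struct_thm Ω F g hg
  obtain ⟨m₁, hm₁⟩ := exponent_dvd Ω F g hg m hm e he hexp hmin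
  rw [hd, hm₁]
  exact ⟨m₁, by ring⟩

end struct

end Groth.Agent.Lib.Helper24.InsepB
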