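import Mathlib
import Groth.Prelude.Def_PolLaw2
import Groth.Agent.Lib.Helper20.PolLawKer
import Groth.Agent.Lib.Helper20.PolyLaw
import Groth.Agent.Lib.Helper24.LawFam

/-!
# The law `x ↦ N(x ^ (q ^ a)) ^ m₁` on a field extension (helper24)

`L ⊆ K` an intermediate field with `K ^ (q ^ a) ⊆ L` (`q` the exponential characteristic), and
`N : L → k` a multiplicative law of degree `ds`. Then `x ↦ N(x ^ (q ^ a)) ^ m₁` is a multiplicative
law `K → k` of degree `ds * q ^ a * m₁`.  Also the conversion of a law satisfying the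
ring-test-algebra form of the axioms into a `PolLaw.MulLaw`.
-/

set_option autoImplicit false
set_option maxHeartbeats 400000
set_option linter.style.haveILetI false
set_option linter.unusedSectionVars false

namespace Groth.Agent.Lib.Helper24.InsepC

open scoped TensorProduct
open Groth.Agent.Lib.Helper20.PolLawKer Groth.Agent.Lib.Helper24.LawFam

universe u

section conv

variable {A : Type u} [CommRing A] {B : Type u} [CommRing B] [Algebra A B] {d : ℕ}

/-- a law satisfying the axioms over ring test algebras is a `MulLaw`. -/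
noncomputable def ofRing (F : B →ₚₗ[A] A)
    (h1 : ∀ (S : Type u) [CommRing S] [Algebra A S], F.toFun' S 1 = 1 ∧
        ∀ x y : S ⊗[A] B, F.toFun' S (x * y) = F.toFun' S x * F.toFun' S y)
    (h2 : ∀ (S : Type u) [CommRing S] [Algebra A S] (a : S) (z : S ⊗[A] B),
        F.toFun' S (a • z) = a ^ d • F.toFun' S z) : PolLaw.MulLaw A B A d where
  law := F
  homog S _ _ s x := by
    letI := Groth.Agent.Lib.Helper20.PolyLaw.toCommRing A S
    exact h2 S s x
  mult S _ _ := by
    letI := Groth.Agent.Lib.Helper20.PolyLaw.toCommRing A S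
    exact h1 S

lemma ofRing_law (F : B →ₚₗ[A] A) (h1) (h2) : (ofRing (d := d) F h1 h2).law = F := rfl

end conv

section

variable {k : Type u} [Field k] {K : Type u} [Field K] [Algebra k K]

lemma add_pow_q {R : Type*} [CommRing R] [Algebra k R] (q a : ℕ) [ExpChar k q] (x y : R) :
    (x + y) ^ q ^ a = x ^ q ^ a + y ^ q ^ a := by
  rcases subsingleton_or_nontrivial R with h | h
  · exact Subsingleton.elim _ _
  · haveI := expChar_of_injective_algebraMap (algebraMap k R).injective q
    exact add_pow_expChar_pow x y q a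

lemma ridA_map {S S' : Type u} [CommRing S] [Algebra k S] [CommRing S'] [Algebra k S']
    (φ : S →ₐ[k] S') (u : S ⊗[k] k) :
    Algebra.TensorProduct.rid k S' S' (Algebra.TensorProduct.map φ (AlgHom.id k k) u) =
      φ (Algebra.TensorProduct.rid k S S u) := by
  induction u using TensorProduct.induction_on with
  | zero => simp
  | tmul s c =>
    rw [Algebra.TensorProduct.map_tmul, Algebra.TensorProduct.rid_tmul,
      Algebra.TensorProduct.rid_tmul, AlgHom.id_apply, map_smul]
  | add x y hx hy => rw [map_add, map_add, map_add, map_add, hx, hy]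

variable (L : IntermediateField k K)

/-- the inclusion `S ⊗ L → S ⊗ K`. -/
noncomputable abbrev incl (S : Type u) [CommRing S] [Algebra k S] : S ⊗[k] L →ₐ[S] S ⊗[k] K :=
  Algebra.TensorProduct.map (AlgHom.id S S) L.val

lemma incl_injective (S : Type u) [CommRing S] [Algebra k S] :
    Function.Injective (incl L S) := by
  have h := Module.Flat.lTensor_preserves_injective_linearMap (M := S) L.val.toLinearMap
    Subtype.val_injective
  intro y y' hyy
  apply h
  rw [PolLaw.lTensor_algHom_apply, PolLaw.lTensor_algHom_apply]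
  exact hyy

lemma incl_map {S S' : Type u} [CommRing S] [Algebra k S] [CommRing S'] [Algebra k S']
    (φ : S →ₐ[k] S') (y : S ⊗[k] L) :
    incl L S' (Algebra.TensorProduct.map φ (AlgHom.id k L) y) =
      Algebra.TensorProduct.map φ (AlgHom.id k K) (incl L S y) := by
  induction y using TensorProduct.induction_on with
  | zero => simp
  | tmul s b => rfl
  | add y y' hy hy' => rw [map_add, map_add, map_add, map_add, hy, hy']

variable (q a : ℕ) [ExpChar k q] (hexp : ∀ x : K, x ^ q ^ a ∈ L)

include hexp in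
lemma exists_pw (S : Type u) [CommRing S] [Algebra k S] (x : S ⊗[k] K) :
    ∃ y : S ⊗[k] L, incl L S y = x ^ q ^ a := by
  induction x using TensorProduct.induction_on with
  | zero => exact ⟨0, by rw [map_zero, zero_pow (expChar_pow_pos k q a).ne']⟩
  | tmul s b =>
    refine ⟨(s ^ q ^ a) ⊗ₜ[k] ⟨b ^ q ^ a, hexp b⟩, ?_⟩
    rw [Algebra.TensorProduct.map_tmul, Algebra.TensorProduct.tmul_pow]
    rfl
  | add x x' hx hx' =>
    obtain ⟨y, hy⟩ := hx
    obtain ⟨y', hy'⟩ := hx'
    exact ⟨y + y', by rw [map_add, hy, hy', add_pow_q (k := k)]⟩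

/-- `x ↦ x ^ (q ^ a)` with values in `S ⊗ L`. -/
noncomputable def pw (S : Type u) [CommRing S] [Algebra k S] (x : S ⊗[k] K) : S ⊗[k] L :=
  Classical.choose (exists_pw L q a hexp S x)

lemma incl_pw (S : Type u) [CommRing S] [Algebra k S] (x : S ⊗[k] K) :
    incl L S (pw L q a hexp S x) = x ^ q ^ a :=
  Classical.choose_spec (exists_pw L q a hexp S x)

lemma pw_one (S : Type u) [CommRing S] [Algebra k S] : pw L q a hexp S 1 = 1 := by
  apply incl_injective L S
  rw [incl_pw, one_pow]
  exact (map_one (Algebra.TensorProduct.map (AlgHom.id S S) L.val)).symm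

lemma pw_mul (S : Type u) [CommRing S] [Algebra k S] (x y : S ⊗[k] K) :
    pw L q a hexp S (x * y) = pw L q a hexp S x * pw L q a hexp S y := by
  apply incl_injective L S
  rw [incl_pw, map_mul, incl_pw, incl_pw, mul_pow]

lemma pw_tmul_one (S : Type u) [CommRing S] [Algebra k S] (t : S) :
    pw L q a hexp S (t ⊗ₜ[k] (1 : K)) = (t ^ q ^ a) ⊗ₜ[k] (1 : L) := by
  apply incl_injective L S
  rw [incl_pw, Algebra.TensorProduct.map_tmul, Algebra.TensorProduct.tmul_pow, one_pow, map_one]
  rfl

lemma pw_map {S S' : Type u} [CommRing S] [Algebra k S] [CommRing S'] [Algebra k S']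
    (φ : S →ₐ[k] S') (x : S ⊗[k] K) :
    pw L q a hexp S' (Algebra.TensorProduct.map φ (AlgHom.id k K) x) =
      Algebra.TensorProduct.map φ (AlgHom.id k L) (pw L q a hexp S x) := by
  apply incl_injective L S'
  rw [incl_pw, incl_map, incl_pw, map_pow]

variable {ds : ℕ} (N : PolLaw.MulLaw k L k ds) (m₁ : ℕ)

/-- the family `x ↦ N(x ^ (q ^ a)) ^ m₁` on polynomial rings. -/
noncomputable def cfam (n : ℕ) (x : MvPolynomial (Fin n) k ⊗[k] K) : MvPolynomial (Fin n) k :=
  (Algebra.TensorProduct.rid k (MvPolynomial (Fin n) k) (MvPolynomial (Fin n) k)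
    (N.law.toFun' (MvPolynomial (Fin n) k) (pw L q a hexp (MvPolynomial (Fin n) k) x))) ^ m₁

lemma cfam_isNat : IsNat (cfam L q a hexp N m₁) := by
  intro n m φ x
  unfold cfam
  rw [pw_map, map_pow]
  congr 1
  have hc := PolynomialLaw.isCompat_apply' (f := N.law) φ
    (pw L q a hexp (MvPolynomial (Fin n) k) x)
  rw [rTensor_eq_map, rTensor_eq_map] at hc
  rw [← hc, ridA_map]

lemma cfam_one (n : ℕ) : cfam L q a hexp N m₁ n 1 = 1 := by
  unfold cfam
  rw [pw_one, (N.mult _).1, map_one, one_pow]

lemma cfam_mul (n : ℕ) (x y : MvPolynomial (Fin n) k ⊗[k] K) :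
    cfam L q a hexp N m₁ n (x * y) = cfam L q a hexp N m₁ n x * cfam L q a hexp N m₁ n y := by
  unfold cfam
  rw [pw_mul, (N.mult _).2, map_mul, mul_pow]

lemma cfam_tmul (n : ℕ) (t : MvPolynomial (Fin n) k) :
    cfam L q a hexp N m₁ n (t ⊗ₜ[k] (1 : K)) = t ^ (ds * q ^ a * m₁) := by
  unfold cfam
  have h1 : (t ^ q ^ a) ⊗ₜ[k] (1 : L) =
      (t ^ q ^ a) • (1 : MvPolynomial (Fin n) k ⊗[k] L) := by
    rw [Algebra.TensorProduct.one_def, TensorProduct.smul_tmul', smul_eq_mul, mul_one]
  rw [pw_tmul_one, h1, N.homog, (N.mult _).1, map_smul, map_one, smul_eq_mul, mul_one,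
    ← pow_mul, ← pow_mul]
  congr 1
  ring

/-- the law `x ↦ N(x ^ (q ^ a)) ^ m₁`. -/
noncomputable def theLaw : PolLaw.MulLaw k K k (ds * q ^ a * m₁) :=
  LawFam.mulLaw (c := cfam L q a hexp N m₁) (cfam_isNat L q a hexp N m₁)
    (cfam_one L q a hexp N m₁) (cfam_mul L q a hexp N m₁) (cfam_tmul L q a hexp N m₁)

end

end Groth.Agent.Lib.Helper24.InsepC
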