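import Groth.Agent.Lib.Helper24.NilPairA

/-!
# IntPair (helper24), part A

Index category of presented finite, finitely presented chains `A → QB → QC` over a chain
`A → B → C` of algebras, its diagrams in `Under A`, and the transport lemma `exists_obj`.
-/

set_option autoImplicit false
set_option maxHeartbeats 400000
set_option linter.style.haveILetI false
set_option linter.unusedSectionVars false
set_option linter.unusedVariables false

universe u
open CategoryTheory Limits TensorProduct

namespace Groth.Agent.Lib.Helper24.IntPair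

noncomputable section

/-! ## nilpotent ideals -/

section Nil
variable {X Y : Type u} [CommRing X] [CommRing Y]

theorem nil_of_le {I J : Ideal X} (h : I ≤ J) (hJ : IsNilpotent J) : IsNilpotent I := by
  obtain ⟨n, hn⟩ := hJ
  refine ⟨n, ?_⟩
  have h1 : I ^ n ≤ J ^ n := Ideal.pow_right_mono h n
  rw [hn, Ideal.zero_eq_bot] at h1
  rw [Ideal.zero_eq_bot]
  exact le_bot_iff.1 h1

theorem nil_map {F : Type*} [FunLike F X Y] [RingHomClass F X Y] (f : F) {I : Ideal X}
    (hI : IsNilpotent I) : IsNilpotent (I.map f) := by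
  obtain ⟨n, hn⟩ := hI
  refine ⟨n, ?_⟩
  rw [← Ideal.map_pow, hn, Ideal.zero_eq_bot, Ideal.map_bot]
  rfl

theorem nil_sup {I J : Ideal X} (hI : IsNilpotent I) (hJ : IsNilpotent J) :
    IsNilpotent (I ⊔ J) := by
  have h := Commute.isNilpotent_add (Commute.all I J) hI hJ
  rwa [Ideal.add_eq_sup] at h

theorem nil_span {S : Set X} (hS : S.Finite) (h : ∀ x ∈ S, IsNilpotent x) :
    IsNilpotent (Ideal.span S) := by
  have hfg : (Ideal.span S).FG := Submodule.fg_span hS
  rw [Ideal.FG.isNilpotent_iff_le_nilradical hfg, Ideal.span_le]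
  intro x hx
  exact mem_nilradical.2 (h x hx)

theorem pow_eq_zero_of_mem {I : Ideal X} {n : ℕ} (hn : I ^ n = 0) {x : X} (hx : x ∈ I) :
    x ^ n = 0 := by
  have h := Ideal.pow_mem_pow hx n
  rw [hn, Ideal.zero_eq_bot, Ideal.mem_bot] at h
  exact h

theorem nil_ker_of_injective (l : X →+* Y) (h : Function.Injective l) :
    IsNilpotent (RingHom.ker l) := by
  rw [(RingHom.injective_iff_ker_eq_bot l).1 h]
  exact ⟨1, by rw [pow_one, Ideal.zero_eq_bot]⟩

/-- conditional "surjective (with nilpotent kernel)". -/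
def E (hs hn : Prop) (l : X →+* Y) : Prop :=
  (hs → Function.Surjective l) ∧ (hs → hn → IsNilpotent (RingHom.ker l))

theorem E_iso {hs hn : Prop} {X₁ Y₁ : Type u} [CommRing X₁] [CommRing Y₁]
    (l : X →+* Y) (l₁ : X₁ →+* Y₁) (e : X ≃+* X₁) (e' : Y ≃+* Y₁)
    (hsq : ∀ x, l₁ (e x) = e' (l x)) (hl : E hs hn l) : E hs hn l₁ := by
  refine ⟨fun h y => ?_, fun h h' => ?_⟩
  · obtain ⟨x, hx⟩ := hl.1 h (e'.symm y)
    refine ⟨e x, ?_⟩
    rw [hsq, hx, RingEquiv.apply_symm_apply]
  · refine nil_of_le ?_ (nil_map e.toRingHom (hl.2 h h'))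
    intro z hz
    rw [RingHom.mem_ker] at hz
    have h1 : l (e.symm z) = 0 := by
      have h2 := hsq (e.symm z)
      rw [RingEquiv.apply_symm_apply, hz] at h2
      have h3 : e' (l (e.symm z)) = e' 0 := by rw [← h2, map_zero]
      exact e'.injective h3
    have h4 : e.toRingHom (e.symm z) ∈ (RingHom.ker l).map e.toRingHom :=
      Ideal.mem_map_of_mem _ ((RingHom.mem_ker).2 h1)
    have h5 : e.toRingHom (e.symm z) = z := e.apply_symm_apply z
    rwa [h5] at h4

theorem E_id {hs hn : Prop} : E hs hn (RingHom.id X) :=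
  ⟨fun _ y => ⟨y, rfl⟩, fun _ _ => nil_ker_of_injective _ (fun _ _ h => h)⟩

end Nil

/-! ## the index category -/

section Main
variable {A B C : Type u} [CommRing A] [CommRing B] [CommRing C] [Algebra A B] [Algebra A C]

variable (β : B →ₐ[A] C)

/-- presented finite, finitely presented chains over `A → B → C`. -/
structure Obj : Type u where
  nB : ℕ
  IB : Ideal (MvPolynomial (Fin nB) A)
  fgB : IB.FG
  nC : ℕ
  IC : Ideal (MvPolynomial (Fin nC) A)
  fgC : IC.FG
  finB : Module.Finite A (MvPolynomial (Fin nB) A ⧸ IB)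
  finC : Module.Finite A (MvPolynomial (Fin nC) A ⧸ IC)
  τ : (MvPolynomial (Fin nB) A ⧸ IB) →ₐ[A] (MvPolynomial (Fin nC) A ⧸ IC)
  gB : (MvPolynomial (Fin nB) A ⧸ IB) →ₐ[A] B
  gC : (MvPolynomial (Fin nC) A ⧸ IC) →ₐ[A] C
  hτ : gC.comp τ = β.comp gB
  eα : Function.Surjective (algebraMap A B) →
    Function.Surjective (algebraMap A (MvPolynomial (Fin nB) A ⧸ IB))
  eβ : E (Function.Surjective β) (IsNilpotent (RingHom.ker β.toRingHom)) τ.toRingHom
  eγ : Function.Surjective (algebraMap A C) →
    Function.Surjective (algebraMap A (MvPolynomial (Fin nC) A ⧸ IC))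

variable {β}

abbrev Obj.QB (s : Obj β) : Type u := MvPolynomial (Fin s.nB) A ⧸ s.IB
abbrev Obj.QC (s : Obj β) : Type u := MvPolynomial (Fin s.nC) A ⧸ s.IC

instance (s : Obj β) : Algebra.FinitePresentation A s.QB :=
  Algebra.FinitePresentation.quotient s.fgB
instance (s : Obj β) : Algebra.FinitePresentation A s.QC :=
  Algebra.FinitePresentation.quotient s.fgC
instance (s : Obj β) : Module.Finite A s.QB := s.finB
instance (s : Obj β) : Module.Finite A s.QC := s.finC

@[ext] structure Hom (s t : Obj β) where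
  a : s.QB →ₐ[A] t.QB
  c : s.QC →ₐ[A] t.QC
  hB : t.gB.comp a = s.gB
  hC : t.gC.comp c = s.gC
  hτ : t.τ.comp a = c.comp s.τ

instance : Category.{u} (Obj β) where
  Hom s t := Hom s t
  id s :=
    { a := AlgHom.id A _, c := AlgHom.id A _
      hB := AlgHom.comp_id _, hC := AlgHom.comp_id _
      hτ := by rw [AlgHom.comp_id, AlgHom.id_comp] }
  comp {s t u} m n :=
    { a := n.a.comp m.a, c := n.c.comp m.c
      hB := AlgHom.ext fun x => by
        have h1 := AlgHom.congr_fun n.hB (m.a x)
        have h2 := AlgHom.congr_fun m.hB x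
        simp only [AlgHom.comp_apply] at h1 h2 ⊢
        rw [h1, h2]
      hC := AlgHom.ext fun x => by
        have h1 := AlgHom.congr_fun n.hC (m.c x)
        have h2 := AlgHom.congr_fun m.hC x
        simp only [AlgHom.comp_apply] at h1 h2 ⊢
        rw [h1, h2]
      hτ := AlgHom.ext fun x => by
        have h1 := AlgHom.congr_fun n.hτ (m.a x)
        have h2 := AlgHom.congr_fun m.hτ x
        simp only [AlgHom.comp_apply] at h1 h2 ⊢
        rw [h1, h2] }
  id_comp m := Hom.ext (AlgHom.comp_id _) (AlgHom.comp_id _)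
  comp_id m := Hom.ext (AlgHom.id_comp _) (AlgHom.id_comp _)
  assoc m n k := Hom.ext rfl rfl

theorem comp_a {s t u : Obj β} (m : s ⟶ t) (n : t ⟶ u) : (m ≫ n).a = n.a.comp m.a := rfl
theorem comp_c {s t u : Obj β} (m : s ⟶ t) (n : t ⟶ u) : (m ≫ n).c = n.c.comp m.c := rfl

variable (β)

/-- the `B`-diagram -/
def DB : Obj β ⥤ Under (CommRingCat.of A) where
  obj s := Under.mk (CommRingCat.ofHom (algebraMap A s.QB))
  map m := Under.homMk (CommRingCat.ofHom m.a.toRingHom) (by
    ext r
    exact m.a.commutes r)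
  map_id s := by
    ext : 2
    rfl
  map_comp m n := by
    ext : 2
    rfl

/-- the `C`-diagram -/
def DC : Obj β ⥤ Under (CommRingCat.of A) where
  obj s := Under.mk (CommRingCat.ofHom (algebraMap A s.QC))
  map m := Under.homMk (CommRingCat.ofHom m.c.toRingHom) (by
    ext r
    exact m.c.commutes r)
  map_id s := by
    ext : 2
    rfl
  map_comp m n := by
    ext : 2
    rfl

def τN : DB β ⟶ DC β where
  app s := Under.homMk (CommRingCat.ofHom s.τ.toRingHom) (by
    ext r
    exact s.τ.commutes r)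
  naturality s t m := by
    ext : 2
    ext x
    exact AlgHom.congr_fun m.hτ x

def cB : DB β ⟶ (Functor.const _).obj (Under.mk (CommRingCat.ofHom (algebraMap A B))) where
  app s := Under.homMk (CommRingCat.ofHom s.gB.toRingHom) (by
    ext r
    exact s.gB.commutes r)
  naturality s t m := by
    ext : 2
    simp only [Functor.const_obj_obj, Functor.const_obj_map, Category.comp_id]
    ext x
    exact AlgHom.congr_fun m.hB x

def cC : DC β ⟶ (Functor.const _).obj (Under.mk (CommRingCat.ofHom (algebraMap A C))) where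
  app s := Under.homMk (CommRingCat.ofHom s.gC.toRingHom) (by
    ext r
    exact s.gC.commutes r)
  naturality s t m := by
    ext : 2
    simp only [Functor.const_obj_obj, Functor.const_obj_map, Category.comp_id]
    ext x
    exact AlgHom.congr_fun m.hC x

variable {β}

/-- transport of an arbitrary finite, finitely presented chain to presented form. -/
theorem exists_obj (CB CC : Type u) [CommRing CB] [CommRing CC] [Algebra A CB] [Algebra A CC]
    [hB : Algebra.FinitePresentation A CB] [hC : Algebra.FinitePresentation A CC]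
    [fB : Module.Finite A CB] [fC : Module.Finite A CC]
    (τ : CB →ₐ[A] CC) (gB : CB →ₐ[A] B) (gC : CC →ₐ[A] C)
    (hτ : gC.comp τ = β.comp gB)
    (eα : Function.Surjective (algebraMap A B) → Function.Surjective (algebraMap A CB))
    (eβ : E (Function.Surjective β) (IsNilpotent (RingHom.ker β.toRingHom)) τ.toRingHom)
    (eγ : Function.Surjective (algebraMap A C) → Function.Surjective (algebraMap A CC)) :
    ∃ (s : Obj β) (eB : CB ≃ₐ[A] s.QB) (eC : CC ≃ₐ[A] s.QC),
      (∀ x, s.τ (eB x) = eC (τ x)) ∧ (∀ x, s.gB (eB x) = gB x) ∧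
      (∀ y, s.gC (eC y) = gC y) := by
  obtain ⟨nB, pB, spB, kB⟩ := hB
  obtain ⟨nC, pC, spC, kC⟩ := hC
  let eB0 : (MvPolynomial (Fin nB) A ⧸ RingHom.ker pB.toRingHom) ≃ₐ[A] CB :=
    Ideal.quotientKerAlgEquivOfSurjective spB
  let eC0 : (MvPolynomial (Fin nC) A ⧸ RingHom.ker pC.toRingHom) ≃ₐ[A] CC :=
    Ideal.quotientKerAlgEquivOfSurjective spC
  refine ⟨{ nB := nB, IB := RingHom.ker pB.toRingHom, fgB := kB
            nC := nC, IC := RingHom.ker pC.toRingHom, fgC := kC
            finB := Module.Finite.equiv eB0.symm.toLinearEquiv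
            finC := Module.Finite.equiv eC0.symm.toLinearEquiv
            τ := eC0.symm.toAlgHom.comp (τ.comp eB0.toAlgHom)
            gB := gB.comp eB0.toAlgHom
            gC := gC.comp eC0.toAlgHom
            hτ := ?_, eα := ?_, eβ := ?_, eγ := ?_ },
    eB0.symm, eC0.symm, ?_, ?_, ?_⟩
  · apply AlgHom.ext
    intro x
    show gC (eC0 (eC0.symm (τ (eB0 x)))) = β (gB (eB0 x))
    rw [AlgEquiv.apply_symm_apply]
    exact AlgHom.congr_fun hτ _
  · intro h y
    obtain ⟨a, ha⟩ := eα h (eB0 y)
    refine ⟨a, ?_⟩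
    apply eB0.injective
    rw [← ha]
    exact eB0.commutes a
  · refine E_iso τ.toRingHom _ eB0.symm.toRingEquiv eC0.symm.toRingEquiv (fun x => ?_) eβ
    show eC0.symm (τ (eB0 (eB0.symm x))) = eC0.symm (τ x)
    rw [AlgEquiv.apply_symm_apply]
  · intro h y
    obtain ⟨a, ha⟩ := eγ h (eC0 y)
    refine ⟨a, ?_⟩
    apply eC0.injective
    rw [← ha]
    exact eC0.commutes a
  · intro x
    show eC0.symm (τ (eB0 (eB0.symm x))) = eC0.symm (τ x)
    rw [AlgEquiv.apply_symm_apply]
  · intro x
    show gB (eB0 (eB0.symm x)) = gB x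
    rw [AlgEquiv.apply_symm_apply]
  · intro y
    show gC (eC0 (eC0.symm y)) = gC y
    rw [AlgEquiv.apply_symm_apply]

end Main

end

end Groth.Agent.Lib.Helper24.IntPair
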