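import Groth.Agent.Lib.Helper24.IntPairA

/-!
# IntPair (helper24), part B: quotient/tensor steps, filteredness, colimits
-/

set_option autoImplicit false
set_option maxHeartbeats 400000
set_option linter.style.haveILetI false
set_option linter.unusedSectionVars false
set_option linter.unusedVariables false

universe u
open CategoryTheory Limits TensorProduct

namespace Groth.Agent.Lib.Helper24.IntPair

open Groth.Agent.Lib.Helper24.NilPair (isColimit_of_elementwise bot_ker span_singleton_ker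
  fg_singleton)

noncomputable section

variable {A B C : Type u} [CommRing A] [CommRing B] [CommRing C] [Algebra A B] [Algebra A C]

theorem algebraMap_tensor_surjective {Q₁ Q₂ : Type u} [CommRing Q₁] [CommRing Q₂]
    [Algebra A Q₁] [Algebra A Q₂] (h₁ : Function.Surjective (algebraMap A Q₁))
    (h₂ : Function.Surjective (algebraMap A Q₂)) :
    Function.Surjective (algebraMap A (Q₁ ⊗[A] Q₂)) := by
  intro x
  obtain ⟨y, rfl⟩ := Algebra.TensorProduct.includeLeft_surjective (R := A) (T := Q₂) A Q₁ h₂ x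
  obtain ⟨a, rfl⟩ := h₁ y
  exact ⟨a, ((Algebra.TensorProduct.includeLeft : Q₁ →ₐ[A] Q₁ ⊗[A] Q₂).commutes a).symm⟩

theorem algebraMap_quotient_surjective {Q : Type u} [CommRing Q] [Algebra A Q] (J : Ideal Q)
    (h : Function.Surjective (algebraMap A Q)) : Function.Surjective (algebraMap A (Q ⧸ J)) := by
  intro y
  obtain ⟨y₀, rfl⟩ := Ideal.Quotient.mk_surjective y
  obtain ⟨a, rfl⟩ := h y₀
  exact ⟨a, rfl⟩

theorem finite_quotient {Q : Type u} [CommRing Q] [Algebra A Q] [Module.Finite A Q]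
    (J : Ideal Q) : Module.Finite A (Q ⧸ J) :=
  Module.Finite.of_surjective (Ideal.Quotient.mkₐ A J).toLinearMap
    (Ideal.Quotient.mkₐ_surjective A J)

/-- the quotient step for the `β`-leg. -/
theorem exists_source_ideal {hs hn : Prop} {CB CC : Type u} [CommRing CB] [CommRing CC]
    [Algebra A CB] [Algebra A CC] (β : B →ₐ[A] C)
    (hval : hs → hn → IsNilpotent (RingHom.ker β.toRingHom))
    (τ : CB →ₐ[A] CC) (gB : CB →ₐ[A] B) (gC : CC →ₐ[A] C) (hsq : gC.comp τ = β.comp gB)
    (hτ : E hs hn τ.toRingHom) (J₀ : Ideal CB) (J' : Ideal CC) (f₀ : J₀.FG) (f' : J'.FG)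
    (k₀ : ∀ x ∈ J₀, gB x = 0) (k' : ∀ x ∈ J', gC x = 0) (hle₀ : J₀ ≤ J'.comap τ) :
    ∃ (J : Ideal CB) (hle : J ≤ J'.comap τ), J.FG ∧ J₀ ≤ J ∧ (∀ x ∈ J, gB x = 0) ∧
      E hs hn (Ideal.quotientMapₐ J' τ hle).toRingHom := by
  have hsurj : ∀ (J : Ideal CB) (hle : J ≤ J'.comap τ), Function.Surjective τ →
      Function.Surjective (Ideal.quotientMapₐ J' τ hle) := by
    intro J hle sτ y
    obtain ⟨y₀, rfl⟩ := Ideal.Quotient.mk_surjective y
    obtain ⟨x₀, hx₀⟩ := sτ y₀
    refine ⟨Ideal.Quotient.mk J x₀, ?_⟩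
    show Ideal.Quotient.mk J' (τ x₀) = Ideal.Quotient.mk J' y₀
    rw [hx₀]
  by_cases h : hs ∧ hn
  · obtain ⟨h1, h2⟩ := h
    have sτ : Function.Surjective τ := hτ.1 h1
    have nτ : IsNilpotent (RingHom.ker τ.toRingHom) := hτ.2 h1 h2
    obtain ⟨N, hN⟩ := hval h1 h2
    have hN' : (RingHom.ker β.toRingHom) ^ (N + 1) = 0 := by rw [pow_succ, hN, zero_mul]
    obtain ⟨T, hT⟩ := f'
    choose z hz using sτ
    have hzk : ∀ t ∈ T, gB (z t) ^ (N + 1) = 0 := by
      intro t ht
      have ht' : t ∈ J' := hT ▸ Ideal.subset_span ht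
      have h3 : β (gB (z t)) = 0 := by
        have h4 := AlgHom.congr_fun hsq (z t)
        simp only [AlgHom.comp_apply] at h4
        rw [← h4, hz]
        exact k' t ht'
      exact pow_eq_zero_of_mem hN' ((RingHom.mem_ker).2 h3)
    let gens : Set CB := (fun t => z t ^ (N + 1)) '' (T : Set CC)
    let J : Ideal CB := J₀ ⊔ Ideal.span gens
    have hJle : J ≤ J'.comap τ := by
      refine sup_le hle₀ ?_
      rw [Ideal.span_le]
      rintro _ ⟨t, ht, rfl⟩
      show τ (z t ^ (N + 1)) ∈ J'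
      rw [map_pow, hz]
      exact Ideal.pow_mem_of_mem _ (hT ▸ Ideal.subset_span ht) _ (Nat.succ_pos _)
    have hgens : Ideal.span gens ≤ J := le_sup_right
    refine ⟨J, hJle, ?_, le_sup_left, ?_, fun _ => hsurj J hJle (hτ.1 h1), fun _ _ => ?_⟩
    · exact Submodule.FG.sup f₀ (Submodule.fg_span ((Finset.finite_toSet T).image _))
    · have hle : J ≤ RingHom.ker gB.toRingHom := by
        refine sup_le (fun x hx => (RingHom.mem_ker).2 (k₀ x hx)) ?_
        rw [Ideal.span_le]
        rintro _ ⟨t, ht, rfl⟩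
        show gB (z t ^ (N + 1)) = 0
        rw [map_pow]
        exact hzk t ht
      exact fun x hx => (RingHom.mem_ker).1 (hle hx)
    · -- nilpotency of the kernel
      let I₀ : Ideal CB := Ideal.span (z '' (T : Set CC))
      have hJ' : J' = Ideal.map τ.toRingHom I₀ := by
        rw [Ideal.map_span, ← Set.image_comp, ← hT]
        congr 1
        have : ∀ t ∈ (T : Set CC), (τ.toRingHom ∘ z) t = id t := fun t _ => hz t
        rw [Set.image_congr this, Set.image_id]
      have hnil1 : IsNilpotent (I₀.map (Ideal.Quotient.mk J)) := by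
        rw [Ideal.map_span]
        refine nil_span (((Finset.finite_toSet T).image _).image _) ?_
        rintro _ ⟨_, ⟨t, ht, rfl⟩, rfl⟩
        refine ⟨N + 1, ?_⟩
        rw [← map_pow]
        exact Ideal.Quotient.eq_zero_iff_mem.2 (hgens (Ideal.subset_span ⟨t, ht, rfl⟩))
      have hnil2 : IsNilpotent ((RingHom.ker τ.toRingHom).map (Ideal.Quotient.mk J)) :=
        nil_map _ nτ
      refine nil_of_le ?_ (nil_sup hnil1 hnil2)
      intro x hx
      obtain ⟨x₀, rfl⟩ := Ideal.Quotient.mk_surjective x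
      have hx1 : Ideal.Quotient.mk J' (τ x₀) = 0 := (RingHom.mem_ker).1 hx
      have hx2 : τ x₀ ∈ J' := Ideal.Quotient.eq_zero_iff_mem.1 hx1
      rw [hJ'] at hx2
      obtain ⟨x₁, hx₁, hx₁'⟩ := (Ideal.mem_map_iff_of_surjective τ.toRingHom (hτ.1 h1)).1 hx2
      have hx₁'' : τ x₁ = τ x₀ := hx₁'
      have hd : x₀ - x₁ ∈ RingHom.ker τ.toRingHom := by
        rw [RingHom.mem_ker]
        show τ (x₀ - x₁) = 0
        rw [map_sub, hx₁'', sub_self]
      have hsum : Ideal.Quotient.mk J x₀ =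
          Ideal.Quotient.mk J x₁ + Ideal.Quotient.mk J (x₀ - x₁) := by
        rw [← map_add]
        congr 1
        ring
      rw [hsum]
      exact Ideal.add_mem _ (Ideal.mem_sup_left (Ideal.mem_map_of_mem _ hx₁))
        (Ideal.mem_sup_right (Ideal.mem_map_of_mem _ hd))
  · refine ⟨J₀, hle₀, f₀, le_rfl, k₀, fun h1 => hsurj J₀ hle₀ (hτ.1 h1),
      fun h1 h2 => absurd ⟨h1, h2⟩ h⟩

variable {β : B →ₐ[A] C}

theorem quotStep (s : Obj β) (JB : Ideal s.QB) (JC : Ideal s.QC) (fB : JB.FG) (fC : JC.FG)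
    (kB : ∀ x ∈ JB, s.gB x = 0) (kC : ∀ x ∈ JC, s.gC x = 0) :
    ∃ (t : Obj β) (m : s ⟶ t), (∀ x ∈ JB, m.a x = 0) ∧ (∀ x ∈ JC, m.c x = 0) := by
  let JC₁ : Ideal s.QC := JC ⊔ JB.map s.τ.toRingHom
  have fC₁ : JC₁.FG := Submodule.FG.sup fC (Ideal.FG.map fB _)
  have kC₁ : ∀ x ∈ JC₁, s.gC x = 0 := by
    have hle : JC₁ ≤ RingHom.ker s.gC.toRingHom := by
      refine sup_le (fun x hx => ?_) ?_
      · exact (RingHom.mem_ker).2 (kC x hx)
      · rw [Ideal.map_le_iff_le_comap]
        intro x hx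
        rw [Ideal.mem_comap, RingHom.mem_ker]
        show s.gC (s.τ x) = 0
        have h1 := AlgHom.congr_fun s.hτ x
        simp only [AlgHom.comp_apply] at h1
        rw [h1, kB x hx, map_zero]
    exact fun x hx => (RingHom.mem_ker).1 (hle hx)
  have leB : JB ≤ JC₁.comap s.τ := fun x hx =>
    Ideal.mem_comap.2 (Ideal.mem_sup_right (Ideal.mem_map_of_mem s.τ.toRingHom hx))
  obtain ⟨JB₁, hleB, fB₁, leB₁, kB₁, eB₁⟩ :=
    exists_source_ideal β (fun _ h => h) s.τ s.gB s.gC s.hτ s.eβ JB JC₁ fB fC₁ kB kC₁ leB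
  haveI : Algebra.FinitePresentation A (s.QB ⧸ JB₁) := Algebra.FinitePresentation.quotient fB₁
  haveI : Algebra.FinitePresentation A (s.QC ⧸ JC₁) := Algebra.FinitePresentation.quotient fC₁
  haveI : Module.Finite A (s.QB ⧸ JB₁) := finite_quotient JB₁
  haveI : Module.Finite A (s.QC ⧸ JC₁) := finite_quotient JC₁
  have hτq : (Ideal.Quotient.liftₐ JC₁ s.gC kC₁).comp (Ideal.quotientMapₐ JC₁ s.τ hleB) =
      β.comp (Ideal.Quotient.liftₐ JB₁ s.gB kB₁) := by
    apply Ideal.Quotient.algHom_ext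
    apply AlgHom.ext
    intro x
    show s.gC (s.τ x) = β (s.gB x)
    exact AlgHom.congr_fun s.hτ x
  obtain ⟨t, eB, eC, h1, h2, h3⟩ := exists_obj (β := β)
    (s.QB ⧸ JB₁) (s.QC ⧸ JC₁) (Ideal.quotientMapₐ JC₁ s.τ hleB)
    (Ideal.Quotient.liftₐ JB₁ s.gB kB₁) (Ideal.Quotient.liftₐ JC₁ s.gC kC₁) hτq
    (fun h => algebraMap_quotient_surjective JB₁ (s.eα h)) eB₁
    (fun h => algebraMap_quotient_surjective JC₁ (s.eγ h))
  let m : Hom s t :=
    { a := eB.toAlgHom.comp (Ideal.Quotient.mkₐ A JB₁)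
      c := eC.toAlgHom.comp (Ideal.Quotient.mkₐ A JC₁)
      hB := AlgHom.ext fun x => by
        show t.gB (eB (Ideal.Quotient.mk JB₁ x)) = s.gB x
        rw [h2]
        rfl
      hC := AlgHom.ext fun x => by
        show t.gC (eC (Ideal.Quotient.mk JC₁ x)) = s.gC x
        rw [h3]
        rfl
      hτ := AlgHom.ext fun x => by
        show t.τ (eB (Ideal.Quotient.mk JB₁ x)) = eC (Ideal.Quotient.mk JC₁ (s.τ x))
        rw [h1]
        rfl }
  refine ⟨t, m, fun x hx => ?_, fun x hx => ?_⟩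
  · show eB (Ideal.Quotient.mk JB₁ x) = 0
    rw [Ideal.Quotient.eq_zero_iff_mem.2 (leB₁ hx), map_zero]
  · show eC (Ideal.Quotient.mk JC₁ x) = 0
    rw [Ideal.Quotient.eq_zero_iff_mem.2 (Ideal.mem_sup_left hx), map_zero]

theorem tensorStep (s t : Obj β) : ∃ (u : Obj β), Nonempty (s ⟶ u) ∧ Nonempty (t ⟶ u) := by
  haveI : Algebra.FinitePresentation A (s.QB ⊗[A] t.QB) :=
    Algebra.FinitePresentation.trans A s.QB (s.QB ⊗[A] t.QB)
  haveI : Algebra.FinitePresentation A (s.QC ⊗[A] t.QC) :=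
    Algebra.FinitePresentation.trans A s.QC (s.QC ⊗[A] t.QC)
  have hτq : (Algebra.TensorProduct.productMap s.gC t.gC).comp
      (Algebra.TensorProduct.map s.τ t.τ) =
      β.comp (Algebra.TensorProduct.productMap s.gB t.gB) := by
    apply Algebra.TensorProduct.ext'
    intro x y
    show (Algebra.TensorProduct.productMap s.gC t.gC)
      ((Algebra.TensorProduct.map s.τ t.τ) (x ⊗ₜ y)) =
      β ((Algebra.TensorProduct.productMap s.gB t.gB) (x ⊗ₜ y))
    rw [Algebra.TensorProduct.map_tmul, Algebra.TensorProduct.productMap_apply_tmul,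
      Algebra.TensorProduct.productMap_apply_tmul, map_mul]
    have h1 := AlgHom.congr_fun s.hτ x
    have h2 := AlgHom.congr_fun t.hτ y
    simp only [AlgHom.comp_apply] at h1 h2
    rw [h1, h2]
  have eβ : E (X := s.QB ⊗[A] t.QB) (Y := s.QC ⊗[A] t.QC) (Function.Surjective β)
      (IsNilpotent (RingHom.ker β.toRingHom))
      (Algebra.TensorProduct.map s.τ t.τ).toRingHom := by
    refine ⟨fun h => Algebra.TensorProduct.map_surjective s.τ t.τ (s.eβ.1 h) (t.eβ.1 h),
      fun h h' => ?_⟩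
    have s₁ : Function.Surjective s.τ := s.eβ.1 h
    have s₂ : Function.Surjective t.τ := t.eβ.1 h
    have hker := Algebra.TensorProduct.map_ker s.τ t.τ s₁ s₂
    have n₁ : IsNilpotent (RingHom.ker s.τ) := s.eβ.2 h h'
    have n₂ : IsNilpotent (RingHom.ker t.τ) := t.eβ.2 h h'
    have hnil := nil_sup
      (nil_map (Algebra.TensorProduct.includeLeft : s.QB →ₐ[A] s.QB ⊗[A] t.QB) n₁)
      (nil_map (Algebra.TensorProduct.includeRight : t.QB →ₐ[A] s.QB ⊗[A] t.QB) n₂)
    rw [← hker] at hnil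
    exact hnil
  obtain ⟨u, eB, eC, h1, h2, h3⟩ := exists_obj (β := β)
    (s.QB ⊗[A] t.QB) (s.QC ⊗[A] t.QC)
    (Algebra.TensorProduct.map s.τ t.τ)
    (Algebra.TensorProduct.productMap s.gB t.gB) (Algebra.TensorProduct.productMap s.gC t.gC)
    hτq (fun h => algebraMap_tensor_surjective (s.eα h) (t.eα h)) eβ
    (fun h => algebraMap_tensor_surjective (s.eγ h) (t.eγ h))
  let m₁ : Hom s u :=
    { a := eB.toAlgHom.comp Algebra.TensorProduct.includeLeft
      c := eC.toAlgHom.comp Algebra.TensorProduct.includeLeft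
      hB := AlgHom.ext fun x => by
        show u.gB (eB (x ⊗ₜ 1)) = s.gB x
        rw [h2, Algebra.TensorProduct.productMap_apply_tmul, map_one, mul_one]
      hC := AlgHom.ext fun x => by
        show u.gC (eC (x ⊗ₜ 1)) = s.gC x
        rw [h3, Algebra.TensorProduct.productMap_apply_tmul, map_one, mul_one]
      hτ := AlgHom.ext fun x => by
        show u.τ (eB (x ⊗ₜ 1)) = eC (s.τ x ⊗ₜ 1)
        rw [h1, Algebra.TensorProduct.map_tmul, map_one] }
  let m₂ : Hom t u :=
    { a := eB.toAlgHom.comp Algebra.TensorProduct.includeRight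
      c := eC.toAlgHom.comp Algebra.TensorProduct.includeRight
      hB := AlgHom.ext fun x => by
        show u.gB (eB (1 ⊗ₜ x)) = t.gB x
        rw [h2, Algebra.TensorProduct.productMap_apply_tmul, map_one, one_mul]
      hC := AlgHom.ext fun x => by
        show u.gC (eC (1 ⊗ₜ x)) = t.gC x
        rw [h3, Algebra.TensorProduct.productMap_apply_tmul, map_one, one_mul]
      hτ := AlgHom.ext fun x => by
        show u.τ (eB (1 ⊗ₜ x)) = eC (1 ⊗ₜ t.τ x)
        rw [h1, Algebra.TensorProduct.map_tmul, map_one] }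
  exact ⟨u, ⟨m₁⟩, ⟨m₂⟩⟩

theorem isFiltered (hne : Nonempty (Obj β)) : IsFiltered (Obj β) := by
  haveI := hne
  haveI : IsFilteredOrEmpty (Obj β) := by
    refine ⟨?_, ?_⟩
    · intro s t
      obtain ⟨u, ⟨m⟩, ⟨n⟩⟩ := tensorStep s t
      exact ⟨u, m, n, trivial⟩
    · intro s t m m'
      let genB : Fin s.nB → t.QB := fun k =>
        m.a (Ideal.Quotient.mk _ (MvPolynomial.X k)) - m'.a (Ideal.Quotient.mk _ (MvPolynomial.X k))
      let genC : Fin s.nC → t.QC := fun k =>
        m.c (Ideal.Quotient.mk _ (MvPolynomial.X k)) - m'.c (Ideal.Quotient.mk _ (MvPolynomial.X k))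
      have kB : ∀ x ∈ Ideal.span (Set.range genB), t.gB x = 0 := by
        have hle : Ideal.span (Set.range genB) ≤ RingHom.ker t.gB.toRingHom := by
          rw [Ideal.span_le]
          rintro _ ⟨k, rfl⟩
          show t.gB (m.a _ - m'.a _) = 0
          rw [map_sub, sub_eq_zero]
          exact (AlgHom.congr_fun m.hB _).trans (AlgHom.congr_fun m'.hB _).symm
        exact fun x hx => hle hx
      have kC : ∀ x ∈ Ideal.span (Set.range genC), t.gC x = 0 := by
        have hle : Ideal.span (Set.range genC) ≤ RingHom.ker t.gC.toRingHom := by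
          rw [Ideal.span_le]
          rintro _ ⟨k, rfl⟩
          show t.gC (m.c _ - m'.c _) = 0
          rw [map_sub, sub_eq_zero]
          exact (AlgHom.congr_fun m.hC _).trans (AlgHom.congr_fun m'.hC _).symm
        exact fun x hx => hle hx
      obtain ⟨u, n, hB, hC⟩ := quotStep t (Ideal.span (Set.range genB))
        (Ideal.span (Set.range genC))
        (Submodule.fg_span (Set.finite_range genB)) (Submodule.fg_span (Set.finite_range genC))
        kB kC
      refine ⟨u, n, ?_⟩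
      apply Hom.ext
      · show n.a.comp m.a = n.a.comp m'.a
        apply Ideal.Quotient.algHom_ext
        apply MvPolynomial.algHom_ext
        intro k
        show n.a (m.a (Ideal.Quotient.mk _ (MvPolynomial.X k))) =
          n.a (m'.a (Ideal.Quotient.mk _ (MvPolynomial.X k)))
        have h0 := hB _ (Ideal.subset_span ⟨k, rfl⟩)
        rw [← sub_eq_zero, ← map_sub]
        exact h0
      · show n.c.comp m.c = n.c.comp m'.c
        apply Ideal.Quotient.algHom_ext
        apply MvPolynomial.algHom_ext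
        intro k
        show n.c (m.c (Ideal.Quotient.mk _ (MvPolynomial.X k))) =
          n.c (m'.c (Ideal.Quotient.mk _ (MvPolynomial.X k)))
        have h0 := hC _ (Ideal.subset_span ⟨k, rfl⟩)
        rw [← sub_eq_zero, ← map_sub]
        exact h0
  exact {}

section Colimits
variable [IsFiltered (Obj β)]

theorem isColimit_cB (claimB : ∀ b : B, ∃ (s : Obj β) (x : s.QB), s.gB x = b) :
    Nonempty (IsColimit (Cocone.mk _ (cB β))) := by
  apply isColimit_of_elementwise
  · intro x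
    obtain ⟨s, y, hy⟩ := claimB x
    exact ⟨s, y, hy⟩
  · intro s (y : s.QB) (y' : s.QB) (h : s.gB y = s.gB y')
    obtain ⟨t, m, hB, -⟩ := quotStep s (Ideal.span {y - y'}) ⊥
      (fg_singleton _) Submodule.fg_bot
      (span_singleton_ker s.gB y y' h) (bot_ker _)
    refine ⟨t, m, ?_⟩
    show m.a y = m.a y'
    have h0 := hB _ (Ideal.subset_span (Set.mem_singleton _))
    rwa [map_sub, sub_eq_zero] at h0

theorem isColimit_cC (claimC : ∀ c : C, ∃ (s : Obj β) (x : s.QC), s.gC x = c) :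
    Nonempty (IsColimit (Cocone.mk _ (cC β))) := by
  apply isColimit_of_elementwise
  · intro x
    obtain ⟨s, y, hy⟩ := claimC x
    exact ⟨s, y, hy⟩
  · intro s (y : s.QC) (y' : s.QC) (h : s.gC y = s.gC y')
    obtain ⟨t, m, -, hC⟩ := quotStep s ⊥ (Ideal.span {y - y'})
      Submodule.fg_bot (fg_singleton _)
      (bot_ker _) (span_singleton_ker s.gC y y' h)
    refine ⟨t, m, ?_⟩
    show m.c y = m.c y'
    have h0 := hC _ (Ideal.subset_span (Set.mem_singleton _))
    rwa [map_sub, sub_eq_zero] at h0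

end Colimits

end

end Groth.Agent.Lib.Helper24.IntPair
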