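import Groth.Agent.Lib.Helper24.IntPairB

/-!
# IntPair (helper24), part C: the basic objects, the joint-surjectivity claims, `main`
-/

set_option autoImplicit false
set_option maxHeartbeats 400000
set_option linter.style.haveILetI false
set_option linter.unusedSectionVars false
set_option linter.unusedVariables false

universe u
open CategoryTheory Limits TensorProduct

namespace Groth.Agent.Lib.Helper24.IntPair

open Groth.Agent.Lib.Helper24.NilPair (span_singleton_ker0 fg_singleton)

noncomputable section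

variable {A B C : Type u} [CommRing A] [CommRing B] [CommRing C] [Algebra A B] [Algebra A C]

/-! ### `A[X]/(m)` -/

section Mon
variable (m : Polynomial A)

abbrev QM : Type u := Polynomial A ⧸ Ideal.span {m}

instance : Algebra.FinitePresentation A (QM m) :=
  Algebra.FinitePresentation.quotient (fg_singleton m)

theorem finite_QM (hm : m.Monic) : Module.Finite A (QM m) :=
  (hm.finite_adjoinRoot : Module.Finite A (AdjoinRoot m))

variable {m}

def evQ {Y : Type u} [CommRing Y] [Algebra A Y] (y : Y) (h : Polynomial.aeval y m = 0) :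
    QM m →ₐ[A] Y :=
  Ideal.Quotient.liftₐ (Ideal.span {m}) (Polynomial.aeval y) (span_singleton_ker0 _ m h)

theorem evQ_X {Y : Type u} [CommRing Y] [Algebra A Y] (y : Y) (h : Polynomial.aeval y m = 0) :
    evQ y h (Ideal.Quotient.mk _ Polynomial.X) = y := by
  show Polynomial.aeval y Polynomial.X = y
  exact Polynomial.aeval_X y

end Mon

/-! ### `A/(m(a))` -/

section O3
variable (m : Polynomial A) (a : A)

abbrev QA : Type u := A ⧸ Ideal.span {Polynomial.aeval a m}

instance : Algebra.FinitePresentation A (QA m a) :=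
  Algebra.FinitePresentation.quotient (fg_singleton _)

instance : Module.Finite A (QA m a) := finite_quotient _

def τ₀ : Polynomial A →ₐ[A] QA m a :=
  (Ideal.Quotient.mkₐ A (Ideal.span {Polynomial.aeval a m})).comp (Polynomial.aeval a)

theorem τ₀_m : τ₀ m a m = 0 := by
  show Ideal.Quotient.mk _ (Polynomial.aeval a m) = 0
  exact Ideal.Quotient.eq_zero_iff_mem.2 (Ideal.subset_span (Set.mem_singleton _))

def τ3 : QM m →ₐ[A] QA m a :=
  Ideal.Quotient.liftₐ (Ideal.span {m}) (τ₀ m a) (span_singleton_ker0 _ m (τ₀_m m a))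

def gC3 (h : algebraMap A C (Polynomial.aeval a m) = 0) : QA m a →ₐ[A] C :=
  Ideal.Quotient.liftₐ (Ideal.span {Polynomial.aeval a m}) (Algebra.ofId A C)
    (span_singleton_ker0 _ _ h)

theorem τ3_surjective : Function.Surjective (τ3 m a) := by
  intro y
  obtain ⟨a', rfl⟩ := Ideal.Quotient.mk_surjective y
  refine ⟨Ideal.Quotient.mk _ (Polynomial.C a'), ?_⟩
  show Ideal.Quotient.mk _ (Polynomial.aeval a (Polynomial.C a')) = _
  rw [Polynomial.aeval_C]
  rfl

theorem τ3_ker_nil (N : ℕ) (hmN : m = (Polynomial.X - Polynomial.C a) ^ (N + 1)) :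
    IsNilpotent (RingHom.ker (τ3 m a).toRingHom) := by
  have hma : Polynomial.aeval a m = 0 := by
    rw [hmN]
    simp
  have hz : (Ideal.Quotient.mk (Ideal.span {m}) (Polynomial.X - Polynomial.C a)) ^ (N + 1) = 0 := by
    rw [← map_pow, ← hmN]
    exact Ideal.Quotient.eq_zero_iff_mem.2 (Ideal.subset_span (Set.mem_singleton _))
  refine nil_of_le ?_ (nil_span
    (Set.finite_singleton (Ideal.Quotient.mk (Ideal.span {m}) (Polynomial.X - Polynomial.C a)))
    (by
      rintro _ rfl
      exact ⟨N + 1, hz⟩))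
  intro x hx
  obtain ⟨p, rfl⟩ := Ideal.Quotient.mk_surjective x
  have h1 : Ideal.Quotient.mk (Ideal.span {Polynomial.aeval a m}) (Polynomial.aeval a p) = 0 :=
    (RingHom.mem_ker).1 hx
  have h2 : Polynomial.aeval a p ∈ Ideal.span {Polynomial.aeval a m} :=
    Ideal.Quotient.eq_zero_iff_mem.1 h1
  rw [Ideal.span_singleton_eq_bot.2 hma, Ideal.mem_bot] at h2
  have h3 : Polynomial.IsRoot p a := by
    have h4 : Polynomial.eval a p = Polynomial.aeval a p := by
      rw [Polynomial.coe_aeval_eq_eval]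
    rw [Polynomial.IsRoot.def, h4]
    exact h2
  obtain ⟨q, hq⟩ := Polynomial.dvd_iff_isRoot.2 h3
  rw [hq, map_mul]
  exact Ideal.mem_span_singleton'.2 ⟨Ideal.Quotient.mk _ q, mul_comm _ _⟩

end O3

/-! ### the basic objects -/

variable (β : B →ₐ[A] C)

theorem obj1 : ∃ s : Obj β, (∀ a : A, ∃ x : s.QB, s.gB x = algebraMap A B a) ∧
    (∀ a : A, ∃ y : s.QC, s.gC y = algebraMap A C a) := by
  have hτ : (Algebra.ofId A C).comp (AlgHom.id A A) = β.comp (Algebra.ofId A B) := by
    apply AlgHom.ext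
    intro a
    show algebraMap A C a = β (algebraMap A B a)
    exact (β.commutes a).symm
  obtain ⟨s, eB, eC, h1, h2, h3⟩ := exists_obj (β := β) A A (AlgHom.id A A) (Algebra.ofId A B)
    (Algebra.ofId A C) hτ (fun _ a => ⟨a, rfl⟩) E_id (fun _ a => ⟨a, rfl⟩)
  exact ⟨s, fun a => ⟨eB a, by rw [h2]; rfl⟩, fun a => ⟨eC a, by rw [h3]; rfl⟩⟩

theorem obj2 (m : Polynomial A) (hm : m.Monic) (b : B) (hmb : Polynomial.aeval b m = 0)
    (hα : ¬ Function.Surjective (algebraMap A B)) (hγ : ¬ Function.Surjective (algebraMap A C)) :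
    ∃ s : Obj β, (∃ x : s.QB, s.gB x = b) ∧ (∃ y : s.QC, s.gC y = β b) := by
  haveI := finite_QM m hm
  obtain ⟨s, eB, eC, h1, h2, h3⟩ := exists_obj (β := β) (QM m) (QM m) (AlgHom.id A (QM m))
    (evQ b hmb) (β.comp (evQ b hmb)) (AlgHom.comp_id _) (fun h => absurd h hα) E_id
    (fun h => absurd h hγ)
  refine ⟨s, ⟨eB (Ideal.Quotient.mk _ Polynomial.X), ?_⟩,
    ⟨eC (Ideal.Quotient.mk _ Polynomial.X), ?_⟩⟩
  · rw [h2]
    exact evQ_X b hmb
  · rw [h3]
    show β (evQ b hmb (Ideal.Quotient.mk _ Polynomial.X)) = β b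
    rw [evQ_X]

theorem obj4 (m : Polynomial A) (hm : m.Monic) (c : C) (hmc : Polynomial.aeval c m = 0)
    (hβ : ¬ Function.Surjective β) (hγ : ¬ Function.Surjective (algebraMap A C)) :
    ∃ (s : Obj β) (y : s.QC), s.gC y = c := by
  haveI := finite_QM m hm
  have hτ : (evQ c hmc).comp (Algebra.ofId A (QM m)) = β.comp (Algebra.ofId A B) := by
    apply AlgHom.ext
    intro a
    show evQ c hmc (algebraMap A (QM m) a) = β (algebraMap A B a)
    rw [AlgHom.commutes, AlgHom.commutes]
  obtain ⟨s, eB, eC, h1, h2, h3⟩ := exists_obj (β := β) A (QM m) (Algebra.ofId A (QM m))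
    (Algebra.ofId A B) (evQ c hmc) hτ (fun _ a => ⟨a, rfl⟩)
    ⟨fun h => absurd h hβ, fun h => absurd h hβ⟩ (fun h => absurd h hγ)
  exact ⟨s, eC (Ideal.Quotient.mk _ Polynomial.X), by rw [h3]; exact evQ_X c hmc⟩

theorem obj3 (m : Polynomial A) (hm : m.Monic) (b : B) (hmb : Polynomial.aeval b m = 0) (a : A)
    (ha : algebraMap A C a = β b) (hα : ¬ Function.Surjective (algebraMap A B))
    (hnil : Function.Surjective β → IsNilpotent (RingHom.ker β.toRingHom) →
      ∃ N : ℕ, m = (Polynomial.X - Polynomial.C a) ^ (N + 1)) :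
    ∃ (s : Obj β) (x : s.QB), s.gB x = b := by
  haveI := finite_QM m hm
  have h0 : algebraMap A C (Polynomial.aeval a m) = 0 := by
    rw [← Polynomial.aeval_algebraMap_apply, ha, Polynomial.aeval_algHom_apply, hmb, map_zero]
  have hτ : (gC3 m a h0).comp (τ3 m a) = β.comp (evQ b hmb) := by
    apply Ideal.Quotient.algHom_ext
    apply Polynomial.algHom_ext
    show algebraMap A C (Polynomial.aeval a Polynomial.X) = β (Polynomial.aeval b Polynomial.X)
    rw [Polynomial.aeval_X, Polynomial.aeval_X]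
    exact ha
  obtain ⟨s, eB, eC, h1, h2, h3⟩ := exists_obj (β := β) (QM m) (QA m a) (τ3 m a)
    (evQ b hmb) (gC3 m a h0) hτ (fun h => absurd h hα)
    ⟨fun _ => τ3_surjective m a, fun h h' => by
      obtain ⟨N, hmN⟩ := hnil h h'
      exact τ3_ker_nil m a N hmN⟩
    (fun _ => Ideal.Quotient.mk_surjective)
  exact ⟨s, eB (Ideal.Quotient.mk _ Polynomial.X), by rw [h2]; exact evQ_X b hmb⟩

/-! ### the claims -/

theorem exists_monic {Y : Type u} [CommRing Y] [Algebra A Y] [Algebra.IsIntegral A Y] (y : Y) :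
    ∃ m : Polynomial A, m.Monic ∧ Polynomial.aeval y m = 0 := by
  obtain ⟨m, hm, h⟩ := Algebra.IsIntegral.isIntegral (R := A) y
  exact ⟨m, hm, by rw [Polynomial.aeval_def]; exact h⟩

variable [Algebra.IsIntegral A B] [Algebra.IsIntegral A C]

theorem claimB (b : B) : ∃ (s : Obj β) (x : s.QB), s.gB x = b := by
  by_cases hα : Function.Surjective (algebraMap A B)
  · obtain ⟨a, rfl⟩ := hα b
    obtain ⟨s, h1, -⟩ := obj1 β
    obtain ⟨x, hx⟩ := h1 a
    exact ⟨s, x, hx⟩
  · by_cases hγ : Function.Surjective (algebraMap A C)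
    · obtain ⟨a, ha⟩ := hγ (β b)
      by_cases hn : Function.Surjective β ∧ IsNilpotent (RingHom.ker β.toRingHom)
      · obtain ⟨N, hN⟩ := hn.2
        have hN' : (RingHom.ker β.toRingHom) ^ (N + 1) = 0 := by rw [pow_succ, hN, zero_mul]
        have hmem : b - algebraMap A B a ∈ RingHom.ker β.toRingHom := by
          rw [RingHom.mem_ker]
          show β (b - algebraMap A B a) = 0
          rw [map_sub, β.commutes, ha, sub_self]
        have hmb : Polynomial.aeval b ((Polynomial.X - Polynomial.C a) ^ (N + 1)) = 0 := by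
          rw [map_pow, map_sub, Polynomial.aeval_X, Polynomial.aeval_C]
          exact pow_eq_zero_of_mem hN' hmem
        exact obj3 β _ ((Polynomial.monic_X_sub_C a).pow (N + 1)) b hmb a ha hα
          (fun _ _ => ⟨N, rfl⟩)
      · obtain ⟨m, hm, hmb⟩ := exists_monic (A := A) b
        exact obj3 β m hm b hmb a ha hα (fun h h' => absurd ⟨h, h'⟩ hn)
    · obtain ⟨m, hm, hmb⟩ := exists_monic (A := A) b
      obtain ⟨s, h1, -⟩ := obj2 β m hm b hmb hα hγ
      obtain ⟨x, hx⟩ := h1
      exact ⟨s, x, hx⟩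

theorem claimC (c : C) : ∃ (s : Obj β) (y : s.QC), s.gC y = c := by
  by_cases hγ : Function.Surjective (algebraMap A C)
  · obtain ⟨a, rfl⟩ := hγ c
    obtain ⟨s, -, h2⟩ := obj1 β
    obtain ⟨y, hy⟩ := h2 a
    exact ⟨s, y, hy⟩
  · by_cases hβ : Function.Surjective β
    · obtain ⟨b, rfl⟩ := hβ c
      have hα : ¬ Function.Surjective (algebraMap A B) := by
        intro h
        apply hγ
        intro c
        obtain ⟨b', rfl⟩ := hβ c
        obtain ⟨a, rfl⟩ := h b'
        exact ⟨a, (β.commutes a).symm⟩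
      obtain ⟨m, hm, hmb⟩ := exists_monic (A := A) b
      obtain ⟨s, -, h2⟩ := obj2 β m hm b hmb hα hγ
      obtain ⟨y, hy⟩ := h2
      exact ⟨s, y, hy⟩
    · obtain ⟨m, hm, hmc⟩ := exists_monic (A := A) c
      exact obj4 β m hm c hmc hβ hγ

/-- the generic main theorem. -/
theorem main :
    ∃ (ι : Type u) (_ : SmallCategory ι) (_ : IsFiltered ι)
      (DB DC : ι ⥤ Under (CommRingCat.of A)) (τ : DB ⟶ DC)
      (cB : DB ⟶ (Functor.const ι).obj (Under.mk (CommRingCat.ofHom (algebraMap A B))))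
      (cC : DC ⟶ (Functor.const ι).obj (Under.mk (CommRingCat.ofHom (algebraMap A C)))),
      Nonempty (IsColimit (Cocone.mk _ cB)) ∧ Nonempty (IsColimit (Cocone.mk _ cC)) ∧
      (∀ i, (τ.app i).right ≫ (cC.app i).right =
        (cB.app i).right ≫ CommRingCat.ofHom β.toRingHom) ∧
      (∀ i, (DB.obj i).hom.hom.Finite ∧ (DB.obj i).hom.hom.FinitePresentation ∧
        (DC.obj i).hom.hom.Finite ∧ (DC.obj i).hom.hom.FinitePresentation) ∧
      (Function.Surjective (algebraMap A B) → ∀ i, Function.Surjective (DB.obj i).hom.hom) ∧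
      (Function.Surjective β → ∀ i, Function.Surjective (τ.app i).right.hom) ∧
      (Function.Surjective (algebraMap A C) → ∀ i, Function.Surjective (DC.obj i).hom.hom) ∧
      (∀ i, RingHom.ker (DB.obj i).hom.hom ≤ RingHom.ker (algebraMap A B)) ∧
      (Function.Surjective β → IsNilpotent (RingHom.ker β.toRingHom) →
        ∀ i, IsNilpotent (RingHom.ker (τ.app i).right.hom)) ∧
      (∀ i, RingHom.ker (DC.obj i).hom.hom ≤ RingHom.ker (algebraMap A C)) := by
  haveI : IsFiltered (Obj β) := isFiltered (by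
    obtain ⟨s, -⟩ := obj1 β
    exact ⟨s⟩)
  refine ⟨Obj β, inferInstance, inferInstance, DB β, DC β, τN β, cB β, cC β,
    isColimit_cB (claimB β), isColimit_cC (claimC β), ?_, ?_, ?_, ?_, ?_, ?_, ?_, ?_⟩
  · intro s
    ext x
    exact AlgHom.congr_fun s.hτ x
  · intro s
    refine ⟨?_, ?_, ?_, ?_⟩
    · show (algebraMap A s.QB).Finite
      exact RingHom.finite_algebraMap.2 inferInstance
    · show (algebraMap A s.QB).FinitePresentation
      exact RingHom.finitePresentation_algebraMap.2 inferInstance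
    · show (algebraMap A s.QC).Finite
      exact RingHom.finite_algebraMap.2 inferInstance
    · show (algebraMap A s.QC).FinitePresentation
      exact RingHom.finitePresentation_algebraMap.2 inferInstance
  · intro h s
    exact s.eα h
  · intro h s
    exact s.eβ.1 h
  · intro h s
    exact s.eγ h
  · intro s a ha
    have ha' : algebraMap A s.QB a = 0 := (RingHom.mem_ker).1 ha
    rw [RingHom.mem_ker, ← s.gB.commutes a, ha', map_zero]
  · intro h h' s
    exact s.eβ.2 h h'
  · intro s a ha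
    have ha' : algebraMap A s.QC a = 0 := (RingHom.mem_ker).1 ha
    rw [RingHom.mem_ker, ← s.gC.commutes a, ha', map_zero]

end

end Groth.Agent.Lib.Helper24.IntPair
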