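import Mathlib
import Groth.Prelude.Def_PolLaw
import Groth.Agent.Lib.Helper24.GamCoef
import Groth.Agent.Lib.Helper24.GamSpan

/-!
# Iversen's map `Γ^{e+1}(B) ⊗ B → Γ^e(B) ⊗ B` is surjective (helper24, S13399)

Comparing coefficients at the generic point `∑ X_j ⊗ j` (`j` in a finite set `J₀ ∋ 1`) gives
`ω (d_λ ⊗ 1) = ∑_j c_{λ - δ_j} ⊗ j`; taking `λ = κ + δ_1` and inducting on the degree of `κ` outside
`1` shows `c_κ ⊗ 1 ∈ range ω`, and the `c_κ` span `Γ^e(B)`.
-/

set_option autoImplicit false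

namespace Groth.Agent.Lib.Helper24.Iversen

open scoped TensorProduct
open Groth.Agent.Lib.Helper24.GamCoef Groth.Agent.Lib.Helper24.GamSpan

universe u

variable {A : Type u} [CommRing A]

section coefmul

variable {I : Type u} [DecidableEq I] {Q : Type u} [CommRing Q] [Algebra A Q]

lemma cf_mul_X_tmul (U : MvPolynomial I A ⊗[A] Q) (j : I) (n : Q) (lam : I →₀ ℕ) :
    cf (MvPolynomial.lcoeff A lam) (U * ((MvPolynomial.X j : MvPolynomial I A) ⊗ₜ[A] n)) =
      if j ∈ lam.support then
        cf (MvPolynomial.lcoeff A (lam - Finsupp.single j 1)) U * n else 0 := by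
  induction U using TensorProduct.induction_on with
  | zero => simp
  | tmul p q =>
    rw [Algebra.TensorProduct.tmul_mul_tmul, cf_tmul, MvPolynomial.lcoeff_apply,
      MvPolynomial.coeff_mul_X']
    split_ifs with h
    · rw [cf_tmul, MvPolynomial.lcoeff_apply, smul_mul_assoc]
    · rw [zero_smul]
  | add x y hx hy =>
    rw [add_mul, map_add, hx, hy]
    split_ifs with h
    · rw [map_add, add_mul]
    · rw [add_zero]

end coefmul

section main

variable {B Cd Ce : Type u} [CommRing B] [DecidableEq B] [Algebra A B] [CommRing Cd] [Algebra A Cd]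
  [CommRing Ce] [Algebra A Ce] {e : ℕ}
  (γd : PolLaw.MulLaw A B Cd (e + 1)) (γe : PolLaw.MulLaw A B Ce e)
  (ω : Cd ⊗[A] B →ₐ[A] Ce ⊗[A] B)
  (hω : ∀ (S : Type u) [CommSemiring S] [Algebra A S] (x y : S ⊗[A] B),
      ω.toLinearMap.lTensor S
        ((Algebra.TensorProduct.includeLeft : Cd →ₐ[A] Cd ⊗[A] B).toLinearMap.lTensor S
            (γd.law.toFun' S x) *
          (Algebra.TensorProduct.includeRight : B →ₐ[A] Cd ⊗[A] B).toLinearMap.lTensor S y) =
      (Algebra.TensorProduct.includeLeft : Ce →ₐ[A] Ce ⊗[A] B).toLinearMap.lTensor S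
          (γe.law.toFun' S x) *
        (Algebra.TensorProduct.includeRight : B →ₐ[A] Ce ⊗[A] B).toLinearMap.lTensor S (x * y))

include hω in
lemma omega_one_tmul (b : B) : ω ((1 : Cd) ⊗ₜ[A] b) = (1 : Ce) ⊗ₜ[A] b := by
  have h := hω A 1 ((1 : A) ⊗ₜ[A] b)
  rw [(γd.mult A).1, (γe.mult A).1, one_mul] at h
  simp only [PolLaw.lTensor_algHom_apply, map_one, one_mul, Algebra.TensorProduct.map_tmul,
    Algebra.TensorProduct.includeRight_apply] at h
  have h2 := congrArg (TensorProduct.lid A (Ce ⊗[A] B)) h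
  simpa using h2

include hω in
lemma key (J₀ : Finset B) (lam : B →₀ ℕ) :
    ω ((cf (MvPolynomial.lcoeff A lam)
        (γd.law.toFun' (MvPolynomial B A) (gen (fun b : B => b) J₀))) ⊗ₜ[A] (1 : B)) =
      ∑ j ∈ J₀, if j ∈ lam.support then
        ((cf (MvPolynomial.lcoeff A (lam - Finsupp.single j 1))
          (γe.law.toFun' (MvPolynomial B A) (gen (fun b : B => b) J₀))) ⊗ₜ[A] (1 : B)) *
          ((1 : Ce) ⊗ₜ[A] j) else 0 := by
  have h := hω (MvPolynomial B A) (gen (fun b : B => b) J₀) 1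
  have e1 : (Algebra.TensorProduct.includeRight : B →ₐ[A] Cd ⊗[A] B).toLinearMap.lTensor
      (MvPolynomial B A) (1 : MvPolynomial B A ⊗[A] B) = 1 := by
    rw [PolLaw.lTensor_algHom_apply, map_one]
  rw [e1, mul_one, mul_one] at h
  have h2 := congrArg (cf (MvPolynomial.lcoeff A lam)) h
  rw [cf_lTensor, cf_lTensor, AlgHom.toLinearMap_apply, AlgHom.toLinearMap_apply,
    Algebra.TensorProduct.includeLeft_apply] at h2
  rw [h2]
  have e2 : (Algebra.TensorProduct.includeRight : B →ₐ[A] Ce ⊗[A] B).toLinearMap.lTensor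
      (MvPolynomial B A) (gen (fun b : B => b) J₀) =
      ∑ j ∈ J₀, (MvPolynomial.X j : MvPolynomial B A) ⊗ₜ[A] ((1 : Ce) ⊗ₜ[A] j) := by
    unfold gen
    rw [map_sum]
    refine Finset.sum_congr rfl fun j _ => ?_
    rw [LinearMap.lTensor_tmul, AlgHom.toLinearMap_apply,
      Algebra.TensorProduct.includeRight_apply]
  rw [e2, Finset.mul_sum, map_sum]
  refine Finset.sum_congr rfl fun j _ => ?_
  rw [cf_mul_X_tmul]
  split_ifs with hj
  · rw [cf_lTensor, AlgHom.toLinearMap_apply, Algebra.TensorProduct.includeLeft_apply]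
  · rfl

include hω in
/-- the coefficients of the generic value of `γe` lie in the range of `ω`. -/
lemma coeff_mem_range (J₀ : Finset B) (h1 : (1 : B) ∈ J₀) :
    ∀ (n : ℕ) (κ : B →₀ ℕ), ∑ j ∈ J₀.erase 1, κ j = n →
      (cf (MvPolynomial.lcoeff A κ)
        (γe.law.toFun' (MvPolynomial B A) (gen (fun b : B => b) J₀))) ⊗ₜ[A] (1 : B) ∈
        ω.range := by
  intro n
  induction n using Nat.strong_induction_on with
  | _ n ih =>
    intro κ hκ
    have hk := key γd γe ω hω J₀ (κ + Finsupp.single 1 1)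
    rw [← Finset.add_sum_erase J₀ _ h1] at hk
    have hsupp : (1 : B) ∈ (κ + Finsupp.single (1 : B) 1).support := by
      rw [Finsupp.mem_support_iff, Finsupp.add_apply, Finsupp.single_eq_same]
      omega
    rw [if_pos hsupp, add_tsub_cancel_right, Algebra.TensorProduct.tmul_mul_tmul, mul_one,
      mul_one] at hk
    have hrec := eq_sub_of_add_eq hk.symm
    rw [hrec]
    refine ω.range.sub_mem ⟨_, rfl⟩ (ω.range.sum_mem fun j hj => ?_)
    split_ifs with hjs
    · have hj1 : j ≠ 1 := (Finset.mem_erase.mp hj).1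
      have hκj : κ j ≠ 0 := by
        rw [Finsupp.mem_support_iff, Finsupp.add_apply, Finsupp.single_apply, if_neg hj1.symm,
          add_zero] at hjs
        exact hjs
      refine ω.range.mul_mem (ih _ ?_ _ rfl) ⟨_, omega_one_tmul γd γe ω hω j⟩
      rw [← hκ]
      apply Finset.sum_lt_sum
      · intro j' hj'
        have hj'1 : j' ≠ 1 := (Finset.mem_erase.mp hj').1
        rw [Finsupp.tsub_apply, Finsupp.add_apply, Finsupp.single_apply, if_neg hj'1.symm,
          add_zero]
        exact Nat.sub_le _ _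
      · refine ⟨j, hj, ?_⟩
        rw [Finsupp.tsub_apply, Finsupp.add_apply, Finsupp.single_apply, if_neg hj1.symm,
          add_zero, Finsupp.single_eq_same]
        omega
    · exact ω.range.zero_mem

include hω in
/-- S13399. -/
theorem iversen_surjective (hγe : PolLaw.IsGammaD γe) : Function.Surjective ω := by
  have hCe : ∀ c : Ce, c ⊗ₜ[A] (1 : B) ∈ ω.range := by
    obtain ⟨m, hm⟩ := exists_family_span γe hγe
    obtain ⟨W, hW⟩ : ∃ W : Submodule A Ce, W = (Subalgebra.toSubmodule ω.range).comap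
        (Algebra.TensorProduct.includeLeft : Ce →ₐ[A] Ce ⊗[A] B).toLinearMap := ⟨_, rfl⟩
    have hWmem : ∀ c : Ce, c ∈ W ↔ c ⊗ₜ[A] (1 : B) ∈ ω.range := fun c => by
      rw [hW]
      rfl
    have htop : (⊤ : Submodule A Ce) ≤ W := by
      rw [← hm, Submodule.span_le]
      rintro _ ⟨κ', rfl⟩
      obtain ⟨J₀, hJ₀⟩ : ∃ J₀ : Finset B, J₀ = insert (1 : B) (κ'.support.image m) := ⟨_, rfl⟩
      have h1 : (1 : B) ∈ J₀ := by
        rw [hJ₀]
        exact Finset.mem_insert_self _ _
      have hmem : Gco m γe.law κ' ∈ N₀ γe.law J₀ := by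
        unfold Gco gen
        refine cf_mem_N₀' γe.law J₀ _ κ'.support _ m (fun i hi => Submodule.subset_span ?_)
        rw [hJ₀]
        exact Finset.mem_coe.mpr (Finset.mem_insert_of_mem (Finset.mem_image_of_mem m hi))
      have hN : N₀ γe.law J₀ ≤ W := by
        unfold N₀ coefSpan
        rw [Submodule.span_le]
        rintro _ ⟨κ, rfl⟩
        exact (hWmem _).mpr (coeff_mem_range γd γe ω hω J₀ h1 _ κ rfl)
      exact hN hmem
    intro c
    exact (hWmem c).mp (htop trivial)
  intro z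
  have hz : z ∈ ω.range := by
    induction z using TensorProduct.induction_on with
    | zero => exact ω.range.zero_mem
    | tmul c b =>
      have e : c ⊗ₜ[A] b = (c ⊗ₜ[A] (1 : B)) * ((1 : Ce) ⊗ₜ[A] b) := by
        rw [Algebra.TensorProduct.tmul_mul_tmul, mul_one, one_mul]
      rw [e]
      exact ω.range.mul_mem (hCe c) ⟨_, omega_one_tmul γd γe ω hω b⟩
    | add x y hx hy => exact ω.range.add_mem hx hy
  exact hz

end main

end Groth.Agent.Lib.Helper24.Iversen
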