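import Groth.Agent.Lib.Helper24.LamFil

/-!
# Elements all of whose `γ^k` lie in the `k`-th level of a filtration (helper24)
-/

set_option autoImplicit false
set_option linter.unusedSectionVars false
universe u v

namespace Groth.Agent.Lib.Helper24.LamGam

open LambdaRing MvPolynomial Groth.Agent.Lib.Helper20 Groth.Agent.Lib.Helper24.LamTest
  Groth.Agent.Lib.Helper24.LamOrd Groth.Agent.Lib.Helper24.LamFil

section GamOrd

variable {A : Type v} [CommRing A] [LambdaOps A] (Φ : MulFil A)

/-- `γ^k z ∈ F^k` for every `k` -/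
def GamOrd (z : A) : Prop := ∀ k : ℕ, gamma k z ∈ Φ.F k

theorem gamOrd_zero : GamOrd Φ (0 : A) := by
  intro k
  rcases Nat.eq_zero_or_pos k with rfl | hk
  · exact Φ.mem_zero _
  · rw [GammaBasic.gamma_apply_zero k hk]
    exact Ideal.zero_mem _

theorem gamOrd_add {y z : A} (hy : GamOrd Φ y) (hz : GamOrd Φ z) : GamOrd Φ (y + z) := by
  intro k
  rw [GammaBasic.gamma_add]
  refine Ideal.sum_mem _ fun i hi => ?_
  rw [Finset.mem_range] at hi
  have h := Φ.mul (hy i) (hz (k - i))
  have e : i + (k - i) = k := by omega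
  rwa [e] at h

theorem gamOrd_neg {y : A} (hy : GamOrd Φ y) : GamOrd Φ (-y) := by
  intro k
  induction k using Nat.strong_induction_on with
  | _ k ih =>
    rcases k with _ | n
    · exact Φ.mem_zero _
    · rw [GammaBasic.gamma_neg_rec]
      refine neg_mem (Ideal.sum_mem _ fun i hi => ?_)
      rw [Finset.mem_range] at hi
      have h := Φ.mul (hy (i + 1)) (ih (n - i) (by omega))
      have e : i + 1 + (n - i) = n + 1 := by omega
      rwa [e] at h

theorem gamOrd_sub {y z : A} (hy : GamOrd Φ y) (hz : GamOrd Φ z) : GamOrd Φ (y - z) := by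
  rw [sub_eq_add_neg]
  exact gamOrd_add Φ hy (gamOrd_neg Φ hz)

theorem gamOrd_sum {ι : Type*} (s : Finset ι) (f : ι → A) (h : ∀ i ∈ s, GamOrd Φ (f i)) :
    GamOrd Φ (∑ i ∈ s, f i) := by
  classical
  induction s using Finset.induction_on with
  | empty => rw [Finset.sum_empty]; exact gamOrd_zero Φ
  | insert a s ha ih =>
    rw [Finset.sum_insert ha]
    exact gamOrd_add Φ (h a (Finset.mem_insert_self a s))
      (ih fun i hi => h i (Finset.mem_insert_of_mem hi))

theorem gamOrd_zsmul {y : A} (hy : GamOrd Φ y) (c : ℤ) : GamOrd Φ (c • y) := by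
  induction c using Int.induction_on with
  | zero => rw [zero_smul]; exact gamOrd_zero Φ
  | succ n ih => rw [add_smul, one_smul]; exact gamOrd_add Φ ih hy
  | pred n ih => rw [sub_smul, one_smul]; exact gamOrd_sub Φ ih hy

end GamOrd

section Test

variable {σ : Type v}

/-- the order filtration of the test ring as a multiplicative filtration -/
noncomputable def aOrdMulFil (σ : Type v) : MulFil (MvPolynomial σ ℤ) where
  F := aOrd σ
  zero := aOrd_zero
  anti := fun h => aOrd_antitone h
  mul := fun hf hg => mul_mem_aOrd hf hg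

theorem mon_sub_one_mem_aOrd (m : σ →₀ ℕ) : mon σ m - 1 ∈ aOrd σ 1 := by
  induction m using Finsupp.induction_linear with
  | zero =>
    have : mon σ (0 : σ →₀ ℕ) = 1 := rfl
    rw [this, sub_self]
    exact Ideal.zero_mem _
  | add m1 m2 h1 h2 =>
    have e : mon σ (m1 + m2) - 1 = mon σ m1 * (mon σ m2 - 1) + (mon σ m1 - 1) := by
      have : mon σ (m1 + m2) = mon σ m1 * mon σ m2 := by
        unfold mon
        rw [monomial_mul, one_mul]
      rw [this]
      ring
    rw [e]
    exact Ideal.add_mem _ (Ideal.mul_mem_left _ _ h2) h1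
  | single a k =>
    have e : mon σ (Finsupp.single a k) = (X a : MvPolynomial σ ℤ) ^ k := by
      unfold mon
      rw [X_pow_eq_monomial]
    rw [e]
    clear e
    induction k with
    | zero => simp
    | succ k ih =>
      have e2 : (X a : MvPolynomial σ ℤ) ^ (k + 1) - 1 = X a ^ k * (X a - 1) + (X a ^ k - 1) := by ring
      rw [e2]
      exact Ideal.add_mem _ (Ideal.mul_mem_left _ _ (X_sub_one_mem_aOrd a)) ih

theorem gamOrd_mon_sub_one (m : σ →₀ ℕ) : GamOrd (aOrdMulFil σ) (mon σ m - 1) := by
  intro k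
  rw [← GammaBasic.coeff_gammaSeries,
    gammaSeries_sub_one (mon σ m) (isLineElt_mon m) (isLineElt_mon (0 : σ →₀ ℕ))]
  rcases k with _ | _ | k
  · exact (aOrdMulFil σ).mem_zero _
  · simp only [map_add, PowerSeries.coeff_one, PowerSeries.coeff_C_mul]
    simp only [one_ne_zero, if_false, zero_add]
    rw [PowerSeries.coeff_one_X, mul_one]
    exact mon_sub_one_mem_aOrd m
  · simp only [map_add, PowerSeries.coeff_one, PowerSeries.coeff_C_mul, PowerSeries.coeff_X]
    simp

/-- the value of `f` at the point `T = 1` -/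
theorem constantCoeff_tau (f : MvPolynomial σ ℤ) :
    constantCoeff (tau σ f) = MvPolynomial.eval (fun _ => (1 : ℤ)) f := by
  have h : (constantCoeff : MvPolynomial σ ℤ →+* ℤ).comp (tau σ).toRingHom =
      MvPolynomial.eval (fun _ => (1 : ℤ)) := by
    apply MvPolynomial.ringHom_ext
    · intro r
      simp
    · intro a
      simp
  exact RingHom.congr_fun h f

theorem eval_one_of_mem_aOrd {f : MvPolynomial σ ℤ} (hf : f ∈ aOrd σ 1) :
    MvPolynomial.eval (fun _ => (1 : ℤ)) f = 0 := by
  rw [← constantCoeff_tau]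
  by_contra hne
  have h0 : (0 : σ →₀ ℕ) ∈ (tau σ f).support := by
    rw [MvPolynomial.mem_support_iff]
    exact hne
  have := hf 0 h0
  simp at this

/-- in the test ring, `γ^k` maps the augmentation ideal into its `k`-th power-like level -/
theorem gamOrd_of_mem_aOrd_one {f : MvPolynomial σ ℤ} (hf : f ∈ aOrd σ 1) :
    GamOrd (aOrdMulFil σ) f := by
  have h1 := eval_one_of_mem_aOrd hf
  have h2 : f = ∑ m ∈ f.support, (coeff m f) • (mon σ m - 1) := by
    have hs : ∑ m ∈ f.support, (coeff m f) • (mon σ m - 1) =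
        ∑ m ∈ f.support, monomial m (coeff m f) - ∑ m ∈ f.support, C (coeff m f) := by
      rw [← Finset.sum_sub_distrib]
      apply Finset.sum_congr rfl
      intro m _
      rw [smul_sub, mon, MvPolynomial.smul_monomial, smul_eq_mul, mul_one]
      congr 1
      rw [zsmul_eq_mul, mul_one]
      simp
    rw [hs, ← f.as_sum]
    have h3 : ∑ m ∈ f.support, (C (coeff m f) : MvPolynomial σ ℤ) = 0 := by
      rw [← map_sum]
      have h4 : MvPolynomial.eval (fun _ => (1 : ℤ)) f = ∑ m ∈ f.support, coeff m f := by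
        rw [MvPolynomial.eval_eq]
        apply Finset.sum_congr rfl
        intro m _
        simp
      rw [← h4, h1, map_zero]
    rw [h3, sub_zero]
  rw [h2]
  apply gamOrd_sum
  intro m _
  exact gamOrd_zsmul _ (gamOrd_mon_sub_one m) _

theorem gamma_mem_aOrd {f : MvPolynomial σ ℤ} (hf : f ∈ aOrd σ 1) (k : ℕ) : gamma k f ∈ aOrd σ k :=
  gamOrd_of_mem_aOrd_one hf k

end Test

end Groth.Agent.Lib.Helper24.LamGam
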