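import Groth.Agent.Lib.Helper24.PosSpecial
import Groth.Agent.Lib.Helper24.LamGam

/-!
# The determinant homomorphism and `L ≅ Gr^1` (helper24)
-/

set_option autoImplicit false
set_option linter.unusedSectionVars false
set_option maxHeartbeats 400000
universe u v

namespace Groth.Agent.Lib.Helper24.PosDet

open LambdaRing MvPolynomial Groth.Agent.Lib.Helper20 Groth.Agent.Lib.Helper24.LamTest
  Groth.Agent.Lib.Helper24.PosGam Groth.Agent.Lib.Helper24.PosFil
  Groth.Agent.Lib.Helper24.PosSpecial Groth.Agent.Lib.Helper24.LamFil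
  Groth.Agent.Lib.Helper24.LamGam
  Groth.Agent.Lib.Helper3.LambdaAdams Groth.Agent.Lib.Helper6.LambdaBasic

section MonExp

variable {σ : Type v} {G : Type u} [CommGroup G] (g : (σ →₀ ℕ) → G)

/-- the "exponential" `Σ c_m T^m ↦ ∏ g(m)^{c_m}` -/
noncomputable def monExp (f : MvPolynomial σ ℤ) : G := ∏ m ∈ f.support, g m ^ (coeff m f)

theorem monExp_eq_prod_of_subset (f : MvPolynomial σ ℤ) (S : Finset (σ →₀ ℕ)) (hS : f.support ⊆ S) :
    monExp g f = ∏ m ∈ S, g m ^ (coeff m f) := by
  unfold monExp
  apply Finset.prod_subset hS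
  intro m _ hm
  rw [MvPolynomial.notMem_support_iff.mp hm, zpow_zero]

theorem monExp_add (f h : MvPolynomial σ ℤ) : monExp g (f + h) = monExp g f * monExp g h := by
  classical
  rw [monExp_eq_prod_of_subset g (f + h) (f.support ∪ h.support) MvPolynomial.support_add,
    monExp_eq_prod_of_subset g f (f.support ∪ h.support) Finset.subset_union_left,
    monExp_eq_prod_of_subset g h (f.support ∪ h.support) Finset.subset_union_right,
    ← Finset.prod_mul_distrib]
  apply Finset.prod_congr rfl
  intro m _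
  rw [coeff_add, zpow_add]

theorem monExp_zero : monExp g (0 : MvPolynomial σ ℤ) = 1 := by
  unfold monExp
  rw [MvPolynomial.support_zero, Finset.prod_empty]

theorem monExp_monomial (m : σ →₀ ℕ) (c : ℤ) : monExp g (monomial m c) = g m ^ c := by
  classical
  rw [monExp_eq_prod_of_subset g (monomial m c) {m} MvPolynomial.support_monomial_subset,
    Finset.prod_singleton, MvPolynomial.coeff_monomial, if_pos rfl]

theorem monExp_mon (m : σ →₀ ℕ) : monExp g (mon σ m) = g m := by
  rw [mon, monExp_monomial, zpow_one]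

/-- `monExp` as an additive homomorphism -/
noncomputable def monExpHom : MvPolynomial σ ℤ →+ Additive G where
  toFun f := Additive.ofMul (monExp g f)
  map_zero' := by rw [monExp_zero]; rfl
  map_add' f h := by rw [monExp_add]; rfl

theorem monExpHom_apply (f : MvPolynomial σ ℤ) : monExpHom g f = Additive.ofMul (monExp g f) := rfl

theorem monExp_neg (f : MvPolynomial σ ℤ) : monExp g (-f) = (monExp g f)⁻¹ := by
  have h := map_neg (monExpHom g) f
  exact congrArg Additive.toMul h

theorem monExp_sub (f h : MvPolynomial σ ℤ) : monExp g (f - h) = monExp g f / monExp g h := by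
  rw [sub_eq_add_neg, monExp_add, monExp_neg, div_eq_mul_inv]

theorem monExp_zsmul (c : ℤ) (f : MvPolynomial σ ℤ) : monExp g (c • f) = monExp g f ^ c := by
  have h := map_zsmul (monExpHom g) c f
  exact congrArg Additive.toMul h

end MonExp

section Top

variable {K : Type u} [CommRing K] [LambdaOps K] (P : PosStructure K)

/-- the top exterior power ("determinant") of a positive element -/
def top (e : K) : K := LambdaOps.lam (P.aug e).toNat e

theorem toNat_aug_add {e e' : K} (he : e ∈ P.pos) (he' : e' ∈ P.pos) :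
    (P.aug (e + e')).toNat = (P.aug e).toNat + (P.aug e').toNat := by
  rw [map_add, Int.toNat_add (P.aug_pos e he).le (P.aug_pos e' he').le]

theorem top_add {e e' : K} (he : e ∈ P.pos) (he' : e' ∈ P.pos) :
    top P (e + e') = top P e * top P e' := by
  unfold top
  rw [toNat_aug_add P he he', LambdaOps.lam_add]
  rw [Finset.sum_eq_single (P.aug e).toNat]
  · rw [Nat.add_sub_cancel_left]
  · intro i hi hne
    rcases Nat.lt_or_gt_of_ne hne with h | h
    · rw [lam_eq_zero_of_lt he' _ (by omega), mul_zero]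
    · rw [lam_eq_zero_of_lt he _ h, zero_mul]
  · intro h
    exfalso
    apply h
    rw [Finset.mem_range]
    omega

theorem top_line {w : K} (hw : P.IsLine w) : top P w = w := by
  unfold top
  rw [hw.2]
  exact LambdaOps.lam_one w

theorem top_one : top P (1 : K) = 1 := top_line P (one_isLine P)

theorem isUnit_top {e : K} (he : e ∈ P.pos) : IsUnit (top P e) := P.isUnit_lam e he

/-- `d = det x`, as a relation: `x = e - f` with `d * det f = det e` -/
def DetRel (x d : K) : Prop :=
  ∃ e f, e ∈ P.pos ∧ f ∈ P.pos ∧ x = e - f ∧ d * top P f = top P e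

variable {P}

theorem detRel_unique {x d d' : K} (h : DetRel P x d) (h' : DetRel P x d') : d = d' := by
  obtain ⟨e, f, he, hf, rfl, h1⟩ := h
  obtain ⟨e', f', he', hf', hx, h2⟩ := h'
  have h3 : e + f' = e' + f := by linear_combination hx
  have h4 : top P e * top P f' = top P e' * top P f := by
    rw [← top_add P he hf', ← top_add P he' hf, h3]
  have h5 : d * (top P f * top P f') = d' * (top P f * top P f') := by
    calc d * (top P f * top P f') = (d * top P f) * top P f' := by ring
      _ = top P e * top P f' := by rw [h1]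
      _ = top P e' * top P f := h4
      _ = (d' * top P f') * top P f := by rw [h2]
      _ = _ := by ring
  exact ((isUnit_top P hf).mul (isUnit_top P hf')).mul_left_injective h5

theorem detRel_add {x y d d' : K} (h : DetRel P x d) (h' : DetRel P y d') :
    DetRel P (x + y) (d * d') := by
  obtain ⟨e, f, he, hf, rfl, h1⟩ := h
  obtain ⟨e', f', he', hf', rfl, h2⟩ := h'
  refine ⟨e + e', f + f', P.add_mem _ _ he he', P.add_mem _ _ hf hf', by ring, ?_⟩
  rw [top_add P hf hf', top_add P he he', ← h1, ← h2]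
  ring

theorem detRel_neg {x d d' : K} (h : DetRel P x d) (hd : d * d' = 1) : DetRel P (-x) d' := by
  obtain ⟨e, f, he, hf, rfl, h1⟩ := h
  refine ⟨f, e, hf, he, by ring, ?_⟩
  rw [← h1]
  calc d' * (d * top P f) = (d * d') * top P f := by ring
    _ = top P f := by rw [hd, one_mul]

variable (P) in
theorem detRel_zero : DetRel P 0 1 :=
  ⟨1, 1, one_mem_pos P, one_mem_pos P, by ring, by rw [one_mul]⟩

variable (P) in
theorem detRel_exists (x : K) : ∃ d, DetRel P x d := by
  obtain ⟨e, f, he, hf, rfl⟩ := P.exists_sub x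
  obtain ⟨u, hu⟩ := isUnit_top P hf
  refine ⟨top P e * ↑u⁻¹, e, f, he, hf, rfl, ?_⟩
  rw [← hu, mul_assoc, Units.inv_mul, mul_one]

theorem detRel_line {w : K} (hw : P.IsLine w) : DetRel P (w - 1) w :=
  ⟨w, 1, hw.1, one_mem_pos P, rfl, by rw [top_one, mul_one, top_line P hw]⟩

theorem detRel_line' {w : K} (hw : P.IsLine w) : DetRel P w w :=
  ⟨w + 1, 1, P.add_mem _ _ hw.1 (one_mem_pos P), one_mem_pos P, by ring,
    by rw [top_add P hw.1 (one_mem_pos P), top_one, top_line P hw]⟩

theorem detRel_zsmul {x : K} {u : Kˣ} (h : DetRel P x u) (c : ℤ) :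
    DetRel P (c • x) ((u ^ c : Kˣ) : K) := by
  induction c using Int.induction_on with
  | zero =>
    rw [zero_smul, zpow_zero, Units.val_one]
    exact detRel_zero P
  | succ n ih =>
    rw [add_smul, one_smul, zpow_add, zpow_one, Units.val_mul]
    exact detRel_add ih h
  | pred n ih =>
    rw [sub_smul, one_smul, zpow_sub_one, Units.val_mul, sub_eq_add_neg]
    exact detRel_add ih (detRel_neg h (Units.mul_inv u))

section Map

variable {K' : Type u} [CommRing K'] [LambdaOps K'] {P' : PosStructure K'} {f : K →+* K'}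

theorem top_map (hf : IsExtension P P' f) (e : K) : f (top P e) = top P' (f e) := by
  unfold top
  rw [hf.isLambdaHom, hf.aug_comp]

theorem detRel_map (hf : IsExtension P P' f) {x d : K} (h : DetRel P x d) :
    DetRel P' (f x) (f d) := by
  obtain ⟨e, f0, he, hf0, rfl, h1⟩ := h
  refine ⟨f e, f f0, hf.pos_subset _ he, hf.pos_subset _ hf0, map_sub _ _ _, ?_⟩
  rw [← top_map hf, ← top_map hf, ← map_mul, h1]

end Map

end Top

section Kill

variable {σ : Type v} {G : Type u} [CommGroup G] (g : (σ →₀ ℕ) → G)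

/-- the augmentation ideal of the test ring (the kernel of evaluation at `T = 1`) -/
noncomputable def augI (σ : Type v) : Ideal (MvPolynomial σ ℤ) :=
  RingHom.ker (MvPolynomial.eval (fun _ : σ => (1 : ℤ)))

theorem mem_augI {f : MvPolynomial σ ℤ} : f ∈ augI σ ↔ MvPolynomial.eval (fun _ => (1 : ℤ)) f = 0 :=
  RingHom.mem_ker

theorem eval_mon (m : σ →₀ ℕ) : MvPolynomial.eval (fun _ => (1 : ℤ)) (mon σ m) = 1 := by
  rw [mon, MvPolynomial.eval_monomial]
  simp

theorem mon_sub_one_mem_augI (m : σ →₀ ℕ) : mon σ m - 1 ∈ augI σ := by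
  rw [mem_augI, map_sub, eval_mon, map_one, sub_self]

theorem decomp {f : MvPolynomial σ ℤ} (h1 : MvPolynomial.eval (fun _ => (1 : ℤ)) f = 0) :
    f = ∑ m ∈ f.support, (coeff m f) • (mon σ m - 1) := by
  have hs : ∑ m ∈ f.support, (coeff m f) • (mon σ m - 1) =
      ∑ m ∈ f.support, monomial m (coeff m f) - ∑ m ∈ f.support, C (coeff m f) := by
    rw [← Finset.sum_sub_distrib]
    apply Finset.sum_congr rfl
    intro m _
    rw [smul_sub, mon, MvPolynomial.smul_monomial, smul_eq_mul, mul_one]
    congr 1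
    rw [zsmul_eq_mul, mul_one]
    simp
  rw [hs, ← f.as_sum]
  have h3 : ∑ m ∈ f.support, (C (coeff m f) : MvPolynomial σ ℤ) = 0 := by
    rw [← map_sum]
    have h4 : MvPolynomial.eval (fun _ => (1 : ℤ)) f = ∑ m ∈ f.support, coeff m f := by
      rw [MvPolynomial.eval_eq]
      apply Finset.sum_congr rfl
      intro m _
      simp
    rw [← h4, h1, map_zero]
  rw [h3, sub_zero]

theorem mem_closure_of_mem_augI {f : MvPolynomial σ ℤ} (hf : f ∈ augI σ) :
    f ∈ AddSubgroup.closure (Set.range fun m : σ →₀ ℕ => mon σ m - 1) := by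
  rw [decomp (mem_augI.mp hf)]
  apply AddSubgroup.sum_mem
  intro m _
  apply AddSubgroup.zsmul_mem
  exact AddSubgroup.subset_closure ⟨m, rfl⟩

variable {g}

theorem monExp_basic (hg : ∀ m n, g (m + n) = g m * g n) (m n : σ →₀ ℕ) :
    monExp g ((mon σ m - 1) * (mon σ n - 1)) = 1 := by
  have h0 : g 0 = 1 := by
    have := hg 0 0
    rw [add_zero] at this
    exact (mul_eq_left.mp this.symm)
  have e : (mon σ m - 1) * (mon σ n - 1) = mon σ (m + n) - mon σ m - mon σ n + mon σ 0 := by
    have h1 : mon σ (m + n) = mon σ m * mon σ n := by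
      unfold mon
      rw [monomial_mul, one_mul]
    have h2 : mon σ (0 : σ →₀ ℕ) = 1 := rfl
    rw [h1, h2]
    ring
  rw [e, monExp_add, monExp_sub, monExp_sub, monExp_mon, monExp_mon, monExp_mon, monExp_mon, hg, h0]
  simp

theorem monExp_mul_eq_one (hg : ∀ m n, g (m + n) = g m * g n) {a b : MvPolynomial σ ℤ}
    (ha : a ∈ augI σ) (hb : b ∈ augI σ) : monExp g (a * b) = 1 := by
  have key : ∀ c : MvPolynomial σ ℤ, (∀ m, monExp g ((mon σ m - 1) * c) = 1) →
      ∀ a ∈ augI σ, monExp g (a * c) = 1 := by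
    intro c hc a ha
    have hle : AddSubgroup.closure (Set.range fun m : σ →₀ ℕ => mon σ m - 1) ≤
        ((monExpHom g).comp (AddMonoidHom.mulRight c)).ker := by
      rw [AddSubgroup.closure_le]
      rintro _ ⟨m, rfl⟩
      rw [SetLike.mem_coe, AddMonoidHom.mem_ker, AddMonoidHom.comp_apply, AddMonoidHom.mulRight_apply,
        monExpHom_apply, hc m]
      rfl
    have := hle (mem_closure_of_mem_augI ha)
    rw [AddMonoidHom.mem_ker, AddMonoidHom.comp_apply, AddMonoidHom.mulRight_apply,
      monExpHom_apply] at this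
    exact this
  apply key b _ a ha
  intro m
  rw [mul_comm]
  apply key (mon σ m - 1) _ b hb
  intro n
  exact monExp_basic hg n m

theorem monExp_eq_one_of_mem_sq (hg : ∀ m n, g (m + n) = g m * g n) {f : MvPolynomial σ ℤ}
    (hf : f ∈ augI σ ^ 2) : monExp g f = 1 := by
  rw [pow_two] at hf
  refine Submodule.mul_induction_on hf ?_ ?_
  · intro a ha b hb
    exact monExp_mul_eq_one hg ha hb
  · intro x y hx hy
    rw [monExp_add, hx, hy, one_mul]

end Kill

section AugFil

variable {σ : Type v}

/-- the adic filtration of the augmentation ideal of the test ring -/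
noncomputable def augFil (σ : Type v) : MulFil (MvPolynomial σ ℤ) where
  F k := augI σ ^ k
  zero := by rw [pow_zero, Ideal.one_eq_top]
  anti h := Ideal.pow_le_pow_right h
  mul hy hz := by
    rw [pow_add]
    exact Ideal.mul_mem_mul hy hz

theorem gamOrd_mon_sub_one' (m : σ →₀ ℕ) : GamOrd (augFil σ) (mon σ m - 1) := by
  intro k
  rw [← GammaBasic.coeff_gammaSeries,
    LamOrd.gammaSeries_sub_one (mon σ m) (isLineElt_mon m) (isLineElt_mon (0 : σ →₀ ℕ))]
  rcases k with _ | _ | k
  · exact (augFil σ).mem_zero _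
  · simp only [map_add, PowerSeries.coeff_one, PowerSeries.coeff_C_mul]
    simp only [one_ne_zero, if_false, zero_add]
    rw [PowerSeries.coeff_one_X, mul_one]
    show mon σ m - 1 ∈ augI σ ^ (0 + 1)
    rw [zero_add, pow_one]
    exact mon_sub_one_mem_augI m
  · simp only [map_add, PowerSeries.coeff_one, PowerSeries.coeff_C_mul, PowerSeries.coeff_X]
    simp

theorem gamOrd_of_mem_augI {f : MvPolynomial σ ℤ} (hf : f ∈ augI σ) : GamOrd (augFil σ) f := by
  rw [decomp (mem_augI.mp hf)]
  apply gamOrd_sum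
  intro m _
  exact gamOrd_zsmul _ (gamOrd_mon_sub_one' m) _

end AugFil

section TestDet

variable {L : Type u} [CommRing L] [LambdaOps L] (P : PosStructure L)

/-- the unit `φ_L(T^m)` -/
noncomputable def gU (m : Lines P →₀ ℕ) : Lˣ :=
  (isUnit_of_isLine P (isLine_phiL_mon P m)).unit

theorem gU_val (m : Lines P →₀ ℕ) : ((gU P m : Lˣ) : L) = phiL P (mon (Lines P) m) :=
  IsUnit.unit_spec _

theorem gU_add (m n : Lines P →₀ ℕ) : gU P (m + n) = gU P m * gU P n := by
  apply Units.ext
  rw [Units.val_mul, gU_val, gU_val, gU_val, ← map_mul]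
  congr 1
  unfold mon
  rw [monomial_mul, one_mul]

/-- the determinant of `φ_L(H)` is the exponential of `H` -/
theorem detRel_phiL (H : MvPolynomial (Lines P) ℤ) :
    DetRel P (phiL P H) ((monExp (gU P) H : Lˣ) : L) := by
  induction H using MvPolynomial.induction_on' with
  | monomial m c =>
    have h : monomial m c = c • mon (Lines P) m := by
      rw [mon, MvPolynomial.smul_monomial, smul_eq_mul, mul_one]
    rw [monExp_monomial, h, map_zsmul]
    apply detRel_zsmul
    rw [gU_val]
    exact detRel_line' (isLine_phiL_mon P m)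
  | add p q hp hq =>
    rw [map_add, monExp_add, Units.val_mul]
    exact detRel_add hp hq

theorem eval_XS (s : Multiset L) (hs : ∀ w ∈ s, P.IsLine w) :
    MvPolynomial.eval (fun _ => (1 : ℤ)) (XS P s hs) = (Multiset.card s : ℤ) := by
  rw [XS, map_multiset_sum, Multiset.map_pmap]
  have h : Multiset.pmap (fun w hw => MvPolynomial.eval (fun _ => (1 : ℤ))
        (X (⟨w, hw⟩ : Lines P) : MvPolynomial (Lines P) ℤ)) s hs =
      Multiset.pmap (fun _ _ => (1 : ℤ)) s hs := by
    apply Multiset.pmap_congr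
    intro w _ hw _
    rw [MvPolynomial.eval_X]
  rw [h, Multiset.pmap_eq_map, Multiset.map_const', Multiset.sum_replicate, nsmul_eq_mul, mul_one]

end TestDet

section Main

variable {K : Type u} [CommRing K] [LambdaOps K] {P : PosStructure K}

/-- joint lifting of finitely many elements of augmentation zero to the test ring of a splitting
extension -/
theorem exists_lift_list (hK : HasSplitting K P) (l : List (ℕ × K)) (hl : ∀ p ∈ l, P.aug p.2 = 0) :
    ∃ (L : PosLambdaRing.{u}) (f : K →+* L.carrier), IsExtension P L.posStr f ∧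
      ∃ xT : ℕ × K → MvPolynomial (Lines L.posStr) ℤ,
        ∀ p ∈ l, xT p ∈ augI (Lines L.posStr) ∧ phiL L.posStr (xT p) = f p.2 := by
  choose eE fE heE hfE hx using P.exists_sub
  obtain ⟨L, f, hf, hall⟩ := exists_split_list
    (l.map (fun p => eE p.2) ++ l.map (fun p => fE p.2)).length K P hK
    (l.map (fun p => eE p.2) ++ l.map (fun p => fE p.2)) rfl (by
      intro e he
      rcases List.mem_append.mp he with h | h
      · obtain ⟨p, _, rfl⟩ := List.mem_map.mp h
        exact heE _
      · obtain ⟨p, _, rfl⟩ := List.mem_map.mp h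
        exact hfE _)
  refine ⟨L, f, hf, ?_⟩
  have h : ∀ p ∈ l, ∃ xT : MvPolynomial (Lines L.posStr) ℤ,
      xT ∈ augI (Lines L.posStr) ∧ phiL L.posStr xT = f p.2 := by
    intro p hp
    obtain ⟨s1, hs1, hsum1⟩ := hall (eE p.2)
      (List.mem_append_left _ (List.mem_map.mpr ⟨p, hp, rfl⟩))
    obtain ⟨s2, hs2, hsum2⟩ := hall (fE p.2)
      (List.mem_append_right _ (List.mem_map.mpr ⟨p, hp, rfl⟩))
    refine ⟨XS L.posStr s1 hs1 - XS L.posStr s2 hs2, ?_, ?_⟩
    · rw [mem_augI, map_sub, eval_XS, eval_XS, ← aug_sum_lines L.posStr s1 hs1,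
        ← aug_sum_lines L.posStr s2 hs2, hsum1, hsum2, hf.aug_comp, hf.aug_comp, ← map_sub, ← hx]
      exact hl p hp
    · rw [map_sub, phiL_XS, phiL_XS, hsum1, hsum2, ← map_sub, ← hx]
  choose! xT hxT using h
  exact ⟨xT, hxT⟩

/-- the determinant of a generator of `F^2` is trivial -/
theorem detRel_pgens (hK : HasSplitting K P) {y : K} (hy : y ∈ pgens P 2) : DetRel P y 1 := by
  obtain ⟨l, hl, hsum, rfl⟩ := hy
  obtain ⟨d, hd⟩ := detRel_exists P (l.map fun p => gamma p.1 p.2).prod
  obtain ⟨L, f, hf, xT, hxT⟩ := exists_lift_list hK l hl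
  have hGT : (l.map fun p => gamma p.1 (xT p)).prod ∈ augI (Lines L.posStr) ^ 2 := by
    have h1 := (augFil (Lines L.posStr)).list_prod_mem l (fun p => gamma p.1 (xT p)) Prod.fst
      (fun p hp => gamOrd_of_mem_augI (hxT p hp).1 p.1)
    exact (augFil (Lines L.posStr)).anti hsum h1
  have hφ : phiL L.posStr (l.map fun p => gamma p.1 (xT p)).prod =
      f (l.map fun p => gamma p.1 p.2).prod := by
    rw [map_list_prod, map_list_prod, List.map_map, List.map_map]
    congr 1
    apply List.map_congr_left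
    intro p hp
    simp only [Function.comp]
    rw [LamHom.map_gamma _ (phiL_lam L.posStr), (hxT p hp).2, LamHom.map_gamma f hf.isLambdaHom]
  have h1 := detRel_phiL L.posStr (l.map fun p => gamma p.1 (xT p)).prod
  rw [monExp_eq_one_of_mem_sq (gU_add L.posStr) hGT, Units.val_one, hφ] at h1
  have h2 := detRel_map hf hd
  have h3 : f d = 1 := detRel_unique h2 h1
  have h4 : d = 1 := hf.injective (h3.trans (map_one f).symm)
  rw [h4] at hd
  exact hd

/-- the determinant is trivial on `F^2` -/
theorem detRel_of_mem_fil (hK : HasSplitting K P) {x : K} (hx : x ∈ gammaFiltration P 2) :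
    DetRel P x 1 := by
  rw [gammaFiltration_of_ne_zero P (by norm_num)] at hx
  refine AddSubgroup.closure_induction ?_ ?_ ?_ ?_ hx
  · intro y hy
    exact detRel_pgens hK hy
  · exact detRel_zero P
  · intro x y _ _ hx hy
    have := detRel_add hx hy
    rwa [one_mul] at this
  · intro x _ hx
    exact detRel_neg hx (one_mul 1)

/-- a line element congruent to `1` modulo `F^2` is `1` -/
theorem line_eq_one (hK : HasSplitting K P) {w : K} (hw : P.IsLine w)
    (h : w - 1 ∈ gammaFiltration P 2) : w = 1 :=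
  detRel_unique (detRel_line hw) (detRel_of_mem_fil hK h)

/-- **injectivity of `L → Gr^1`** -/
theorem line_injective (hK : HasSplitting K P)
    (hLinv : ∀ w : K, P.IsLine w → ∃ w' : K, P.IsLine w' ∧ w * w' = 1)
    {u v : K} (hu : P.IsLine u) (hv : P.IsLine v) (h : u - v ∈ gammaFiltration P 2) : u = v := by
  obtain ⟨v', hv', hvv⟩ := hLinv v hv
  have h1 : u * v' - 1 ∈ gammaFiltration P 2 := by
    have e : u * v' - 1 = v' * (u - v) := by
      rw [mul_sub, mul_comm v' v, hvv]
      ring
    rw [e]
    exact PosFil.mul_mem_left P 2 v' h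
  have h2 := line_eq_one hK (isLine_mul P hu hv') h1
  calc u = u * (v * v') := by rw [hvv, mul_one]
    _ = (u * v') * v := by ring
    _ = v := by rw [h2, one_mul]

section Surj

theorem aug_gamma (hK : HasSplitting K P) {x : K} (hx : P.aug x = 0) {k : ℕ} (hk : k ≠ 0) :
    P.aug (gamma k x) = 0 := by
  unfold gamma
  rw [if_neg hk, map_sum]
  apply Finset.sum_eq_zero
  intro j _
  rw [map_mul]
  split_ifs with hj
  · rw [map_zero, mul_zero]
  · rw [aug_lam hK, hx, Ring.choose_zero_pos ℤ (Nat.pos_of_ne_zero hj), mul_zero]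

/-- `F^n ⊆ Ker ε` for `n ≥ 1` -/
theorem aug_eq_zero_of_mem (hK : HasSplitting K P) {n : ℕ} (hn : n ≠ 0) {x : K}
    (hx : x ∈ gammaFiltration P n) : P.aug x = 0 := by
  rw [gammaFiltration_of_ne_zero P hn] at hx
  refine AddSubgroup.closure_induction ?_ ?_ ?_ ?_ hx
  · rintro y ⟨l, hl, hsum, rfl⟩
    have hex : ∃ p ∈ l, p.1 ≠ 0 := by
      by_contra hcon
      push Not at hcon
      have : (l.map Prod.fst).sum = 0 := by
        apply List.sum_eq_zero
        intro a ha
        obtain ⟨p, hp, rfl⟩ := List.mem_map.mp ha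
        exact hcon p hp
      omega
    obtain ⟨p, hp, hp0⟩ := hex
    rw [map_list_prod, List.map_map]
    apply List.prod_eq_zero
    rw [List.mem_map]
    exact ⟨p, hp, aug_gamma hK (hl p hp) hp0⟩
  · exact map_zero _
  · intro x y _ _ hx hy
    rw [map_add, hx, hy, add_zero]
  · intro x _ hx
    rw [map_neg, hx, neg_zero]

theorem top_eq_sum {e : K} (he : e ∈ P.pos) :
    top P e = ∑ i ∈ Finset.range ((P.aug e).toNat + 1), gamma i (e - ((P.aug e).toNat : K)) := by
  have h := congrArg (fun q : Polynomial K => q.eval 1) (gamma_sub_aug_identity he)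
  simp only [Polynomial.eval_finsetSum, Polynomial.eval_mul, Polynomial.eval_C, Polynomial.eval_pow,
    Polynomial.eval_X, Polynomial.eval_sub, Polynomial.eval_one, one_pow, mul_one, sub_self] at h
  rw [h, Finset.sum_eq_single (P.aug e).toNat]
  · rw [Nat.sub_self, pow_zero, mul_one]
    rfl
  · intro i hi hne
    rw [Finset.mem_range] at hi
    rw [zero_pow (by omega), mul_zero]
  · intro h'
    exact absurd (Finset.mem_range.mpr (Nat.lt_succ_self _)) h'

/-- `det e - 1 ≡ e - ε(e)` modulo `F^2` -/
theorem top_sub_mem {e : K} (he : e ∈ P.pos) :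
    top P e - 1 - (e - ((P.aug e).toNat : K)) ∈ gammaFiltration P 2 := by
  have haug : P.aug (e - ((P.aug e).toNat : K)) = 0 := by
    rw [map_sub, map_natCast, natCast_toNat_aug he, sub_self]
  obtain ⟨k, hk⟩ : ∃ k, (P.aug e).toNat = k + 1 := by
    have := P.aug_pos e he
    exact ⟨(P.aug e).toNat - 1, by omega⟩
  rw [top_eq_sum he]
  generalize (P.aug e).toNat = r at haug hk ⊢
  subst hk
  rw [Finset.sum_range_succ', Finset.sum_range_succ', GammaBasic.gamma_zero_apply,
    GammaBasic.gamma_one_apply]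
  have e1 : ∀ S z : K, S + z + 1 - 1 - z = S := by
    intro S z
    ring
  rw [e1]
  apply AddSubgroup.sum_mem
  intro i _
  exact PosFil.antitone P (by omega) (PosFil.gamma_mem P (i + 1 + 1) haug)

theorem isLine_top (hK : HasSplitting K P)
    (hdet : ∀ e : K, e ∈ P.pos → LambdaOps.lam (P.aug e).toNat e ∈ P.pos) {e : K} (he : e ∈ P.pos) :
    P.IsLine (top P e) := by
  refine ⟨hdet e he, ?_⟩
  unfold top
  rw [aug_lam hK]
  have h := natCast_toNat_aug he
  generalize (P.aug e).toNat = r at h
  rw [← h, Ring.choose_natCast, Nat.choose_self, Nat.cast_one]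

theorem line_sub_one_mem {w : K} (hw : P.IsLine w) : w - 1 ∈ gammaFiltration P 1 := by
  have h := PosFil.pgens_subset P 1 (PosFil.sub_aug_mem_pgens P w)
  rw [hw.2, Int.cast_one] at h
  exact h

/-- **surjectivity of `L → Gr^1`** -/
theorem exists_line (hK : HasSplitting K P)
    (hLinv : ∀ w : K, P.IsLine w → ∃ w' : K, P.IsLine w' ∧ w * w' = 1)
    (hdet : ∀ e : K, e ∈ P.pos → LambdaOps.lam (P.aug e).toNat e ∈ P.pos)
    {x : K} (hx : x ∈ gammaFiltration P 1) :
    ∃ u : K, P.IsLine u ∧ x - (u - 1) ∈ gammaFiltration P 2 := by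
  have h0 := aug_eq_zero_of_mem hK one_ne_zero hx
  obtain ⟨e, f, he, hf, rfl⟩ := P.exists_sub x
  have hr : (P.aug e).toNat = (P.aug f).toNat := by
    rw [map_sub, sub_eq_zero] at h0
    rw [h0]
  have ha := isLine_top hK hdet he
  have hb := isLine_top hK hdet hf
  obtain ⟨b', hb', hbb⟩ := hLinv _ hb
  refine ⟨top P e * b', isLine_mul P ha hb', ?_⟩
  have h1 := top_sub_mem he
  have h2 := top_sub_mem hf
  have h3 : (top P e - top P f) * (1 - b') ∈ gammaFiltration P 2 := by
    have h4 : top P e - top P f ∈ gammaFiltration P 1 := by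
      have := sub_mem (line_sub_one_mem ha) (line_sub_one_mem hb)
      rwa [sub_sub_sub_cancel_right] at this
    have h5 : 1 - b' ∈ gammaFiltration P 1 := by
      have := neg_mem (line_sub_one_mem hb')
      rwa [neg_sub] at this
    exact PosFil.mul_mem P h4 h5
  have e1 : e - f - (top P e * b' - 1) =
      (top P f - 1 - (f - ((P.aug f).toNat : K))) - (top P e - 1 - (e - ((P.aug e).toNat : K)))
        + (top P e - top P f) * (1 - b') := by
    rw [hr]
    linear_combination (-1 : K) * hbb
  rw [e1]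
  exact add_mem (sub_mem h2 h1) h3

end Surj

end Main

end Groth.Agent.Lib.Helper24.PosDet
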