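import Groth.Agent.Lib.Helper24.KGrCh
import Groth.Agent.Lib.Helper24.PosDet

/-!
# The Chern character is bijective rationally (helper24)
-/

set_option autoImplicit false
set_option linter.unusedSectionVars false
set_option maxHeartbeats 400000
universe u v

namespace Groth.Agent.Lib.Helper24.KGrBij

open LambdaRing KGr TensorProduct Groth.Agent.Lib.Helper20
  Groth.Agent.Lib.Helper24.KGrRees Groth.Agent.Lib.Helper24.KGrNu Groth.Agent.Lib.Helper24.KGrCh
  Groth.Agent.Lib.Helper24.PosFil Groth.Agent.Lib.Helper24.PosSpecial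

variable {K : Type v} [CommRing K] [LambdaOps K] {P : PosStructure K}

theorem sub_aug_mem_one (x : K) : x - ((P.aug x : ℤ) : K) ∈ gammaFiltration P 1 :=
  PosFil.pgens_subset P 1 (PosFil.sub_aug_mem_pgens P x)

theorem chK_add (d : ℕ) (hd : gammaFiltration P (d + 1) = ⊥) (x y : K) :
    chK P d (x + y) = chK P d x + chK P d y := by
  rw [chK_eq d hd, chK_eq d hd x, chK_eq d hd y]
  have e : x + y - ((P.aug (x + y) : ℤ) : K) =
      (x - ((P.aug x : ℤ) : K)) + (y - ((P.aug y : ℤ) : K)) := by
    rw [map_add]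
    push_cast
    ring
  rw [e, Finset.sum_congr rfl fun n _ => chN_add (aug_sub_aug x) (aug_sub_aug y) n,
    Finset.sum_add_distrib, map_add, Int.cast_add, map_add]
  abel

/-- the Chern character as an additive map -/
noncomputable def chAdd (P : PosStructure K) (d : ℕ) (hd : gammaFiltration P (d + 1) = ⊥) : K →+ Gr P :=
  AddMonoidHom.mk' (chK P d) (chK_add d hd)

/-- the rational Chern character -/
noncomputable def Phi (P : PosStructure K) (d : ℕ) (hd : gammaFiltration P (d + 1) = ⊥) :
    ℚ ⊗[ℤ] K →ₗ[ℚ] Gr P :=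
  (chAdd P d hd).toIntLinearMap.liftBaseChange ℚ

theorem Phi_tmul (d : ℕ) (hd : gammaFiltration P (d + 1) = ⊥) (q : ℚ) (x : K) :
    Phi P d hd (q ⊗ₜ[ℤ] x) = q • chK P d x := rfl

theorem Phi_one_tmul (d : ℕ) (hd : gammaFiltration P (d + 1) = ⊥) (x : K) :
    Phi P d hd ((1 : ℚ) ⊗ₜ[ℤ] x) = chK P d x := by
  rw [Phi_tmul, one_smul]

/-- the Chern character of an element of `F^n` -/
theorem chK_of_mem (hK : HasSplitting K P) (d : ℕ) (hd : gammaFiltration P (d + 1) = ⊥) {n : ℕ}
    (hn : 1 ≤ n) (hnd : n ≤ d) {x : K} (hx : x ∈ gammaFiltration P n) :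
    chK P d x = gr P n x + ∑ k ∈ Finset.Ioc n d, chN P x k := by
  have haug : P.aug x = 0 := PosDet.aug_eq_zero_of_mem hK (by omega) hx
  rw [chK_eq d hd, haug, Int.cast_zero, Int.cast_zero, map_zero, zero_add, sub_zero]
  have hsplit : Finset.range (d + 1) = Finset.range n ∪ ({n} ∪ Finset.Ioc n d) := by
    ext k
    simp only [Finset.mem_range, Finset.mem_union, Finset.mem_singleton, Finset.mem_Ioc]
    omega
  rw [hsplit, Finset.sum_union, Finset.sum_union, Finset.sum_singleton]
  · have h1 : ∑ k ∈ Finset.range n, chN P x k = 0 := by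
      apply Finset.sum_eq_zero
      intro k hk
      rw [Finset.mem_range] at hk
      unfold chN
      rw [gr_eq_zero (PosFil.antitone P (by omega) (nuG_mem_of_mem hK hx k)), smul_zero]
    have h2 : chN P x n = gr P n x := by
      unfold chN
      have h3 := gr_eq_zero (nuG_sub_factorial_mem hK hn hx)
      rw [gr_sub (nuG_mem_of_mem hK hx n) (PosFil.mul_mem_left P n _ hx), sub_eq_zero] at h3
      rw [h3, gr_natCast_mul hx, smul_smul]
      have : (n.factorial : ℚ) ≠ 0 := by positivity
      rw [one_div, inv_mul_cancel₀ this, one_smul]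
    rw [h1, h2, zero_add]
  · rw [Finset.disjoint_left]
    intro k hk hk'
    rw [Finset.mem_singleton] at hk
    rw [Finset.mem_Ioc] at hk'
    omega
  · rw [Finset.disjoint_left]
    intro k hk hk'
    rw [Finset.mem_range] at hk
    simp only [Finset.mem_union, Finset.mem_singleton, Finset.mem_Ioc] at hk'
    omega

theorem surjective (hK : HasSplitting K P) (d : ℕ) (hd : gammaFiltration P (d + 1) = ⊥) :
    Function.Surjective (Phi P d hd) := by
  rw [← LinearMap.range_eq_top]
  -- classes in positive degree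
  have key : ∀ m : ℕ, ∀ n : ℕ, d + 1 - n = m → 1 ≤ n → ∀ x ∈ gammaFiltration P n,
      gr P n x ∈ LinearMap.range (Phi P d hd) := by
    intro m
    induction m using Nat.strong_induction_on with
    | _ m ih =>
      intro n hnm hn x hx
      by_cases hnd : n ≤ d
      · have h1 := chK_of_mem hK d hd hn hnd hx
        have h2 : gr P n x = Phi P d hd ((1 : ℚ) ⊗ₜ[ℤ] x) - ∑ k ∈ Finset.Ioc n d, chN P x k := by
          rw [Phi_one_tmul, h1, add_sub_cancel_right]
        rw [h2]
        apply Submodule.sub_mem _ (LinearMap.mem_range_self _ _)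
        apply Submodule.sum_mem
        intro k hk
        rw [Finset.mem_Ioc] at hk
        unfold chN
        apply Submodule.smul_mem
        have haug : P.aug x = 0 := PosDet.aug_eq_zero_of_mem hK (by omega) hx
        exact ih (d + 1 - k) (by omega) k rfl (by omega) _ (nuG_mem haug k)
      · rw [eq_zero_of_mem hd (by omega) hx, gr_zero]
        exact Submodule.zero_mem _
  rw [eq_top_iff]
  rintro z -
  induction z using Gr_induction with
  | zero => exact Submodule.zero_mem _
  | add a b ha hb => exact Submodule.add_mem _ ha hb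
  | smul q a ha => exact Submodule.smul_mem _ q ha
  | cls n x hx =>
    rcases Nat.eq_zero_or_pos n with rfl | hn
    · -- degree zero
      have e : x = ((P.aug x : ℤ) : K) + (x - ((P.aug x : ℤ) : K)) := by ring
      have h0 : ∀ y : K, y ∈ gammaFiltration P 0 := by
        intro y
        rw [PosFil.gammaFiltration_zero]
        exact AddSubgroup.mem_top _
      have h1 : grK P ((0 : ℕ) : ℤ) x = algebraMap ℚ (Gr P) (P.aug x : ℚ) := by
        have h2 := gr_add (P := P) (h0 ((P.aug x : ℤ) : K)) (h0 (x - ((P.aug x : ℤ) : K)))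
        rw [← e] at h2
        have h3 : gr P 0 (x - ((P.aug x : ℤ) : K)) = 0 := gr_eq_zero (sub_aug_mem_one x)
        rw [h3, add_zero] at h2
        rw [← gr_def, h2]
        exact grK_zero_intCast _
      rw [h1, Algebra.algebraMap_eq_smul_one]
      apply Submodule.smul_mem
      have : (1 : Gr P) = Phi P d hd ((1 : ℚ) ⊗ₜ[ℤ] (1 : K)) := by
        rw [Phi_one_tmul, chK_one d hd]
      rw [this]
      exact LinearMap.mem_range_self _ _
    · exact key (d + 1 - n) n rfl hn x hx

/-- an element with vanishing Chern character is torsion -/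
theorem torsion_of_chK_eq_zero (hK : HasSplitting K P) (d : ℕ) (hd : gammaFiltration P (d + 1) = ⊥)
    {x : K} (hx : chK P d x = 0) : ∃ M : ℕ, 0 < M ∧ M • x = 0 := by
  obtain ⟨D, hD⟩ : ∃ D, D = d.factorial := ⟨_, rfl⟩
  have hDpos : 0 < D := by rw [hD]; exact Nat.factorial_pos d
  obtain ⟨p, hp⟩ : ∃ p : ℤ, p = P.aug x := ⟨_, rfl⟩
  obtain ⟨x', hx'⟩ : ∃ x', x' = x - ((P.aug x : ℤ) : K) := ⟨_, rfl⟩
  have haug' : P.aug x' = 0 := by rw [hx']; exact aug_sub_aug x
  obtain ⟨b, hbdef⟩ : ∃ b : ℕ → K, b = fun k => if k = 0 then ((((D : ℤ) * p : ℤ)) : K) else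
      ((D / k.factorial : ℕ) : K) * nuG k x' := ⟨_, rfl⟩
  have hb0 : b 0 = ((((D : ℤ) * p : ℤ)) : K) := by rw [hbdef]; simp
  have hbs : ∀ k, k ≠ 0 → b k = ((D / k.factorial : ℕ) : K) * nuG k x' := by
    intro k hk
    rw [hbdef]
    simp [hk]
  have hb : ∀ k, b k ∈ gammaFiltration P k := by
    intro k
    rcases Nat.eq_zero_or_pos k with rfl | hk
    · rw [PosFil.gammaFiltration_zero]
      exact AddSubgroup.mem_top _
    · rw [hbs k (by omega)]
      exact PosFil.mul_mem_left P k _ (nuG_mem haug' k)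
  have hsum : ∑ k ∈ Finset.range (d + 1), grK P (k : ℤ) (b k) = (D : ℚ) • chK P d x := by
    rw [chK_eq d hd, ← hx', ← hp, smul_add, Finset.smul_sum, Finset.sum_range_succ',
      Finset.sum_range_succ' (fun k => (D : ℚ) • chN P x' k), chN_zero_right, smul_zero, add_zero,
      add_comm]
    congr 1
    · rw [hb0]
      have := grK_zero_intCast (P := P) ((D : ℤ) * p)
      rw [Nat.cast_zero, this, smul_eq_mul', ← map_mul]
      congr 1
      push_cast
      ring
    · apply Finset.sum_congr rfl
      intro k hk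
      rw [Finset.mem_range] at hk
      rw [hbs (k + 1) (by omega), ← gr_def, gr_natCast_mul (nuG_mem haug' (k + 1))]
      unfold chN
      rw [smul_smul]
      congr 1
      have hdvd : (k + 1).factorial ∣ D := by
        rw [hD]
        exact Nat.factorial_dvd_factorial (by omega)
      have hne : ((k + 1).factorial : ℚ) ≠ 0 := by positivity
      rw [Nat.cast_div hdvd hne]
      field_simp
  rw [hx, smul_zero] at hsum
  obtain ⟨M, hMpos, hM⟩ := sum_grK_eq_zero d b hb hsum
  -- the augmentation vanishes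
  have hp0 : p = 0 := by
    have h1 := hM 0 (Nat.zero_le d)
    rw [hb0] at h1
    have h2 := PosDet.aug_eq_zero_of_mem hK (by norm_num) h1
    rw [map_mul, map_natCast, map_intCast] at h2
    have h3 : (M : ℤ) * ((D : ℤ) * p) = 0 := by simpa using h2
    rcases mul_eq_zero.mp h3 with h | h
    · omega
    · rcases mul_eq_zero.mp h with h' | h'
      · omega
      · exact h'
  have hxx' : x' = x := by
    rw [hx', ← hp, hp0, Int.cast_zero, sub_zero]
  rw [hxx'] at hbs haug'
  -- a multiple of `x` lies in `F^n`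
  have hind : ∀ n : ℕ, 1 ≤ n → n ≤ d + 1 → ∃ Mn : ℕ, 0 < Mn ∧ (Mn : K) * x ∈ gammaFiltration P n := by
    intro n
    induction n with
    | zero => intro h; omega
    | succ n ih =>
      intro _ hnd
      rcases Nat.eq_zero_or_pos n with rfl | hn
      · refine ⟨1, Nat.one_pos, ?_⟩
        rw [Nat.cast_one, one_mul]
        have := sub_aug_mem_one (P := P) x
        rwa [← hp, hp0, Int.cast_zero, sub_zero] at this
      · obtain ⟨Mn, hMn, hy⟩ := ih hn (by omega)
        refine ⟨M * D * Mn, by positivity, ?_⟩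
        have h1 := nuG_sub_factorial_mem hK hn hy
        rw [nuG_natCast_mul] at h1
        have h2 := hM n (by omega)
        rw [hbs n (by omega)] at h2
        have hdvd : n.factorial ∣ D := by
          rw [hD]
          exact Nat.factorial_dvd_factorial (by omega)
        have hc : ((D / n.factorial : ℕ) : K) * (n.factorial : K) = (D : K) := by
          rw [← Nat.cast_mul, Nat.div_mul_cancel hdvd]
        have e : ((M * D * Mn : ℕ) : K) * x =
            (Mn : K) * ((M : K) * (((D / n.factorial : ℕ) : K) * nuG n x)) -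
              ((M : K) * ((D / n.factorial : ℕ) : K)) *
                ((Mn : K) * nuG n x - (n.factorial : K) * ((Mn : K) * x)) := by
          push_cast
          linear_combination ((M : K) * (Mn : K) * x) * hc.symm
        rw [e]
        exact sub_mem (PosFil.mul_mem_left P _ _ h2) (PosFil.mul_mem_left P _ _ h1)
  obtain ⟨M', hM', hmem⟩ := hind (d + 1) (by omega) le_rfl
  rw [hd, AddSubgroup.mem_bot] at hmem
  exact ⟨M', hM', by rw [nsmul_eq_mul]; exact hmem⟩

theorem injective (hK : HasSplitting K P) (d : ℕ) (hd : gammaFiltration P (d + 1) = ⊥) :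
    Function.Injective (Phi P d hd) := by
  rw [injective_iff_map_eq_zero]
  intro ξ hξ
  obtain ⟨N, x, hN, hNx⟩ := exists_nsmul_eq_one_tmul ξ
  have hx : chK P d x = 0 := by
    rw [← Phi_one_tmul d hd, ← hNx, map_nsmul, hξ, smul_zero]
  obtain ⟨M, hM, hMx⟩ := torsion_of_chK_eq_zero hK d hd hx
  have h0 : (1 : ℚ) ⊗ₜ[ℤ] x = 0 := (one_tmul_eq_zero_iff x).mpr ⟨M, hM, hMx⟩
  rw [h0] at hNx
  have h1 : (N : ℚ) • ξ = 0 := by
    rw [Nat.cast_smul_eq_nsmul]
    exact hNx
  exact (smul_eq_zero.mp h1).resolve_left (by positivity)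

/-- **S3794** -/
theorem chernCharacter_bijective (hK : HasSplitting K P) (d : ℕ)
    (hd : gammaFiltration P (d + 1) = ⊥) :
    ∃ Φ : ℚ ⊗[ℤ] K →ₗ[ℚ] Gr P, (∀ x : K, Φ ((1 : ℚ) ⊗ₜ[ℤ] x) = chK P d x) ∧ Function.Bijective Φ :=
  ⟨Phi P d hd, Phi_one_tmul d hd, injective hK d hd, surjective hK d hd⟩

end Groth.Agent.Lib.Helper24.KGrBij
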