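import Groth.Agent.Lib.Helper24.LamFree1

/-!
# The γ-filtration of the free λ-ring on one generator over an augmented λ-algebra (helper24)
-/

set_option autoImplicit false
set_option linter.unusedSectionVars false
set_option maxHeartbeats 400000
universe u v w

namespace Groth.Agent.Lib.Helper24.LamFree2

open LambdaRing MvPolynomial Groth.Agent.Lib.Helper20 Groth.Agent.Lib.Helper24.LamTest
  Groth.Agent.Lib.Helper24.LamExpr Groth.Agent.Lib.Helper24.LamOrd
  Groth.Agent.Lib.Helper24.LamUniv1 Groth.Agent.Lib.Helper24.LamFil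
  Groth.Agent.Lib.Helper24.LamGam Groth.Agent.Lib.Helper24.LamUniv2
  Groth.Agent.Lib.Helper24.LamBin Groth.Agent.Lib.Helper24.SymTwo
  Groth.Agent.Lib.Helper24.LamHom Groth.Agent.Lib.Helper24.LamFree1

section MapFil

variable {K : Type u} {A : Type v} {B : Type w} [CommRing K] [CommRing A] [CommRing B]
  [LambdaOps A] [LambdaOps B] (εA : A →+* K) (εB : B →+* K) (φ : A →+* B)
  (hφ : ∀ (n : ℕ) (a : A), φ (LambdaOps.lam n a) = LambdaOps.lam n (φ a))
  (hε : ∀ a : A, εB (φ a) = εA a)

include hφ hε in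
/-- a λ-homomorphism compatible with the augmentations maps the γ-filtration into the γ-filtration -/
theorem map_mem_gammaFil (s : ℕ) {a : A} (ha : a ∈ gammaFil εA s) : φ a ∈ gammaFil εB s := by
  rw [gammaFil_eq] at ha
  induction ha using Submodule.span_induction with
  | mem y hy =>
    obtain ⟨l, hl, hs, rfl⟩ := hy
    apply Ideal.subset_span
    refine ⟨l.map fun p => (p.1, φ p.2), ?_, ?_, ?_⟩
    · intro p hp
      obtain ⟨p', hp', rfl⟩ := List.mem_map.mp hp
      show εB (φ p'.2) = 0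
      rw [hε, hl p' hp']
    · rw [List.map_map]
      exact hs
    · rw [map_list_prod, List.map_map, List.map_map]
      congr 1
      apply List.map_congr_left
      intro p _
      exact map_gamma φ hφ p.1 p.2
  | zero => rw [map_zero]; exact Ideal.zero_mem _
  | add y z _ _ hy hz => rw [map_add]; exact Ideal.add_mem _ hy hz
  | smul c y _ hy => rw [smul_eq_mul, map_mul]; exact Ideal.mul_mem_left _ _ hy

end MapFil

section VFil

variable {K : Type u} {A : Type v} {B : Type w} [CommRing K] [CommRing A] [CommRing B]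
  [LambdaOps A] [Algebra A B] (εA : A →+* K) (g : ℕ → B)

/-- the weight of an exponent vector -/
def wt (e : ℕ →₀ ℕ) : ℕ := e.sum fun j n => (j + 1) * n

theorem wt_add (e1 e2 : ℕ →₀ ℕ) : wt (e1 + e2) = wt e1 + wt e2 := by
  unfold wt
  rw [Finsupp.sum_add_index']
  · intro j; rw [mul_zero]
  · intro j n1 n2; rw [mul_add]

theorem wt_zero : wt 0 = 0 := by simp [wt]

theorem wt_single (j n : ℕ) : wt (Finsupp.single j n) = (j + 1) * n := by
  unfold wt
  rw [Finsupp.sum_single_index]
  rw [mul_zero]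

/-- the generators of the filtration `V` -/
def vgens (k : ℕ) : Set B :=
  {b : B | ∃ (e : ℕ →₀ ℕ) (a : A), a ∈ gammaFil εA (k - e.sum fun j n => (j + 1) * n) ∧
    b = algebraMap A B a * e.prod fun j n => g j ^ n}

/-- the filtration `V` -/
def V (k : ℕ) : Ideal B := Ideal.span (vgens εA g k)

theorem vgens_mul {k k' : ℕ} {y z : B} (hy : y ∈ vgens εA g k) (hz : z ∈ vgens εA g k') :
    y * z ∈ vgens εA g (k + k') := by
  obtain ⟨e1, a1, h1, rfl⟩ := hy
  obtain ⟨e2, a2, h2, rfl⟩ := hz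
  refine ⟨e1 + e2, a1 * a2, ?_, ?_⟩
  · have h := gammaFil_mul_mem εA h1 h2
    refine gammaFil_antitone εA ?_ h
    have e := wt_add e1 e2
    unfold wt at e
    rw [e]
    omega
  · rw [Finsupp.prod_add_index' (fun _ => pow_zero _) (fun _ _ _ => pow_add _ _ _), map_mul]
    ring

/-- `V` as a multiplicative filtration -/
def VFil : MulFil B where
  F := V εA g
  zero := by
    rw [V, Ideal.eq_top_iff_one]
    apply Ideal.subset_span
    refine ⟨0, 1, ?_, ?_⟩
    · simp only [Finsupp.sum_zero_index, Nat.sub_zero]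
      rw [gammaFil_zero]
      trivial
    · simp
  anti := by
    intro a b h
    refine Ideal.span_mono ?_
    rintro y ⟨e, c, h1, h2⟩
    exact ⟨e, c, gammaFil_antitone εA (Nat.sub_le_sub_right h _) h1, h2⟩
  mul := by
    intro a b y z hy hz
    have h := Ideal.mul_mem_mul hy hz
    rw [V, V, Ideal.span_mul_span'] at h
    refine Ideal.span_mono ?_ h
    rintro _ ⟨y', hy', z', hz', rfl⟩
    exact vgens_mul εA g hy' hz'

theorem g_mem_V (j : ℕ) : g j ∈ V εA g (j + 1) := by
  apply Ideal.subset_span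
  refine ⟨Finsupp.single j 1, 1, ?_, ?_⟩
  · rw [Finsupp.sum_single_index (by rw [mul_zero]), mul_one, Nat.sub_self, gammaFil_zero]
    trivial
  · rw [map_one, one_mul, Finsupp.prod_single_index (h := fun j n => g j ^ n) (pow_zero _), pow_one]

theorem algebraMap_mem_V {s : ℕ} {a : A} (ha : a ∈ gammaFil εA s) : algebraMap A B a ∈ V εA g s := by
  apply Ideal.subset_span
  refine ⟨0, a, ?_, ?_⟩
  · simpa using ha
  · simp

end VFil

section Main

variable (K : Type u) [CommRing K] [LambdaOps K] [BinomialRing K] (hKb : IsBinomial K)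
  (A : Type v) [CommRing A] [LambdaOps A] [Algebra K A] (hA : IsSpecial A)
  (εA : A →ₐ[K] K) (hεA : IsAugLambdaAlg K A εA)
  (B : Type w) [CommRing B] [LambdaOps B] [Algebra K B] [Algebra A B] [IsScalarTower K A B]
  (hB : IsSpecial B) (hAB : IsLambdaAlg A B)
  (εB : B →ₐ[K] K) (hεB : IsAugLambdaAlg K B εB) (hεAB : ∀ a : A, εB (algebraMap A B a) = εA a)
  (x : B) (hx : εB x = 0)

/-- the expression `∏_{j ∈ supp d} (γ^{j+1} Y)^{d_j}` in the second variable -/
noncomputable def monE2 (d : ℕ →₀ ℕ) : LExpr Bool :=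
  LExpr.prodList (d.support.toList.map fun j =>
    LExpr.pow (LExpr.gam (j + 1) (LExpr.var true)) (d j))

theorem eval_monE2 {C : Type w} [CommRing C] [LambdaOps C] (d : ℕ →₀ ℕ) (v : Bool → C) :
    (monE2 d).eval v = d.prod fun j n => gamma (j + 1) (v true) ^ n := by
  rw [monE2, LExpr.eval_prodList, List.map_map, Finset.prod_map_toList]
  apply Finset.prod_congr rfl
  intro j _
  show (LExpr.pow (LExpr.gam (j + 1) (LExpr.var true)) (d j)).eval v = _
  rw [LExpr.eval_pow, LExpr.eval_gam, LExpr.eval_var]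

include hA hB hAB hεAB hx in
/-- `γ^i(a' M)` for `ε(a') = 0` and a monomial `M` in the `γ^{j+1} x` -/
theorem gamOrd_mul_monomial (UP : UnivPolys) (a' : A) (ha' : εA a' = 0) (d : ℕ →₀ ℕ) :
    GamOrd (VFil (εA : A →+* K) fun j : ℕ => gamma (j + 1) x)
      (algebraMap A B a' * d.prod fun j n => gamma (j + 1) x ^ n) := by
  intro i
  obtain ⟨E, hE⟩ : ∃ E : LExpr Bool, E = LExpr.gam i (LExpr.mul (LExpr.var false) (monE2 d)) := ⟨_, rfl⟩
  obtain ⟨v, hv⟩ : ∃ v : Bool → B, v = fun b => if b then x else algebraMap A B a' := ⟨_, rfl⟩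
  have hv0 : v false = algebraMap A B a' := by rw [hv]; rfl
  have hv1 : v true = x := by rw [hv]; rfl
  have h1 : E.eval v = gamma i (algebraMap A B a' * d.prod fun j n => gamma (j + 1) x ^ n) := by
    rw [hE, LExpr.eval_gam, LExpr.eval_mul, LExpr.eval_var, eval_monE2, hv0, hv1]
  obtain ⟨N, hN⟩ : ∃ N, N = bound UP E := ⟨_, rfl⟩
  have h2 := eval_eq_aeval_reprPoly UP hB E N N v (Or.inl (le_of_eq hN.symm)) (Or.inl (le_of_eq hN.symm))
  rw [← h1, h2, aevalZ_apply]
  have htest : E.eval (testPt N N) ∈ aOrd (Fin N ⊕ Fin N) i := by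
    rw [hE, LExpr.eval_gam, LExpr.eval_mul, LExpr.eval_var]
    apply LamGam.gamma_mem_aOrd
    exact Ideal.mul_mem_right _ _ (testPt_false_mem N N)
  have hw := weight_reprPoly N N UP E i htest
  apply (VFil (εA : A →+* K) fun j : ℕ => gamma (j + 1) x).aeval_mem _ (wN2 N N) _ _ i hw
  rintro (j | j)
  · show gamma ((j : ℕ) + 1) (v false) ∈ _
    rw [hv0, ← map_gamma (algebraMap A B) (fun n a => hAB n a)]
    exact algebraMap_mem_V _ _ (gamma_mem_gammaFil _ _ ha')
  · show gamma ((j : ℕ) + 1) (v true) ∈ _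
    rw [hv1]
    exact g_mem_V _ (fun j : ℕ => gamma (j + 1) x) j

include hA hB hAB hεAB hx in
/-- `γ^i` of a nonconstant monomial -/
theorem gamOrd_monomial2 (UP : UnivPolys) (d : ℕ →₀ ℕ) (hd : d ≠ 0) :
    GamOrd (VFil (εA : A →+* K) fun j : ℕ => gamma (j + 1) x)
      (d.prod fun j n => gamma (j + 1) x ^ n) := by
  intro i
  obtain ⟨E, hE⟩ : ∃ E : LExpr Bool, E = LExpr.gam i (monE2 d) := ⟨_, rfl⟩
  obtain ⟨v, hv⟩ : ∃ v : Bool → B, v = fun b => if b then x else 0 := ⟨_, rfl⟩
  have hv0 : v false = 0 := by rw [hv]; rfl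
  have hv1 : v true = x := by rw [hv]; rfl
  have h1 : E.eval v = gamma i (d.prod fun j n => gamma (j + 1) x ^ n) := by
    rw [hE, LExpr.eval_gam, eval_monE2, hv1]
  obtain ⟨N, hN⟩ : ∃ N, N = bound UP E := ⟨_, rfl⟩
  have h2 := eval_eq_aeval_reprPoly UP hB E 0 N v (Or.inr (by
      intro k hk
      rw [hv0]
      exact GammaBasic.gamma_apply_zero k hk)) (Or.inl (le_of_eq hN.symm))
  rw [← h1, h2, aevalZ_apply]
  have htest : E.eval (testPt 0 N) ∈ aOrd (Fin 0 ⊕ Fin N) i := by
    rw [hE, LExpr.eval_gam, eval_monE2]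
    apply LamGam.gamma_mem_aOrd
    obtain ⟨j0, hj0⟩ : ∃ j0, d j0 ≠ 0 := by
      by_contra hcon
      push Not at hcon
      exact hd (Finsupp.ext hcon)
    have hj0' : j0 ∈ d.support := Finsupp.mem_support_iff.mpr hj0
    rw [Finsupp.prod, ← Finset.mul_prod_erase d.support _ hj0']
    apply Ideal.mul_mem_right
    apply Ideal.pow_mem_of_mem _ _ _ (Nat.pos_of_ne_zero hj0)
    exact aOrd_antitone (Nat.succ_le_succ (Nat.zero_le _))
      (LamGam.gamma_mem_aOrd (testPt_true_mem 0 N) _)
  have hw := weight_reprPoly 0 N UP E i htest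
  apply (VFil (εA : A →+* K) fun j : ℕ => gamma (j + 1) x).aeval_mem _ (wN2 0 N) _ _ i hw
  rintro (j | j)
  · exact j.elim0
  · show gamma ((j : ℕ) + 1) (v true) ∈ _
    rw [hv1]
    exact g_mem_V _ (fun j : ℕ => gamma (j + 1) x) j

include hKb hA hB hAB hεB hεAB hx in
/-- every element of augmentation zero has `γ^i` in `V_i` -/
theorem gamOrd_of_aug_zero2 (UP : UnivPolys)
    (hgen : Algebra.adjoin A (Set.range fun j : ℕ => gamma (j + 1) x) = ⊤)
    (z : B) (hz : εB z = 0) :
    GamOrd (VFil (εA : A →+* K) fun j : ℕ => gamma (j + 1) x) z := by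
  have hzmem : z ∈ Algebra.adjoin A (Set.range fun j : ℕ => gamma (j + 1) x) := by
    rw [hgen]; exact Algebra.mem_top
  rw [Algebra.adjoin_range_eq_range_aeval] at hzmem
  obtain ⟨p, hp⟩ := hzmem
  have hzp : z = aeval (fun j : ℕ => gamma (j + 1) x) p := hp.symm
  rw [hzp] at hz ⊢
  clear hzp hp
  have hεg : ∀ j : ℕ, εB (gamma (j + 1) x) = 0 := by
    intro j
    have h := map_gamma (εB : B →+* K) (fun k a => hεB.map_lam k a) (j + 1) x
    have h' : εB (gamma (j + 1) x) = gamma (j + 1) (εB x) := h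
    rw [h', hx]
    exact GammaBasic.gamma_apply_zero _ (Nat.succ_pos _)
  have hεM : ∀ d : ℕ →₀ ℕ, d ≠ 0 → εB (d.prod fun j n => gamma (j + 1) x ^ n) = 0 := by
    intro d hd
    obtain ⟨j0, hj0⟩ : ∃ j0, d j0 ≠ 0 := by
      by_contra hcon
      push Not at hcon
      exact hd (Finsupp.ext hcon)
    rw [Finsupp.prod, map_prod]
    apply Finset.prod_eq_zero (Finsupp.mem_support_iff.mpr hj0)
    rw [map_pow, hεg, zero_pow hj0]
  -- the constant coefficient has augmentation zero
  have hc : εA (coeff 0 p) = 0 := by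
    rw [p.as_sum, map_sum, map_sum] at hz
    by_cases h0 : (0 : ℕ →₀ ℕ) ∈ p.support
    · rw [Finset.sum_eq_single_of_mem 0 h0] at hz
      · rw [aeval_monomial, map_mul, hεAB] at hz
        simpa using hz
      · intro d _ hd
        rw [aeval_monomial, map_mul, hεM d hd, mul_zero]
    · rw [MvPolynomial.notMem_support_iff.mp h0, map_zero]
  rw [p.as_sum, map_sum]
  apply gamOrd_sum
  intro d hd
  rw [aeval_monomial]
  by_cases hd0 : d = 0
  · rw [hd0] at hd ⊢
    exact gamOrd_mul_monomial K A hA εA B hB hAB εB hεAB x hx UP _ hc 0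
  · -- split the coefficient
    obtain ⟨a, ha⟩ : ∃ a, a = coeff d p := ⟨_, rfl⟩
    rw [← ha]
    have hsplit : algebraMap A B a = algebraMap A B (a - algebraMap K A (εA a)) +
        algebraMap K B (εA a) := by
      rw [map_sub, ← IsScalarTower.algebraMap_apply K A B]
      ring
    rw [hsplit, add_mul]
    apply gamOrd_add
    · apply gamOrd_mul_monomial K A hA εA B hB hAB εB hεAB x hx UP
      rw [map_sub, AlgHom.commutes]
      simp
    · apply gamOrd_algebraMap_mul UP hKb hB hεB.isLambdaAlg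
      exact gamOrd_monomial2 K A hA εA B hB hAB εB hεAB x hx UP d hd0

include hKb hA hB hAB hεB hεAB hx in
/-- **S8698** -/
theorem gammaFil_eq_V (UP : UnivPolys)
    (hgen : Algebra.adjoin A (Set.range fun j : ℕ => gamma (j + 1) x) = ⊤) (k : ℕ) :
    gammaFil (εB : B →+* K) k = V (εA : A →+* K) (fun j : ℕ => gamma (j + 1) x) k := by
  apply le_antisymm
  · rw [gammaFil_eq]
    apply Ideal.span_le.mpr
    rintro y ⟨l, hl, hk, rfl⟩
    have h := (VFil (εA : A →+* K) fun j : ℕ => gamma (j + 1) x).list_prod_mem l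
      (fun p => gamma p.1 p.2) Prod.fst (fun p hp =>
        gamOrd_of_aug_zero2 K hKb A hA εA B hB hAB εB hεB hεAB x hx UP hgen p.2 (hl p hp) p.1)
    exact (VFil (εA : A →+* K) fun j : ℕ => gamma (j + 1) x).anti hk h
  · apply Ideal.span_le.mpr
    rintro y ⟨e, a, ha, rfl⟩
    have h1 : algebraMap A B a ∈ gammaFil (εB : B →+* K) (k - e.sum fun j n => (j + 1) * n) :=
      map_mem_gammaFil (εA : A →+* K) (εB : B →+* K) (algebraMap A B) (fun n a => hAB n a)
        (fun a => hεAB a) _ ha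
    have h2 : (e.prod fun j n => gamma (j + 1) x ^ n) ∈
        gammaFil (εB : B →+* K) (Finsupp.weight (fun j : ℕ => j + 1) e) :=
      (gammaMulFil (εB : B →+* K)).finsupp_prod_mem (fun j : ℕ => gamma (j + 1) x)
        (fun j : ℕ => j + 1) (fun j => gamma_mem_gammaFil _ _ hx) e
    have h3 := gammaFil_mul_mem (εB : B →+* K) h1 h2
    refine gammaFil_antitone _ ?_ h3
    have e1 : Finsupp.weight (fun j : ℕ => j + 1) e = e.sum fun j n => (j + 1) * n := by
      rw [Finsupp.weight_apply]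
      apply Finsupp.sum_congr
      intro j _
      rw [smul_eq_mul, mul_comm]
    rw [e1]
    omega

end Main

end Groth.Agent.Lib.Helper24.LamFree2
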