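import Groth.Agent.Lib.Helper24.PosSpecial
import Groth.Agent.Lib.Helper24.LamFree2
import Groth.Agent.Lib.Helper20.NewtonNu

/-!
# The Adams operations of the γ-structure (Newton polynomials in the `γ^i`) (helper24)
-/

set_option autoImplicit false
set_option linter.unusedSectionVars false
set_option maxHeartbeats 400000
universe u v

namespace Groth.Agent.Lib.Helper24.KGrNu

open LambdaRing MvPolynomial Groth.Agent.Lib.Helper20 Groth.Agent.Lib.Helper24.LamTest
  Groth.Agent.Lib.Helper24.PosGam Groth.Agent.Lib.Helper24.PosFil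
  Groth.Agent.Lib.Helper24.PosSpecial Groth.Agent.Lib.Helper24.LamFil
  Groth.Agent.Lib.Helper24.LamGam Groth.Agent.Lib.Helper24.LamExpr
  Groth.Agent.Lib.Helper24.LamPrim Groth.Agent.Lib.Helper20.NewtonNu
  Groth.Agent.Lib.Helper24.LamUniv2 Groth.Agent.Lib.Helper24.LamOrd Groth.Agent.Lib.Helper24.SymTwo

section Basic

variable {K : Type u} [CommRing K] [LambdaOps K]

/-- the γ-operations as a (pre-)λ-structure -/
@[reducible] def gammaOps (K : Type u) [CommRing K] [LambdaOps K] : LambdaOps K where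
  lam := gamma
  lam_zero := GammaBasic.gamma_zero_apply
  lam_one := GammaBasic.gamma_one_apply
  lam_add := GammaBasic.gamma_add

/-- the `k`-th Newton polynomial in the `γ^i(z)` -/
noncomputable def nuG (k : ℕ) (z : K) : K := nu (fun j => gamma j z) k

theorem nuG_eq_adamsOp (k : ℕ) (z : K) : nuG k z = @adamsOp K _ (gammaOps K) k z :=
  (@adamsOp_eq_nu K _ (gammaOps K) z k).symm

theorem nuG_add (k : ℕ) (x y : K) : nuG k (x + y) = nuG k x + nuG k y := by
  rw [nuG_eq_adamsOp, nuG_eq_adamsOp, nuG_eq_adamsOp]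
  exact @LamBasic.adamsOp_add K _ (gammaOps K) k x y

/-- `ν_k` as an additive map -/
noncomputable def nuGHom (k : ℕ) : K →+ K := AddMonoidHom.mk' (nuG k) (nuG_add k)

theorem nuGHom_apply (k : ℕ) (z : K) : nuGHom k z = nuG k z := rfl

theorem nuG_zero (k : ℕ) : nuG k (0 : K) = 0 := map_zero (nuGHom k)

theorem nuG_neg (k : ℕ) (x : K) : nuG k (-x) = -nuG k x := map_neg (nuGHom k) x

theorem nuG_sub (k : ℕ) (x y : K) : nuG k (x - y) = nuG k x - nuG k y := map_sub (nuGHom k) x y

theorem nuG_sum (k : ℕ) {ι : Type*} (s : Finset ι) (f : ι → K) :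
    nuG k (∑ i ∈ s, f i) = ∑ i ∈ s, nuG k (f i) := map_sum (nuGHom k) f s

theorem nuG_natCast_mul (k N : ℕ) (x : K) : nuG k ((N : K) * x) = (N : K) * nuG k x := by
  rw [← nsmul_eq_mul, ← nsmul_eq_mul, ← nuGHom_apply, map_nsmul, nuGHom_apply]

theorem nuG_zero_left (z : K) : nuG 0 z = 0 := nu_zero _

theorem nuG_succ (n : ℕ) (z : K) :
    nuG (n + 1) z = (-1) ^ n * ((n : K) + 1) * gamma (n + 1) z
      - ∑ i ∈ Finset.range n, (-1) ^ (i + 1) * gamma (i + 1) z * nuG (n - i) z := nu_succ _ n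

/-- `ν_k(w) = w^k` when `γ_t(w) = 1 + w t` -/
theorem nuG_of_gammaSeries {w : K}
    (hw : GammaBasic.gammaSeries w = 1 + PowerSeries.C w * PowerSeries.X) (k : ℕ) (hk : 1 ≤ k) :
    nuG k w = w ^ k := by
  rw [nuG_eq_adamsOp]
  exact @adamsOp_of_isLineElt K _ (gammaOps K) w hw k hk

theorem nuG_line_sub_one {u : K} (hu : IsLineElt u) (h1 : IsLineElt (1 : K)) (k : ℕ) (hk : 1 ≤ k) :
    nuG k (u - 1) = (u - 1) ^ k :=
  nuG_of_gammaSeries (LamOrd.gammaSeries_sub_one u hu h1) k hk

end Basic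

section Fil

variable {A : Type v} [CommRing A]

/-- Newton polynomials of a sequence with `c j ∈ F^j` -/
theorem nu_mem_fil (Φ : MulFil A) (c : ℕ → A) (hc : ∀ j, c j ∈ Φ.F j) : ∀ k, nu c k ∈ Φ.F k := by
  intro k
  induction k using Nat.strong_induction_on with
  | _ k ih =>
    cases k with
    | zero => rw [nu_zero]; exact Ideal.zero_mem _
    | succ n =>
      rw [nu_succ]
      refine Ideal.sub_mem _ (Ideal.mul_mem_left _ _ (hc (n + 1))) (Ideal.sum_mem _ fun i hi => ?_)
      rw [Finset.mem_range] at hi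
      have h := Φ.mul (Ideal.mul_mem_left _ ((-1 : A) ^ (i + 1)) (hc (i + 1))) (ih (n - i) (by omega))
      have e : i + 1 + (n - i) = n + 1 := by omega
      rwa [e] at h

end Fil

section Pos

variable {K : Type u} [CommRing K] [LambdaOps K] (P : PosStructure K)

/-- the γ-filtration as a multiplicative filtration by ideals -/
def posMulFil : MulFil K where
  F := filIdeal P
  zero := by
    rw [eq_top_iff]
    intro x _
    rw [mem_filIdeal, gammaFiltration_zero]
    exact AddSubgroup.mem_top _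
  anti := fun h x hx => PosFil.antitone P h hx
  mul := fun hy hz => PosFil.mul_mem P hy hz

variable {P}

theorem nuG_mem {z : K} (hz : P.aug z = 0) (k : ℕ) : nuG k z ∈ gammaFiltration P k :=
  nu_mem_fil (posMulFil P) (fun j => gamma j z) (fun j => PosFil.gamma_mem P j hz) k

theorem gamma_mem_of_mem (hK : HasSplitting K P) {n : ℕ} {y : K} (hy : y ∈ gammaFiltration P n)
    (j : ℕ) (hj : 1 ≤ j) : gamma j y ∈ gammaFiltration P n := by
  have hA := isSpecial_of_hasSplitting hK
  have hst := lam_mem_gammaFil (P.aug : K →+* ℤ) UnivPolys.default hA n y ((mem_gammaFil_iff P).mpr hy)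
  unfold gamma
  rw [if_neg (by omega)]
  apply AddSubgroup.sum_mem
  intro i _
  split_ifs with hi
  · rw [mul_zero]; exact zero_mem _
  · obtain ⟨i', rfl⟩ : ∃ i', i = i' + 1 := ⟨i - 1, by omega⟩
    exact PosFil.mul_mem_left P n _ ((mem_gammaFil_iff P).mp (hst i'))

theorem nuG_mem_of_mem (hK : HasSplitting K P) {n : ℕ} {y : K} (hy : y ∈ gammaFiltration P n)
    (k : ℕ) : nuG k y ∈ gammaFiltration P n :=
  nu_mem (filIdeal P n) (fun j => gamma j y) (fun j hj => gamma_mem_of_mem hK hy j hj) k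

/-- `ν_n(y) ≡ n! y` modulo `F^{n+1}` for `y ∈ F^n` -/
theorem nuG_sub_factorial_mem (hK : HasSplitting K P) {n : ℕ} (hn : 1 ≤ n) {y : K}
    (hy : y ∈ gammaFiltration P n) :
    nuG n y - (n.factorial : K) * y ∈ gammaFiltration P (n + 1) := by
  letI : LambdaOps ℤ := intOps
  obtain ⟨m, rfl⟩ : ∃ m, n = m + 1 := ⟨n - 1, by omega⟩
  have h1 : nuG (m + 1) y - (-1) ^ m * ((m : K) + 1) * gamma (m + 1) y ∈
      filIdeal P (m + 1) * filIdeal P (m + 1) :=
    nu_sub_mem (filIdeal P (m + 1)) (fun j => gamma j y)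
      (fun j hj => gamma_mem_of_mem hK hy j hj) m
  have h1' : nuG (m + 1) y - (-1) ^ m * ((m : K) + 1) * gamma (m + 1) y ∈
      gammaFiltration P (m + 1 + 1) := by
    have hle : filIdeal P (m + 1) * filIdeal P (m + 1) ≤ filIdeal P (m + 1 + 1) := by
      rw [Ideal.mul_le]
      intro a ha b hb
      exact PosFil.antitone P (by omega) (PosFil.mul_mem P ha hb)
    exact hle h1
  have h2 := gamma_sub_factorial_mul_mem ℤ isBinomial_int K (isSpecial_of_hasSplitting hK) (augAlg P)
    (isAugLambdaAlg hK) UnivPolys.default (m + 1) (by omega) y ((mem_gammaFil_iff P).mpr hy)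
  rw [coe_augAlg] at h2
  have h2' := (mem_gammaFil_iff P).mp h2
  rw [Nat.add_sub_cancel] at h2'
  have h3 := PosFil.mul_mem_left P _ ((-1 : K) ^ m * ((m : K) + 1)) h2'
  have h4 := add_mem h1' h3
  have e : nuG (m + 1) y - ((m + 1).factorial : K) * y =
      nuG (m + 1) y - (-1) ^ m * ((m : K) + 1) * gamma (m + 1) y +
        (-1) ^ m * ((m : K) + 1) * (gamma (m + 1) y - (-1) ^ m * (m.factorial : K) * y) := by
    have hsq : (-1 : K) ^ m * (-1) ^ m = 1 := by rw [← mul_pow]; simp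
    rw [Nat.factorial_succ]
    push_cast
    linear_combination (((m : K) + 1) * (m.factorial : K) * y) * hsq
  rw [e]
  exact h4

end Pos

section Transfer

variable {A : Type v} [CommRing A] [LambdaOps A]

/-- transfer of order estimates from the test rings to a special λ-ring -/
theorem eval_mem_of_test (UP : UnivPolys) (hA : IsSpecial A) (Φ : MulFil A) (e : LExpr Bool) (w : ℕ)
    (htest : ∀ N : ℕ, e.eval (testPt N N) ∈ aOrd (Fin N ⊕ Fin N) w) (v : Bool → A)
    (hv : ∀ b, GamOrd Φ (v b)) : e.eval v ∈ Φ.F w := by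
  obtain ⟨N, hN⟩ : ∃ N, N = bound UP e := ⟨_, rfl⟩
  rw [eval_eq_aeval_reprPoly UP hA e N N v (Or.inl hN.symm.le) (Or.inl hN.symm.le), aevalZ_apply]
  have hw := weight_reprPoly N N UP e w (htest N)
  apply Φ.aeval_mem _ (wN2 N N) _ _ w hw
  rintro (j | j)
  · exact hv false _
  · exact hv true _

end Transfer

section NuE

variable {ι : Type}

/-- the expression `ν_n(e)` -/
def nuE (e : LExpr ι) : ℕ → LExpr ι
  | 0 => LExpr.zero
  | (n + 1) => LExpr.sub
      (LExpr.mul (LExpr.ofInt ((-1) ^ n * ((n : ℤ) + 1))) (LExpr.gam (n + 1) e))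
      (LExpr.sumRange (fun i => if i < n then
        LExpr.mul (LExpr.mul (LExpr.ofInt ((-1) ^ (i + 1))) (LExpr.gam (i + 1) e)) (nuE e (n - i))
        else LExpr.zero) n)
termination_by n => n
decreasing_by omega

theorem eval_nuE {B : Type v} [CommRing B] [LambdaOps B] (y : ι → B) (e : LExpr ι) (n : ℕ) :
    (nuE e n).eval y = nuG n (e.eval y) := by
  induction n using Nat.strong_induction_on with
  | _ n ih =>
    cases n with
    | zero =>
      rw [nuE, nuG_zero_left]
      rfl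
    | succ n =>
      rw [nuE, nuG_succ, LExpr.eval_sub, LExpr.eval_mul, LExpr.eval_ofInt, LExpr.eval_gam,
        LExpr.eval_sumRange]
      congr 1
      · push_cast
        ring
      · apply Finset.sum_congr rfl
        intro i hi
        rw [Finset.mem_range] at hi
        rw [if_pos hi, LExpr.eval_mul, LExpr.eval_mul, LExpr.eval_ofInt, LExpr.eval_gam,
          ih (n - i) (by omega)]
        push_cast
        ring

end NuE

section Binom

variable {R : Type v} [CommRing R]

/-- `(x + y + xy)^n ≡ (x + y)^n` modulo `F^{n+1}` for `x, y ∈ F^1` -/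
theorem add_add_mul_pow_sub_mem (Φ : MulFil R) {x y : R} (hx : x ∈ Φ.F 1) (hy : y ∈ Φ.F 1) (n : ℕ) :
    (x + y + x * y) ^ n - (x + y) ^ n ∈ Φ.F (n + 1) := by
  rw [add_pow (x + y) (x * y) n, Finset.sum_range_succ, Nat.sub_self, pow_zero, mul_one,
    Nat.choose_self, Nat.cast_one, mul_one, add_sub_cancel_right]
  refine Ideal.sum_mem _ fun k hk => ?_
  rw [Finset.mem_range] at hk
  apply Ideal.mul_mem_right
  have h1 : (x + y) ^ k ∈ Φ.F (k * 1) := Φ.pow_mem (Ideal.add_mem _ hx hy) k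
  have h2 : (x * y) ^ (n - k) ∈ Φ.F ((n - k) * (1 + 1)) := Φ.pow_mem (Φ.mul hx hy) (n - k)
  exact Φ.anti (by omega) (Φ.mul h1 h2)

theorem add_pow_sub_sub (x y : R) (m : ℕ) :
    (x + y) ^ (m + 1) - x ^ (m + 1) - y ^ (m + 1) =
      ∑ k ∈ Finset.range m, ((m + 1).choose (k + 1) : R) * (x ^ (k + 1) * y ^ (m - k)) := by
  rw [add_pow, Finset.sum_range_succ, Finset.sum_range_succ', Nat.sub_self, pow_zero, pow_zero,
    Nat.choose_self, Nat.choose_zero_right, Nat.sub_zero]
  have e : ∀ k ∈ Finset.range m, x ^ (k + 1) * y ^ (m + 1 - (k + 1)) * (((m + 1).choose (k + 1) : ℕ) : R) =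
      ((m + 1).choose (k + 1) : R) * (x ^ (k + 1) * y ^ (m - k)) := by
    intro k _
    rw [Nat.add_sub_add_right]
    ring
  rw [Finset.sum_congr rfl e]
  push_cast
  ring

end Binom

section ProdFormula

variable {R : Type v} [CommRing R] [LambdaOps R]

/-- the product formula for sums of elements on which the `ν_k` are the `k`-th powers -/
theorem nuG_mul_sub_eq {ι κ : Type*} (s : Finset ι) (t : Finset κ) (x : ι → R) (y : κ → R)
    (hx : ∀ i ∈ s, ∀ k, 1 ≤ k → nuG k (x i) = x i ^ k)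
    (hy : ∀ j ∈ t, ∀ k, 1 ≤ k → nuG k (y j) = y j ^ k)
    (hxy : ∀ i ∈ s, ∀ j ∈ t, ∀ k, 1 ≤ k →
      nuG k (x i + y j + x i * y j) = (x i + y j + x i * y j) ^ k)
    (n : ℕ) (hn : 1 ≤ n) :
    nuG n ((∑ i ∈ s, x i) * (∑ j ∈ t, y j)) -
        ∑ k ∈ Finset.range (n + 1),
          (n.choose k : R) * (nuG k (∑ i ∈ s, x i) * nuG (n - k) (∑ j ∈ t, y j)) =
      ∑ i ∈ s, ∑ j ∈ t, ((x i + y j + x i * y j) ^ n - (x i + y j) ^ n) := by
  obtain ⟨m, rfl⟩ : ∃ m, n = m + 1 := ⟨n - 1, by omega⟩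
  -- the first term
  have h1 : nuG (m + 1) ((∑ i ∈ s, x i) * (∑ j ∈ t, y j)) =
      ∑ i ∈ s, ∑ j ∈ t, ((x i + y j + x i * y j) ^ (m + 1) - x i ^ (m + 1) - y j ^ (m + 1)) := by
    have e : (∑ i ∈ s, x i) * (∑ j ∈ t, y j) =
        ∑ i ∈ s, ∑ j ∈ t, ((x i + y j + x i * y j) - x i - y j) := by
      rw [Finset.sum_mul_sum]
      apply Finset.sum_congr rfl
      intro i _
      apply Finset.sum_congr rfl
      intro j _
      ring
    rw [e, nuG_sum]
    apply Finset.sum_congr rfl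
    intro i hi
    rw [nuG_sum]
    apply Finset.sum_congr rfl
    intro j hj
    rw [nuG_sub, nuG_sub, hxy i hi j hj _ (by omega), hx i hi _ (by omega), hy j hj _ (by omega)]
  -- the second term
  have h2 : ∑ k ∈ Finset.range (m + 1 + 1),
      ((m + 1).choose k : R) * (nuG k (∑ i ∈ s, x i) * nuG (m + 1 - k) (∑ j ∈ t, y j)) =
      ∑ i ∈ s, ∑ j ∈ t, ((x i + y j) ^ (m + 1) - x i ^ (m + 1) - y j ^ (m + 1)) := by
    rw [Finset.sum_range_succ, Finset.sum_range_succ', Nat.sub_self, nuG_zero_left, nuG_zero_left,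
      zero_mul, mul_zero, mul_zero, mul_zero, add_zero, add_zero]
    have e1 : ∀ i ∈ s, ∀ j ∈ t, (x i + y j) ^ (m + 1) - x i ^ (m + 1) - y j ^ (m + 1) =
        ∑ k ∈ Finset.range m, ((m + 1).choose (k + 1) : R) * (x i ^ (k + 1) * y j ^ (m - k)) :=
      fun i _ j _ => add_pow_sub_sub (x i) (y j) m
    rw [Finset.sum_congr rfl fun i hi => Finset.sum_congr rfl fun j hj => e1 i hi j hj]
    rw [Finset.sum_congr rfl fun i _ => Finset.sum_comm, Finset.sum_comm]
    apply Finset.sum_congr rfl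
    intro k hk
    rw [Finset.mem_range] at hk
    rw [nuG_sum, nuG_sum, Finset.sum_mul_sum, Finset.mul_sum]
    apply Finset.sum_congr rfl
    intro i hi
    rw [Finset.mul_sum]
    apply Finset.sum_congr rfl
    intro j hj
    rw [hx i hi _ (by omega), hy j hj _ (by omega), Nat.add_sub_add_right]
  rw [h1, h2, ← Finset.sum_sub_distrib]
  apply Finset.sum_congr rfl
  intro i _
  rw [← Finset.sum_sub_distrib]
  apply Finset.sum_congr rfl
  intro j _
  ring

end ProdFormula

section N3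

/-- the expression `ν_n(XY) - Σ C(n,k) ν_k(X) ν_{n-k}(Y)` -/
def prodE (n : ℕ) : LExpr Bool :=
  LExpr.sub (nuE (LExpr.mul (LExpr.var false) (LExpr.var true)) n)
    (LExpr.sumRange (fun k => LExpr.mul (LExpr.ofNat (n.choose k))
      (LExpr.mul (nuE (LExpr.var false) k) (nuE (LExpr.var true) (n - k)))) (n + 1))

theorem eval_prodE {B : Type v} [CommRing B] [LambdaOps B] (n : ℕ) (w : Bool → B) :
    (prodE n).eval w = nuG n (w false * w true) -
      ∑ k ∈ Finset.range (n + 1), (n.choose k : B) * (nuG k (w false) * nuG (n - k) (w true)) := by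
  rw [prodE, LExpr.eval_sub, eval_nuE, LExpr.eval_mul, LExpr.eval_var, LExpr.eval_var,
    LExpr.eval_sumRange]
  congr 1
  apply Finset.sum_congr rfl
  intro k _
  rw [LExpr.eval_mul, LExpr.eval_ofNat, LExpr.eval_mul, eval_nuE, eval_nuE, LExpr.eval_var,
    LExpr.eval_var]

theorem testPt_false_eq (N1 N2 : ℕ) :
    testPt N1 N2 false = ∑ a : Fin N1, ((X (Sum.inl a) : MvPolynomial (Fin N1 ⊕ Fin N2) ℤ) - 1) := by
  show rename Sum.inl (x0 (Fin N1)) = _
  rw [x0, map_sum]
  apply Finset.sum_congr rfl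
  intro a _
  rw [map_sub, rename_X, map_one]

theorem testPt_true_eq (N1 N2 : ℕ) :
    testPt N1 N2 true = ∑ a : Fin N2, ((X (Sum.inr a) : MvPolynomial (Fin N1 ⊕ Fin N2) ℤ) - 1) := by
  show rename Sum.inr (x0 (Fin N2)) = _
  rw [x0, map_sum]
  apply Finset.sum_congr rfl
  intro a _
  rw [map_sub, rename_X, map_one]

theorem isLineElt_X_mul_X {σ : Type v} (a b : σ) :
    IsLineElt ((X a : MvPolynomial σ ℤ) * X b) := by
  have h := isLineElt_mon (Finsupp.single a 1 + Finsupp.single b 1)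
  have e : mon σ (Finsupp.single a 1 + Finsupp.single b 1) = (X a : MvPolynomial σ ℤ) * X b := by
    unfold mon
    rw [X, X, monomial_mul, one_mul]
  rwa [e] at h

theorem prodE_test (n : ℕ) (hn : 1 ≤ n) (N : ℕ) :
    (prodE n).eval (testPt N N) ∈ aOrd (Fin N ⊕ Fin N) (n + 1) := by
  rw [eval_prodE, testPt_false_eq, testPt_true_eq]
  rw [nuG_mul_sub_eq Finset.univ Finset.univ
    (fun a : Fin N => (X (Sum.inl a) : MvPolynomial (Fin N ⊕ Fin N) ℤ) - 1)
    (fun a : Fin N => (X (Sum.inr a) : MvPolynomial (Fin N ⊕ Fin N) ℤ) - 1)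
    (fun i _ k hk => nuG_line_sub_one (isLineElt_X _ _) (isLineElt_one_test _) k hk)
    (fun i _ k hk => nuG_line_sub_one (isLineElt_X _ _) (isLineElt_one_test _) k hk)
    (fun i _ j _ k hk => by
      have e : ((X (Sum.inl i) : MvPolynomial (Fin N ⊕ Fin N) ℤ) - 1) + (X (Sum.inr j) - 1) +
          (X (Sum.inl i) - 1) * (X (Sum.inr j) - 1) = X (Sum.inl i) * X (Sum.inr j) - 1 := by ring
      rw [e]
      exact nuG_line_sub_one (isLineElt_X_mul_X _ _) (isLineElt_one_test _) k hk)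
    n hn]
  refine Ideal.sum_mem _ fun i _ => Ideal.sum_mem _ fun j _ => ?_
  exact add_add_mul_pow_sub_mem (aOrdMulFil (Fin N ⊕ Fin N)) (X_sub_one_mem_aOrd _)
    (X_sub_one_mem_aOrd _) n

variable {K : Type u} [CommRing K] [LambdaOps K] {P : PosStructure K}

/-- `ν_n(ab) ≡ Σ C(n,k) ν_k(a) ν_{n-k}(b)` modulo `F^{n+1}` for `a, b` of augmentation zero -/
theorem nuG_mul_sub_mem (hK : HasSplitting K P) {a b : K} (ha : P.aug a = 0) (hb : P.aug b = 0)
    (n : ℕ) :
    nuG n (a * b) - ∑ k ∈ Finset.range (n + 1), (n.choose k : K) * (nuG k a * nuG (n - k) b) ∈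
      gammaFiltration P (n + 1) := by
  rcases Nat.eq_zero_or_pos n with rfl | hn
  · simp [nuG_zero_left]
  · have h := eval_mem_of_test UnivPolys.default (isSpecial_of_hasSplitting hK) (posMulFil P)
      (prodE n) (n + 1) (prodE_test n hn) (fun b' => if b' then b else a) (by
        intro b' k
        cases b' with
        | false => exact PosFil.gamma_mem P k ha
        | true => exact PosFil.gamma_mem P k hb)
    rw [eval_prodE] at h
    exact h

end N3

end Groth.Agent.Lib.Helper24.KGrNu
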