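import Groth.Agent.Lib.Helper24.KGrRees
import Groth.Agent.Lib.Helper24.KGrNu

/-!
# The Chern character with values in `ℚ Gr K` (helper24)
-/

set_option autoImplicit false
set_option linter.unusedSectionVars false
set_option maxHeartbeats 400000
universe u v

namespace Groth.Agent.Lib.Helper24.KGrCh

open LambdaRing KGr MvPolynomial Groth.Agent.Lib.Helper20 Groth.Agent.Lib.Helper20.NewtonNu
  Groth.Agent.Lib.Helper24.KGrRees Groth.Agent.Lib.Helper24.KGrNu
  Groth.Agent.Lib.Helper24.PosFil Groth.Agent.Lib.Helper24.PosSpecial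

section ChPoly

/-- `X_j` for `1 ≤ j ≤ d`, else `0` -/
noncomputable def Xq (d j : ℕ) : MvPolynomial (Fin d) ℚ :=
  if h : 1 ≤ j ∧ j ≤ d then X ⟨j - 1, by omega⟩ else 0

theorem aeval_esymm_Xq (d j : ℕ) (hj : 1 ≤ j) :
    aeval (fun i : Fin d => esymm (Fin d) ℚ (i + 1)) (Xq d j) = esymm (Fin d) ℚ j := by
  unfold Xq
  split_ifs with h
  · rw [aeval_X]
    congr 1
    show j - 1 + 1 = j
    omega
  · rw [map_zero]
    symm
    have hlt : d < j := by omega
    rw [esymm, Finset.powersetCard_eq_empty.mpr (by simpa using hlt), Finset.sum_empty]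

theorem aeval_esymm_nu_Xq (d m : ℕ) (hm : 1 ≤ m) :
    aeval (fun i : Fin d => esymm (Fin d) ℚ (i + 1)) (nu (Xq d) m) = psum (Fin d) ℚ m := by
  rw [map_nu, ← nu_esymm (Fin d) ℚ m hm]
  apply nu_congr
  intro j hj _
  exact aeval_esymm_Xq d j hj

theorem chPoly_eq (d : ℕ) :
    chPoly d = C (d : ℚ) +
      ∑ k ∈ Finset.range d, C (1 / ((k + 1).factorial : ℚ)) * nu (Xq d) (k + 1) := by
  unfold chPoly
  rw [AlgEquiv.symm_apply_eq]
  apply Subtype.ext
  show _ = (esymmAlgHom (Fin d) ℚ d _).val
  rw [esymmAlgHom_apply, map_add, aeval_C, map_sum]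
  have h1 : ∀ k ∈ Finset.range d, aeval (fun i : Fin d => esymm (Fin d) ℚ (i + 1))
      (C (1 / ((k + 1).factorial : ℚ)) * nu (Xq d) (k + 1)) =
      C (1 / ((k + 1).factorial : ℚ)) * psum (Fin d) ℚ (k + 1) := by
    intro k _
    rw [map_mul, aeval_C, aeval_esymm_nu_Xq d (k + 1) (by omega)]
    rfl
  rw [Finset.sum_congr rfl h1]
  show ∑ i : Fin d, Polynomial.aeval (X i : MvPolynomial (Fin d) ℚ) (expTrunc d) = _
  unfold expTrunc
  have h2 : ∀ i : Fin d, Polynomial.aeval (X i : MvPolynomial (Fin d) ℚ)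
      (∑ k ∈ Finset.range (d + 1), Polynomial.C (1 / (k.factorial : ℚ)) * Polynomial.X ^ k) =
      ∑ k ∈ Finset.range (d + 1), C (1 / (k.factorial : ℚ)) * (X i) ^ k := by
    intro i
    rw [map_sum]
    apply Finset.sum_congr rfl
    intro k _
    rw [map_mul, Polynomial.aeval_C, map_pow, Polynomial.aeval_X]
    rfl
  rw [Finset.sum_congr rfl fun i _ => h2 i, Finset.sum_comm]
  rw [Finset.sum_range_succ']
  rw [add_comm]
  congr 1
  · simp
  · apply Finset.sum_congr rfl
    intro k _
    rw [← Finset.mul_sum]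
    rfl

end ChPoly

section GrNat

variable {K : Type v} [CommRing K] [LambdaOps K] {P : PosStructure K}

/-- the class in degree `n` (natural index) -/
noncomputable def gr (P : PosStructure K) (n : ℕ) (x : K) : Gr P := grK P (n : ℤ) x

theorem gr_def (n : ℕ) (x : K) : gr P n x = grK P (n : ℤ) x := rfl

theorem gr_add {n : ℕ} {x y : K} (hx : x ∈ gammaFiltration P n) (hy : y ∈ gammaFiltration P n) :
    gr P n (x + y) = gr P n x + gr P n y :=
  grK_add (mem_fil_natCast hx) (mem_fil_natCast hy)

theorem gr_zero (n : ℕ) : gr P n (0 : K) = 0 := grK_zero _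

theorem gr_neg {n : ℕ} {x : K} (hx : x ∈ gammaFiltration P n) : gr P n (-x) = -gr P n x :=
  grK_neg (mem_fil_natCast hx)

theorem gr_sub {n : ℕ} {x y : K} (hx : x ∈ gammaFiltration P n) (hy : y ∈ gammaFiltration P n) :
    gr P n (x - y) = gr P n x - gr P n y :=
  grK_sub (mem_fil_natCast hx) (mem_fil_natCast hy)

theorem gr_sum {n : ℕ} {ι : Type*} (s : Finset ι) (f : ι → K)
    (hf : ∀ i ∈ s, f i ∈ gammaFiltration P n) :
    gr P n (∑ i ∈ s, f i) = ∑ i ∈ s, gr P n (f i) :=
  grK_sum s f fun i hi => mem_fil_natCast (hf i hi)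

theorem gr_mul {a b : ℕ} {x y : K} (hx : x ∈ gammaFiltration P a) (hy : y ∈ gammaFiltration P b) :
    gr P a x * gr P b y = gr P (a + b) (x * y) := by
  unfold gr
  rw [grK_mul (mem_fil_natCast hx) (mem_fil_natCast hy), Nat.cast_add]

theorem gr_eq_zero {n : ℕ} {x : K} (hx : x ∈ gammaFiltration P (n + 1)) : gr P n x = 0 := by
  apply grK_eq_zero
  have e : -(n : ℤ) - 1 = -((n + 1 : ℕ) : ℤ) := by push_cast; ring
  rw [e]
  exact mem_fil_natCast hx

theorem gr_natCast_mul {n : ℕ} {x : K} (hx : x ∈ gammaFiltration P n) (N : ℕ) :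
    gr P n ((N : K) * x) = (N : ℚ) • gr P n x :=
  grK_natCast_mul (mem_fil_natCast hx) N

theorem gr_intCast_mul {n : ℕ} {x : K} (hx : x ∈ gammaFiltration P n) (c : ℤ) :
    gr P n ((c : K) * x) = (c : ℚ) • gr P n x := by
  rcases Int.eq_nat_or_neg c with ⟨N, rfl | rfl⟩
  · rw [Int.cast_natCast, Int.cast_natCast]
    exact gr_natCast_mul hx N
  · rw [Int.cast_neg, Int.cast_natCast, neg_mul, Int.cast_neg, Int.cast_natCast, neg_smul,
      gr_neg (PosFil.mul_mem_left P n _ hx), gr_natCast_mul hx N]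

theorem gr_congr {n m : ℕ} (h : n = m) (x : K) : gr P n x = gr P m x := by rw [h]

theorem smul_eq_mul' (q : ℚ) (g : Gr P) : q • g = algebraMap ℚ (Gr P) q * g := Algebra.smul_def q g

/-- the classes of the Newton polynomials are the Newton polynomials of the classes -/
theorem gr_nuG {z : K} (hz : P.aug z = 0) (m : ℕ) :
    gr P m (nuG m z) = nu (fun j => gr P j (gamma j z)) m := by
  induction m using Nat.strong_induction_on with
  | _ m ih =>
    cases m with
    | zero => rw [nuG_zero_left, gr_zero, nu_zero]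
    | succ n =>
      rw [nuG_succ, nu_succ]
      have hg : ∀ j, gamma j z ∈ gammaFiltration P j := fun j => PosFil.gamma_mem P j hz
      have h1 : (-1 : K) ^ n * ((n : K) + 1) * gamma (n + 1) z =
          (((-1) ^ n * ((n : ℤ) + 1) : ℤ) : K) * gamma (n + 1) z := by
        push_cast
        ring
      have hterm : ∀ i ∈ Finset.range n, (-1 : K) ^ (i + 1) * gamma (i + 1) z * nuG (n - i) z ∈
          gammaFiltration P (n + 1) := by
        intro i hi
        rw [Finset.mem_range] at hi
        rw [mul_assoc]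
        apply PosFil.mul_mem_left
        have := PosFil.mul_mem P (hg (i + 1)) (nuG_mem hz (n - i))
        have e : i + 1 + (n - i) = n + 1 := by omega
        rwa [e] at this
      rw [gr_sub (PosFil.mul_mem_left P _ _ (hg (n + 1))) (AddSubgroup.sum_mem _ hterm), h1,
        gr_intCast_mul (hg (n + 1)), gr_sum _ _ hterm]
      congr 1
      · rw [smul_eq_mul']
        congr 1
        push_cast
        simp
      · apply Finset.sum_congr rfl
        intro i hi
        rw [Finset.mem_range] at hi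
        have h2 : (-1 : K) ^ (i + 1) * gamma (i + 1) z * nuG (n - i) z =
            (((-1) ^ (i + 1) : ℤ) : K) * (gamma (i + 1) z * nuG (n - i) z) := by
          push_cast
          ring
        have hmem : gamma (i + 1) z * nuG (n - i) z ∈ gammaFiltration P (n + 1) := by
          have := PosFil.mul_mem P (hg (i + 1)) (nuG_mem hz (n - i))
          have e : i + 1 + (n - i) = n + 1 := by omega
          rwa [e] at this
        rw [h2, gr_intCast_mul hmem, ← ih (n - i) (by omega), mul_assoc,
          gr_mul (hg (i + 1)) (nuG_mem hz (n - i)), gr_congr (show i + 1 + (n - i) = n + 1 by omega),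
          smul_eq_mul']
        congr 1
        push_cast
        simp

end GrNat

section Formula

variable {K : Type v} [CommRing K] [LambdaOps K] {P : PosStructure K}

/-- the `n`-th component of the Chern character of an element of augmentation zero -/
noncomputable def chN (P : PosStructure K) (z : K) (n : ℕ) : Gr P :=
  ((1 : ℚ) / (n.factorial : ℚ)) • gr P n (nuG n z)

theorem chN_zero_right (z : K) : chN P z 0 = 0 := by
  unfold chN
  rw [nuG_zero_left, gr_zero, smul_zero]

theorem aug_sub_aug (x : K) : P.aug (x - ((P.aug x : ℤ) : K)) = 0 := by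
  rw [map_sub, map_intCast, Int.cast_id, sub_self]

theorem eq_zero_of_mem {d : ℕ} (hd : gammaFiltration P (d + 1) = ⊥) {n : ℕ} (hn : d < n) {y : K}
    (hy : y ∈ gammaFiltration P n) : y = 0 := by
  have h := PosFil.antitone P (show d + 1 ≤ n by omega) hy
  rw [hd] at h
  exact (AddSubgroup.mem_bot).mp h

/-- **the Chern character in terms of the Newton polynomials of the `γ`-operations** -/
theorem chK_eq (d : ℕ) (hd : gammaFiltration P (d + 1) = ⊥) (x : K) :
    chK P d x = algebraMap ℚ (Gr P) (P.aug x : ℚ) +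
      ∑ n ∈ Finset.range (d + 1), chN P (x - ((P.aug x : ℤ) : K)) n := by
  obtain ⟨z, hzdef⟩ : ∃ z, z = x - ((P.aug x : ℤ) : K) := ⟨_, rfl⟩
  have hz : P.aug z = 0 := by rw [hzdef]; exact aug_sub_aug x
  have hc : ∀ j, 1 ≤ j →
      aeval (fun i : Fin d => chern P (i.1 + 1) x) (Xq d j) = gr P j (gamma j z) := by
    intro j hj
    unfold Xq
    split_ifs with h
    · rw [aeval_X]
      show chern P (j - 1 + 1) x = _
      have e : j - 1 + 1 = j := by omega
      rw [e, hzdef]
      rfl
    · rw [map_zero]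
      have h0 : gamma j z = 0 := eq_zero_of_mem hd (by omega) (PosFil.gamma_mem P j hz)
      rw [h0, gr_zero]
  have hterm : ∀ k ∈ Finset.range d, aeval (fun i : Fin d => chern P (i.1 + 1) x)
      (C (1 / ((k + 1).factorial : ℚ)) * nu (Xq d) (k + 1)) = chN P z (k + 1) := by
    intro k _
    rw [map_mul, aeval_C, map_nu, nu_congr (k + 1) (fun j hj _ => hc j hj), ← gr_nuG hz]
    unfold chN
    rw [smul_eq_mul']
  unfold chK
  rw [chPoly_eq, map_add, aeval_C, map_sum, Finset.sum_congr rfl hterm, ← hzdef,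
    Finset.sum_range_succ' (fun n => chN P z n), chN_zero_right, add_zero, ← add_assoc, ← map_add]
  congr 2
  ring

end Formula

section Mult

variable {K : Type v} [CommRing K] [LambdaOps K] {P : PosStructure K}

theorem nuG_intCast_mul (k : ℕ) (c : ℤ) (x : K) : nuG k ((c : K) * x) = (c : K) * nuG k x := by
  rw [← zsmul_eq_mul, ← zsmul_eq_mul, ← nuGHom_apply, map_zsmul, nuGHom_apply]

theorem chN_add {z z' : K} (hz : P.aug z = 0) (hz' : P.aug z' = 0) (n : ℕ) :
    chN P (z + z') n = chN P z n + chN P z' n := by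
  unfold chN
  rw [nuG_add, gr_add (nuG_mem hz n) (nuG_mem hz' n), smul_add]

theorem chN_zero_left (n : ℕ) : chN P (0 : K) n = 0 := by
  unfold chN
  rw [nuG_zero, gr_zero, smul_zero]

theorem chN_intCast_mul {z : K} (hz : P.aug z = 0) (c : ℤ) (n : ℕ) :
    chN P ((c : K) * z) n = (c : ℚ) • chN P z n := by
  unfold chN
  rw [nuG_intCast_mul, gr_intCast_mul (nuG_mem hz n), smul_comm]

theorem chN_mul_eq_zero {d : ℕ} (hd : gammaFiltration P (d + 1) = ⊥) {a b : K} (ha : P.aug a = 0)
    (hb : P.aug b = 0) {i j : ℕ} (hij : d < i + j) : chN P a i * chN P b j = 0 := by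
  unfold chN
  rw [smul_mul_smul_comm, gr_mul (nuG_mem ha i) (nuG_mem hb j),
    eq_zero_of_mem hd hij (PosFil.mul_mem P (nuG_mem ha i) (nuG_mem hb j)), gr_zero, smul_zero]

theorem chN_mul (hK : HasSplitting K P) {a b : K} (ha : P.aug a = 0) (hb : P.aug b = 0) (n : ℕ) :
    chN P (a * b) n = ∑ k ∈ Finset.range (n + 1), chN P a k * chN P b (n - k) := by
  have hab : P.aug (a * b) = 0 := by rw [map_mul, ha, zero_mul]
  have hterm : ∀ k ∈ Finset.range (n + 1),
      (n.choose k : K) * (nuG k a * nuG (n - k) b) ∈ gammaFiltration P n := by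
    intro k hk
    rw [Finset.mem_range] at hk
    apply PosFil.mul_mem_left
    have := PosFil.mul_mem P (nuG_mem ha k) (nuG_mem hb (n - k))
    have e : k + (n - k) = n := by omega
    rwa [e] at this
  have h1 : gr P n (nuG n (a * b)) =
      gr P n (∑ k ∈ Finset.range (n + 1), (n.choose k : K) * (nuG k a * nuG (n - k) b)) := by
    have h := gr_eq_zero (nuG_mul_sub_mem hK ha hb n)
    rw [gr_sub (nuG_mem hab n) (AddSubgroup.sum_mem _ hterm)] at h
    exact sub_eq_zero.mp h
  unfold chN
  rw [h1, gr_sum _ _ hterm, Finset.smul_sum]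
  apply Finset.sum_congr rfl
  intro k hk
  rw [Finset.mem_range] at hk
  have hmem : nuG k a * nuG (n - k) b ∈ gammaFiltration P n := by
    have := PosFil.mul_mem P (nuG_mem ha k) (nuG_mem hb (n - k))
    have e : k + (n - k) = n := by omega
    rwa [e] at this
  rw [gr_natCast_mul hmem, smul_mul_smul_comm, gr_mul (nuG_mem ha k) (nuG_mem hb (n - k)),
    gr_congr (show k + (n - k) = n by omega), smul_smul]
  congr 1
  have hc := Nat.choose_mul_factorial_mul_factorial (show k ≤ n by omega)
  have hc' : ((n.choose k : ℕ) : ℚ) * (k.factorial : ℚ) * ((n - k).factorial : ℚ) = (n.factorial : ℚ) := by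
    exact_mod_cast hc
  have h1 : (n.factorial : ℚ) ≠ 0 := by positivity
  have h2 : (k.factorial : ℚ) ≠ 0 := by positivity
  have h3 : ((n - k).factorial : ℚ) ≠ 0 := by positivity
  field_simp
  linear_combination hc'

/-- **S8140**: the Chern character is multiplicative -/
theorem chK_mul (hK : HasSplitting K P) (d : ℕ) (hd : gammaFiltration P (d + 1) = ⊥) (x y : K) :
    chK P d (x * y) = chK P d x * chK P d y := by
  rw [chK_eq d hd, chK_eq d hd x, chK_eq d hd y]
  obtain ⟨p, hp⟩ : ∃ p : ℤ, p = P.aug x := ⟨_, rfl⟩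
  obtain ⟨q, hq⟩ : ∃ q : ℤ, q = P.aug y := ⟨_, rfl⟩
  obtain ⟨a, hadef⟩ : ∃ a, a = x - ((P.aug x : ℤ) : K) := ⟨_, rfl⟩
  obtain ⟨b, hbdef⟩ : ∃ b, b = y - ((P.aug y : ℤ) : K) := ⟨_, rfl⟩
  have ha : P.aug a = 0 := by rw [hadef]; exact aug_sub_aug x
  have hb : P.aug b = 0 := by rw [hbdef]; exact aug_sub_aug y
  have hxy : x * y - ((P.aug (x * y) : ℤ) : K) = a * b + ((q : K) * a + (p : K) * b) := by
    rw [hadef, hbdef, hp, hq, map_mul]
    push_cast
    ring
  have hqa : P.aug ((q : K) * a) = 0 := by rw [map_mul, ha, mul_zero]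
  have hpb : P.aug ((p : K) * b) = 0 := by rw [map_mul, hb, mul_zero]
  have hab : P.aug (a * b) = 0 := by rw [map_mul, ha, zero_mul]
  rw [hxy, ← hadef, ← hbdef, ← hp, ← hq]
  have hsum : ∑ n ∈ Finset.range (d + 1), chN P (a * b + ((q : K) * a + (p : K) * b)) n =
      ∑ n ∈ Finset.range (d + 1), chN P (a * b) n +
        ((q : ℚ) • ∑ n ∈ Finset.range (d + 1), chN P a n +
          (p : ℚ) • ∑ n ∈ Finset.range (d + 1), chN P b n) := by
    rw [Finset.smul_sum, Finset.smul_sum, ← Finset.sum_add_distrib, ← Finset.sum_add_distrib]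
    apply Finset.sum_congr rfl
    intro n _
    rw [chN_add hab (by rw [map_add, hqa, hpb, add_zero]), chN_add hqa hpb,
      chN_intCast_mul ha, chN_intCast_mul hb]
  have hprod : ∑ n ∈ Finset.range (d + 1), chN P (a * b) n =
      (∑ n ∈ Finset.range (d + 1), chN P a n) * ∑ n ∈ Finset.range (d + 1), chN P b n := by
    rw [Finset.sum_congr rfl fun n _ => chN_mul hK ha hb n,
      Finset.sum_range_diag_flip (d + 1) (fun i j => chN P a i * chN P b j), Finset.sum_mul_sum]
    apply Finset.sum_congr rfl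
    intro i hi
    rw [Finset.mem_range] at hi
    apply Finset.sum_subset
    · intro j hj
      rw [Finset.mem_range] at hj ⊢
      omega
    · intro j hj hj'
      rw [Finset.mem_range] at hj hj'
      exact chN_mul_eq_zero hd ha hb (by omega)
  rw [hsum, hprod, map_mul, smul_eq_mul', smul_eq_mul']
  subst hp hq
  push_cast
  ring

theorem chK_one (d : ℕ) (hd : gammaFiltration P (d + 1) = ⊥) : chK P d (1 : K) = 1 := by
  rw [chK_eq d hd, map_one, Int.cast_one (R := K), sub_self,
    Finset.sum_eq_zero fun n _ => chN_zero_left n, add_zero, Int.cast_one, map_one]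

end Mult

end Groth.Agent.Lib.Helper24.KGrCh
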