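import Groth.Prelude.Def_KGr
import Groth.Agent.Lib.Helper24.PosFil
import Mathlib.RingTheory.Localization.BaseChange

/-!
# The extended Rees ring of the γ-filtration and its associated graded ring (helper24)
-/

set_option autoImplicit false
set_option linter.unusedSectionVars false
set_option maxHeartbeats 400000
universe v

namespace Groth.Agent.Lib.Helper24.KGrRees

open LambdaRing LaurentPolynomial KGr

variable {K : Type v} [CommRing K] [LambdaOps K] (P : PosStructure K)

/-- the γ-filtration indexed by `ℤ`: `fil m = F^{-m}` (all of `K` for `m ≥ 0`) -/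
def fil (m : ℤ) : AddSubgroup K := gammaFiltration P (-m).toNat

theorem fil_mul {a b : ℤ} {x y : K} (hx : x ∈ fil P a) (hy : y ∈ fil P b) : x * y ∈ fil P (a + b) :=
  PosFil.antitone P (by omega) (PosFil.mul_mem P hx hy)

theorem fil_of_nonneg {m : ℤ} (hm : 0 ≤ m) (x : K) : x ∈ fil P m := by
  unfold fil
  have : (-m).toNat = 0 := by omega
  rw [this, PosFil.gammaFiltration_zero]
  exact AddSubgroup.mem_top _

theorem fil_neg_natCast (n : ℕ) : fil P (-(n : ℤ)) = gammaFiltration P n := by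
  unfold fil
  congr 1
  omega

/-- the Rees ring described by its coefficients -/
def reesExp : Subring (LaurentPolynomial K) where
  carrier := {f | ∀ m : ℤ, f.coeff m ∈ fil P m}
  mul_mem' := by
    intro f g hf hg m
    rw [AddMonoidAlgebra.coeff_mul_apply_left, Finsupp.sum]
    apply AddSubgroup.sum_mem
    intro h _
    have := fil_mul P (hf h) (hg (-h + m))
    rwa [add_neg_cancel_left] at this
  one_mem' := by
    intro m
    by_cases hm : 0 ≤ m
    · exact fil_of_nonneg P hm _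
    · have h1 : (1 : LaurentPolynomial K).coeff m = 0 := by
        rw [← LaurentPolynomial.single_zero_one_eq_one, AddMonoidAlgebra.coeff_single,
          Finsupp.single_apply, if_neg (by omega)]
      rw [h1]
      exact zero_mem _
  add_mem' := by
    intro f g hf hg m
    rw [AddMonoidAlgebra.coeff_add, Finsupp.add_apply]
    exact add_mem (hf m) (hg m)
  zero_mem' := by
    intro m
    rw [AddMonoidAlgebra.coeff_zero, Finsupp.zero_apply]
    exact zero_mem _
  neg_mem' := by
    intro f hf m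
    rw [AddMonoidAlgebra.coeff_neg, Finsupp.neg_apply]
    exact neg_mem (hf m)

theorem mem_reesExp {f : LaurentPolynomial K} : f ∈ reesExp P ↔ ∀ m : ℤ, f.coeff m ∈ fil P m := Iff.rfl

theorem coeff_C_mul_T (x : K) (n m : ℤ) :
    (C x * T n : LaurentPolynomial K).coeff m = if n = m then x else 0 := by
  rw [← LaurentPolynomial.single_eq_C_mul_T, AddMonoidAlgebra.coeff_single, Finsupp.single_apply]

theorem C_mul_T_mem_reesExp {x : K} {n : ℤ} (hx : x ∈ fil P n) :
    (C x * T n : LaurentPolynomial K) ∈ reesExp P := by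
  intro m
  rw [coeff_C_mul_T]
  split_ifs with h
  · rw [← h]; exact hx
  · exact zero_mem _

theorem C_mul_T_mem_rees {x : K} {n : ℤ} (hx : x ∈ fil P n) :
    (C x * T n : LaurentPolynomial K) ∈ rees P := by
  by_cases hn : 0 ≤ n
  · -- `C x * T n = (C x * T (-0)) * (T 1)^n`
    obtain ⟨k, rfl⟩ := Int.eq_ofNat_of_zero_le hn
    have h0 : (C x * T (-((0 : ℕ) : ℤ)) : LaurentPolynomial K) ∈ rees P := by
      apply Subring.subset_closure
      right
      refine ⟨0, x, ?_, rfl⟩
      rw [PosFil.gammaFiltration_zero]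
      exact AddSubgroup.mem_top _
    have h1 : (T 1 : LaurentPolynomial K) ∈ rees P := Subring.subset_closure (Set.mem_insert _ _)
    have h2 := (rees P).mul_mem h0 ((rees P).pow_mem h1 k)
    have e : (C x * T (-((0 : ℕ) : ℤ)) * T 1 ^ k : LaurentPolynomial K) = C x * T (k : ℤ) := by
      rw [LaurentPolynomial.T_pow, mul_one, Nat.cast_zero, neg_zero, LaurentPolynomial.T_zero, mul_one]
    rwa [e] at h2
  · obtain ⟨k, rfl⟩ : ∃ k : ℕ, n = -(k : ℤ) := ⟨(-n).toNat, by omega⟩
    apply Subring.subset_closure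
    right
    refine ⟨k, x, ?_, rfl⟩
    rwa [fil_neg_natCast] at hx

theorem rees_eq : rees P = reesExp P := by
  apply le_antisymm
  · unfold rees
    rw [Subring.closure_le]
    rintro f (rfl | ⟨n, x, hx, rfl⟩)
    · have : (T 1 : LaurentPolynomial K) = C 1 * T 1 := by rw [map_one, one_mul]
      rw [this]
      exact C_mul_T_mem_reesExp P (fil_of_nonneg P (by norm_num) _)
    · apply C_mul_T_mem_reesExp
      rw [fil_neg_natCast]
      exact hx
  · intro f hf
    rw [← AddMonoidAlgebra.sum_coeff_single f, Finsupp.sum]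
    apply Subring.sum_mem
    intro m _
    rw [LaurentPolynomial.single_eq_C_mul_T]
    exact C_mul_T_mem_rees P (hf m)

theorem mem_rees {f : LaurentPolynomial K} : f ∈ rees P ↔ ∀ m : ℤ, f.coeff m ∈ fil P m := by
  rw [rees_eq]
  rfl

/-- the element `x T^m` of the Rees ring -/
noncomputable def rEl (m : ℤ) (x : K) (hx : x ∈ fil P m) : rees P := ⟨C x * T m, C_mul_T_mem_rees P hx⟩

theorem rEl_add (m : ℤ) (x y : K) (hx : x ∈ fil P m) (hy : y ∈ fil P m) :
    rEl P m (x + y) (add_mem hx hy) = rEl P m x hx + rEl P m y hy := by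
  apply Subtype.ext
  show C (x + y) * T m = C x * T m + C y * T m
  rw [map_add, add_mul]

theorem rEl_mul (a b : ℤ) (x y : K) (hx : x ∈ fil P a) (hy : y ∈ fil P b) :
    rEl P a x hx * rEl P b y hy = rEl P (a + b) (x * y) (fil_mul P hx hy) := by
  apply Subtype.ext
  show C x * T a * (C y * T b) = C (x * y) * T (a + b)
  rw [map_mul, LaurentPolynomial.T_add]
  ring

theorem rEl_zero (m : ℤ) : rEl P m 0 (zero_mem _) = 0 := by
  apply Subtype.ext
  show C (0 : K) * T m = 0
  rw [map_zero, zero_mul]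

theorem rEl_congr {m m' : ℤ} {x x' : K} (hm : m = m') (hxx : x = x') (hx : x ∈ fil P m) :
    rEl P m x hx = rEl P m' x' (by rw [← hm, ← hxx]; exact hx) := by
  subst hm hxx
  rfl

theorem rEl_mul_tGen (m : ℤ) (x : K) (hx : x ∈ fil P m) :
    rEl P m x hx * tGen P = rEl P (m + 1) x (PosFil.antitone P (by omega) hx) := by
  apply Subtype.ext
  show C x * T m * T 1 = C x * T (m + 1)
  rw [LaurentPolynomial.T_add, mul_assoc]

/-- the class of `x T^m` in `Gr_ℤ` -/
noncomputable def cz (m : ℤ) (x : K) (hx : x ∈ fil P m) : GrZ P := Ideal.Quotient.mk _ (rEl P m x hx)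

theorem cz_add (m : ℤ) (x y : K) (hx : x ∈ fil P m) (hy : y ∈ fil P m) :
    cz P m (x + y) (add_mem hx hy) = cz P m x hx + cz P m y hy := by
  unfold cz
  rw [rEl_add, map_add]

theorem cz_mul (a b : ℤ) (x y : K) (hx : x ∈ fil P a) (hy : y ∈ fil P b) :
    cz P a x hx * cz P b y hy = cz P (a + b) (x * y) (fil_mul P hx hy) := by
  unfold cz
  rw [← map_mul, rEl_mul]

theorem coeff_mul_T_one (f : LaurentPolynomial K) (m : ℤ) : (f * T 1).coeff m = f.coeff (m - 1) := by
  show (f * AddMonoidAlgebra.single 1 1).coeff m = _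
  rw [AddMonoidAlgebra.coeff_mul_single_apply, mul_one, sub_eq_add_neg]

theorem mk_eq_zero_iff (r : rees P) :
    Ideal.Quotient.mk (Ideal.span {tGen P}) r = 0 ↔ ∀ m : ℤ, r.1.coeff m ∈ fil P (m - 1) := by
  rw [Ideal.Quotient.eq_zero_iff_mem, Ideal.mem_span_singleton']
  constructor
  · rintro ⟨g, rfl⟩ m
    show (g.1 * T 1).coeff m ∈ _
    rw [coeff_mul_T_one]
    exact (mem_rees P).mp g.2 (m - 1)
  · intro h
    have hg : r.1 * T (-1) ∈ rees P := by
      rw [mem_rees]
      intro m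
      have e : (r.1 * T (-1) : LaurentPolynomial K).coeff m = r.1.coeff (m + 1) := by
        show (r.1 * AddMonoidAlgebra.single (-1) 1).coeff m = _
        rw [AddMonoidAlgebra.coeff_mul_single_apply, mul_one, neg_neg]
      rw [e]
      have := h (m + 1)
      rwa [add_sub_cancel_right] at this
    refine ⟨⟨r.1 * T (-1), hg⟩, ?_⟩
    apply Subtype.ext
    show r.1 * T (-1) * T 1 = r.1
    rw [mul_assoc, ← LaurentPolynomial.T_add]
    simp

theorem cz_eq_zero_iff (m : ℤ) (x : K) (hx : x ∈ fil P m) : cz P m x hx = 0 ↔ x ∈ fil P (m - 1) := by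
  unfold cz
  rw [mk_eq_zero_iff]
  constructor
  · intro h
    have := h m
    rw [show (rEl P m x hx).1 = C x * T m from rfl, coeff_C_mul_T, if_pos rfl] at this
    exact this
  · intro h m'
    rw [show (rEl P m x hx).1 = C x * T m from rfl, coeff_C_mul_T]
    split_ifs with hm
    · rw [← hm]; exact h
    · exact zero_mem _

theorem cz_eq_zero_of_pos (m : ℤ) (hm : 0 < m) (x : K) (hx : x ∈ fil P m) : cz P m x hx = 0 := by
  rw [cz_eq_zero_iff]
  exact fil_of_nonneg P (by omega) x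

/-- every element of the Rees ring is the sum of its homogeneous parts -/
theorem rees_decomp (r : rees P) :
    r = ∑ m ∈ r.1.coeff.support, rEl P m (r.1.coeff m) ((mem_rees P).mp r.2 m) := by
  apply Subtype.ext
  rw [AddSubmonoidClass.coe_finsetSum]
  conv_lhs => rw [← AddMonoidAlgebra.sum_coeff_single r.1, Finsupp.sum]
  apply Finset.sum_congr rfl
  intro m _
  rw [LaurentPolynomial.single_eq_C_mul_T]
  rfl

/-- `Gr_ℤ` is generated by the classes of the `x T^{-n}`, `x ∈ F^n` -/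
theorem GrZ_induction {motive : GrZ P → Prop} (zero : motive 0)
    (add : ∀ a b, motive a → motive b → motive (a + b))
    (cls : ∀ (n : ℕ) (x : K) (hx : x ∈ fil P (-(n : ℤ))), motive (cz P (-(n : ℤ)) x hx)) :
    ∀ z, motive z := by
  intro z
  obtain ⟨r, rfl⟩ := Ideal.Quotient.mk_surjective z
  rw [rees_decomp P r, map_sum]
  apply Finset.sum_induction _ motive add zero
  intro m _
  by_cases hm : 0 < m
  · have := cz_eq_zero_of_pos P m hm (r.1.coeff m) ((mem_rees P).mp r.2 m)
    unfold cz at this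
    rw [this]
    exact zero
  · obtain ⟨k, hk⟩ : ∃ k : ℕ, m = -(k : ℤ) := ⟨(-m).toNat, by omega⟩
    have h2 := cls k (r.1.coeff m) (by rw [← hk]; exact (mem_rees P).mp r.2 m)
    have e : cz P (-(k : ℤ)) (r.1.coeff m) (by rw [← hk]; exact (mem_rees P).mp r.2 m) =
        Ideal.Quotient.mk _ (rEl P m (r.1.coeff m) ((mem_rees P).mp r.2 m)) := by
      unfold cz
      congr 1
      exact (rEl_congr P hk rfl _).symm
    rw [← e]
    exact h2

section QT

open TensorProduct

variable {M : Type*} [AddCommGroup M]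

theorem isLocalizedModule_mk : IsLocalizedModule (nonZeroDivisors ℤ) (TensorProduct.mk ℤ ℚ M 1) :=
  (isLocalizedModule_iff_isBaseChange (nonZeroDivisors ℤ) ℚ _).mpr (TensorProduct.isBaseChange ℤ M ℚ)

/-- `1 ⊗ z = 0` in `ℚ ⊗ M` iff `z` is torsion -/
theorem one_tmul_eq_zero_iff (z : M) : (1 : ℚ) ⊗ₜ[ℤ] z = 0 ↔ ∃ N : ℕ, 0 < N ∧ N • z = 0 := by
  haveI := isLocalizedModule_mk (M := M)
  have h := IsLocalizedModule.eq_zero_iff (nonZeroDivisors ℤ) (TensorProduct.mk ℤ ℚ M 1) (m := z)
  rw [TensorProduct.mk_apply] at h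
  rw [h]
  constructor
  · rintro ⟨⟨s, hs⟩, hsz⟩
    have hs0 : s ≠ 0 := nonZeroDivisors.ne_zero hs
    have hsz' : s • z = 0 := hsz
    refine ⟨s.natAbs, Int.natAbs_pos.mpr hs0, ?_⟩
    rcases Int.natAbs_eq s with h1 | h1
    · rw [← natCast_zsmul, ← h1]
      exact hsz'
    · have : ((s.natAbs : ℕ) : ℤ) = -s := by omega
      rw [← natCast_zsmul, this, neg_smul, hsz', neg_zero]
  · rintro ⟨N, hN, hz⟩
    refine ⟨⟨(N : ℤ), mem_nonZeroDivisors_of_ne_zero (by exact_mod_cast hN.ne')⟩, ?_⟩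
    show (N : ℤ) • z = 0
    rw [natCast_zsmul]
    exact hz

/-- every element of `ℚ ⊗ M` has a multiple of the form `1 ⊗ z` -/
theorem exists_nsmul_eq_one_tmul (ξ : ℚ ⊗[ℤ] M) :
    ∃ (N : ℕ) (z : M), 0 < N ∧ N • ξ = (1 : ℚ) ⊗ₜ[ℤ] z := by
  haveI := isLocalizedModule_mk (M := M)
  obtain ⟨⟨m, ⟨s, hs⟩⟩, hsm⟩ := IsLocalizedModule.surj (nonZeroDivisors ℤ) (TensorProduct.mk ℤ ℚ M 1) ξ
  have hs0 : s ≠ 0 := nonZeroDivisors.ne_zero hs
  have hsm' : s • ξ = (1 : ℚ) ⊗ₜ[ℤ] m := hsm
  rcases Int.natAbs_eq s with h1 | h1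
  · refine ⟨s.natAbs, m, Int.natAbs_pos.mpr hs0, ?_⟩
    rw [← natCast_zsmul, ← h1]
    exact hsm'
  · refine ⟨s.natAbs, -m, Int.natAbs_pos.mpr hs0, ?_⟩
    have : ((s.natAbs : ℕ) : ℤ) = -s := by omega
    rw [← natCast_zsmul, this, neg_smul, hsm', TensorProduct.tmul_neg]

end QT

section GrQ

open TensorProduct

/-- the class of `x T^m` in `ℚ Gr` -/
noncomputable def cq (m : ℤ) (x : K) (hx : x ∈ fil P m) : Gr P := (1 : ℚ) ⊗ₜ[ℤ] cz P m x hx

theorem rEl_natCast_mul (N : ℕ) (m : ℤ) (x : K) (hx : x ∈ fil P m) (h' : (N : K) * x ∈ fil P m) :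
    rEl P m ((N : K) * x) h' = N • rEl P m x hx := by
  apply Subtype.ext
  rw [AddSubmonoidClass.coe_nsmul]
  show C ((N : K) * x) * T m = N • (C x * T m)
  rw [map_mul, map_natCast, nsmul_eq_mul, mul_assoc]

theorem tmul_mk_eq (n : ℤ) (x : K) (hx : x ∈ fil P (-n)) (N : ℕ) (hN1 : 1 ≤ N)
    (hN2 : C ((N : K) * x) * T (-n) ∈ rees P) :
    ((1 : ℚ) / (N : ℚ)) ⊗ₜ[ℤ] Ideal.Quotient.mk (Ideal.span {tGen P})
      (⟨C ((N : K) * x) * T (-n), hN2⟩ : rees P) = cq P (-n) x hx := by
  have hmem : (N : K) * x ∈ fil P (-n) := by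
    have := (mem_rees P).mp hN2 (-n)
    rwa [coeff_C_mul_T, if_pos rfl] at this
  have e : (⟨C ((N : K) * x) * T (-n), hN2⟩ : rees P) = N • rEl P (-n) x hx :=
    (rEl_natCast_mul P N (-n) x hx hmem)
  rw [e, map_nsmul, ← natCast_zsmul, TensorProduct.tmul_smul, TensorProduct.smul_tmul']
  unfold cq cz
  congr 1
  rw [zsmul_eq_mul]
  have : (N : ℚ) ≠ 0 := by
    have : 0 < N := hN1
    positivity
  push_cast
  field_simp

/-- the graded class `grK` of the frozen definition, for `x` in the right term of the filtration -/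
theorem grK_eq (n : ℤ) (x : K) (hx : x ∈ fil P (-n)) : grK P n x = cq P (-n) x hx := by
  have h : ∃ N : ℕ, 1 ≤ N ∧ C ((N : K) * x) * T (-n) ∈ rees P :=
    ⟨1, le_rfl, by rw [Nat.cast_one, one_mul]; exact C_mul_T_mem_rees P hx⟩
  unfold grK
  rw [dif_pos h]
  exact tmul_mk_eq P n x hx h.choose h.choose_spec.1 h.choose_spec.2

variable {P}

theorem grK_add {n : ℤ} {x y : K} (hx : x ∈ fil P (-n)) (hy : y ∈ fil P (-n)) :
    grK P n (x + y) = grK P n x + grK P n y := by
  rw [grK_eq P n x hx, grK_eq P n y hy, grK_eq P n (x + y) (add_mem hx hy)]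
  unfold cq
  rw [cz_add, TensorProduct.tmul_add]

theorem grK_zero (n : ℤ) : grK P n (0 : K) = 0 := by
  rw [grK_eq P n 0 (zero_mem _)]
  unfold cq cz
  rw [rEl_zero, map_zero, TensorProduct.tmul_zero]

theorem grK_neg {n : ℤ} {x : K} (hx : x ∈ fil P (-n)) : grK P n (-x) = -grK P n x := by
  have h := grK_add hx (neg_mem hx)
  rw [add_neg_cancel, grK_zero] at h
  exact eq_neg_of_add_eq_zero_right h.symm

theorem grK_sub {n : ℤ} {x y : K} (hx : x ∈ fil P (-n)) (hy : y ∈ fil P (-n)) :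
    grK P n (x - y) = grK P n x - grK P n y := by
  rw [sub_eq_add_neg, grK_add hx (neg_mem hy), grK_neg hy, sub_eq_add_neg]

theorem grK_sum {n : ℤ} {ι : Type*} (s : Finset ι) (f : ι → K) (hf : ∀ i ∈ s, f i ∈ fil P (-n)) :
    grK P n (∑ i ∈ s, f i) = ∑ i ∈ s, grK P n (f i) := by
  classical
  induction s using Finset.induction_on with
  | empty => rw [Finset.sum_empty, Finset.sum_empty, grK_zero]
  | insert a s ha ih =>
    rw [Finset.sum_insert ha, Finset.sum_insert ha,
      grK_add (hf a (Finset.mem_insert_self a s))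
        (AddSubgroup.sum_mem _ fun i hi => hf i (Finset.mem_insert_of_mem hi)),
      ih fun i hi => hf i (Finset.mem_insert_of_mem hi)]

theorem grK_mul {a b : ℤ} {x y : K} (hx : x ∈ fil P (-a)) (hy : y ∈ fil P (-b)) :
    grK P a x * grK P b y = grK P (a + b) (x * y) := by
  have hxy : x * y ∈ fil P (-(a + b)) := by
    have := fil_mul P hx hy
    rwa [← neg_add] at this
  rw [grK_eq P a x hx, grK_eq P b y hy, grK_eq P (a + b) (x * y) hxy]
  unfold cq
  rw [Algebra.TensorProduct.tmul_mul_tmul, one_mul, cz_mul]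
  unfold cz
  congr 2
  exact rEl_congr P (neg_add a b).symm rfl _

theorem grK_eq_zero {n : ℤ} {x : K} (hx : x ∈ fil P (-n - 1)) : grK P n x = 0 := by
  have hx' : x ∈ fil P (-n) := PosFil.antitone P (by omega) hx
  rw [grK_eq P n x hx']
  unfold cq
  rw [(cz_eq_zero_iff P (-n) x hx').mpr hx, TensorProduct.tmul_zero]

theorem grK_natCast_mul {n : ℤ} {x : K} (hx : x ∈ fil P (-n)) (N : ℕ) :
    grK P n ((N : K) * x) = (N : ℚ) • grK P n x := by
  induction N with
  | zero => rw [Nat.cast_zero, zero_mul, grK_zero, Nat.cast_zero, zero_smul]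
  | succ N ih =>
    have hNx : (N : K) * x ∈ fil P (-n) := by
      rw [← nsmul_eq_mul]
      exact AddSubgroup.nsmul_mem _ hx N
    rw [Nat.cast_succ, add_mul, one_mul, grK_add hNx hx, ih, Nat.cast_succ, add_smul, one_smul]

theorem grK_zero_one : grK P 0 (1 : K) = 1 := by
  rw [grK_eq P 0 1 (fil_of_nonneg P (by norm_num) _)]
  unfold cq cz
  have e : rEl P (-0) (1 : K) (fil_of_nonneg P (by norm_num) _) = 1 := by
    apply Subtype.ext
    show C (1 : K) * T (-0) = 1
    rw [map_one, one_mul, neg_zero, LaurentPolynomial.T_zero]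
  rw [e, map_one]
  rfl

theorem grK_zero_intCast (c : ℤ) : grK P 0 ((c : ℤ) : K) = algebraMap ℚ (Gr P) c := by
  have h1 : ∀ N : ℕ, grK P 0 ((N : ℕ) : K) = algebraMap ℚ (Gr P) N := by
    intro N
    have := grK_natCast_mul (P := P) (n := 0) (x := 1) (fil_of_nonneg P (by norm_num) _) N
    rw [mul_one, grK_zero_one] at this
    rw [this, Algebra.algebraMap_eq_smul_one]
  rcases Int.eq_nat_or_neg c with ⟨N, rfl | rfl⟩
  · rw [Int.cast_natCast, h1]
    simp
  · rw [Int.cast_neg, Int.cast_natCast, grK_neg (fil_of_nonneg P (by norm_num) _), h1,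
      Int.cast_neg, Int.cast_natCast, map_neg]

theorem mem_fil_natCast {k : ℕ} {x : K} (hx : x ∈ gammaFiltration P k) : x ∈ fil P (-(k : ℤ)) := by
  rwa [fil_neg_natCast]

/-- `ℚ Gr` is spanned by the classes of the `x ∈ F^n` in degree `n` -/
theorem Gr_induction {motive : Gr P → Prop} (zero : motive 0)
    (add : ∀ a b, motive a → motive b → motive (a + b))
    (smul : ∀ (q : ℚ) a, motive a → motive (q • a))
    (cls : ∀ (n : ℕ) (x : K), x ∈ gammaFiltration P n → motive (grK P n x)) :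
    ∀ z, motive z := by
  intro z
  induction z using TensorProduct.induction_on with
  | zero => exact zero
  | add a b ha hb => exact add a b ha hb
  | tmul q g =>
    have e : q ⊗ₜ[ℤ] g = q • ((1 : ℚ) ⊗ₜ[ℤ] g) := by
      rw [TensorProduct.smul_tmul', smul_eq_mul, mul_one]
    rw [e]
    apply smul
    clear e
    induction g using GrZ_induction P with
    | zero => rw [TensorProduct.tmul_zero]; exact zero
    | add a b ha hb => rw [TensorProduct.tmul_add]; exact add _ _ ha hb
    | cls n x hx =>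
      have := cls n x (by rwa [fil_neg_natCast] at hx)
      rw [grK_eq P n x hx] at this
      exact this

/-- homogeneous components are independent, up to torsion -/
theorem sum_grK_eq_zero (d : ℕ) (b : ℕ → K) (hb : ∀ k, b k ∈ gammaFiltration P k)
    (h : ∑ k ∈ Finset.range (d + 1), grK P (k : ℤ) (b k) = 0) :
    ∃ M : ℕ, 0 < M ∧ ∀ k, k ≤ d → (M : K) * b k ∈ gammaFiltration P (k + 1) := by
  have h1 : ∑ k ∈ Finset.range (d + 1), grK P (k : ℤ) (b k) =
      (1 : ℚ) ⊗ₜ[ℤ] Ideal.Quotient.mk (Ideal.span {tGen P})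
        (∑ k ∈ Finset.range (d + 1), rEl P (-(k : ℤ)) (b k) (mem_fil_natCast (hb k))) := by
    rw [map_sum, TensorProduct.tmul_sum]
    apply Finset.sum_congr rfl
    intro k _
    rw [grK_eq P k (b k) (mem_fil_natCast (hb k))]
    rfl
  rw [h1, one_tmul_eq_zero_iff] at h
  obtain ⟨M, hM, hz⟩ := h
  refine ⟨M, hM, fun k hk => ?_⟩
  rw [← map_nsmul, mk_eq_zero_iff] at hz
  have h2 := hz (-(k : ℤ))
  have e : (M • ∑ k ∈ Finset.range (d + 1), rEl P (-(k : ℤ)) (b k) (mem_fil_natCast (hb k))).1.coeff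
      (-(k : ℤ)) = (M : K) * b k := by
    rw [AddSubmonoidClass.coe_nsmul, AddSubmonoidClass.coe_finsetSum]
    rw [AddMonoidAlgebra.coeff_smul, Finsupp.smul_apply, AddMonoidAlgebra.coeff_sum,
      Finsupp.finsetSum_apply]
    have e2 : ∀ j ∈ Finset.range (d + 1),
        ((rEl P (-(j : ℤ)) (b j) (mem_fil_natCast (hb j))).1 : LaurentPolynomial K).coeff (-(k : ℤ)) =
          if j = k then b j else 0 := by
      intro j _
      rw [show (rEl P (-(j : ℤ)) (b j) (mem_fil_natCast (hb j))).1 = C (b j) * T (-(j : ℤ)) from rfl,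
        coeff_C_mul_T]
      by_cases hjk : j = k
      · rw [if_pos hjk, if_pos (by rw [hjk])]
      · rw [if_neg hjk, if_neg (by omega)]
    rw [Finset.sum_congr rfl e2, Finset.sum_ite_eq' (Finset.range (d + 1)) k,
      if_pos (Finset.mem_range.mpr (by omega)), nsmul_eq_mul]
  rw [e] at h2
  have e3 : -(k : ℤ) - 1 = -((k + 1 : ℕ) : ℤ) := by push_cast; ring
  rw [e3, fil_neg_natCast] at h2
  exact h2

end GrQ

end Groth.Agent.Lib.Helper24.KGrRees
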