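import Mathlib

set_option autoImplicit false
set_option maxHeartbeats 400000
set_option linter.style.haveILetI false
set_option linter.unusedSectionVars false
set_option linter.unusedVariables false

/-!
# Abstract Krull–Schmidt (Atiyah) in a `k`-linear category with finite-dimensional Hom's
-/

open CategoryTheory CategoryTheory.Limits

universe w v u

namespace Groth.Agent.Lib.Helper24.KS

variable {C : Type u} [Category.{v} C] [Preadditive C]

/-- The endomorphism ring is local (pointwise form). -/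
def LocalEnd (M : C) : Prop :=
  ¬ IsZero M ∧ ∀ f : M ⟶ M, IsIso f ∨ IsIso (𝟙 M - f)

/-- Indecomposable object. -/
def Indec [HasBinaryBiproducts C] (M : C) : Prop :=
  ¬ IsZero M ∧ ∀ A B : C, Nonempty (M ≅ A ⊞ B) → IsZero A ∨ IsZero B

theorem LocalEnd.isIso_of_add {M : C} (h : LocalEnd M) (f g : M ⟶ M) [hfg : IsIso (f + g)] :
    IsIso f ∨ IsIso g := by
  have hu : f ≫ inv (f + g) + g ≫ inv (f + g) = 𝟙 M := by
    rw [← Preadditive.add_comp, IsIso.hom_inv_id]
  rcases h.2 (f ≫ inv (f + g)) with h1 | h1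
  · left
    exact IsIso.of_isIso_comp_right f (inv (f + g))
  · right
    have h2 : 𝟙 M - f ≫ inv (f + g) = g ≫ inv (f + g) := by
      rw [← hu]; abel
    rw [h2] at h1
    exact IsIso.of_isIso_comp_right g (inv (f + g))

theorem LocalEnd.exists_isIso_of_sum {M : C} (h : LocalEnd M) {J : Type} (s : Finset J)
    (t : J → (M ⟶ M)) : IsIso (∑ j ∈ s, t j) → ∃ j ∈ s, IsIso (t j) := by
  classical
  induction s using Finset.induction_on with
  | empty =>
    intro h0
    exfalso
    rw [Finset.sum_empty] at h0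
    apply h.1
    rw [IsZero.iff_id_eq_zero]
    have h3 := IsIso.hom_inv_id (0 : M ⟶ M)
    rw [zero_comp] at h3
    exact h3.symm
  | insert a s ha ih =>
    intro h1
    rw [Finset.sum_insert ha] at h1
    rcases h.isIso_of_add (t a) (∑ j ∈ s, t j) with h2 | h2
    · exact ⟨a, Finset.mem_insert_self a s, h2⟩
    · obtain ⟨j, hj, hj'⟩ := ih h2
      exact ⟨j, Finset.mem_insert_of_mem hj, hj'⟩

theorem LocalEnd.idem {M : C} (h : LocalEnd M) (e : M ⟶ M) (he : e ≫ e = e) :
    e = 0 ∨ e = 𝟙 M := by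
  rcases h.2 e with h1 | h1
  · right
    have h2 : e ≫ e = e ≫ 𝟙 M := by rw [he, Category.comp_id]
    exact (cancel_epi e).1 h2
  · left
    have h2 : (𝟙 M - e) ≫ e = (𝟙 M - e) ≫ 0 := by
      rw [Preadditive.sub_comp, Category.id_comp, he, sub_self, comp_zero]
    exact (cancel_epi (𝟙 M - e)).1 h2

theorem isIso_of_splitMono {F0 G0 : C} (hF : ¬ IsZero F0) (hG : LocalEnd G0)
    (a : F0 ⟶ G0) (r : G0 ⟶ F0) (har : a ≫ r = 𝟙 F0) : IsIso a := by
  have he : (r ≫ a) ≫ (r ≫ a) = r ≫ a := by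
    rw [Category.assoc, ← Category.assoc a r a, har, Category.id_comp]
  rcases hG.idem (r ≫ a) he with h0 | h1
  · exfalso
    apply hF
    rw [IsZero.iff_id_eq_zero]
    calc 𝟙 F0 = (a ≫ r) ≫ (a ≫ r) := by rw [har, Category.comp_id]
      _ = a ≫ (r ≫ a) ≫ r := by simp only [Category.assoc]
      _ = 0 := by rw [h0, zero_comp, comp_zero]
  · exact ⟨⟨r, har, h1⟩⟩

section Split

variable [HasFiniteBiproducts C] [HasBinaryBiproducts C]

theorem ι_π_comp_inj {J K : Type} [Fintype J] [DecidableEq J] [Fintype K] [DecidableEq K]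
    (f : J → C) (s : K → J) (hs : Function.Injective s) (k k' : K) :
    biproduct.ι f (s k) ≫ biproduct.π f (s k') =
      biproduct.ι (fun k => f (s k)) k ≫ biproduct.π (fun k => f (s k)) k' := by
  by_cases h : k = k'
  · subst h
    rw [biproduct.ι_π_self, biproduct.ι_π_self]
  · rw [biproduct.ι_π_ne _ h, biproduct.ι_π_ne _ (fun h' => h (hs h'))]

/-- Split off one summand of a finite biproduct. -/
noncomputable def splitIso {ι : Type} [Fintype ι] [DecidableEq ι] (f : ι → C) (i0 : ι) :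
    (⨁ f) ≅ f i0 ⊞ ⨁ (fun i : {i : ι // i ≠ i0} => f i.1) where
  hom := biprod.lift (biproduct.π f i0) (biproduct.lift fun i => biproduct.π f i.1)
  inv := biprod.desc (biproduct.ι f i0) (biproduct.desc fun i => biproduct.ι f i.1)
  hom_inv_id := by
    rw [biprod.lift_desc, biproduct.lift_desc, ← biproduct.total,
      Fintype.sum_eq_add_sum_subtype_ne _ i0]
  inv_hom_id := by
    apply biprod.hom_ext'
    · apply biprod.hom_ext
      · simp
      · apply biproduct.hom_ext
        intro j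
        simp [biproduct.ι_π_ne _ j.2.symm]
    · apply biproduct.hom_ext'
      intro i
      apply biprod.hom_ext
      · simp [biproduct.ι_π_ne _ i.2]
      · apply biproduct.hom_ext
        intro j
        simp only [Category.assoc, biprod.inr_desc_assoc, biproduct.ι_desc_assoc, biprod.lift_snd,
          biproduct.lift_π, Category.comp_id, biprod.inr_snd]
        exact ι_π_comp_inj f Subtype.val Subtype.val_injective i j

theorem isZero_biproduct_of_isEmpty {J : Type} [Fintype J] [IsEmpty J] (f : J → C) :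
    IsZero (⨁ f) := by
  rw [IsZero.iff_id_eq_zero]
  apply biproduct.hom_ext
  intro j
  exact isEmptyElim j

theorem isZero_of_isZero_biproduct {J : Type} [Fintype J] (f : J → C)
    (h : IsZero (⨁ f)) (j : J) : IsZero (f j) := by
  rw [IsZero.iff_id_eq_zero]
  rw [← biproduct.ι_π_self f j, h.eq_of_tgt (biproduct.ι f j) 0, zero_comp]

/-- The biproduct over a sum type. -/
noncomputable def sumIso {n₁ n₂ : Type} [Fintype n₁] [Fintype n₂] (As : n₁ → C) (Bs : n₂ → C) :
    (⨁ As) ⊞ (⨁ Bs) ≅ ⨁ (Sum.elim As Bs) where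
  hom := biprod.desc (biproduct.desc fun i => biproduct.ι (Sum.elim As Bs) (Sum.inl i))
    (biproduct.desc fun j => biproduct.ι (Sum.elim As Bs) (Sum.inr j))
  inv := biproduct.desc (fun s => match s with
    | Sum.inl i => biproduct.ι As i ≫ biprod.inl
    | Sum.inr j => biproduct.ι Bs j ≫ biprod.inr)
  hom_inv_id := by
    apply biprod.hom_ext'
    · apply biproduct.hom_ext'
      intro i
      rw [biprod.inl_desc_assoc, Category.comp_id]
      erw [biproduct.ι_desc_assoc, biproduct.ι_desc]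
      rfl
    · apply biproduct.hom_ext'
      intro j
      rw [biprod.inr_desc_assoc, Category.comp_id]
      erw [biproduct.ι_desc_assoc, biproduct.ι_desc]
      rfl
  inv_hom_id := by
    apply biproduct.hom_ext'
    intro s
    rcases s with i | j
    · rw [Category.comp_id]
      erw [biproduct.ι_desc_assoc]
      show (biproduct.ι As i ≫ biprod.inl) ≫ _ = _
      rw [Category.assoc, biprod.inl_desc]
      erw [biproduct.ι_desc]
    · rw [Category.comp_id]
      erw [biproduct.ι_desc_assoc]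
      show (biproduct.ι Bs j ≫ biprod.inr) ≫ _ = _
      rw [Category.assoc, biprod.inr_desc]
      erw [biproduct.ι_desc]

/-- **Krull–Schmidt uniqueness** for finite biproducts of objects with local endomorphism
rings. -/
theorem krullSchmidt : ∀ (n : ℕ) (ι κ : Type) [Fintype ι] [Fintype κ] [DecidableEq ι]
    [DecidableEq κ] (F : ι → C) (G : κ → C), Fintype.card ι = n → (∀ i, LocalEnd (F i)) →
    (∀ j, LocalEnd (G j)) → ((⨁ F) ≅ (⨁ G)) →
    ∃ e : ι ≃ κ, ∀ i, Nonempty (F i ≅ G (e i)) := by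
  intro n
  induction n with
  | zero =>
    intro ι κ _ _ _ _ F G hn hF hG φ
    haveI : IsEmpty ι := Fintype.card_eq_zero_iff.1 hn
    have hz : IsZero (⨁ G) := (isZero_biproduct_of_isEmpty F).of_iso φ.symm
    haveI : IsEmpty κ := ⟨fun j => (hG j).1 (isZero_of_isZero_biproduct G hz j)⟩
    exact ⟨Equiv.equivOfIsEmpty ι κ, fun i => isEmptyElim i⟩
  | succ n ih =>
    intro ι κ _ _ _ _ F G hn hF hG φ
    have hpos : 0 < Fintype.card ι := by omega
    obtain ⟨i0⟩ := Fintype.card_pos_iff.1 hpos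
    have hsum : ∑ j, (biproduct.ι F i0 ≫ φ.hom ≫ biproduct.π G j) ≫
        (biproduct.ι G j ≫ φ.inv ≫ biproduct.π F i0) = 𝟙 (F i0) := by
      calc _ = ∑ j, (biproduct.ι F i0 ≫ φ.hom) ≫ (biproduct.π G j ≫ biproduct.ι G j) ≫
              (φ.inv ≫ biproduct.π F i0) := by
            refine Finset.sum_congr rfl (fun j _ => ?_)
            simp only [Category.assoc]
        _ = (biproduct.ι F i0 ≫ φ.hom) ≫ (∑ j, biproduct.π G j ≫ biproduct.ι G j) ≫
              (φ.inv ≫ biproduct.π F i0) := by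
            rw [Preadditive.sum_comp, Preadditive.comp_sum]
        _ = 𝟙 (F i0) := by
            rw [biproduct.total, Category.id_comp, Category.assoc, Iso.hom_inv_id_assoc,
              biproduct.ι_π_self]
    have hiso : IsIso (∑ j ∈ (Finset.univ : Finset κ),
        (fun j => (biproduct.ι F i0 ≫ φ.hom ≫ biproduct.π G j) ≫
          (biproduct.ι G j ≫ φ.inv ≫ biproduct.π F i0)) j) := by
      show IsIso (∑ j, (biproduct.ι F i0 ≫ φ.hom ≫ biproduct.π G j) ≫
        (biproduct.ι G j ≫ φ.inv ≫ biproduct.π F i0))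
      rw [hsum]; infer_instance
    obtain ⟨j0, -, hj0⟩ := (hF i0).exists_isIso_of_sum Finset.univ _ hiso
    have hj0' : IsIso ((biproduct.ι F i0 ≫ φ.hom ≫ biproduct.π G j0) ≫
          (biproduct.ι G j0 ≫ φ.inv ≫ biproduct.π F i0)) := hj0
    have ha : IsIso (biproduct.ι F i0 ≫ φ.hom ≫ biproduct.π G j0) :=
      isIso_of_splitMono (hF i0).1 (hG j0) _
        ((biproduct.ι G j0 ≫ φ.inv ≫ biproduct.π F i0) ≫
          inv ((biproduct.ι F i0 ≫ φ.hom ≫ biproduct.π G j0) ≫
          (biproduct.ι G j0 ≫ φ.inv ≫ biproduct.π F i0)))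
        (by rw [← Category.assoc, IsIso.hom_inv_id])
    let ψ : F i0 ⊞ (⨁ fun i : {i // i ≠ i0} => F i.1) ≅
        G j0 ⊞ (⨁ fun j : {j // j ≠ j0} => G j.1) :=
      (splitIso F i0).symm ≪≫ φ ≪≫ splitIso G j0
    have hψ : biprod.inl ≫ ψ.hom ≫ biprod.fst = biproduct.ι F i0 ≫ φ.hom ≫ biproduct.π G j0 := by
      simp [ψ, splitIso]
    haveI : IsIso (biprod.inl ≫ ψ.hom ≫ biprod.fst) := by rw [hψ]; exact ha
    have φ' := Biprod.isoElim ψ
    have hcard : Fintype.card {i // i ≠ i0} = n := by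
      have h1 : Fintype.card (Option {i // i ≠ i0}) = Fintype.card ι :=
        Fintype.card_congr (Equiv.optionSubtypeNe i0)
      rw [Fintype.card_option, hn] at h1
      exact Nat.succ_injective h1
    obtain ⟨e', he'⟩ := ih {i // i ≠ i0} {j // j ≠ j0} (fun i => F i.1) (fun j => G j.1) hcard
      (fun i => hF i.1) (fun j => hG j.1) φ'
    refine ⟨(Equiv.optionSubtypeNe i0).symm.trans
      ((Equiv.optionCongr e').trans (Equiv.optionSubtypeNe j0)), ?_⟩
    intro i
    by_cases hi : i = i0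
    · rw [hi]
      simp only [Equiv.trans_apply, Equiv.optionSubtypeNe_symm_self, Equiv.optionCongr_apply,
        Option.map_none, Equiv.optionSubtypeNe_none]
      exact ⟨asIso (biproduct.ι F i0 ≫ φ.hom ≫ biproduct.π G j0)⟩
    · simp only [Equiv.trans_apply, Equiv.optionSubtypeNe_symm_of_ne hi, Equiv.optionCongr_apply,
        Option.map_some, Equiv.optionSubtypeNe_some]
      exact he' ⟨i, hi⟩

end Split

section Linear

variable {k : Type w} [Field k] [Linear k C]

/-- `n`-fold composite of an endomorphism. -/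
def pw {M : C} (f : M ⟶ M) : ℕ → (M ⟶ M)
  | 0 => 𝟙 M
  | n + 1 => f ≫ pw f n

@[simp] theorem pw_zero {M : C} (f : M ⟶ M) : pw f 0 = 𝟙 M := rfl

@[simp] theorem pw_succ {M : C} (f : M ⟶ M) (n : ℕ) : pw f (n + 1) = f ≫ pw f n := rfl

theorem leftComp_pow_apply {M : C} (f : M ⟶ M) (n : ℕ) (g : M ⟶ M) :
    ((Linear.leftComp k M f) ^ n) g = pw f n ≫ g := by
  induction n generalizing g with
  | zero => simp
  | succ n ih =>
    rw [pow_succ', Module.End.mul_apply, ih, Linear.leftComp_apply, pw_succ, Category.assoc]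

theorem pw_eq_pow {M : C} (f : M ⟶ M) (n : ℕ) : End.of (pw f n) = (End.of f) ^ n := by
  induction n with
  | zero => rw [pow_zero]; rfl
  | succ n ih =>
    rw [pow_succ, ← ih]; rfl

theorem isIso_one_sub_of_pw_eq_zero {M : C} (f : M ⟶ M) (n : ℕ) (h : pw f n = 0) :
    IsIso (𝟙 M - f) := by
  have h1 : IsNilpotent (End.of f) := ⟨n, by rw [← pw_eq_pow, h]⟩
  have h2 : IsUnit (1 - End.of f) := h1.isUnit_one_sub
  exact (isUnit_iff_isIso (1 - End.of f)).1 h2

theorem isIso_of_rightInv {M : C} [Module.Finite k (M ⟶ M)] (f r : M ⟶ M)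
    (hr : f ≫ r = 𝟙 M) : IsIso f := by
  have hinj : Function.Injective (Linear.rightComp k M f) := by
    intro g g' hgg
    simp only [Linear.rightComp_apply] at hgg
    calc g = (g ≫ f) ≫ r := by rw [Category.assoc, hr, Category.comp_id]
      _ = (g' ≫ f) ≫ r := by rw [hgg]
      _ = g' := by rw [Category.assoc, hr, Category.comp_id]
  obtain ⟨l, hl⟩ := LinearMap.surjective_of_injective hinj (𝟙 M)
  rw [Linear.rightComp_apply] at hl
  have hlr : l = r := by
    calc l = l ≫ (f ≫ r) := by rw [hr, Category.comp_id]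
      _ = (l ≫ f) ≫ r := by rw [Category.assoc]
      _ = r := by rw [hl, Category.id_comp]
  exact ⟨⟨r, hr, by rw [← hlr]; exact hl⟩⟩

theorem idem_eq_zero_or_one [HasBinaryBiproducts C] [IsIdempotentComplete C] {M : C}
    (hM : Indec M) (p : M ⟶ M) (hp : p ≫ p = p) : p = 0 ∨ p = 𝟙 M := by
  obtain ⟨Y₁, i₁, e₁, h₁, h₁'⟩ := IsIdempotentComplete.idempotents_split M p hp
  have hq : (𝟙 M - p) ≫ (𝟙 M - p) = 𝟙 M - p := by
    simp only [Preadditive.sub_comp, Preadditive.comp_sub, Category.id_comp, Category.comp_id,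
      hp, sub_self, sub_zero]
  obtain ⟨Y₂, i₂, e₂, h₂, h₂'⟩ := IsIdempotentComplete.idempotents_split M (𝟙 M - p) hq
  have hi1p : i₁ ≫ p = i₁ := by rw [← h₁', ← Category.assoc, h₁, Category.id_comp]
  have hi2p : i₂ ≫ p = 0 := by
    have h3 : i₂ ≫ (𝟙 M - p) = i₂ := by rw [← h₂', ← Category.assoc, h₂, Category.id_comp]
    rw [Preadditive.comp_sub, Category.comp_id] at h3
    exact sub_eq_self.1 h3
  have h12 : i₁ ≫ e₂ = 0 := by
    calc i₁ ≫ e₂ = i₁ ≫ e₂ ≫ (i₂ ≫ e₂) := by rw [h₂, Category.comp_id]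
      _ = (i₁ ≫ (e₂ ≫ i₂)) ≫ e₂ := by simp only [Category.assoc]
      _ = 0 := by rw [h₂', Preadditive.comp_sub, Category.comp_id, hi1p, sub_self, zero_comp]
  have h21 : i₂ ≫ e₁ = 0 := by
    calc i₂ ≫ e₁ = i₂ ≫ e₁ ≫ (i₁ ≫ e₁) := by rw [h₁, Category.comp_id]
      _ = (i₂ ≫ (e₁ ≫ i₁)) ≫ e₁ := by simp only [Category.assoc]
      _ = 0 := by rw [h₁', hi2p, zero_comp]
  let e : M ≅ Y₁ ⊞ Y₂ :=
    { hom := biprod.lift e₁ e₂
      inv := biprod.desc i₁ i₂
      hom_inv_id := by rw [biprod.lift_desc, h₁', h₂']; abel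
      inv_hom_id := by
        apply biprod.hom_ext' <;> apply biprod.hom_ext <;> simp [h₁, h₂, h12, h21] }
  rcases hM.2 Y₁ Y₂ ⟨e⟩ with hz | hz
  · left
    rw [← h₁', hz.eq_of_tgt e₁ 0, zero_comp]
  · right
    have h3 : 𝟙 M - p = 0 := by rw [← h₂', hz.eq_of_tgt e₂ 0, zero_comp]
    exact (sub_eq_zero.1 h3).symm

/-- Fitting: an indecomposable object with finite-dimensional endomorphism algebra has a local
endomorphism ring. -/
theorem localEnd_of_finite [HasBinaryBiproducts C] [IsIdempotentComplete C] {M : C}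
    [Module.Finite k (M ⟶ M)] (hM : Indec M) : LocalEnd M := by
  refine ⟨hM.1, fun f => ?_⟩
  obtain ⟨N, hN⟩ := Filter.eventually_atTop.1
    (LinearMap.eventually_isCompl_ker_pow_range_pow (Linear.leftComp k M f))
  have hc := hN (N + 1) (Nat.le_succ N)
  have htop : (𝟙 M : M ⟶ M) ∈ LinearMap.ker ((Linear.leftComp k M f) ^ (N + 1)) ⊔
      LinearMap.range ((Linear.leftComp k M f) ^ (N + 1)) := by
    rw [hc.sup_eq_top]; exact Submodule.mem_top
  obtain ⟨x, hx, y, hy, hxy⟩ := Submodule.mem_sup.1 htop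
  have hx' : pw f (N + 1) ≫ x = 0 := by
    rw [← leftComp_pow_apply (k := k)]; exact LinearMap.mem_ker.1 hx
  obtain ⟨c, hc0⟩ := LinearMap.mem_range.1 hy
  have hc' : pw f (N + 1) ≫ c = y := by
    rw [← leftComp_pow_apply (k := k)]; exact hc0
  have hxyy : x ≫ y = 0 := by
    have h1 : x ≫ y ∈ LinearMap.ker ((Linear.leftComp k M f) ^ (N + 1)) := by
      rw [LinearMap.mem_ker, leftComp_pow_apply, ← Category.assoc, hx', zero_comp]
    have h2 : x ≫ y ∈ LinearMap.range ((Linear.leftComp k M f) ^ (N + 1)) := by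
      have h3 : x ≫ y = y - y ≫ y := by
        have h4 : (x + y) ≫ y = y := by rw [hxy, Category.id_comp]
        rw [Preadditive.add_comp] at h4
        exact eq_sub_of_add_eq h4
      rw [h3]
      refine Submodule.sub_mem _ hy ?_
      refine LinearMap.mem_range.2 ⟨c ≫ y, ?_⟩
      rw [leftComp_pow_apply, ← Category.assoc, hc']
    exact Submodule.disjoint_def.1 hc.disjoint _ h1 h2
  have hyy : y ≫ y = y := by
    have h4 : (x + y) ≫ y = y := by rw [hxy, Category.id_comp]
    rw [Preadditive.add_comp, hxyy, zero_add] at h4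
    exact h4
  rcases idem_eq_zero_or_one hM y hyy with h0 | h1
  · right
    have hx1 : x = 𝟙 M := by rw [← hxy, h0, add_zero]
    rw [hx1, Category.comp_id] at hx'
    exact isIso_one_sub_of_pw_eq_zero f (N + 1) hx'
  · left
    have hr : f ≫ (pw f N ≫ c) = 𝟙 M := by
      rw [← Category.assoc]; exact hc'.trans h1
    exact isIso_of_rightInv (k := k) f _ hr

theorem finrank_end_lt [HasBinaryBiproducts C] {M A B : C} [Module.Finite k (M ⟶ M)]
    (e : M ≅ A ⊞ B) (hB : ¬ IsZero B) :
    Module.finrank k (A ⟶ A) < Module.finrank k (M ⟶ M) := by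
  let φ : (A ⟶ A) →ₗ[k] (M ⟶ M) :=
    (Linear.leftComp k M (e.hom ≫ biprod.fst)).comp (Linear.rightComp k A (biprod.inl ≫ e.inv))
  have hφ : ∀ g, φ g = (e.hom ≫ biprod.fst) ≫ (g ≫ biprod.inl ≫ e.inv) := fun g => rfl
  have hinj : Function.Injective φ := by
    intro g g' h
    rw [hφ, hφ] at h
    have h2 := congrArg (fun t => (biprod.inl ≫ e.inv) ≫ t ≫ (e.hom ≫ biprod.fst)) h
    simpa using h2
  have hne : LinearMap.range φ ≠ ⊤ := by
    intro htop
    have hq : (e.hom ≫ biprod.snd ≫ biprod.inr ≫ e.inv) ∈ LinearMap.range φ := by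
      rw [htop]; exact Submodule.mem_top
    obtain ⟨g, hg⟩ := LinearMap.mem_range.1 hq
    rw [hφ] at hg
    have h2 := congrArg (fun t => (biprod.inr ≫ e.inv) ≫ t ≫ (e.hom ≫ biprod.snd)) hg
    apply hB
    rw [IsZero.iff_id_eq_zero]
    simpa using h2.symm
  calc Module.finrank k (A ⟶ A) = Module.finrank k (LinearMap.range φ) :=
        (LinearMap.finrank_range_of_inj hinj).symm
    _ < Module.finrank k (M ⟶ M) := Submodule.finrank_lt hne

/-- Existence of a decomposition into indecomposables, for a class `P` of objects closed under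
direct summands and with finite-dimensional endomorphism algebras. -/
theorem exists_decomp [HasBinaryBiproducts C] [HasFiniteBiproducts C] (P : C → Prop)
    (hfin : ∀ M, P M → Module.Finite k (M ⟶ M))
    (hsum : ∀ M A B, P M → (M ≅ A ⊞ B) → P A ∧ P B) :
    ∀ (d : ℕ) (M : C), P M → Module.finrank k (M ⟶ M) < d →
      ∃ (n : ℕ) (Fs : Fin n → C), (∀ i, Indec (Fs i)) ∧ Nonempty (M ≅ ⨁ Fs) := by
  intro d
  induction d with
  | zero => intro M _ h; exact absurd h (Nat.not_lt_zero _)
  | succ d ih =>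
    intro M hM hd
    by_cases hz : IsZero M
    · exact ⟨0, fun i => i.elim0, fun i => i.elim0,
        ⟨hz.iso (isZero_biproduct_of_isEmpty _)⟩⟩
    by_cases hI : Indec M
    · exact ⟨1, fun _ => M, fun _ => hI, ⟨(biproductUniqueIso (fun _ : Fin 1 => M)).symm⟩⟩
    have hex : ∃ A B : C, Nonempty (M ≅ A ⊞ B) ∧ ¬ IsZero A ∧ ¬ IsZero B := by
      by_contra hcon
      apply hI
      refine ⟨hz, fun A B hAB => ?_⟩
      by_contra hcon2
      rw [not_or] at hcon2
      exact hcon ⟨A, B, hAB, hcon2.1, hcon2.2⟩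
    obtain ⟨A, B, ⟨e⟩, hA, hB⟩ := hex
    haveI := hfin M hM
    obtain ⟨pA, pB⟩ := hsum M A B hM e
    have hdA : Module.finrank k (A ⟶ A) < d := by
      have h1 := finrank_end_lt (k := k) e hB
      omega
    have hdB : Module.finrank k (B ⟶ B) < d := by
      have h1 := finrank_end_lt (k := k) (e ≪≫ biprod.braiding A B) hA
      omega
    obtain ⟨n₁, As, hAs, ⟨eA⟩⟩ := ih A pA hdA
    obtain ⟨n₂, Bs, hBs, ⟨eB⟩⟩ := ih B pB hdB
    refine ⟨n₁ + n₂, (Sum.elim As Bs) ∘ finSumFinEquiv.symm, ?_, ⟨?_⟩⟩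
    · intro i
      show Indec (Sum.elim As Bs (finSumFinEquiv.symm i))
      rcases finSumFinEquiv.symm i with j | j
      · exact hAs j
      · exact hBs j
    · exact e ≪≫ biprod.mapIso eA eB ≪≫ sumIso As Bs ≪≫
        (biproduct.reindex finSumFinEquiv.symm (Sum.elim As Bs)).symm

end Linear

end Groth.Agent.Lib.Helper24.KS
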