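import Mathlib

/-!
# Nagata's substitution, elementwise form (helper24)

The key lemmas are copied from the private part of `Mathlib.RingTheory.NoetherNormalization`
(Nagata's trick), and repackaged as: if `f ≠ 0` vanishes at `(w, y)` then `w` is integral over
`k[y_i - w ^ r_i]`.
-/

set_option autoImplicit false
set_option maxHeartbeats 400000

open Polynomial MvPolynomial Ideal Nat RingHom List

namespace Groth.Agent.Lib.Helper24.KedNagata

variable {k : Type*} [Field k] {n : ℕ} (f : MvPolynomial (Fin (n + 1)) k)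
variable (v w : Fin (n + 1) →₀ ℕ)

section equivT

local notation3 "up" => 2 + f.totalDegree

variable {f v} in
lemma lt_up (vlt : ∀ i, v i < up) : ∀ l ∈ ofFn v, l < up := by
  grind

local notation3 "r" => fun (i : Fin (n + 1)) ↦ up ^ i.1

noncomputable abbrev T1 (c : k) :
    MvPolynomial (Fin (n + 1)) k →ₐ[k] MvPolynomial (Fin (n + 1)) k :=
  aeval fun i ↦ if i = 0 then X 0 else X i + c • X 0 ^ r i

lemma t1_comp_t1_neg (c : k) : (T1 f c).comp (T1 f (-c)) = AlgHom.id _ _ := by
  rw [comp_aeval, ← MvPolynomial.aeval_X_left]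
  ext i v
  cases i using Fin.cases <;> simp

noncomputable abbrev T := AlgEquiv.ofAlgHom (T1 f 1) (T1 f (-1))
  (t1_comp_t1_neg f 1) (by simpa using t1_comp_t1_neg f (-1))

lemma sum_r_mul_ne (vlt : ∀ i, v i < up) (wlt : ∀ i, w i < up) (ne : v ≠ w) :
    ∑ x : Fin (n + 1), r x * v x ≠ ∑ x : Fin (n + 1), r x * w x := by
  intro h
  refine ne <| Finsupp.ext <| congrFun <| ofFn_inj.mp ?_
  apply ofDigits_inj_of_len_eq (Nat.lt_add_right f.totalDegree one_lt_two)
    (by simp) (lt_up vlt) (lt_up wlt)
  simpa only [ofDigits_eq_sum_mapIdx, mapIdx_eq_ofFn, get_ofFn, length_ofFn,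
    Fin.val_cast, mul_comm, sum_ofFn] using! h

lemma degreeOf_zero_t {a : k} (ha : a ≠ 0) : ((T f) (monomial v a)).degreeOf 0 =
    ∑ i : Fin (n + 1), (r i) * v i := by
  rw [← natDegree_finSuccEquiv, monomial_eq, Finsupp.prod_pow v fun a ↦ X a]
  simp only [Fin.prod_univ_succ, Fin.sum_univ_succ, map_mul, map_prod, map_pow,
    AlgEquiv.ofAlgHom_apply, MvPolynomial.aeval_C, MvPolynomial.aeval_X, if_pos, Fin.succ_ne_zero,
    ite_false, one_smul, map_add, finSuccEquiv_X_zero, finSuccEquiv_X_succ, algebraMap_eq]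
  have h (i : Fin n) :
      (Polynomial.C (X (R := k) i) + Polynomial.X ^ r i.succ) ^ v i.succ ≠ 0 :=
    pow_ne_zero (v i.succ) (leadingCoeff_ne_zero.mp <| by simp [add_comm, leadingCoeff_X_pow_add_C])
  rw [natDegree_mul (by simp [ha]) (mul_ne_zero (by simp) (Finset.prod_ne_zero_iff.mpr
    (fun i _ ↦ h i))), natDegree_mul (by simp) (Finset.prod_ne_zero_iff.mpr (fun i _ ↦ h i)),
    natDegree_prod _ _ (fun i _ ↦ h i), natDegree_finSuccEquiv, degreeOf_C]
  simpa only [natDegree_pow, zero_add, natDegree_X, mul_one, Fin.val_zero, pow_zero, one_mul,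
    add_right_inj] using Finset.sum_congr rfl (fun i _ ↦ by
    rw [add_comm (Polynomial.C _), natDegree_X_pow_add_C, mul_comm])

lemma degreeOf_t_ne_of_ne (hv : v ∈ f.support) (hw : w ∈ f.support) (ne : v ≠ w) :
    (T f <| monomial v <| coeff v f).degreeOf 0 ≠
    (T f <| monomial w <| coeff w f).degreeOf 0 := by
  rw [degreeOf_zero_t _ _ <| mem_support_iff.mp hv, degreeOf_zero_t _ _ <| mem_support_iff.mp hw]
  refine sum_r_mul_ne f v w (fun i ↦ ?_) (fun i ↦ ?_) ne <;>
  exact lt_of_le_of_lt ((monomial_le_degreeOf i ‹_›).trans (degreeOf_le_totalDegree f i))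
    (by lia)

lemma leadingCoeff_finSuccEquiv_t :
    (finSuccEquiv k n ((T f) ((monomial v) (coeff v f)))).leadingCoeff =
    algebraMap k _ (coeff v f) := by
  rw [monomial_eq, Finsupp.prod_fintype]
  · simp only [map_mul, map_prod, leadingCoeff_mul, leadingCoeff_prod]
    rw [AlgEquiv.ofAlgHom_apply, algHom_C, algebraMap_eq, finSuccEquiv_apply,
      eval₂Hom_C, coe_comp]
    simp only [AlgEquiv.ofAlgHom_apply, Function.comp_apply, leadingCoeff_C, map_pow,
      leadingCoeff_pow, algebraMap_eq]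
    have : ∀ j, ((finSuccEquiv k n) ((T1 f) 1 (X j))).leadingCoeff = 1 := fun j ↦ by
      by_cases h : j = 0
      · simp [h, finSuccEquiv_apply]
      · simp only [aeval_eq_bind₁, bind₁_X_right, if_neg h, one_smul, map_add, map_pow]
        obtain ⟨i, rfl⟩ := Fin.exists_succ_eq.mpr h
        simp [finSuccEquiv_X_succ, finSuccEquiv_X_zero, add_comm]
    simp only [this, one_pow, Finset.prod_const_one, mul_one]
  exact fun i ↦ pow_zero _

lemma T_leadingcoeff_isUnit (fne : f ≠ 0) :
    IsUnit (finSuccEquiv k n (T f f)).leadingCoeff := by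
  obtain ⟨v, vin, vs⟩ := Finset.exists_max_image f.support
    (fun v ↦ (T f ((monomial v) (coeff v f))).degreeOf 0) (support_nonempty.mpr fne)
  set h := fun w ↦ (MvPolynomial.monomial w) (coeff w f)
  simp only [← natDegree_finSuccEquiv] at vs
  replace vs : ∀ x ∈ f.support \ {v}, (finSuccEquiv k n ((T f) (h x))).degree <
      (finSuccEquiv k n ((T f) (h v))).degree := by
    intro x hx
    obtain ⟨h1, h2⟩ := Finset.mem_sdiff.mp hx
    apply degree_lt_degree <| lt_of_le_of_ne (vs x h1) ?_
    simpa only [natDegree_finSuccEquiv]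
      using degreeOf_t_ne_of_ne f _ _ h1 vin <| ne_of_not_mem_cons h2
  have coeff : (finSuccEquiv k n ((T f) (h v + ∑ x ∈ f.support \ {v}, h x))).leadingCoeff =
      (finSuccEquiv k n ((T f) (h v))).leadingCoeff := by
    simp only [map_add, map_sum]
    rw [add_comm]
    apply leadingCoeff_add_of_degree_lt <| (lt_of_le_of_lt <| degree_sum_le _ _) ?_
    have h2 : h v ≠ 0 := by simpa [h] using mem_support_iff.mp vin
    replace h2 : (finSuccEquiv k n ((T f) (h v))) ≠ 0 := fun eq ↦ h2 <|
      by simpa only [map_eq_zero_iff _ (AlgEquiv.injective _)] using eq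
    exact (Finset.sup_lt_iff <| Ne.bot_lt (fun x ↦ h2 <| degree_eq_bot.mp x)).mpr vs
  nth_rw 2 [← f.support_sum_monomial_coeff]
  rw [Finset.sum_eq_add_sum_sdiff_singleton_of_mem vin h]
  rw [leadingCoeff_finSuccEquiv_t] at coeff
  simpa only [coeff, algebraMap_eq] using (mem_support_iff.mp vin).isUnit.map MvPolynomial.C

lemma T1_leadingcoeff_isUnit (fne : f ≠ 0) :
    IsUnit (finSuccEquiv k n (T1 f 1 f)).leadingCoeff :=
  T_leadingcoeff_isUnit f fne

end equivT

section elementwise

variable {C : Type*} [CommRing C] [Algebra k C]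

/-- Evaluating a polynomial in `n+1` variables at `(w, y)` is evaluating the associated
one-variable polynomial over `k[y]` at `w`. -/
lemma aeval_cons_eq (w : C) (y : Fin n → C) (g : MvPolynomial (Fin (n + 1)) k) :
    MvPolynomial.aeval (Fin.cons w y : Fin (n + 1) → C) g =
      Polynomial.eval₂ (MvPolynomial.aeval y : MvPolynomial (Fin n) k →ₐ[k] C).toRingHom w
        (finSuccEquiv k n g) := by
  have h : (MvPolynomial.aeval (Fin.cons w y : Fin (n + 1) → C) :
      MvPolynomial (Fin (n + 1)) k →ₐ[k] C) =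
      (Polynomial.eval₂AlgHom (MvPolynomial.aeval y : MvPolynomial (Fin n) k →ₐ[k] C) w
        (fun _ => Commute.all _ _)).comp (finSuccEquiv k n).toAlgHom := by
    apply MvPolynomial.algHom_ext
    intro i
    cases i using Fin.cases with
    | zero => simp [finSuccEquiv_X_zero]
    | succ j => simp [finSuccEquiv_X_succ]
  rw [h]
  rfl

/-- Nagata's trick, elementwise: if a nonzero polynomial `f` vanishes at `(w, y)`, then `w` is
integral over `k[y_i - w ^ r_i]`, `r_i = (2 + deg f)^(i+1)`. -/
theorem nagata (fne : f ≠ 0) (w : C) (y : Fin n → C)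
    (h : MvPolynomial.aeval (Fin.cons w y : Fin (n + 1) → C) f = 0) :
    IsIntegral (MvPolynomial.aeval
        (fun i : Fin n => y i - w ^ ((2 + f.totalDegree) ^ (i.1 + 1))) :
          MvPolynomial (Fin n) k →ₐ[k] C).range w := by
  set y' : Fin n → C := fun i : Fin n => y i - w ^ ((2 + f.totalDegree) ^ (i.1 + 1)) with hy'
  have h1 : MvPolynomial.aeval (Fin.cons w y' : Fin (n + 1) → C) (T1 f 1 f) = 0 := by
    rw [← h, T1, MvPolynomial.comp_aeval_apply]
    refine congrArg (fun g => MvPolynomial.aeval (R := k) g f) ?_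
    funext i
    cases i using Fin.cases with
    | zero => simp
    | succ j => simp [Fin.succ_ne_zero, hy']
  rw [aeval_cons_eq] at h1
  have u := T1_leadingcoeff_isUnit f fne
  set q := finSuccEquiv k n (T1 f 1 f) with hq
  have hmonic : (u.unit⁻¹.val • q).Monic := monic_of_isUnit_leadingCoeff_inv_smul u
  set g0 : MvPolynomial (Fin n) k →ₐ[k] C := MvPolynomial.aeval y' with hg0
  refine ⟨(u.unit⁻¹.val • q).map g0.rangeRestrict.toRingHom, hmonic.map _, ?_⟩
  rw [Polynomial.eval₂_map]
  have hcomp : (algebraMap g0.range C).comp g0.rangeRestrict.toRingHom = g0.toRingHom := by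
    ext x <;> rfl
  rw [hcomp, Polynomial.eval₂_smul, h1, mul_zero]

end elementwise

end Groth.Agent.Lib.Helper24.KedNagata
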