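import Mathlib
import Groth.Agent.Lib.Helper24.KedNagata

/-!
# Finite étale covers of affine space in characteristic `p` (helper24)

Kedlaya's trick: if `C` is étale over `k[x_1..x_n]`, `char k = p`, then changing the coordinates
`y_i` by `p`-th powers keeps `dy_i` a basis of `Ω[C/k]` (so keeps the map étale), and by Nagata's
substitution (with `p`-th power exponents) one makes `C` finite over `k[y']`.
-/

set_option autoImplicit false
set_option maxHeartbeats 400000
universe u
open scoped TensorProduct
open KaehlerDifferential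

namespace Groth.Agent.Lib.Helper24.Kedlaya

section general

variable (R S T : Type u) [CommRing R] [CommRing S] [CommRing T]
  [Algebra R S] [Algebra R T] [Algebra S T] [IsScalarTower R S T]

/-- Jacobi–Zariski: if `T` is formally smooth over `R` and `T ⊗ Ω[S/R] → Ω[T/R]` is bijective,
then `T` is formally étale over `S`. -/
lemma formallyEtale_of_bijective [Algebra.FormallySmooth R T]
    (h : Function.Bijective (mapBaseChange R S T)) : Algebra.FormallyEtale S T := by
  constructor
  · refine subsingleton_of_forall_eq 0 fun x => ?_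
    obtain ⟨x', rfl⟩ := KaehlerDifferential.map_surjective R S T x
    obtain ⟨t, rfl⟩ := h.2 x'
    exact (KaehlerDifferential.exact_mapBaseChange_map R S T _).mpr ⟨t, rfl⟩
  · refine subsingleton_of_forall_eq 0 fun x => ?_
    have h1 : mapBaseChange R S T (Algebra.H1Cotangent.δ R S T x) = 0 :=
      (Algebra.H1Cotangent.exact_δ_mapBaseChange R S T _).mpr ⟨x, rfl⟩
    have h2 : Algebra.H1Cotangent.δ R S T x = 0 := h.1 (by rw [h1, map_zero])
    obtain ⟨y, rfl⟩ := (Algebra.H1Cotangent.exact_map_δ R S T x).mp h2
    rw [Subsingleton.elim y 0, map_zero]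

end general

/-- Elements of an étale algebra over a domain are algebraic. -/
lemma isAlgebraic_of_etale (P C : Type u) [CommRing P] [IsDomain P] [CommRing C] [Algebra P C]
    [Algebra.Etale P C] (w : C) : IsAlgebraic P w := by
  haveI : Module.Finite (FractionRing P) (FractionRing P ⊗[P] C) :=
    Algebra.FormallyUnramified.finite_of_free (FractionRing P) (FractionRing P ⊗[P] C)
  have h1 : IsIntegral (FractionRing P) ((1 : FractionRing P) ⊗ₜ[P] w) :=
    Algebra.IsIntegral.isIntegral _
  have h2 : IsAlgebraic P ((1 : FractionRing P) ⊗ₜ[P] w) :=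
    (IsFractionRing.isAlgebraic_iff P (FractionRing P) (FractionRing P ⊗[P] C)).mpr h1.isAlgebraic
  obtain ⟨F, hF0, hF⟩ := h2
  refine ⟨F, hF0, ?_⟩
  have hinj : Function.Injective
      (Algebra.TensorProduct.includeRight : C →ₐ[P] FractionRing P ⊗[P] C) :=
    Algebra.TensorProduct.includeRight_injective (IsFractionRing.injective P (FractionRing P))
  apply hinj
  rw [map_zero, ← Polynomial.aeval_algHom_apply]
  exact hF

section coord

variable (k : Type u) [Field k] {n : ℕ} {C : Type u} [CommRing C] [Algebra k C]

/-- `dy_i` is a basis of `Ω[C/k]`. -/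
def IsCoord (y : Fin n → C) : Prop :=
  Function.Bijective (Finsupp.linearCombination C (fun i => D k C (y i)))

lemma linearCombination_eq [Algebra (MvPolynomial (Fin n) k) C]
    [IsScalarTower k (MvPolynomial (Fin n) k) C] (l : Fin n →₀ C) :
    Finsupp.linearCombination C
        (fun i => D k C (algebraMap (MvPolynomial (Fin n) k) C (MvPolynomial.X i))) l
      = mapBaseChange k (MvPolynomial (Fin n) k) C
          (((mvPolynomialBasis k (Fin n)).baseChange C).repr.symm l) := by
  rw [Module.Basis.repr_symm_apply, Finsupp.apply_linearCombination]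
  refine congrArg (fun v => Finsupp.linearCombination C v l) ?_
  funext i
  simp [mapBaseChange_tmul]

lemma isCoord_iff [Algebra (MvPolynomial (Fin n) k) C]
    [IsScalarTower k (MvPolynomial (Fin n) k) C] :
    IsCoord k (fun i => algebraMap (MvPolynomial (Fin n) k) C (MvPolynomial.X i)) ↔
      Function.Bijective (mapBaseChange k (MvPolynomial (Fin n) k) C) := by
  have h : ⇑(Finsupp.linearCombination C
        (fun i => D k C (algebraMap (MvPolynomial (Fin n) k) C (MvPolynomial.X i)))) =
      ⇑(mapBaseChange k (MvPolynomial (Fin n) k) C) ∘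
        ⇑(((mvPolynomialBasis k (Fin n)).baseChange C).repr.symm) :=
    funext (linearCombination_eq k)
  unfold IsCoord
  rw [h]
  exact Function.Bijective.of_comp_iff _ (LinearEquiv.bijective _)

lemma isCoord_of_etale [Algebra (MvPolynomial (Fin n) k) C]
    [IsScalarTower k (MvPolynomial (Fin n) k) C]
    [Algebra.FormallyEtale (MvPolynomial (Fin n) k) C] :
    IsCoord k (fun i => algebraMap (MvPolynomial (Fin n) k) C (MvPolynomial.X i)) :=
  (isCoord_iff k).mpr (tensorKaehlerEquivOfFormallyEtale k (MvPolynomial (Fin n) k) C).bijective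

lemma etale_of_isCoord [Algebra.FormallySmooth k C] [Algebra.FinitePresentation k C]
    (y : Fin n → C) (hy : IsCoord k y) :
    (MvPolynomial.aeval y : MvPolynomial (Fin n) k →ₐ[k] C).toRingHom.Etale := by
  letI : Algebra (MvPolynomial (Fin n) k) C :=
    (MvPolynomial.aeval y : MvPolynomial (Fin n) k →ₐ[k] C).toRingHom.toAlgebra
  haveI : IsScalarTower k (MvPolynomial (Fin n) k) C := IsScalarTower.of_algebraMap_eq
    (fun a => ((MvPolynomial.aeval y : MvPolynomial (Fin n) k →ₐ[k] C).commutes a).symm)
  have hy' : IsCoord k (fun i => algebraMap (MvPolynomial (Fin n) k) C (MvPolynomial.X i)) := by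
    have : (fun i => algebraMap (MvPolynomial (Fin n) k) C (MvPolynomial.X i)) = y :=
      funext fun i => MvPolynomial.aeval_X y i
    rw [this]; exact hy
  haveI : Algebra.FormallyEtale (MvPolynomial (Fin n) k) C :=
    formallyEtale_of_bijective k (MvPolynomial (Fin n) k) C ((isCoord_iff k).mp hy')
  haveI : Algebra.FinitePresentation (MvPolynomial (Fin n) k) C :=
    Algebra.FinitePresentation.of_restrict_scalars_finitePresentation k (MvPolynomial (Fin n) k) C
  show Algebra.Etale (MvPolynomial (Fin n) k) C
  exact {}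

/-- Transitivity of integrality over the subalgebras `k[y]`. -/
lemma isIntegral_range_trans {y y' : Fin n → C}
    (h : ∀ i, IsIntegral (MvPolynomial.aeval y' : MvPolynomial (Fin n) k →ₐ[k] C).range (y i))
    {c : C} (hc : IsIntegral (MvPolynomial.aeval y : MvPolynomial (Fin n) k →ₐ[k] C).range c) :
    IsIntegral (MvPolynomial.aeval y' : MvPolynomial (Fin n) k →ₐ[k] C).range c := by
  set A' := (MvPolynomial.aeval y' : MvPolynomial (Fin n) k →ₐ[k] C).range with hA'
  set B := (MvPolynomial.aeval y : MvPolynomial (Fin n) k →ₐ[k] C).range with hB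
  have hBint : ∀ b ∈ B, IsIntegral A' b := by
    rintro _ ⟨q, rfl⟩
    induction q using MvPolynomial.induction_on with
    | C a =>
      have : (MvPolynomial.aeval y : MvPolynomial (Fin n) k →ₐ[k] C).toRingHom (MvPolynomial.C a)
          = algebraMap A' C (algebraMap k A' a) := by
        simp [← IsScalarTower.algebraMap_apply]
      rw [this]
      exact isIntegral_algebraMap
    | add q₁ q₂ h₁ h₂ => rw [map_add]; exact h₁.add h₂
    | mul_X q i hq =>
      rw [map_mul]
      refine hq.mul ?_
      have : (MvPolynomial.aeval y : MvPolynomial (Fin n) k →ₐ[k] C).toRingHom (MvPolynomial.X i)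
          = y i := MvPolynomial.aeval_X y i
      rw [this]; exact h i
  let j : B →+* (integralClosure A' C) :=
    RingHom.codRestrict (B.val : B →+* C) (integralClosure A' C) (fun x => hBint x.1 x.2)
  letI : Algebra B (integralClosure A' C) := j.toAlgebra
  haveI : IsScalarTower B (integralClosure A' C) C :=
    IsScalarTower.of_algebraMap_eq (fun x => rfl)
  exact isIntegral_trans (A := integralClosure A' C) c hc.tower_top

/-- One step: make `z` integral, keeping the old coordinates integral and `dy` a basis. -/
lemma step [Algebra.FormallySmooth k C] [Algebra.FinitePresentation k C] (p : ℕ) (hp : p.Prime)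
    (hp0 : (p : C) = 0) (y : Fin n → C) (hy : IsCoord k y) (z : C) :
    ∃ y' : Fin n → C, IsCoord k y' ∧
      IsIntegral (MvPolynomial.aeval y' : MvPolynomial (Fin n) k →ₐ[k] C).range z ∧
      ∀ i, IsIntegral (MvPolynomial.aeval y' : MvPolynomial (Fin n) k →ₐ[k] C).range (y i) := by
  have hE := etale_of_isCoord k y hy
  obtain ⟨H, hH0, hH⟩ : ∃ H : MvPolynomial (Fin (n + 1)) k, H ≠ 0 ∧
      MvPolynomial.aeval (Fin.cons (z ^ p) y : Fin (n + 1) → C) H = 0 := by
    letI : Algebra (MvPolynomial (Fin n) k) C :=
      (MvPolynomial.aeval y : MvPolynomial (Fin n) k →ₐ[k] C).toRingHom.toAlgebra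
    haveI : Algebra.Etale (MvPolynomial (Fin n) k) C := hE
    obtain ⟨F, hF0, hF⟩ := isAlgebraic_of_etale (MvPolynomial (Fin n) k) C (z ^ p)
    refine ⟨(MvPolynomial.finSuccEquiv k n).symm F, ?_, ?_⟩
    · exact (map_ne_zero_iff _ (AlgEquiv.injective _)).mpr hF0
    · rw [KedNagata.aeval_cons_eq, AlgEquiv.apply_symm_apply]
      exact hF
  set w := z ^ p with hw_def
  set y' : Fin n → C := fun i => y i - w ^ ((2 + H.totalDegree) ^ (i.1 + 1)) with hy'_def
  have hw : IsIntegral (MvPolynomial.aeval y' : MvPolynomial (Fin n) k →ₐ[k] C).range w :=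
    KedNagata.nagata H hH0 w y hH
  have hD : ∀ s : ℕ, D k C (w ^ s) = 0 := fun s => by
    rw [hw_def, ← pow_mul, Derivation.leibniz_pow, ← Nat.cast_smul_eq_nsmul C, Nat.cast_mul, hp0,
      zero_mul, zero_smul]
  refine ⟨y', ?_, IsIntegral.of_pow hp.pos hw, fun i => ?_⟩
  · have : (fun i => D k C (y' i)) = fun i => D k C (y i) := funext fun i => by
      simp only [hy'_def, map_sub, hD, sub_zero]
    unfold IsCoord
    rw [this]
    exact hy
  · have h1 : y i = y' i + w ^ ((2 + H.totalDegree) ^ (i.1 + 1)) := by simp [hy'_def]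
    rw [h1]
    refine IsIntegral.add ?_ (hw.pow _)
    exact isIntegral_algebraMap (R := (MvPolynomial.aeval y' : MvPolynomial (Fin n) k →ₐ[k] C).range)
      (x := ⟨y' i, ⟨MvPolynomial.X i, MvPolynomial.aeval_X y' i⟩⟩)

lemma exists_integral [Algebra.FormallySmooth k C] [Algebra.FinitePresentation k C] (p : ℕ)
    (hp : p.Prime) (hp0 : (p : C) = 0) (S : Finset C) :
    ∀ y : Fin n → C, IsCoord k y → ∃ y' : Fin n → C, IsCoord k y' ∧
      ∀ c ∈ S, IsIntegral (MvPolynomial.aeval y' : MvPolynomial (Fin n) k →ₐ[k] C).range c := by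
  classical
  induction S using Finset.induction_on with
  | empty => intro y hy; exact ⟨y, hy, by simp⟩
  | insert z S hz ih =>
    intro y hy
    obtain ⟨y₁, hy₁, h2⟩ := ih y hy
    obtain ⟨y₂, hy₂, hz2, h3⟩ := step k p hp hp0 y₁ hy₁ z
    refine ⟨y₂, hy₂, fun c hc => ?_⟩
    rcases Finset.mem_insert.mp hc with rfl | hc
    · exact hz2
    · exact isIntegral_range_trans k h3 (h2 c hc)

end coord

theorem main (k : Type u) [Field k] (p : ℕ) [Fact p.Prime] [CharP k p] (n : ℕ) (C : Type u)
    [CommRing C] [Algebra (MvPolynomial (Fin n) k) C] [Algebra k C]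
    [IsScalarTower k (MvPolynomial (Fin n) k) C] [Algebra.Etale (MvPolynomial (Fin n) k) C] :
    ∃ φ : MvPolynomial (Fin n) k →ₐ[k] C, φ.toRingHom.Finite ∧ φ.toRingHom.Etale := by
  haveI : Algebra.FormallySmooth k C := Algebra.FormallySmooth.comp k (MvPolynomial (Fin n) k) C
  haveI : Algebra.FinitePresentation k C :=
    Algebra.FinitePresentation.trans k (MvPolynomial (Fin n) k) C
  have hp0 : (p : C) = 0 := by
    rw [← map_natCast (algebraMap k C), CharP.cast_eq_zero k p, map_zero]
  have hy0 : IsCoord k (fun i => algebraMap (MvPolynomial (Fin n) k) C (MvPolynomial.X i)) :=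
    isCoord_of_etale k
  obtain ⟨S, hS⟩ := (Algebra.FiniteType.out : (⊤ : Subalgebra k C).FG)
  obtain ⟨y', hy', hint⟩ := exists_integral k p (Fact.out) hp0 S _ hy0
  refine ⟨MvPolynomial.aeval y', ?_, etale_of_isCoord k y' hy'⟩
  apply RingHom.IsIntegral.to_finite
  · have hall : ∀ c : C,
        IsIntegral (MvPolynomial.aeval y' : MvPolynomial (Fin n) k →ₐ[k] C).range c := by
      intro c
      have hle : Algebra.adjoin k (S : Set C) ≤
          (integralClosure (MvPolynomial.aeval y' : MvPolynomial (Fin n) k →ₐ[k] C).range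
            C).restrictScalars k :=
        Algebra.adjoin_le (fun c hc => hint c hc)
      rw [hS] at hle
      exact hle Algebra.mem_top
    have h1 : ((MvPolynomial.aeval y' :
        MvPolynomial (Fin n) k →ₐ[k] C).rangeRestrict.toRingHom).IsIntegral :=
      RingHom.isIntegral_of_surjective _ (AlgHom.rangeRestrict_surjective _)
    have h2 : (algebraMap (MvPolynomial.aeval y' : MvPolynomial (Fin n) k →ₐ[k] C).range
        C).IsIntegral := hall
    exact RingHom.IsIntegral.trans _ _ h1 h2
  · have h1 : ((MvPolynomial.aeval y' : MvPolynomial (Fin n) k →ₐ[k] C).toRingHom.comp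
        (algebraMap k (MvPolynomial (Fin n) k))).FiniteType := by
      have h2 : (MvPolynomial.aeval y' : MvPolynomial (Fin n) k →ₐ[k] C).toRingHom.comp
          (algebraMap k (MvPolynomial (Fin n) k)) = algebraMap k C := by
        ext a; simp
      rw [h2]
      exact RingHom.finiteType_algebraMap.mpr inferInstance
    exact RingHom.FiniteType.of_comp_finiteType h1

end Groth.Agent.Lib.Helper24.Kedlaya
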