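import Mathlib
import Groth.Prelude.Def_PolLaw
import Groth.Agent.Lib.Helper20.PolLawKer
import Groth.Agent.Lib.Helper24.KerBC
import Groth.Agent.Lib.Helper24.KerRad
import Groth.Agent.Lib.Helper24.KerTF

/-!
# Going down for the image of a family of zero-cycles, universally (helper24)

`hasGoingDown_image`: for every `A`-algebra `A'`, `A' → A' ⊗[A] (B ⧸ ker F)` has going down.
-/

set_option autoImplicit false

namespace Groth.Agent.Lib.Helper24.KerGD

open scoped TensorProduct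
open Groth.Agent.Lib.Helper20.PolLawKer Groth.Agent.Lib.Helper24.KerBC
  Groth.Agent.Lib.Helper24.KerRad

universe u

variable {A : Type u} [CommRing A] {B : Type u} [CommRing B] [Algebra A B] {d : ℕ}
  (F : PolLaw.MulLaw A B A d)

lemma ker_mkₐ {R : Type u} [CommRing R] [Algebra A R] (I : Ideal R) :
    RingHom.ker (Ideal.Quotient.mkₐ A I) = I := by
  ext x
  rw [RingHom.mem_ker, Ideal.Quotient.mkₐ_eq_mk, Ideal.Quotient.eq_zero_iff_mem]

theorem hasGoingDown_image (A' : Type u) [CommRing A'] [Algebra A A'] :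
    Algebra.HasGoingDown A' (A' ⊗[A] (B ⧸ PolLaw.ker F.law)) := by
  constructor
  intro p hp Q hQ hlt
  have hπ : Function.Surjective (Algebra.TensorProduct.map (AlgHom.id A A')
      (Ideal.Quotient.mkₐ A (PolLaw.ker F.law))) :=
    Algebra.TensorProduct.map_surjective _ _ (fun x => ⟨x, rfl⟩)
      (Ideal.Quotient.mkₐ_surjective A (PolLaw.ker F.law))
  have hkerπ : RingHom.ker (Algebra.TensorProduct.map (AlgHom.id A A')
      (Ideal.Quotient.mkₐ A (PolLaw.ker F.law))) =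
      (PolLaw.ker F.law).map (Algebra.TensorProduct.includeRight : B →ₐ[A] A' ⊗[A] B) := by
    rw [Algebra.TensorProduct.lTensor_ker _ (Ideal.Quotient.mkₐ_surjective A (PolLaw.ker F.law)),
      ker_mkₐ]
  have hπalg : ∀ a' : A', Algebra.TensorProduct.map (AlgHom.id A A')
      (Ideal.Quotient.mkₐ A (PolLaw.ker F.law)) (algebraMap A' (A' ⊗[A] B) a') =
      algebraMap A' (A' ⊗[A] (B ⧸ PolLaw.ker F.law)) a' := fun a' => by
    rw [Algebra.TensorProduct.algebraMap_apply, Algebra.TensorProduct.algebraMap_apply,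
      Algebra.TensorProduct.map_tmul, map_one, AlgHom.id_apply]
  obtain ⟨Q₀, hQ₀def⟩ : ∃ Q₀ : Ideal (A' ⊗[A] B), Q₀ = Q.comap (Algebra.TensorProduct.map
      (AlgHom.id A A') (Ideal.Quotient.mkₐ A (PolLaw.ker F.law))) := ⟨_, rfl⟩
  haveI hQ₀ : Q₀.IsPrime := by
    rw [hQ₀def]
    exact Ideal.comap_isPrime _ Q
  have hpQ₀ : ∀ a' ∈ p, algebraMap A' (A' ⊗[A] B) a' ∈ Q₀ := fun a' ha' => by
    rw [hQ₀def, Ideal.mem_comap, hπalg]
    exact hlt.le ha'
  have hθ : Function.Surjective (Ideal.Quotient.mkₐ A p) := Ideal.Quotient.mkₐ_surjective A p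
  have hΘ : Function.Surjective (Algebra.TensorProduct.map (Ideal.Quotient.mkₐ A p)
      (AlgHom.id A B)) :=
    Algebra.TensorProduct.map_surjective _ _ hθ (fun x => ⟨x, rfl⟩)
  have hkerΘ : RingHom.ker (Algebra.TensorProduct.map (Ideal.Quotient.mkₐ A p)
      (AlgHom.id A B)) ≤ Q₀ := by
    rw [Algebra.TensorProduct.rTensor_ker (S := A) (Ideal.Quotient.mkₐ A p) hθ, ker_mkₐ,
      Ideal.map_le_iff_le_comap]
    intro a' ha'
    rw [Ideal.mem_comap, Algebra.TensorProduct.includeLeft_apply]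
    have h := hpQ₀ a' ha'
    rwa [Algebra.TensorProduct.algebraMap_apply, Algebra.algebraMap_self, RingHom.id_apply] at h
  obtain ⟨Q₀'', hQ₀''def⟩ : ∃ Q₀'' : Ideal ((A' ⧸ p) ⊗[A] B), Q₀'' = Q₀.map
      (Algebra.TensorProduct.map (Ideal.Quotient.mkₐ A p) (AlgHom.id A B)) := ⟨_, rfl⟩
  haveI hQ₀''prime : Q₀''.IsPrime := by
    rw [hQ₀''def]
    exact Ideal.map_isPrime_of_surjective hΘ hkerΘ
  have hcomapQ : Q₀''.comap (Algebra.TensorProduct.map (Ideal.Quotient.mkₐ A p)
      (AlgHom.id A B)) = Q₀ := by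
    rw [hQ₀''def, Ideal.comap_map_of_surjective _ hΘ]
    exact sup_eq_left.mpr (by rwa [← RingHom.ker_eq_comap_bot])
  have hΘincl : ∀ b : B, Algebra.TensorProduct.map (Ideal.Quotient.mkₐ A p) (AlgHom.id A B)
      ((1 : A') ⊗ₜ[A] b) =
      (Algebra.TensorProduct.includeRight : B →ₐ[A] (A' ⧸ p) ⊗[A] B) b := fun b => by
    rw [Algebra.TensorProduct.map_tmul, map_one, AlgHom.id_apply,
      Algebra.TensorProduct.includeRight_apply]
  have hkerF'' : PolLaw.ker (bc (A' ⧸ p) F).law ≤ Q₀'' := by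
    rw [ker_bc]
    have h1 : PolLaw.kerBC F.law (A' ⧸ p) ≤ ((PolLaw.ker F.law).map
        (Algebra.TensorProduct.includeRight : B →ₐ[A] (A' ⧸ p) ⊗[A] B)).radical := by
      rw [← radical_kerBC]
      exact Ideal.le_radical
    refine h1.trans ?_
    rw [hQ₀''prime.radical_le_iff, Ideal.map_le_iff_le_comap]
    intro b hb
    rw [Ideal.mem_comap, ← hΘincl, hQ₀''def]
    apply Ideal.mem_map_of_mem
    rw [hQ₀def, Ideal.mem_comap, Algebra.TensorProduct.map_tmul, Ideal.Quotient.mkₐ_eq_mk,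
      Ideal.Quotient.eq_zero_iff_mem.mpr hb, TensorProduct.tmul_zero]
    exact zero_mem _
  obtain ⟨P₀'', hP₀''min, hP₀''le⟩ := Ideal.exists_minimalPrimes_le hkerF''
  haveI : IsDomain (A' ⧸ p) := Ideal.Quotient.isDomain p
  have hbot := (Groth.Agent.Lib.Helper24.KerTF.minimal_over_ker (bc (A' ⧸ p) F) hP₀''min).1
  haveI hP₀''prime : P₀''.IsPrime := hP₀''min.1.1
  obtain ⟨P₀, hP₀def⟩ : ∃ P₀ : Ideal (A' ⊗[A] B), P₀ = P₀''.comap
      (Algebra.TensorProduct.map (Ideal.Quotient.mkₐ A p) (AlgHom.id A B)) := ⟨_, rfl⟩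
  haveI hP₀prime : P₀.IsPrime := by
    rw [hP₀def]
    exact Ideal.comap_isPrime _ P₀''
  have hP₀le : P₀ ≤ Q₀ := by
    rw [← hcomapQ, hP₀def]
    exact Ideal.comap_mono hP₀''le
  have hkerπP₀ : RingHom.ker (Algebra.TensorProduct.map (AlgHom.id A A')
      (Ideal.Quotient.mkₐ A (PolLaw.ker F.law))) ≤ P₀ := by
    rw [hkerπ, Ideal.map_le_iff_le_comap]
    intro b hb
    rw [Ideal.mem_comap, Algebra.TensorProduct.includeRight_apply, hP₀def, Ideal.mem_comap,
      hΘincl]
    apply hP₀''min.1.2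
    rw [ker_bc]
    exact map_ker_le F.law (A' ⧸ p) (Ideal.mem_map_of_mem _ hb)
  have hP₀under : P₀.comap (algebraMap A' (A' ⊗[A] B)) = p := by
    ext a'
    rw [Ideal.mem_comap, hP₀def, Ideal.mem_comap]
    have e : Algebra.TensorProduct.map (Ideal.Quotient.mkₐ A p) (AlgHom.id A B)
        (algebraMap A' (A' ⊗[A] B) a') =
        algebraMap (A' ⧸ p) ((A' ⧸ p) ⊗[A] B) (Ideal.Quotient.mk p a') := by
      rw [Algebra.TensorProduct.algebraMap_apply, Algebra.TensorProduct.algebraMap_apply,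
        Algebra.TensorProduct.map_tmul, map_one, Algebra.algebraMap_self, RingHom.id_apply,
        Algebra.algebraMap_self, RingHom.id_apply, Ideal.Quotient.mkₐ_eq_mk]
    rw [e, ← Ideal.mem_comap, hbot, Ideal.mem_bot]
    exact Ideal.Quotient.eq_zero_iff_mem
  have hcm : (P₀.map (Algebra.TensorProduct.map (AlgHom.id A A')
      (Ideal.Quotient.mkₐ A (PolLaw.ker F.law)))).comap (Algebra.TensorProduct.map (AlgHom.id A A')
      (Ideal.Quotient.mkₐ A (PolLaw.ker F.law))) = P₀ := by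
    rw [Ideal.comap_map_of_surjective _ hπ]
    exact sup_eq_left.mpr (by rwa [← RingHom.ker_eq_comap_bot])
  refine ⟨P₀.map (Algebra.TensorProduct.map (AlgHom.id A A')
      (Ideal.Quotient.mkₐ A (PolLaw.ker F.law))), ?_,
    Ideal.map_isPrime_of_surjective hπ hkerπP₀, ⟨?_⟩⟩
  · rw [Ideal.map_le_iff_le_comap, ← hQ₀def]
    exact hP₀le
  · rw [Ideal.under_def, ← hP₀under]
    ext a'
    constructor
    · intro h
      rw [Ideal.mem_comap, ← hπalg]
      exact Ideal.mem_map_of_mem _ h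
    · intro h
      rw [Ideal.mem_comap, ← hπalg, ← Ideal.mem_comap, hcm] at h
      exact h

/-- S13704. -/
theorem generalizingMap_image (A' : Type u) [CommRing A'] [Algebra A A'] :
    GeneralizingMap (PrimeSpectrum.comap (algebraMap A' (A' ⊗[A] PolLaw.image F.law))) :=
  Algebra.HasGoingDown.iff_generalizingMap_primeSpectrumComap.mp (hasGoingDown_image F A')

end Groth.Agent.Lib.Helper24.KerGD
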