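import Mathlib
import Groth.Prelude.Def_PolLaw
import Groth.Agent.Lib.Helper24.KerBC
import Groth.Agent.Lib.Helper24.KerRad
import Groth.Agent.Lib.Helper24.KerGD
import Groth.Agent.Lib.Helper24.KerField

/-!
# Fibres of the image of a family of zero-cycles have at most `d` points (helper24, S13723)
-/

set_option autoImplicit false

namespace Groth.Agent.Lib.Helper24.KerFibre

open scoped TensorProduct
open Groth.Agent.Lib.Helper24.KerBC Groth.Agent.Lib.Helper24.KerRad Groth.Agent.Lib.Helper24.KerGD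
  Groth.Agent.Lib.Helper24.KerField

universe u

variable {A : Type u} [CommRing A] {B : Type u} [CommRing B] [Algebra A B] {d : ℕ}
  (F : PolLaw.MulLaw A B A d)

/-- primes of `K ⊗ (B ⧸ ker F)` inject into the primes of `K ⊗ B` containing `ker (bc K F)`. -/
theorem exists_injective_fin_fibre (K : Type u) [Field K] [Algebra A K] :
    ∃ f : PrimeSpectrum (K ⊗[A] (B ⧸ PolLaw.ker F.law)) → Fin d, Function.Injective f := by
  obtain ⟨f, hf⟩ := exists_injective_fin (bc K F)
  have hπ : Function.Surjective (Algebra.TensorProduct.map (AlgHom.id A K)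
      (Ideal.Quotient.mkₐ A (PolLaw.ker F.law))) :=
    Algebra.TensorProduct.map_surjective _ _ (fun x => ⟨x, rfl⟩)
      (Ideal.Quotient.mkₐ_surjective A (PolLaw.ker F.law))
  have hkerπ : RingHom.ker (Algebra.TensorProduct.map (AlgHom.id A K)
      (Ideal.Quotient.mkₐ A (PolLaw.ker F.law))) =
      (PolLaw.ker F.law).map (Algebra.TensorProduct.includeRight : B →ₐ[A] K ⊗[A] B) := by
    rw [Algebra.TensorProduct.lTensor_ker _ (Ideal.Quotient.mkₐ_surjective A (PolLaw.ker F.law)),
      ker_mkₐ]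
  have hle : ∀ P : PrimeSpectrum (K ⊗[A] (B ⧸ PolLaw.ker F.law)),
      PolLaw.ker (bc K F).law ≤ P.asIdeal.comap (Algebra.TensorProduct.map (AlgHom.id A K)
        (Ideal.Quotient.mkₐ A (PolLaw.ker F.law))) := by
    intro P
    rw [ker_bc]
    have h1 : PolLaw.kerBC F.law K ≤ ((PolLaw.ker F.law).map
        (Algebra.TensorProduct.includeRight : B →ₐ[A] K ⊗[A] B)).radical := by
      rw [← radical_kerBC]
      exact Ideal.le_radical
    refine h1.trans ?_
    haveI : (P.asIdeal.comap (Algebra.TensorProduct.map (AlgHom.id A K)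
        (Ideal.Quotient.mkₐ A (PolLaw.ker F.law)))).IsPrime := Ideal.comap_isPrime _ _
    rw [Ideal.IsPrime.radical_le_iff (by infer_instance), ← hkerπ, RingHom.ker_eq_comap_bot]
    exact Ideal.comap_mono bot_le
  have hψ : Function.Injective (fun P : PrimeSpectrum (K ⊗[A] (B ⧸ PolLaw.ker F.law)) =>
      (⟨P.asIdeal.comap (Algebra.TensorProduct.map (AlgHom.id A K)
        (Ideal.Quotient.mkₐ A (PolLaw.ker F.law))), Ideal.comap_isPrime _ _, hle P⟩ :
        {P : Ideal (K ⊗[A] B) // P.IsPrime ∧ PolLaw.ker (bc K F).law ≤ P})) := by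
    intro P P' h
    apply PrimeSpectrum.ext
    exact Ideal.comap_injective_of_surjective _ hπ (congrArg Subtype.val h)
  exact ⟨_, hf.comp hψ⟩

/-- S13723. -/
theorem fibre_card (K : Type u) [Field K] [Algebra A K] :
    Finite (PrimeSpectrum (K ⊗[A] PolLaw.image F.law)) ∧
      Nat.card (PrimeSpectrum (K ⊗[A] PolLaw.image F.law)) ≤ d := by
  obtain ⟨f, hf⟩ := exists_injective_fin_fibre F K
  haveI hfin : Finite (PrimeSpectrum (K ⊗[A] (B ⧸ PolLaw.ker F.law))) := Finite.of_injective _ hf
  refine ⟨hfin, ?_⟩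
  have h := Nat.card_le_card_of_injective _ hf
  simpa using h

end Groth.Agent.Lib.Helper24.KerFibre
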