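import Mathlib
import Groth.Prelude.Def_PolLaw
import Groth.Agent.Lib.Helper20.PolLawKer
import Groth.Agent.Lib.Helper24.GamCH
import Groth.Agent.Lib.Helper24.GamCH2
import Groth.Agent.Lib.Helper24.KerBC
import Groth.Agent.Lib.Helper24.KerVL
import Groth.Agent.Lib.Helper24.KerRad

/-!
# A finitely generated ideal with the same radical as `ker F` (helper24, S13706)
-/

set_option autoImplicit false

namespace Groth.Agent.Lib.Helper24.KerFG

open scoped TensorProduct
open Groth.Agent.Lib.Helper20.PolLawKer Groth.Agent.Lib.Helper24.GamCH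
  Groth.Agent.Lib.Helper24.GamCH2 Groth.Agent.Lib.Helper24.KerBC Groth.Agent.Lib.Helper24.KerVL
  Groth.Agent.Lib.Helper24.KerRad

universe u

variable {A : Type u} [CommRing A] {B : Type u} [CommRing B] [Algebra A B] {d : ℕ}
  (F : PolLaw.MulLaw A B A d)

lemma charP_add_mem_ker (b j : B) (hj : j ∈ PolLaw.ker F.law) : charP F (b + j) = charP F b := by
  unfold charP
  have e : (1 : Polynomial A) ⊗ₜ[A] (b + j) - Polynomial.X ⊗ₜ[A] (1 : B) =
      ((1 : Polynomial A) ⊗ₜ[A] b - Polynomial.X ⊗ₜ[A] (1 : B)) +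
        1 * ((1 : Polynomial A) ⊗ₜ[A] j) := by
    rw [TensorProduct.tmul_add, one_mul]
    abel
  rw [e, hj (Polynomial A) _ 1]

lemma aeval_sub_mem (I : Ideal B) (b b₀ : B) (h : b - b₀ ∈ I) (p : Polynomial A) :
    Polynomial.aeval b p - Polynomial.aeval b₀ p ∈ I := by
  rw [← Ideal.Quotient.eq_zero_iff_mem, map_sub, sub_eq_zero]
  have e : ∀ y : B, Ideal.Quotient.mk I (Polynomial.aeval y p) =
      Polynomial.aeval (Ideal.Quotient.mk I y) p := fun y =>
    (Polynomial.aeval_algHom_apply (Ideal.Quotient.mkₐ A I) y p).symm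
  rw [e, e, Ideal.Quotient.eq.mpr h]

lemma map_toAlgHom_self (y : A ⊗[A] B) :
    Algebra.TensorProduct.map (IsScalarTower.toAlgHom A A (Polynomial A)) (AlgHom.id A B) y =
      (1 : Polynomial A) ⊗ₜ[A] (Algebra.TensorProduct.lid A B y) := by
  induction y using TensorProduct.induction_on with
  | zero => simp
  | tmul a m =>
    rw [Algebra.TensorProduct.map_tmul, Algebra.TensorProduct.lid_tmul, AlgHom.id_apply,
      IsScalarTower.coe_toAlgHom', Algebra.algebraMap_eq_smul_one, TensorProduct.smul_tmul]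
  | add x y hx hy => rw [map_add, map_add, TensorProduct.tmul_add, hx, hy]

lemma charP_bc_self (y : A ⊗[A] B) :
    charP (bc A F) y = charP F (Algebra.TensorProduct.lid A B y) := by
  rw [charP_bc, map_toAlgHom_self]
  rfl

/-- the image of `t` generates `B ⧸ J₀` as a module when the elements of `t` generate `B` as an
algebra and `J₀` contains the Cayley–Hamilton elements of `t`. -/
lemma finite_quot (t : Finset B) (ht : Algebra.adjoin A (↑t : Set B) = ⊤) (J₀ : Ideal B)
    (hJ₀ : ∀ b ∈ t, Polynomial.aeval b (charP F b) ∈ J₀) : Module.Finite A (B ⧸ J₀) := by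
  classical
  have hint : ∀ x ∈ (Ideal.Quotient.mkₐ A J₀) '' (↑t : Set B), IsIntegral A x := by
    rintro _ ⟨b, hb, rfl⟩
    obtain ⟨h1, h2⟩ := charP_coeff F b
    have hp : (Polynomial.C ((-1 : A) ^ d) * charP F b).Monic := by
      apply Polynomial.monic_of_natDegree_le_of_coeff_eq_one d
      · rw [Polynomial.natDegree_le_iff_coeff_eq_zero]
        intro N hN
        rw [Polynomial.coeff_C_mul, h2 N hN, mul_zero]
      · rw [Polynomial.coeff_C_mul, h1, ← mul_pow]
        simp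
    refine ⟨Polynomial.C ((-1 : A) ^ d) * charP F b, hp, ?_⟩
    rw [← Polynomial.aeval_def, Polynomial.aeval_algHom_apply]
    show Ideal.Quotient.mk J₀ _ = 0
    rw [Ideal.Quotient.eq_zero_iff_mem, map_mul, Polynomial.aeval_C]
    exact Ideal.mul_mem_left _ _ (hJ₀ b hb)
  have hfg := fg_adjoin_of_finite (t.finite_toSet.image (Ideal.Quotient.mkₐ A J₀)) hint
  have htop : Algebra.adjoin A ((Ideal.Quotient.mkₐ A J₀) '' (↑t : Set B)) = ⊤ := by
    rw [← AlgHom.map_adjoin, ht, Algebra.map_top, AlgHom.range_eq_top]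
    exact Ideal.Quotient.mkₐ_surjective A J₀
  rw [htop, Algebra.top_toSubmodule] at hfg
  exact ⟨hfg⟩

/-- S13706. -/
theorem exists_fg_radical [Algebra.FiniteType A B] :
    ∃ J : Ideal B, J.FG ∧ J ≤ PolLaw.ker F.law ∧ J.radical = (PolLaw.ker F.law).radical := by
  classical
  obtain ⟨t, ht⟩ := (Algebra.FiniteType.out : (⊤ : Subalgebra A B).FG)
  obtain ⟨J₀, hJ₀def⟩ : ∃ J₀ : Ideal B, J₀ = Ideal.span
      (↑(t.image fun b => Polynomial.aeval b (charP F b)) : Set B) := ⟨_, rfl⟩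
  have hJ₀fg : J₀.FG := ⟨_, hJ₀def.symm⟩
  have hJ₀mem : ∀ b ∈ t, Polynomial.aeval b (charP F b) ∈ J₀ := fun b hb => by
    rw [hJ₀def]
    exact Ideal.subset_span (Finset.mem_coe.mpr (Finset.mem_image_of_mem _ hb))
  have hJ₀le : J₀ ≤ PolLaw.ker F.law := by
    rw [hJ₀def, Ideal.span_le]
    intro y hy
    obtain ⟨b, -, rfl⟩ := Finset.mem_image.mp (Finset.mem_coe.mp hy)
    exact CH F b
  haveI := finite_quot F t ht J₀ hJ₀mem
  obtain ⟨N, s, hs⟩ := Module.Finite.exists_fin (R := A) (M := B ⧸ J₀)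
  choose m hm using fun l => Ideal.Quotient.mk_surjective (s l)
  have hrep : ∀ b : B, ∃ a : Fin N → A, b - ∑ l, a l • m l ∈ J₀ := by
    intro b
    have hb : Ideal.Quotient.mk J₀ b ∈ Submodule.span A (Set.range s) := by
      rw [hs]
      exact Submodule.mem_top
    obtain ⟨a, ha⟩ := (Submodule.mem_span_range_iff_exists_fun A).mp hb
    refine ⟨a, ?_⟩
    rw [← Ideal.Quotient.eq, ← ha, map_sum]
    refine Finset.sum_congr rfl fun l _ => ?_
    rw [← hm l]
    rfl
  -- the generic element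
  obtain ⟨c, hc⟩ := TensorProduct.eq_repr_basis_left (MvPolynomial.basisMonomials (Fin N) A)
    (Polynomial.aeval (∑ l, (MvPolynomial.X l : MvPolynomial (Fin N) A) ⊗ₜ[A] m l)
      (charP (bc (MvPolynomial (Fin N) A) F)
        (∑ l, (MvPolynomial.X l : MvPolynomial (Fin N) A) ⊗ₜ[A] m l)))
  have hcker : ∀ κ, c κ ∈ PolLaw.ker F.law := by
    apply VL F.law N c
    rw [hc, ← ker_bc]
    exact CH (bc (MvPolynomial (Fin N) A) F) _
  obtain ⟨J₁, hJ₁def⟩ : ∃ J₁ : Ideal B, J₁ = Ideal.span (↑(c.support.image c) : Set B) :=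
    ⟨_, rfl⟩
  have hJ₁fg : J₁.FG := ⟨_, hJ₁def.symm⟩
  have hJ₁mem : ∀ κ, c κ ∈ J₁ := fun κ => by
    by_cases hκ : κ ∈ c.support
    · rw [hJ₁def]
      exact Ideal.subset_span (Finset.mem_coe.mpr (Finset.mem_image_of_mem _ hκ))
    · rw [Finsupp.notMem_support_iff.mp hκ]
      exact zero_mem _
  have hJ₁le : J₁ ≤ PolLaw.ker F.law := by
    rw [hJ₁def, Ideal.span_le]
    intro y hy
    obtain ⟨κ, -, rfl⟩ := Finset.mem_image.mp (Finset.mem_coe.mp hy)
    exact hcker κ
  refine ⟨J₀ ⊔ J₁, Submodule.FG.sup hJ₀fg hJ₁fg, sup_le hJ₀le hJ₁le, ?_⟩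
  apply le_antisymm (Ideal.radical_mono (sup_le hJ₀le hJ₁le))
  rw [Ideal.radical_le_radical_iff]
  refine (CH_ideal F (charP F) (fun b => rfl)).2.trans ?_
  apply Ideal.radical_mono
  rw [Ideal.span_le]
  rintro _ ⟨b, rfl⟩
  show Polynomial.aeval b (charP F b) ∈ J₀ ⊔ J₁
  obtain ⟨a, ha⟩ := hrep b
  have h6a : charP F b = charP F (∑ l, a l • m l) := by
    have hb : b = (∑ l, a l • m l) + (b - ∑ l, a l • m l) := by ring
    calc charP F b = charP F ((∑ l, a l • m l) + (b - ∑ l, a l • m l)) := congrArg _ hb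
      _ = _ := charP_add_mem_ker F _ _ (hJ₀le ha)
  have h6b := aeval_sub_mem J₀ b (∑ l, a l • m l) ha (charP F b)
  have h6c : Polynomial.aeval (∑ l, a l • m l) (charP F (∑ l, a l • m l)) ∈ J₁ := by
    have hx : Algebra.TensorProduct.lid A B
        (Algebra.TensorProduct.map (MvPolynomial.aeval a : MvPolynomial (Fin N) A →ₐ[A] A)
        (AlgHom.id A B) (∑ l, (MvPolynomial.X l : MvPolynomial (Fin N) A) ⊗ₜ[A] m l)) =
        ∑ l, a l • m l := by
      rw [map_sum, map_sum]
      refine Finset.sum_congr rfl fun l _ => ?_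
      rw [Algebra.TensorProduct.map_tmul, MvPolynomial.aeval_X, AlgHom.id_apply,
        Algebra.TensorProduct.lid_tmul]
    have h1 := congrArg (fun z => Algebra.TensorProduct.lid A B
      (Algebra.TensorProduct.map (MvPolynomial.aeval a : MvPolynomial (Fin N) A →ₐ[A] A)
        (AlgHom.id A B) z)) hc
    rw [map_aeval, ← charP_bc_map, charP_bc_self, ← Polynomial.aeval_algHom_apply, hx] at h1
    rw [← h1, Finsupp.sum, map_sum, map_sum]
    refine Ideal.sum_mem _ fun κ _ => ?_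
    rw [Algebra.TensorProduct.map_tmul, AlgHom.id_apply, Algebra.TensorProduct.lid_tmul,
      Algebra.smul_def]
    exact Ideal.mul_mem_left _ _ (hJ₁mem κ)
  have hsplit : Polynomial.aeval b (charP F b) =
      (Polynomial.aeval b (charP F b) - Polynomial.aeval (∑ l, a l • m l) (charP F b)) +
        Polynomial.aeval (∑ l, a l • m l) (charP F (∑ l, a l • m l)) := by
    rw [← h6a]
    ring
  rw [hsplit]
  exact Ideal.add_mem _ (Ideal.mem_sup_left h6b) (Ideal.mem_sup_right h6c)

end Groth.Agent.Lib.Helper24.KerFG
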