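import Mathlib
import Groth.Prelude.Def_PolLaw
import Groth.Agent.Lib.Helper20.PolLawKer
import Groth.Agent.Lib.Helper24.GamCH
import Groth.Agent.Lib.Helper24.GamCH2
import Groth.Agent.Lib.Helper24.KerBC
import Groth.Agent.Lib.Helper24.KerRad
import Groth.Agent.Lib.Helper24.KerFG
import Groth.Agent.Lib.Helper24.KerField
import Groth.Agent.Lib.Helper24.KerGD
import Groth.Agent.Lib.Helper11.ASpaceOpen

/-!
# The image of a family of zero-cycles is universally open over the base (helper24, S13705)

The image of `D(b) ∩ V(ker F)` in `Spec A` is the union of the `D(c_j)`, `j < d`, where the `c_j`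
are the coefficients of the characteristic polynomial of `b`.
-/

set_option autoImplicit false

namespace Groth.Agent.Lib.Helper24.KerOpen

open scoped TensorProduct
open Groth.Agent.Lib.Helper20.PolLawKer Groth.Agent.Lib.Helper24.GamCH
  Groth.Agent.Lib.Helper24.GamCH2 Groth.Agent.Lib.Helper24.KerBC
  Groth.Agent.Lib.Helper24.KerRad Groth.Agent.Lib.Helper24.KerFG Groth.Agent.Lib.Helper24.KerField

universe u

section field

variable {k : Type u} [Field k] {B : Type u} [CommRing B] [Algebra k B] {d : ℕ}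
  (F : PolLaw.MulLaw k B k d)
variable (K : Type u) [Field K] [Algebra k K] (g : Fin d → (B →ₐ[k] K))
  (hg : ∀ (S : Type u) [CommSemiring S] [Algebra k S] (x : S ⊗[k] B),
      (Algebra.ofId k K).toLinearMap.lTensor S (F.law.toFun' S x) =
        ∏ i, (g i).toLinearMap.lTensor S x)

include hg in
theorem charP_map_eq_prod (b : B) :
    (charP F b).map (algebraMap k K) = ∏ i, (Polynomial.C (g i b) - Polynomial.X) := by
  have h := hg (Polynomial k) ((1 : Polynomial k) ⊗ₜ[k] b - Polynomial.X ⊗ₜ[k] (1 : B))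
  have hF : F.law.toFun' (Polynomial k)
      ((1 : Polynomial k) ⊗ₜ[k] b - Polynomial.X ⊗ₜ[k] (1 : B)) =
      (charP F b) ⊗ₜ[k] (1 : k) := by
    apply (TensorProduct.rid k (Polynomial k)).injective
    rw [TensorProduct.rid_tmul, one_smul]
    rfl
  rw [hF, LinearMap.lTensor_tmul, AlgHom.toLinearMap_apply, map_one] at h
  have h2 := congrArg (Algebra.TensorProduct.productMap
    (Polynomial.mapAlgHom (Algebra.ofId k K))
    (Polynomial.CAlgHom : K →ₐ[k] Polynomial K)) h
  rw [map_prod] at h2
  have hΨ2 : ∀ i, (Algebra.TensorProduct.productMap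
      (Polynomial.mapAlgHom (Algebra.ofId k K)) (Polynomial.CAlgHom : K →ₐ[k] Polynomial K))
      ((g i).toLinearMap.lTensor (Polynomial k)
        ((1 : Polynomial k) ⊗ₜ[k] b - Polynomial.X ⊗ₜ[k] (1 : B))) =
      Polynomial.C (g i b) - Polynomial.X := by
    intro i
    rw [map_sub, LinearMap.lTensor_tmul, LinearMap.lTensor_tmul, map_sub,
      Algebra.TensorProduct.productMap_apply_tmul, Algebra.TensorProduct.productMap_apply_tmul]
    simp
  rw [Finset.prod_congr rfl (fun i _ => hΨ2 i),
    Algebra.TensorProduct.productMap_apply_tmul, map_one, mul_one, Polynomial.coe_mapAlgHom] at h2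
  rw [← h2]
  rfl

include hg in
theorem charP_eq_of_mem_radical (b : B) (hb : b ∈ (PolLaw.ker F.law).radical) :
    charP F b = (-Polynomial.X) ^ d := by
  obtain ⟨n, hn⟩ := hb
  rw [ker_eq_iInf F K g hg, Ideal.mem_iInf] at hn
  have h0 : ∀ i, g i b = 0 := fun i => by
    have h1 := RingHom.mem_ker.mp (hn i)
    rw [map_pow] at h1
    exact IsNilpotent.eq_zero ⟨n, h1⟩
  apply Polynomial.map_injective (algebraMap k K) (algebraMap k K).injective
  rw [charP_map_eq_prod F K g hg b, Polynomial.map_pow, Polynomial.map_neg, Polynomial.map_X]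
  simp [h0]

end field

section general

variable {A : Type u} [CommRing A] {B : Type u} [CommRing B] [Algebra A B] {d : ℕ}
  (F : PolLaw.MulLaw A B A d)

lemma charP_bc_one_tmul (κ : Type u) [CommRing κ] [Algebra A κ] (b : B) :
    charP (bc κ F) ((1 : κ) ⊗ₜ[A] b) = (charP F b).map (algebraMap A κ) := by
  have h := charP_bc_map F (Algebra.ofId A κ) ((1 : A) ⊗ₜ[A] b)
  rw [Algebra.TensorProduct.map_tmul, map_one, AlgHom.id_apply, charP_bc_self,
    Algebra.TensorProduct.lid_tmul, one_smul] at h
  exact h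

/-- The image in `Spec A` of the basic open `D(b)` of the closed set `V(ker F)` of `Spec B` is the
union of the basic opens of the coefficients of index `< d` of the characteristic polynomial. -/
theorem exists_prime_iff (b : B) (p : PrimeSpectrum A) :
    (∃ Q : Ideal B, Q.IsPrime ∧ PolLaw.ker F.law ≤ Q ∧
        Q.comap (algebraMap A B) = p.asIdeal ∧ b ∉ Q) ↔
      ∃ j, j < d ∧ (charP F b).coeff j ∉ p.asIdeal := by
  constructor
  · rintro ⟨Q, hQ, hle, hQp, hbQ⟩
    by_contra hcon
    have hall : ∀ j, j < d → (charP F b).coeff j ∈ p.asIdeal := fun j hj => by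
      by_contra h
      exact hcon ⟨j, hj, h⟩
    apply hbQ
    obtain ⟨h1, h2⟩ := charP_coeff F b
    have hdeg : (charP F b).natDegree < d + 1 := by
      rw [Nat.lt_succ_iff, Polynomial.natDegree_le_iff_coeff_eq_zero]
      exact h2
    have hCH : Polynomial.aeval b (charP F b) ∈ Q := hle (CH F b)
    rw [Polynomial.aeval_eq_sum_range' hdeg, Finset.sum_range_succ, h1] at hCH
    have hsum : ∑ j ∈ Finset.range d, (charP F b).coeff j • b ^ j ∈ Q := by
      refine Ideal.sum_mem _ fun j hj => ?_
      rw [Algebra.smul_def]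
      apply Ideal.mul_mem_right
      have : (charP F b).coeff j ∈ Q.comap (algebraMap A B) := by
        rw [hQp]
        exact hall j (Finset.mem_range.mp hj)
      exact this
    have h3 : ((-1 : A) ^ d) • b ^ d ∈ Q := (Ideal.add_mem_iff_right _ hsum).mp hCH
    have h4 : b ^ d ∈ Q := by
      have e : b ^ d = ((-1 : A) ^ d) • (((-1 : A) ^ d) • b ^ d) := by
        rw [smul_smul, ← mul_pow]
        simp
      rw [e, Algebra.smul_def]
      exact Ideal.mul_mem_left _ _ h3
    exact hQ.mem_of_pow_mem d h4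
  · rintro ⟨j, hj, hcj⟩
    have hx : (1 : p.asIdeal.ResidueField) ⊗ₜ[A] b ∉ ((PolLaw.ker F.law).map
        (Algebra.TensorProduct.includeRight : B →ₐ[A] p.asIdeal.ResidueField ⊗[A] B)).radical := by
      rw [← radical_kerBC, ← ker_bc]
      intro hmem
      obtain ⟨K, _, _, g, hg⟩ := exists_points (bc p.asIdeal.ResidueField F)
      have h1 := charP_eq_of_mem_radical (bc p.asIdeal.ResidueField F) K g hg _ hmem
      rw [charP_bc_one_tmul] at h1
      have h2 := congrArg (fun q => Polynomial.coeff q j) h1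
      simp only [Polynomial.coeff_map] at h2
      have h3 : ((-Polynomial.X : Polynomial p.asIdeal.ResidueField) ^ d).coeff j = 0 := by
        rw [neg_pow, show ((-1 : Polynomial p.asIdeal.ResidueField)) ^ d =
          Polynomial.C ((-1) ^ d) by simp, Polynomial.coeff_C_mul, Polynomial.coeff_X_pow,
          if_neg hj.ne, mul_zero]
      rw [h3, Ideal.algebraMap_residueField_eq_zero] at h2
      exact hcj h2
    obtain ⟨Q', hQ'le, hQ'prime, hxQ'⟩ : ∃ Q' : Ideal (p.asIdeal.ResidueField ⊗[A] B),
        (PolLaw.ker F.law).map (Algebra.TensorProduct.includeRight :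
          B →ₐ[A] p.asIdeal.ResidueField ⊗[A] B) ≤ Q' ∧ Q'.IsPrime ∧
        (1 : p.asIdeal.ResidueField) ⊗ₜ[A] b ∉ Q' := by
      by_contra hcon
      apply hx
      rw [Ideal.radical_eq_sInf, Ideal.mem_sInf]
      rintro Q' ⟨hle, hprime⟩
      by_contra hxQ
      exact hcon ⟨Q', hle, hprime, hxQ⟩
    refine ⟨Q'.comap (Algebra.TensorProduct.includeRight :
      B →ₐ[A] p.asIdeal.ResidueField ⊗[A] B), Ideal.comap_isPrime _ _,
      Ideal.map_le_iff_le_comap.mp hQ'le, ?_, ?_⟩
    · ext a
      rw [Ideal.mem_comap, Ideal.mem_comap, AlgHom.commutes,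
        IsScalarTower.algebraMap_apply A p.asIdeal.ResidueField
          (p.asIdeal.ResidueField ⊗[A] B)]
      constructor
      · intro h
        by_contra ha
        have hne : algebraMap A p.asIdeal.ResidueField a ≠ 0 := fun h0 =>
          ha (Ideal.algebraMap_residueField_eq_zero.mp h0)
        exact hQ'prime.ne_top (Ideal.eq_top_of_isUnit_mem _ h
          ((isUnit_iff_ne_zero.mpr hne).map _))
      · intro ha
        rw [Ideal.algebraMap_residueField_eq_zero.mpr ha, map_zero]
        exact Q'.zero_mem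
    · intro h
      rw [Ideal.mem_comap, Algebra.TensorProduct.includeRight_apply] at h
      exact hxQ' h

/-- every base change of `Spec (B ⧸ ker F) → Spec A` to an affine scheme is open. -/
theorem isOpenMap_comap_tensor_image (R : Type u) [CommRing R] [Algebra A R] :
    IsOpenMap (PrimeSpectrum.comap (algebraMap R (R ⊗[A] PolLaw.image F.law))) := by
  rw [PrimeSpectrum.isTopologicalBasis_basic_opens.isOpenMap_iff]
  rintro _ ⟨hbar, rfl⟩
  obtain ⟨π, hπdef⟩ : ∃ π : R ⊗[A] B →ₐ[A] R ⊗[A] (B ⧸ PolLaw.ker F.law),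
      π = Algebra.TensorProduct.map (AlgHom.id A R)
        (Ideal.Quotient.mkₐ A (PolLaw.ker F.law)) := ⟨_, rfl⟩
  have hπ : Function.Surjective π := by
    rw [hπdef]
    exact Algebra.TensorProduct.map_surjective _ _ (fun x => ⟨x, rfl⟩)
      (Ideal.Quotient.mkₐ_surjective A (PolLaw.ker F.law))
  have hkerπ : RingHom.ker π = (PolLaw.ker F.law).map
      (Algebra.TensorProduct.includeRight : B →ₐ[A] R ⊗[A] B) := by
    rw [hπdef, Algebra.TensorProduct.lTensor_ker _
      (Ideal.Quotient.mkₐ_surjective A (PolLaw.ker F.law)), Groth.Agent.Lib.Helper24.KerGD.ker_mkₐ]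
  have hπalg : ∀ r : R, π (algebraMap R (R ⊗[A] B) r) =
      algebraMap R (R ⊗[A] (B ⧸ PolLaw.ker F.law)) r := fun r => by
    rw [hπdef, Algebra.TensorProduct.algebraMap_apply, Algebra.TensorProduct.algebraMap_apply,
      Algebra.TensorProduct.map_tmul, map_one, AlgHom.id_apply, Algebra.algebraMap_self,
      RingHom.id_apply]
  have hle : ∀ P : Ideal (R ⊗[A] (B ⧸ PolLaw.ker F.law)), P.IsPrime →
      PolLaw.ker (bc R F).law ≤ P.comap π := by
    intro P hP
    rw [ker_bc]
    have h1 : PolLaw.kerBC F.law R ≤ ((PolLaw.ker F.law).map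
        (Algebra.TensorProduct.includeRight : B →ₐ[A] R ⊗[A] B)).radical := by
      rw [← radical_kerBC]
      exact Ideal.le_radical
    refine h1.trans ?_
    haveI : (P.comap π).IsPrime := Ideal.comap_isPrime _ _
    rw [Ideal.IsPrime.radical_le_iff (by infer_instance), ← hkerπ, RingHom.ker_eq_comap_bot]
    exact Ideal.comap_mono bot_le
  obtain ⟨h, rfl⟩ := hπ hbar
  have key : ∀ p : PrimeSpectrum R,
      p ∈ (PrimeSpectrum.comap (algebraMap R (R ⊗[A] PolLaw.image F.law))) ''
        (PrimeSpectrum.basicOpen (π h) : Set (PrimeSpectrum (R ⊗[A] PolLaw.image F.law))) ↔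
      ∃ j, j < d ∧ (charP (bc R F) h).coeff j ∉ p.asIdeal := by
    intro p
    rw [← exists_prime_iff (bc R F) h p]
    constructor
    · rintro ⟨P, hP, rfl⟩
      refine ⟨P.asIdeal.comap π, Ideal.comap_isPrime _ _, hle P.asIdeal P.isPrime, ?_, hP⟩
      ext r
      show π (algebraMap R (R ⊗[A] B) r) ∈ P.asIdeal ↔
        algebraMap R (R ⊗[A] (B ⧸ PolLaw.ker F.law)) r ∈ P.asIdeal
      rw [hπalg]
    · rintro ⟨Q, hQ, hleQ, hQp, hhQ⟩
      have hkerle : RingHom.ker π ≤ Q := by
        rw [hkerπ]
        refine (map_ker_le F.law R).trans ?_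
        rw [← ker_bc]
        exact hleQ
      have hcm : (Q.map π).comap π = Q := by
        rw [Ideal.comap_map_of_surjective π hπ]
        exact sup_eq_left.mpr (by rwa [← RingHom.ker_eq_comap_bot])
      refine ⟨⟨Q.map π, Ideal.map_isPrime_of_surjective hπ hkerle⟩, ?_, ?_⟩
      · intro hmem
        apply hhQ
        have hmem' : h ∈ (Q.map π).comap π := hmem
        rwa [hcm] at hmem'
      · apply PrimeSpectrum.ext
        show (Q.map π).comap (algebraMap R (R ⊗[A] (B ⧸ PolLaw.ker F.law))) = p.asIdeal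
        rw [← hQp]
        ext r
        rw [Ideal.mem_comap, Ideal.mem_comap, ← hπalg r]
        have hiff : π (algebraMap R (R ⊗[A] B) r) ∈ Q.map π ↔
            algebraMap R (R ⊗[A] B) r ∈ (Q.map π).comap π := Iff.rfl
        rw [hiff, hcm]
  have hset : (PrimeSpectrum.comap (algebraMap R (R ⊗[A] PolLaw.image F.law))) ''
        (PrimeSpectrum.basicOpen (π h) : Set (PrimeSpectrum (R ⊗[A] PolLaw.image F.law))) =
      ⋃ j : Fin d, ((PrimeSpectrum.basicOpen ((charP (bc R F) h).coeff j)) :
        Set (PrimeSpectrum R)) := by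
    ext p
    rw [key, Set.mem_iUnion]
    constructor
    · rintro ⟨j, hj, hc⟩
      exact ⟨⟨j, hj⟩, hc⟩
    · rintro ⟨j, hc⟩
      exact ⟨j, j.2, hc⟩
  rw [hset]
  exact isOpen_iUnion fun j => (PrimeSpectrum.basicOpen _).isOpen

/-- S13705. -/
theorem universallyOpen_image :
    AlgebraicGeometry.UniversallyOpen
      (AlgebraicGeometry.Spec.map (CommRingCat.ofHom (algebraMap A (PolLaw.image F.law)))) :=
  Groth.Agent.Lib.Helper11.ASpaceOpen.universallyOpen_of_forall_isOpenMap_tensor
    (fun R _ _ => isOpenMap_comap_tensor_image F R)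

end general

end Groth.Agent.Lib.Helper24.KerOpen
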