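import Mathlib
import Groth.Prelude.Def_PolLaw
import Groth.Agent.Lib.Helper24.KerOpen
import Groth.Agent.Lib.Helper24.KerFibre
import Groth.Agent.Lib.Helper24.GamCH2

/-!
# The image of a family of zero-cycles of degree `d` over a connected base has at most `d`
connected components (helper24, S13727)
-/

set_option autoImplicit false

namespace Groth.Agent.Lib.Helper24.KerConn

open scoped TensorProduct
open Groth.Agent.Lib.Helper24.KerOpen Groth.Agent.Lib.Helper24.KerFibre
  Groth.Agent.Lib.Helper24.GamCH2

universe u

variable {A : Type u} [CommRing A] {B : Type u} [CommRing B] [Algebra A B] {d : ℕ}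
  (F : PolLaw.MulLaw A B A d)

theorem isOpenMap_comap_image :
    IsOpenMap (PrimeSpectrum.comap (algebraMap A (PolLaw.image F.law))) := by
  have h1 := isOpenMap_comap_tensor_image F A
  obtain ⟨e, he⟩ : ∃ e : A ⊗[A] PolLaw.image F.law →+* PolLaw.image F.law,
      e = ((Algebra.TensorProduct.lid A (PolLaw.image F.law)).toAlgHom : _ →+* _) := ⟨_, rfl⟩
  have hbij : Function.Bijective e := by
    rw [he]
    exact (Algebra.TensorProduct.lid A (PolLaw.image F.law)).bijective
  have h2 : IsOpenMap (PrimeSpectrum.comap e) :=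
    (PrimeSpectrum.isHomeomorph_comap_of_bijective hbij).isOpenMap
  have hc : algebraMap A (PolLaw.image F.law) =
      e.comp (algebraMap A (A ⊗[A] PolLaw.image F.law)) := by
    ext a
    rw [he]
    exact ((Algebra.TensorProduct.lid A (PolLaw.image F.law)).commutes a).symm
  rw [hc, PrimeSpectrum.comap_comp]
  exact h1.comp h2

/-- S13727. -/
theorem connectedComponents_card [ConnectedSpace (PrimeSpectrum A)] :
    Finite (ConnectedComponents (PrimeSpectrum (PolLaw.image F.law))) ∧
      Nat.card (ConnectedComponents (PrimeSpectrum (PolLaw.image F.law))) ≤ d := by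
  haveI := isIntegral_image F
  have hopen := isOpenMap_comap_image F
  have hclosed : IsClosedMap (PrimeSpectrum.comap (algebraMap A (PolLaw.image F.law))) :=
    PrimeSpectrum.isClosedMap_comap_of_isIntegral _ (algebraMap_isIntegral_iff.mpr inferInstance)
  obtain ⟨y⟩ : Nonempty (PrimeSpectrum A) := inferInstance
  have h1 := hopen.enatCard_connectedComponents_le_encard_preimage_singleton hclosed y
  obtain ⟨hfin, hcard⟩ := fibre_card F y.asIdeal.ResidueField
  have h2 : (PrimeSpectrum.comap (algebraMap A (PolLaw.image F.law)) ⁻¹' {y}).encard =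
      ENat.card (PrimeSpectrum (y.asIdeal.ResidueField ⊗[A] PolLaw.image F.law)) := by
    unfold Set.encard
    exact ENat.card_congr (PrimeSpectrum.preimageEquivFiber A (PolLaw.image F.law) y)
  rw [h2, ENat.card_eq_coe_natCard
    (PrimeSpectrum (y.asIdeal.ResidueField ⊗[A] PolLaw.image F.law))] at h1
  have h3 : ENat.card (ConnectedComponents (PrimeSpectrum (PolLaw.image F.law))) ≤ (d : ℕ∞) :=
    h1.trans (Nat.cast_le.mpr hcard)
  have hfin' : Finite (ConnectedComponents (PrimeSpectrum (PolLaw.image F.law))) :=
    ENat.card_lt_top.mp (lt_of_le_of_lt h3 (ENat.coe_lt_top d))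
  refine ⟨hfin', ?_⟩
  rw [ENat.card_eq_coe_natCard] at h3
  exact Nat.cast_le.mp h3

end Groth.Agent.Lib.Helper24.KerConn
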