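import Mathlib
import Groth.Prelude.Def_PolLaw
import Groth.Agent.Lib.Helper20.PolLawKer
import Groth.Agent.Lib.Helper24.KerBC
import Groth.Agent.Lib.Helper24.KerVL

/-!
# The kernel of a polynomial law commutes with the base change `A → A[X]/(g)`, `g` monic separable
(helper24, S13700)

We split `g` over a tower `R` of algebras `A[X]/(g)`, which has an `A`-linear retraction; over `R`
the roots `α k` of `g` have invertible differences, so the Vandermonde matrix of the roots is
invertible and the coordinates of an element of `kerBC F (A[X]/(g))` in the power basis are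
recovered from its images under the maps `X ↦ α k`.
-/

set_option autoImplicit false

namespace Groth.Agent.Lib.Helper24.KerEtale

open scoped TensorProduct
open Groth.Agent.Lib.Helper20.PolLawKer Groth.Agent.Lib.Helper24.KerBC
  Groth.Agent.Lib.Helper24.KerVL

universe u

lemma exists_retraction_adjoinRoot {A : Type u} [CommRing A] (g : Polynomial A) (hg : g.Monic)
    (hdeg : 0 < g.natDegree) : ∃ ρ : AdjoinRoot g →ₗ[A] A, ρ 1 = 1 := by
  have hdim : 0 < (AdjoinRoot.powerBasis' hg).dim := hdeg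
  refine ⟨(AdjoinRoot.powerBasis' hg).basis.coord ⟨0, hdim⟩, ?_⟩
  have h1 : (1 : AdjoinRoot g) = (AdjoinRoot.powerBasis' hg).basis ⟨0, hdim⟩ := by
    rw [PowerBasis.basis_eq_pow]
    simp
  rw [h1, Module.Basis.coord_apply, Module.Basis.repr_self, Finsupp.single_eq_same]

/-- a monic polynomial splits over an algebra with a linear retraction. -/
theorem exists_split (n : ℕ) : ∀ (A : Type u) [CommRing A] [Nontrivial A] (g : Polynomial A),
    g.Monic → g.natDegree = n →
    ∃ (R : Type u) (_ : CommRing R) (_ : Algebra A R) (ρ : R →ₗ[A] A) (α : Fin n → R),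
      ρ 1 = 1 ∧ g.map (algebraMap A R) = ∏ k, (Polynomial.X - Polynomial.C (α k)) := by
  induction n with
  | zero =>
    intro A _ _ g hg hn
    refine ⟨A, inferInstance, inferInstance, LinearMap.id, Fin.elim0, rfl, ?_⟩
    rw [(Polynomial.Monic.natDegree_eq_zero hg).mp hn]
    simp
  | succ n ih =>
    intro A _ _ g hg hn
    obtain ⟨ρ₁, hρ₁⟩ := exists_retraction_adjoinRoot g hg (by omega)
    haveI : Nontrivial (AdjoinRoot g) := ⟨⟨0, 1, fun h => by
      have h2 := congrArg ρ₁ h
      rw [map_zero, hρ₁] at h2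
      exact zero_ne_one h2⟩⟩
    have hroot : (g.map (AdjoinRoot.of g)).IsRoot (AdjoinRoot.root g) := AdjoinRoot.isRoot_root g
    obtain ⟨g₁, hg₁def⟩ : ∃ g₁ : Polynomial (AdjoinRoot g), g₁ = (g.map (AdjoinRoot.of g)) /ₘ
        (Polynomial.X - Polynomial.C (AdjoinRoot.root g)) := ⟨_, rfl⟩
    have hfac : (Polynomial.X - Polynomial.C (AdjoinRoot.root g)) * g₁ =
        g.map (AdjoinRoot.of g) := by
      rw [hg₁def]
      exact Polynomial.mul_divByMonic_eq_iff_isRoot.mpr hroot
    have hmon : (g.map (AdjoinRoot.of g)).Monic := hg.map _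
    have hg₁ : g₁.Monic := Polynomial.Monic.of_mul_monic_left
      (Polynomial.monic_X_sub_C (AdjoinRoot.root g)) (by rw [hfac]; exact hmon)
    have hdeg₁ : g₁.natDegree = n := by
      have h1 := Polynomial.Monic.natDegree_mul
        (Polynomial.monic_X_sub_C (AdjoinRoot.root g)) hg₁
      rw [hfac, hg.natDegree_map, hn, Polynomial.natDegree_X_sub_C] at h1
      omega
    obtain ⟨R, _, _, ρ', α', hρ', hα'⟩ := ih (AdjoinRoot g) g₁ hg₁ hdeg₁
    letI : Algebra A R :=
      ((algebraMap (AdjoinRoot g) R).comp (algebraMap A (AdjoinRoot g))).toAlgebra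
    haveI : IsScalarTower A (AdjoinRoot g) R := IsScalarTower.of_algebraMap_eq (fun _ => rfl)
    refine ⟨R, inferInstance, inferInstance, ρ₁ ∘ₗ (ρ'.restrictScalars A),
      Fin.cons (algebraMap (AdjoinRoot g) R (AdjoinRoot.root g)) α', ?_, ?_⟩
    · rw [LinearMap.comp_apply, LinearMap.restrictScalars_apply, hρ', hρ₁]
    · have e : algebraMap A R = (algebraMap (AdjoinRoot g) R).comp (AdjoinRoot.of g) := rfl
      rw [e, ← Polynomial.map_map, ← hfac, Polynomial.map_mul, hα', Polynomial.map_sub,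
        Polynomial.map_X, Polynomial.map_C, Fin.prod_univ_succ]
      simp only [Fin.cons_zero, Fin.cons_succ]

lemma isUnit_sub_of_separable {R : Type u} [CommRing R] {n : ℕ} (α : Fin n → R)
    (hsep : (∏ k, (Polynomial.X - Polynomial.C (α k))).Separable) (i j : Fin n) (hij : i ≠ j) :
    IsUnit (α i - α j) := by
  classical
  have hj : j ∈ (Finset.univ : Finset (Fin n)).erase i :=
    Finset.mem_erase.mpr ⟨hij.symm, Finset.mem_univ j⟩
  have h1 : ∏ k, (Polynomial.X - Polynomial.C (α k)) =
      ((Polynomial.X - Polynomial.C (α i)) * (Polynomial.X - Polynomial.C (α j))) *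
        ∏ k ∈ (Finset.univ.erase i).erase j, (Polynomial.X - Polynomial.C (α k)) := by
    rw [mul_assoc, Finset.mul_prod_erase (Finset.univ.erase i)
      (fun k => Polynomial.X - Polynomial.C (α k)) hj,
      Finset.mul_prod_erase Finset.univ (fun k => Polynomial.X - Polynomial.C (α k))
        (Finset.mem_univ i)]
  rw [h1] at hsep
  obtain ⟨u, v, huv⟩ := hsep.of_mul_left.isCoprime
  have h2 := congrArg (Polynomial.eval (α i)) huv
  simp only [Polynomial.eval_add, Polynomial.eval_mul, Polynomial.eval_sub, Polynomial.eval_X,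
    Polynomial.eval_C, sub_self, mul_zero, zero_add, Polynomial.eval_one] at h2
  exact IsUnit.of_mul_eq_one _ (by rw [mul_comm]; exact h2)

variable {A : Type u} [CommRing A] {B : Type u} [CommRing B] [Algebra A B]

/-- S13700. -/
theorem map_ker_eq_kerBC_adjoinRoot (F : B →ₚₗ[A] A) (g : Polynomial A) (hg : g.Monic)
    (hsep : g.Separable) :
    (PolLaw.ker F).map (Algebra.TensorProduct.includeRight : B →ₐ[A] AdjoinRoot g ⊗[A] B) =
      PolLaw.kerBC F (AdjoinRoot g) := by
  classical
  apply le_antisymm (map_ker_le F _)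
  intro z hz
  rcases subsingleton_or_nontrivial A with hA | hA
  · haveI : Subsingleton (AdjoinRoot g ⊗[A] B) := Module.subsingleton A _
    rw [Subsingleton.elim z 0]
    exact zero_mem _
  obtain ⟨pb, hpb⟩ : ∃ pb : PowerBasis A (AdjoinRoot g), pb = AdjoinRoot.powerBasis' hg :=
    ⟨_, rfl⟩
  have hdim : g.natDegree = pb.dim := by
    rw [hpb]
    rfl
  have hgen : pb.gen = AdjoinRoot.root g := by
    rw [hpb]
    rfl
  obtain ⟨R, _, _, ρ, α, hρ, hα⟩ := exists_split pb.dim A g hg hdim
  have hsepR : (∏ k, (Polynomial.X - Polynomial.C (α k))).Separable := by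
    rw [← hα]
    exact hsep.map
  have hunit : ∀ i j, i ≠ j → IsUnit (α i - α j) := isUnit_sub_of_separable α hsepR
  have hdet : IsUnit (Matrix.vandermonde α).det := by
    rw [Matrix.det_vandermonde]
    refine Finset.prod_induction _ IsUnit (fun _ _ => IsUnit.mul) isUnit_one fun i _ => ?_
    refine Finset.prod_induction _ IsUnit (fun _ _ => IsUnit.mul) isUnit_one fun j hj => ?_
    exact hunit j i (Finset.mem_Ioi.mp hj).ne'
  have hWV : (Matrix.vandermonde α)⁻¹ * Matrix.vandermonde α = 1 :=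
    Matrix.nonsing_inv_mul _ hdet
  have hentry : ∀ a a' : Fin pb.dim,
      ∑ l, (Matrix.vandermonde α)⁻¹ a l * Matrix.vandermonde α l a' =
        if a = a' then 1 else 0 := fun a a' => by
    have h := congrFun (congrFun hWV a) a'
    rw [Matrix.mul_apply, Matrix.one_apply] at h
    exact h
  have hroot : ∀ k, g.eval₂ ((Algebra.ofId A R : A →ₐ[A] R) : A →+* R) (α k) = 0 := fun k => by
    have h1 : g.eval₂ (algebraMap A R) (α k) = 0 := by
      rw [Polynomial.eval₂_eq_eval_map, hα, Polynomial.eval_prod]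
      exact Finset.prod_eq_zero (Finset.mem_univ k) (by simp)
    exact h1
  obtain ⟨θ, hθ⟩ : ∃ θ : Fin pb.dim → (AdjoinRoot g →ₐ[A] R),
      ∀ k, θ k (AdjoinRoot.root g) = α k :=
    ⟨fun k => AdjoinRoot.liftAlgHom g (Algebra.ofId A R) (α k) (hroot k),
      fun k => AdjoinRoot.liftAlgHom_root g _ _ _⟩
  obtain ⟨c, hc⟩ := TensorProduct.eq_repr_basis_left pb.basis z
  have hz' : z = ∑ i : Fin pb.dim, (AdjoinRoot.root g ^ (i : ℕ)) ⊗ₜ[A] c i := by
    rw [← hc, Finsupp.sum_fintype _ _ (fun i => TensorProduct.tmul_zero _ _)]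
    refine Finset.sum_congr rfl fun i _ => ?_
    rw [PowerBasis.basis_eq_pow, hgen]
  have hzk : ∀ k, Algebra.TensorProduct.map (θ k) (AlgHom.id A B) z ∈ PolLaw.kerBC F R :=
    fun k => map_mem_kerBC F (θ k) hz
  have hzk' : ∀ k, Algebra.TensorProduct.map (θ k) (AlgHom.id A B) z =
      ∑ i : Fin pb.dim, (Matrix.vandermonde α k i) ⊗ₜ[A] c i := fun k => by
    rw [hz', map_sum]
    refine Finset.sum_congr rfl fun i _ => ?_
    rw [Algebra.TensorProduct.map_tmul, map_pow, hθ, AlgHom.id_apply, Matrix.vandermonde_apply]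
  have hci : ∀ i, (1 : R) ⊗ₜ[A] c i ∈ PolLaw.kerBC F R := fun i => by
    have e : ∑ k, (algebraMap R (R ⊗[A] B) ((Matrix.vandermonde α)⁻¹ i k)) *
        Algebra.TensorProduct.map (θ k) (AlgHom.id A B) z = (1 : R) ⊗ₜ[A] c i := by
      have h1 : ∀ k, (algebraMap R (R ⊗[A] B) ((Matrix.vandermonde α)⁻¹ i k)) *
          Algebra.TensorProduct.map (θ k) (AlgHom.id A B) z =
          ∑ i' : Fin pb.dim,
            ((Matrix.vandermonde α)⁻¹ i k * Matrix.vandermonde α k i') ⊗ₜ[A] c i' := fun k => by
        rw [hzk', Finset.mul_sum]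
        refine Finset.sum_congr rfl fun i' _ => ?_
        rw [Algebra.TensorProduct.algebraMap_apply, Algebra.algebraMap_self, RingHom.id_apply,
          Algebra.TensorProduct.tmul_mul_tmul, one_mul]
      rw [Finset.sum_congr rfl (fun k _ => h1 k), Finset.sum_comm]
      have h2 : ∀ i' : Fin pb.dim,
          ∑ k, ((Matrix.vandermonde α)⁻¹ i k * Matrix.vandermonde α k i') ⊗ₜ[A] c i' =
          if i = i' then (1 : R) ⊗ₜ[A] c i' else 0 := fun i' => by
        rw [← TensorProduct.sum_tmul, hentry]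
        split_ifs with h
        · rfl
        · rw [TensorProduct.zero_tmul]
      rw [Finset.sum_congr rfl (fun i' _ => h2 i'), Finset.sum_ite_eq,
        if_pos (Finset.mem_univ i)]
    rw [← e]
    exact Ideal.sum_mem _ fun k _ => Ideal.mul_mem_left _ _ (hzk k)
  have hcker : ∀ i, c i ∈ PolLaw.ker F := fun i =>
    mem_ker_of_one_tmul_mem F R ρ hρ (c i) (hci i)
  rw [hz']
  refine Ideal.sum_mem _ fun i _ => ?_
  have e : (AdjoinRoot.root g ^ (i : ℕ)) ⊗ₜ[A] c i =
      ((AdjoinRoot.root g ^ (i : ℕ)) ⊗ₜ[A] (1 : B)) *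
        (Algebra.TensorProduct.includeRight : B →ₐ[A] AdjoinRoot g ⊗[A] B) (c i) := by
    rw [Algebra.TensorProduct.includeRight_apply, Algebra.TensorProduct.tmul_mul_tmul, mul_one,
      one_mul]
  rw [e]
  exact Ideal.mul_mem_left _ _ (Ideal.mem_map_of_mem _ (hcker i))

end Groth.Agent.Lib.Helper24.KerEtale
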