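import Mathlib
import Groth.Prelude.Def_PolLaw
import Groth.Agent.Lib.Helper24.KerField
import Groth.Agent.Lib.Helper24.FieldEmb

/-!
# The spectrum of the image of a family of zero-cycles over a field (helper24, S13707)
-/

set_option autoImplicit false

namespace Groth.Agent.Lib.Helper24.KerFieldSpec

open scoped TensorProduct
open Groth.Agent.Lib.Helper24.KerField Groth.Agent.Lib.Helper24.FieldEmb
  Groth.Agent.Lib.Helper24.GamCH2

universe u

variable {k : Type u} [Field k] {B : Type u} [CommRing B] [Algebra k B] {d : ℕ}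
  (F : PolLaw.MulLaw k B k d)

/-- S13707. -/
theorem spec_image_field :
    Finite (PrimeSpectrum (PolLaw.image F.law)) ∧
      Nat.card (PrimeSpectrum (PolLaw.image F.law)) ≤ d ∧
      ∀ P : PrimeSpectrum (PolLaw.image F.law), P.asIdeal.IsMaximal ∧
        Finite (Field.Emb k P.asIdeal.ResidueField) := by
  obtain ⟨f, hf⟩ := exists_injective_fin F
  have hψ : Function.Injective (fun P : PrimeSpectrum (B ⧸ PolLaw.ker F.law) =>
      (⟨P.asIdeal.comap (Ideal.Quotient.mk (PolLaw.ker F.law)), Ideal.comap_isPrime _ _,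
        fun b hb => by
          rw [Ideal.mem_comap, Ideal.Quotient.eq_zero_iff_mem.mpr hb]
          exact zero_mem _⟩ : {P : Ideal B // P.IsPrime ∧ PolLaw.ker F.law ≤ P})) := by
    intro P P' h
    apply PrimeSpectrum.ext
    exact Ideal.comap_injective_of_surjective _ Ideal.Quotient.mk_surjective
      (congrArg Subtype.val h)
  have hinj := hf.comp hψ
  haveI hfin : Finite (PrimeSpectrum (B ⧸ PolLaw.ker F.law)) := Finite.of_injective _ hinj
  refine ⟨hfin, ?_, fun P => ?_⟩
  · have h := Nat.card_le_card_of_injective _ hinj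
    simpa using h
  · haveI : Algebra.IsIntegral k (B ⧸ PolLaw.ker F.law) := isIntegral_image F
    have hmax : P.asIdeal.IsMaximal := by
      apply Ideal.isMaximal_of_isIntegral_of_isMaximal_comap (R := k)
      have hne : P.asIdeal.comap (algebraMap k (B ⧸ PolLaw.ker F.law)) ≠ ⊤ := fun h =>
        P.isPrime.ne_top (Ideal.comap_eq_top_iff.mp h)
      rw [(Ideal.eq_bot_or_top _).resolve_right hne]
      exact Ideal.bot_isMaximal
    refine ⟨hmax, ?_⟩
    haveI := hmax
    apply finite_emb_of_bounded d
    intro x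
    obtain ⟨y, rfl⟩ := Ideal.algebraMap_residueField_surjective P.asIdeal x
    obtain ⟨b, rfl⟩ := Ideal.Quotient.mk_surjective y
    obtain ⟨p, hp, hpd, hpb⟩ := exists_monic F b
    refine ⟨p, hp, hpd, ?_⟩
    have h1 := Polynomial.aeval_algHom_apply
      ((IsScalarTower.toAlgHom k (B ⧸ PolLaw.ker F.law) P.asIdeal.ResidueField).comp
        (Ideal.Quotient.mkₐ k (PolLaw.ker F.law))) b p
    have h2 : Ideal.Quotient.mkₐ k (PolLaw.ker F.law) (Polynomial.aeval b p) = 0 :=
      Ideal.Quotient.eq_zero_iff_mem.mpr hpb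
    rw [AlgHom.comp_apply, AlgHom.comp_apply, h2, map_zero] at h1
    exact h1

end Groth.Agent.Lib.Helper24.KerFieldSpec
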