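import Mathlib
import Groth.Prelude.Def_PolLaw
import Groth.Agent.Lib.Helper24.KerFibre
import Groth.Agent.Lib.Helper24.GamCH2

/-!
# The image of a family of zero-cycles over a semilocal ring is semilocal (helper24, S13724)
-/

set_option autoImplicit false

namespace Groth.Agent.Lib.Helper24.KerSemilocal

open scoped TensorProduct
open Groth.Agent.Lib.Helper24.KerFibre Groth.Agent.Lib.Helper24.GamCH2

universe u

/-- An integral algebra over a semilocal ring whose fibres over the closed points are finite has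
finitely many maximal ideals. -/
theorem finite_maximalSpectrum_of_fibres {A : Type u} [CommRing A] [Finite (MaximalSpectrum A)]
    (C : Type u) [CommRing C] [Algebra A C] [Algebra.IsIntegral A C]
    (h : ∀ (m : Ideal A) [m.IsMaximal], Finite (PrimeSpectrum ((A ⧸ m) ⊗[A] C))) :
    Finite (MaximalSpectrum C) := by
  classical
  let c : MaximalSpectrum C → MaximalSpectrum A := fun M =>
    ⟨M.asIdeal.comap (algebraMap A C),
      haveI := M.isMaximal
      Ideal.isMaximal_comap_of_isIntegral_of_isMaximal (R := A) M.asIdeal⟩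
  apply Set.finite_univ_iff.mp
  apply Set.Finite.of_finite_fibers c (Set.toFinite _)
  rintro m -
  rw [Set.univ_inter]
  haveI := m.isMaximal
  haveI := h m.asIdeal
  rw [← Set.finite_coe_iff]
  have hχ : ∀ M : ↥(c ⁻¹' {m}), ∃ P : PrimeSpectrum ((A ⧸ m.asIdeal) ⊗[A] C),
      P.asIdeal.comap (Algebra.TensorProduct.includeRight : C →ₐ[A] (A ⧸ m.asIdeal) ⊗[A] C) =
        M.1.asIdeal := by
    rintro ⟨M, hM⟩
    have hM' : c M = m := hM
    have hm : m.asIdeal = M.asIdeal.comap (algebraMap A C) := by
      rw [← hM']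
    haveI := M.isMaximal
    have h0 : ∀ a ∈ m.asIdeal, Algebra.ofId A (C ⧸ M.asIdeal) a = 0 := by
      intro a ha
      rw [hm, Ideal.mem_comap] at ha
      rw [Algebra.ofId_apply, IsScalarTower.algebraMap_apply A C (C ⧸ M.asIdeal),
        Ideal.Quotient.algebraMap_eq, Ideal.Quotient.eq_zero_iff_mem]
      exact ha
    obtain ⟨χ, hχ⟩ : ∃ χ : (A ⧸ m.asIdeal) ⊗[A] C →ₐ[A] C ⧸ M.asIdeal,
        χ = Algebra.TensorProduct.productMap
          (Ideal.Quotient.liftₐ m.asIdeal (Algebra.ofId A (C ⧸ M.asIdeal)) h0)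
          (Ideal.Quotient.mkₐ A M.asIdeal) := ⟨_, rfl⟩
    refine ⟨⟨RingHom.ker χ, RingHom.ker_isPrime χ⟩, ?_⟩
    ext b
    show χ (Algebra.TensorProduct.includeRight b) = 0 ↔ b ∈ M.asIdeal
    rw [hχ, Algebra.TensorProduct.includeRight_apply, Algebra.TensorProduct.productMap_right_apply,
      Ideal.Quotient.mkₐ_eq_mk, Ideal.Quotient.eq_zero_iff_mem]
  choose g hg using hχ
  refine Finite.of_injective g ?_
  intro M M' hMM
  apply Subtype.ext
  apply MaximalSpectrum.ext
  rw [← hg M, ← hg M', hMM]

variable {A : Type u} [CommRing A] {B : Type u} [CommRing B] [Algebra A B] {d : ℕ}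
  (F : PolLaw.MulLaw A B A d)

/-- S13724. -/
theorem finite_maximalSpectrum_image [Finite (MaximalSpectrum A)] :
    Finite (MaximalSpectrum (PolLaw.image F.law)) := by
  haveI := isIntegral_image F
  apply finite_maximalSpectrum_of_fibres (A := A) (PolLaw.image F.law)
  intro m hm
  letI : Field (A ⧸ m) := Ideal.Quotient.field m
  exact (fibre_card F (A ⧸ m)).1

end Groth.Agent.Lib.Helper24.KerSemilocal
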