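import Groth.Agent.Lib.Helper24.LamFil

/-!
# λ-operations on the γ-filtration (helper24)
-/

set_option autoImplicit false
set_option linter.unusedSectionVars false
universe u v

namespace Groth.Agent.Lib.Helper24.LamPrim

open LambdaRing MvPolynomial Groth.Agent.Lib.Helper20 Groth.Agent.Lib.Helper24.LamTest
  Groth.Agent.Lib.Helper24.LamExpr Groth.Agent.Lib.Helper24.LamOrd
  Groth.Agent.Lib.Helper24.LamUniv1 Groth.Agent.Lib.Helper24.LamFil

section Single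

variable {K : Type u} {A : Type v} [CommRing K] [CommRing A] [LambdaOps A] (ε : A →+* K)

/-- `λ^{j+1}(γ^i x) ≡ (-1)^j (j+1)^{i-1} γ^i x` modulo `Fil^{i+1}` -/
theorem lam_gamma_sub_mem (hA : IsSpecial A) {x : A} (hx : ε x = 0) (i : ℕ) (hi : 1 ≤ i) (j : ℕ) :
    LambdaOps.lam (j + 1) (gamma i x) - (-1) ^ j * ((j + 1 : ℕ) : A) ^ (i - 1) * gamma i x ∈
      gammaFil ε (i + 1) := by
  obtain ⟨e, he⟩ : ∃ e : LExpr Unit, e = LExpr.sub (LExpr.lam (j + 1) (LExpr.gam i (LExpr.var ())))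
      (LExpr.mul (LExpr.ofInt ((-1) ^ j * ((j + 1 : ℕ) : ℤ) ^ (i - 1))) (LExpr.gam i (LExpr.var ()))) :=
    ⟨_, rfl⟩
  have htest : ∀ N : ℕ, e.eval (fun _ => x0 (Fin N)) ∈ aOrd (Fin N) (i + 1) := by
    intro N
    rw [he]
    simp only [LExpr.eval_sub, LExpr.eval_lam, LExpr.eval_gam, LExpr.eval_var, LExpr.eval_mul,
      LExpr.eval_ofInt]
    have h := lam_sub_mem_aOrd i hi (gamma_x0_mem_aOrd (Fin N) i) j
    push_cast at h ⊢
    exact h
  obtain ⟨N, q, hq, hev⟩ := transfer1 UnivPolys.default e (i + 1) htest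
  have h1 := hev hA x
  rw [he] at h1
  simp only [LExpr.eval_sub, LExpr.eval_lam, LExpr.eval_gam, LExpr.eval_var, LExpr.eval_mul,
    LExpr.eval_ofInt] at h1
  push_cast at h1 ⊢
  rw [h1]
  exact aeval_gamma_mem ε hx N (i + 1) q hq

theorem lam_gamma_mem (hA : IsSpecial A) {x : A} (hx : ε x = 0) (i j : ℕ) :
    LambdaOps.lam (j + 1) (gamma i x) ∈ gammaFil ε i := by
  rcases Nat.eq_zero_or_pos i with rfl | hi
  · rw [gammaFil_zero]; trivial
  · have h1 := lam_gamma_sub_mem ε hA hx i hi j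
    have h2 : (-1 : A) ^ j * ((j + 1 : ℕ) : A) ^ (i - 1) * gamma i x ∈ gammaFil ε i :=
      Ideal.mul_mem_left _ _ (gamma_mem_gammaFil ε i hx)
    have h3 := Ideal.add_mem _ (gammaFil_antitone ε (Nat.le_succ i) h1) h2
    rwa [sub_add_cancel] at h3

end Single

section Stable

variable {A : Type v} [CommRing A] [LambdaOps A]

/-- if `λ^{j+1}` maps a generating set of `Φ.F m` into `Φ.F m`, it maps all of `Φ.F m` there -/
theorem lam_mem_of_span (UP : UnivPolys) (hA : IsSpecial A) (Φ : MulFil A) (m : ℕ) (S : Set A)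
    (hspan : Φ.F m = Ideal.span S)
    (hS : ∀ s ∈ S, ∀ j : ℕ, LambdaOps.lam (j + 1) s ∈ Φ.F m) :
    ∀ z ∈ Φ.F m, ∀ j : ℕ, LambdaOps.lam (j + 1) z ∈ Φ.F m := by
  intro z hz
  rw [hspan] at hz
  induction hz using Submodule.span_induction with
  | mem s hs => exact hS s hs
  | zero =>
    intro j
    rw [GammaBasic.lam_apply_zero (j + 1) (Nat.succ_pos j)]
    exact Ideal.zero_mem _
  | add a b _ _ ha hb =>
    intro j
    rw [LambdaOps.lam_add]
    refine Ideal.sum_mem _ fun i hi => ?_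
    rcases Nat.eq_zero_or_pos i with rfl | hpos
    · exact Ideal.mul_mem_left _ _ (hb j)
    · obtain ⟨i', rfl⟩ : ∃ i', i = i' + 1 := ⟨i - 1, by omega⟩
      exact Ideal.mul_mem_right _ _ (ha i')
  | smul c a _ ha =>
    intro j
    rw [smul_eq_mul, hA.lam_mul (j + 1) (UP.P (j + 1)) (UP.hP (j + 1))]
    have h := Φ.aeval_mulPoly_mem (Nat.succ_pos j) (UP.hP (j + 1))
      (Sum.elim (fun k : Fin (j + 1) => LambdaOps.lam ((k : ℕ) + 1) c)
        (fun k : Fin (j + 1) => LambdaOps.lam ((k : ℕ) + 1) a)) 0 m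
      (fun _ => Φ.mem_zero _) (fun b => ha b)
    rwa [zero_add] at h

end Stable

section GammaStable

variable {K : Type u} {A : Type v} [CommRing K] [CommRing A] [LambdaOps A] (ε : A →+* K)

theorem lam_prod_mem (UP : UnivPolys) (hA : IsSpecial A) (l : List (ℕ × A)) (hl : ∀ p ∈ l, ε p.2 = 0) :
    ∀ j : ℕ, LambdaOps.lam (j + 1) (l.map fun p => gamma p.1 p.2).prod ∈
      gammaFil ε (l.map Prod.fst).sum := by
  induction l with
  | nil =>
    intro j
    rw [List.map_nil, List.sum_nil, gammaFil_zero]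
    trivial
  | cons p l ih =>
    intro j
    simp only [List.map_cons, List.prod_cons, List.sum_cons]
    rw [hA.lam_mul (j + 1) (UP.P (j + 1)) (UP.hP (j + 1))]
    exact (gammaMulFil ε).aeval_mulPoly_mem (Nat.succ_pos j) (UP.hP (j + 1)) _ _ _
      (fun a => lam_gamma_mem ε hA (hl p (List.mem_cons_self)) p.1 a)
      (fun b => ih (fun p' hp' => hl p' (List.mem_cons_of_mem _ hp')) b)

/-- the γ-filtration is stable under the `λ^{j+1}` -/
theorem lam_mem_gammaFil (UP : UnivPolys) (hA : IsSpecial A) (m : ℕ) :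
    ∀ z ∈ gammaFil ε m, ∀ j : ℕ, LambdaOps.lam (j + 1) z ∈ gammaFil ε m := by
  apply lam_mem_of_span UP hA (gammaMulFil ε) m (gens ε m) rfl
  rintro s ⟨l, hl, hm, rfl⟩ j
  exact gammaFil_antitone ε hm (lam_prod_mem ε UP hA l hl j)

end GammaStable

section NuLemmas

open Groth.Agent.Lib.Helper20.NewtonNu

variable {R : Type*} [CommRing R]

theorem nu_mem (J : Ideal R) (c : ℕ → R) (hc : ∀ i, 1 ≤ i → c i ∈ J) : ∀ m, nu c m ∈ J := by
  intro m
  induction m using Nat.strong_induction_on with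
  | _ m ih =>
    cases m with
    | zero => rw [nu_zero]; exact Ideal.zero_mem _
    | succ n =>
      rw [nu_succ]
      refine Ideal.sub_mem _ (Ideal.mul_mem_left _ _ (hc _ (Nat.succ_pos n))) ?_
      refine Ideal.sum_mem _ fun i hi => ?_
      rw [Finset.mem_range] at hi
      exact Ideal.mul_mem_left _ _ (ih (n - i) (by omega))

theorem nu_sub_mem (J : Ideal R) (c : ℕ → R) (hc : ∀ i, 1 ≤ i → c i ∈ J) (n : ℕ) :
    nu c (n + 1) - (-1) ^ n * ((n : R) + 1) * c (n + 1) ∈ J * J := by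
  rw [nu_succ, sub_sub_cancel_left]
  refine neg_mem ?_
  refine Ideal.sum_mem _ fun i _ => ?_
  exact Ideal.mul_mem_mul (Ideal.mul_mem_left _ _ (hc _ (Nat.succ_pos i))) (nu_mem J c hc _)

end NuLemmas

section AdamsMap

open Groth.Agent.Lib.Helper20.NewtonNu

theorem map_adamsOp {A : Type v} {K : Type u} [CommRing A] [CommRing K] [LambdaOps A] [LambdaOps K]
    (f : A →+* K) (hf : ∀ (n : ℕ) (a : A), f (LambdaOps.lam n a) = LambdaOps.lam n (f a))
    (k : ℕ) (a : A) : f (adamsOp k a) = adamsOp k (f a) := by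
  rw [adamsOp_eq_nu, adamsOp_eq_nu, map_nu]
  exact nu_congr k (fun j _ _ => hf j a)

end AdamsMap

section Binomial

open PowerSeries Groth.Agent.Lib.Helper20.LamBasic

/-- (after helper20's S8699) -/
theorem lam_rec_binomial (K : Type u) [CommRing K] [LambdaOps K] [BinomialRing K]
    (hKb : IsBinomial K) (x : K) (n : ℕ) :
    ((n : K) + 1) * LambdaOps.lam (n + 1) x = LambdaOps.lam n x * (x - n) := by
  rw [hKb, hKb]
  have h := Ring.choose_smul_choose x (Nat.le_succ n)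
  rw [Nat.choose_succ_self_right, Nat.succ_sub (le_refl n), Nat.sub_self, Ring.choose_one_right,
    nsmul_eq_mul] at h
  rw [← h]
  push_cast
  ring

/-- the Adams operations of a binomial ring are the identity (after helper20's S8699) -/
theorem adamsOp_of_isBinomial (K : Type u) [CommRing K] [LambdaOps K] [BinomialRing K]
    (hKb : IsBinomial K) (k : ℕ) (hk : 1 ≤ k) (x : K) : adamsOp k x = x := by
  obtain ⟨k, rfl⟩ : ∃ j, k = j + 1 := ⟨k - 1, by omega⟩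
  have hD : (1 + PowerSeries.X) * derivative K (lamSeries x) = PowerSeries.C x * lamSeries x := by
    ext n
    rw [add_mul, one_mul, map_add, PowerSeries.coeff_C_mul, coeff_lamSeries]
    rcases n with _ | n
    · rw [PowerSeries.coeff_zero_X_mul, add_zero, coeff_derivative, coeff_lamSeries,
        LambdaOps.lam_zero, LambdaOps.lam_one]
      push_cast
      ring
    · rw [PowerSeries.coeff_succ_X_mul, coeff_derivative, coeff_derivative, coeff_lamSeries,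
        coeff_lamSeries]
      have h := lam_rec_binomial K hKb x (n + 1)
      push_cast at h ⊢
      linear_combination h
  have hL : (1 + PowerSeries.X) * logDerivSeries x = PowerSeries.C x := by
    unfold logDerivSeries
    rw [← mul_assoc, hD, mul_assoc, lamSeries_mul_inv, mul_one]
  have hc : ∀ m, PowerSeries.coeff m (logDerivSeries x) = (-1) ^ m * x := by
    intro m
    induction m with
    | zero =>
      have h := congrArg (PowerSeries.coeff 0) hL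
      rw [add_mul, one_mul, map_add, PowerSeries.coeff_zero_X_mul, add_zero,
        PowerSeries.coeff_zero_C] at h
      rw [h, pow_zero, one_mul]
    | succ m ih =>
      have h := congrArg (PowerSeries.coeff (m + 1)) hL
      rw [add_mul, one_mul, map_add, PowerSeries.coeff_succ_X_mul, ih, PowerSeries.coeff_C,
        if_neg (Nat.succ_ne_zero m)] at h
      rw [pow_succ]
      linear_combination h
  rw [adamsOp_succ, hc, ← mul_assoc, ← mul_pow]
  simp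

end Binomial

section Rem

open Groth.Agent.Lib.Helper20.NewtonNu Groth.Agent.Lib.Helper20.SymFT
  Groth.Agent.Lib.Helper20.SymStab

/-- the remainder `P_j - ν_j(X) Y_j` -/
noncomputable def Rem (UP : UnivPolys) (j : ℕ) : MvPolynomial (Fin j ⊕ Fin j) ℤ :=
  UP.P j - nu (Xl j) j * Xr j j

theorem Xl_mem (j i : ℕ) : Xl j i ∈ wGE (xw : Fin j ⊕ Fin j → ℕ) 1 := by
  unfold Xl
  split_ifs with h
  · exact X_mem_wGE (xw : Fin j ⊕ Fin j → ℕ) (Sum.inl _)
  · exact Ideal.zero_mem _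

theorem Xr_mem (j i : ℕ) : Xr j i ∈ wGE (yw : Fin j ⊕ Fin j → ℕ) 1 := by
  unfold Xr
  split_ifs with h
  · exact X_mem_wGE (yw : Fin j ⊕ Fin j → ℕ) (Sum.inr _)
  · exact Ideal.zero_mem _

theorem rename_castLE_mem (UP : UnivPolys) {i j : ℕ} (hi : 1 ≤ i) (h : i ≤ j) :
    rename (Sum.map (Fin.castLE h) (Fin.castLE h)) (UP.P i) ∈ wGE (yw : Fin j ⊕ Fin j → ℕ) 1 := by
  have e : rename (Sum.map (Fin.castLE h) (Fin.castLE h)) (UP.P i) =
      aeval (fun s : Fin i ⊕ Fin i => (X (Sum.map (Fin.castLE h) (Fin.castLE h) s) :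
        MvPolynomial (Fin j ⊕ Fin j) ℤ)) (UP.P i) := by
    rw [← aeval_X_left_apply (rename (Sum.map (Fin.castLE h) (Fin.castLE h)) (UP.P i)), aeval_rename]
    rfl
  rw [e]
  refine (wMulFil (yw : Fin j ⊕ Fin j → ℕ)).aeval_mem _ (yw : Fin i ⊕ Fin i → ℕ) ?_ _ 1
    (fun d hd => (deg_of_isMulPoly hi (UP.hP i) d hd).2)
  rintro (a | b)
  · exact X_mem_wGE (yw : Fin j ⊕ Fin j → ℕ) (Sum.inl (Fin.castLE h a))
  · exact X_mem_wGE (yw : Fin j ⊕ Fin j → ℕ) (Sum.inr (Fin.castLE h b))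

theorem wGE_mul_le {σ : Type*} (wt : σ → ℕ) (a b : ℕ) : wGE wt a * wGE wt b ≤ wGE wt (a + b) :=
  Ideal.mul_le.mpr fun _ hf _ hg => mul_mem_wGE wt hf hg

theorem rem_mem_y (UP : UnivPolys) (n : ℕ) :
    Rem UP (n + 1) ∈ wGE (yw : Fin (n + 1) ⊕ Fin (n + 1) → ℕ) 2 := by
  classical
  obtain ⟨j, hj⟩ : ∃ j, j = n + 1 := ⟨_, rfl⟩
  rw [← hj]
  have hj1 : 1 ≤ j := by omega
  obtain ⟨G, hGdef⟩ : ∃ G : ℕ → MvPolynomial (Fin j ⊕ Fin j) ℤ, ∀ i,
      G i = if h : i ≤ j then rename (Sum.map (Fin.castLE h) (Fin.castLE h)) (UP.P i) else 0 :=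
    ⟨_, fun _ => rfl⟩
  have hB : ∀ i, 1 ≤ i → i ≤ j → Phi j j (G i) = mulGen j i := by
    intro i _ h
    rw [hGdef i, dif_pos h, Phi_rename_castLE h, Phi_eq_mulGen_of_isMulPoly h (UP.hP i)]
  have hid := nu_mul_identity j j hj1 le_rfl G hB
  have hGj : G j = UP.P j := by
    rw [hGdef j, dif_pos le_rfl]
    have : (Sum.map (Fin.castLE (le_refl j)) (Fin.castLE (le_refl j)) : Fin j ⊕ Fin j → _) = id := by
      funext s
      rcases s with a | b <;> rfl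
    rw [this, rename_id_apply]
  have hGy : ∀ i, 1 ≤ i → G i ∈ wGE (yw : Fin j ⊕ Fin j → ℕ) 1 := by
    intro i hi
    rw [hGdef i]
    split_ifs with h
    · exact rename_castLE_mem UP hi h
    · exact Ideal.zero_mem _
  have h1 := wGE_mul_le (yw : Fin j ⊕ Fin j → ℕ) 1 1 (nu_sub_mem _ G hGy n)
  have h2 := wGE_mul_le (yw : Fin j ⊕ Fin j → ℕ) 1 1
    (nu_sub_mem _ (Xr j) (fun i _ => Xr_mem j i) n)
  rw [← hj] at h1 h2
  rw [hid, hGj] at h1
  have hs : ((-1 : MvPolynomial (Fin j ⊕ Fin j) ℤ) ^ n) * (-1) ^ n = 1 := by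
    rw [← mul_pow]; simp
  have key : ((n + 1 : ℕ) : MvPolynomial (Fin j ⊕ Fin j) ℤ) * Rem UP j =
      -((-1) ^ n * (nu (Xl j) j * nu (Xr j) j - (-1) ^ n * ((n : MvPolynomial (Fin j ⊕ Fin j) ℤ) + 1) * UP.P j)
        - (-1) ^ n * nu (Xl j) j *
          (nu (Xr j) j - (-1) ^ n * ((n : MvPolynomial (Fin j ⊕ Fin j) ℤ) + 1) * Xr j j)) := by
    rw [Rem]
    push_cast
    linear_combination (-(((n : MvPolynomial (Fin j ⊕ Fin j) ℤ) + 1) * UP.P j
      - ((n : MvPolynomial (Fin j ⊕ Fin j) ℤ) + 1) * nu (Xl j) j * Xr j j)) * hs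
  apply mem_wGE_of_nsmul _ (Nat.succ_ne_zero n)
  rw [key]
  exact neg_mem (Ideal.sub_mem _ (Ideal.mul_mem_left _ _ h1) (Ideal.mul_mem_left _ _ h2))

theorem rem_mem_x (UP : UnivPolys) (n : ℕ) :
    Rem UP (n + 1) ∈ wGE (xw : Fin (n + 1) ⊕ Fin (n + 1) → ℕ) 1 := by
  rw [Rem]
  refine Ideal.sub_mem _ ?_ (Ideal.mul_mem_right _ _ (nu_mem _ _ (fun i _ => Xl_mem _ i) _))
  intro d hd
  exact (deg_of_isMulPoly (Nat.succ_pos n) (UP.hP (n + 1)) d hd).1

theorem aeval_rem_mem {A : Type v} [CommRing A] (Φ : MulFil A) (UP : UnivPolys) (n : ℕ)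
    (f : Fin (n + 1) ⊕ Fin (n + 1) → A) (m1 m2 : ℕ)
    (h1 : ∀ a, f (Sum.inl a) ∈ Φ.F m1) (h2 : ∀ b, f (Sum.inr b) ∈ Φ.F m2) :
    aeval f (Rem UP (n + 1)) ∈ Φ.F (m1 + 2 * m2) := by
  apply Φ.aeval_mem f (Sum.elim (fun _ => m1) (fun _ => m2))
  · rintro (a | b)
    · exact h1 a
    · exact h2 b
  · intro d hd
    rw [weight_sumElim_const]
    have hx := rem_mem_x UP n d hd
    have hy := rem_mem_y UP n d hd
    calc m1 + 2 * m2 = m1 * 1 + m2 * 2 := by ring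
      _ ≤ _ := Nat.add_le_add (Nat.mul_le_mul_left _ hx) (Nat.mul_le_mul_left _ hy)

/-- `λ^{n+1}(z₁ z₂) = ψ^{n+1}(z₁) λ^{n+1}(z₂) + (remainder)` -/
theorem lam_mul_eq {A : Type v} [CommRing A] [LambdaOps A] (UP : UnivPolys) (hA : IsSpecial A) (n : ℕ)
    (z1 z2 : A) :
    LambdaOps.lam (n + 1) (z1 * z2) = adamsOp (n + 1) z1 * LambdaOps.lam (n + 1) z2 +
      aeval (Sum.elim (fun k : Fin (n + 1) => LambdaOps.lam ((k : ℕ) + 1) z1)
        (fun k : Fin (n + 1) => LambdaOps.lam ((k : ℕ) + 1) z2)) (Rem UP (n + 1)) := by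
  have hP : UP.P (n + 1) = nu (Xl (n + 1)) (n + 1) * Xr (n + 1) (n + 1) + Rem UP (n + 1) := by
    rw [Rem]; ring
  rw [hA.lam_mul (n + 1) (UP.P (n + 1)) (UP.hP (n + 1))]
  conv_lhs => rw [hP]
  rw [map_add, map_mul, map_nu, aeval_Xr (n + 1) (n + 1) (Nat.succ_pos n) le_rfl, adamsOp_eq_nu]
  congr 2
  apply nu_congr
  intro i hi1 hi2
  show aeval _ (Xl (n + 1) i) = _
  rw [aeval_Xl (n + 1) i hi1 hi2, Sum.elim_inl]
  show LambdaOps.lam (i - 1 + 1) z1 = _
  rw [Nat.sub_add_cancel hi1]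

end Rem

section Prim

open Groth.Agent.Lib.Helper20.NewtonNu

variable {A : Type v} [CommRing A] [LambdaOps A] (Φ : MulFil A)

/-- `z ∈ F^m` with `λ^{j+1} z ≡ (-1)^j (j+1)^{m-1} z` modulo `F^{m+1}` -/
def Prim (m : ℕ) (z : A) : Prop :=
  z ∈ Φ.F m ∧ ∀ j : ℕ, LambdaOps.lam (j + 1) z - (-1) ^ j * ((j + 1 : ℕ) : A) ^ (m - 1) * z ∈ Φ.F (m + 1)

/-- `z ∈ F^m` with `ψ^{j+1} z ≡ (j+1)^m z` modulo `F^{m+1}` -/
def PsiPrim (m : ℕ) (z : A) : Prop :=
  z ∈ Φ.F m ∧ ∀ j : ℕ, adamsOp (j + 1) z - ((j + 1 : ℕ) : A) ^ m * z ∈ Φ.F (m + 1)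

variable (hst : ∀ m : ℕ, ∀ z ∈ Φ.F m, ∀ j : ℕ, LambdaOps.lam (j + 1) z ∈ Φ.F m)

include hst in
theorem psiPrim_of_prim {m : ℕ} (hm : 1 ≤ m) {z : A} (hz : Prim Φ m z) : PsiPrim Φ m z := by
  refine ⟨hz.1, fun j => ?_⟩
  have hc : ∀ i, 1 ≤ i → (fun i => LambdaOps.lam i z) i ∈ Φ.F m := by
    intro i hi
    obtain ⟨i', rfl⟩ : ∃ i', i = i' + 1 := ⟨i - 1, by omega⟩
    exact hst m z hz.1 i'
  have h1 := nu_sub_mem (Φ.F m) (fun i => LambdaOps.lam i z) hc j
  have h2 : Φ.F m * Φ.F m ≤ Φ.F (m + 1) :=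
    (Ideal.mul_le.mpr fun _ ha _ hb => Φ.mul ha hb).trans (Φ.anti (by omega))
  have h3 := h2 h1
  rw [← adamsOp_eq_nu] at h3
  have h4 := Ideal.mul_mem_left _ ((-1 : A) ^ j * ((j : A) + 1)) (hz.2 j)
  have h5 := Ideal.add_mem _ h3 h4
  have hs : ((-1 : A) ^ j) * (-1) ^ j = 1 := by rw [← mul_pow]; simp
  have hp : ((j + 1 : ℕ) : A) ^ m = ((j : A) + 1) * ((j + 1 : ℕ) : A) ^ (m - 1) := by
    obtain ⟨m', rfl⟩ : ∃ m', m = m' + 1 := ⟨m - 1, by omega⟩
    rw [Nat.add_sub_cancel, pow_succ]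
    push_cast
    ring
  have e : adamsOp (j + 1) z - ((j + 1 : ℕ) : A) ^ m * z =
      adamsOp (j + 1) z - (-1) ^ j * ((j : A) + 1) * LambdaOps.lam (j + 1) z +
        (-1) ^ j * ((j : A) + 1) *
          (LambdaOps.lam (j + 1) z - (-1) ^ j * ((j + 1 : ℕ) : A) ^ (m - 1) * z) := by
    rw [hp]
    linear_combination (((j : A) + 1) * ((j + 1 : ℕ) : A) ^ (m - 1) * z) * hs
  rw [e]
  exact h5

include hst in
theorem prim_mul (UP : UnivPolys) (hA : IsSpecial A) {m1 m2 : ℕ} (hm2 : 1 ≤ m2) {z1 z2 : A}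
    (h1 : PsiPrim Φ m1 z1) (h2 : Prim Φ m2 z2) : Prim Φ (m1 + m2) (z1 * z2) := by
  refine ⟨Φ.mul h1.1 h2.1, fun j => ?_⟩
  rw [lam_mul_eq UP hA j z1 z2]
  have hR := aeval_rem_mem Φ UP j
    (Sum.elim (fun k : Fin (j + 1) => LambdaOps.lam ((k : ℕ) + 1) z1)
      (fun k : Fin (j + 1) => LambdaOps.lam ((k : ℕ) + 1) z2)) m1 m2
    (fun a => hst m1 z1 h1.1 a) (fun b => hst m2 z2 h2.1 b)
  have hR' := Φ.anti (show m1 + m2 + 1 ≤ m1 + 2 * m2 by omega) hR
  have ha := Φ.mul (h1.2 j) (hst m2 z2 h2.1 j)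
  have hb := Φ.mul h1.1 (h2.2 j)
  have ha' : (adamsOp (j + 1) z1 - ((j + 1 : ℕ) : A) ^ m1 * z1) * LambdaOps.lam (j + 1) z2 ∈
      Φ.F (m1 + m2 + 1) := by
    have : m1 + 1 + m2 = m1 + m2 + 1 := by omega
    rwa [this] at ha
  have hb' : z1 * (LambdaOps.lam (j + 1) z2 - (-1) ^ j * ((j + 1 : ℕ) : A) ^ (m2 - 1) * z2) ∈
      Φ.F (m1 + m2 + 1) := by
    have : m1 + (m2 + 1) = m1 + m2 + 1 := by omega
    rwa [this] at hb
  have hp : ((j + 1 : ℕ) : A) ^ (m1 + m2 - 1) = ((j + 1 : ℕ) : A) ^ m1 * ((j + 1 : ℕ) : A) ^ (m2 - 1) := by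
    rw [← pow_add]
    congr 1
    omega
  have e : adamsOp (j + 1) z1 * LambdaOps.lam (j + 1) z2 +
      aeval (Sum.elim (fun k : Fin (j + 1) => LambdaOps.lam ((k : ℕ) + 1) z1)
        (fun k : Fin (j + 1) => LambdaOps.lam ((k : ℕ) + 1) z2)) (Rem UP (j + 1)) -
      (-1) ^ j * ((j + 1 : ℕ) : A) ^ (m1 + m2 - 1) * (z1 * z2) =
      (adamsOp (j + 1) z1 - ((j + 1 : ℕ) : A) ^ m1 * z1) * LambdaOps.lam (j + 1) z2 +
      ((j + 1 : ℕ) : A) ^ m1 *
        (z1 * (LambdaOps.lam (j + 1) z2 - (-1) ^ j * ((j + 1 : ℕ) : A) ^ (m2 - 1) * z2)) +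
      aeval (Sum.elim (fun k : Fin (j + 1) => LambdaOps.lam ((k : ℕ) + 1) z1)
        (fun k : Fin (j + 1) => LambdaOps.lam ((k : ℕ) + 1) z2)) (Rem UP (j + 1)) := by
    rw [hp]
    ring
  rw [e]
  exact Ideal.add_mem _ (Ideal.add_mem _ ha' (Ideal.mul_mem_left _ _ hb')) hR'

include hst in
theorem prim_add {m : ℕ} (hm : 1 ≤ m) {z1 z2 : A} (h1 : Prim Φ m z1) (h2 : Prim Φ m z2) :
    Prim Φ m (z1 + z2) := by
  refine ⟨Ideal.add_mem _ h1.1 h2.1, fun j => ?_⟩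
  rw [LambdaOps.lam_add, Finset.sum_range_succ, Finset.sum_range_succ', Nat.sub_self,
    LambdaOps.lam_zero, LambdaOps.lam_zero, Nat.sub_zero, mul_one, one_mul]
  have hcross : ∑ i ∈ Finset.range j, LambdaOps.lam (i + 1) z1 * LambdaOps.lam (j + 1 - (i + 1)) z2 ∈
      Φ.F (m + 1) := by
    refine Ideal.sum_mem _ fun i hi => ?_
    rw [Finset.mem_range] at hi
    obtain ⟨k, hk⟩ : ∃ k, j + 1 - (i + 1) = k + 1 := ⟨j - i - 1, by omega⟩
    rw [hk]
    exact Φ.anti (show m + 1 ≤ m + m by omega) (Φ.mul (hst m z1 h1.1 i) (hst m z2 h2.1 k))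
  have e : ∑ i ∈ Finset.range j, LambdaOps.lam (i + 1) z1 * LambdaOps.lam (j + 1 - (i + 1)) z2 +
      LambdaOps.lam (j + 1) z2 + LambdaOps.lam (j + 1) z1 -
      (-1) ^ j * ((j + 1 : ℕ) : A) ^ (m - 1) * (z1 + z2) =
      ∑ i ∈ Finset.range j, LambdaOps.lam (i + 1) z1 * LambdaOps.lam (j + 1 - (i + 1)) z2 +
      (LambdaOps.lam (j + 1) z1 - (-1) ^ j * ((j + 1 : ℕ) : A) ^ (m - 1) * z1) +
      (LambdaOps.lam (j + 1) z2 - (-1) ^ j * ((j + 1 : ℕ) : A) ^ (m - 1) * z2) := by ring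
  rw [e]
  exact Ideal.add_mem _ (Ideal.add_mem _ hcross (h1.2 j)) (h2.2 j)

theorem prim_zero (m : ℕ) : Prim Φ m (0 : A) := by
  refine ⟨Ideal.zero_mem _, fun j => ?_⟩
  rw [GammaBasic.lam_apply_zero (j + 1) (Nat.succ_pos j), mul_zero, sub_zero]
  exact Ideal.zero_mem _

include hst in
theorem prim_of_mem_succ {m : ℕ} {z : A} (hz : z ∈ Φ.F (m + 1)) : Prim Φ m z :=
  ⟨Φ.anti (Nat.le_succ m) hz, fun j =>
    Ideal.sub_mem _ (hst (m + 1) z hz j) (Ideal.mul_mem_left _ _ hz)⟩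

include hst in
/-- the `m`-th `γ`-operation on a primitive element of level `m` -/
theorem gamma_sub_mem_of_prim {m : ℕ} (hm : 1 ≤ m) {z : A} (hz : Prim Φ m z) :
    gamma m z - (-1 : A) ^ (m - 1) * ((m - 1).factorial : A) * z ∈ Φ.F (m + 1) := by
  obtain ⟨n, rfl⟩ : ∃ n, m = n + 1 := ⟨m - 1, by omega⟩
  rw [Nat.add_sub_cancel]
  have hz2 : ∀ j : ℕ, LambdaOps.lam (j + 1) z - (-1) ^ j * ((j + 1 : ℕ) : A) ^ n * z ∈ Φ.F (n + 1 + 1) := by
    intro j
    have h := hz.2 j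
    rwa [Nat.add_sub_cancel] at h
  have hsum : ∑ k ∈ Finset.range (n + 1), ((-1 : ℤ) ^ k * (n.choose k : ℤ)) * ((k : ℤ) + 1) ^ n =
      (-1) ^ n * (n.factorial : ℤ) := by
    have h1 := fwdDiff_iter_eq_sum_shift (1 : ℤ) (fun r : ℤ => r ^ n) n 1
    rw [fwdDiff_iter_eq_factorial] at h1
    have h2 : ((n.factorial : ℤ → ℤ)) 1 = (n.factorial : ℤ) := by simp
    rw [h2] at h1
    rw [h1, Finset.mul_sum]
    apply Finset.sum_congr rfl
    intro k hk
    rw [Finset.mem_range] at hk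
    have hs : (-1 : ℤ) ^ k = (-1) ^ n * (-1) ^ (n - k) := by
      rw [← pow_add]
      have : n + (n - k) = k + 2 * (n - k) := by omega
      rw [this, pow_add, pow_mul]
      simp
    rw [hs]
    simp only [smul_eq_mul, nsmul_eq_mul, mul_one]
    ring
  have hsumA := congrArg (Int.cast : ℤ → A) hsum
  push_cast at hsumA
  rw [LamUniv1.gamma_succ, ← hsumA, Finset.sum_mul, ← Finset.sum_sub_distrib]
  refine Ideal.sum_mem _ fun k _ => ?_
  have h := Ideal.mul_mem_left _ ((n.choose k : ℕ) : A) (hz2 k)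
  have e : (n.choose k : A) * LambdaOps.lam (k + 1) z - (-1) ^ k * (n.choose k : A) * ((k : A) + 1) ^ n * z =
      (n.choose k : A) * (LambdaOps.lam (k + 1) z - (-1) ^ k * ((k + 1 : ℕ) : A) ^ n * z) := by
    push_cast
    ring
  rw [e]
  exact h

end Prim

section Final

variable (K : Type u) [CommRing K] [LambdaOps K] [BinomialRing K] (hKb : IsBinomial K)
  (A : Type v) [CommRing A] [LambdaOps A] [Algebra K A] (hA : IsSpecial A)
  (ε : A →ₐ[K] K) (hε : IsAugLambdaAlg K A ε)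

include hKb hε in
theorem psiPrim_zero (c : A) : PsiPrim (gammaMulFil (ε : A →+* K)) 0 c := by
  refine ⟨MulFil.mem_zero _ _, fun j => ?_⟩
  rw [pow_zero, one_mul]
  apply mem_gammaFil_one
  rw [map_sub, map_adamsOp (ε : A →+* K) (fun n a => hε.map_lam n a),
    adamsOp_of_isBinomial K hKb (j + 1) (Nat.succ_pos j), sub_self]

include hA in
theorem prim_gamma {x : A} (hx : (ε : A →+* K) x = 0) (i : ℕ) (hi : 1 ≤ i) :
    Prim (gammaMulFil (ε : A →+* K)) i (gamma i x) :=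
  ⟨gamma_mem_gammaFil _ i hx, fun j => lam_gamma_sub_mem _ hA hx i hi j⟩

include hKb hA hε in
theorem prim_prod (UP : UnivPolys) (l : List (ℕ × A)) (hl : ∀ p ∈ l, (ε : A →+* K) p.2 = 0) :
    1 ≤ (l.map Prod.fst).sum →
      Prim (gammaMulFil (ε : A →+* K)) (l.map Prod.fst).sum (l.map fun p => gamma p.1 p.2).prod := by
  have hst := lam_mem_gammaFil (ε : A →+* K) UP hA
  induction l with
  | nil =>
    intro hs
    simp at hs
  | cons p l ih =>
    intro hs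
    simp only [List.map_cons, List.prod_cons, List.sum_cons] at hs ⊢
    have hl' : ∀ p' ∈ l, (ε : A →+* K) p'.2 = 0 := fun p' hp' => hl p' (List.mem_cons_of_mem _ hp')
    have hp : (ε : A →+* K) p.2 = 0 := hl p List.mem_cons_self
    rcases Nat.eq_zero_or_pos p.1 with h0 | hpos
    · rw [h0, GammaBasic.gamma_zero_apply, zero_add, one_mul]
      rw [h0, zero_add] at hs
      exact ih hl' hs
    · rcases Nat.eq_zero_or_pos (l.map Prod.fst).sum with hs0 | hspos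
      · rw [hs0, mul_comm, add_comm]
        exact prim_mul (gammaMulFil (ε : A →+* K)) hst UP hA hpos
          (psiPrim_zero K hKb A ε hε _) (prim_gamma K A hA ε hp p.1 hpos)
      · exact prim_mul (gammaMulFil (ε : A →+* K)) hst UP hA hspos
          (psiPrim_of_prim (gammaMulFil (ε : A →+* K)) hst hpos (prim_gamma K A hA ε hp p.1 hpos))
          (ih hl' hspos)

include hKb hA hε in
/-- every element of `Fil^m`, `m ≥ 1`, is primitive of level `m` -/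
theorem prim_of_mem (UP : UnivPolys) (m : ℕ) (hm : 1 ≤ m) (z : A)
    (hz : z ∈ gammaFil (ε : A →+* K) m) : Prim (gammaMulFil (ε : A →+* K)) m z := by
  have hst := lam_mem_gammaFil (ε : A →+* K) UP hA
  rw [gammaFil_eq] at hz
  induction hz using Submodule.span_induction with
  | mem s hs =>
    obtain ⟨l, hl, hm', rfl⟩ := hs
    rcases Nat.eq_or_lt_of_le hm' with heq | hlt
    · rw [heq]
      exact prim_prod K hKb A hA ε hε UP l hl (heq ▸ hm)
    · apply prim_of_mem_succ (gammaMulFil (ε : A →+* K)) hst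
      exact Ideal.subset_span ⟨l, hl, hlt, rfl⟩
  | zero => exact prim_zero _ m
  | add a b _ _ ha hb => exact prim_add (gammaMulFil (ε : A →+* K)) hst hm ha hb
  | smul c a _ ha =>
    have h := prim_mul (gammaMulFil (ε : A →+* K)) hst UP hA hm (psiPrim_zero K hKb A ε hε c) ha
    rwa [zero_add] at h

include hKb hA hε in
/-- **S8690**: `γ^m z ≡ (-1)^{m-1} (m-1)! z` modulo `Fil^{m+1}` for `z ∈ Fil^m` -/
theorem gamma_sub_factorial_mul_mem (UP : UnivPolys) (m : ℕ) (hm : 1 ≤ m) (z : A)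
    (hz : z ∈ gammaFil (ε : A →+* K) m) :
    gamma m z - (-1 : A) ^ (m - 1) * ((m - 1).factorial : A) * z ∈ gammaFil (ε : A →+* K) (m + 1) :=
  gamma_sub_mem_of_prim (gammaMulFil (ε : A →+* K)) (lam_mem_gammaFil (ε : A →+* K) UP hA) hm
    (prim_of_mem K hKb A hA ε hε UP m hm z hz)

end Final

end Groth.Agent.Lib.Helper24.LamPrim
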