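import Groth.Agent.Lib.Helper24.LamUniv2
import Groth.Agent.Lib.Helper24.LamPrim

/-!
# The binomial principle and scalar multiples in λ-algebras over binomial rings (helper24)

An integer-coefficient polynomial identity in the binomial coefficients `C(κ, a)` which holds for all
natural numbers `κ` holds for all elements `κ` of a binomial ring.  Consequence: in a special
`K`-λ-algebra over a binomial ring `K`, `γ^i(κ y) = Σ_r C(κ, r) [t^i] (γ_t(y) - 1)^r`.
-/

set_option autoImplicit false
set_option linter.unusedSectionVars false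
set_option maxHeartbeats 400000
universe u v

namespace Groth.Agent.Lib.Helper24.LamBin

open LambdaRing Groth.Agent.Lib.Helper20 Groth.Agent.Lib.Helper24.LamTest
  Groth.Agent.Lib.Helper24.LamExpr Groth.Agent.Lib.Helper24.LamOrd
  Groth.Agent.Lib.Helper24.LamUniv1 Groth.Agent.Lib.Helper24.LamFil
  Groth.Agent.Lib.Helper24.LamGam

section Principle

open Polynomial

variable {R₀ R : Type*} [CommRing R₀] [IsDomain R₀] [CharZero R₀] [CommRing R]

/-- `a! c_a` is the falling factorial of `κ` -/
theorem factorial_mul_eq_eval₂ (φ : R₀ →+* R) (κ : R) (c : ℕ → R) (hc0 : c 0 = 1)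
    (hcs : ∀ a : ℕ, ((a : R) + 1) * c (a + 1) = c a * (κ - a)) (a : ℕ) :
    (a.factorial : R) * c a = Polynomial.eval₂ φ κ (descPochhammer R₀ a) := by
  induction a with
  | zero => simp [hc0]
  | succ a ih =>
    rw [descPochhammer_succ_right, Polynomial.eval₂_mul, ← ih, Polynomial.eval₂_sub,
      Polynomial.eval₂_X, Polynomial.eval₂_natCast, Nat.factorial_succ]
    push_cast
    linear_combination (a.factorial : R) * hcs a

/-- **Binomial principle.** -/
theorem bin_principle (φ : R₀ →+* R) (hR : ∀ D : ℕ, D ≠ 0 → ∀ y : R, (D : R) * y = 0 → y = 0)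
    (κ : R) (c : ℕ → R) (hc0 : c 0 = 1)
    (hcs : ∀ a : ℕ, ((a : R) + 1) * c (a + 1) = c a * (κ - a))
    {σ : Type*} (idx : σ → ℕ) (F : MvPolynomial σ R₀)
    (hF : ∀ k : ℕ, MvPolynomial.eval (fun s => ((k.choose (idx s) : ℕ) : R₀)) F = 0) :
    MvPolynomial.eval₂ φ (fun s => c (idx s)) F = 0 := by
  have key : ∀ F : MvPolynomial σ R₀, ∃ D : ℕ, D ≠ 0 ∧ ∃ G : Polynomial R₀,
      (D : R) * MvPolynomial.eval₂ φ (fun s => c (idx s)) F = Polynomial.eval₂ φ κ G ∧
      ∀ k : ℕ, (D : R₀) * MvPolynomial.eval (fun s => ((k.choose (idx s) : ℕ) : R₀)) F =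
        G.eval (k : R₀) := by
    intro F
    induction F using MvPolynomial.induction_on with
    | C r =>
      refine ⟨1, one_ne_zero, Polynomial.C r, ?_, fun k => ?_⟩
      · simp
      · simp
    | add p q hp hq =>
      obtain ⟨D1, hD1, G1, h1, h1'⟩ := hp
      obtain ⟨D2, hD2, G2, h2, h2'⟩ := hq
      refine ⟨D1 * D2, Nat.mul_ne_zero hD1 hD2,
        Polynomial.C (D2 : R₀) * G1 + Polynomial.C (D1 : R₀) * G2, ?_, fun k => ?_⟩
      · rw [MvPolynomial.eval₂_add, Polynomial.eval₂_add, Polynomial.eval₂_mul, Polynomial.eval₂_mul,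
          Polynomial.eval₂_C, Polynomial.eval₂_C, ← h1, ← h2, map_natCast, map_natCast]
        push_cast
        ring
      · rw [map_add, Polynomial.eval_add, Polynomial.eval_mul, Polynomial.eval_mul,
          Polynomial.eval_C, Polynomial.eval_C, ← h1' k, ← h2' k]
        push_cast
        ring
    | mul_X p s hp =>
      obtain ⟨D, hD, G, h1, h1'⟩ := hp
      refine ⟨D * (idx s).factorial, Nat.mul_ne_zero hD (Nat.factorial_ne_zero _),
        G * descPochhammer R₀ (idx s), ?_, fun k => ?_⟩
      · rw [MvPolynomial.eval₂_mul, MvPolynomial.eval₂_X, Polynomial.eval₂_mul, ← h1,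
          ← factorial_mul_eq_eval₂ φ κ c hc0 hcs]
        push_cast
        ring
      · rw [map_mul, MvPolynomial.eval_X, Polynomial.eval_mul, ← h1' k,
          descPochhammer_eval_eq_descFactorial, Nat.descFactorial_eq_factorial_mul_choose]
        push_cast
        ring
  obtain ⟨D, hD, G, h1, h2⟩ := key F
  have hG : G = 0 := by
    apply Polynomial.eq_zero_of_infinite_isRoot
    refine Set.Infinite.mono ?_ (Set.infinite_range_of_injective (Nat.cast_injective (R := R₀)))
    rintro _ ⟨k, rfl⟩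
    show G.eval (k : R₀) = 0
    rw [← h2 k, hF k, mul_zero]
  rw [hG, Polynomial.eval₂_zero] at h1
  exact hR D hD _ h1

end Principle

section BinomialRing

variable {K : Type u} [CommRing K] [BinomialRing K]

theorem choose_succ_rec (x : K) (n : ℕ) :
    ((n : K) + 1) * Ring.choose x (n + 1) = Ring.choose x n * (x - n) := by
  have h := Ring.choose_smul_choose x (Nat.le_succ n)
  rw [Nat.choose_succ_self_right, Nat.succ_sub (le_refl n), Nat.sub_self, Ring.choose_one_right,
    nsmul_eq_mul] at h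
  rw [← h]
  push_cast
  ring

theorem natCast_mul_eq_zero {σ : Type*} (D : ℕ) (hD : D ≠ 0) (y : MvPolynomial σ K)
    (h : (D : MvPolynomial σ K) * y = 0) : y = 0 := by
  ext m
  have h1 := congrArg (MvPolynomial.coeff m) h
  have h2 : ((D : MvPolynomial σ K)) = MvPolynomial.C (D : K) := by simp
  rw [h2, MvPolynomial.coeff_C_mul, MvPolynomial.coeff_zero] at h1
  rw [MvPolynomial.coeff_zero]
  have htf := BinomialRing.toIsAddTorsionFree (R := K)
  have h3 : D • MvPolynomial.coeff m y = D • (0 : K) := by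
    rw [nsmul_eq_mul, smul_zero]
    exact h1
  exact (nsmul_right_inj hD).mp h3

end BinomialRing

section Cp

variable {B : Type v} [CommRing B] [LambdaOps B]

/-- the coefficient of `t^i` in `(γ_t(y) - 1)^r` -/
noncomputable def cp (y : B) (r i : ℕ) : B :=
  PowerSeries.coeff i ((GammaBasic.gammaSeries y - 1) ^ r)

theorem coeff_gammaSeries_sub_one (y : B) (a : ℕ) :
    PowerSeries.coeff a (GammaBasic.gammaSeries y - 1) = if a = 0 then 0 else gamma a y := by
  rw [map_sub, GammaBasic.coeff_gammaSeries, PowerSeries.coeff_one]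
  split_ifs with h
  · rw [h, GammaBasic.gamma_zero_apply, sub_self]
  · rw [sub_zero]

theorem cp_zero (y : B) (i : ℕ) : cp y 0 i = if i = 0 then 1 else 0 := by
  rw [cp, pow_zero, PowerSeries.coeff_one]

theorem cp_succ (y : B) (r i : ℕ) :
    cp y (r + 1) i = ∑ a ∈ Finset.range (i + 1), (if a = 0 then 0 else gamma a y) * cp y r (i - a) := by
  rw [cp, pow_succ', PowerSeries.coeff_mul, Finset.Nat.sum_antidiagonal_eq_sum_range_succ_mk]
  apply Finset.sum_congr rfl
  intro a _
  rw [coeff_gammaSeries_sub_one]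
  rfl

theorem cp_eq_zero_of_lt (y : B) {r i : ℕ} (h : i < r) : cp y r i = 0 := by
  induction r generalizing i with
  | zero => omega
  | succ r ih =>
    rw [cp_succ]
    apply Finset.sum_eq_zero
    intro a ha
    rw [Finset.mem_range] at ha
    split_ifs with h0
    · rw [zero_mul]
    · rw [ih (by omega), mul_zero]

theorem cp_mem (Φ : MulFil B) {y : B} (hy : GamOrd Φ y) (r i : ℕ) : cp y r i ∈ Φ.F i := by
  induction r generalizing i with
  | zero =>
    rw [cp_zero]
    split_ifs with h
    · rw [h]; exact Φ.mem_zero _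
    · exact Ideal.zero_mem _
  | succ r ih =>
    rw [cp_succ]
    refine Ideal.sum_mem _ fun a ha => ?_
    rw [Finset.mem_range] at ha
    split_ifs with h0
    · rw [zero_mul]; exact Ideal.zero_mem _
    · have h := Φ.mul (hy a) (ih (i - a))
      have e : a + (i - a) = i := by omega
      rwa [e] at h

theorem gammaSeries_nsmul (y : B) (k : ℕ) :
    GammaBasic.gammaSeries (k • y) = GammaBasic.gammaSeries y ^ k := by
  induction k with
  | zero => rw [zero_smul, GammaBasic.gammaSeries_zero, pow_zero]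
  | succ k ih => rw [succ_nsmul, GammaBasic.gammaSeries_add, ih, pow_succ]

/-- `γ^i(k y) = Σ_r C(k, r) [t^i] (γ_t(y) - 1)^r` for natural numbers `k` -/
theorem gamma_nsmul (y : B) (k i : ℕ) :
    gamma i (k • y) = ∑ r ∈ Finset.range (i + 1), (k.choose r : B) * cp y r i := by
  rw [← GammaBasic.coeff_gammaSeries, gammaSeries_nsmul]
  have h1 : GammaBasic.gammaSeries y ^ k = ((GammaBasic.gammaSeries y - 1) + 1) ^ k := by
    rw [sub_add_cancel]
  rw [h1, add_pow, map_sum]
  have h2 : ∀ r ∈ Finset.range (k + 1), PowerSeries.coeff i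
      ((GammaBasic.gammaSeries y - 1) ^ r * 1 ^ (k - r) * ((k.choose r : ℕ) : PowerSeries B)) =
      (k.choose r : B) * cp y r i := by
    intro r _
    rw [one_pow, mul_one, mul_comm, ← nsmul_eq_mul, map_nsmul, nsmul_eq_mul]
    rfl
  rw [Finset.sum_congr rfl h2]
  have h3 : ∑ r ∈ Finset.range (k + 1), (k.choose r : B) * cp y r i =
      ∑ r ∈ Finset.range (max k i + 1), (k.choose r : B) * cp y r i := by
    apply Finset.sum_subset
    · intro r hr
      rw [Finset.mem_range] at hr ⊢
      have := le_max_left k i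
      omega
    · intro r _ hr
      rw [Finset.mem_range] at hr
      rw [Nat.choose_eq_zero_of_lt (by omega), Nat.cast_zero, zero_mul]
  have h4 : ∑ r ∈ Finset.range (i + 1), (k.choose r : B) * cp y r i =
      ∑ r ∈ Finset.range (max k i + 1), (k.choose r : B) * cp y r i := by
    apply Finset.sum_subset
    · intro r hr
      rw [Finset.mem_range] at hr ⊢
      have := le_max_right k i
      omega
    · intro r _ hr
      rw [Finset.mem_range] at hr
      rw [cp_eq_zero_of_lt y (by omega), mul_zero]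
  rw [h3, h4]

theorem lamSeries_natCast (hB : IsSpecial B) (k : ℕ) :
    lamSeries ((k : ℕ) : B) = (1 + PowerSeries.X) ^ k := by
  have h1 : lamSeries (1 : B) = 1 + PowerSeries.X := by
    have h := (isLineElt_iff (1 : B)).mpr (fun n hn => hB.lam_one_eq_zero n hn)
    unfold IsLineElt at h
    rw [h, map_one, one_mul]
  induction k with
  | zero => rw [Nat.cast_zero, LamBasic.lamSeries_zero, pow_zero]
  | succ k ih => rw [Nat.cast_succ, LamBasic.lamSeries_add, ih, h1, pow_succ]

theorem lam_natCast (hB : IsSpecial B) (k r : ℕ) :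
    LambdaOps.lam r ((k : ℕ) : B) = (k.choose r : B) := by
  rw [← LamBasic.coeff_lamSeries, lamSeries_natCast hB]
  have hright : (1 + PowerSeries.X : PowerSeries B) ^ k =
      (((1 : Polynomial B) + Polynomial.X) ^ k).toPowerSeries := by
    simp
  rw [hright, Polynomial.coeff_coe, Polynomial.coeff_one_add_X_pow]

end Cp

section CpExpr

variable {ι : Type}

/-- the expression for the coefficient of `t^i` in `(γ_t(e) - 1)^r` -/
def cpE : ℕ → ℕ → LExpr ι → LExpr ι
  | 0, i, _ => if i = 0 then LExpr.one else LExpr.zero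
  | r + 1, i, e => LExpr.sumRange
      (fun a => if a = 0 then LExpr.zero else LExpr.mul (LExpr.gam a e) (cpE r (i - a) e)) (i + 1)

theorem eval_cpE {B : Type v} [CommRing B] [LambdaOps B] (v : ι → B) (r i : ℕ) (e : LExpr ι) :
    (cpE r i e).eval v = cp (e.eval v) r i := by
  induction r generalizing i with
  | zero =>
    rw [cpE, cp_zero]
    split_ifs <;> rfl
  | succ r ih =>
    rw [cpE, LExpr.eval_sumRange, cp_succ]
    apply Finset.sum_congr rfl
    intro a _
    split_ifs with h
    · rw [zero_mul]; rfl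
    · rw [LExpr.eval_mul, LExpr.eval_gam, ih]

/-- the expression `γ^i(u v) - Σ_r λ^r(u) [t^i](γ_t(v) - 1)^r` -/
def binE (i : ℕ) : LExpr Bool :=
  LExpr.sub (LExpr.gam i (LExpr.mul (LExpr.var false) (LExpr.var true)))
    (LExpr.sumRange (fun r => LExpr.mul (LExpr.lam r (LExpr.var false)) (cpE r i (LExpr.var true))) (i + 1))

theorem eval_binE {B : Type v} [CommRing B] [LambdaOps B] (v : Bool → B) (i : ℕ) :
    (binE i).eval v = gamma i (v false * v true) -
      ∑ r ∈ Finset.range (i + 1), LambdaOps.lam r (v false) * cp (v true) r i := by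
  rw [binE, LExpr.eval_sub, LExpr.eval_gam, LExpr.eval_mul, LExpr.eval_var, LExpr.eval_var,
    LExpr.eval_sumRange]
  congr 1
  apply Finset.sum_congr rfl
  intro r _
  rw [LExpr.eval_mul, LExpr.eval_lam, LExpr.eval_var, eval_cpE, LExpr.eval_var]

/-- the identity holds when the first variable is a natural number -/
theorem eval_binE_natCast {B : Type v} [CommRing B] [LambdaOps B] (hB : IsSpecial B) (k : ℕ) (y : B)
    (i : ℕ) : (binE i).eval (fun b => if b then y else ((k : ℕ) : B)) = 0 := by
  rw [eval_binE]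
  simp only [Bool.false_eq_true, if_false, if_true]
  rw [← nsmul_eq_mul, gamma_nsmul, sub_eq_zero]
  apply Finset.sum_congr rfl
  intro r _
  rw [lam_natCast hB]

end CpExpr

section TestSum

open MvPolynomial

variable {B : Type v} [CommRing B] [LambdaOps B]

theorem lamSeries_sum {ι : Type*} (s : Finset ι) (f : ι → B) :
    lamSeries (∑ i ∈ s, f i) = ∏ i ∈ s, lamSeries (f i) := by
  classical
  induction s using Finset.induction_on with
  | empty => simp [LamBasic.lamSeries_zero]
  | insert a s ha ih => rw [Finset.sum_insert ha, Finset.prod_insert ha, LamBasic.lamSeries_add, ih]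

/-- in the test ring `λ^n(Σ T_a) = e_n(T)` -/
theorem lam_sum_X (N n : ℕ) :
    LambdaOps.lam n (∑ a : Fin N, (X a : MvPolynomial (Fin N) ℤ)) = esymm (Fin N) ℤ n := by
  classical
  rw [← LamBasic.coeff_lamSeries, lamSeries_sum]
  have h : ∀ a ∈ (Finset.univ : Finset (Fin N)), lamSeries (X a : MvPolynomial (Fin N) ℤ) =
      1 + PowerSeries.C (X a : MvPolynomial (Fin N) ℤ) * PowerSeries.X := fun a _ =>
    isLineElt_X (Fin N) a
  rw [Finset.prod_congr rfl h, coeff_prod_one_add]
  rfl

end TestSum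

section Main

open MvPolynomial

/-- separation of the two groups of coordinates -/
noncomputable def rho : MvPolynomial (Bool × ℕ) ℤ →+* MvPolynomial ℕ (MvPolynomial ℕ ℤ) :=
  MvPolynomial.eval₂Hom (Int.castRingHom _)
    (fun p => if p.1 then C (X p.2) else X p.2)

theorem rho_X_false (j : ℕ) : rho (X (false, j)) = X j := by
  simp [rho]

theorem rho_X_true (j : ℕ) : rho (X (true, j)) = C (X j) := by
  simp [rho]

/-- the identity for natural numbers, as an identity of polynomials -/
theorem eval_rho_polyOf_binE (UP : UnivPolys) (i k : ℕ) :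
    MvPolynomial.eval (fun j : ℕ => (((k.choose (j + 1) : ℕ)) : MvPolynomial ℕ ℤ))
      (rho (polyOf UP (binE i))) = 0 := by
  obtain ⟨Hk, hHk⟩ : ∃ Hk, Hk = MvPolynomial.eval
    (fun j : ℕ => (((k.choose (j + 1) : ℕ)) : MvPolynomial ℕ ℤ)) (rho (polyOf UP (binE i))) := ⟨_, rfl⟩
  rw [← hHk]
  obtain ⟨N, hN⟩ : ∃ N : ℕ, ∀ j ∈ Hk.vars, j < N :=
    ⟨Hk.vars.sup (fun j => j + 1), fun j hj =>
      Nat.lt_of_succ_le (Finset.le_sup (f := fun j : ℕ => j + 1) hj)⟩
  obtain ⟨H', hH'⟩ := MvPolynomial.exists_rename_eq_of_vars_subset_range Hk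
    (fun j : Fin N => (j : ℕ)) Fin.val_injective (by
      intro j hj
      exact ⟨⟨j, hN j hj⟩, rfl⟩)
  obtain ⟨ψ, hψ⟩ : ∃ ψ : MvPolynomial ℕ ℤ →ₐ[ℤ] MvPolynomial (Fin N) ℤ,
      ψ = aeval (fun j : ℕ => esymm (Fin N) ℤ (j + 1)) := ⟨_, rfl⟩
  obtain ⟨vt, hvt⟩ : ∃ vt : Bool → MvPolynomial (Fin N) ℤ,
      vt = fun b => if b then ∑ a : Fin N, (X a : MvPolynomial (Fin N) ℤ)
        else ((k : ℕ) : MvPolynomial (Fin N) ℤ) := ⟨_, rfl⟩
  have hcomp : ψ.toRingHom.comp ((MvPolynomial.eval
      (fun j : ℕ => (((k.choose (j + 1) : ℕ)) : MvPolynomial ℕ ℤ))).comp rho) =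
      (LamUniv2.aevalZ (LExpr.gen vt) : MvPolynomial (Bool × ℕ) ℤ →ₐ[ℤ] MvPolynomial (Fin N) ℤ).toRingHom := by
    apply MvPolynomial.ringHom_ext'
    · exact RingHom.ext_int _ _
    · rintro ⟨b, j⟩
      cases b
      · show ψ (MvPolynomial.eval _ (rho (X (false, j)))) = LamUniv2.aevalZ (LExpr.gen vt) (X (false, j))
        rw [rho_X_false, MvPolynomial.eval_X, map_natCast, LamUniv2.aevalZ_X, hvt]
        show _ = LambdaOps.lam (j + 1) ((k : ℕ) : MvPolynomial (Fin N) ℤ)
        rw [lam_natCast isSpecial_test]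
      · show ψ (MvPolynomial.eval _ (rho (X (true, j)))) = LamUniv2.aevalZ (LExpr.gen vt) (X (true, j))
        rw [rho_X_true, MvPolynomial.eval_C, hψ, aeval_X, LamUniv2.aevalZ_X, hvt]
        show _ = LambdaOps.lam (j + 1) (∑ a : Fin N, (X a : MvPolynomial (Fin N) ℤ))
        rw [lam_sum_X]
  have h1 : ψ Hk = 0 := by
    have h2 := RingHom.congr_fun hcomp (polyOf UP (binE i))
    have h3 : ψ Hk = LamUniv2.aevalZ (LExpr.gen vt) (polyOf UP (binE i)) := by
      rw [hHk]
      exact h2
    rw [h3, LamUniv2.aevalZ_apply, ← eval_eq_aeval UP isSpecial_test, hvt]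
    exact eval_binE_natCast isSpecial_test k _ i
  rw [← hH', hψ, aeval_rename] at h1
  have h4 := LamUniv1.esymm_aeval_injective N H' h1
  rw [← hH', h4, map_zero]

variable {K : Type u} [CommRing K] [LambdaOps K] [BinomialRing K]
  {B : Type v} [CommRing B] [LambdaOps B] [Algebra K B]

/-- **Scalar multiples**: `γ^i(κ y) = Σ_r λ^r(κ) [t^i](γ_t(y) - 1)^r` for `κ` in the binomial ring -/
theorem gamma_algebraMap_mul (UP : UnivPolys) (hKb : IsBinomial K) (hB : IsSpecial B)
    (hLA : IsLambdaAlg K B) (κ : K) (y : B) (i : ℕ) :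
    gamma i (algebraMap K B κ * y) =
      ∑ r ∈ Finset.range (i + 1), algebraMap K B (Ring.choose κ r) * cp y r i := by
  obtain ⟨vB, hvB⟩ : ∃ vB : Bool → B, vB = fun b => if b then y else algebraMap K B κ := ⟨_, rfl⟩
  have hgoal : (binE i).eval vB = 0 := by
    have hprin := bin_principle (R₀ := MvPolynomial ℕ ℤ) (R := MvPolynomial ℕ K)
      (MvPolynomial.map (Int.castRingHom K)) (fun D hD y h => natCast_mul_eq_zero D hD y h)
      (C κ) (fun a => C (Ring.choose κ a)) (by rw [Ring.choose_zero_right, map_one])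
      (fun a => by
        have h := congrArg (C : K → MvPolynomial ℕ K) (choose_succ_rec κ a)
        rw [map_mul, map_mul, map_add, map_sub, map_one, map_natCast] at h
        exact h)
      (fun j : ℕ => j + 1) (rho (polyOf UP (binE i))) (fun k => eval_rho_polyOf_binE UP i k)
    obtain ⟨θ, hθ⟩ : ∃ θ : MvPolynomial ℕ K →+* B,
        θ = MvPolynomial.eval₂Hom (algebraMap K B) (fun j => LambdaOps.lam (j + 1) y) := ⟨_, rfl⟩
    have hcomp : θ.comp ((MvPolynomial.eval₂Hom (MvPolynomial.map (Int.castRingHom K))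
        (fun j : ℕ => (C (Ring.choose κ (j + 1)) : MvPolynomial ℕ K))).comp rho) =
        (aeval (LExpr.gen vB) : MvPolynomial (Bool × ℕ) ℤ →ₐ[ℤ] B).toRingHom := by
      apply MvPolynomial.ringHom_ext'
      · exact RingHom.ext_int _ _
      · rintro ⟨b, j⟩
        cases b
        · show θ (MvPolynomial.eval₂Hom _ _ (rho (X (false, j)))) = aeval (LExpr.gen vB) (X (false, j))
          rw [rho_X_false, MvPolynomial.eval₂Hom_X', hθ, MvPolynomial.eval₂Hom_C, aeval_X, hvB]
          show _ = LambdaOps.lam (j + 1) (algebraMap K B κ)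
          rw [← hLA, hKb]
        · show θ (MvPolynomial.eval₂Hom _ _ (rho (X (true, j)))) = aeval (LExpr.gen vB) (X (true, j))
          rw [rho_X_true, MvPolynomial.eval₂Hom_C, MvPolynomial.map_X, hθ, MvPolynomial.eval₂Hom_X',
            aeval_X, hvB]
          rfl
    have h2 := RingHom.congr_fun hcomp (polyOf UP (binE i))
    rw [eval_eq_aeval UP hB]
    refine h2.symm.trans ?_
    show θ (MvPolynomial.eval₂ _ _ (rho (polyOf UP (binE i)))) = 0
    rw [hprin, map_zero]
  rw [eval_binE, hvB] at hgoal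
  simp only [Bool.false_eq_true, if_false, if_true] at hgoal
  rw [sub_eq_zero] at hgoal
  rw [hgoal]
  apply Finset.sum_congr rfl
  intro r _
  rw [← hLA, hKb]

/-- scalar multiples preserve `GamOrd` -/
theorem gamOrd_algebraMap_mul (UP : UnivPolys) (hKb : IsBinomial K) (hB : IsSpecial B)
    (hLA : IsLambdaAlg K B) (Φ : MulFil B) (κ : K) {y : B} (hy : GamOrd Φ y) :
    GamOrd Φ (algebraMap K B κ * y) := by
  intro i
  rw [gamma_algebraMap_mul UP hKb hB hLA]
  exact Ideal.sum_mem _ fun r _ => Ideal.mul_mem_left _ _ (cp_mem Φ hy r i)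

end Main

end Groth.Agent.Lib.Helper24.LamBin
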