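import Groth.Agent.Lib.Helper24.LamUniv2L

/-!
# Division by `λ_{-1}(N)` (helper24)

For `N` of rank `d + 1` the element `λ_{-1}(N) = Σ (-1)^i λ^i(N)` is `(-1)^{d+1} γ^{d+1}(N - (d+1))`, a
coordinate function in the `γ`-coordinates; an expression vanishing at the test points with `d`
variables in the first group is divisible by this coordinate.
-/

set_option autoImplicit false
set_option linter.unusedSectionVars false
set_option maxHeartbeats 400000
universe u v

namespace Groth.Agent.Lib.Helper24.LamDiv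

open LambdaRing MvPolynomial Groth.Agent.Lib.Helper20 Groth.Agent.Lib.Helper24.LamTest
  Groth.Agent.Lib.Helper24.LamExpr Groth.Agent.Lib.Helper24.LamOrd
  Groth.Agent.Lib.Helper24.LamUniv1 Groth.Agent.Lib.Helper24.SymTwo
  Groth.Agent.Lib.Helper24.LamHom Groth.Agent.Lib.Helper24.LamUniv2
  Groth.Agent.Lib.Helper24.LamBin Groth.Agent.Lib.Helper24.LamUniv2L
  Groth.Agent.Lib.Helper24.LamFil

section Vieta

theorem sum_neg_one_pow_esymm (d : ℕ) :
    ∑ i ∈ Finset.range (d + 1), (-1 : MvPolynomial (Fin d) ℤ) ^ i * esymm (Fin d) ℤ i =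
      ∏ a : Fin d, (1 - X a) := by
  classical
  have h1 : ∏ a : Fin d, (1 - X a : MvPolynomial (Fin d) ℤ) = ∏ a : Fin d, (-X a + 1) := by
    apply Finset.prod_congr rfl
    intro a _
    ring
  rw [h1, Finset.prod_add, Finset.sum_powerset, Finset.card_univ, Fintype.card_fin]
  apply Finset.sum_congr rfl
  intro i _
  rw [esymm, Finset.mul_sum]
  apply Finset.sum_congr rfl
  intro t ht
  rw [Finset.prod_const_one, mul_one, Finset.prod_neg, (Finset.mem_powersetCard.mp ht).2]

theorem gamma_x0_self (d : ℕ) : gamma d (x0 (Fin d)) = ∏ a : Fin d, (X a - 1 : MvPolynomial (Fin d) ℤ) := by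
  rw [gamma_x0]
  have h : (Finset.univ : Finset (Fin d)).powersetCard d = {Finset.univ} := by
    have := Finset.powersetCard_self (Finset.univ : Finset (Fin d))
    rwa [Finset.card_univ, Fintype.card_fin] at this
  rw [h, Finset.sum_singleton]

end Vieta

section Expr

/-- the expression `Σ_{i ≤ d} (-1)^i λ^i(X + d)` -/
def uE (d : ℕ) : LExpr Bool :=
  LExpr.sumRange (fun i => LExpr.mul (LExpr.ofInt ((-1) ^ i))
    (LExpr.lam i (LExpr.add (LExpr.var false) (LExpr.ofNat d)))) (d + 1)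

/-- the expression `(-1)^d γ^d(X)` -/
def uE' (d : ℕ) : LExpr Bool :=
  LExpr.mul (LExpr.ofInt ((-1) ^ d)) (LExpr.gam d (LExpr.var false))

theorem eval_uE {B : Type v} [CommRing B] [LambdaOps B] (d : ℕ) (v : Bool → B) :
    (uE d).eval v = ∑ i ∈ Finset.range (d + 1), (-1 : B) ^ i * LambdaOps.lam i (v false + (d : B)) := by
  rw [uE, LExpr.eval_sumRange]
  apply Finset.sum_congr rfl
  intro i _
  rw [LExpr.eval_mul, LExpr.eval_ofInt, LExpr.eval_lam, LExpr.eval_add, LExpr.eval_var, LExpr.eval_ofNat]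
  push_cast
  rfl

theorem eval_uE' {B : Type v} [CommRing B] [LambdaOps B] (d : ℕ) (v : Bool → B) :
    (uE' d).eval v = (-1 : B) ^ d * gamma d (v false) := by
  rw [uE', LExpr.eval_mul, LExpr.eval_ofInt, LExpr.eval_gam, LExpr.eval_var]
  push_cast
  rfl

theorem eval_uE_testPt (d M : ℕ) : (uE d).eval (testPt d M) = (uE' d).eval (testPt d M) := by
  rw [eval_uE, eval_uE']
  have h1 : testPt d M false + (d : MvPolynomial (Fin d ⊕ Fin M) ℤ) =
      rename Sum.inl (∑ a : Fin d, (X a : MvPolynomial (Fin d) ℤ)) := by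
    show rename Sum.inl (x0 (Fin d)) + _ = _
    rw [x0, Finset.sum_sub_distrib, map_sub, map_sum, map_sum]
    simp
  have h2 : ∀ i ∈ Finset.range (d + 1),
      (-1 : MvPolynomial (Fin d ⊕ Fin M) ℤ) ^ i * LambdaOps.lam i (testPt d M false + (d : MvPolynomial (Fin d ⊕ Fin M) ℤ)) =
      rename Sum.inl ((-1 : MvPolynomial (Fin d) ℤ) ^ i * esymm (Fin d) ℤ i) := by
    intro i _
    rw [h1, ← lam_rename, lam_sum_X, map_mul, map_pow, map_neg, map_one]
  rw [Finset.sum_congr rfl h2, ← map_sum, sum_neg_one_pow_esymm]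
  show _ = (-1 : MvPolynomial (Fin d ⊕ Fin M) ℤ) ^ d * gamma d (rename Sum.inl (x0 (Fin d)))
  rw [← gamma_rename, gamma_x0_self]
  have h4 : (-1 : MvPolynomial (Fin d ⊕ Fin M) ℤ) ^ d =
      rename Sum.inl ((-1 : MvPolynomial (Fin d) ℤ) ^ d) := by
    rw [map_pow, map_neg, map_one]
  rw [h4, ← map_mul]
  congr 1
  have h3 : ∏ a : Fin d, (1 - X a : MvPolynomial (Fin d) ℤ) = ∏ a : Fin d, -(X a - 1) := by
    apply Finset.prod_congr rfl
    intro a _
    ring
  rw [h3, Finset.prod_neg, Finset.card_univ, Fintype.card_fin]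

end Expr

section Transfer

variable {B : Type v} [CommRing B] [LambdaOps B]

/-- transfer of identities under truncation of the `γ`-operations -/
theorem eval_eq_of_test (UP : UnivPolys) (hB : IsSpecial B) (e e' : LExpr Bool) (N1 N2 : ℕ)
    (h : e.eval (testPt N1 N2) = e'.eval (testPt N1 N2)) (y : Bool → B)
    (h1 : (bound UP e ≤ N1 ∧ bound UP e' ≤ N1) ∨ ∀ k, N1 < k → gamma k (y false) = 0)
    (h2 : (bound UP e ≤ N2 ∧ bound UP e' ≤ N2) ∨ ∀ k, N2 < k → gamma k (y true) = 0) :
    e.eval y = e'.eval y := by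
  rw [eval_eq_aeval_reprPoly UP hB e N1 N2 y (h1.imp (fun h => h.1) id) (h2.imp (fun h => h.1) id),
    eval_eq_aeval_reprPoly UP hB e' N1 N2 y (h1.imp (fun h => h.2) id) (h2.imp (fun h => h.2) id),
    reprPoly_eq_of_eval_eq N1 N2 UP e e' h]

/-- `λ_{-1}(N) = (-1)^d γ^d(N - d)` for `N` of `λ`-rank `≤ d` -/
theorem lamNegOne_eq (UP : UnivPolys) (hB : IsSpecial B) (d : ℕ) (N : B)
    (hN : ∀ i : ℕ, d < i → LambdaOps.lam i N = 0) :
    ∑ i ∈ Finset.range (d + 1), (-1 : B) ^ i * LambdaOps.lam i N =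
      (-1 : B) ^ d * gamma d (N - (d : B)) := by
  obtain ⟨v, hv⟩ : ∃ v : Bool → B, v = fun b => if b then 0 else N - (d : B) := ⟨_, rfl⟩
  have hv0 : v false = N - (d : B) := by rw [hv]; rfl
  have hv1 : v true = 0 := by rw [hv]; rfl
  have h := eval_eq_of_test UP hB (uE d) (uE' d) d 0 (eval_uE_testPt d 0) v
    (Or.inr (by rw [hv0]; exact gamma_sub_natCast_eq_zero UP hB d N hN))
    (Or.inr (by
      intro k hk
      rw [hv1]
      exact GammaBasic.gamma_apply_zero k hk))
  rw [eval_uE, eval_uE', hv0, sub_add_cancel] at h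
  exact h

end Transfer

section Kill

variable (d M : ℕ)

/-- killing the last coordinate of the first group -/
noncomputable def kill : MvPolynomial (Fin (d + 1) ⊕ Fin M) ℤ →ₐ[ℤ] MvPolynomial (Fin d ⊕ Fin M) ℤ :=
  aeval (Sum.elim
    (fun j : Fin (d + 1) => if h : (j : ℕ) < d then (X (Sum.inl ⟨j, h⟩) : MvPolynomial (Fin d ⊕ Fin M) ℤ) else 0)
    (fun j : Fin M => (X (Sum.inr j) : MvPolynomial (Fin d ⊕ Fin M) ℤ)))

theorem kill_trunc (M0 : ℕ) (q : MvPolynomial (Fin M0 ⊕ Fin M0) ℤ) :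
    kill d M (trunc M0 (d + 1) M q) = trunc M0 d M q := by
  have h : (kill d M).comp (trunc M0 (d + 1) M) = trunc M0 d M := by
    apply MvPolynomial.algHom_ext
    rintro (j | j)
    · simp only [AlgHom.comp_apply, trunc, aeval_X, Sum.elim_inl]
      by_cases h1 : (j : ℕ) < d
      · rw [dif_pos (show (j : ℕ) < d + 1 by omega), dif_pos h1, kill, aeval_X, Sum.elim_inl,
          dif_pos (show ((⟨j, (show (j : ℕ) < d + 1 by omega)⟩ : Fin (d + 1)) : ℕ) < d from h1)]
      · rw [dif_neg h1]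
        by_cases h2 : (j : ℕ) < d + 1
        · rw [dif_pos h2, kill, aeval_X, Sum.elim_inl, dif_neg (show ¬ ((⟨j, h2⟩ : Fin (d + 1)) : ℕ) < d from h1)]
        · rw [dif_neg h2, map_zero]
    · simp only [AlgHom.comp_apply, trunc, aeval_X, Sum.elim_inr]
      by_cases h1 : (j : ℕ) < M
      · rw [dif_pos h1, dif_pos h1, kill, aeval_X, Sum.elim_inr]
      · rw [dif_neg h1, dif_neg h1, map_zero]
  exact AlgHom.congr_fun h q

theorem kill_reprPoly (UP : UnivPolys) (e : LExpr Bool) :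
    kill d M (reprPoly UP e (d + 1) M) = reprPoly UP e d M :=
  kill_trunc d M _ _

/-- the embedding of the coordinates -/
def embι : Fin d ⊕ Fin M → Fin (d + 1) ⊕ Fin M := Sum.map Fin.castSucc id

theorem sub_rename_kill_mem (q : MvPolynomial (Fin (d + 1) ⊕ Fin M) ℤ) :
    q - rename (embι d M) (kill d M q) ∈
      Ideal.span {(X (Sum.inl (Fin.last d)) : MvPolynomial (Fin (d + 1) ⊕ Fin M) ℤ)} := by
  induction q using MvPolynomial.induction_on with
  | C a =>
    rw [kill, aeval_C, algebraMap_eq, rename_C, sub_self]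
    exact Ideal.zero_mem _
  | add p q hp hq =>
    rw [map_add, map_add]
    have e : p + q - (rename (embι d M) (kill d M p) + rename (embι d M) (kill d M q)) =
        (p - rename (embι d M) (kill d M p)) + (q - rename (embι d M) (kill d M q)) := by ring
    rw [e]
    exact Ideal.add_mem _ hp hq
  | mul_X p s hp =>
    rw [map_mul, map_mul]
    rcases s with j | j
    · by_cases hj : (j : ℕ) < d
      · have h1 : rename (embι d M) (kill d M (X (Sum.inl j))) = X (Sum.inl j) := by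
          rw [kill, aeval_X, Sum.elim_inl, dif_pos hj, rename_X]
          rfl
        rw [h1, ← sub_mul]
        exact Ideal.mul_mem_right _ _ hp
      · have h1 : kill d M (X (Sum.inl j)) = 0 := by
          rw [kill, aeval_X, Sum.elim_inl, dif_neg hj]
        have h2 : j = Fin.last d := by
          apply Fin.ext
          have := j.2
          simp only [Fin.val_last]
          omega
        rw [h1, map_zero, mul_zero, sub_zero, h2]
        exact Ideal.mul_mem_left _ _ (Ideal.subset_span rfl)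
    · have h1 : rename (embι d M) (kill d M (X (Sum.inr j))) = X (Sum.inr j) := by
        rw [kill, aeval_X, Sum.elim_inr, rename_X]
        rfl
      rw [h1, ← sub_mul]
      exact Ideal.mul_mem_right _ _ hp

theorem dvd_of_kill_eq_zero (q : MvPolynomial (Fin (d + 1) ⊕ Fin M) ℤ) (h : kill d M q = 0) :
    (X (Sum.inl (Fin.last d)) : MvPolynomial (Fin (d + 1) ⊕ Fin M) ℤ) ∣ q := by
  have h1 := sub_rename_kill_mem d M q
  rw [h, map_zero, sub_zero] at h1
  exact Ideal.mem_span_singleton.mp h1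

theorem weight_of_X_mul {σ : Type*} (wt : σ → ℕ) (i : σ) (G : MvPolynomial σ ℤ) (w : ℕ)
    (h : ∀ m ∈ (X i * G).support, w ≤ Finsupp.weight wt m) :
    ∀ m ∈ G.support, w - wt i ≤ Finsupp.weight wt m := by
  intro m hm
  have h1 : Finsupp.single i 1 + m ∈ (X i * G).support := by
    rw [MvPolynomial.mem_support_iff, coeff_X_mul]
    exact MvPolynomial.mem_support_iff.mp hm
  have h2 := h _ h1
  rw [map_add, Finsupp.weight_single, one_smul] at h2
  omega

/-- **Division lemma.** -/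
theorem exists_eq_X_mul (UP : UnivPolys) (e : LExpr Bool) (h : e.eval (testPt d M) = 0) :
    ∃ G : MvPolynomial (Fin (d + 1) ⊕ Fin M) ℤ,
      reprPoly UP e (d + 1) M = X (Sum.inl (Fin.last d)) * G := by
  apply dvd_of_kill_eq_zero
  rw [kill_reprPoly]
  apply Phi2_injective
  rw [← tau_eval_testPt, h, map_zero, map_zero]

end Kill

section Dvd

variable {B : Type v} [CommRing B] [LambdaOps B]

/-- evaluation of a polynomial divisible by the top `γ`-coordinate -/
theorem aevalZ_gam2_X_mul (d M : ℕ) (v : Bool → B) (G : MvPolynomial (Fin (d + 1) ⊕ Fin M) ℤ) :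
    aevalZ (gam2 (d + 1) M v) (X (Sum.inl (Fin.last d)) * G) =
      gamma (d + 1) (v false) * aevalZ (gam2 (d + 1) M v) G := by
  rw [map_mul, aevalZ_X]
  rfl

/-- the expression `λ^p(Y · (-1)^d γ^d(X))` -/
def dvdE (p d : ℕ) : LExpr Bool := LExpr.lam p (LExpr.mul (LExpr.var true) (uE' d))

theorem eval_dvdE {C : Type*} [CommRing C] [LambdaOps C] (p d : ℕ) (w : Bool → C) :
    (dvdE p d).eval w = LambdaOps.lam p (w true * ((-1 : C) ^ d * gamma d (w false))) := by
  rw [dvdE, LExpr.eval_lam, LExpr.eval_mul, LExpr.eval_var, eval_uE']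

/-- **S8691**: `λ_{-1}(N)` divides `λ^p(x λ_{-1}(N))` -/
theorem lamAlt_dvd (UP : UnivPolys) (hB : IsSpecial B) (d : ℕ) (N : B)
    (hN : ∀ i : ℕ, d < i → LambdaOps.lam i N = 0) (p : ℕ) (hp : 1 ≤ p) (x : B) :
    (∑ i ∈ Finset.range (d + 1), (-1 : B) ^ i * LambdaOps.lam i N) ∣
      LambdaOps.lam p (x * ∑ i ∈ Finset.range (d + 1), (-1 : B) ^ i * LambdaOps.lam i N) := by
  rw [lamNegOne_eq UP hB d N hN]
  rcases d with _ | d
  · rw [pow_zero, one_mul, GammaBasic.gamma_zero_apply]
    exact one_dvd _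
  · obtain ⟨v, hv⟩ : ∃ v : Bool → B, v = fun b => if b then x else N - ((d + 1 : ℕ) : B) := ⟨_, rfl⟩
    have hv0 : v false = N - ((d + 1 : ℕ) : B) := by rw [hv]; rfl
    have hv1 : v true = x := by rw [hv]; rfl
    obtain ⟨E, hE⟩ : ∃ E : LExpr Bool, E = dvdE p (d + 1) := ⟨_, rfl⟩
    have h0 : E.eval (testPt d (bound UP E)) = 0 := by
      rw [hE, eval_dvdE, ← hE, gamma_testPt_false_eq_zero d (bound UP E) (d + 1) (Nat.lt_succ_self d), mul_zero, mul_zero]
      exact GammaBasic.lam_apply_zero p hp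
    obtain ⟨G, hG⟩ := exists_eq_X_mul d (bound UP E) UP E h0
    have h1 := eval_eq_aeval_reprPoly UP hB E (d + 1) (bound UP E) v
      (Or.inr (by rw [hv0]; exact gamma_sub_natCast_eq_zero UP hB (d + 1) N hN))
      (Or.inl le_rfl)
    rw [hG, aevalZ_gam2_X_mul] at h1
    have h2 : E.eval v = LambdaOps.lam p (x * ((-1 : B) ^ (d + 1) * gamma (d + 1) (N - ((d + 1 : ℕ) : B)))) := by
      rw [hE, eval_dvdE, hv0, hv1]
    rw [← h2, h1, hv0]
    refine Dvd.dvd.mul_right ?_ _
    refine ⟨(-1 : B) ^ (d + 1), ?_⟩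
    rw [mul_comm ((-1 : B) ^ (d + 1)) (gamma _ _), mul_assoc, ← pow_add, Even.neg_one_pow ⟨d + 1, rfl⟩, mul_one]

end Dvd

end Groth.Agent.Lib.Helper24.LamDiv
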