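import Groth.Agent.Lib.Helper24.LamTest

/-!
# λ-expressions and their universal polynomials (helper24)

Every expression built from variables, `0`, `1`, `+`, `-`, `*` and the `λ^k` is given, in every
special λ-ring, by one and the same integer polynomial in the `λ^j` of the variables.
-/

set_option autoImplicit false
set_option linter.unusedSectionVars false
universe u v

namespace Groth.Agent.Lib.Helper24.LamExpr

open LambdaRing MvPolynomial Groth.Agent.Lib.Helper20

/-- a choice of universal polynomials -/
structure UnivPolys where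
  P : ∀ n : ℕ, MvPolynomial (Fin n ⊕ Fin n) ℤ
  hP : ∀ n, IsMulPoly n (P n)
  Q : ∀ i j : ℕ, MvPolynomial (Fin (i * j)) ℤ
  hQ : ∀ i j, IsCompPoly i j (Q i j)

/-- universal polynomials from their existence -/
noncomputable def UnivPolys.ofExists
    (hP : ∀ n : ℕ, ∃ P : MvPolynomial (Fin n ⊕ Fin n) ℤ, IsMulPoly n P)
    (hQ : ∀ i j : ℕ, ∃ Q : MvPolynomial (Fin (i * j)) ℤ, IsCompPoly i j Q) : UnivPolys where
  P n := (hP n).choose
  hP n := (hP n).choose_spec
  Q i j := (hQ i j).choose
  hQ i j := (hQ i j).choose_spec

/-- the universal polynomials exist (helper20's S8684, S8685) -/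
noncomputable def UnivPolys.default : UnivPolys :=
  UnivPolys.ofExists Groth.Agent.S8684.result Groth.Agent.S8685.result

/-- λ-expressions in variables indexed by `ι` -/
inductive LExpr (ι : Type) : Type
  | var : ι → LExpr ι
  | zero : LExpr ι
  | one : LExpr ι
  | add : LExpr ι → LExpr ι → LExpr ι
  | neg : LExpr ι → LExpr ι
  | mul : LExpr ι → LExpr ι → LExpr ι
  | lam : ℕ → LExpr ι → LExpr ι

namespace LExpr

variable {ι : Type}

/-- evaluation of an expression in a pre-λ-ring -/
def eval {B : Type v} [CommRing B] [LambdaOps B] (y : ι → B) : LExpr ι → B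
  | var s => y s
  | zero => 0
  | one => 1
  | add e f => eval y e + eval y f
  | neg e => - eval y e
  | mul e f => eval y e * eval y f
  | lam k e => LambdaOps.lam k (eval y e)

/-- the universal polynomial of `λ^k(e)` in the variables `(s, j) ↔ λ^{j+1}(y_s)` -/
noncomputable def lamOf (UP : UnivPolys) : LExpr ι → ℕ → MvPolynomial (ι × ℕ) ℤ
  | var s, k => if k = 0 then 1 else X (s, k - 1)
  | zero, k => if k = 0 then 1 else 0
  | one, k => if k ≤ 1 then 1 else 0
  | add e f, k => ∑ i ∈ Finset.range (k + 1), lamOf UP e i * lamOf UP f (k - i)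
  | neg e, k => if k = 0 then 1 else PowerSeries.coeff k ((PowerSeries.mk (lamOf UP e)).invOfUnit 1)
  | mul e f, k => if k = 0 then 1 else
      aeval (Sum.elim (fun i : Fin k => lamOf UP e ((i : ℕ) + 1)) (fun i : Fin k => lamOf UP f ((i : ℕ) + 1)))
        (UP.P k)
  | lam i e, k => if k = 0 then 1 else
      aeval (fun j : Fin (i * k) => lamOf UP e ((j : ℕ) + 1)) (UP.Q i k)

theorem lamOf_zero (UP : UnivPolys) (e : LExpr ι) : lamOf UP e 0 = 1 := by
  induction e with
  | var s => simp [lamOf]
  | zero => simp [lamOf]
  | one => simp [lamOf]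
  | add e f he hf => simp [lamOf, he, hf]
  | neg e _ => simp [lamOf]
  | mul e f _ _ => simp [lamOf]
  | lam i e _ => simp [lamOf]

/-- the generators `λ^{j+1}(y_s)` -/
def gen {B : Type v} [CommRing B] [LambdaOps B] (y : ι → B) : ι × ℕ → B :=
  fun p => LambdaOps.lam (p.2 + 1) (y p.1)

end LExpr

section PSeries

variable {R : Type u} {S : Type v} [CommRing R] [CommRing S]

theorem map_invOfUnit_one (φ : R →+* S) (F : PowerSeries R) (hF : PowerSeries.constantCoeff F = 1) :
    PowerSeries.map φ (F.invOfUnit 1) = (PowerSeries.map φ F).invOfUnit 1 := by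
  symm
  apply LamBasic.invOfUnit_eq_of_mul_eq_one
  · rw [← PowerSeries.coeff_zero_eq_constantCoeff_apply, PowerSeries.coeff_map,
      PowerSeries.coeff_zero_eq_constantCoeff_apply, hF, map_one]
  · rw [← map_mul, PowerSeries.mul_invOfUnit _ _ (by rw [hF]; rfl), map_one]

end PSeries

section Main

variable {ι : Type} {B : Type v} [CommRing B] [LambdaOps B]

open LExpr

theorem lamSeries_neg (x : B) : lamSeries (-x) = (lamSeries x).invOfUnit 1 := by
  symm
  apply LamBasic.invOfUnit_eq_of_mul_eq_one _ _ (LamBasic.constantCoeff_lamSeries x)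
  rw [← LamBasic.lamSeries_add, add_neg_cancel, LamBasic.lamSeries_zero]

/-- **Universal polynomials**: in a special λ-ring, `λ^k` of the value of an expression is the value
of its universal polynomial. -/
theorem lam_eval (UP : UnivPolys) (hB : IsSpecial B) (y : ι → B) (e : LExpr ι) :
    ∀ k : ℕ, LambdaOps.lam k (e.eval y) = aeval (gen y) (lamOf UP e k) := by
  induction e with
  | var s =>
    intro k
    rcases Nat.eq_zero_or_pos k with rfl | hk
    · simp [lamOf, LExpr.eval, LambdaOps.lam_zero]
    · simp only [lamOf, LExpr.eval, if_neg hk.ne', aeval_X, gen]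
      rw [Nat.sub_add_cancel hk]
  | zero =>
    intro k
    rcases Nat.eq_zero_or_pos k with rfl | hk
    · simp [lamOf, LExpr.eval, LambdaOps.lam_zero]
    · simp only [lamOf, LExpr.eval, if_neg hk.ne', map_zero]
      exact GammaBasic.lam_apply_zero k hk
  | one =>
    intro k
    rcases k with _ | _ | k
    · simp [lamOf, LExpr.eval, LambdaOps.lam_zero]
    · simp [lamOf, LExpr.eval, LambdaOps.lam_one]
    · simp only [lamOf, LExpr.eval]
      rw [if_neg (by omega), map_zero]
      exact hB.lam_one_eq_zero (k + 2) (by omega)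
  | add e f he hf =>
    intro k
    simp only [lamOf, LExpr.eval]
    rw [LambdaOps.lam_add, map_sum]
    apply Finset.sum_congr rfl
    intro i _
    rw [map_mul, he, hf]
  | neg e he =>
    intro k
    rcases Nat.eq_zero_or_pos k with rfl | hk
    · simp [lamOf, LExpr.eval, LambdaOps.lam_zero]
    · simp only [lamOf, LExpr.eval, if_neg hk.ne']
      have h1 : PowerSeries.map (aeval (gen y) : MvPolynomial (ι × ℕ) ℤ →ₐ[ℤ] B).toRingHom
          (PowerSeries.mk (lamOf UP e)) = lamSeries (e.eval y) := by
        apply PowerSeries.ext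
        intro n
        rw [PowerSeries.coeff_map, PowerSeries.coeff_mk, LamBasic.coeff_lamSeries, he]
        rfl
      have h2 := map_invOfUnit_one (aeval (gen y) : MvPolynomial (ι × ℕ) ℤ →ₐ[ℤ] B).toRingHom
        (PowerSeries.mk (lamOf UP e)) (by
          rw [← PowerSeries.coeff_zero_eq_constantCoeff_apply, PowerSeries.coeff_mk, lamOf_zero])
      rw [h1, ← lamSeries_neg] at h2
      have h3 := congrArg (PowerSeries.coeff k) h2
      rw [PowerSeries.coeff_map, LamBasic.coeff_lamSeries] at h3
      exact h3.symm
  | mul e f he hf =>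
    intro k
    rcases Nat.eq_zero_or_pos k with rfl | hk
    · simp [lamOf, LExpr.eval, LambdaOps.lam_zero]
    · simp only [lamOf, LExpr.eval, if_neg hk.ne']
      rw [hB.lam_mul k (UP.P k) (UP.hP k)]
      have h := aeval_bind₁ (gen y)
        (Sum.elim (fun i : Fin k => lamOf UP e ((i : ℕ) + 1)) (fun i : Fin k => lamOf UP f ((i : ℕ) + 1)))
        (UP.P k)
      refine Eq.trans ?_ h.symm
      refine congrArg (fun g => aeval g (UP.P k)) (funext fun i => ?_)
      rcases i with i | i
      · exact he _
      · exact hf _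
  | lam i e he =>
    intro k
    rcases Nat.eq_zero_or_pos k with rfl | hk
    · simp [lamOf, LExpr.eval, LambdaOps.lam_zero]
    · simp only [lamOf, LExpr.eval, if_neg hk.ne']
      rw [hB.lam_lam i k (UP.Q i k) (UP.hQ i k)]
      have h := aeval_bind₁ (gen y) (fun j : Fin (i * k) => lamOf UP e ((j : ℕ) + 1)) (UP.Q i k)
      refine Eq.trans ?_ h.symm
      refine congrArg (fun g => aeval g (UP.Q i k)) (funext fun j => ?_)
      exact he _

/-- the universal polynomial of an expression -/
noncomputable def polyOf (UP : UnivPolys) (e : LExpr ι) : MvPolynomial (ι × ℕ) ℤ := lamOf UP e 1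

theorem eval_eq_aeval (UP : UnivPolys) (hB : IsSpecial B) (y : ι → B) (e : LExpr ι) :
    e.eval y = aeval (gen y) (polyOf UP e) := by
  rw [polyOf, ← lam_eval UP hB y e 1, LambdaOps.lam_one]

end Main

/-! ### Derived expression constructors -/

namespace LExpr

variable {ι : Type}

/-- natural number constants -/
def ofNat : ℕ → LExpr ι
  | 0 => zero
  | n + 1 => add (ofNat n) one

/-- integer constants -/
def ofInt : ℤ → LExpr ι
  | Int.ofNat n => ofNat n
  | Int.negSucc n => neg (ofNat (n + 1))

/-- difference -/
def sub (e f : LExpr ι) : LExpr ι := add e (neg f)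

/-- `Σ_{j < n} f j` -/
def sumRange (f : ℕ → LExpr ι) : ℕ → LExpr ι
  | 0 => zero
  | n + 1 => add (sumRange f n) (f n)

/-- powers -/
def pow (e : LExpr ι) : ℕ → LExpr ι
  | 0 => one
  | n + 1 => mul (pow e n) e

/-- `γ^k` of an expression -/
def gam (k : ℕ) (e : LExpr ι) : LExpr ι :=
  if k = 0 then one else
    sumRange (fun j => mul (ofNat (Nat.choose (k - 1) (j - 1))) (if j = 0 then zero else lam j e)) (k + 1)

variable {B : Type v} [CommRing B] [LambdaOps B] (y : ι → B)

@[simp] theorem eval_var (s : ι) : (var s : LExpr ι).eval y = y s := rfl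
@[simp] theorem eval_zero : (zero : LExpr ι).eval y = 0 := rfl
@[simp] theorem eval_one : (one : LExpr ι).eval y = 1 := rfl
@[simp] theorem eval_add (e f : LExpr ι) : (add e f).eval y = e.eval y + f.eval y := rfl
@[simp] theorem eval_neg (e : LExpr ι) : (neg e).eval y = - e.eval y := rfl
@[simp] theorem eval_mul (e f : LExpr ι) : (mul e f).eval y = e.eval y * f.eval y := rfl
@[simp] theorem eval_lam (k : ℕ) (e : LExpr ι) :
    (lam k e).eval y = LambdaOps.lam k (e.eval y) := rfl

@[simp] theorem eval_ofNat (n : ℕ) : (ofNat n : LExpr ι).eval y = (n : B) := by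
  induction n with
  | zero => simp [ofNat]
  | succ n ih => simp [ofNat, ih]

@[simp] theorem eval_ofInt (n : ℤ) : (ofInt n : LExpr ι).eval y = (n : B) := by
  cases n with
  | ofNat n => simp [ofInt]
  | negSucc n => simp [ofInt, Int.negSucc_eq]

@[simp] theorem eval_sub (e f : LExpr ι) : (sub e f).eval y = e.eval y - f.eval y := by
  simp [sub, sub_eq_add_neg]

@[simp] theorem eval_sumRange (f : ℕ → LExpr ι) (n : ℕ) :
    (sumRange f n).eval y = ∑ j ∈ Finset.range n, (f j).eval y := by
  induction n with
  | zero => simp [sumRange]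
  | succ n ih => simp [sumRange, ih, Finset.sum_range_succ]

@[simp] theorem eval_pow (e : LExpr ι) (n : ℕ) : (pow e n).eval y = e.eval y ^ n := by
  induction n with
  | zero => simp [pow]
  | succ n ih => simp [pow, ih, pow_succ]

@[simp] theorem eval_gam (k : ℕ) (e : LExpr ι) : (gam k e).eval y = gamma k (e.eval y) := by
  unfold gam gamma
  split_ifs with h
  · rfl
  · rw [eval_sumRange]
    apply Finset.sum_congr rfl
    intro j _
    split_ifs with hj <;> simp

/-- product of a list of expressions -/
def prodList : List (LExpr ι) → LExpr ι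
  | [] => one
  | e :: l => mul e (prodList l)

/-- sum of a list of expressions -/
def sumList : List (LExpr ι) → LExpr ι
  | [] => zero
  | e :: l => add e (sumList l)

@[simp] theorem eval_prodList (l : List (LExpr ι)) :
    (prodList l).eval y = (l.map fun e => e.eval y).prod := by
  induction l with
  | nil => simp [prodList]
  | cons e l ih => simp [prodList, ih]

@[simp] theorem eval_sumList (l : List (LExpr ι)) :
    (sumList l).eval y = (l.map fun e => e.eval y).sum := by
  induction l with
  | nil => simp [sumList]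
  | cons e l ih => simp [sumList, ih]

/-- product over `Fin n` -/
def prodFin (n : ℕ) (f : Fin n → LExpr ι) : LExpr ι := prodList (List.ofFn f)

@[simp] theorem eval_prodFin (n : ℕ) (f : Fin n → LExpr ι) :
    (prodFin n f).eval y = ∏ j : Fin n, (f j).eval y := by
  rw [prodFin, eval_prodList, List.map_ofFn, List.prod_ofFn]
  rfl

end LExpr

end Groth.Agent.Lib.Helper24.LamExpr
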