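import Groth.Agent.Lib.Helper24.LamUniv1

/-!
# Multiplicative filtrations and the γ-filtration (helper24)
-/

set_option autoImplicit false
set_option linter.unusedSectionVars false
universe u v

namespace Groth.Agent.Lib.Helper24.LamFil

open LambdaRing MvPolynomial Groth.Agent.Lib.Helper20

/-- a multiplicative decreasing filtration by ideals -/
structure MulFil (A : Type v) [CommRing A] where
  F : ℕ → Ideal A
  zero : F 0 = ⊤
  anti : ∀ {a b : ℕ}, a ≤ b → F b ≤ F a
  mul : ∀ {a b : ℕ} {y z : A}, y ∈ F a → z ∈ F b → y * z ∈ F (a + b)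

namespace MulFil

variable {A : Type v} [CommRing A] (Φ : MulFil A)

theorem mem_zero (y : A) : y ∈ Φ.F 0 := by rw [Φ.zero]; trivial

theorem pow_mem {a : ℕ} {y : A} (hy : y ∈ Φ.F a) (n : ℕ) : y ^ n ∈ Φ.F (n * a) := by
  induction n with
  | zero =>
    rw [zero_mul]
    exact Φ.mem_zero _
  | succ n ih =>
    rw [pow_succ, Nat.succ_mul]
    exact Φ.mul ih hy

theorem finsupp_prod_mem {σ : Type*} (f : σ → A) (wt : σ → ℕ) (hf : ∀ i, f i ∈ Φ.F (wt i))
    (d : σ →₀ ℕ) : d.prod (fun i k => f i ^ k) ∈ Φ.F (Finsupp.weight wt d) := by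
  induction d using Finsupp.induction_linear with
  | zero =>
    rw [map_zero]
    exact Φ.mem_zero _
  | add d1 d2 h1 h2 =>
    rw [Finsupp.prod_add_index' (fun _ => pow_zero _) (fun _ _ _ => pow_add _ _ _), map_add]
    exact Φ.mul h1 h2
  | single i k =>
    rw [Finsupp.prod_single_index (h := fun i k => f i ^ k) (pow_zero _), Finsupp.weight_single,
      smul_eq_mul]
    exact Φ.pow_mem (hf i) k

theorem finset_prod_mem {ι : Type*} (s : Finset ι) (y : ι → A) (a : ι → ℕ)
    (h : ∀ i ∈ s, y i ∈ Φ.F (a i)) : ∏ i ∈ s, y i ∈ Φ.F (∑ i ∈ s, a i) := by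
  classical
  induction s using Finset.induction_on with
  | empty =>
    rw [Finset.prod_empty, Finset.sum_empty]
    exact Φ.mem_zero _
  | insert b s hb ih =>
    rw [Finset.prod_insert hb, Finset.sum_insert hb]
    exact Φ.mul (h b (Finset.mem_insert_self b s)) (ih fun i hi => h i (Finset.mem_insert_of_mem hi))

theorem list_prod_mem {α : Type*} (l : List α) (f : α → A) (a : α → ℕ)
    (h : ∀ p ∈ l, f p ∈ Φ.F (a p)) : (l.map f).prod ∈ Φ.F (l.map a).sum := by
  induction l with
  | nil =>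
    simp only [List.map_nil, List.prod_nil, List.sum_nil]
    exact Φ.mem_zero _
  | cons p l ih =>
    simp only [List.map_cons, List.prod_cons, List.sum_cons]
    exact Φ.mul (h p List.mem_cons_self) (ih fun q hq => h q (List.mem_cons_of_mem _ hq))

/-- a polynomial all of whose monomials have weight `≥ w`, evaluated at elements of the
prescribed filtration levels, lies in level `w` -/
theorem aeval_mem {σ : Type*} (f : σ → A) (wt : σ → ℕ) (hf : ∀ i, f i ∈ Φ.F (wt i))
    (q : MvPolynomial σ ℤ) (w : ℕ) (hq : ∀ d ∈ q.support, w ≤ Finsupp.weight wt d) :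
    aeval f q ∈ Φ.F w := by
  rw [q.as_sum, map_sum]
  refine Ideal.sum_mem _ fun d hd => ?_
  rw [aeval_monomial]
  exact Ideal.mul_mem_left _ _ (Φ.anti (hq d hd) (Φ.finsupp_prod_mem f wt hf d))

end MulFil

section WGE

variable {σ : Type v}

/-- polynomials all of whose monomials have `wt`-weight at least `w` -/
def wGE (wt : σ → ℕ) (w : ℕ) : Ideal (MvPolynomial σ ℤ) where
  carrier := {g | ∀ m ∈ g.support, w ≤ Finsupp.weight wt m}
  zero_mem' := by simp
  add_mem' := by
    classical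
    intro a b ha hb m hm
    rcases Finset.mem_union.mp (MvPolynomial.support_add hm) with h | h
    · exact ha m h
    · exact hb m h
  smul_mem' := by
    classical
    intro c g hg m hm
    rw [smul_eq_mul] at hm
    have h := MvPolynomial.support_mul c g hm
    obtain ⟨m₁, _, m₂, hm₂, rfl⟩ := Finset.mem_add.mp h
    rw [map_add]
    exact le_trans (hg m₂ hm₂) (Nat.le_add_left _ _)

variable (wt : σ → ℕ)

theorem mem_wGE {w : ℕ} {g : MvPolynomial σ ℤ} :
    g ∈ wGE wt w ↔ ∀ m ∈ g.support, w ≤ Finsupp.weight wt m := Iff.rfl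

theorem wGE_zero : wGE wt 0 = ⊤ := by
  rw [eq_top_iff]
  intro g _ m _
  exact Nat.zero_le _

theorem wGE_antitone {a b : ℕ} (h : a ≤ b) : wGE wt b ≤ wGE wt a := by
  intro g hg m hm
  exact le_trans h (hg m hm)

theorem mul_mem_wGE {a b : ℕ} {f g : MvPolynomial σ ℤ} (hf : f ∈ wGE wt a) (hg : g ∈ wGE wt b) :
    f * g ∈ wGE wt (a + b) := by
  classical
  intro m hm
  have h := MvPolynomial.support_mul f g hm
  obtain ⟨m₁, hm₁, m₂, hm₂, rfl⟩ := Finset.mem_add.mp h
  rw [map_add]
  exact Nat.add_le_add (hf m₁ hm₁) (hg m₂ hm₂)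

theorem monomial_mem_wGE (m : σ →₀ ℕ) (c : ℤ) : monomial m c ∈ wGE wt (Finsupp.weight wt m) := by
  classical
  intro m' hm'
  have h := MvPolynomial.support_monomial_subset hm'
  rw [Finset.mem_singleton] at h
  rw [h]

theorem X_mem_wGE (a : σ) : (X a : MvPolynomial σ ℤ) ∈ wGE wt (wt a) := by
  have h := monomial_mem_wGE wt (Finsupp.single a 1) (1 : ℤ)
  rwa [Finsupp.weight_single, one_smul] at h

/-- `wGE wt w` is saturated: division by nonzero integers -/
theorem mem_wGE_of_nsmul {w n : ℕ} (hn : n ≠ 0) {g : MvPolynomial σ ℤ}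
    (h : (n : MvPolynomial σ ℤ) * g ∈ wGE wt w) : g ∈ wGE wt w := by
  intro m hm
  apply h m
  rw [MvPolynomial.mem_support_iff] at hm ⊢
  have h1 : ((n : MvPolynomial σ ℤ)) = C (n : ℤ) := by simp
  rw [h1, coeff_C_mul]
  exact mul_ne_zero (by exact_mod_cast hn) hm

/-- the weight filtration as a multiplicative filtration -/
def wMulFil : MulFil (MvPolynomial σ ℤ) where
  F := wGE wt
  zero := wGE_zero wt
  anti := fun h => wGE_antitone wt h
  mul := fun hf hg => mul_mem_wGE wt hf hg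

end WGE

section SumWeights

variable {α β : Type*}

/-- the `X`-degree and `Y`-degree weights on a sum type -/
def xw : α ⊕ β → ℕ := Sum.elim (fun _ => 1) (fun _ => 0)
def yw : α ⊕ β → ℕ := Sum.elim (fun _ => 0) (fun _ => 1)

theorem weight_sumElim_const (m1 m2 : ℕ) (d : α ⊕ β →₀ ℕ) :
    Finsupp.weight (Sum.elim (fun _ : α => m1) (fun _ : β => m2)) d =
      m1 * Finsupp.weight (xw : α ⊕ β → ℕ) d + m2 * Finsupp.weight (yw : α ⊕ β → ℕ) d := by
  induction d using Finsupp.induction_linear with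
  | zero => simp
  | add d1 d2 h1 h2 =>
    rw [map_add, map_add, map_add, h1, h2]
    ring
  | single i k =>
    rw [Finsupp.weight_single, Finsupp.weight_single, Finsupp.weight_single]
    rcases i with a | b
    · simp [xw, yw, mul_comm]
    · simp [xw, yw, mul_comm]

theorem weight_le_mul {σ : Type*} (w w' : σ → ℕ) (c : ℕ) (h : ∀ i, w i ≤ c * w' i) (d : σ →₀ ℕ) :
    Finsupp.weight w d ≤ c * Finsupp.weight w' d := by
  induction d using Finsupp.induction_linear with
  | zero => simp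
  | add d1 d2 h1 h2 =>
    rw [map_add, map_add, mul_add]
    exact Nat.add_le_add h1 h2
  | single i k =>
    rw [Finsupp.weight_single, Finsupp.weight_single, smul_eq_mul, smul_eq_mul]
    calc k * w i ≤ k * (c * w' i) := Nat.mul_le_mul_left _ (h i)
      _ = c * (k * w' i) := by ring

theorem snd_weight {σ : Type*} (w : σ → ℕ × ℕ) (d : σ →₀ ℕ) :
    (Finsupp.weight w d).2 = Finsupp.weight (fun i => (w i).2) d := by
  induction d using Finsupp.induction_linear with
  | zero => simp
  | add d1 d2 h1 h2 => rw [map_add, map_add, Prod.snd_add, h1, h2]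
  | single i k => rw [Finsupp.weight_single, Finsupp.weight_single, Prod.smul_snd]

theorem fst_weight {σ : Type*} (w : σ → ℕ × ℕ) (d : σ →₀ ℕ) :
    (Finsupp.weight w d).1 = Finsupp.weight (fun i => (w i).1) d := by
  induction d using Finsupp.induction_linear with
  | zero => simp
  | add d1 d2 h1 h2 => rw [map_add, map_add, Prod.fst_add, h1, h2]
  | single i k => rw [Finsupp.weight_single, Finsupp.weight_single, Prod.smul_fst]

/-- every monomial of `P_n`, `n ≥ 1`, contains an `X` and a `Y` -/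
theorem deg_of_isMulPoly {n : ℕ} (hn : 1 ≤ n) {P : MvPolynomial (Fin n ⊕ Fin n) ℤ}
    (hP : IsMulPoly n P) : ∀ d ∈ P.support,
      1 ≤ Finsupp.weight (xw : Fin n ⊕ Fin n → ℕ) d ∧ 1 ≤ Finsupp.weight (yw : Fin n ⊕ Fin n → ℕ) d := by
  intro d hd
  have h := hP.2 (MvPolynomial.mem_support_iff.mp hd)
  have h1 := congrArg Prod.fst h
  have h2 := congrArg Prod.snd h
  rw [fst_weight] at h1
  rw [snd_weight] at h2
  simp only at h1 h2
  constructor
  · have hle := weight_le_mul (fun i => ((Sum.elim (fun k : Fin n => (((k : ℕ) + 1, 0) : ℕ × ℕ))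
      (fun k : Fin n => ((0, (k : ℕ) + 1) : ℕ × ℕ))) i).1) (xw : Fin n ⊕ Fin n → ℕ) n (by
        rintro (a | b)
        · simp only [Sum.elim_inl, xw, mul_one]
          exact a.2
        · simp [xw]) d
    rw [h1] at hle
    by_contra hlt
    push Not at hlt
    have h0 : Finsupp.weight (xw : Fin n ⊕ Fin n → ℕ) d = 0 := by omega
    rw [h0, mul_zero] at hle
    omega
  · have hle := weight_le_mul (fun i => ((Sum.elim (fun k : Fin n => (((k : ℕ) + 1, 0) : ℕ × ℕ))
      (fun k : Fin n => ((0, (k : ℕ) + 1) : ℕ × ℕ))) i).2) (yw : Fin n ⊕ Fin n → ℕ) n (by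
        rintro (a | b)
        · simp [yw]
        · simp only [Sum.elim_inr, yw, mul_one]
          exact b.2) d
    rw [h2] at hle
    by_contra hlt
    push Not at hlt
    have h0 : Finsupp.weight (yw : Fin n ⊕ Fin n → ℕ) d = 0 := by omega
    rw [h0, mul_zero] at hle
    omega

end SumWeights

/-- `P_n` evaluated at elements of levels `m1` (for the `X`) and `m2` (for the `Y`) lies in level
`m1 + m2` -/
theorem MulFil.aeval_mulPoly_mem {A : Type v} [CommRing A] (Φ : MulFil A) {n : ℕ} (hn : 1 ≤ n)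
    {P : MvPolynomial (Fin n ⊕ Fin n) ℤ} (hP : IsMulPoly n P) (f : Fin n ⊕ Fin n → A) (m1 m2 : ℕ)
    (h1 : ∀ a, f (Sum.inl a) ∈ Φ.F m1) (h2 : ∀ b, f (Sum.inr b) ∈ Φ.F m2) :
    aeval f P ∈ Φ.F (m1 + m2) := by
  apply Φ.aeval_mem f (Sum.elim (fun _ => m1) (fun _ => m2))
  · rintro (a | b)
    · exact h1 a
    · exact h2 b
  · intro d hd
    rw [weight_sumElim_const]
    obtain ⟨hx, hy⟩ := deg_of_isMulPoly hn hP d hd
    calc m1 + m2 = m1 * 1 + m2 * 1 := by ring
      _ ≤ _ := Nat.add_le_add (Nat.mul_le_mul_left _ hx) (Nat.mul_le_mul_left _ hy)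

section GammaFil

variable {K : Type u} {A : Type v} [CommRing K] [CommRing A] [LambdaOps A] (ε : A →+* K)

/-- the generators of the γ-filtration -/
def gens (n : ℕ) : Set A :=
  {y | ∃ l : List (ℕ × A), (∀ p ∈ l, ε p.2 = 0) ∧ n ≤ (l.map Prod.fst).sum ∧
    y = (l.map fun p => gamma p.1 p.2).prod}

theorem gammaFil_eq (n : ℕ) : gammaFil ε n = Ideal.span (gens ε n) := rfl

theorem gens_mul {a b : ℕ} {y z : A} (hy : y ∈ gens ε a) (hz : z ∈ gens ε b) :
    y * z ∈ gens ε (a + b) := by
  obtain ⟨l1, h1, h1', rfl⟩ := hy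
  obtain ⟨l2, h2, h2', rfl⟩ := hz
  refine ⟨l1 ++ l2, ?_, ?_, ?_⟩
  · intro p hp
    rcases List.mem_append.mp hp with h | h
    · exact h1 p h
    · exact h2 p h
  · rw [List.map_append, List.sum_append]
    exact Nat.add_le_add h1' h2'
  · rw [List.map_append, List.prod_append]

theorem gammaFil_mul_mem {a b : ℕ} {y z : A} (hy : y ∈ gammaFil ε a) (hz : z ∈ gammaFil ε b) :
    y * z ∈ gammaFil ε (a + b) := by
  have h := Ideal.mul_mem_mul hy hz
  rw [gammaFil_eq, gammaFil_eq, Ideal.span_mul_span'] at h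
  refine Ideal.span_mono ?_ h
  rintro _ ⟨y', hy', z', hz', rfl⟩
  exact gens_mul ε hy' hz'

theorem gammaFil_antitone {a b : ℕ} (h : a ≤ b) : gammaFil ε b ≤ gammaFil ε a := by
  refine Ideal.span_mono ?_
  rintro y ⟨l, h1, h2, h3⟩
  exact ⟨l, h1, le_trans h h2, h3⟩

theorem gammaFil_zero : gammaFil ε 0 = ⊤ := by
  rw [Ideal.eq_top_iff_one]
  apply Ideal.subset_span
  exact ⟨[], by simp, by simp, by simp⟩

/-- the γ-filtration as a multiplicative filtration -/
def gammaMulFil : MulFil A where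
  F := gammaFil ε
  zero := gammaFil_zero ε
  anti := fun h => gammaFil_antitone ε h
  mul := fun hy hz => gammaFil_mul_mem ε hy hz

theorem gamma_mem_gammaFil (i : ℕ) {x : A} (hx : ε x = 0) : gamma i x ∈ gammaFil ε i := by
  apply Ideal.subset_span
  refine ⟨[(i, x)], ?_, ?_, ?_⟩
  · intro p hp
    rw [List.mem_singleton] at hp
    rw [hp]
    exact hx
  · simp
  · simp

theorem mem_gammaFil_one {x : A} (hx : ε x = 0) : x ∈ gammaFil ε 1 := by
  have h := gamma_mem_gammaFil ε 1 hx
  rwa [GammaBasic.gamma_one_apply] at h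

/-- polynomials of weight `≥ w` in the `γ^{i+1}(x)`, `ε x = 0`, lie in `Fil^w` -/
theorem aeval_gamma_mem {x : A} (hx : ε x = 0) (N w : ℕ) (q : MvPolynomial (Fin N) ℤ)
    (hq : ∀ d ∈ q.support, w ≤ Finsupp.weight (LamUniv1.wN N) d) :
    aeval (fun i : Fin N => gamma ((i : ℕ) + 1) x) q ∈ gammaFil ε w :=
  (gammaMulFil ε).aeval_mem _ (LamUniv1.wN N) (fun _ => gamma_mem_gammaFil ε _ hx) q w hq

end GammaFil

end Groth.Agent.Lib.Helper24.LamFil
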