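import Groth.Agent.Lib.Helper24.LamBin

/-!
# The γ-filtration of a λ-algebra generated by `γ^1 x, …, γ^n x` (helper24)
-/

set_option autoImplicit false
set_option linter.unusedSectionVars false
set_option maxHeartbeats 400000
universe u v

namespace Groth.Agent.Lib.Helper24.LamFree1

open LambdaRing MvPolynomial Groth.Agent.Lib.Helper20 Groth.Agent.Lib.Helper24.LamTest
  Groth.Agent.Lib.Helper24.LamExpr Groth.Agent.Lib.Helper24.LamOrd
  Groth.Agent.Lib.Helper24.LamUniv1 Groth.Agent.Lib.Helper24.LamFil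
  Groth.Agent.Lib.Helper24.LamGam Groth.Agent.Lib.Helper24.LamUniv2
  Groth.Agent.Lib.Helper24.LamBin Groth.Agent.Lib.Helper24.SymTwo
  Groth.Agent.Lib.Helper24.LamHom

section WeightFil

variable {B : Type v} [CommRing B] (n : ℕ) (g : Fin n → B)

/-- the generators of the weight filtration -/
def wgens (k : ℕ) : Set B :=
  {m : B | ∃ e : Fin n → ℕ, k ≤ ∑ j : Fin n, ((j : ℕ) + 1) * e j ∧ m = ∏ j : Fin n, g j ^ e j}

/-- the ideal generated by the monomials of weight `≥ k` -/
def W (k : ℕ) : Ideal B := Ideal.span (wgens n g k)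

theorem wgens_mul {a b : ℕ} {y z : B} (hy : y ∈ wgens n g a) (hz : z ∈ wgens n g b) :
    y * z ∈ wgens n g (a + b) := by
  obtain ⟨e1, h1, rfl⟩ := hy
  obtain ⟨e2, h2, rfl⟩ := hz
  refine ⟨fun j => e1 j + e2 j, ?_, ?_⟩
  · simp only [mul_add, Finset.sum_add_distrib]
    exact Nat.add_le_add h1 h2
  · simp only [pow_add, Finset.prod_mul_distrib]

/-- the weight filtration as a multiplicative filtration -/
def WFil : MulFil B where
  F := W n g
  zero := by
    rw [W, Ideal.eq_top_iff_one]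
    apply Ideal.subset_span
    exact ⟨fun _ => 0, by simp, by simp⟩
  anti := by
    intro a b h
    refine Ideal.span_mono ?_
    rintro y ⟨e, h1, h2⟩
    exact ⟨e, le_trans h h1, h2⟩
  mul := by
    intro a b y z hy hz
    have h := Ideal.mul_mem_mul hy hz
    rw [W, W, Ideal.span_mul_span'] at h
    refine Ideal.span_mono ?_ h
    rintro _ ⟨y', hy', z', hz', rfl⟩
    exact wgens_mul n g hy' hz'

theorem g_mem_W (j : Fin n) : g j ∈ W n g ((j : ℕ) + 1) := by
  classical
  apply Ideal.subset_span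
  refine ⟨fun i => if i = j then 1 else 0, ?_, ?_⟩
  · rw [Finset.sum_eq_single j]
    · simp
    · intro i _ hi
      simp [hi]
    · intro h
      exact absurd (Finset.mem_univ j) h
  · rw [Finset.prod_eq_single j]
    · simp
    · intro i _ hi
      simp [hi]
    · intro h
      exact absurd (Finset.mem_univ j) h

end WeightFil

section Main

variable (K : Type u) [CommRing K] [LambdaOps K] [BinomialRing K] (hKb : IsBinomial K)
  (B : Type v) [CommRing B] [LambdaOps B] [Algebra K B] (hB : IsSpecial B)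
  (ε : B →ₐ[K] K) (hε : IsAugLambdaAlg K B ε)
  (n : ℕ) (x : B) (hx : ε x = 0) (hγ : ∀ k : ℕ, n < k → gamma k x = 0)

/-- the expression `∏_j (γ^{j+1} X)^{m_j}` in the first variable -/
def monE (n : ℕ) (m : Fin n → ℕ) : LExpr Bool :=
  LExpr.prodFin n fun j => LExpr.pow (LExpr.gam ((j : ℕ) + 1) (LExpr.var false)) (m j)

theorem eval_monE {A : Type v} [CommRing A] [LambdaOps A] (n : ℕ) (m : Fin n → ℕ) (v : Bool → A) :
    (monE n m).eval v = ∏ j : Fin n, gamma ((j : ℕ) + 1) (v false) ^ m j := by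
  rw [monE, LExpr.eval_prodFin]
  apply Finset.prod_congr rfl
  intro j _
  rw [LExpr.eval_pow, LExpr.eval_gam, LExpr.eval_var]

theorem testPt_false_mem (N1 N2 : ℕ) : testPt N1 N2 false ∈ aOrd (Fin N1 ⊕ Fin N2) 1 := by
  show rename Sum.inl (x0 (Fin N1)) ∈ _
  rw [x0, map_sum]
  refine Ideal.sum_mem _ fun a _ => ?_
  rw [map_sub, rename_X, map_one]
  exact X_sub_one_mem_aOrd _

theorem testPt_true_mem (N1 N2 : ℕ) : testPt N1 N2 true ∈ aOrd (Fin N1 ⊕ Fin N2) 1 := by
  show rename Sum.inr (x0 (Fin N2)) ∈ _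
  rw [x0, map_sum]
  refine Ideal.sum_mem _ fun a _ => ?_
  rw [map_sub, rename_X, map_one]
  exact X_sub_one_mem_aOrd _

include hB hγ in
/-- `γ^i` of a nonconstant monomial in the `γ^{j+1} x` has weight `≥ i` -/
theorem gamOrd_monomial (UP : UnivPolys) (m : Fin n → ℕ) (hm : m ≠ 0) :
    GamOrd (WFil n fun j : Fin n => gamma ((j : ℕ) + 1) x)
      (∏ j : Fin n, gamma ((j : ℕ) + 1) x ^ m j) := by
  intro i
  obtain ⟨E, hE⟩ : ∃ E : LExpr Bool, E = LExpr.gam i (monE n m) := ⟨_, rfl⟩
  obtain ⟨v, hv⟩ : ∃ v : Bool → B, v = fun b => if b then 0 else x := ⟨_, rfl⟩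
  have hv0 : v false = x := by rw [hv]; rfl
  have hv1 : v true = 0 := by rw [hv]; rfl
  have h1 : E.eval v = gamma i (∏ j : Fin n, gamma ((j : ℕ) + 1) x ^ m j) := by
    rw [hE, LExpr.eval_gam, eval_monE, hv0]
  have h2 := eval_eq_aeval_reprPoly UP hB E n 0 v (Or.inr (by rw [hv0]; exact hγ))
    (Or.inr (by
      intro k hk
      rw [hv1]
      exact GammaBasic.gamma_apply_zero k hk))
  rw [← h1, h2, aevalZ_apply]
  -- the test point
  have htest : E.eval (testPt n 0) ∈ aOrd (Fin n ⊕ Fin 0) i := by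
    rw [hE, LExpr.eval_gam, eval_monE]
    apply LamGam.gamma_mem_aOrd
    obtain ⟨j0, hj0⟩ : ∃ j0, m j0 ≠ 0 := by
      by_contra hcon
      push Not at hcon
      exact hm (funext hcon)
    rw [← Finset.mul_prod_erase Finset.univ _ (Finset.mem_univ j0)]
    apply Ideal.mul_mem_right
    apply Ideal.pow_mem_of_mem _ _ _ (Nat.pos_of_ne_zero hj0)
    exact aOrd_antitone (Nat.succ_le_succ (Nat.zero_le _))
      (LamGam.gamma_mem_aOrd (testPt_false_mem n 0) _)
  have hw := weight_reprPoly n 0 UP E i htest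
  apply (WFil n fun j : Fin n => gamma ((j : ℕ) + 1) x).aeval_mem _ (wN2 n 0) _ _ i hw
  rintro (j | j)
  · show gamma ((j : ℕ) + 1) (v false) ∈ _
    rw [hv0]
    exact g_mem_W n _ j
  · exact j.elim0

include hKb hB hε hx hγ in
/-- every element of augmentation zero has `γ^i` of weight `≥ i` -/
theorem gamOrd_of_aug_zero (UP : UnivPolys)
    (hgen : Algebra.adjoin K (Set.range fun j : Fin n => gamma ((j : ℕ) + 1) x) = ⊤)
    (z : B) (hz : ε z = 0) :
    GamOrd (WFil n fun j : Fin n => gamma ((j : ℕ) + 1) x) z := by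
  have hzmem : z ∈ Algebra.adjoin K (Set.range fun j : Fin n => gamma ((j : ℕ) + 1) x) := by
    rw [hgen]; exact Algebra.mem_top
  rw [Algebra.adjoin_range_eq_range_aeval] at hzmem
  obtain ⟨p, hp⟩ := hzmem
  have hzp : z = aeval (fun j : Fin n => gamma ((j : ℕ) + 1) x) p := hp.symm
  rw [hzp] at hz ⊢
  clear hzp hp
  -- the constant coefficient vanishes
  have hεg : ∀ j : Fin n, ε (gamma ((j : ℕ) + 1) x) = 0 := by
    intro j
    have h := map_gamma (ε : B →+* K) (fun k a => hε.map_lam k a) ((j : ℕ) + 1) x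
    have h' : ε (gamma ((j : ℕ) + 1) x) = gamma ((j : ℕ) + 1) (ε x) := h
    rw [h', hx]
    exact GammaBasic.gamma_apply_zero _ (Nat.succ_pos _)
  have hc : constantCoeff p = 0 := by
    have h1 : ε (aeval (fun j : Fin n => gamma ((j : ℕ) + 1) x) p) =
        aeval (fun j : Fin n => ε (gamma ((j : ℕ) + 1) x)) p := by
      have := AlgHom.congr_fun (MvPolynomial.comp_aeval (R := K)
        (fun j : Fin n => gamma ((j : ℕ) + 1) x) ε) p
      exact this
    rw [h1] at hz
    have h2 : (fun j : Fin n => ε (gamma ((j : ℕ) + 1) x)) = 0 := funext hεg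
    rw [h2, MvPolynomial.aeval_zero] at hz
    exact hz
  rw [p.as_sum, map_sum]
  apply gamOrd_sum
  intro d hd
  rw [aeval_monomial]
  apply gamOrd_algebraMap_mul UP hKb hB hε.isLambdaAlg
  have hd0 : d ≠ 0 := by
    intro h0
    rw [h0] at hd
    rw [MvPolynomial.mem_support_iff] at hd
    exact hd hc
  have hprod : (d.prod fun j k => gamma ((j : ℕ) + 1) x ^ k) =
      ∏ j : Fin n, gamma ((j : ℕ) + 1) x ^ d j := by
    rw [Finsupp.prod_fintype]
    intro j
    exact pow_zero _
  rw [hprod]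
  apply gamOrd_monomial B hB n x hγ UP (fun j => d j)
  intro h0
  apply hd0
  ext j
  exact congrFun h0 j

include hKb hB hε hx hγ in
/-- **S8697**: the γ-filtration is the filtration by weight -/
theorem gammaFil_eq_W (UP : UnivPolys)
    (hgen : Algebra.adjoin K (Set.range fun j : Fin n => gamma ((j : ℕ) + 1) x) = ⊤) (k : ℕ) :
    gammaFil (ε : B →+* K) k = W n (fun j : Fin n => gamma ((j : ℕ) + 1) x) k := by
  apply le_antisymm
  · rw [gammaFil_eq]
    apply Ideal.span_le.mpr
    rintro y ⟨l, hl, hk, rfl⟩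
    have h := (WFil n fun j : Fin n => gamma ((j : ℕ) + 1) x).list_prod_mem l
      (fun p => gamma p.1 p.2) Prod.fst (fun p hp =>
        gamOrd_of_aug_zero K hKb B hB ε hε n x hx hγ UP hgen p.2 (hl p hp) p.1)
    exact (WFil n fun j : Fin n => gamma ((j : ℕ) + 1) x).anti hk h
  · apply Ideal.span_le.mpr
    rintro y ⟨e, he, rfl⟩
    have h := (gammaMulFil (ε : B →+* K)).finset_prod_mem Finset.univ
      (fun j : Fin n => gamma ((j : ℕ) + 1) x ^ e j) (fun j => e j * ((j : ℕ) + 1))
      (fun j _ => (gammaMulFil (ε : B →+* K)).pow_mem (gamma_mem_gammaFil _ _ hx) (e j))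
    refine gammaFil_antitone _ ?_ h
    refine le_trans he (le_of_eq ?_)
    apply Finset.sum_congr rfl
    intro j _
    ring

end Main

end Groth.Agent.Lib.Helper24.LamFree1
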