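import Groth.Agent.Lib.Helper24.LamExpr

/-!
# Orders of vanishing in the test λ-rings (helper24)

In `ℤ[T_σ]` we use the coordinates `a = T - 1`.  `degGE w` is the ideal of polynomials all of whose
monomials have degree `≥ w`, and `aOrd w` is its preimage under `T ↦ T + 1`.
-/

set_option autoImplicit false
set_option linter.unusedSectionVars false
universe u v

namespace Groth.Agent.Lib.Helper24.LamOrd

open LambdaRing MvPolynomial Groth.Agent.Lib.Helper20 Groth.Agent.Lib.Helper24.LamTest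

section DegGE

variable {σ : Type v}

/-- polynomials all of whose monomials have degree at least `w` -/
def degGE (σ : Type v) (w : ℕ) : Ideal (MvPolynomial σ ℤ) where
  carrier := {g | ∀ m ∈ g.support, w ≤ m.degree}
  zero_mem' := by simp
  add_mem' := by
    classical
    intro a b ha hb m hm
    rcases Finset.mem_union.mp (MvPolynomial.support_add hm) with h | h
    · exact ha m h
    · exact hb m h
  smul_mem' := by
    classical
    intro c g hg m hm
    rw [smul_eq_mul] at hm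
    have h := MvPolynomial.support_mul c g hm
    obtain ⟨m₁, _, m₂, hm₂, rfl⟩ := Finset.mem_add.mp h
    rw [map_add]
    exact le_trans (hg m₂ hm₂) (Nat.le_add_left _ _)

theorem mem_degGE {w : ℕ} {g : MvPolynomial σ ℤ} :
    g ∈ degGE σ w ↔ ∀ m ∈ g.support, w ≤ m.degree := Iff.rfl

theorem degGE_zero : degGE σ 0 = ⊤ := by
  rw [eq_top_iff]
  intro g _ m _
  exact Nat.zero_le _

theorem degGE_antitone {a b : ℕ} (h : a ≤ b) : degGE σ b ≤ degGE σ a := by
  intro g hg m hm
  exact le_trans h (hg m hm)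

theorem mul_mem_degGE {a b : ℕ} {f g : MvPolynomial σ ℤ} (hf : f ∈ degGE σ a) (hg : g ∈ degGE σ b) :
    f * g ∈ degGE σ (a + b) := by
  classical
  intro m hm
  have h := MvPolynomial.support_mul f g hm
  obtain ⟨m₁, hm₁, m₂, hm₂, rfl⟩ := Finset.mem_add.mp h
  rw [map_add]
  exact Nat.add_le_add (hf m₁ hm₁) (hg m₂ hm₂)

theorem monomial_mem_degGE (m : σ →₀ ℕ) (c : ℤ) : monomial m c ∈ degGE σ m.degree := by
  classical
  intro m' hm'
  have h := MvPolynomial.support_monomial_subset hm'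
  rw [Finset.mem_singleton] at h
  rw [h]

theorem X_mem_degGE (a : σ) : (X a : MvPolynomial σ ℤ) ∈ degGE σ 1 := by
  have h := monomial_mem_degGE (Finsupp.single a 1) (1 : ℤ)
  rwa [Finsupp.degree_single] at h

/-- `degGE w` is saturated: division by nonzero integers -/
theorem mem_degGE_of_nsmul {w n : ℕ} (hn : n ≠ 0) {g : MvPolynomial σ ℤ}
    (h : (n : MvPolynomial σ ℤ) * g ∈ degGE σ w) : g ∈ degGE σ w := by
  intro m hm
  apply h m
  rw [MvPolynomial.mem_support_iff] at hm ⊢
  have h1 : ((n : MvPolynomial σ ℤ)) = C (n : ℤ) := by simp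
  rw [h1, coeff_C_mul]
  exact mul_ne_zero (by exact_mod_cast hn) hm

theorem pow_mem_degGE {a : ℕ} {f : MvPolynomial σ ℤ} (hf : f ∈ degGE σ a) (n : ℕ) :
    f ^ n ∈ degGE σ (n * a) := by
  induction n with
  | zero => rw [zero_mul, degGE_zero]; trivial
  | succ n ih =>
    rw [pow_succ, Nat.succ_mul]
    exact mul_mem_degGE ih hf

end DegGE

section Shift

variable {σ : Type v}

/-- the shift `T ↦ T + 1` (a polynomial in `T` written in the coordinates `a = T - 1`) -/
noncomputable def tau (σ : Type v) : MvPolynomial σ ℤ →ₐ[ℤ] MvPolynomial σ ℤ :=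
  aeval (fun a => X a + 1)

/-- the inverse shift `T ↦ T - 1` -/
noncomputable def tauInv (σ : Type v) : MvPolynomial σ ℤ →ₐ[ℤ] MvPolynomial σ ℤ :=
  aeval (fun a => X a - 1)

@[simp] theorem tau_X (a : σ) : tau σ (X a) = X a + 1 := by simp [tau]

@[simp] theorem tauInv_X (a : σ) : tauInv σ (X a) = X a - 1 := by simp [tauInv]

theorem tau_tauInv (f : MvPolynomial σ ℤ) : tau σ (tauInv σ f) = f := by
  have h : (tau σ).comp (tauInv σ) = AlgHom.id ℤ _ := by
    apply MvPolynomial.algHom_ext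
    intro a
    simp
  exact AlgHom.congr_fun h f

theorem tauInv_tau (f : MvPolynomial σ ℤ) : tauInv σ (tau σ f) = f := by
  have h : (tauInv σ).comp (tau σ) = AlgHom.id ℤ _ := by
    apply MvPolynomial.algHom_ext
    intro a
    simp
  exact AlgHom.congr_fun h f

/-- order of vanishing at `T = 1` at least `w` -/
noncomputable def aOrd (σ : Type v) (w : ℕ) : Ideal (MvPolynomial σ ℤ) :=
  Ideal.comap (tau σ) (degGE σ w)

theorem mem_aOrd {w : ℕ} {f : MvPolynomial σ ℤ} : f ∈ aOrd σ w ↔ tau σ f ∈ degGE σ w := Iff.rfl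

theorem aOrd_zero : aOrd σ 0 = ⊤ := by
  rw [aOrd, degGE_zero, Ideal.comap_top]

theorem aOrd_antitone {a b : ℕ} (h : a ≤ b) : aOrd σ b ≤ aOrd σ a :=
  Ideal.comap_mono (degGE_antitone h)

theorem mul_mem_aOrd {a b : ℕ} {f g : MvPolynomial σ ℤ} (hf : f ∈ aOrd σ a) (hg : g ∈ aOrd σ b) :
    f * g ∈ aOrd σ (a + b) := by
  rw [mem_aOrd, map_mul]
  exact mul_mem_degGE hf hg

theorem mem_aOrd_of_nsmul {w n : ℕ} (hn : n ≠ 0) {g : MvPolynomial σ ℤ}
    (h : (n : MvPolynomial σ ℤ) * g ∈ aOrd σ w) : g ∈ aOrd σ w := by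
  rw [mem_aOrd] at h ⊢
  rw [map_mul, map_natCast] at h
  exact mem_degGE_of_nsmul hn h

theorem X_sub_one_mem_aOrd (a : σ) : (X a - 1 : MvPolynomial σ ℤ) ∈ aOrd σ 1 := by
  rw [mem_aOrd, map_sub, tau_X, map_one, add_sub_cancel_right]
  exact X_mem_degGE a

/-- the Adams operation `T ↦ T^k` in the coordinates `a`: `a ↦ (1 + a)^k - 1` -/
noncomputable def psiA (σ : Type v) (k : ℕ) : MvPolynomial σ ℤ →ₐ[ℤ] MvPolynomial σ ℤ :=
  aeval (fun a => (X a + 1) ^ k - 1)

theorem tau_expand (k : ℕ) (f : MvPolynomial σ ℤ) : tau σ (expand k f) = psiA σ k (tau σ f) := by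
  have h : (tau σ).comp (expand k) = (psiA σ k).comp (tau σ) := by
    apply MvPolynomial.algHom_ext
    intro a
    simp [psiA]
  exact AlgHom.congr_fun h f

theorem one_add_pow_sub (k : ℕ) (a : σ) :
    ((X a + 1) ^ k - 1 - (k : MvPolynomial σ ℤ) * X a : MvPolynomial σ ℤ) ∈ degGE σ 2 := by
  induction k with
  | zero => simp
  | succ k ih =>
    have h : ((X a + 1) ^ (k + 1) - 1 - ((k + 1 : ℕ) : MvPolynomial σ ℤ) * X a : MvPolynomial σ ℤ) =
        (X a + 1) * ((X a + 1) ^ k - 1 - (k : MvPolynomial σ ℤ) * X a) +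
          (k : MvPolynomial σ ℤ) * (X a * X a) := by
      push_cast; ring
    rw [h]
    apply Ideal.add_mem
    · exact Ideal.mul_mem_left _ _ ih
    · exact Ideal.mul_mem_left _ _ (mul_mem_degGE (X_mem_degGE a) (X_mem_degGE a))

theorem psiA_X_mem (k : ℕ) (a : σ) : psiA σ k (X a) ∈ degGE σ 1 := by
  have h1 := one_add_pow_sub k a
  have h2 : psiA σ k (X a) = ((X a + 1) ^ k - 1 - (k : MvPolynomial σ ℤ) * X a) +
      (k : MvPolynomial σ ℤ) * X a := by
    simp [psiA]
  rw [h2]
  exact Ideal.add_mem _ (degGE_antitone (by omega) h1) (Ideal.mul_mem_left _ _ (X_mem_degGE a))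

/-- leading term of `ψ^k` on monomials -/
theorem psiA_monomial (k : ℕ) (m : σ →₀ ℕ) :
    psiA σ k (monomial m 1) ∈ degGE σ m.degree ∧
      psiA σ k (monomial m 1) - (k : MvPolynomial σ ℤ) ^ m.degree * monomial m 1 ∈
        degGE σ (m.degree + 1) := by
  induction m using Finsupp.induction_linear with
  | zero =>
    have h0 : (monomial (0 : σ →₀ ℕ) (1 : ℤ)) = 1 := rfl
    rw [h0, map_one, map_zero, pow_zero, one_mul, sub_self, degGE_zero]
    exact ⟨trivial, Ideal.zero_mem _⟩
  | add m₁ m₂ h₁ h₂ =>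
    have hm : monomial (m₁ + m₂) (1 : ℤ) = monomial m₁ 1 * monomial m₂ 1 := by
      rw [monomial_mul, one_mul]
    rw [hm, map_mul, map_add]
    refine ⟨mul_mem_degGE h₁.1 h₂.1, ?_⟩
    have e : psiA σ k (monomial m₁ 1) * psiA σ k (monomial m₂ 1) -
        (k : MvPolynomial σ ℤ) ^ (m₁.degree + m₂.degree) * (monomial m₁ 1 * monomial m₂ 1) =
        (psiA σ k (monomial m₁ 1) - (k : MvPolynomial σ ℤ) ^ m₁.degree * monomial m₁ 1) *
          psiA σ k (monomial m₂ 1) +
        (k : MvPolynomial σ ℤ) ^ m₁.degree * monomial m₁ 1 *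
          (psiA σ k (monomial m₂ 1) - (k : MvPolynomial σ ℤ) ^ m₂.degree * monomial m₂ 1) := by
      ring
    rw [e]
    apply Ideal.add_mem
    · have := mul_mem_degGE h₁.2 h₂.1
      rwa [show m₁.degree + 1 + m₂.degree = m₁.degree + m₂.degree + 1 by ring] at this
    · have := mul_mem_degGE (Ideal.mul_mem_left _ ((k : MvPolynomial σ ℤ) ^ m₁.degree)
        (monomial_mem_degGE m₁ (1 : ℤ))) h₂.2
      rwa [show m₁.degree + (m₂.degree + 1) = m₁.degree + m₂.degree + 1 by ring] at this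
  | single a n =>
    rw [Finsupp.degree_single]
    have hX : monomial (Finsupp.single a n) (1 : ℤ) = X a ^ n := by
      rw [X_pow_eq_monomial]
    rw [hX, map_pow]
    clear hX
    induction n with
    | zero =>
      rw [pow_zero, pow_zero, pow_zero, one_mul, sub_self, degGE_zero]
      exact ⟨trivial, Ideal.zero_mem _⟩
    | succ n ih =>
      have h1 := psiA_X_mem k a
      have h2 : psiA σ k (X a) - (k : MvPolynomial σ ℤ) * X a ∈ degGE σ 2 := by
        have := one_add_pow_sub k a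
        simpa [psiA] using this
      refine ⟨by simpa using pow_mem_degGE h1 (n + 1), ?_⟩
      have e : psiA σ k (X a) ^ (n + 1) - (k : MvPolynomial σ ℤ) ^ (n + 1) * X a ^ (n + 1) =
          (psiA σ k (X a) ^ n - (k : MvPolynomial σ ℤ) ^ n * X a ^ n) * psiA σ k (X a) +
          (k : MvPolynomial σ ℤ) ^ n * X a ^ n * (psiA σ k (X a) - (k : MvPolynomial σ ℤ) * X a) := by
        ring
      rw [e]
      apply Ideal.add_mem
      · have := mul_mem_degGE ih.2 h1
        rwa [show n + 1 + 1 = n + 1 + 1 by rfl] at this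
      · have hXn : (X a : MvPolynomial σ ℤ) ^ n ∈ degGE σ n := by
          simpa using pow_mem_degGE (X_mem_degGE a) n
        have := mul_mem_degGE (Ideal.mul_mem_left _ ((k : MvPolynomial σ ℤ) ^ n) hXn) h2
        rwa [show n + 2 = n + 1 + 1 by rfl] at this

theorem psiA_mem_degGE (k w : ℕ) {g : MvPolynomial σ ℤ} (hg : g ∈ degGE σ w) :
    psiA σ k g ∈ degGE σ w ∧ psiA σ k g - (k : MvPolynomial σ ℤ) ^ w * g ∈ degGE σ (w + 1) := by
  rw [g.as_sum, map_sum, Finset.mul_sum, ← Finset.sum_sub_distrib]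
  refine ⟨Ideal.sum_mem _ fun m hm => ?_, Ideal.sum_mem _ fun m hm => ?_⟩
  · have h1 : monomial m (coeff m g) = C (coeff m g) * monomial m 1 := by
      rw [C_mul_monomial, mul_one]
    rw [h1, map_mul]
    exact Ideal.mul_mem_left _ _ (degGE_antitone (hg m hm) (psiA_monomial k m).1)
  · have h1 : monomial m (coeff m g) = C (coeff m g) * monomial m 1 := by
      rw [C_mul_monomial, mul_one]
    rw [h1, map_mul]
    have hC : psiA σ k (C (coeff m g)) = C (coeff m g) := by simp [psiA]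
    rw [hC]
    rcases Nat.lt_or_ge w m.degree with hlt | hge
    · apply Ideal.sub_mem
      · exact Ideal.mul_mem_left _ _ (degGE_antitone hlt (psiA_monomial k m).1)
      · exact Ideal.mul_mem_left _ _ (Ideal.mul_mem_left _ _
          (degGE_antitone hlt (monomial_mem_degGE m 1)))
    · have hw : m.degree = w := le_antisymm hge (hg m hm)
      have e : C (coeff m g) * psiA σ k (monomial m 1) -
          (k : MvPolynomial σ ℤ) ^ w * (C (coeff m g) * monomial m 1) =
          C (coeff m g) * (psiA σ k (monomial m 1) - (k : MvPolynomial σ ℤ) ^ w * monomial m 1) := by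
        ring
      rw [e, ← hw]
      exact Ideal.mul_mem_left _ _ (psiA_monomial k m).2

end Shift

section TestEstimates

variable {σ : Type v}

/-- Adams operations preserve the order and act by `k^w` on the leading part -/
theorem adamsOp_mem_aOrd (k : ℕ) (hk : 1 ≤ k) (w : ℕ) {z : MvPolynomial σ ℤ} (hz : z ∈ aOrd σ w) :
    adamsOp k z ∈ aOrd σ w ∧ adamsOp k z - (k : MvPolynomial σ ℤ) ^ w * z ∈ aOrd σ (w + 1) := by
  rw [adamsOp_test k hk]
  have h := psiA_mem_degGE k w (mem_aOrd.mp hz)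
  constructor
  · rw [mem_aOrd, tau_expand]
    exact h.1
  · rw [mem_aOrd, map_sub, map_mul, map_pow, map_natCast, tau_expand]
    exact h.2

/-- `λ^j` preserves the order (`j ≥ 1`) and `(j+1) λ^{j+1}(z) ≡ (-1)^j ψ^{j+1}(z)` modulo order `2w` -/
theorem lam_mem_aOrd (w : ℕ) {z : MvPolynomial σ ℤ} (hz : z ∈ aOrd σ w) :
    ∀ n : ℕ, LambdaOps.lam (n + 1) z ∈ aOrd σ w ∧
      ((n + 1 : ℕ) : MvPolynomial σ ℤ) * LambdaOps.lam (n + 1) z - (-1) ^ n * adamsOp (n + 1) z ∈
        aOrd σ (w + w) := by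
  intro n
  induction n using Nat.strong_induction_on with
  | _ n ih =>
    have hrec := NewtonNu.adamsOp_rec z n
    have hsum : ∑ i ∈ Finset.range n, (-1 : MvPolynomial σ ℤ) ^ (i + 1) * LambdaOps.lam (i + 1) z *
        adamsOp (n - i) z ∈ aOrd σ (w + w) := by
      apply Ideal.sum_mem
      intro i hi
      rw [Finset.mem_range] at hi
      have h1 := (ih i hi).1
      have h2 := (adamsOp_mem_aOrd (n - i) (by omega) w hz).1
      rw [mul_assoc]
      exact Ideal.mul_mem_left _ _ (mul_mem_aOrd h1 h2)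
    have h2 : (-1 : MvPolynomial σ ℤ) ^ n * (-1) ^ n = 1 := by rw [← mul_pow]; simp
    have key : ((n + 1 : ℕ) : MvPolynomial σ ℤ) * LambdaOps.lam (n + 1) z - (-1) ^ n * adamsOp (n + 1) z =
        (-1) ^ n * ∑ i ∈ Finset.range n, (-1 : MvPolynomial σ ℤ) ^ (i + 1) * LambdaOps.lam (i + 1) z *
          adamsOp (n - i) z := by
      rw [hrec]
      push_cast
      linear_combination (-(((n : MvPolynomial σ ℤ) + 1) * LambdaOps.lam (n + 1) z)) * h2
    have hsecond : ((n + 1 : ℕ) : MvPolynomial σ ℤ) * LambdaOps.lam (n + 1) z -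
        (-1) ^ n * adamsOp (n + 1) z ∈ aOrd σ (w + w) := by
      rw [key]
      exact Ideal.mul_mem_left _ _ hsum
    refine ⟨?_, hsecond⟩
    apply mem_aOrd_of_nsmul (Nat.succ_ne_zero n)
    have h3 : ((n + 1 : ℕ) : MvPolynomial σ ℤ) * LambdaOps.lam (n + 1) z =
        (((n + 1 : ℕ) : MvPolynomial σ ℤ) * LambdaOps.lam (n + 1) z - (-1) ^ n * adamsOp (n + 1) z) +
          (-1) ^ n * adamsOp (n + 1) z := by ring
    rw [h3]
    apply Ideal.add_mem
    · exact aOrd_antitone (Nat.le_add_right w w) hsecond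
    · exact Ideal.mul_mem_left _ _ (adamsOp_mem_aOrd (n + 1) (by omega) w hz).1

/-- for `w ≥ 1` and `z` of order `≥ w`: `λ^{n+1}(z) ≡ (-1)^n (n+1)^{w-1} z` modulo order `w + 1` -/
theorem lam_sub_mem_aOrd (w : ℕ) (hw : 1 ≤ w) {z : MvPolynomial σ ℤ} (hz : z ∈ aOrd σ w) (n : ℕ) :
    LambdaOps.lam (n + 1) z - (-1) ^ n * ((n + 1 : ℕ) : MvPolynomial σ ℤ) ^ (w - 1) * z ∈
      aOrd σ (w + 1) := by
  apply mem_aOrd_of_nsmul (Nat.succ_ne_zero n)
  have h1 := (lam_mem_aOrd w hz n).2
  have h2 := (adamsOp_mem_aOrd (n + 1) (by omega) w hz).2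
  have hpow : ((n + 1 : ℕ) : MvPolynomial σ ℤ) ^ w =
      ((n + 1 : ℕ) : MvPolynomial σ ℤ) * ((n + 1 : ℕ) : MvPolynomial σ ℤ) ^ (w - 1) := by
    rw [← pow_succ', Nat.sub_add_cancel hw]
  have e : ((n + 1 : ℕ) : MvPolynomial σ ℤ) *
      (LambdaOps.lam (n + 1) z - (-1) ^ n * ((n + 1 : ℕ) : MvPolynomial σ ℤ) ^ (w - 1) * z) =
      (((n + 1 : ℕ) : MvPolynomial σ ℤ) * LambdaOps.lam (n + 1) z - (-1) ^ n * adamsOp (n + 1) z) +
      (-1) ^ n * (adamsOp (n + 1) z - ((n + 1 : ℕ) : MvPolynomial σ ℤ) ^ w * z) := by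
    rw [hpow]; ring
  rw [e]
  apply Ideal.add_mem
  · exact aOrd_antitone (by omega) h1
  · exact Ideal.mul_mem_left _ _ h2

end TestEstimates

section GammaLine

variable {K : Type u} [CommRing K] [LambdaOps K]

theorem gamma_of_isLineElt (u : K) (hu : IsLineElt u) (k : ℕ) (hk : 1 ≤ k) : gamma k u = u := by
  rw [isLineElt_iff] at hu
  rw [gamma, if_neg (by omega)]
  rw [Finset.sum_eq_single 1]
  · simp [LambdaOps.lam_one]
  · intro j _ hj1
    rcases j with _ | _ | j
    · simp
    · exact absurd rfl hj1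
    · rw [if_neg (by omega), hu (j + 2) (by omega), mul_zero]
  · intro h
    exact absurd (Finset.mem_range.mpr (by omega)) h

theorem gammaSeries_of_isLineElt (u : K) (hu : IsLineElt u) :
    GammaBasic.gammaSeries u * (1 - PowerSeries.X) = 1 + PowerSeries.C (u - 1) * PowerSeries.X := by
  apply PowerSeries.ext
  intro n
  rw [mul_sub, mul_one, map_sub, map_add, PowerSeries.coeff_one, PowerSeries.coeff_C_mul, PowerSeries.coeff_X]
  rcases n with _ | n
  · simp [GammaBasic.coeff_gammaSeries, GammaBasic.gamma_zero_apply]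
  · rw [PowerSeries.coeff_succ_mul_X, GammaBasic.coeff_gammaSeries, GammaBasic.coeff_gammaSeries,
      gamma_of_isLineElt u hu (n + 1) (by omega), if_neg (by omega), zero_add]
    rcases n with _ | n
    · simp [GammaBasic.gamma_zero_apply]
    · rw [gamma_of_isLineElt u hu (n + 1) (by omega), if_neg (by omega), mul_zero, sub_self]

/-- if `1` and `u` are line elements then `γ_t(u - 1) = 1 + (u - 1) t` -/
theorem gammaSeries_sub_one (u : K) (hu : IsLineElt u) (h1 : IsLineElt (1 : K)) :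
    GammaBasic.gammaSeries (u - 1) = 1 + PowerSeries.C (u - 1) * PowerSeries.X := by
  have hadd : GammaBasic.gammaSeries (u - 1) * GammaBasic.gammaSeries 1 = GammaBasic.gammaSeries u := by
    rw [← GammaBasic.gammaSeries_add, sub_add_cancel]
  have h2 := gammaSeries_of_isLineElt 1 h1
  rw [sub_self, map_zero, zero_mul, add_zero] at h2
  calc GammaBasic.gammaSeries (u - 1) =
        GammaBasic.gammaSeries (u - 1) * (GammaBasic.gammaSeries 1 * (1 - PowerSeries.X)) := by rw [h2, mul_one]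
    _ = GammaBasic.gammaSeries u * (1 - PowerSeries.X) := by rw [← mul_assoc, hadd]
    _ = _ := gammaSeries_of_isLineElt u hu

theorem gammaSeries_sum {ι : Type*} (s : Finset ι) (f : ι → K) :
    GammaBasic.gammaSeries (∑ i ∈ s, f i) = ∏ i ∈ s, GammaBasic.gammaSeries (f i) := by
  classical
  induction s using Finset.induction_on with
  | empty => simp [GammaBasic.gammaSeries_zero]
  | insert a s ha ih => rw [Finset.sum_insert ha, Finset.prod_insert ha, GammaBasic.gammaSeries_add, ih]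

theorem coeff_prod_one_add {R : Type*} [CommRing R] {ι : Type*} [DecidableEq ι] (s : Finset ι)
    (u : ι → R) (k : ℕ) :
    PowerSeries.coeff k (∏ a ∈ s, (1 + PowerSeries.C (u a) * PowerSeries.X : PowerSeries R)) =
      ∑ t ∈ s.powersetCard k, ∏ a ∈ t, u a := by
  have h : (∏ a ∈ s, (1 + PowerSeries.C (u a) * PowerSeries.X : PowerSeries R)) =
      ∑ t ∈ s.powerset, PowerSeries.C (∏ a ∈ t, u a) * PowerSeries.X ^ t.card := by
    simp_rw [add_comm (1 : PowerSeries R)]
    rw [Finset.prod_add]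
    apply Finset.sum_congr rfl
    intro t _
    rw [Finset.prod_const_one, mul_one, Finset.prod_mul_distrib, Finset.prod_const, map_prod]
  rw [h, map_sum, Finset.powersetCard_eq_filter, Finset.sum_filter]
  apply Finset.sum_congr rfl
  intro t _
  rw [PowerSeries.coeff_C_mul, PowerSeries.coeff_X_pow]
  split_ifs with h1 h2 h2
  · rw [mul_one]
  · exact absurd h1.symm h2
  · exact absurd h2.symm h1
  · rw [mul_zero]

end GammaLine

section TestPoint

variable (σ : Type v) [Fintype σ] [DecidableEq σ]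

/-- the test point `Σ (T_a - 1)` of augmentation zero -/
noncomputable def x0 : MvPolynomial σ ℤ := ∑ a : σ, (X a - 1)

theorem isLineElt_X (a : σ) : IsLineElt (X a : MvPolynomial σ ℤ) := by
  have h := isLineElt_mon (Finsupp.single a 1)
  exact h

theorem isLineElt_one_test : IsLineElt (1 : MvPolynomial σ ℤ) := by
  have h := isLineElt_mon (0 : σ →₀ ℕ)
  exact h

theorem gamma_x0 (k : ℕ) :
    gamma k (x0 σ) = ∑ t ∈ (Finset.univ : Finset σ).powersetCard k, ∏ a ∈ t, (X a - 1 : MvPolynomial σ ℤ) := by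
  rw [← GammaBasic.coeff_gammaSeries, x0, gammaSeries_sum]
  have h : ∀ a ∈ (Finset.univ : Finset σ), GammaBasic.gammaSeries (X a - 1 : MvPolynomial σ ℤ) =
      1 + PowerSeries.C (X a - 1 : MvPolynomial σ ℤ) * PowerSeries.X := fun a _ =>
    gammaSeries_sub_one _ (isLineElt_X σ a) (isLineElt_one_test σ)
  rw [Finset.prod_congr rfl h, coeff_prod_one_add]

theorem tau_gamma_x0 (k : ℕ) :
    tau σ (gamma k (x0 σ)) = esymm σ ℤ k := by
  rw [gamma_x0, map_sum, esymm]
  apply Finset.sum_congr rfl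
  intro t _
  rw [map_prod]
  apply Finset.prod_congr rfl
  intro a _
  rw [map_sub, tau_X, map_one, add_sub_cancel_right]

theorem gamma_x0_mem_aOrd (k : ℕ) : gamma k (x0 σ) ∈ aOrd σ k := by
  rw [mem_aOrd, tau_gamma_x0]
  intro m hm
  have h := SymWeights.esymm_isWeightedHomogeneous_const (σ := σ) (R := ℤ) (1 : ℕ) k
  have h2 := h (MvPolynomial.mem_support_iff.mp hm)
  rw [Finsupp.degree_eq_weight_one, h2]
  simp

end TestPoint

end Groth.Agent.Lib.Helper24.LamOrd
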