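import Groth.Agent.Lib.Helper20.SpecialOfAdams
import Groth.Agent.Lib.Helper20.GammaBasic
import Mathlib

/-!
# The test λ-rings `ℤ[T_σ]` in which every monomial is a line element (helper24)

`λ_t(Σ c_m T^m) = ∏ (1 + T^m t)^{c_m}`.  Adams operations are `T ↦ T^k`; the ring is special.
-/

set_option autoImplicit false
set_option linter.unusedSectionVars false
universe u v

namespace Groth.Agent.Lib.Helper24.LamTest

open LambdaRing PowerSeries Groth.Agent.Lib.Helper20

section LineUnit

variable {R : Type u} [CommRing R]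

theorem one_add_mul_geom (u : R) :
    (1 + C u * X : PowerSeries R) * mk (fun n => (-u) ^ n) = 1 := by
  have h : (rescale (-u)) ((1 - X) * mk 1 : PowerSeries R) = 1 := by
    rw [mul_comm, mk_one_mul_one_sub_eq_one, map_one]
  rw [map_mul, map_sub, map_one, rescale_X, rescale_mk] at h
  simp only [Pi.one_apply, mul_one, map_neg, neg_mul, sub_neg_eq_add] at h
  exact h

/-- the unit `1 + u t` of the ring of power series -/
noncomputable def lineU (u : R) : (PowerSeries R)ˣ where
  val := 1 + C u * X
  inv := mk (fun n => (-u) ^ n)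
  val_inv := one_add_mul_geom u
  inv_val := by rw [mul_comm]; exact one_add_mul_geom u

@[simp] theorem lineU_val (u : R) : (lineU u : PowerSeries R) = 1 + C u * X := rfl

theorem lineU_inv_val (u : R) : ((lineU u)⁻¹ : (PowerSeries R)ˣ).val = mk (fun n => (-u) ^ n) := rfl

theorem constantCoeff_lineU (u : R) : constantCoeff (lineU u : PowerSeries R) = 1 := by
  simp

/-- units with constant coefficient one -/
def oneUnits (R : Type u) [CommRing R] : Subgroup (PowerSeries R)ˣ where
  carrier := {F | constantCoeff (F : PowerSeries R) = 1}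
  one_mem' := by simp
  mul_mem' := by
    intro a b ha hb
    simp only [Set.mem_ofPred_eq] at ha hb ⊢
    rw [Units.val_mul, map_mul, ha, hb, one_mul]
  inv_mem' := by
    intro a ha
    simp only [Set.mem_ofPred_eq] at ha ⊢
    have h : constantCoeff ((a * a⁻¹ : (PowerSeries R)ˣ) : PowerSeries R) = 1 := by simp
    rw [Units.val_mul, map_mul, ha, one_mul] at h
    exact h

theorem mem_oneUnits (F : (PowerSeries R)ˣ) :
    F ∈ oneUnits R ↔ constantCoeff (F : PowerSeries R) = 1 := Iff.rfl

theorem lineU_mem (u : R) : lineU u ∈ oneUnits R := constantCoeff_lineU u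

/-- on units with constant coefficient one, the coefficient of `t` is additive -/
theorem coeff_one_mul (F G : (PowerSeries R)ˣ) (hF : F ∈ oneUnits R) (hG : G ∈ oneUnits R) :
    coeff 1 ((F * G : (PowerSeries R)ˣ) : PowerSeries R) =
      coeff 1 (F : PowerSeries R) + coeff 1 (G : PowerSeries R) := by
  rw [mem_oneUnits] at hF hG
  rw [Units.val_mul, coeff_mul, Finset.Nat.sum_antidiagonal_eq_sum_range_succ_mk,
    Finset.sum_range_succ, Finset.sum_range_one]
  simp only [Nat.sub_zero, Nat.sub_self]
  rw [coeff_zero_eq_constantCoeff_apply, coeff_zero_eq_constantCoeff_apply, hF, hG]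
  ring

theorem coeff_one_inv (F : (PowerSeries R)ˣ) (hF : F ∈ oneUnits R) :
    coeff 1 ((F⁻¹ : (PowerSeries R)ˣ) : PowerSeries R) = - coeff 1 (F : PowerSeries R) := by
  have h := coeff_one_mul F F⁻¹ hF ((oneUnits R).inv_mem hF)
  rw [mul_inv_cancel, Units.val_one, coeff_one, if_neg one_ne_zero] at h
  linear_combination -h

theorem coeff_one_zpow (F : (PowerSeries R)ˣ) (hF : F ∈ oneUnits R) (c : ℤ) :
    coeff 1 ((F ^ c : (PowerSeries R)ˣ) : PowerSeries R) = c • coeff 1 (F : PowerSeries R) := by
  induction c using Int.induction_on with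
  | zero => simp
  | succ n ih =>
    rw [zpow_add_one, coeff_one_mul _ _ ((oneUnits R).zpow_mem hF _) hF, ih, add_smul, one_smul]
  | pred n ih =>
    rw [zpow_sub_one, coeff_one_mul _ _ ((oneUnits R).zpow_mem hF _) ((oneUnits R).inv_mem hF), ih,
      coeff_one_inv _ hF, sub_smul, one_smul, sub_eq_add_neg]

end LineUnit

section TestRing

open MvPolynomial

variable (σ : Type v)

/-- the monomial `T^m` -/
noncomputable abbrev mon (m : σ →₀ ℕ) : MvPolynomial σ ℤ := monomial m 1

variable {σ}

/-- `λ_t(f) = ∏ (1 + T^m t)^{c_m}` as a unit power series -/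
noncomputable def lamU (f : MvPolynomial σ ℤ) : (PowerSeries (MvPolynomial σ ℤ))ˣ :=
  ∏ m ∈ f.support, lineU (mon σ m) ^ (coeff m f)

theorem lamU_eq_prod_of_subset (f : MvPolynomial σ ℤ) (S : Finset (σ →₀ ℕ)) (hS : f.support ⊆ S) :
    lamU f = ∏ m ∈ S, lineU (mon σ m) ^ (coeff m f) := by
  unfold lamU
  apply Finset.prod_subset hS
  intro m _ hm
  rw [MvPolynomial.notMem_support_iff.mp hm, zpow_zero]

theorem lamU_add (f g : MvPolynomial σ ℤ) : lamU (f + g) = lamU f * lamU g := by
  classical
  rw [lamU_eq_prod_of_subset (f + g) (f.support ∪ g.support) MvPolynomial.support_add,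
    lamU_eq_prod_of_subset f (f.support ∪ g.support) Finset.subset_union_left,
    lamU_eq_prod_of_subset g (f.support ∪ g.support) Finset.subset_union_right,
    ← Finset.prod_mul_distrib]
  apply Finset.prod_congr rfl
  intro m _
  rw [coeff_add, zpow_add]

theorem lamU_zero : lamU (0 : MvPolynomial σ ℤ) = 1 := by
  unfold lamU
  rw [MvPolynomial.support_zero, Finset.prod_empty]

theorem lamU_monomial (m : σ →₀ ℕ) (c : ℤ) : lamU (monomial m c) = lineU (mon σ m) ^ c := by
  classical
  rw [lamU_eq_prod_of_subset (monomial m c) {m} MvPolynomial.support_monomial_subset,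
    Finset.prod_singleton, MvPolynomial.coeff_monomial, if_pos rfl]

theorem lamU_mem (f : MvPolynomial σ ℤ) : lamU f ∈ oneUnits (MvPolynomial σ ℤ) := by
  unfold lamU
  apply Subgroup.prod_mem
  intro m _
  exact Subgroup.zpow_mem _ (lineU_mem _) _

theorem coeff_one_lamU (f : MvPolynomial σ ℤ) :
    PowerSeries.coeff 1 (lamU f : PowerSeries (MvPolynomial σ ℤ)) = f := by
  induction f using MvPolynomial.induction_on' with
  | monomial m c =>
    rw [lamU_monomial, coeff_one_zpow _ (lineU_mem _), lineU_val, map_add, PowerSeries.coeff_one,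
      if_neg one_ne_zero, zero_add, PowerSeries.coeff_C_mul, PowerSeries.coeff_one_X, mul_one,
      zsmul_eq_mul]
    have h : ((c : ℤ) : MvPolynomial σ ℤ) = MvPolynomial.C c := by simp
    rw [h, MvPolynomial.C_mul_monomial, mul_one]
  | add p q hp hq =>
    rw [lamU_add, coeff_one_mul _ _ (lamU_mem p) (lamU_mem q), hp, hq]

variable (σ)

/-- The λ-structure on `ℤ[T_σ]` in which every monomial is a line element. -/
noncomputable scoped instance testOps : LambdaOps (MvPolynomial σ ℤ) where
  lam n f := PowerSeries.coeff n (lamU f : PowerSeries (MvPolynomial σ ℤ))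
  lam_zero f := by
    rw [PowerSeries.coeff_zero_eq_constantCoeff_apply]
    exact lamU_mem f
  lam_one f := coeff_one_lamU f
  lam_add k f g := by
    rw [lamU_add, Units.val_mul, PowerSeries.coeff_mul,
      Finset.Nat.sum_antidiagonal_eq_sum_range_succ_mk]

variable {σ}

theorem lamSeries_test (f : MvPolynomial σ ℤ) :
    lamSeries f = (lamU f : PowerSeries (MvPolynomial σ ℤ)) := by
  apply PowerSeries.ext
  intro n
  rw [LamBasic.coeff_lamSeries]
  rfl

theorem lamSeries_mon (m : σ →₀ ℕ) :
    lamSeries (mon σ m) = 1 + PowerSeries.C (mon σ m) * PowerSeries.X := by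
  rw [lamSeries_test, mon, lamU_monomial, zpow_one, lineU_val]

end TestRing

section LineElements

/-! ### Line elements in an arbitrary pre-λ-ring -/

variable {K : Type u} [CommRing K] [LambdaOps K]

/-- `u` is a line element: `λ_t(u) = 1 + u t`. -/
def IsLineElt (u : K) : Prop := lamSeries u = 1 + PowerSeries.C u * PowerSeries.X

theorem isLineElt_iff (u : K) : IsLineElt u ↔ ∀ n, 2 ≤ n → LambdaOps.lam n u = 0 := by
  unfold IsLineElt
  constructor
  · intro h n hn
    have h1 := congrArg (PowerSeries.coeff n) h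
    rw [LamBasic.coeff_lamSeries] at h1
    rw [h1, map_add, PowerSeries.coeff_one, if_neg (by omega), zero_add, PowerSeries.coeff_C_mul,
      PowerSeries.coeff_X, if_neg (by omega), mul_zero]
  · intro h
    ext n
    rw [LamBasic.coeff_lamSeries, map_add, PowerSeries.coeff_one, PowerSeries.coeff_C_mul,
      PowerSeries.coeff_X]
    rcases n with _ | _ | n
    · simp [LambdaOps.lam_zero]
    · simp [LambdaOps.lam_one]
    · rw [h (n + 2) (by omega)]
      simp

theorem adamsOp_of_isLineElt (u : K) (hu : IsLineElt u) (k : ℕ) (hk : 1 ≤ k) :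
    adamsOp k u = u ^ k := by
  obtain ⟨k, rfl⟩ : ∃ j, k = j + 1 := ⟨k - 1, by omega⟩
  rw [LamBasic.adamsOp_succ]
  have hinv : (lamSeries u).invOfUnit 1 = PowerSeries.mk (fun n => (-u) ^ n) := by
    apply LamBasic.invOfUnit_eq_of_mul_eq_one _ _ (LamBasic.constantCoeff_lamSeries u)
    rw [hu]
    exact one_add_mul_geom u
  have hder : PowerSeries.derivative K (lamSeries u) = PowerSeries.C u := by
    rw [hu, map_add, Derivation.leibniz]
    simp
  unfold logDerivSeries
  rw [hinv, hder, PowerSeries.coeff_C_mul, PowerSeries.coeff_mk]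
  have h2 : (-1 : K) ^ k * (-1) ^ k = 1 := by rw [← mul_pow]; simp
  calc (-1 : K) ^ k * (u * (-u) ^ k) = ((-1) ^ k * (-1) ^ k) * (u * u ^ k) := by
        rw [neg_pow u k]; ring
    _ = u ^ (k + 1) := by rw [h2, one_mul, pow_succ']

end LineElements



section TestSpecial

open MvPolynomial

variable {σ : Type v}

theorem isLineElt_mon (m : σ →₀ ℕ) :
    IsLineElt (mon σ m) := lamSeries_mon m

theorem mon_pow (m : σ →₀ ℕ) (k : ℕ) : (mon σ m) ^ k = expand k (mon σ m) := by
  unfold mon
  rw [MvPolynomial.expand_monomial, MvPolynomial.monomial_pow, one_pow]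

/-- the Adams operations of the test ring are `T ↦ T^k` -/
theorem adamsOp_test (k : ℕ) (hk : 1 ≤ k) (f : MvPolynomial σ ℤ) :
    adamsOp k f = expand k f := by
  let A : MvPolynomial σ ℤ →+ MvPolynomial σ ℤ := AddMonoidHom.mk' (adamsOp k) (LamBasic.adamsOp_add k)
  have hA : ∀ g, A g = adamsOp k g := fun g => rfl
  induction f using MvPolynomial.induction_on' with
  | monomial m c =>
    have h : monomial m c = c • mon σ m := by
      rw [mon, MvPolynomial.smul_monomial, smul_eq_mul, mul_one]
    rw [h, ← hA, map_zsmul, hA, adamsOp_of_isLineElt _ (isLineElt_mon m) k hk, mon_pow, map_zsmul]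
  | add p q hp hq =>
    rw [LamBasic.adamsOp_add, hp, hq, map_add]

theorem isSpecial_test : IsSpecial (MvPolynomial σ ℤ) := by
  apply SpecialOfAdams.isSpecial_of_adamsOp
  · intro n a b h
    have h1 : ((n : MvPolynomial σ ℤ) + 1) ≠ 0 := by
      have : ((n : MvPolynomial σ ℤ) + 1) = ((n + 1 : ℕ) : MvPolynomial σ ℤ) := by push_cast; rfl
      rw [this]
      exact Nat.cast_ne_zero.mpr (Nat.succ_ne_zero n)
    exact mul_left_cancel₀ h1 h
  · intro k hk
    rw [adamsOp_test k hk, map_one]
  · intro k hk x y
    rw [adamsOp_test k hk, adamsOp_test k hk, adamsOp_test k hk, map_mul]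
  · intro k k' hk hk' x
    rw [adamsOp_test k hk, adamsOp_test k' hk', adamsOp_test (k * k') (Nat.mul_pos hk hk'),
      MvPolynomial.expand_mul]

end TestSpecial

end Groth.Agent.Lib.Helper24.LamTest
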