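import Groth.Agent.Lib.Helper24.LamDiv
import Groth.Agent.Lib.Helper24.LamFree1

/-!
# The `λ_{-1}(N)`-twisted γ-filtration (helper24)

For `u = λ_{-1}(N)` with `N` of rank `d ≥ 1` in an augmented λ-algebra, the ideals `u · Fil^{s-d}`
form a multiplicative filtration stable under the λ-operations; `γ^s(x u) ∈ u · Fil^{s-d}`, and the
elements `x u` with `x ∈ Fil^i` are primitive of level `d + i` for it.
-/

set_option autoImplicit false
set_option linter.unusedSectionVars false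
set_option maxHeartbeats 400000
universe u v

namespace Groth.Agent.Lib.Helper24.LamTw

open LambdaRing MvPolynomial Groth.Agent.Lib.Helper20 Groth.Agent.Lib.Helper24.LamTest
  Groth.Agent.Lib.Helper24.LamExpr Groth.Agent.Lib.Helper24.LamOrd
  Groth.Agent.Lib.Helper24.LamUniv1 Groth.Agent.Lib.Helper24.SymTwo
  Groth.Agent.Lib.Helper24.LamHom Groth.Agent.Lib.Helper24.LamUniv2
  Groth.Agent.Lib.Helper24.LamBin Groth.Agent.Lib.Helper24.LamUniv2L
  Groth.Agent.Lib.Helper24.LamFil Groth.Agent.Lib.Helper24.LamGam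
  Groth.Agent.Lib.Helper24.LamDiv Groth.Agent.Lib.Helper24.LamPrim
  Groth.Agent.Lib.Helper24.LamFree1

section ModFil

variable {A : Type v} [CommRing A]

theorem exists_inl_ne_zero {α β : Type*} (m : α ⊕ β →₀ ℕ)
    (h : 1 ≤ Finsupp.weight (xw : α ⊕ β → ℕ) m) : ∃ a, m (Sum.inl a) ≠ 0 := by
  by_contra hcon
  push Not at hcon
  have h0 : Finsupp.weight (xw : α ⊕ β → ℕ) m = 0 := by
    rw [Finsupp.weight_apply]
    apply Finset.sum_eq_zero
    rintro (a | b) _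
    · show m (Sum.inl a) • xw (Sum.inl a) = 0
      rw [hcon a, zero_smul]
    · simp [xw]
  omega

/-- evaluation of a polynomial each of whose monomials contains a "module variable" -/
theorem aeval_mem_mod (Φ : MulFil A) (Ψ : ℕ → Ideal A)
    (hanti : ∀ {a b : ℕ}, a ≤ b → Ψ b ≤ Ψ a)
    {σ : Type*} (f : σ → A) (wt : σ → ℕ) (S : Set σ) (hf : ∀ i, f i ∈ Φ.F (wt i))
    (hfS : ∀ i ∈ S, ∀ (a : ℕ) (y : A), y ∈ Φ.F a → y * f i ∈ Ψ (a + wt i)) (w : ℕ)
    (P : MvPolynomial σ ℤ)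
    (hP : ∀ m ∈ P.support, w ≤ Finsupp.weight wt m ∧ ∃ i ∈ S, m i ≠ 0) :
    aeval f P ∈ Ψ w := by
  classical
  rw [P.as_sum, map_sum]
  refine Ideal.sum_mem _ fun m hm => ?_
  rw [aeval_monomial]
  refine Ideal.mul_mem_left _ _ ?_
  obtain ⟨hw, i, hiS, hi⟩ := hP m hm
  have hle : Finsupp.single i 1 ≤ m := by
    intro j
    by_cases hj : j = i
    · rw [hj, Finsupp.single_eq_same]
      omega
    · rw [Finsupp.single_eq_of_ne hj]
      exact Nat.zero_le _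
  obtain ⟨m', rfl⟩ : ∃ m', m = m' + Finsupp.single i 1 :=
    ⟨m - Finsupp.single i 1, (tsub_add_cancel_of_le hle).symm⟩
  rw [Finsupp.prod_add_index' (fun _ => pow_zero _) (fun _ _ _ => pow_add _ _ _),
    Finsupp.prod_single_index (h := fun i k => f i ^ k) (pow_zero _), pow_one]
  rw [map_add, Finsupp.weight_single, one_smul] at hw
  exact hanti hw (hfS i hiS _ _ (Φ.finsupp_prod_mem f wt hf m'))

/-- the step filtration `⊤ ⊇ J ⊇ J ⊇ ⋯` -/
def stepFil (J : Ideal A) : MulFil A where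
  F := fun k => if k = 0 then ⊤ else J
  zero := if_pos rfl
  anti := by
    intro a b hab
    by_cases ha : a = 0
    · rw [if_pos ha]; exact le_top
    · rw [if_neg ha, if_neg (by omega)]
  mul := by
    intro a b y z hy hz
    by_cases ha : a = 0
    · by_cases hb : b = 0
      · rw [if_pos (by omega)]; trivial
      · rw [if_neg hb] at hz
        rw [if_neg (by omega)]
        exact Ideal.mul_mem_left _ _ hz
    · rw [if_neg ha] at hy
      rw [if_neg (by omega)]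
      exact Ideal.mul_mem_right _ _ hy

theorem stepFil_succ (J : Ideal A) (k : ℕ) : (stepFil J).F (k + 1) = J := by
  show (if k + 1 = 0 then ⊤ else J) = J
  rw [if_neg (Nat.succ_ne_zero k)]

/-- the shifted module filtration `u · F^{k-d}` -/
def shiftMod (Φ : MulFil A) (u : A) (d : ℕ) (k : ℕ) : Ideal A := Ideal.span {u} * Φ.F (k - d)

theorem mem_shiftMod {Φ : MulFil A} {u : A} {d k : ℕ} {z : A} :
    z ∈ shiftMod Φ u d k ↔ ∃ c ∈ Φ.F (k - d), u * c = z :=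
  Ideal.mem_span_singleton_mul

theorem shiftMod_anti (Φ : MulFil A) (u : A) (d : ℕ) {a b : ℕ} (h : a ≤ b) :
    shiftMod Φ u d b ≤ shiftMod Φ u d a :=
  Ideal.mul_mono_right (Φ.anti (by omega))

theorem shiftMod_mod (Φ : MulFil A) (u : A) (d : ℕ) {a b : ℕ} {y z : A} (hy : y ∈ Φ.F a)
    (hz : z ∈ shiftMod Φ u d b) : y * z ∈ shiftMod Φ u d (a + b) := by
  obtain ⟨c, hc, rfl⟩ := mem_shiftMod.mp hz
  refine mem_shiftMod.mpr ⟨y * c, Φ.anti (by omega) (Φ.mul hy hc), by ring⟩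

/-- the twisted filtration: `⊤` in degree `0`, `u · F^{k-d}` in degree `k ≥ 1` -/
def twFil (Φ : MulFil A) (u : A) (d : ℕ) (hu : u ∈ Φ.F d) : MulFil A where
  F := fun k => if k = 0 then ⊤ else shiftMod Φ u d k
  zero := if_pos rfl
  anti := by
    intro a b hab
    by_cases ha : a = 0
    · rw [if_pos ha]; exact le_top
    · rw [if_neg ha, if_neg (by omega)]
      exact shiftMod_anti Φ u d hab
  mul := by
    intro a b y z hy hz
    by_cases ha : a = 0
    · by_cases hb : b = 0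
      · rw [if_pos (by omega)]; trivial
      · rw [if_neg hb] at hz
        rw [if_neg (by omega), ha, zero_add]
        exact Ideal.mul_mem_left _ _ hz
    · rw [if_neg ha] at hy
      by_cases hb : b = 0
      · rw [if_neg (by omega), hb, add_zero]
        exact Ideal.mul_mem_right _ _ hy
      · rw [if_neg hb] at hz
        rw [if_neg (by omega)]
        obtain ⟨c, hc, rfl⟩ := mem_shiftMod.mp hy
        obtain ⟨c', hc', rfl⟩ := mem_shiftMod.mp hz
        refine mem_shiftMod.mpr ⟨u * c * c', ?_, by ring⟩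
        exact Φ.anti (by omega) (Φ.mul (Φ.mul hu hc) hc')

theorem twFil_succ (Φ : MulFil A) (u : A) (d : ℕ) (hu : u ∈ Φ.F d) (k : ℕ) :
    (twFil Φ u d hu).F (k + 1) = shiftMod Φ u d (k + 1) := by
  show (if k + 1 = 0 then ⊤ else shiftMod Φ u d (k + 1)) = _
  rw [if_neg (Nat.succ_ne_zero k)]

theorem twFil_of_pos (Φ : MulFil A) (u : A) (d : ℕ) (hu : u ∈ Φ.F d) {k : ℕ} (hk : 1 ≤ k) :
    (twFil Φ u d hu).F k = shiftMod Φ u d k := by
  show (if k = 0 then ⊤ else shiftMod Φ u d k) = _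
  rw [if_neg (by omega)]

theorem twFil_le (Φ : MulFil A) (u : A) (d : ℕ) (hu : u ∈ Φ.F d) (k : ℕ) :
    (twFil Φ u d hu).F k ≤ Φ.F k := by
  rcases Nat.eq_zero_or_pos k with h0 | hk
  · rw [h0, Φ.zero]; exact le_top
  · rw [twFil_of_pos Φ u d hu hk]
    intro z hz
    obtain ⟨c, hc, rfl⟩ := mem_shiftMod.mp hz
    exact Φ.anti (by omega) (Φ.mul hu hc)

end ModFil

section Stable

variable {A : Type v} [CommRing A] [LambdaOps A]

/-- `λ^{n+1}(u c) ∈ (u) · J` for `c` in a `λ`-stable ideal `J`, when `(u)` is `λ`-stable -/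
theorem lam_mul_mem_mul (UP : UnivPolys) (hA : IsSpecial A) (u : A)
    (hu : ∀ j : ℕ, LambdaOps.lam (j + 1) u ∈ Ideal.span {u}) (J : Ideal A)
    (hJ : ∀ c ∈ J, ∀ j : ℕ, LambdaOps.lam (j + 1) c ∈ J) (c : A) (hc : c ∈ J) (n : ℕ) :
    LambdaOps.lam (n + 1) (u * c) ∈ Ideal.span {u} * J := by
  rw [hA.lam_mul (n + 1) (UP.P (n + 1)) (UP.hP (n + 1))]
  have h := aeval_mem_mod (stepFil J) (fun k => Ideal.span {u} * (stepFil J).F k)
    (fun {a b} hab => Ideal.mul_mono_right ((stepFil J).anti hab))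
    (Sum.elim (fun k : Fin (n + 1) => LambdaOps.lam ((k : ℕ) + 1) u)
      (fun k : Fin (n + 1) => LambdaOps.lam ((k : ℕ) + 1) c))
    (yw : Fin (n + 1) ⊕ Fin (n + 1) → ℕ) (Set.range Sum.inl)
    (by
      rintro (a | b)
      · exact MulFil.mem_zero _ _
      · show _ ∈ (stepFil J).F (0 + 1)
        rw [stepFil_succ]
        exact hJ c hc b)
    (by
      rintro i ⟨a, rfl⟩ k y hy
      show y * LambdaOps.lam ((a : ℕ) + 1) u ∈ Ideal.span {u} * (stepFil J).F (k + 0)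
      rw [add_zero, mul_comm y]
      exact Ideal.mul_mem_mul (hu a) hy)
    1 (UP.P (n + 1))
    (by
      intro m hm
      obtain ⟨hx, hy⟩ := deg_of_isMulPoly (Nat.succ_pos n) (UP.hP (n + 1)) m hm
      obtain ⟨a, ha⟩ := exists_inl_ne_zero m hx
      exact ⟨hy, Sum.inl a, ⟨a, rfl⟩, ha⟩)
  have h2 : (stepFil J).F 1 = J := stepFil_succ J 0
  simp only [h2] at h
  exact h

/-- `λ`-stability of the twisted filtration -/
theorem lam_mem_twFil (UP : UnivPolys) (hA : IsSpecial A) (Φ : MulFil A)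
    (hst : ∀ m : ℕ, ∀ z ∈ Φ.F m, ∀ j : ℕ, LambdaOps.lam (j + 1) z ∈ Φ.F m) (u : A) (d : ℕ)
    (hu : u ∈ Φ.F d) (hul : ∀ j : ℕ, LambdaOps.lam (j + 1) u ∈ Ideal.span {u}) :
    ∀ m : ℕ, ∀ z ∈ (twFil Φ u d hu).F m, ∀ j : ℕ, LambdaOps.lam (j + 1) z ∈ (twFil Φ u d hu).F m := by
  intro m z hz j
  rcases Nat.eq_zero_or_pos m with h0 | hm
  · rw [h0]; exact MulFil.mem_zero _ _
  · rw [twFil_of_pos Φ u d hu hm] at hz ⊢
    obtain ⟨c, hc, rfl⟩ := mem_shiftMod.mp hz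
    exact lam_mul_mem_mul UP hA u hul (Φ.F (m - d)) (hst (m - d)) c hc j

end Stable

section PrimMod

open Groth.Agent.Lib.Helper20.NewtonNu

variable {A : Type v} [CommRing A] [LambdaOps A] (Φ Ψ : MulFil A)

/-- the remainder term, module version -/
theorem aeval_rem_mem_mod (hmod : ∀ {a b : ℕ} {y z : A}, 1 ≤ b → y ∈ Φ.F a → z ∈ Ψ.F b → y * z ∈ Ψ.F (a + b))
    (UP : UnivPolys) (n : ℕ) (f : Fin (n + 1) ⊕ Fin (n + 1) → A) (m1 m2 : ℕ) (hm1 : 1 ≤ m1)
    (h1 : ∀ a, f (Sum.inl a) ∈ Ψ.F m1) (h1' : ∀ a, f (Sum.inl a) ∈ Φ.F m1)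
    (h2 : ∀ b, f (Sum.inr b) ∈ Φ.F m2) :
    aeval f (Rem UP (n + 1)) ∈ Ψ.F (m1 + 2 * m2) := by
  apply aeval_mem_mod Φ Ψ.F (fun {a b} hab => Ψ.anti hab) f (Sum.elim (fun _ => m1) (fun _ => m2))
    (Set.range Sum.inl)
  · rintro (a | b)
    · exact h1' a
    · exact h2 b
  · rintro i ⟨a, rfl⟩ k y hy
    exact hmod hm1 hy (h1 a)
  · intro m hm
    have hx := rem_mem_x UP n m hm
    have hy := rem_mem_y UP n m hm
    obtain ⟨a, ha⟩ := exists_inl_ne_zero m hx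
    refine ⟨?_, Sum.inl a, ⟨a, rfl⟩, ha⟩
    rw [weight_sumElim_const]
    calc m1 + 2 * m2 = m1 * 1 + m2 * 2 := by ring
      _ ≤ _ := Nat.add_le_add (Nat.mul_le_mul_left _ hx) (Nat.mul_le_mul_left _ hy)

/-- products of a `Ψ`-primitive (for `ψ`) and a `Φ`-primitive element -/
theorem prim_mul_mod (hΨΦ : ∀ k, Ψ.F k ≤ Φ.F k)
    (hmod : ∀ {a b : ℕ} {y z : A}, 1 ≤ b → y ∈ Φ.F a → z ∈ Ψ.F b → y * z ∈ Ψ.F (a + b))
    (hstΦ : ∀ m : ℕ, ∀ z ∈ Φ.F m, ∀ j : ℕ, LambdaOps.lam (j + 1) z ∈ Φ.F m)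
    (hstΨ : ∀ m : ℕ, ∀ z ∈ Ψ.F m, ∀ j : ℕ, LambdaOps.lam (j + 1) z ∈ Ψ.F m)
    (UP : UnivPolys) (hA : IsSpecial A) {m1 m2 : ℕ} (hm1 : 1 ≤ m1) (hm2 : 1 ≤ m2) {z1 z2 : A}
    (h1 : PsiPrim Ψ m1 z1) (h2 : Prim Φ m2 z2) : Prim Ψ (m1 + m2) (z1 * z2) := by
  refine ⟨?_, fun j => ?_⟩
  · have h := hmod hm1 h2.1 h1.1
    rwa [mul_comm, add_comm] at h
  rw [lam_mul_eq UP hA j z1 z2]
  have hR := aeval_rem_mem_mod Φ Ψ hmod UP j
    (Sum.elim (fun k : Fin (j + 1) => LambdaOps.lam ((k : ℕ) + 1) z1)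
      (fun k : Fin (j + 1) => LambdaOps.lam ((k : ℕ) + 1) z2)) m1 m2 hm1
    (fun a => hstΨ m1 z1 h1.1 a) (fun a => hΨΦ m1 (hstΨ m1 z1 h1.1 a)) (fun b => hstΦ m2 z2 h2.1 b)
  have hR' := Ψ.anti (show m1 + m2 + 1 ≤ m1 + 2 * m2 by omega) hR
  have ha := hmod (show 1 ≤ m1 + 1 by omega) (hstΦ m2 z2 h2.1 j) (h1.2 j)
  have hb := hmod hm1 (h2.2 j) h1.1
  have ha' : (adamsOp (j + 1) z1 - ((j + 1 : ℕ) : A) ^ m1 * z1) * LambdaOps.lam (j + 1) z2 ∈
      Ψ.F (m1 + m2 + 1) := by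
    have : m2 + (m1 + 1) = m1 + m2 + 1 := by omega
    rwa [this, mul_comm] at ha
  have hb' : z1 * (LambdaOps.lam (j + 1) z2 - (-1) ^ j * ((j + 1 : ℕ) : A) ^ (m2 - 1) * z2) ∈
      Ψ.F (m1 + m2 + 1) := by
    have : m2 + 1 + m1 = m1 + m2 + 1 := by omega
    rwa [this, mul_comm] at hb
  have hp : ((j + 1 : ℕ) : A) ^ (m1 + m2 - 1) = ((j + 1 : ℕ) : A) ^ m1 * ((j + 1 : ℕ) : A) ^ (m2 - 1) := by
    rw [← pow_add]
    congr 1
    omega
  have e : adamsOp (j + 1) z1 * LambdaOps.lam (j + 1) z2 +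
      aeval (Sum.elim (fun k : Fin (j + 1) => LambdaOps.lam ((k : ℕ) + 1) z1)
        (fun k : Fin (j + 1) => LambdaOps.lam ((k : ℕ) + 1) z2)) (Rem UP (j + 1)) -
      (-1) ^ j * ((j + 1 : ℕ) : A) ^ (m1 + m2 - 1) * (z1 * z2) =
      (adamsOp (j + 1) z1 - ((j + 1 : ℕ) : A) ^ m1 * z1) * LambdaOps.lam (j + 1) z2 +
      ((j + 1 : ℕ) : A) ^ m1 *
        (z1 * (LambdaOps.lam (j + 1) z2 - (-1) ^ j * ((j + 1 : ℕ) : A) ^ (m2 - 1) * z2)) +
      aeval (Sum.elim (fun k : Fin (j + 1) => LambdaOps.lam ((k : ℕ) + 1) z1)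
        (fun k : Fin (j + 1) => LambdaOps.lam ((k : ℕ) + 1) z2)) (Rem UP (j + 1)) := by
    rw [hp]
    ring
  rw [e]
  exact Ideal.add_mem _ (Ideal.add_mem _ ha' (Ideal.mul_mem_left _ _ hb')) hR'

end PrimMod

section Transfer

variable {K : Type u} {A : Type v} [CommRing K] [CommRing A] [LambdaOps A] (ε : A →+* K)

/-- **Twisted transfer**: an expression vanishing at the test points with `d` variables in the first
group and of order `≥ w` at those with `d + 1` variables takes values in `γ^{d+1}(y) · Fil^{w-d-1}` -/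
theorem eval_mem_span_mul (UP : UnivPolys) (hA : IsSpecial A) (e : LExpr Bool) (d M w : ℕ)
    (h0 : e.eval (testPt d M) = 0) (hw : e.eval (testPt (d + 1) M) ∈ aOrd (Fin (d + 1) ⊕ Fin M) w)
    (v : Bool → A) (hv0 : ε (v false) = 0) (hv1 : ε (v true) = 0)
    (ht0 : ∀ k, d + 1 < k → gamma k (v false) = 0)
    (ht1 : bound UP e ≤ M ∨ ∀ k, M < k → gamma k (v true) = 0) :
    e.eval v ∈ Ideal.span {gamma (d + 1) (v false)} * gammaFil ε (w - (d + 1)) := by
  obtain ⟨G, hG⟩ := exists_eq_X_mul d M UP e h0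
  have hwt := weight_reprPoly (d + 1) M UP e w hw
  rw [hG] at hwt
  have hGw := weight_of_X_mul (wN2 (d + 1) M) (Sum.inl (Fin.last d)) G w hwt
  have hlast : wN2 (d + 1) M (Sum.inl (Fin.last d)) = d + 1 := by
    simp only [wN2, Sum.elim_inl, Fin.val_last]
  rw [hlast] at hGw
  rw [eval_eq_aeval_reprPoly UP hA e (d + 1) M v (Or.inr ht0) ht1, hG, aevalZ_gam2_X_mul]
  refine Ideal.mul_mem_mul (Ideal.subset_span rfl) ?_
  rw [aevalZ_apply]
  refine (gammaMulFil ε).aeval_mem (gam2 (d + 1) M v) (wN2 (d + 1) M) ?_ G (w - (d + 1)) hGw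
  rintro (j | j)
  · exact gamma_mem_gammaFil ε _ hv0
  · exact gamma_mem_gammaFil ε _ hv1

end Transfer

section TestFacts

variable (d M : ℕ)

theorem eval_uE'_testPt_zero : (uE' (d + 1)).eval (testPt d M) = 0 := by
  rw [eval_uE', gamma_testPt_false_eq_zero d M (d + 1) (Nat.lt_succ_self d), mul_zero]

theorem eval_uE'_testPt_mem :
    (uE' (d + 1)).eval (testPt (d + 1) M) ∈ aOrd (Fin (d + 1) ⊕ Fin M) (d + 1) := by
  rw [eval_uE']
  exact Ideal.mul_mem_left _ _ (gamma_mem_aOrd (testPt_false_mem (d + 1) M) (d + 1))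

/-- the expression `γ^a(Y · (-1)^d γ^d(X))` -/
def gamXE (a d : ℕ) : LExpr Bool := LExpr.gam a (LExpr.mul (LExpr.var true) (uE' d))

/-- the expression `γ^a((-1)^d γ^d(X))` -/
def gamE (a d : ℕ) : LExpr Bool := LExpr.gam a (uE' d)

/-- the expression `λ^{j+1}(u) - (-1)^j (j+1)^{d-1} u`, `u = (-1)^d γ^d(X)` -/
def primE (j d : ℕ) : LExpr Bool :=
  LExpr.sub (LExpr.lam (j + 1) (uE' d))
    (LExpr.mul (LExpr.ofInt ((-1) ^ j * ((j + 1 : ℕ) : ℤ) ^ (d - 1))) (uE' d))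

theorem eval_gamXE {C : Type*} [CommRing C] [LambdaOps C] (a d : ℕ) (w : Bool → C) :
    (gamXE a d).eval w = gamma a (w true * ((-1 : C) ^ d * gamma d (w false))) := by
  rw [gamXE, LExpr.eval_gam, LExpr.eval_mul, LExpr.eval_var, eval_uE']

theorem eval_gamE {C : Type*} [CommRing C] [LambdaOps C] (a d : ℕ) (w : Bool → C) :
    (gamE a d).eval w = gamma a ((-1 : C) ^ d * gamma d (w false)) := by
  rw [gamE, LExpr.eval_gam, eval_uE']

theorem eval_primE {C : Type*} [CommRing C] [LambdaOps C] (j d : ℕ) (w : Bool → C) :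
    (primE j d).eval w = LambdaOps.lam (j + 1) ((-1 : C) ^ d * gamma d (w false)) -
      (-1) ^ j * ((j + 1 : ℕ) : C) ^ (d - 1) * ((-1 : C) ^ d * gamma d (w false)) := by
  rw [primE, LExpr.eval_sub, LExpr.eval_lam, LExpr.eval_mul, LExpr.eval_ofInt, eval_uE']
  push_cast
  rfl

theorem gamXE_zero (a : ℕ) (ha : 1 ≤ a) : (gamXE a (d + 1)).eval (testPt d M) = 0 := by
  rw [gamXE, LExpr.eval_gam, LExpr.eval_mul, eval_uE'_testPt_zero, mul_zero]
  exact GammaBasic.gamma_apply_zero a ha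

theorem gamXE_mem (a : ℕ) :
    (gamXE a (d + 1)).eval (testPt (d + 1) M) ∈ aOrd (Fin (d + 1) ⊕ Fin M) a := by
  rw [gamXE, LExpr.eval_gam, LExpr.eval_mul]
  exact gamma_mem_aOrd (Ideal.mul_mem_left _ _
    (aOrd_antitone (Nat.succ_pos d) (eval_uE'_testPt_mem d M))) a

theorem gamE_zero (a : ℕ) (ha : 1 ≤ a) : (gamE a (d + 1)).eval (testPt d M) = 0 := by
  rw [gamE, LExpr.eval_gam, eval_uE'_testPt_zero]
  exact GammaBasic.gamma_apply_zero a ha

theorem gamE_mem (a : ℕ) :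
    (gamE a (d + 1)).eval (testPt (d + 1) M) ∈ aOrd (Fin (d + 1) ⊕ Fin M) a := by
  rw [gamE, LExpr.eval_gam]
  exact gamma_mem_aOrd (aOrd_antitone (Nat.succ_pos d) (eval_uE'_testPt_mem d M)) a

theorem primE_zero (j : ℕ) : (primE j (d + 1)).eval (testPt d M) = 0 := by
  rw [primE, LExpr.eval_sub, LExpr.eval_lam, LExpr.eval_mul, eval_uE'_testPt_zero, mul_zero, sub_zero]
  exact GammaBasic.lam_apply_zero (j + 1) (Nat.succ_pos j)

theorem primE_mem (j : ℕ) :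
    (primE j (d + 1)).eval (testPt (d + 1) M) ∈ aOrd (Fin (d + 1) ⊕ Fin M) (d + 1 + 1) := by
  have h := lam_sub_mem_aOrd (d + 1) (Nat.succ_pos d) (eval_uE'_testPt_mem d M) j
  rw [primE, LExpr.eval_sub, LExpr.eval_lam, LExpr.eval_mul, LExpr.eval_ofInt]
  rw [Nat.add_sub_cancel] at h ⊢
  have e : (((-1) ^ j * ((j + 1 : ℕ) : ℤ) ^ d : ℤ) : MvPolynomial (Fin (d + 1) ⊕ Fin M) ℤ) =
      (-1) ^ j * ((j + 1 : ℕ) : MvPolynomial (Fin (d + 1) ⊕ Fin M) ℤ) ^ d := by
    push_cast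
    rfl
  rw [e]
  exact h

end TestFacts

section Main

/-- the element `u = (-1)^{d+1} γ^{d+1}(N')` -/
def uu {A : Type v} [CommRing A] [LambdaOps A] (d : ℕ) (N' : A) : A :=
  (-1 : A) ^ (d + 1) * gamma (d + 1) N'

/-- the expression `λ^{j+1}((-1)^d γ^d(X))` -/
def lamE (j d : ℕ) : LExpr Bool := LExpr.lam (j + 1) (uE' d)

variable (K : Type u) [CommRing K] [LambdaOps K] [BinomialRing K] (hKb : IsBinomial K)
  (A : Type v) [CommRing A] [LambdaOps A] [Algebra K A] (hA : IsSpecial A)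
  (ε : A →ₐ[K] K) (hε : IsAugLambdaAlg K A ε)
  (d : ℕ) (N' : A) (hN' : (ε : A →+* K) N' = 0) (ht : ∀ k, d + 1 < k → gamma k N' = 0)

theorem span_uu : Ideal.span {uu d N'} = Ideal.span {gamma (d + 1) N'} :=
  Ideal.span_singleton_mul_left_unit ((isUnit_one.neg).pow (d + 1)) _

include hN' in
theorem uu_mem : uu d N' ∈ (gammaMulFil (ε : A →+* K)).F (d + 1) :=
  Ideal.mul_mem_left _ _ (gamma_mem_gammaFil _ _ hN')

/-- the pair `(N', x)` -/
def pairOf {A : Type v} (N' x : A) : Bool → A := fun b => if b then x else N'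

theorem pairOf_false {A : Type v} (N' x : A) : pairOf N' x false = N' := rfl
theorem pairOf_true {A : Type v} (N' x : A) : pairOf N' x true = x := rfl

theorem lamE_zero (d M j : ℕ) : (lamE j (d + 1)).eval (testPt d M) = 0 := by
  rw [lamE, LExpr.eval_lam, eval_uE'_testPt_zero]
  exact GammaBasic.lam_apply_zero (j + 1) (Nat.succ_pos j)

theorem eval_lamE {C : Type*} [CommRing C] [LambdaOps C] (j d : ℕ) (w : Bool → C) :
    (lamE j d).eval w = LambdaOps.lam (j + 1) ((-1 : C) ^ d * gamma d (w false)) := by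
  rw [lamE, LExpr.eval_lam, eval_uE']

include hA hN' ht in
theorem lam_uu_mem (UP : UnivPolys) (j : ℕ) : LambdaOps.lam (j + 1) (uu d N') ∈ Ideal.span {uu d N'} := by
  have hw : (lamE j (d + 1)).eval (testPt (d + 1) 0) ∈ aOrd (Fin (d + 1) ⊕ Fin 0) 0 := by
    rw [aOrd_zero]
    exact Submodule.mem_top
  have h1 : (ε : A →+* K) (pairOf N' 0 true) = 0 := by
    rw [pairOf_true]
    exact map_zero _
  have h2 : ∀ k, 0 < k → gamma k (pairOf N' (0 : A) true) = 0 := by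
    intro k hk
    rw [pairOf_true]
    exact GammaBasic.gamma_apply_zero k hk
  have h := eval_mem_span_mul (ε : A →+* K) UP hA (lamE j (d + 1)) d 0 0
    (lamE_zero d 0 j) hw (pairOf N' 0) hN' h1 ht (Or.inr h2)
  rw [eval_lamE, pairOf_false, ← span_uu] at h
  obtain ⟨c, -, hc⟩ := Ideal.mem_span_singleton_mul.mp h
  rw [Ideal.mem_span_singleton]
  exact ⟨c, hc.symm⟩

/-- the twisted filtration -/
def Psi : MulFil A :=
  twFil (gammaMulFil (ε : A →+* K)) (uu d N') (d + 1) (uu_mem K A ε d N' hN')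

theorem Psi_of_pos {k : ℕ} (hk : 1 ≤ k) :
    (Psi K A ε d N' hN').F k = Ideal.span {uu d N'} * gammaFil (ε : A →+* K) (k - (d + 1)) :=
  twFil_of_pos _ _ _ _ hk

include hA ht in
theorem Psi_stable (UP : UnivPolys) : ∀ m : ℕ, ∀ z ∈ (Psi K A ε d N' hN').F m, ∀ j : ℕ,
    LambdaOps.lam (j + 1) z ∈ (Psi K A ε d N' hN').F m :=
  lam_mem_twFil UP hA _ (lam_mem_gammaFil (ε : A →+* K) UP hA) _ _ _
    (lam_uu_mem K A hA ε d N' hN' ht UP)

theorem Psi_le (k : ℕ) : (Psi K A ε d N' hN').F k ≤ gammaFil (ε : A →+* K) k :=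
  twFil_le _ _ _ _ k

theorem Psi_mod {a b : ℕ} {y z : A} (hb : 1 ≤ b) (hy : y ∈ (gammaMulFil (ε : A →+* K)).F a)
    (hz : z ∈ (Psi K A ε d N' hN').F b) : y * z ∈ (Psi K A ε d N' hN').F (a + b) := by
  rw [Psi, twFil_of_pos _ _ _ _ hb] at hz
  rw [Psi, twFil_of_pos _ _ _ _ (show 1 ≤ a + b by omega)]
  exact shiftMod_mod _ _ _ hy hz

include hA ht in
theorem gamOrd_uu (UP : UnivPolys) : GamOrd (Psi K A ε d N' hN') (uu d N') := by
  intro k
  rcases Nat.eq_zero_or_pos k with h0 | hk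
  · rw [h0]; exact MulFil.mem_zero _ _
  · rw [Psi_of_pos K A ε d N' hN' hk]
    have h := eval_mem_span_mul (ε : A →+* K) UP hA (gamE k (d + 1)) d 0 k
      (gamE_zero d 0 k hk) (gamE_mem d 0 k)
      (pairOf N' 0) hN' (map_zero _) ht
      (Or.inr fun k hk => GammaBasic.gamma_apply_zero k hk)
    rw [eval_gamE, pairOf_false, ← span_uu] at h
    exact h

include hA ht in
theorem gamOrd_mul_uu (UP : UnivPolys) (x' : A) (hx' : (ε : A →+* K) x' = 0) :
    GamOrd (Psi K A ε d N' hN') (x' * uu d N') := by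
  intro k
  rcases Nat.eq_zero_or_pos k with h0 | hk
  · rw [h0]; exact MulFil.mem_zero _ _
  · rw [Psi_of_pos K A ε d N' hN' hk]
    have h := eval_mem_span_mul (ε : A →+* K) UP hA (gamXE k (d + 1)) d
      (bound UP (gamXE k (d + 1))) k
      (gamXE_zero d _ k hk) (gamXE_mem d _ k)
      (pairOf N' x') hN' hx' ht (Or.inl le_rfl)
    rw [eval_gamXE, pairOf_false, pairOf_true, ← span_uu] at h
    exact h

/-- the decomposition `x = (x - ε x) + ε x` -/
theorem aug_sub (x : A) : (ε : A →+* K) (x - algebraMap K A (ε x)) = 0 := by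
  show ε (x - algebraMap K A (ε x)) = 0
  rw [map_sub, AlgHom.commutes]
  exact sub_self _

include hKb hA hε ht in
theorem gamOrd_all (UP : UnivPolys) (x : A) : GamOrd (Psi K A ε d N' hN') (x * uu d N') := by
  have e : x * uu d N' = (x - algebraMap K A (ε x)) * uu d N' + algebraMap K A (ε x) * uu d N' := by ring
  rw [e]
  exact gamOrd_add _ (gamOrd_mul_uu K A hA ε d N' hN' ht UP _ (aug_sub K A ε x))
    (gamOrd_algebraMap_mul UP hKb hA hε.isLambdaAlg _ (ε x) (gamOrd_uu K A hA ε d N' hN' ht UP))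

include hKb hA hε ht hN' in
/-- **S8695** (core): `γ^p(x u) ∈ u · Fil^{p-d-1}` -/
theorem gamma_mul_uu_mem (UP : UnivPolys) (p : ℕ) (hp : 1 ≤ p) (x : A) :
    ∃ Y ∈ gammaFil (ε : A →+* K) (p - (d + 1)), uu d N' * Y = gamma p (x * uu d N') := by
  have h := gamOrd_all K hKb A hA ε hε d N' hN' ht UP x p
  rw [Psi_of_pos K A ε d N' hN' hp] at h
  exact Ideal.mem_span_singleton_mul.mp h

end Main

section Final

open nonZeroDivisors

variable (K : Type u) [CommRing K] [LambdaOps K] [BinomialRing K] (hKb : IsBinomial K)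
  (A : Type v) [CommRing A] [LambdaOps A] [Algebra K A] (hA : IsSpecial A)
  (ε : A →ₐ[K] K) (hε : IsAugLambdaAlg K A ε)

include hA in
/-- reduction to `N' = N - d` -/
theorem reduce (UP : UnivPolys) (d : ℕ) (N : A)
    (hN : ∀ k : ℕ, d + 1 < k → LambdaOps.lam k N = 0) (hNε : ε N = ((d + 1 : ℕ) : K)) :
    (∑ j ∈ Finset.range (d + 1 + 1), (-1 : A) ^ j * LambdaOps.lam j N) =
        uu d (N - ((d + 1 : ℕ) : A)) ∧
      (ε : A →+* K) (N - ((d + 1 : ℕ) : A)) = 0 ∧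
      ∀ k, d + 1 < k → gamma k (N - ((d + 1 : ℕ) : A)) = 0 := by
  refine ⟨lamNegOne_eq UP hA (d + 1) N hN, ?_, gamma_sub_natCast_eq_zero UP hA (d + 1) N hN⟩
  show ε (N - ((d + 1 : ℕ) : A)) = 0
  rw [map_sub, map_natCast, hNε, sub_self]

include hKb hA hε in
/-- **S8695** -/
theorem gamma_div_mem (UP : UnivPolys) (d : ℕ) (hd : 1 ≤ d) (N : A)
    (hN : ∀ k : ℕ, d < k → LambdaOps.lam k N = 0) (hNε : ε N = (d : K))
    (hnzd : (∑ j ∈ Finset.range (d + 1), (-1 : A) ^ j * LambdaOps.lam j N) ∈ A⁰)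
    (p : ℕ) (hp : 1 ≤ p) (x y : A)
    (hy : y * (∑ j ∈ Finset.range (d + 1), (-1 : A) ^ j * LambdaOps.lam j N) =
      gamma p (x * (∑ j ∈ Finset.range (d + 1), (-1 : A) ^ j * LambdaOps.lam j N))) :
    y ∈ gammaFil (ε : A →+* K) (p - d) := by
  obtain ⟨d0, rfl⟩ : ∃ d0, d = d0 + 1 := ⟨d - 1, by omega⟩
  obtain ⟨hu, hN', ht⟩ := reduce K A hA ε UP d0 N hN hNε
  rw [hu] at hy hnzd
  obtain ⟨Y, hY, hYe⟩ := gamma_mul_uu_mem K hKb A hA ε hε d0 _ hN' ht UP p hp x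
  rw [← hy, mul_comm] at hYe
  rw [← (mul_cancel_right_mem_nonZeroDivisors hnzd).mp hYe]
  exact hY

end Final

section PrimMain

open nonZeroDivisors

variable (K : Type u) [CommRing K] [LambdaOps K] [BinomialRing K] (hKb : IsBinomial K)
  (A : Type v) [CommRing A] [LambdaOps A] [Algebra K A] (hA : IsSpecial A)
  (ε : A →ₐ[K] K) (hε : IsAugLambdaAlg K A ε)
  (d : ℕ) (N' : A) (hN' : (ε : A →+* K) N' = 0) (ht : ∀ k, d + 1 < k → gamma k N' = 0)

include hA ht in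
/-- `u` is primitive of level `d + 1` for the twisted filtration -/
theorem prim_uu (UP : UnivPolys) : Prim (Psi K A ε d N' hN') (d + 1) (uu d N') := by
  constructor
  · rw [Psi_of_pos K A ε d N' hN' (Nat.succ_pos d)]
    refine Ideal.mem_span_singleton_mul.mpr ⟨1, ?_, mul_one _⟩
    rw [Nat.sub_self, gammaFil_zero]
    exact Submodule.mem_top
  · intro j
    rw [Psi_of_pos K A ε d N' hN' (Nat.succ_pos (d + 1))]
    have hw := primE_mem d 0 j
    have h1 : (ε : A →+* K) (pairOf N' 0 true) = 0 := by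
      rw [pairOf_true]
      exact map_zero _
    have h2 : ∀ k, 0 < k → gamma k (pairOf N' (0 : A) true) = 0 := by
      intro k hk
      rw [pairOf_true]
      exact GammaBasic.gamma_apply_zero k hk
    have h := eval_mem_span_mul (ε : A →+* K) UP hA (primE j (d + 1)) d 0 (d + 1 + 1)
      (primE_zero d 0 j) hw (pairOf N' 0) hN' h1 ht (Or.inr h2)
    rw [eval_primE, pairOf_false, ← span_uu] at h
    exact h

include hKb hε in
theorem psiPrim_algebraMap (κ : K) : PsiPrim (Psi K A ε d N' hN') 0 (algebraMap K A κ) := by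
  refine ⟨MulFil.mem_zero _ _, fun j => ?_⟩
  have h : adamsOp (j + 1) (algebraMap K A κ) = algebraMap K A κ := by
    rw [← map_adamsOp (algebraMap K A) (fun n a => hε.isLambdaAlg n a),
      adamsOp_of_isBinomial K hKb (j + 1) (Nat.succ_pos j)]
  rw [h, pow_zero, one_mul, sub_self]
  exact Ideal.zero_mem _

include hKb hA hε ht in
/-- `x u` is primitive of level `d + 1 + i` for `x ∈ Fil^i` -/
theorem prim_mul_uu (UP : UnivPolys) (i : ℕ) (x : A) (hx : x ∈ gammaFil (ε : A →+* K) i) :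
    Prim (Psi K A ε d N' hN') (d + 1 + i) (x * uu d N') := by
  have hst := Psi_stable K A hA ε d N' hN' ht UP
  have hpu := prim_uu K A hA ε d N' hN' ht UP
  rcases Nat.eq_zero_or_pos i with h0 | hi
  · rw [h0, add_zero]
    have e : x * uu d N' = (x - algebraMap K A (ε x)) * uu d N' + algebraMap K A (ε x) * uu d N' := by
      ring
    rw [e]
    refine prim_add _ hst (Nat.succ_pos d) ?_ ?_
    · apply prim_of_mem_succ _ hst
      rw [Psi_of_pos K A ε d N' hN' (Nat.succ_pos (d + 1))]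
      refine Ideal.mem_span_singleton_mul.mpr ⟨x - algebraMap K A (ε x), ?_, mul_comm _ _⟩
      have e2 : d + 1 + 1 - (d + 1) = 1 := by omega
      rw [e2]
      exact mem_gammaFil_one _ (aug_sub K A ε x)
    · have h := prim_mul _ hst UP hA (Nat.succ_pos d) (psiPrim_algebraMap K hKb A ε hε d N' hN' (ε x)) hpu
      rwa [zero_add] at h
  · have h := prim_mul_mod (gammaMulFil (ε : A →+* K)) (Psi K A ε d N' hN')
      (Psi_le K A ε d N' hN') (fun hb hy hz => Psi_mod K A ε d N' hN' hb hy hz)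
      (lam_mem_gammaFil (ε : A →+* K) UP hA) hst UP hA (Nat.succ_pos d) hi
      (psiPrim_of_prim _ hst (Nat.succ_pos d) hpu)
      (prim_of_mem K hKb A hA ε hε UP i hi x hx)
    rwa [mul_comm] at h

include hKb hA hε ht hN' in
/-- **S8696** (core) -/
theorem gamma_mul_uu_sub_mem (UP : UnivPolys) (i : ℕ) (x : A) (hx : x ∈ gammaFil (ε : A →+* K) i) :
    ∃ Y ∈ gammaFil (ε : A →+* K) (i + 1), uu d N' * Y =
      gamma (d + 1 + i) (x * uu d N') -
        (-1 : A) ^ (d + 1 + i - 1) * ((d + 1 + i - 1).factorial : A) * (x * uu d N') := by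
  have h := gamma_sub_mem_of_prim _ (Psi_stable K A hA ε d N' hN' ht UP)
    (show 1 ≤ d + 1 + i by omega) (prim_mul_uu K hKb A hA ε hε d N' hN' ht UP i x hx)
  rw [Psi_of_pos K A ε d N' hN' (Nat.succ_pos (d + 1 + i))] at h
  have e : d + 1 + i + 1 - (d + 1) = i + 1 := by omega
  rw [e] at h
  exact Ideal.mem_span_singleton_mul.mp h

end PrimMain

section Final2

open nonZeroDivisors

variable (K : Type u) [CommRing K] [LambdaOps K] [BinomialRing K] (hKb : IsBinomial K)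
  (A : Type v) [CommRing A] [LambdaOps A] [Algebra K A] (hA : IsSpecial A)
  (ε : A →ₐ[K] K) (hε : IsAugLambdaAlg K A ε)

include hKb hA hε in
/-- **S8696** -/
theorem gamma_div_sub_mem (UP : UnivPolys) (d : ℕ) (hd : 1 ≤ d) (N : A)
    (hN : ∀ k : ℕ, d < k → LambdaOps.lam k N = 0) (hNε : ε N = (d : K))
    (hnzd : (∑ j ∈ Finset.range (d + 1), (-1 : A) ^ j * LambdaOps.lam j N) ∈ A⁰)
    (i : ℕ) (x : A) (hx : x ∈ gammaFil (ε : A →+* K) i) (y : A)
    (hy : y * (∑ j ∈ Finset.range (d + 1), (-1 : A) ^ j * LambdaOps.lam j N) =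
      gamma (d + i) (x * (∑ j ∈ Finset.range (d + 1), (-1 : A) ^ j * LambdaOps.lam j N))) :
    y - (-1 : A) ^ (d + i - 1) * ((d + i - 1).factorial : A) * x ∈ gammaFil (ε : A →+* K) (i + 1) := by
  obtain ⟨d0, rfl⟩ : ∃ d0, d = d0 + 1 := ⟨d - 1, by omega⟩
  obtain ⟨hu, hN', ht⟩ := reduce K A hA ε UP d0 N hN hNε
  rw [hu] at hy hnzd
  obtain ⟨Y, hY, hYe⟩ := gamma_mul_uu_sub_mem K hKb A hA ε hε d0 _ hN' ht UP i x hx
  rw [← hy] at hYe
  have e : Y * uu d0 (N - ((d0 + 1 : ℕ) : A)) =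
      (y - (-1 : A) ^ (d0 + 1 + i - 1) * ((d0 + 1 + i - 1).factorial : A) * x) *
        uu d0 (N - ((d0 + 1 : ℕ) : A)) := by
    rw [mul_comm, hYe]
    ring
  rw [← (mul_cancel_right_mem_nonZeroDivisors hnzd).mp e]
  exact hY

end Final2

end Groth.Agent.Lib.Helper24.LamTw
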