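import Groth.Agent.Lib.Helper24.LamOrd

/-!
# Transfer theorem for one generator (helper24)

A λ-expression in one variable whose value at the test points `Σ (T_a - 1)` vanishes to order `w`
is, in every special λ-ring, an integer polynomial in the `γ^i(x)` all of whose monomials have weight
at least `w`.
-/

set_option autoImplicit false
set_option linter.unusedSectionVars false
universe u v

namespace Groth.Agent.Lib.Helper24.LamUniv1

open LambdaRing MvPolynomial Groth.Agent.Lib.Helper20 Groth.Agent.Lib.Helper24.LamTest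
  Groth.Agent.Lib.Helper24.LamExpr Groth.Agent.Lib.Helper24.LamOrd

section GammaSucc

variable {K : Type u} [CommRing K] [LambdaOps K]

theorem gamma_succ (k : ℕ) (x : K) :
    gamma (k + 1) x = ∑ j ∈ Finset.range (k + 1), (Nat.choose k j : K) * LambdaOps.lam (j + 1) x := by
  rw [gamma, if_neg (Nat.succ_ne_zero k), Finset.sum_range_succ']
  simp

end GammaSucc

section Coords

variable (N : ℕ)

/-- the `γ`-coordinate `Z_k` in terms of the `λ`-coordinates: `Σ_{j ≤ k} C(k, j) Y_j` -/
noncomputable def gamPoly (k : Fin N) : MvPolynomial (Fin N) ℤ :=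
  ∑ j : Fin N, if (j : ℕ) ≤ k then ((Nat.choose k j : ℕ) : MvPolynomial (Fin N) ℤ) * X j else 0

/-- γ-coordinates to λ-coordinates -/
noncomputable def toLam : MvPolynomial (Fin N) ℤ →ₐ[ℤ] MvPolynomial (Fin N) ℤ :=
  aeval (gamPoly N)

variable {N}

theorem aeval_gamPoly {K : Type u} [CommRing K] [LambdaOps K] (x : K) (k : Fin N) :
    aeval (fun i : Fin N => LambdaOps.lam ((i : ℕ) + 1) x) (gamPoly N k) = gamma ((k : ℕ) + 1) x := by
  rw [gamma_succ, gamPoly, map_sum]
  have h1 : ∀ j : Fin N, aeval (fun i : Fin N => LambdaOps.lam ((i : ℕ) + 1) x)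
      (if (j : ℕ) ≤ k then ((Nat.choose k j : ℕ) : MvPolynomial (Fin N) ℤ) * X j else 0) =
      (fun j : ℕ => if j ≤ k then (Nat.choose k j : K) * LambdaOps.lam (j + 1) x else 0) (j : ℕ) := by
    intro j
    split_ifs with h
    · rw [map_mul, map_natCast, aeval_X]
      exact (if_pos h).symm
    · rw [map_zero]
      exact (if_neg h).symm
  rw [Finset.sum_congr rfl (fun j _ => h1 j),
    Fin.sum_univ_eq_sum_range (fun j : ℕ => if j ≤ k then (Nat.choose k j : K) * LambdaOps.lam (j + 1) x else 0) N,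
    ← Finset.sum_filter]
  apply Finset.sum_congr
  · ext j
    simp only [Finset.mem_filter, Finset.mem_range]
    have := k.2
    omega
  · intro j _
    rfl

theorem aeval_toLam {K : Type u} [CommRing K] [LambdaOps K] (x : K) (q : MvPolynomial (Fin N) ℤ) :
    aeval (fun i : Fin N => LambdaOps.lam ((i : ℕ) + 1) x) (toLam N q) =
      aeval (fun i : Fin N => gamma ((i : ℕ) + 1) x) q := by
  have h := aeval_bind₁ (fun i : Fin N => LambdaOps.lam ((i : ℕ) + 1) x) (gamPoly N) q
  refine h.trans ?_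
  exact congrArg (fun g => aeval g q) (funext fun k => aeval_gamPoly x k)

theorem gamPoly_eq (k : Fin N) :
    gamPoly N k = X k + ∑ j : Fin N, if (j : ℕ) < k then
      ((Nat.choose k j : ℕ) : MvPolynomial (Fin N) ℤ) * X j else 0 := by
  classical
  rw [gamPoly, ← Finset.add_sum_erase _ _ (Finset.mem_univ k), if_pos le_rfl, Nat.choose_self,
    Nat.cast_one, one_mul, ← Finset.add_sum_erase Finset.univ (fun j : Fin N => if (j : ℕ) < k then
      ((Nat.choose k j : ℕ) : MvPolynomial (Fin N) ℤ) * X j else 0) (Finset.mem_univ k),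
    if_neg (lt_irrefl _), zero_add]
  congr 1
  apply Finset.sum_congr rfl
  intro j hj
  have hne : j ≠ k := (Finset.mem_erase.mp hj).1
  have hne' : (j : ℕ) ≠ k := fun h => hne (Fin.ext h)
  by_cases h : (j : ℕ) ≤ k
  · rw [if_pos h, if_pos (lt_of_le_of_ne h hne')]
  · rw [if_neg h, if_neg (fun h' => h (le_of_lt h'))]

theorem toLam_surjective : Function.Surjective (toLam N) := by
  have hX : ∀ n : ℕ, ∀ k : Fin N, (k : ℕ) = n → (X k : MvPolynomial (Fin N) ℤ) ∈ (toLam N).range := by
    intro n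
    induction n using Nat.strong_induction_on with
    | _ n ih =>
      intro k hk
      have h1 : toLam N (X k) = gamPoly N k := by simp [toLam]
      have h2 : (X k : MvPolynomial (Fin N) ℤ) = toLam N (X k) - ∑ j : Fin N, if (j : ℕ) < k then
          ((Nat.choose k j : ℕ) : MvPolynomial (Fin N) ℤ) * X j else 0 := by
        rw [h1, gamPoly_eq]; ring
      rw [h2]
      apply Subalgebra.sub_mem
      · exact ⟨_, rfl⟩
      · apply Subalgebra.sum_mem
        intro j _
        split_ifs with h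
        · apply Subalgebra.mul_mem
          · exact Subalgebra.natCast_mem _ _
          · exact ih j (by omega) j rfl
        · exact Subalgebra.zero_mem _
  have htop : (toLam N).range = ⊤ := by
    rw [eq_top_iff, ← MvPolynomial.adjoin_range_X]
    apply Algebra.adjoin_le
    rintro _ ⟨k, rfl⟩
    exact hX k k rfl
  intro f
  have : f ∈ (toLam N).range := htop ▸ Algebra.mem_top
  exact this

end Coords

section Transfer

/-- the weights `i ↦ i + 1` of the `γ`-coordinates -/
def wN (N : ℕ) : Fin N → ℕ := fun i => (i : ℕ) + 1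

theorem esymm_aeval_injective (N : ℕ) (q : MvPolynomial (Fin N) ℤ)
    (h : aeval (fun i : Fin N => esymm (Fin N) ℤ ((i : ℕ) + 1)) q = 0) : q = 0 := by
  have hinj := MvPolynomial.esymmAlgHom_fin_injective ℤ (le_refl N)
  apply hinj
  rw [map_zero]
  apply Subtype.ext
  rw [MvPolynomial.esymmAlgHom_apply]
  exact h

/-- if `q(e_1, …, e_N)` has all monomials of degree `≥ w` then `q` has all monomials of weight `≥ w` -/
theorem weight_ge_of_aeval_esymm_mem (N w : ℕ) (q : MvPolynomial (Fin N) ℤ)
    (h : aeval (fun i : Fin N => esymm (Fin N) ℤ ((i : ℕ) + 1)) q ∈ degGE (Fin N) w) :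
    ∀ m ∈ q.support, w ≤ Finsupp.weight (wN N) m := by
  classical
  intro m hm
  by_contra hlt
  push Not at hlt
  obtain ⟨d, hd⟩ : ∃ d, d = Finsupp.weight (wN N) m := ⟨_, rfl⟩
  have hg : ∀ i : Fin N, IsWeightedHomogeneous (fun _ : Fin N => (1 : ℕ))
      (esymm (Fin N) ℤ ((i : ℕ) + 1)) (wN N i) := by
    intro i
    have := SymWeights.esymm_isWeightedHomogeneous_const (σ := Fin N) (R := ℤ) (1 : ℕ) ((i : ℕ) + 1)
    simpa [wN] using this
  have hcomp := SymWeights.aeval_weightedHomogeneousComponent (wN N) (fun _ : Fin N => (1 : ℕ))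
    (fun i : Fin N => esymm (Fin N) ℤ ((i : ℕ) + 1)) hg d q
  have hzero : weightedHomogeneousComponent (fun _ : Fin N => (1 : ℕ)) d
      (aeval (fun i : Fin N => esymm (Fin N) ℤ ((i : ℕ) + 1)) q) = 0 := by
    ext m'
    rw [coeff_weightedHomogeneousComponent, coeff_zero]
    split_ifs with hw
    · by_contra hne
      have hm' := h m' (MvPolynomial.mem_support_iff.mpr hne)
      rw [Finsupp.degree_eq_weight_one, hw] at hm'
      omega
    · rfl
  rw [hzero] at hcomp
  have hq := esymm_aeval_injective N _ hcomp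
  have hc := congrArg (coeff m) hq
  rw [coeff_weightedHomogeneousComponent, if_pos hd.symm, coeff_zero] at hc
  exact (MvPolynomial.mem_support_iff.mp hm) hc

theorem tau_aeval_gamma_x0 (N : ℕ) (q : MvPolynomial (Fin N) ℤ) :
    tau (Fin N) (aeval (fun i : Fin N => gamma ((i : ℕ) + 1) (x0 (Fin N))) q) =
      aeval (fun i : Fin N => esymm (Fin N) ℤ ((i : ℕ) + 1)) q := by
  induction q using MvPolynomial.induction_on with
  | C a => rw [aeval_C, aeval_C, AlgHom.commutes]
  | add p q hp hq => rw [map_add, map_add, map_add, hp, hq]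
  | mul_X p i hp =>
    rw [map_mul, map_mul, map_mul, hp, aeval_X, aeval_X, tau_gamma_x0]

/-- **Transfer theorem (one generator).** -/
theorem transfer1 (UP : UnivPolys) (e : LExpr Unit) (w : ℕ)
    (h : ∀ N : ℕ, e.eval (fun _ => x0 (Fin N)) ∈ aOrd (Fin N) w) :
    ∃ (N : ℕ) (q : MvPolynomial (Fin N) ℤ), (∀ m ∈ q.support, w ≤ Finsupp.weight (wN N) m) ∧
      ∀ {B : Type v} [CommRing B] [LambdaOps B], IsSpecial B → ∀ x : B,
        e.eval (fun _ => x) = aeval (fun i : Fin N => gamma ((i : ℕ) + 1) x) q := by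
  classical
  obtain ⟨F, hF⟩ : ∃ F, F = polyOf UP e := ⟨_, rfl⟩
  obtain ⟨N, hN⟩ : ∃ N : ℕ, ∀ p ∈ F.vars, p.2 < N :=
    ⟨F.vars.sup (fun p => p.2 + 1), fun p hp =>
      Nat.lt_of_succ_le (Finset.le_sup (f := fun p : Unit × ℕ => p.2 + 1) hp)⟩
  let f : Fin N → Unit × ℕ := fun i => ((), (i : ℕ))
  have hf : Function.Injective f := by
    intro i j hij
    exact Fin.ext (congrArg Prod.snd hij)
  obtain ⟨F', hF'⟩ := MvPolynomial.exists_rename_eq_of_vars_subset_range F f hf (by
    intro p hp
    exact ⟨⟨p.2, hN p hp⟩, rfl⟩)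
  obtain ⟨q, hq⟩ := toLam_surjective F'
  have hev : ∀ {B : Type v} [CommRing B] [LambdaOps B], IsSpecial B → ∀ x : B,
      e.eval (fun _ => x) = aeval (fun i : Fin N => gamma ((i : ℕ) + 1) x) q := by
    intro B _ _ hB x
    rw [eval_eq_aeval UP hB, ← hF, ← hF', aeval_rename, ← aeval_toLam, hq]
    rfl
  have hev0 : ∀ {B : Type} [CommRing B] [LambdaOps B], IsSpecial B → ∀ x : B,
      e.eval (fun _ => x) = aeval (fun i : Fin N => gamma ((i : ℕ) + 1) x) q := by
    intro B _ _ hB x
    rw [eval_eq_aeval UP hB, ← hF, ← hF', aeval_rename, ← aeval_toLam, hq]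
    rfl
  refine ⟨N, q, ?_, hev⟩
  apply weight_ge_of_aeval_esymm_mem
  have h1 := h N
  rw [hev0 isSpecial_test, mem_aOrd] at h1
  rw [← tau_aeval_gamma_x0 N q]
  exact h1

end Transfer

end Groth.Agent.Lib.Helper24.LamUniv1
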