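import Groth.Agent.Lib.Helper24.LamUniv1

/-!
# Symmetric polynomials in two families of variables of sizes `N₁`, `N₂` (helper24)

Adapted from helper20's `SymFT` (equal sizes) to unequal sizes, with the weight statement.
-/

set_option autoImplicit false
set_option linter.unusedSectionVars false

namespace Groth.Agent.Lib.Helper24.SymTwo

open MvPolynomial Groth.Agent.Lib.Helper20 Groth.Agent.Lib.Helper24.LamOrd

variable (N1 N2 : ℕ)

/-- `k`-th elementary symmetric polynomial in the first family of variables -/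
noncomputable def eT (k : ℕ) : MvPolynomial (Fin N1 ⊕ Fin N2) ℤ :=
  rename Sum.inl (esymm (Fin N1) ℤ k)

/-- `k`-th elementary symmetric polynomial in the second family of variables -/
noncomputable def eU (k : ℕ) : MvPolynomial (Fin N1 ⊕ Fin N2) ℤ :=
  rename Sum.inr (esymm (Fin N2) ℤ k)

/-- substitution `X_k ↦ e_k(T)`, `Y_k ↦ e_k(U)` -/
noncomputable def Phi2 :
    MvPolynomial (Fin N1 ⊕ Fin N2) ℤ →ₐ[ℤ] MvPolynomial (Fin N1 ⊕ Fin N2) ℤ :=
  aeval (Sum.elim (fun k : Fin N1 => eT N1 N2 ((k : ℕ) + 1)) (fun k : Fin N2 => eU N1 N2 ((k : ℕ) + 1)))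

/-- one family -/
noncomputable def epsU (N : ℕ) : MvPolynomial (Fin N) ℤ →ₐ[ℤ] MvPolynomial (Fin N) ℤ :=
  aeval (fun j : Fin N => esymm (Fin N) ℤ ((j : ℕ) + 1))

theorem epsU_injective (N : ℕ) : Function.Injective (epsU N) := by
  intro p q hpq
  apply esymmAlgHom_fin_injective ℤ (le_refl N)
  apply Subtype.ext
  rw [esymmAlgHom_apply, esymmAlgHom_apply]
  exact hpq

/-- the iterated polynomial ring -/
abbrev It := MvPolynomial (Fin N1) (MvPolynomial (Fin N2) ℤ)

/-- `X_k ↦ e_k(T)` over the coefficient ring `ℤ[U]` -/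
noncomputable def aevE : It N1 N2 →ₐ[MvPolynomial (Fin N2) ℤ] It N1 N2 :=
  aeval (fun i : Fin N1 => esymm (Fin N1) (MvPolynomial (Fin N2) ℤ) ((i : ℕ) + 1))

theorem aevE_injective : Function.Injective (aevE N1 N2) := by
  intro p q hpq
  apply esymmAlgHom_fin_injective (MvPolynomial (Fin N2) ℤ) (le_refl N1)
  apply Subtype.ext
  rw [esymmAlgHom_apply, esymmAlgHom_apply]
  exact hpq

/-- the two-step substitution -/
noncomputable def Psi : It N1 N2 →+* It N1 N2 :=
  (aevE N1 N2).toRingHom.comp (MvPolynomial.map (epsU N2).toRingHom)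

theorem Psi_injective : Function.Injective (Psi N1 N2) := by
  intro p q hpq
  have h1 : aevE N1 N2 (MvPolynomial.map (epsU N2).toRingHom p) =
      aevE N1 N2 (MvPolynomial.map (epsU N2).toRingHom q) := hpq
  exact MvPolynomial.map_injective _ (epsU_injective N2) (aevE_injective N1 N2 h1)

/-- the iteration isomorphism -/
noncomputable abbrev A : MvPolynomial (Fin N1 ⊕ Fin N2) ℤ ≃ₐ[ℤ] It N1 N2 :=
  sumAlgEquiv ℤ (Fin N1) (Fin N2)

theorem A_X_inl (k : Fin N1) : A N1 N2 (X (Sum.inl k)) = X k := sumAlgEquiv_X_inl ..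

theorem A_X_inr (k : Fin N2) : A N1 N2 (X (Sum.inr k)) = C (X k) := sumAlgEquiv_X_inr ..

theorem A_eT (k : ℕ) : A N1 N2 (eT N1 N2 k) = esymm (Fin N1) (MvPolynomial (Fin N2) ℤ) k := by
  simp only [eT, esymm, map_sum, map_prod, rename_X, sumAlgEquiv_X_inl]

theorem A_eU (k : ℕ) : A N1 N2 (eU N1 N2 k) = C (esymm (Fin N2) ℤ k) := by
  simp only [eU, esymm, map_sum, map_prod, rename_X, sumAlgEquiv_X_inr]

theorem A_Phi2 (P : MvPolynomial (Fin N1 ⊕ Fin N2) ℤ) :
    A N1 N2 (Phi2 N1 N2 P) = Psi N1 N2 (A N1 N2 P) := by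
  have h : (A N1 N2).toAlgHom.toRingHom.comp (Phi2 N1 N2).toRingHom =
      (Psi N1 N2).comp (A N1 N2).toAlgHom.toRingHom := by
    apply MvPolynomial.ringHom_ext
    · intro r
      rw [eq_intCast (C : ℤ →+* MvPolynomial (Fin N1 ⊕ Fin N2) ℤ) r]
      simp only [map_intCast]
    · intro i
      rcases i with k | k
      · show A N1 N2 (Phi2 N1 N2 (X (Sum.inl k))) = Psi N1 N2 (A N1 N2 (X (Sum.inl k)))
        rw [Phi2, aeval_X, Sum.elim_inl, A_eT, A_X_inl]
        show _ = aevE N1 N2 (MvPolynomial.map (epsU N2).toRingHom (X k))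
        rw [map_X, aevE, aeval_X]
      · show A N1 N2 (Phi2 N1 N2 (X (Sum.inr k))) = Psi N1 N2 (A N1 N2 (X (Sum.inr k)))
        rw [Phi2, aeval_X, Sum.elim_inr, A_eU, A_X_inr]
        show _ = aevE N1 N2 (MvPolynomial.map (epsU N2).toRingHom (C (X k)))
        rw [map_C, aevE, aeval_C, algebraMap_eq]
        show _ = C (epsU N2 (X k))
        rw [epsU, aeval_X]
  exact RingHom.congr_fun h P

theorem Phi2_injective : Function.Injective (Phi2 N1 N2) := by
  intro p q hpq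
  have h1 : Psi N1 N2 (A N1 N2 p) = Psi N1 N2 (A N1 N2 q) := by
    rw [← A_Phi2, ← A_Phi2, hpq]
  exact (A N1 N2).injective (Psi_injective N1 N2 h1)

theorem A_rename_left (σ : Equiv.Perm (Fin N1)) (g : MvPolynomial (Fin N1 ⊕ Fin N2) ℤ) :
    A N1 N2 (rename (Sum.map σ id) g) = rename σ (A N1 N2 g) := by
  have h : (A N1 N2).toAlgHom.toRingHom.comp
        (rename (Sum.map σ id) : MvPolynomial (Fin N1 ⊕ Fin N2) ℤ →ₐ[ℤ] _).toRingHom =
      (rename σ : It N1 N2 →ₐ[MvPolynomial (Fin N2) ℤ] It N1 N2).toRingHom.comp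
        (A N1 N2).toAlgHom.toRingHom := by
    apply MvPolynomial.ringHom_ext
    · intro r
      rw [eq_intCast (C : ℤ →+* MvPolynomial (Fin N1 ⊕ Fin N2) ℤ) r]
      simp only [map_intCast]
    · intro i
      rcases i with k | k
      · show A N1 N2 (rename (Sum.map σ id) (X (Sum.inl k))) = rename σ (A N1 N2 (X (Sum.inl k)))
        rw [rename_X, Sum.map_inl, A_X_inl, A_X_inl, rename_X]
      · show A N1 N2 (rename (Sum.map σ id) (X (Sum.inr k))) = rename σ (A N1 N2 (X (Sum.inr k)))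
        rw [rename_X, Sum.map_inr, id_eq, A_X_inr, rename_C]
  exact RingHom.congr_fun h g

theorem A_rename_right (τ : Equiv.Perm (Fin N2)) (g : MvPolynomial (Fin N1 ⊕ Fin N2) ℤ) :
    A N1 N2 (rename (Sum.map id τ) g) =
      MvPolynomial.map (rename τ : MvPolynomial (Fin N2) ℤ →ₐ[ℤ] _).toRingHom (A N1 N2 g) := by
  have h : (A N1 N2).toAlgHom.toRingHom.comp
        (rename (Sum.map id τ) : MvPolynomial (Fin N1 ⊕ Fin N2) ℤ →ₐ[ℤ] _).toRingHom =
      (MvPolynomial.map (rename τ : MvPolynomial (Fin N2) ℤ →ₐ[ℤ] _).toRingHom).comp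
        (A N1 N2).toAlgHom.toRingHom := by
    apply MvPolynomial.ringHom_ext
    · intro r
      rw [eq_intCast (C : ℤ →+* MvPolynomial (Fin N1 ⊕ Fin N2) ℤ) r]
      simp only [map_intCast]
    · intro i
      rcases i with k | k
      · show A N1 N2 (rename (Sum.map id τ) (X (Sum.inl k))) =
          MvPolynomial.map (rename τ : MvPolynomial (Fin N2) ℤ →ₐ[ℤ] _).toRingHom
            (A N1 N2 (X (Sum.inl k)))
        rw [rename_X, Sum.map_inl, id_eq, A_X_inl, map_X]
      · show A N1 N2 (rename (Sum.map id τ) (X (Sum.inr k))) =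
          MvPolynomial.map (rename τ : MvPolynomial (Fin N2) ℤ →ₐ[ℤ] _).toRingHom
            (A N1 N2 (X (Sum.inr k)))
        rw [rename_X, Sum.map_inr, A_X_inr, A_X_inr, map_C]
        show _ = C (rename τ (X k))
        rw [rename_X]
  exact RingHom.congr_fun h g

theorem map_aevE (φ : MvPolynomial (Fin N2) ℤ →+* MvPolynomial (Fin N2) ℤ) (Q : It N1 N2) :
    MvPolynomial.map φ (aevE N1 N2 Q) = aevE N1 N2 (MvPolynomial.map φ Q) := by
  have h : (MvPolynomial.map φ).comp (aevE N1 N2).toRingHom =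
      (aevE N1 N2).toRingHom.comp (MvPolynomial.map φ) := by
    apply MvPolynomial.ringHom_ext
    · intro r
      simp only [RingHom.comp_apply, AlgHom.toRingHom_eq_coe, RingHom.coe_coe, aevE, aeval_C,
        algebraMap_eq, map_C]
    · intro i
      simp only [RingHom.comp_apply, AlgHom.toRingHom_eq_coe, RingHom.coe_coe, aevE, aeval_X,
        map_esymm, map_X]
  exact RingHom.congr_fun h Q

/-- two-family fundamental theorem: existence -/
theorem exists_Phi2_eq (f : MvPolynomial (Fin N1 ⊕ Fin N2) ℤ)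
    (hT : ∀ σ : Equiv.Perm (Fin N1), rename (Sum.map σ id) f = f)
    (hU : ∀ τ : Equiv.Perm (Fin N2), rename (Sum.map id τ) f = f) :
    ∃ P : MvPolynomial (Fin N1 ⊕ Fin N2) ℤ, Phi2 N1 N2 P = f := by
  have hsym : (A N1 N2 f).IsSymmetric := by
    intro σ
    rw [← A_rename_left, hT]
  obtain ⟨Q, hQ⟩ := (esymmAlgHom_fin_bijective (MvPolynomial (Fin N2) ℤ) N1).2 ⟨A N1 N2 f, hsym⟩
  have hQ' : aevE N1 N2 Q = A N1 N2 f := by
    have := congrArg Subtype.val hQ
    rw [esymmAlgHom_apply] at this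
    exact this
  have hcoeff : ∀ m : Fin N1 →₀ ℕ, (coeff m Q).IsSymmetric := by
    intro m τ
    have h1 : aevE N1 N2 (MvPolynomial.map (rename τ : MvPolynomial (Fin N2) ℤ →ₐ[ℤ] _).toRingHom Q) =
        aevE N1 N2 Q := by
      rw [← map_aevE, hQ', ← A_rename_right, hU]
    have h2 := aevE_injective N1 N2 h1
    have h3 := congrArg (coeff m) h2
    rw [coeff_map] at h3
    exact h3
  have hR : ∀ m : Fin N1 →₀ ℕ, ∃ Rm : MvPolynomial (Fin N2) ℤ, epsU N2 Rm = coeff m Q := by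
    intro m
    obtain ⟨Rm, hRm⟩ := (esymmAlgHom_fin_bijective ℤ N2).2 ⟨coeff m Q, hcoeff m⟩
    refine ⟨Rm, ?_⟩
    have := congrArg Subtype.val hRm
    rw [esymmAlgHom_apply] at this
    exact this
  choose Rm hRm using hR
  let Qt : It N1 N2 := ∑ m ∈ Q.support, monomial m (Rm m)
  have hQt : MvPolynomial.map (epsU N2).toRingHom Qt = Q := by
    simp only [Qt, map_sum, map_monomial, AlgHom.toRingHom_eq_coe, RingHom.coe_coe, hRm]
    exact Q.support_sum_monomial_coeff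
  refine ⟨(A N1 N2).symm Qt, ?_⟩
  apply (A N1 N2).injective
  rw [A_Phi2, AlgEquiv.apply_symm_apply]
  show aevE N1 N2 (MvPolynomial.map (epsU N2).toRingHom Qt) = A N1 N2 f
  rw [hQt, hQ']

/-! ### Weights -/

/-- the weights of the coordinates: `X_k`, `Y_k` have weight `k` -/
def wN2 : Fin N1 ⊕ Fin N2 → ℕ := Sum.elim (fun i => (i : ℕ) + 1) (fun i => (i : ℕ) + 1)

theorem eT_isWeightedHomogeneous (k : ℕ) :
    IsWeightedHomogeneous (fun _ : Fin N1 ⊕ Fin N2 => (1 : ℕ)) (eT N1 N2 k) k := by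
  have h1 : eT N1 N2 k = aeval (fun a : Fin N1 => (X (Sum.inl a) : MvPolynomial (Fin N1 ⊕ Fin N2) ℤ))
      (esymm (Fin N1) ℤ k) := by
    simp only [eT, esymm, map_sum, map_prod, rename_X, aeval_X]
  rw [h1]
  have h2 := SymWeights.aeval_isWeightedHomogeneous (fun _ : Fin N1 => (1 : ℕ))
    (fun _ : Fin N1 ⊕ Fin N2 => (1 : ℕ))
    (fun a : Fin N1 => (X (Sum.inl a) : MvPolynomial (Fin N1 ⊕ Fin N2) ℤ))
    (fun a => isWeightedHomogeneous_X ℤ (fun _ : Fin N1 ⊕ Fin N2 => (1 : ℕ)) (Sum.inl a))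
    (SymWeights.esymm_isWeightedHomogeneous_const (σ := Fin N1) (R := ℤ) (1 : ℕ) k)
  simpa using h2

theorem eU_isWeightedHomogeneous (k : ℕ) :
    IsWeightedHomogeneous (fun _ : Fin N1 ⊕ Fin N2 => (1 : ℕ)) (eU N1 N2 k) k := by
  have h1 : eU N1 N2 k = aeval (fun a : Fin N2 => (X (Sum.inr a) : MvPolynomial (Fin N1 ⊕ Fin N2) ℤ))
      (esymm (Fin N2) ℤ k) := by
    simp only [eU, esymm, map_sum, map_prod, rename_X, aeval_X]
  rw [h1]
  have h2 := SymWeights.aeval_isWeightedHomogeneous (fun _ : Fin N2 => (1 : ℕ))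
    (fun _ : Fin N1 ⊕ Fin N2 => (1 : ℕ))
    (fun a : Fin N2 => (X (Sum.inr a) : MvPolynomial (Fin N1 ⊕ Fin N2) ℤ))
    (fun a => isWeightedHomogeneous_X ℤ (fun _ : Fin N1 ⊕ Fin N2 => (1 : ℕ)) (Sum.inr a))
    (SymWeights.esymm_isWeightedHomogeneous_const (σ := Fin N2) (R := ℤ) (1 : ℕ) k)
  simpa using h2

/-- if `q(e(T), e(U))` has all monomials of degree `≥ w` then `q` has all monomials of weight `≥ w` -/
theorem weight_ge_of_Phi2_mem (w : ℕ) (q : MvPolynomial (Fin N1 ⊕ Fin N2) ℤ)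
    (h : Phi2 N1 N2 q ∈ degGE (Fin N1 ⊕ Fin N2) w) :
    ∀ m ∈ q.support, w ≤ Finsupp.weight (wN2 N1 N2) m := by
  classical
  intro m hm
  by_contra hlt
  push Not at hlt
  obtain ⟨d, hd⟩ : ∃ d, d = Finsupp.weight (wN2 N1 N2) m := ⟨_, rfl⟩
  have hg : ∀ i : Fin N1 ⊕ Fin N2, IsWeightedHomogeneous (fun _ : Fin N1 ⊕ Fin N2 => (1 : ℕ))
      (Sum.elim (fun k : Fin N1 => eT N1 N2 ((k : ℕ) + 1)) (fun k : Fin N2 => eU N1 N2 ((k : ℕ) + 1)) i)
      (wN2 N1 N2 i) := by
    rintro (i | i)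
    · exact eT_isWeightedHomogeneous N1 N2 _
    · exact eU_isWeightedHomogeneous N1 N2 _
  have hcomp := SymWeights.aeval_weightedHomogeneousComponent (wN2 N1 N2)
    (fun _ : Fin N1 ⊕ Fin N2 => (1 : ℕ)) _ hg d q
  have hzero : weightedHomogeneousComponent (fun _ : Fin N1 ⊕ Fin N2 => (1 : ℕ)) d
      (Phi2 N1 N2 q) = 0 := by
    ext m'
    rw [coeff_weightedHomogeneousComponent, coeff_zero]
    split_ifs with hw
    · by_contra hne
      have hm' := h m' (MvPolynomial.mem_support_iff.mpr hne)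
      rw [Finsupp.degree_eq_weight_one, hw] at hm'
      omega
    · rfl
  have hcomp' : Phi2 N1 N2 (weightedHomogeneousComponent (wN2 N1 N2) d q) = 0 := by
    rw [← hzero]
    exact hcomp
  have hq := Phi2_injective N1 N2 (hcomp'.trans (map_zero _).symm)
  have hc := congrArg (coeff m) hq
  rw [coeff_weightedHomogeneousComponent, if_pos hd.symm, coeff_zero] at hc
  exact (MvPolynomial.mem_support_iff.mp hm) hc

end Groth.Agent.Lib.Helper24.SymTwo
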