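import Groth.Agent.Lib.Helper24.LamHom
import Groth.Agent.Lib.Helper24.SymTwo

/-!
# Representation of two-variable λ-expressions in γ-coordinates, with truncation (helper24)

For an expression `e` in two variables there is a bound `M` such that for all sizes `N₁`, `N₂` a
polynomial `reprPoly e N₁ N₂` in `γ^1, …, γ^{N₁}` of the first variable and `γ^1, …, γ^{N₂}` of the second
represents `e` in every special λ-ring, at all pairs `y` such that, for each variable, either the size is
at least `M` or the higher `γ`'s of the variable vanish.  At the test point this polynomial is detected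
by the two-family symmetric function theorem.
-/

set_option autoImplicit false
set_option linter.unusedSectionVars false
set_option maxHeartbeats 400000
universe u v

namespace Groth.Agent.Lib.Helper24.LamUniv2

open LambdaRing MvPolynomial Groth.Agent.Lib.Helper20 Groth.Agent.Lib.Helper24.LamTest
  Groth.Agent.Lib.Helper24.LamExpr Groth.Agent.Lib.Helper24.LamOrd
  Groth.Agent.Lib.Helper24.LamUniv1 Groth.Agent.Lib.Helper24.SymTwo
  Groth.Agent.Lib.Helper24.LamHom

section AevalZ

/-- `aeval` with respect to the canonical `ℤ`-algebra structure of a commutative ring (this avoids the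
two `ℤ`-algebra structures on polynomial rings over `ℤ`) -/
noncomputable def aevalZ {σ : Type*} {B : Type v} [CommRing B] (g : σ → B) : MvPolynomial σ ℤ →ₐ[ℤ] B :=
  aeval g

theorem aevalZ_eq {σ : Type*} {B : Type v} [CommRing B] (g : σ → B) : aevalZ g = aeval g := rfl

theorem aevalZ_apply {σ : Type*} {B : Type v} [CommRing B] (g : σ → B) (q : MvPolynomial σ ℤ) :
    aevalZ g q = aeval g q := rfl

@[simp] theorem aevalZ_X {σ : Type*} {B : Type v} [CommRing B] (g : σ → B) (i : σ) :
    aevalZ g (X i) = g i := by rw [aevalZ_apply, aeval_X]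

@[simp] theorem aevalZ_C {σ : Type*} {B : Type v} [CommRing B] (g : σ → B) (a : ℤ) :
    aevalZ g (C a) = (a : B) := by rw [aevalZ_apply, aeval_C, eq_intCast (algebraMap ℤ B) a]

end AevalZ

section Coords2

variable {B : Type v} [CommRing B] [LambdaOps B]

/-- the λ-coordinates of a pair -/
def lam2 (N1 N2 : ℕ) (y : Bool → B) : Fin N1 ⊕ Fin N2 → B :=
  Sum.elim (fun j => LambdaOps.lam ((j : ℕ) + 1) (y false)) (fun j => LambdaOps.lam ((j : ℕ) + 1) (y true))

/-- the γ-coordinates of a pair -/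
def gam2 (N1 N2 : ℕ) (y : Bool → B) : Fin N1 ⊕ Fin N2 → B :=
  Sum.elim (fun j => gamma ((j : ℕ) + 1) (y false)) (fun j => gamma ((j : ℕ) + 1) (y true))

variable (M : ℕ)

/-- the γ-coordinates as polynomials in the λ-coordinates -/
noncomputable def gamPoly2 : Fin M ⊕ Fin M → MvPolynomial (Fin M ⊕ Fin M) ℤ :=
  Sum.elim (fun k => rename Sum.inl (gamPoly M k)) (fun k => rename Sum.inr (gamPoly M k))

/-- γ-coordinates to λ-coordinates -/
noncomputable def toLam2 : MvPolynomial (Fin M ⊕ Fin M) ℤ →ₐ[ℤ] MvPolynomial (Fin M ⊕ Fin M) ℤ :=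
  aeval (gamPoly2 M)

variable {M}

theorem aeval_gamPoly2 (y : Bool → B) (s : Fin M ⊕ Fin M) :
    aeval (lam2 M M y) (gamPoly2 M s) = gam2 M M y s := by
  rcases s with k | k
  · show aeval (lam2 M M y) (rename Sum.inl (gamPoly M k)) = gamma ((k : ℕ) + 1) (y false)
    rw [aeval_rename, ← aeval_gamPoly (y false) k]
    rfl
  · show aeval (lam2 M M y) (rename Sum.inr (gamPoly M k)) = gamma ((k : ℕ) + 1) (y true)
    rw [aeval_rename, ← aeval_gamPoly (y true) k]
    rfl

theorem aeval_toLam2 (y : Bool → B) (q : MvPolynomial (Fin M ⊕ Fin M) ℤ) :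
    aeval (lam2 M M y) (toLam2 M q) = aeval (gam2 M M y) q := by
  have h := aeval_bind₁ (lam2 M M y) (gamPoly2 M) q
  refine h.trans ?_
  exact congrArg (fun g => aeval g q) (funext fun s => aeval_gamPoly2 y s)

theorem toLam2_rename_inl (p : MvPolynomial (Fin M) ℤ) :
    toLam2 M (rename Sum.inl p) = rename Sum.inl (toLam M p) := by
  have h : (toLam2 M).comp (rename Sum.inl) = (rename Sum.inl).comp (toLam M) := by
    apply MvPolynomial.algHom_ext
    intro k
    simp [toLam2, toLam, gamPoly2]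
  exact AlgHom.congr_fun h p

theorem toLam2_rename_inr (p : MvPolynomial (Fin M) ℤ) :
    toLam2 M (rename Sum.inr p) = rename Sum.inr (toLam M p) := by
  have h : (toLam2 M).comp (rename Sum.inr) = (rename Sum.inr).comp (toLam M) := by
    apply MvPolynomial.algHom_ext
    intro k
    simp [toLam2, toLam, gamPoly2]
  exact AlgHom.congr_fun h p

theorem toLam2_surjective : Function.Surjective (toLam2 M) := by
  have htop : (toLam2 M).range = ⊤ := by
    rw [eq_top_iff, ← MvPolynomial.adjoin_range_X]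
    apply Algebra.adjoin_le
    rintro _ ⟨s, rfl⟩
    rcases s with k | k
    · obtain ⟨p, hp⟩ := toLam_surjective (X k : MvPolynomial (Fin M) ℤ)
      refine ⟨rename Sum.inl p, ?_⟩
      show toLam2 M (rename Sum.inl p) = _
      rw [toLam2_rename_inl, hp, rename_X]
    · obtain ⟨p, hp⟩ := toLam_surjective (X k : MvPolynomial (Fin M) ℤ)
      refine ⟨rename Sum.inr p, ?_⟩
      show toLam2 M (rename Sum.inr p) = _
      rw [toLam2_rename_inr, hp, rename_X]
  intro f
  have : f ∈ (toLam2 M).range := htop ▸ Algebra.mem_top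
  exact this

end Coords2

section Repr

/-- the embedding of the finite coordinate set into the coordinates of all `λ^{j+1}` -/
def coordEmb (M : ℕ) : Fin M ⊕ Fin M → Bool × ℕ :=
  Sum.elim (fun j => (false, (j : ℕ))) (fun j => (true, (j : ℕ)))

theorem coordEmb_injective (M : ℕ) : Function.Injective (coordEmb M) := by
  rintro (a | a) (b | b) h
  · exact congrArg Sum.inl (Fin.ext (congrArg Prod.snd h))
  · exact absurd (congrArg Prod.fst h) (by simp [coordEmb])
  · exact absurd (congrArg Prod.fst h) (by simp [coordEmb])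
  · exact congrArg Sum.inr (Fin.ext (congrArg Prod.snd h))

/-- a bound for the indices of the `λ^{j+1}` occurring in the universal polynomial of `e` -/
noncomputable def bound (UP : UnivPolys) (e : LExpr Bool) : ℕ :=
  (polyOf UP e).vars.sup (fun p => p.2 + 1)

theorem exists_q0 (UP : UnivPolys) (e : LExpr Bool) :
    ∃ q0 : MvPolynomial (Fin (bound UP e) ⊕ Fin (bound UP e)) ℤ,
      rename (coordEmb (bound UP e)) (toLam2 (bound UP e) q0) = polyOf UP e := by
  have hN : ∀ p ∈ (polyOf UP e).vars, p.2 < bound UP e := fun p hp =>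
    Nat.lt_of_succ_le (Finset.le_sup (f := fun p : Bool × ℕ => p.2 + 1) hp)
  obtain ⟨F', hF'⟩ := MvPolynomial.exists_rename_eq_of_vars_subset_range (polyOf UP e)
    (coordEmb (bound UP e)) (coordEmb_injective _) (by
      intro p hp
      rcases p with ⟨b, j⟩
      cases b
      · exact ⟨Sum.inl ⟨j, hN _ hp⟩, rfl⟩
      · exact ⟨Sum.inr ⟨j, hN _ hp⟩, rfl⟩)
  obtain ⟨q0, hq0⟩ := toLam2_surjective F'
  exact ⟨q0, by rw [hq0, hF']⟩

/-- the representing polynomial in the γ-coordinates of index `< bound` -/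
noncomputable def q0 (UP : UnivPolys) (e : LExpr Bool) :
    MvPolynomial (Fin (bound UP e) ⊕ Fin (bound UP e)) ℤ := (exists_q0 UP e).choose

theorem q0_spec (UP : UnivPolys) (e : LExpr Bool) :
    rename (coordEmb (bound UP e)) (toLam2 (bound UP e) (q0 UP e)) = polyOf UP e :=
  (exists_q0 UP e).choose_spec

variable {B : Type v} [CommRing B] [LambdaOps B]

theorem eval_eq_aeval_q0 (UP : UnivPolys) (hB : IsSpecial B) (e : LExpr Bool) (y : Bool → B) :
    e.eval y = aeval (gam2 (bound UP e) (bound UP e) y) (q0 UP e) := by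
  rw [eval_eq_aeval UP hB, ← q0_spec UP e, aeval_rename, ← aeval_toLam2]
  refine congrArg (fun g => aeval g (toLam2 (bound UP e) (q0 UP e))) (funext fun s => ?_)
  rcases s with k | k <;> rfl

/-- truncation of the coordinates to sizes `N₁`, `N₂` -/
noncomputable def trunc (M N1 N2 : ℕ) :
    MvPolynomial (Fin M ⊕ Fin M) ℤ →ₐ[ℤ] MvPolynomial (Fin N1 ⊕ Fin N2) ℤ :=
  aeval (Sum.elim
    (fun j : Fin M => if h : (j : ℕ) < N1 then (X (Sum.inl ⟨j, h⟩) : MvPolynomial (Fin N1 ⊕ Fin N2) ℤ) else 0)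
    (fun j : Fin M => if h : (j : ℕ) < N2 then (X (Sum.inr ⟨j, h⟩) : MvPolynomial (Fin N1 ⊕ Fin N2) ℤ) else 0))

theorem aeval_trunc (M N1 N2 : ℕ) (y : Bool → B)
    (h1 : M ≤ N1 ∨ ∀ k, N1 < k → gamma k (y false) = 0)
    (h2 : M ≤ N2 ∨ ∀ k, N2 < k → gamma k (y true) = 0) (q : MvPolynomial (Fin M ⊕ Fin M) ℤ) :
    aeval (gam2 N1 N2 y) (trunc M N1 N2 q) = aeval (gam2 M M y) q := by
  have h := aeval_bind₁ (gam2 N1 N2 y) (Sum.elim
    (fun j : Fin M => if h : (j : ℕ) < N1 then (X (Sum.inl ⟨j, h⟩) : MvPolynomial (Fin N1 ⊕ Fin N2) ℤ) else 0)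
    (fun j : Fin M => if h : (j : ℕ) < N2 then (X (Sum.inr ⟨j, h⟩) : MvPolynomial (Fin N1 ⊕ Fin N2) ℤ) else 0)) q
  refine h.trans ?_
  refine congrArg (fun g => aeval g q) (funext fun s => ?_)
  rcases s with j | j
  · show aeval (gam2 N1 N2 y) (if h : (j : ℕ) < N1 then
      (X (Sum.inl ⟨j, h⟩) : MvPolynomial (Fin N1 ⊕ Fin N2) ℤ) else 0) = gamma ((j : ℕ) + 1) (y false)
    split_ifs with hj
    · rw [aeval_X]; rfl
    · rw [map_zero]
      rcases h1 with h1 | h1
      · have := j.2
        omega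
      · exact (h1 _ (by omega)).symm
  · show aeval (gam2 N1 N2 y) (if h : (j : ℕ) < N2 then
      (X (Sum.inr ⟨j, h⟩) : MvPolynomial (Fin N1 ⊕ Fin N2) ℤ) else 0) = gamma ((j : ℕ) + 1) (y true)
    split_ifs with hj
    · rw [aeval_X]; rfl
    · rw [map_zero]
      rcases h2 with h2 | h2
      · have := j.2
        omega
      · exact (h2 _ (by omega)).symm

/-- the representing polynomial for the sizes `N₁`, `N₂` -/
noncomputable def reprPoly (UP : UnivPolys) (e : LExpr Bool) (N1 N2 : ℕ) :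
    MvPolynomial (Fin N1 ⊕ Fin N2) ℤ :=
  trunc (bound UP e) N1 N2 (q0 UP e)

/-- **Representation theorem.** -/
theorem eval_eq_aeval_reprPoly (UP : UnivPolys) (hB : IsSpecial B) (e : LExpr Bool) (N1 N2 : ℕ)
    (y : Bool → B)
    (h1 : bound UP e ≤ N1 ∨ ∀ k, N1 < k → gamma k (y false) = 0)
    (h2 : bound UP e ≤ N2 ∨ ∀ k, N2 < k → gamma k (y true) = 0) :
    e.eval y = aevalZ (gam2 N1 N2 y) (reprPoly UP e N1 N2) := by
  rw [aevalZ_apply, reprPoly, aeval_trunc _ N1 N2 y h1 h2, ← eval_eq_aeval_q0 UP hB]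

end Repr

section TestPoint

variable (N1 N2 : ℕ)

/-- the test point: the pair `(Σ (T_a - 1), Σ (U_b - 1))` -/
noncomputable def testPt : Bool → MvPolynomial (Fin N1 ⊕ Fin N2) ℤ := fun b =>
  match b with
  | false => rename Sum.inl (x0 (Fin N1))
  | true => rename Sum.inr (x0 (Fin N2))

theorem gamma_x0_eq_zero (N k : ℕ) (hk : N < k) : gamma k (x0 (Fin N)) = 0 := by
  rw [gamma_x0, Finset.powersetCard_eq_empty.mpr (by simpa using hk), Finset.sum_empty]

theorem gamma_testPt_false (k : ℕ) :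
    gamma k (testPt N1 N2 false) = rename Sum.inl (gamma k (x0 (Fin N1))) :=
  (gamma_rename Sum.inl k (x0 (Fin N1))).symm

theorem gamma_testPt_true (k : ℕ) :
    gamma k (testPt N1 N2 true) = rename Sum.inr (gamma k (x0 (Fin N2))) :=
  (gamma_rename Sum.inr k (x0 (Fin N2))).symm

theorem gamma_testPt_false_eq_zero (k : ℕ) (hk : N1 < k) : gamma k (testPt N1 N2 false) = 0 := by
  rw [gamma_testPt_false, gamma_x0_eq_zero N1 k hk, map_zero]

theorem gamma_testPt_true_eq_zero (k : ℕ) (hk : N2 < k) : gamma k (testPt N1 N2 true) = 0 := by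
  rw [gamma_testPt_true, gamma_x0_eq_zero N2 k hk, map_zero]

theorem tau_gamma_testPt_false (k : ℕ) :
    tau (Fin N1 ⊕ Fin N2) (gamma k (testPt N1 N2 false)) = eT N1 N2 k := by
  rw [gamma_testPt_false, tau_rename, tau_gamma_x0]
  rfl

theorem tau_gamma_testPt_true (k : ℕ) :
    tau (Fin N1 ⊕ Fin N2) (gamma k (testPt N1 N2 true)) = eU N1 N2 k := by
  rw [gamma_testPt_true, tau_rename, tau_gamma_x0]
  rfl

theorem tau_aevalZ_gam2_testPt (q : MvPolynomial (Fin N1 ⊕ Fin N2) ℤ) :
    tau (Fin N1 ⊕ Fin N2) (aevalZ (gam2 N1 N2 (testPt N1 N2)) q) = Phi2 N1 N2 q := by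
  induction q using MvPolynomial.induction_on with
  | C a => rw [aevalZ_C, Phi2, aeval_C, map_intCast,
      eq_intCast (algebraMap ℤ (MvPolynomial (Fin N1 ⊕ Fin N2) ℤ)) a]
  | add p q hp hq => rw [map_add, map_add, map_add, hp, hq]
  | mul_X p i hp =>
    rw [map_mul, map_mul, map_mul, hp, aevalZ_X, Phi2, aeval_X]
    rcases i with j | j
    · have h := tau_gamma_testPt_false N1 N2 ((j : ℕ) + 1)
      simp only [gam2, Sum.elim_inl]
      rw [h]
    · have h := tau_gamma_testPt_true N1 N2 ((j : ℕ) + 1)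
      simp only [gam2, Sum.elim_inr]
      rw [h]

/-- the value of an expression at the test point, in shifted coordinates -/
theorem tau_eval_testPt (UP : UnivPolys) (e : LExpr Bool) :
    tau (Fin N1 ⊕ Fin N2) (e.eval (testPt N1 N2)) = Phi2 N1 N2 (reprPoly UP e N1 N2) := by
  rw [eval_eq_aeval_reprPoly UP isSpecial_test e N1 N2 (testPt N1 N2)
    (Or.inr (gamma_testPt_false_eq_zero N1 N2)) (Or.inr (gamma_testPt_true_eq_zero N1 N2)),
    tau_aevalZ_gam2_testPt]

/-- **Transfer (orders).** -/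
theorem weight_reprPoly (UP : UnivPolys) (e : LExpr Bool) (w : ℕ)
    (h : e.eval (testPt N1 N2) ∈ aOrd (Fin N1 ⊕ Fin N2) w) :
    ∀ m ∈ (reprPoly UP e N1 N2).support, w ≤ Finsupp.weight (wN2 N1 N2) m := by
  apply weight_ge_of_Phi2_mem
  rw [← tau_eval_testPt]
  exact h

/-- **Transfer (identities).** -/
theorem reprPoly_eq_of_eval_eq (UP : UnivPolys) (e e' : LExpr Bool)
    (h : e.eval (testPt N1 N2) = e'.eval (testPt N1 N2)) :
    reprPoly UP e N1 N2 = reprPoly UP e' N1 N2 := by
  apply Phi2_injective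
  rw [← tau_eval_testPt, ← tau_eval_testPt, h]

end TestPoint

end Groth.Agent.Lib.Helper24.LamUniv2
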