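import Groth.Agent.Lib.Helper24.LamBin

/-!
# Representation of two-variable λ-expressions in λ-coordinates, with truncation (helper24)

The analogue of `LamUniv2` in the coordinates `λ^{j+1}`; test point `(Σ T_a, Σ U_b)`.
-/

set_option autoImplicit false
set_option linter.unusedSectionVars false
set_option maxHeartbeats 400000
universe u v

namespace Groth.Agent.Lib.Helper24.LamUniv2L

open LambdaRing MvPolynomial Groth.Agent.Lib.Helper20 Groth.Agent.Lib.Helper24.LamTest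
  Groth.Agent.Lib.Helper24.LamExpr Groth.Agent.Lib.Helper24.LamOrd
  Groth.Agent.Lib.Helper24.LamUniv1 Groth.Agent.Lib.Helper24.SymTwo
  Groth.Agent.Lib.Helper24.LamHom Groth.Agent.Lib.Helper24.LamUniv2
  Groth.Agent.Lib.Helper24.LamBin

section Repr

theorem exists_p0 (UP : UnivPolys) (e : LExpr Bool) :
    ∃ p0 : MvPolynomial (Fin (bound UP e) ⊕ Fin (bound UP e)) ℤ,
      rename (coordEmb (bound UP e)) p0 = polyOf UP e := by
  have hN : ∀ p ∈ (polyOf UP e).vars, p.2 < bound UP e := fun p hp =>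
    Nat.lt_of_succ_le (Finset.le_sup (f := fun p : Bool × ℕ => p.2 + 1) hp)
  exact MvPolynomial.exists_rename_eq_of_vars_subset_range (polyOf UP e)
    (coordEmb (bound UP e)) (coordEmb_injective _) (by
      intro p hp
      rcases p with ⟨b, j⟩
      cases b
      · exact ⟨Sum.inl ⟨j, hN _ hp⟩, rfl⟩
      · exact ⟨Sum.inr ⟨j, hN _ hp⟩, rfl⟩)

/-- the representing polynomial in the λ-coordinates of index `< bound` -/
noncomputable def p0 (UP : UnivPolys) (e : LExpr Bool) :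
    MvPolynomial (Fin (bound UP e) ⊕ Fin (bound UP e)) ℤ := (exists_p0 UP e).choose

theorem p0_spec (UP : UnivPolys) (e : LExpr Bool) :
    rename (coordEmb (bound UP e)) (p0 UP e) = polyOf UP e :=
  (exists_p0 UP e).choose_spec

variable {B : Type v} [CommRing B] [LambdaOps B]

theorem eval_eq_aeval_p0 (UP : UnivPolys) (hB : IsSpecial B) (e : LExpr Bool) (y : Bool → B) :
    e.eval y = aeval (lam2 (bound UP e) (bound UP e) y) (p0 UP e) := by
  rw [eval_eq_aeval UP hB, ← p0_spec UP e, aeval_rename]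
  refine congrArg (fun g => aeval g (p0 UP e)) (funext fun s => ?_)
  rcases s with k | k <;> rfl

theorem aeval_truncL (M N1 N2 : ℕ) (y : Bool → B)
    (h1 : M ≤ N1 ∨ ∀ k, N1 < k → LambdaOps.lam k (y false) = 0)
    (h2 : M ≤ N2 ∨ ∀ k, N2 < k → LambdaOps.lam k (y true) = 0) (q : MvPolynomial (Fin M ⊕ Fin M) ℤ) :
    aeval (lam2 N1 N2 y) (trunc M N1 N2 q) = aeval (lam2 M M y) q := by
  have h := aeval_bind₁ (lam2 N1 N2 y) (Sum.elim
    (fun j : Fin M => if h : (j : ℕ) < N1 then (X (Sum.inl ⟨j, h⟩) : MvPolynomial (Fin N1 ⊕ Fin N2) ℤ) else 0)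
    (fun j : Fin M => if h : (j : ℕ) < N2 then (X (Sum.inr ⟨j, h⟩) : MvPolynomial (Fin N1 ⊕ Fin N2) ℤ) else 0)) q
  refine h.trans ?_
  refine congrArg (fun g => aeval g q) (funext fun s => ?_)
  rcases s with j | j
  · show aeval (lam2 N1 N2 y) (if h : (j : ℕ) < N1 then
      (X (Sum.inl ⟨j, h⟩) : MvPolynomial (Fin N1 ⊕ Fin N2) ℤ) else 0) = LambdaOps.lam ((j : ℕ) + 1) (y false)
    split_ifs with hj
    · rw [aeval_X]; rfl
    · rw [map_zero]
      rcases h1 with h1 | h1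
      · have := j.2
        omega
      · exact (h1 _ (by omega)).symm
  · show aeval (lam2 N1 N2 y) (if h : (j : ℕ) < N2 then
      (X (Sum.inr ⟨j, h⟩) : MvPolynomial (Fin N1 ⊕ Fin N2) ℤ) else 0) = LambdaOps.lam ((j : ℕ) + 1) (y true)
    split_ifs with hj
    · rw [aeval_X]; rfl
    · rw [map_zero]
      rcases h2 with h2 | h2
      · have := j.2
        omega
      · exact (h2 _ (by omega)).symm

/-- the representing polynomial in λ-coordinates for the sizes `N₁`, `N₂` -/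
noncomputable def reprPolyL (UP : UnivPolys) (e : LExpr Bool) (N1 N2 : ℕ) :
    MvPolynomial (Fin N1 ⊕ Fin N2) ℤ :=
  trunc (bound UP e) N1 N2 (p0 UP e)

theorem eval_eq_aeval_reprPolyL (UP : UnivPolys) (hB : IsSpecial B) (e : LExpr Bool) (N1 N2 : ℕ)
    (y : Bool → B)
    (h1 : bound UP e ≤ N1 ∨ ∀ k, N1 < k → LambdaOps.lam k (y false) = 0)
    (h2 : bound UP e ≤ N2 ∨ ∀ k, N2 < k → LambdaOps.lam k (y true) = 0) :
    e.eval y = aevalZ (lam2 N1 N2 y) (reprPolyL UP e N1 N2) := by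
  rw [aevalZ_apply, reprPolyL, aeval_truncL _ N1 N2 y h1 h2, ← eval_eq_aeval_p0 UP hB]

end Repr

section TestPoint

variable (N1 N2 : ℕ)

/-- the test point `(Σ T_a, Σ U_b)` -/
noncomputable def testPtL : Bool → MvPolynomial (Fin N1 ⊕ Fin N2) ℤ := fun b =>
  match b with
  | false => rename Sum.inl (∑ a : Fin N1, (X a : MvPolynomial (Fin N1) ℤ))
  | true => rename Sum.inr (∑ a : Fin N2, (X a : MvPolynomial (Fin N2) ℤ))

theorem lam_testPtL_false (k : ℕ) : LambdaOps.lam k (testPtL N1 N2 false) = eT N1 N2 k := by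
  show LambdaOps.lam k (rename Sum.inl (∑ a : Fin N1, (X a : MvPolynomial (Fin N1) ℤ))) = _
  rw [← lam_rename, lam_sum_X]
  rfl

theorem lam_testPtL_true (k : ℕ) : LambdaOps.lam k (testPtL N1 N2 true) = eU N1 N2 k := by
  show LambdaOps.lam k (rename Sum.inr (∑ a : Fin N2, (X a : MvPolynomial (Fin N2) ℤ))) = _
  rw [← lam_rename, lam_sum_X]
  rfl

theorem esymm_eq_zero (N k : ℕ) (hk : N < k) : esymm (Fin N) ℤ k = 0 := by
  rw [esymm, Finset.powersetCard_eq_empty.mpr (by simpa using hk), Finset.sum_empty]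

theorem lam_testPtL_false_eq_zero (k : ℕ) (hk : N1 < k) :
    LambdaOps.lam k (testPtL N1 N2 false) = 0 := by
  rw [lam_testPtL_false, eT, esymm_eq_zero N1 k hk, map_zero]

theorem lam_testPtL_true_eq_zero (k : ℕ) (hk : N2 < k) :
    LambdaOps.lam k (testPtL N1 N2 true) = 0 := by
  rw [lam_testPtL_true, eU, esymm_eq_zero N2 k hk, map_zero]

theorem aevalZ_lam2_testPtL (q : MvPolynomial (Fin N1 ⊕ Fin N2) ℤ) :
    aevalZ (lam2 N1 N2 (testPtL N1 N2)) q = Phi2 N1 N2 q := by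
  induction q using MvPolynomial.induction_on with
  | C a => rw [aevalZ_C, Phi2, aeval_C, eq_intCast (algebraMap ℤ (MvPolynomial (Fin N1 ⊕ Fin N2) ℤ)) a]
  | add p q hp hq => rw [map_add, map_add, hp, hq]
  | mul_X p i hp =>
    rw [map_mul, map_mul, hp, aevalZ_X, Phi2, aeval_X]
    rcases i with j | j
    · have h := lam_testPtL_false N1 N2 ((j : ℕ) + 1)
      simp only [lam2, Sum.elim_inl]
      rw [h]
    · have h := lam_testPtL_true N1 N2 ((j : ℕ) + 1)
      simp only [lam2, Sum.elim_inr]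
      rw [h]

theorem eval_testPtL (UP : UnivPolys) (e : LExpr Bool) :
    e.eval (testPtL N1 N2) = Phi2 N1 N2 (reprPolyL UP e N1 N2) := by
  rw [eval_eq_aeval_reprPolyL UP isSpecial_test e N1 N2 (testPtL N1 N2)
    (Or.inr (lam_testPtL_false_eq_zero N1 N2)) (Or.inr (lam_testPtL_true_eq_zero N1 N2)),
    aevalZ_lam2_testPtL]

theorem reprPolyL_eq_of_eval_eq (UP : UnivPolys) (e e' : LExpr Bool)
    (h : e.eval (testPtL N1 N2) = e'.eval (testPtL N1 N2)) :
    reprPolyL UP e N1 N2 = reprPolyL UP e' N1 N2 := by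
  apply Phi2_injective
  rw [← eval_testPtL, ← eval_testPtL, h]

end TestPoint

section Rank

variable {B : Type v} [CommRing B] [LambdaOps B]

/-- transfer of identities under truncation of the `λ`-operations -/
theorem eval_eq_of_testL (UP : UnivPolys) (hB : IsSpecial B) (e e' : LExpr Bool) (N1 N2 : ℕ)
    (h : e.eval (testPtL N1 N2) = e'.eval (testPtL N1 N2)) (y : Bool → B)
    (h1 : (bound UP e ≤ N1 ∧ bound UP e' ≤ N1) ∨ ∀ k, N1 < k → LambdaOps.lam k (y false) = 0)
    (h2 : (bound UP e ≤ N2 ∧ bound UP e' ≤ N2) ∨ ∀ k, N2 < k → LambdaOps.lam k (y true) = 0) :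
    e.eval y = e'.eval y := by
  rw [eval_eq_aeval_reprPolyL UP hB e N1 N2 y (h1.imp (fun h => h.1) id) (h2.imp (fun h => h.1) id),
    eval_eq_aeval_reprPolyL UP hB e' N1 N2 y (h1.imp (fun h => h.2) id) (h2.imp (fun h => h.2) id),
    reprPolyL_eq_of_eval_eq N1 N2 UP e e' h]

/-- an element of `λ`-rank `≤ d` minus `d` has `γ`-rank `≤ d` -/
theorem gamma_sub_natCast_eq_zero (UP : UnivPolys) (hB : IsSpecial B) (d : ℕ) (N : B)
    (hN : ∀ i : ℕ, d < i → LambdaOps.lam i N = 0) (k : ℕ) (hk : d < k) :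
    gamma k (N - (d : B)) = 0 := by
  obtain ⟨e, he⟩ : ∃ e : LExpr Bool,
      e = LExpr.gam k (LExpr.sub (LExpr.var false) (LExpr.ofNat d)) := ⟨_, rfl⟩
  obtain ⟨v, hv⟩ : ∃ v : Bool → B, v = fun b => if b then 0 else N := ⟨_, rfl⟩
  have hv0 : v false = N := by rw [hv]; rfl
  have hv1 : v true = 0 := by rw [hv]; rfl
  have h1 : e.eval v = gamma k (N - (d : B)) := by
    rw [he, LExpr.eval_gam, LExpr.eval_sub, LExpr.eval_var, LExpr.eval_ofNat, hv0]
  have h2 : (LExpr.zero : LExpr Bool).eval v = 0 := rfl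
  rw [← h1, ← h2]
  apply eval_eq_of_testL UP hB e LExpr.zero d 0 _ v (Or.inr (by rw [hv0]; exact hN))
    (Or.inr (by
      intro i hi
      rw [hv1]
      exact GammaBasic.lam_apply_zero i hi))
  rw [he, LExpr.eval_gam, LExpr.eval_sub, LExpr.eval_var, LExpr.eval_ofNat]
  show gamma k (rename Sum.inl (∑ a : Fin d, (X a : MvPolynomial (Fin d) ℤ)) - (d : MvPolynomial (Fin d ⊕ Fin 0) ℤ)) = 0
  have e1 : rename Sum.inl (∑ a : Fin d, (X a : MvPolynomial (Fin d) ℤ)) - (d : MvPolynomial (Fin d ⊕ Fin 0) ℤ) =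
      rename Sum.inl (x0 (Fin d)) := by
    rw [x0, Finset.sum_sub_distrib, map_sub, map_sum]
    simp
  rw [e1, ← gamma_rename, gamma_x0_eq_zero d k hk, map_zero]

end Rank

end Groth.Agent.Lib.Helper24.LamUniv2L
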