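import Mathlib
import Groth.Prelude.Def_W4c5normfunctorschNorm
import Groth.Agent.Lib.Helper20.PolyLaw

/-!
# Restriction and extension of polynomial laws along a base change `R → Q` (helper24)

For an `R`-algebra `Q`, an `R`-linear map `g : X → Y` into a `Q`-module exhibiting `Y` as
`Q ⊗ X`:
* `res lam g : X →ₚₗ[R] Z` for a law `lam : Y →ₚₗ[Q] Z` (restriction of scalars, precomposed
  with `g`), with `res_bc`: over a `Q`-algebra `P` it is `lam` transported along `bcAlong`;
* `ext g hg mu : Y →ₚₗ[Q] E` for a law `mu : X →ₚₗ[R] E` into a `Q`-module (extension of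
  scalars), with `ext_apply`.
-/

set_option autoImplicit false

namespace Groth.Agent.Lib.Helper24.LawBC

open scoped TensorProduct
open Groth.Agent.Lib.Helper20.PolyLaw

universe u

variable {R : Type u} [CommRing R] {Q : Type u} [CommRing Q] [Algebra R Q]

section bc

variable {X : Type u} [AddCommGroup X] [Module R X]
  {Y : Type u} [AddCommGroup Y] [Module R Y] [Module Q Y] [IsScalarTower R Q Y]
  (g : X →ₗ[R] Y)
  (P : Type u) [CommRing P] [Algebra R P] [Algebra Q P] [IsScalarTower R Q P]

lemma bcAlong_tmul (p : P) (x : X) : PolLaw.bcAlong (Q := Q) g P (p ⊗ₜ[R] x) = p ⊗ₜ[Q] g x := by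
  unfold PolLaw.bcAlong
  rw [LinearMap.comp_apply]
  show (g.liftBaseChange Q).lTensor P
    ((TensorProduct.AlgebraTensorModule.cancelBaseChange R Q P P X).symm (p ⊗ₜ[R] x)) = _
  rw [TensorProduct.AlgebraTensorModule.cancelBaseChange_symm_tmul, LinearMap.lTensor_tmul,
    LinearMap.liftBaseChange_tmul, one_smul]

lemma bcAlong_smul (p : P) (z : P ⊗[R] X) :
    PolLaw.bcAlong (Q := Q) g P (p • z) = p • PolLaw.bcAlong (Q := Q) g P z := by
  induction z using TensorProduct.induction_on with
  | zero => rw [smul_zero, map_zero, smul_zero]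
  | tmul a x =>
    rw [TensorProduct.smul_tmul', bcAlong_tmul, bcAlong_tmul, TensorProduct.smul_tmul']
  | add a b ha hb => rw [smul_add, map_add, map_add, smul_add, ha, hb]

variable {P}

lemma bcAlong_rTensor {P' : Type u} [CommRing P'] [Algebra R P'] [Algebra Q P']
    [IsScalarTower R Q P'] (φ : P →ₐ[Q] P') (z : P ⊗[R] X) :
    φ.toLinearMap.rTensor Y (PolLaw.bcAlong (Q := Q) g P z) =
      PolLaw.bcAlong (Q := Q) g P' ((φ.restrictScalars R).toLinearMap.rTensor X z) := by
  induction z using TensorProduct.induction_on with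
  | zero => simp
  | tmul a x =>
    rw [bcAlong_tmul, LinearMap.rTensor_tmul, LinearMap.rTensor_tmul, bcAlong_tmul]
    rfl
  | add a b ha hb => rw [map_add, map_add, map_add, map_add, ha, hb]

variable (P)

/-- post-composition with a `Q`-linear map. -/
lemma lTensor_bcAlong {Y' : Type u} [AddCommGroup Y'] [Module R Y'] [Module Q Y']
    [IsScalarTower R Q Y'] (k : Y →ₗ[Q] Y') (z : P ⊗[R] X) :
    k.lTensor P (PolLaw.bcAlong (Q := Q) g P z) =
      PolLaw.bcAlong (Q := Q) ((k.restrictScalars R) ∘ₗ g) P z := by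
  induction z using TensorProduct.induction_on with
  | zero => simp
  | tmul a x =>
    rw [bcAlong_tmul, LinearMap.lTensor_tmul, bcAlong_tmul]
    rfl
  | add a b ha hb => rw [map_add, map_add, map_add, ha, hb]

/-- pre-composition with an `R`-linear map. -/
lemma bcAlong_lTensor {X' : Type u} [AddCommGroup X'] [Module R X'] (h : X' →ₗ[R] X)
    (z : P ⊗[R] X') :
    PolLaw.bcAlong (Q := Q) g P (h.lTensor P z) = PolLaw.bcAlong (Q := Q) (g ∘ₗ h) P z := by
  induction z using TensorProduct.induction_on with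
  | zero => simp
  | tmul a x =>
    rw [LinearMap.lTensor_tmul, bcAlong_tmul, bcAlong_tmul]
    rfl
  | add a b ha hb => rw [map_add, map_add, map_add, ha, hb]

/-- `bcAlong` as an equivalence when `g` is a base change. -/
noncomputable def bcEquiv (hg : IsBaseChange Q g) : P ⊗[R] X ≃ₗ[Q] P ⊗[Q] Y :=
  (hg.tensorEquiv P).symm

lemma bcEquiv_apply (hg : IsBaseChange Q g) (z : P ⊗[R] X) :
    bcEquiv g P hg z = PolLaw.bcAlong (Q := Q) g P z := by
  induction z using TensorProduct.induction_on with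
  | zero => simp
  | tmul a x =>
    rw [bcAlong_tmul]
    unfold bcEquiv
    rw [LinearEquiv.symm_apply_eq]
    unfold IsBaseChange.tensorEquiv
    rw [LinearEquiv.trans_apply, LinearEquiv.lTensor_tmul, hg.equiv_symm_apply,
      TensorProduct.AlgebraTensorModule.cancelBaseChange_tmul, one_smul]
  | add a b ha hb => rw [map_add, map_add, ha, hb]

lemma bcAlong_bijective (hg : IsBaseChange Q g) : Function.Bijective (PolLaw.bcAlong (Q := Q) g P) := by
  have : ⇑(bcEquiv g P hg) = ⇑(PolLaw.bcAlong (Q := Q) g P) := funext (bcEquiv_apply g P hg)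
  rw [← this]
  exact (bcEquiv g P hg).bijective

/-- `P`-linear version. -/
noncomputable def bcEquivP (hg : IsBaseChange Q g) : P ⊗[R] X ≃ₗ[P] P ⊗[Q] Y :=
  { (bcEquiv g P hg) with
    map_smul' := fun p z => by
      show bcEquiv g P hg (p • z) = p • bcEquiv g P hg z
      rw [bcEquiv_apply, bcEquiv_apply, bcAlong_smul] }

lemma bcEquivP_apply (hg : IsBaseChange Q g) (z : P ⊗[R] X) :
    bcEquivP g P hg z = PolLaw.bcAlong (Q := Q) g P z := bcEquiv_apply g P hg z

end bc

section del

variable (Z : Type u) [AddCommGroup Z] [Module R Z] [Module Q Z] [IsScalarTower R Q Z]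
  (S : Type u) [CommRing S] [Algebra R S]

/-- `(Q ⊗ S) ⊗_Q Z → S ⊗_R Z`, `(q ⊗ s) ⊗ z ↦ s ⊗ q z`. -/
noncomputable def del (w : (Q ⊗[R] S) ⊗[Q] Z) : S ⊗[R] Z :=
  TensorProduct.comm R Z S (TensorProduct.AlgebraTensorModule.cancelBaseChange R Q Q Z S
    (TensorProduct.comm Q (Q ⊗[R] S) Z w))

variable {Z S}

lemma del_tmul (q : Q) (s : S) (z : Z) :
    del Z S ((q ⊗ₜ[R] s) ⊗ₜ[Q] z) = s ⊗ₜ[R] (q • z) := by
  unfold del
  rw [TensorProduct.comm_tmul, TensorProduct.AlgebraTensorModule.cancelBaseChange_tmul,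
    TensorProduct.comm_tmul]

lemma del_add (w w' : (Q ⊗[R] S) ⊗[Q] Z) : del Z S (w + w') = del Z S w + del Z S w' := by
  unfold del
  rw [map_add, map_add, map_add]

lemma del_zero : del Z S (0 : (Q ⊗[R] S) ⊗[Q] Z) = 0 := by
  unfold del
  rw [map_zero, map_zero, map_zero]

/-- induction principle for `(Q ⊗ S) ⊗_Q Z`. -/
lemma tensor_induction {motive : (Q ⊗[R] S) ⊗[Q] Z → Prop} (h0 : motive 0)
    (ht : ∀ (q : Q) (s : S) (z : Z), motive ((q ⊗ₜ[R] s) ⊗ₜ[Q] z))
    (ha : ∀ w w', motive w → motive w' → motive (w + w')) (w : (Q ⊗[R] S) ⊗[Q] Z) :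
    motive w := by
  induction w using TensorProduct.induction_on with
  | zero => exact h0
  | tmul a z =>
    induction a using TensorProduct.induction_on with
    | zero => rw [TensorProduct.zero_tmul]; exact h0
    | tmul q s => exact ht q s z
    | add a b ha' hb' => rw [TensorProduct.add_tmul]; exact ha _ _ ha' hb'
  | add a b ha' hb' => exact ha _ _ ha' hb'

lemma del_nat {S' : Type u} [CommRing S'] [Algebra R S'] (ψ : S →ₐ[R] S')
    (w : (Q ⊗[R] S) ⊗[Q] Z) :
    ψ.toLinearMap.rTensor Z (del Z S w) =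
      del Z S' ((Algebra.TensorProduct.map (AlgHom.id Q Q) ψ).toLinearMap.rTensor Z w) := by
  induction w using tensor_induction with
  | h0 => rw [del_zero, map_zero, map_zero, del_zero]
  | ht q s z =>
    rw [del_tmul, LinearMap.rTensor_tmul, LinearMap.rTensor_tmul, AlgHom.toLinearMap_apply,
      AlgHom.toLinearMap_apply, Algebra.TensorProduct.map_tmul, del_tmul]
    rfl
  | ha w w' hw hw' => rw [del_add, map_add, map_add, del_add, hw, hw']

/-- naturality in the module. -/
lemma del_lTensor {Z' : Type u} [AddCommGroup Z'] [Module R Z'] [Module Q Z']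
    [IsScalarTower R Q Z'] (k : Z →ₗ[Q] Z') (w : (Q ⊗[R] S) ⊗[Q] Z) :
    (k.restrictScalars R).lTensor S (del Z S w) = del Z' S (k.lTensor (Q ⊗[R] S) w) := by
  induction w using tensor_induction with
  | h0 => rw [del_zero, map_zero, map_zero, del_zero]
  | ht q s z =>
    rw [del_tmul, LinearMap.lTensor_tmul, LinearMap.lTensor_tmul, del_tmul,
      LinearMap.restrictScalars_apply, map_smul]
  | ha w w' hw hw' => rw [del_add, map_add, map_add, del_add, hw, hw']

lemma del_smul (s : S) (w : (Q ⊗[R] S) ⊗[Q] Z) :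
    del Z S ((Algebra.TensorProduct.includeRight (R := R) (A := Q) (B := S) s) • w) =
      s • del Z S w := by
  induction w using tensor_induction with
  | h0 => rw [smul_zero, del_zero, smul_zero]
  | ht q t z =>
    rw [TensorProduct.smul_tmul', smul_eq_mul, Algebra.TensorProduct.includeRight_apply,
      Algebra.TensorProduct.tmul_mul_tmul, one_mul, del_tmul, del_tmul, TensorProduct.smul_tmul',
      smul_eq_mul]
  | ha w w' hw hw' => rw [smul_add, del_add, del_add, smul_add, hw, hw']

/-- `del ∘ bcAlong id ∘ inr = id`. -/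
lemma del_bc_inr (w : S ⊗[R] Z) :
    del Z S (PolLaw.bcAlong (Q := Q) (LinearMap.id : Z →ₗ[R] Z) (Q ⊗[R] S)
      ((Algebra.TensorProduct.includeRight : S →ₐ[R] Q ⊗[R] S).toLinearMap.rTensor Z w)) = w := by
  induction w using TensorProduct.induction_on with
  | zero => rw [map_zero, map_zero, del_zero]
  | tmul s z =>
    rw [LinearMap.rTensor_tmul, bcAlong_tmul, AlgHom.toLinearMap_apply,
      Algebra.TensorProduct.includeRight_apply, LinearMap.id_apply, del_tmul, one_smul]
  | add a b ha hb => rw [map_add, map_add, del_add, ha, hb]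

/-- the multiplication map `Q ⊗ P → P`. -/
noncomputable def mulQ (P : Type u) [CommRing P] [Algebra R P] [Algebra Q P]
    [IsScalarTower R Q P] : Q ⊗[R] P →ₐ[Q] P :=
  Algebra.TensorProduct.lift (Algebra.ofId Q P) (AlgHom.id R P) (fun _ _ => Commute.all _ _)

lemma mulQ_tmul (P : Type u) [CommRing P] [Algebra R P] [Algebra Q P] [IsScalarTower R Q P]
    (q : Q) (p : P) : mulQ (R := R) P (q ⊗ₜ[R] p) = q • p := by
  unfold mulQ
  rw [Algebra.TensorProduct.lift_tmul, AlgHom.id_apply, Algebra.smul_def]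
  rfl

/-- over a `Q`-algebra `P`, `bcAlong id ∘ del` is the map induced by multiplication. -/
lemma bc_del (P : Type u) [CommRing P] [Algebra R P] [Algebra Q P] [IsScalarTower R Q P]
    (w : (Q ⊗[R] P) ⊗[Q] Z) :
    PolLaw.bcAlong (Q := Q) (LinearMap.id : Z →ₗ[R] Z) P (del Z P w) =
      (mulQ (R := R) P).toLinearMap.rTensor Z w := by
  induction w using tensor_induction with
  | h0 => rw [del_zero, map_zero, map_zero]
  | ht q p z =>
    rw [del_tmul, bcAlong_tmul, LinearMap.id_apply, LinearMap.rTensor_tmul,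
      AlgHom.toLinearMap_apply, mulQ_tmul, TensorProduct.smul_tmul]
  | ha w w' hw hw' => rw [del_add, map_add, map_add, hw, hw']

end del

section res

variable {X : Type u} [AddCommGroup X] [Module R X]
  {Y : Type u} [AddCommGroup Y] [Module R Y] [Module Q Y] [IsScalarTower R Q Y]
  {Z : Type u} [AddCommGroup Z] [Module R Z] [Module Q Z] [IsScalarTower R Q Z]
  (lam : Y →ₚₗ[Q] Z) (g : X →ₗ[R] Y)

/-- the member of the restricted law on a ring test algebra `S`. -/
noncomputable def resFun (S : Type u) [CommRing S] [Algebra R S] (x : S ⊗[R] X) : S ⊗[R] Z :=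
  del Z S (lam.toFun' (Q ⊗[R] S) (PolLaw.bcAlong (Q := Q) g (Q ⊗[R] S)
    ((Algebra.TensorProduct.includeRight : S →ₐ[R] Q ⊗[R] S).toLinearMap.rTensor X x)))

lemma resFun_nat {S S' : Type u} [CommRing S] [Algebra R S] [CommRing S'] [Algebra R S']
    (ψ : S →ₐ[R] S') (x : S ⊗[R] X) :
    ψ.toLinearMap.rTensor Z (resFun lam g S x) = resFun lam g S' (ψ.toLinearMap.rTensor X x) := by
  unfold resFun
  rw [del_nat]
  congr 1
  have h1 := congr_fun (lam.isCompat' (Algebra.TensorProduct.map (AlgHom.id Q Q) ψ))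
    (PolLaw.bcAlong (Q := Q) g (Q ⊗[R] S)
      ((Algebra.TensorProduct.includeRight : S →ₐ[R] Q ⊗[R] S).toLinearMap.rTensor X x))
  simp only [Function.comp_apply] at h1
  rw [h1, bcAlong_rTensor]
  congr 2
  rw [← LinearMap.comp_apply, ← LinearMap.rTensor_comp, ← LinearMap.comp_apply,
    ← LinearMap.rTensor_comp]
  congr 2

lemma resFun_compat :
    Compat (fun n => resFun lam g (MvPolynomial (Fin n) R)) := by
  intro n m φ
  funext x
  simp only [Function.comp_apply]
  exact resFun_nat lam g φ x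

/-- restriction of scalars of a law over `Q`, precomposed with `g`. -/
noncomputable def res : X →ₚₗ[R] Z := lawOf _ (resFun_compat lam g)

theorem res_apply (S : Type u) [CommRing S] [Algebra R S] (x : S ⊗[R] X) :
    (res lam g).toFun' S x = resFun lam g S x := by
  obtain ⟨n, ψ, q, rfl⟩ := PolynomialLaw.exists_lift (R := R) (M := X) (S := S) x
  unfold res
  rw [lawOf_apply, resFun_nat]

/-- over a `Q`-algebra the restricted law is `lam` transported along `bcAlong`. -/
theorem res_bc (P : Type u) [CommRing P] [Algebra R P] [Algebra Q P] [IsScalarTower R Q P]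
    (x : P ⊗[R] X) :
    PolLaw.bcAlong (Q := Q) (LinearMap.id : Z →ₗ[R] Z) P ((res lam g).toFun' P x) =
      lam.toFun' P (PolLaw.bcAlong (Q := Q) g P x) := by
  rw [res_apply]
  unfold resFun
  rw [bc_del]
  have h1 := congr_fun (lam.isCompat' (mulQ (R := R) P))
    (PolLaw.bcAlong (Q := Q) g (Q ⊗[R] P)
      ((Algebra.TensorProduct.includeRight : P →ₐ[R] Q ⊗[R] P).toLinearMap.rTensor X x))
  simp only [Function.comp_apply] at h1
  rw [h1, bcAlong_rTensor]
  congr 2
  rw [← LinearMap.comp_apply, ← LinearMap.rTensor_comp]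
  have : ((mulQ (R := R) P).restrictScalars R).toLinearMap ∘ₗ
      (Algebra.TensorProduct.includeRight : P →ₐ[R] Q ⊗[R] P).toLinearMap = LinearMap.id := by
    apply LinearMap.ext
    intro p
    simp [mulQ_tmul]
  rw [this, LinearMap.rTensor_id, LinearMap.id_apply]

end res

section ext

variable {X : Type u} [AddCommGroup X] [Module R X]
  {Y : Type u} [AddCommGroup Y] [Module R Y] [Module Q Y] [IsScalarTower R Q Y]
  {E : Type u} [AddCommGroup E] [Module R E] [Module Q E] [IsScalarTower R Q E]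
  (g : X →ₗ[R] Y) (hg : IsBaseChange Q g) (mu : X →ₚₗ[R] E)

/-- the family defining the extended law. -/
noncomputable def extT (n : ℕ) (y : MvPolynomial (Fin n) Q ⊗[Q] Y) :
    MvPolynomial (Fin n) Q ⊗[Q] E :=
  PolLaw.bcAlong (Q := Q) (LinearMap.id : E →ₗ[R] E) (MvPolynomial (Fin n) Q)
    (mu.toFun' (MvPolynomial (Fin n) Q) ((bcEquiv g (MvPolynomial (Fin n) Q) hg).symm y))

lemma extT_compat : Compat (extT g hg mu) := by
  intro n m φ
  funext y
  simp only [Function.comp_apply]
  unfold extT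
  rw [bcAlong_rTensor]
  congr 1
  have h1 := congr_fun (mu.isCompat' (φ.restrictScalars R))
    ((bcEquiv g (MvPolynomial (Fin n) Q) hg).symm y)
  simp only [Function.comp_apply] at h1
  rw [h1]
  congr 1
  rw [LinearEquiv.eq_symm_apply, bcEquiv_apply, ← bcAlong_rTensor, ← bcEquiv_apply g _ hg,
    LinearEquiv.apply_symm_apply]

/-- extension of scalars of a law into a `Q`-module. -/
noncomputable def ext : Y →ₚₗ[Q] E := lawOf (extT g hg mu) (extT_compat g hg mu)

theorem ext_apply (P : Type u) [CommRing P] [Algebra R P] [Algebra Q P] [IsScalarTower R Q P]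
    (x : P ⊗[R] X) :
    (ext g hg mu).toFun' P (PolLaw.bcAlong (Q := Q) g P x) =
      PolLaw.bcAlong (Q := Q) (LinearMap.id : E →ₗ[R] E) P (mu.toFun' P x) := by
  obtain ⟨n, ψ, q, hq⟩ :=
    PolynomialLaw.exists_lift (R := Q) (M := Y) (S := P) (PolLaw.bcAlong (Q := Q) g P x)
  rw [← hq]
  unfold ext
  rw [lawOf_apply]
  unfold extT
  rw [bcAlong_rTensor]
  congr 1
  have h1 := congr_fun (mu.isCompat' (ψ.restrictScalars R))
    ((bcEquiv g (MvPolynomial (Fin n) Q) hg).symm q)
  simp only [Function.comp_apply] at h1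
  rw [h1]
  congr 1
  apply (bcEquiv g P hg).injective
  rw [bcEquiv_apply, bcEquiv_apply, ← bcAlong_rTensor, ← bcEquiv_apply g _ hg,
    LinearEquiv.apply_symm_apply, hq]

end ext

end Groth.Agent.Lib.Helper24.LawBC
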