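import Mathlib

/-!
# Lengths along a six-term exact sequence (`ℕ∞`-valued `Module.length`, no finiteness needed)
-/

set_option autoImplicit false
set_option maxHeartbeats 400000
set_option linter.style.haveILetI false
set_option linter.unusedSectionVars false
set_option linter.unusedVariables false

namespace Groth.Agent.Lib.Helper24.LenSix

/-- `0 → M₁ → M₂ → M₃ → M₄ → M₅ → M₆ → 0` exact: the alternating sum of lengths vanishes, written
without subtraction in `ℕ∞`. -/
theorem length_six_term {R : Type*} [Ring R] {M₁ M₂ M₃ M₄ M₅ M₆ : Type*}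
    [AddCommGroup M₁] [Module R M₁] [AddCommGroup M₂] [Module R M₂] [AddCommGroup M₃] [Module R M₃]
    [AddCommGroup M₄] [Module R M₄] [AddCommGroup M₅] [Module R M₅] [AddCommGroup M₆] [Module R M₆]
    (f₁ : M₁ →ₗ[R] M₂) (f₂ : M₂ →ₗ[R] M₃) (f₃ : M₃ →ₗ[R] M₄) (f₄ : M₄ →ₗ[R] M₅) (f₅ : M₅ →ₗ[R] M₆)
    (hinj : Function.Injective f₁) (e₁ : Function.Exact f₁ f₂) (e₂ : Function.Exact f₂ f₃)
    (e₃ : Function.Exact f₃ f₄) (e₄ : Function.Exact f₄ f₅) (hsurj : Function.Surjective f₅) :
    Module.length R M₁ + Module.length R M₃ + Module.length R M₅ =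
      Module.length R M₂ + Module.length R M₄ + Module.length R M₆ := by
  -- 0 → M₁ → M₂ → range f₂ → 0
  have h2 : Module.length R M₂ = Module.length R M₁ + Module.length R (LinearMap.range f₂) := by
    refine Module.length_eq_add_of_exact f₁ f₂.rangeRestrict hinj
      (LinearMap.surjective_rangeRestrict f₂) ?_
    intro y
    rw [← e₁ y]
    constructor
    · intro h
      have := congrArg Subtype.val h
      simpa using this
    · intro h
      apply Subtype.ext
      simpa using h
  -- 0 → range f₂ → M₃ → range f₃ → 0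
  have h3 : Module.length R M₃ =
      Module.length R (LinearMap.range f₂) + Module.length R (LinearMap.range f₃) := by
    refine Module.length_eq_add_of_exact (LinearMap.range f₂).subtype f₃.rangeRestrict
      (Submodule.injective_subtype _) (LinearMap.surjective_rangeRestrict f₃) ?_
    intro y
    constructor
    · intro h
      have h' : f₃ y = 0 := by
        have := congrArg Subtype.val h
        simpa using this
      obtain ⟨x, hx⟩ := (e₂ y).1 h'
      exact ⟨⟨y, ⟨x, hx⟩⟩, rfl⟩
    · rintro ⟨⟨z, ⟨x, hx⟩⟩, rfl⟩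
      apply Subtype.ext
      change f₃ z = 0
      exact (e₂ z).2 ⟨x, hx⟩
  -- 0 → range f₃ → M₄ → range f₄ → 0
  have h4 : Module.length R M₄ =
      Module.length R (LinearMap.range f₃) + Module.length R (LinearMap.range f₄) := by
    refine Module.length_eq_add_of_exact (LinearMap.range f₃).subtype f₄.rangeRestrict
      (Submodule.injective_subtype _) (LinearMap.surjective_rangeRestrict f₄) ?_
    intro y
    constructor
    · intro h
      have h' : f₄ y = 0 := by
        have := congrArg Subtype.val h
        simpa using this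
      obtain ⟨x, hx⟩ := (e₃ y).1 h'
      exact ⟨⟨y, ⟨x, hx⟩⟩, rfl⟩
    · rintro ⟨⟨z, ⟨x, hx⟩⟩, rfl⟩
      apply Subtype.ext
      change f₄ z = 0
      exact (e₃ z).2 ⟨x, hx⟩
  -- 0 → range f₄ → M₅ → M₆ → 0
  have h5 : Module.length R M₅ =
      Module.length R (LinearMap.range f₄) + Module.length R M₆ := by
    refine Module.length_eq_add_of_exact (LinearMap.range f₄).subtype f₅
      (Submodule.injective_subtype _) hsurj ?_
    intro y
    constructor
    · intro h
      obtain ⟨x, hx⟩ := (e₄ y).1 h
      exact ⟨⟨y, ⟨x, hx⟩⟩, rfl⟩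
    · rintro ⟨⟨z, ⟨x, hx⟩⟩, rfl⟩
      change f₅ z = 0
      exact (e₄ z).2 ⟨x, hx⟩
  rw [h2, h3, h4, h5]
  ring

end Groth.Agent.Lib.Helper24.LenSix
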