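import Mathlib

/-!
# Limits of finite projective modules along nil thickenings (Stacks 0D4B)
-/

set_option autoImplicit false
universe u

namespace Groth.Agent.Lib.Helper24.LimProj

open Function

/-- Extension of an element of an inverse system with surjective transition maps to a
compatible family. -/
lemma ext_compat : ∀ (n : ℕ) (X : ℕ → Type u) (f : ∀ k, X (k + 1) → X k),
    (∀ k, Surjective (f k)) → ∀ a : X n,
    ∃ x : ∀ k, X k, (∀ k, f k (x (k + 1)) = x k) ∧ x n = a := by
  intro n
  induction n with
  | zero =>
    intro X f hf a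
    choose g hg using hf
    refine ⟨fun k => Nat.rec (motive := X) a (fun k y => g k y) k, fun k => ?_, rfl⟩
    exact hg k _
  | succ n ih =>
    intro X f hf a
    obtain ⟨y, hy, hyn⟩ := ih (fun k => X (k + 1)) (fun k => f (k + 1)) (fun k => hf (k + 1)) a
    refine ⟨fun k => Nat.casesOn (motive := X) k (f 0 (y 0)) (fun k => y k), fun k => ?_, hyn⟩
    cases k with
    | zero => rfl
    | succ k => exact hy k

/-- A matrix with entries in a nil ideal is nilpotent. -/
lemma isNilpotent_of_mapMatrix_eq_zero {B' B : Type*} [CommRing B'] [CommRing B] (t : B' →+* B)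
    (hnil : ∀ x, t x = 0 → IsNilpotent x) {r : ℕ}
    (X : Matrix (Fin r) (Fin r) B') (hX : t.mapMatrix X = 0) : IsNilpotent X := by
  have hent : ∀ i j, IsNilpotent (X i j) := fun i j => hnil _ (by
    have := congrFun (congrFun hX i) j
    simpa using this)
  set J : Ideal B' := Ideal.span (Set.range (fun p : Fin r × Fin r => X p.1 p.2)) with hJ
  have hJfg : J.FG := Submodule.fg_span (Set.finite_range _)
  have hJnil : IsNilpotent J := hJfg.isNilpotent_iff_le_nilradical.mpr (Ideal.span_le.mpr (by
    rintro _ ⟨p, rfl⟩
    exact mem_nilradical.mpr (hent p.1 p.2)))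
  obtain ⟨N, hN⟩ := hJnil
  have key : ∀ m i j, (X ^ m) i j ∈ J ^ m := by
    intro m
    induction m with
    | zero => intro i j; simp
    | succ m ih =>
      intro i j
      rw [pow_succ X, Matrix.mul_apply, pow_succ J]
      exact Ideal.sum_mem _ (fun k _ => Ideal.mul_mem_mul (ih i k)
        (Ideal.subset_span ⟨(k, j), rfl⟩))
  refine ⟨N, ?_⟩
  ext i j
  have := key N i j
  rw [hN] at this
  simpa using this

/-- A map from a finite projective module to a finite flat module which is bijective modulo an
ideal contained in the Jacobson radical is bijective. -/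
theorem bijective_of_mod {R : Type*} [CommRing R] (I : Ideal R) (hI : I ≤ Ideal.jacobson ⊥)
    {P M : Type*} [AddCommGroup P] [Module R P] [Module.Finite R P] [Module.Projective R P]
    [AddCommGroup M] [Module R M] [Module.Finite R M] [Module.Flat R M]
    (φ : P →ₗ[R] M)
    (hinj : ∀ p, φ p ∈ I • (⊤ : Submodule R M) → p ∈ I • (⊤ : Submodule R P))
    (hsurj : ∀ m, ∃ p, m - φ p ∈ I • (⊤ : Submodule R M)) : Bijective φ := by
  have hs : Surjective φ := by
    rw [← LinearMap.range_eq_top, eq_top_iff]
    apply Submodule.le_of_le_smul_of_le_jacobson_bot Module.Finite.fg_top hI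
    intro m _
    obtain ⟨p, hp⟩ := hsurj m
    have : m = φ p + (m - φ p) := by abel
    rw [this]
    exact Submodule.add_mem_sup (LinearMap.mem_range_self φ p) hp
  refine ⟨?_, hs⟩
  rw [← LinearMap.ker_eq_bot, eq_bot_iff]
  intro x hx
  rw [LinearMap.mem_ker] at hx
  obtain ⟨r, f, g, hf, hg, hfg⟩ := Module.Finite.exists_comp_eq_id_of_projective R P
  have hfg' : ∀ p, f (g p) = p := fun p => by
    have := congrArg (fun h => h p) hfg
    simpa using this
  have h0 : (φ ∘ₗ f) (g x) = 0 := by
    rw [LinearMap.comp_apply, hfg', hx]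
  obtain ⟨k, a, y, hya, hax⟩ := Module.Flat.exists_factorization_of_apply_eq_zero_of_free h0
  -- `b = a ∘ g`, with `y ∘ b = φ`
  have hyb : ∀ p, y (a (g p)) = φ p := fun p => by
    have := congrArg (fun h => h (g p)) hya
    simp only [LinearMap.comp_apply, hfg'] at this
    exact this.symm
  -- lift `φ̄⁻¹ ∘ ȳ`
  have hlift : ∀ j : Fin k, ∃ p : P, y (Finsupp.single j 1) - φ p ∈ I • (⊤ : Submodule R M) :=
    fun j => hsurj _
  choose q hq using hlift
  let σ : (Fin k →₀ R) →ₗ[R] P := Finsupp.linearCombination R q
  have hσ : ∀ w : Fin k →₀ R, y w - φ (σ w) ∈ I • (⊤ : Submodule R M) := by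
    intro w
    induction w using Finsupp.induction_linear with
    | zero => simp
    | add w₁ w₂ h₁ h₂ =>
      have : y (w₁ + w₂) - φ (σ (w₁ + w₂)) = (y w₁ - φ (σ w₁)) + (y w₂ - φ (σ w₂)) := by
        simp only [map_add]; abel
      rw [this]
      exact Submodule.add_mem _ h₁ h₂
    | single j c =>
      have : y (Finsupp.single j c) - φ (σ (Finsupp.single j c)) =
          c • (y (Finsupp.single j 1) - φ (q j)) := by
        have h1 : (Finsupp.single j c : Fin k →₀ R) = c • Finsupp.single j 1 := by
          rw [Finsupp.smul_single, smul_eq_mul, mul_one]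
        rw [h1, map_smul, map_smul, map_smul, smul_sub]
        simp [σ, Finsupp.linearCombination_single]
      rw [this]
      exact Submodule.smul_mem _ _ (hq j)
  -- `g' = σ ∘ a ∘ g : P → P` is the identity mod `I`
  let g' : P →ₗ[R] P := σ ∘ₗ a ∘ₗ g
  have hg' : ∀ p, g' p - p ∈ I • (⊤ : Submodule R P) := by
    intro p
    apply hinj
    have : φ (g' p - p) = -(y (a (g p)) - φ (σ (a (g p)))) := by
      rw [map_sub, ← hyb p]
      simp only [g', LinearMap.comp_apply]
      abel
    rw [this]
    exact Submodule.neg_mem _ (hσ _)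
  have hg's : Surjective g' := by
    rw [← LinearMap.range_eq_top, eq_top_iff]
    apply Submodule.le_of_le_smul_of_le_jacobson_bot Module.Finite.fg_top hI
    intro p _
    have : p = g' p + -(g' p - p) := by abel
    rw [this]
    exact Submodule.add_mem_sup (LinearMap.mem_range_self g' p) (Submodule.neg_mem _ (hg' p))
  have hg'i : Injective g' := OrzechProperty.injective_of_surjective_endomorphism g' hg's
  have : g' x = 0 := by
    simp only [g', LinearMap.comp_apply, hax, map_zero]
  rw [Submodule.mem_bot]
  exact hg'i (by rw [this, map_zero])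

end Groth.Agent.Lib.Helper24.LimProj
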