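import Groth.Agent.Lib.Helper24.LimProj

/-!
# Limits of finite projective modules along nil thickenings: the lifting step
-/

set_option autoImplicit false
universe u

namespace Groth.Agent.Lib.Helper24.LimProj

open Function

section Step

variable {B' B : Type u} [CommRing B'] [CommRing B] (t : B' →+* B) (ht : Surjective t)
  (hnil : ∀ x, t x = 0 → IsNilpotent x)
  {M' M : Type u} [AddCommGroup M'] [Module B' M'] [AddCommGroup M] [Module B M]
  (u : M' →ₛₗ[t] M) (hu : Surjective u)
  (hker : LinearMap.ker u = RingHom.ker t • (⊤ : Submodule B' M'))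
  [Module.Finite B' M'] [Module.Flat B' M']
  (r : ℕ) (φ : (Fin r → B) →ₗ[B] M) (s : M →ₗ[B] (Fin r → B)) (hφs : ∀ m, φ (s m) = m)

include ht hnil hu hker hφs

theorem step : ∃ (φ' : (Fin r → B') →ₗ[B'] M') (s' : M' →ₗ[B'] (Fin r → B')),
    (∀ m, φ' (s' m) = m) ∧ (∀ v, u (φ' v) = φ (fun j => t (v j))) ∧
    (∀ m, (fun j => t (s' m j)) = s (u m)) := by
  classical
  -- 1. lift `φ`
  choose mm hmm using fun j : Fin r => hu (φ (Pi.single j 1))
  let φ' : (Fin r → B') →ₗ[B'] M' := Fintype.linearCombination B' mm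
  have hφ' : ∀ v, u (φ' v) = φ (fun j => t (v j)) := by
    intro v
    have h1 : φ' v = ∑ j, v j • mm j := Fintype.linearCombination_apply B' mm v
    rw [h1, map_sum]
    simp_rw [map_smulₛₗ, hmm]
    rw [← Fintype.sum_congr _ _ (fun j => map_smul φ (t (v j)) (Pi.single j 1)), ← map_sum]
    congr 1
    ext i
    simp [Finset.sum_apply, Pi.single_apply]
  -- 2. the idempotent matrix
  set E : Matrix (Fin r) (Fin r) B := LinearMap.toMatrix' (s ∘ₗ φ) with hE
  have hEidem : IsIdempotentElem E := by
    show E * E = E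
    have hcomp : (s ∘ₗ φ) ∘ₗ (s ∘ₗ φ) = s ∘ₗ φ := by
      apply LinearMap.ext
      intro v
      simp only [LinearMap.comp_apply, hφs]
    rw [hE, ← LinearMap.toMatrix'_comp, hcomp]
  have hEv : ∀ v, E.mulVec v = s (φ v) := by
    intro v
    rw [← Matrix.toLin'_apply, hE, Matrix.toLin'_toMatrix']
    rfl
  -- 3. lift the idempotent
  have hErange : E ∈ (t.mapMatrix (m := Fin r)).range := by
    choose pre hpre using fun i j => ht (E i j)
    exact ⟨Matrix.of pre, by ext i j; simp [hpre]⟩
  obtain ⟨E', hE'idem, hE'map⟩ := exists_isIdempotentElem_eq_of_ker_isNilpotent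
    (t.mapMatrix (m := Fin r)) (fun X hX => isNilpotent_of_mapMatrix_eq_zero t hnil X hX)
    E hErange hEidem
  have hE't : ∀ v, (fun i => t ((E'.mulVec v) i)) = E.mulVec (fun j => t (v j)) := by
    intro v
    funext i
    rw [RingHom.map_mulVec, ← hE'map]
    rfl
  have hE'E' : ∀ v, E'.mulVec (E'.mulVec v) = E'.mulVec v := by
    intro v
    rw [Matrix.mulVec_mulVec, hE'idem.eq]
  -- 4. the projective module `P'`
  let P' : Submodule B' (Fin r → B') := LinearMap.range (Matrix.toLin' E')
  have hP'mem : ∀ p : P', E'.mulVec p.1 = p.1 := by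
    intro p
    obtain ⟨w, hw⟩ := p.2
    rw [← hw, Matrix.toLin'_apply, hE'E']
  haveI : Module.Projective B' P' := by
    refine Module.Projective.of_split P'.subtype (LinearMap.rangeRestrict (Matrix.toLin' E')) ?_
    ext p : 1
    apply Subtype.ext
    simp only [LinearMap.comp_apply, Submodule.subtype_apply, LinearMap.id_apply]
    show Matrix.toLin' E' p.1 = p.1
    rw [Matrix.toLin'_apply, hP'mem]
  have hP't : ∀ p : P', (fun j => t (p.1 j)) = s (φ (fun j => t (p.1 j))) := by
    intro p
    conv_lhs => rw [← hP'mem p]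
    rw [hE't, hEv]
  have hI : RingHom.ker t ≤ Ideal.jacobson ⊥ := by
    intro x hx
    exact Ideal.radical_le_jacobson (mem_nilradical.mpr (hnil x hx))
  let φ'' : P' →ₗ[B'] M' := φ' ∘ₗ P'.subtype
  have hbij : Bijective φ'' := by
    apply bijective_of_mod (RingHom.ker t) hI φ''
    · intro p hp
      rw [← hker, LinearMap.mem_ker] at hp
      have h1 : φ (fun j => t (p.1 j)) = 0 := by
        rw [← hφ']; exact hp
      have h2 : ∀ j, p.1 j ∈ RingHom.ker t := by
        intro j
        have := congrFun (hP't p) j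
        rw [h1, map_zero] at this
        exact this
      have h3 : p = ∑ j, p.1 j • (⟨Matrix.toLin' E' (Pi.single j 1), LinearMap.mem_range_self _ _⟩ : P') := by
        apply Subtype.ext
        rw [Submodule.coe_sum]
        simp only [Submodule.coe_smul]
        rw [← Fintype.sum_congr _ _ (fun j => map_smul (Matrix.toLin' E') (p.1 j) (Pi.single j 1)),
          ← map_sum]
        have : (∑ j, p.1 j • (Pi.single j (1 : B') : Fin r → B')) = p.1 := by
          ext i
          simp [Finset.sum_apply, Pi.single_apply]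
        rw [this, Matrix.toLin'_apply, hP'mem]
      rw [h3]
      exact Submodule.sum_mem _ (fun j _ => Submodule.smul_mem_smul (h2 j) Submodule.mem_top)
    · intro m
      choose v hv using fun j => ht (s (u m) j)
      refine ⟨⟨Matrix.toLin' E' v, LinearMap.mem_range_self _ _⟩, ?_⟩
      rw [← hker, LinearMap.mem_ker, map_sub, sub_eq_zero]
      show u m = u (φ' (Matrix.toLin' E' v))
      rw [hφ', Matrix.toLin'_apply, hE't, hEv]
      have : (fun j => t (v j)) = s (u m) := funext hv
      rw [this, hφs, hφs]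
  -- 5. the section
  let eqv : P' ≃ₗ[B'] M' := LinearEquiv.ofBijective φ'' hbij
  refine ⟨φ', P'.subtype ∘ₗ eqv.symm.toLinearMap, ?_, hφ', ?_⟩
  · intro m
    have : φ'' (eqv.symm m) = m := eqv.apply_symm_apply m
    exact this
  · intro m
    have h1 : φ' (eqv.symm m).1 = m := eqv.apply_symm_apply m
    show (fun j => t ((eqv.symm m).1 j)) = s (u m)
    rw [hP't (eqv.symm m), ← hφ', h1]

end Step

end Groth.Agent.Lib.Helper24.LimProj
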