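import Groth.Agent.Lib.Helper24.LimProj2

/-!
# Limits of finite projective modules along nil thickenings: the limit
-/

set_option autoImplicit false
universe u

namespace Groth.Agent.Lib.Helper24.LimProj

open Function

theorem main (A : Type u) [CommRing A] (An : ℕ → Type u) [∀ n, CommRing (An n)]
    (t : ∀ n, An (n + 1) →+* An n) (π : ∀ n, A →+* An n)
    (ht : ∀ n, Surjective (t n)) (hnil : ∀ n (x : An (n + 1)), t n x = 0 → IsNilpotent x)
    (hA1 : ∀ n, (t n).comp (π (n + 1)) = π n)
    (hA2 : ∀ a b : A, (∀ n, π n a = π n b) → a = b)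
    (hA3 : ∀ x : ∀ n, An n, (∀ n, t n (x (n + 1)) = x n) → ∃ a : A, ∀ n, π n a = x n)
    (M : ℕ → Type u) [∀ n, AddCommGroup (M n)] [∀ n, Module (An n) (M n)]
    (u : ∀ n, M (n + 1) →ₛₗ[t n] M n)
    [Module.Projective (An 0) (M 0)] (hfin : ∀ n, Module.Finite (An n) (M n))
    (hflat : ∀ n, Module.Flat (An n) (M n))
    (hu : ∀ n, Surjective (u n) ∧ LinearMap.ker (u n) =
      RingHom.ker (t n) • (⊤ : Submodule (An (n + 1)) (M (n + 1)))) :
    ∃ (P : Type u) (_ : AddCommGroup P) (_ : Module A P) (p : ∀ n, P →ₛₗ[π n] M n),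
      Module.Finite A P ∧ Module.Projective A P ∧ (∀ n (x : P), u n (p (n + 1) x) = p n x) ∧
      (∀ n, Surjective (p n) ∧ LinearMap.ker (p n) = RingHom.ker (π n) • (⊤ : Submodule A P)) ∧
      (∀ x : (∀ n, M n), (∀ n, u n (x (n + 1)) = x n) → ∃! q : P, ∀ n, p n q = x n) := by
  classical
  haveI := hfin 0
  obtain ⟨r, f0, g0, -, -, hfg0⟩ := Module.Finite.exists_comp_eq_id_of_projective (An 0) (M 0)
  have hfg0' : ∀ m, f0 (g0 m) = m := fun m => by
    have := congrArg (fun h => h m) hfg0
    simpa using this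
  let D : ℕ → Type u := fun n =>
    {d : ((Fin r → An n) →ₗ[An n] M n) × (M n →ₗ[An n] (Fin r → An n)) // ∀ m, d.1 (d.2 m) = m}
  have hstep : ∀ n (d : D n), ∃ d' : D (n + 1),
      (∀ v, u n (d'.1.1 v) = d.1.1 (fun j => t n (v j))) ∧
      (∀ m, (fun j => t n (d'.1.2 m j)) = d.1.2 (u n m)) := by
    intro n d
    haveI := hfin (n + 1)
    haveI := hflat (n + 1)
    obtain ⟨φ', s', h1, h2, h3⟩ := step (t n) (ht n) (hnil n) (u n) (hu n).1 (hu n).2 r
      d.1.1 d.1.2 d.2
    exact ⟨⟨(φ', s'), h1⟩, h2, h3⟩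
  choose next hnext2 hnext3 using hstep
  let seq : ∀ n, D n := fun n => Nat.rec (motive := D) ⟨(f0, g0), hfg0'⟩ (fun n d => next n d) n
  let φ : ∀ n, (Fin r → An n) →ₗ[An n] M n := fun n => (seq n).1.1
  let s : ∀ n, M n →ₗ[An n] (Fin r → An n) := fun n => (seq n).1.2
  have H1 : ∀ n m, φ n (s n m) = m := fun n => (seq n).2
  have H2 : ∀ n v, u n (φ (n + 1) v) = φ n (fun j => t n (v j)) := fun n => hnext2 n (seq n)
  have H3 : ∀ n m, (fun j => t n (s (n + 1) m j)) = s n (u n m) := fun n => hnext3 n (seq n)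
  have hπt : ∀ n a, t n (π (n + 1) a) = π n a := fun n a => by
    have := congrArg (fun h => h a) (hA1 n)
    simpa using this
  have hπs : ∀ n, Surjective (π n) := by
    intro n a
    obtain ⟨x, hx, hxn⟩ := ext_compat n An (fun k => t k) ht a
    obtain ⟨a', ha'⟩ := hA3 x hx
    exact ⟨a', by rw [ha', hxn]⟩
  let πv : ∀ n, (Fin r → A) → (Fin r → An n) := fun n y j => π n (y j)
  have hV3 : ∀ x : ∀ n, Fin r → An n, (∀ n, (fun j => t n (x (n + 1) j)) = x n) →
      ∃ z : Fin r → A, ∀ n, πv n z = x n := by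
    intro x hx
    choose z hz using fun j => hA3 (fun n => x n j) (fun n => congrFun (hx n) j)
    exact ⟨z, fun n => funext fun j => hz j n⟩
  have hV2 : ∀ z z' : Fin r → A, (∀ n, πv n z = πv n z') → z = z' := by
    intro z z' h
    funext j
    exact hA2 _ _ (fun n => congrFun (h n) j)
  have hπv_add : ∀ n y y', πv n (y + y') = πv n y + πv n y' := by
    intro n y y'
    funext j
    simp [πv]
  have hπv_smul : ∀ n (a : A) y, πv n (a • y) = π n a • πv n y := by
    intro n a y
    funext j
    simp [πv]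
  have htπv : ∀ n y, (fun j => t n (πv (n + 1) y j)) = πv n y := by
    intro n y
    funext j
    exact hπt n (y j)
  have hex : ∀ y : Fin r → A, ∃ z : Fin r → A, ∀ n, πv n z = s n (φ n (πv n y)) := by
    intro y
    apply hV3 (fun n => s n (φ n (πv n y)))
    intro n
    rw [H3, H2, htπv]
  choose eF heF using hex
  let e : (Fin r → A) →ₗ[A] (Fin r → A) :=
    { toFun := eF
      map_add' := fun y y' => hV2 _ _ (fun n => by
        rw [heF, hπv_add, hπv_add, heF, heF, map_add, map_add])
      map_smul' := fun a y => hV2 _ _ (fun n => by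
        show πv n (eF (a • y)) = πv n (a • eF y)
        rw [heF, hπv_smul, hπv_smul, heF, map_smul, map_smul]) }
  have hee : ∀ y, e (e y) = e y := by
    intro y
    apply hV2
    intro n
    show πv n (eF (eF y)) = πv n (eF y)
    rw [heF, heF, H1]
  let P : Submodule A (Fin r → A) := LinearMap.range e
  have hPmem : ∀ x : P, e x.1 = x.1 := by
    intro x
    obtain ⟨w, hw⟩ := x.2
    rw [← hw, hee]
  have hPπ : ∀ (x : P) n, πv n x.1 = s n (φ n (πv n x.1)) := by
    intro x n
    conv_lhs => rw [← hPmem x]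
    exact heF x.1 n
  let p : ∀ n, P →ₛₗ[π n] M n := fun n =>
    { toFun := fun x => φ n (πv n x.1)
      map_add' := fun x y => by
        show φ n (πv n (x.1 + y.1)) = _
        rw [hπv_add, map_add]
      map_smul' := fun a x => by
        show φ n (πv n (a • x.1)) = π n a • φ n (πv n x.1)
        rw [hπv_smul, map_smul] }
  refine ⟨P, inferInstance, inferInstance, p, inferInstance, ?_, ?_, ?_, ?_⟩
  · refine Module.Projective.of_split P.subtype (LinearMap.rangeRestrict e) ?_
    ext x : 1
    apply Subtype.ext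
    simp only [LinearMap.comp_apply, Submodule.subtype_apply, LinearMap.id_apply]
    exact hPmem x
  · intro n x
    show u n (φ (n + 1) (πv (n + 1) x.1)) = φ n (πv n x.1)
    rw [H2, htπv]
  · intro n
    constructor
    · intro m
      choose y hy using fun j => hπs n (s n m j)
      refine ⟨⟨e y, LinearMap.mem_range_self e y⟩, ?_⟩
      show φ n (πv n (e y)) = m
      have h1 : πv n y = s n m := funext hy
      rw [show πv n (e y) = s n (φ n (πv n y)) from heF y n, h1, H1, H1]
    · apply le_antisymm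
      · intro x hx
        rw [LinearMap.mem_ker] at hx
        have hx' : φ n (πv n x.1) = 0 := hx
        have h0 : πv n x.1 = 0 := by rw [hPπ x n, hx', map_zero]
        have hj : ∀ j, x.1 j ∈ RingHom.ker (π n) := fun j => congrFun h0 j
        have h3 : x = ∑ j, x.1 j •
            (⟨e (Pi.single j 1), LinearMap.mem_range_self e _⟩ : P) := by
          apply Subtype.ext
          rw [Submodule.coe_sum]
          simp only [Submodule.coe_smul]
          rw [← Fintype.sum_congr _ _ (fun j => map_smul e (x.1 j) (Pi.single j 1)), ← map_sum]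
          have : (∑ j, x.1 j • (Pi.single j (1 : A) : Fin r → A)) = x.1 := by
            ext i
            simp [Finset.sum_apply, Pi.single_apply]
          rw [this, hPmem]
        rw [h3]
        exact Submodule.sum_mem _ (fun j _ => Submodule.smul_mem_smul (hj j) Submodule.mem_top)
      · rw [Submodule.smul_le]
        intro a ha x _
        rw [LinearMap.mem_ker, map_smulₛₗ, RingHom.mem_ker.mp ha, zero_smul]
  · intro x hx
    obtain ⟨z, hz⟩ := hV3 (fun n => s n (x n)) (fun n => by rw [H3, hx])
    have hzP : e z = z := by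
      apply hV2
      intro n
      show πv n (eF z) = πv n z
      rw [heF, hz, H1]
    refine ⟨⟨z, ⟨z, hzP⟩⟩, fun n => ?_, fun q hq => ?_⟩
    · show φ n (πv n z) = x n
      rw [hz, H1]
    · apply Subtype.ext
      apply hV2
      intro n
      show πv n q.1 = πv n z
      rw [hPπ q n, hz]
      have : φ n (πv n q.1) = x n := hq n
      rw [this]

end Groth.Agent.Lib.Helper24.LimProj
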