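import Mathlib
import Groth.Agent.Lib.Helper6.TensorEmb

set_option autoImplicit false
set_option maxHeartbeats 400000
set_option linter.style.haveILetI false
set_option linter.unusedSectionVars false
set_option linter.unusedVariables false

/-!
# All local rings of `Ω ⊗[k] κ` are isomorphic (`Ω` an algebraic closure of `k`, `κ/k` finite)

Sub-lemma (RF-a) for helper22's S6556.
-/

universe u

open TensorProduct

namespace Groth.Agent.Lib.Helper24.LocTensorEquiv

open Groth.Agent.Lib.Helper6.TensorEmb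

/-- Two `k`-embeddings of `κ` into an algebraic closure `Ω` of `k` are conjugate under
`Aut(Ω/k)`. -/
theorem exists_aut {k κ Ω : Type u} [Field k] [Field κ] [Algebra k κ] [Field Ω] [Algebra k Ω]
    [IsAlgClosed Ω] [Algebra.IsAlgebraic k Ω] (φ φ' : κ →ₐ[k] Ω) :
    ∃ σ : Ω ≃ₐ[k] Ω, ∀ x, σ (φ x) = φ' x := by
  haveI : IsAlgClosure k Ω := ⟨inferInstance, inferInstance⟩
  let e1 : κ ≃ₐ[k] φ.fieldRange := AlgEquiv.ofInjectiveField φ
  let e2 : κ ≃ₐ[k] φ'.fieldRange := AlgEquiv.ofInjectiveField φ'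
  let χ : φ.fieldRange ≃ₐ[k] φ'.fieldRange := e1.symm.trans e2
  refine ⟨χ.liftNormal Ω, fun x => ?_⟩
  have h := AlgEquiv.liftNormal_commutes χ Ω (e1 x)
  have h1 : algebraMap φ.fieldRange Ω (e1 x) = φ x := rfl
  have h2 : χ (e1 x) = e2 x := by simp [χ]
  have h3 : algebraMap φ'.fieldRange Ω (e2 x) = φ' x := rfl
  rw [h1, h2, h3] at h
  exact h

/-- (RF-a) all localizations of `Ω ⊗[k] κ` at primes are isomorphic rings. -/
theorem localization_ringEquiv (k κ Ω : Type u) [Field k] [Field κ] [Algebra k κ]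
    [FiniteDimensional k κ] [Field Ω] [Algebra k Ω] [IsAlgClosed Ω] [Algebra.IsAlgebraic k Ω]
    (Q Q' : Ideal (Ω ⊗[k] κ)) [Q.IsPrime] [Q'.IsPrime] :
    Nonempty (Localization.AtPrime Q ≃+* Localization.AtPrime Q') := by
  obtain ⟨φ, hφ⟩ := exists_emb_of_isPrime (k := k) Q
  obtain ⟨φ', hφ'⟩ := exists_emb_of_isPrime (k := k) Q'
  obtain ⟨σ, hσ⟩ := exists_aut φ φ'
  let τ : Ω ⊗[k] κ ≃ₐ[k] Ω ⊗[k] κ := Algebra.TensorProduct.congr σ AlgEquiv.refl
  have hcomm : ∀ z, ev φ' (τ z) = σ (ev φ z) := by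
    intro z
    have : ((ev φ').restrictScalars k).comp τ.toAlgHom =
        (σ : Ω →ₐ[k] Ω).comp ((ev φ).restrictScalars k) := by
      apply Algebra.TensorProduct.ext'
      intro a x
      simp [τ, hσ]
    exact DFunLike.congr_fun this z
  refine ⟨Localization.localRingEquiv Q Q' τ.toRingEquiv ?_⟩
  ext z
  rw [Ideal.mem_comap, hφ, hφ', RingHom.mem_ker, RingHom.mem_ker]
  change ev φ z = 0 ↔ ev φ' (τ z) = 0
  rw [hcomm]
  exact (EmbeddingLike.map_eq_zero_iff (f := σ)).symm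

end Groth.Agent.Lib.Helper24.LocTensorEquiv
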