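import Mathlib
import Groth.Prelude.Def_W4c3cyccovratcurvTree

/-!
# Marked trees and conic deformations: sliding edges and moving marks
-/

set_option autoImplicit false

namespace Groth.Agent.Lib.Helper24.MarkedTreeLib

open W4c3cyccovratcurv

variable {k : ℕ}

lemma conicAdj_symm : Symmetric (ConicAdj (k := k)) := by
  rintro T₁ T₂ ⟨u₁, w₁, u₂, w₂, h₁, h₂, φ, hφ, hm⟩
  refine ⟨u₂, w₂, u₁, w₁, h₂, h₁, φ.symm, ?_, fun i => ?_⟩
  · rw [← hφ, RelIso.symm_apply_apply]
  · rw [← hm i, RelIso.symm_apply_apply]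

lemma conicAdj_of_contract_eq {n : ℕ} {G₁ G₂ : SimpleGraph (Fin n)} (h₁ : G₁.IsTree)
    (h₂ : G₂.IsTree) (m₁ m₂ : Fin k → Fin n) (u w : Fin n) (a₁ : G₁.Adj u w) (a₂ : G₂.Adj u w)
    (hc : ∀ a b, (contract G₁ u w).Adj a b ↔ (contract G₂ u w).Adj a b)
    (hm : ∀ i, contractMark m₁ u w a₁.ne i = contractMark m₂ u w a₂.ne i) :
    ConicAdj ⟨n, G₁, h₁, m₁⟩ ⟨n, G₂, h₂, m₂⟩ :=
  ⟨u, w, u, w, a₁, a₂, ⟨Equiv.refl _, fun {a b} => (hc a b).symm⟩, rfl, hm⟩

section Graph

variable {V : Type*} {G : SimpleGraph V}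

lemma no_triangle (hG : G.IsAcyclic) {a b c : V} (hab : G.Adj a b) (hbc : G.Adj b c)
    (hca : G.Adj c a) : False := by
  have hbr := (SimpleGraph.isAcyclic_iff_forall_adj_isBridge.mp hG) hab
  rw [SimpleGraph.isBridge_iff] at hbr
  apply hbr
  have h1 : (G.deleteEdges {s(a, b)}).Adj a c := by
    rw [SimpleGraph.deleteEdges_adj]
    refine ⟨hca.symm, ?_⟩
    simp only [Set.mem_singleton_iff, Sym2.eq_iff, not_or, not_and]
    exact ⟨fun _ h => hbc.ne h.symm, fun h _ => hab.ne h⟩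
  have h2 : (G.deleteEdges {s(a, b)}).Adj c b := by
    rw [SimpleGraph.deleteEdges_adj]
    refine ⟨hbc.symm, ?_⟩
    simp only [Set.mem_singleton_iff, Sym2.eq_iff, not_or, not_and]
    exact ⟨fun h _ => hca.ne h, fun h _ => hbc.ne h.symm⟩
  exact h1.reachable.trans h2.reachable

/-- slide the edge `wx` along the edge `uw` to the edge `ux` -/
def slide (G : SimpleGraph V) (u w x : V) : SimpleGraph V :=
  G.deleteEdges {s(w, x)} ⊔ SimpleGraph.fromEdgeSet {s(u, x)}

lemma slide_adj (u w x a b : V) :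
    (slide G u w x).Adj a b ↔ (G.Adj a b ∧ s(a, b) ≠ s(w, x)) ∨ (s(a, b) = s(u, x) ∧ a ≠ b) := by
  simp [slide, SimpleGraph.deleteEdges_adj, SimpleGraph.fromEdgeSet_adj]

lemma slide_connected (hG : G.Connected) {u w x : V} (huw : G.Adj u w) (hux : u ≠ x) :
    (slide G u w x).Connected := by
  haveI := hG.nonempty
  have hadj : ∀ a b, G.Adj a b → (slide G u w x).Reachable a b := by
    intro a b hab
    by_cases h : s(a, b) = s(w, x)
    · have hwu : (slide G u w x).Adj w u := by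
        rw [slide_adj]
        left
        refine ⟨huw.symm, ?_⟩
        simp only [ne_eq, Sym2.eq_iff, not_or, not_and]
        exact ⟨fun _ => hux, fun _ h => huw.ne h⟩
      have hux' : (slide G u w x).Adj u x := by
        rw [slide_adj]
        right
        exact ⟨rfl, hux⟩
      have hwx : (slide G u w x).Reachable w x := hwu.reachable.trans hux'.reachable
      rw [Sym2.eq_iff] at h
      rcases h with ⟨rfl, rfl⟩ | ⟨rfl, rfl⟩
      · exact hwx
      · exact hwx.symm
    · exact SimpleGraph.Adj.reachable ((slide_adj u w x a b).mpr (Or.inl ⟨hab, h⟩))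
  refine ⟨fun a b => ?_⟩
  obtain ⟨p⟩ := hG.preconnected a b
  induction p with
  | nil => exact SimpleGraph.Reachable.refl _
  | cons h p ih => exact (hadj _ _ h).trans ih

lemma slide_edgeSet (u w x : V) (hux : u ≠ x) :
    (slide G u w x).edgeSet = insert s(u, x) (G.edgeSet \ {s(w, x)}) := by
  ext e
  induction e using Sym2.ind with
  | _ a b =>
    rw [SimpleGraph.mem_edgeSet, slide_adj]
    simp only [Set.mem_insert_iff, Set.mem_sdiff, SimpleGraph.mem_edgeSet, Set.mem_singleton_iff]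
    constructor
    · rintro (⟨h1, h2⟩ | ⟨h1, _⟩)
      · exact Or.inr ⟨h1, h2⟩
      · exact Or.inl h1
    · rintro (h | ⟨h1, h2⟩)
      · refine Or.inr ⟨h, ?_⟩
        rw [Sym2.eq_iff] at h
        rcases h with ⟨rfl, rfl⟩ | ⟨rfl, rfl⟩
        · exact hux
        · exact hux.symm
      · exact Or.inl ⟨h1, h2⟩

lemma slide_isTree [Finite V] (hG : G.IsTree) {u w x : V} (huw : G.Adj u w) (hwx : G.Adj w x)
    (hux : u ≠ x) : (slide G u w x).IsTree := by
  rw [SimpleGraph.isTree_iff_connected_and_card] at hG ⊢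
  refine ⟨slide_connected hG.1 huw hux, ?_⟩
  rw [← hG.2]
  congr 1
  rw [Nat.card_coe_set_eq, Nat.card_coe_set_eq, slide_edgeSet u w x hux]
  have hfin : G.edgeSet.Finite := Set.toFinite _
  have hacyc : G.IsAcyclic := ((SimpleGraph.isTree_iff_connected_and_card).mpr hG).isAcyclic
  have hnot : s(u, x) ∉ G.edgeSet \ {s(w, x)} := by
    intro h
    exact no_triangle hacyc huw hwx (show G.Adj u x from h.1).symm
  have hmem : s(w, x) ∈ G.edgeSet := hwx
  rw [Set.ncard_insert_of_notMem hnot (hfin.subset Set.sdiff_subset),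
    Set.ncard_sdiff_singleton_add_one hmem hfin]

end Graph


section Moves

variable {n : ℕ}

/-- sliding an edge is a conic deformation -/
lemma conicAdj_slide {G : SimpleGraph (Fin n)} (hG : G.IsTree) (m : Fin k → Fin n)
    {u w x : Fin n} (huw : G.Adj u w) (hwx : G.Adj w x) (hux : u ≠ x) :
    ConicAdj ⟨n, G, hG, m⟩ ⟨n, slide G u w x, slide_isTree hG huw hwx hux, m⟩ := by
  have huw₂ : (slide G u w x).Adj u w := by
    rw [slide_adj]
    left
    refine ⟨huw, ?_⟩
    simp only [ne_eq, Sym2.eq_iff, not_or, not_and]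
    exact ⟨fun h _ => huw.ne h, fun h _ => hux h⟩
  have F1 : ∀ a b : Fin n, a ≠ w → b ≠ w →
      ((slide G u w x).Adj a b ↔ G.Adj a b ∨ (s(a, b) = s(u, x) ∧ a ≠ b)) := by
    intro a b ha hb
    rw [slide_adj]
    constructor
    · rintro (⟨h1, _⟩ | h)
      · exact Or.inl h1
      · exact Or.inr h
    · rintro (h | h)
      · refine Or.inl ⟨h, ?_⟩
        simp only [ne_eq, Sym2.eq_iff, not_or, not_and]
        exact ⟨fun h' _ => ha h', fun _ h' => hb h'⟩
      · exact Or.inr h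
  have F2 : ∀ b : Fin n, b ≠ w → ((slide G u w x).Adj w b ↔ G.Adj w b ∧ b ≠ x) := by
    intro b hb
    rw [slide_adj]
    constructor
    · rintro (⟨h1, h2⟩ | ⟨h1, _⟩)
      · refine ⟨h1, fun h => h2 ?_⟩
        rw [h]
      · exfalso
        rw [Sym2.eq_iff] at h1
        rcases h1 with ⟨h1, _⟩ | ⟨h1, _⟩
        · exact huw.ne h1.symm
        · exact hwx.ne h1
    · rintro ⟨h1, h2⟩
      refine Or.inl ⟨h1, ?_⟩
      simp only [ne_eq, Sym2.eq_iff, not_or, not_and]
      exact ⟨fun _ h => h2 h, fun h _ => hwx.ne h⟩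
  refine conicAdj_of_contract_eq hG _ m m u w huw huw₂ ?_ (fun i => rfl)
  have key1 : ∀ a b : {v : Fin n // v ≠ w}, a ≠ b →
      (G.Adj a.1 b.1 ∨ (a.1 = u ∧ G.Adj w b.1)) →
      ((slide G u w x).Adj a.1 b.1 ∨ (a.1 = u ∧ (slide G u w x).Adj w b.1)) := by
    intro a b hab h
    have hab' : a.1 ≠ b.1 := fun h' => hab (Subtype.ext h')
    rcases h with h | ⟨h1, h2⟩
    · exact Or.inl ((F1 a.1 b.1 a.2 b.2).mpr (Or.inl h))
    · by_cases hbx : b.1 = x
      · refine Or.inl ((F1 a.1 b.1 a.2 b.2).mpr (Or.inr ⟨?_, hab'⟩))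
        rw [h1, hbx]
      · exact Or.inr ⟨h1, (F2 b.1 b.2).mpr ⟨h2, hbx⟩⟩
  have key2 : ∀ a b : {v : Fin n // v ≠ w}, a ≠ b →
      ((slide G u w x).Adj a.1 b.1 ∨ (a.1 = u ∧ (slide G u w x).Adj w b.1)) →
      ((G.Adj a.1 b.1 ∨ (a.1 = u ∧ G.Adj w b.1)) ∨ (G.Adj b.1 a.1 ∨ (b.1 = u ∧ G.Adj w a.1))) := by
    intro a b _ h
    rcases h with h | ⟨h1, h2⟩
    · rcases (F1 a.1 b.1 a.2 b.2).mp h with h | ⟨h, _⟩
      · exact Or.inl (Or.inl h)
      · rw [Sym2.eq_iff] at h
        rcases h with ⟨h1, h2⟩ | ⟨h1, h2⟩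
        · exact Or.inl (Or.inr ⟨h1, h2 ▸ hwx⟩)
        · exact Or.inr (Or.inr ⟨h2, h1 ▸ hwx⟩)
    · exact Or.inl (Or.inr ⟨h1, ((F2 b.1 b.2).mp h2).1⟩)
  intro a b
  simp only [contract, SimpleGraph.fromRel_adj]
  constructor
  · rintro ⟨hab, h | h⟩
    · exact ⟨hab, Or.inl (key1 a b hab h)⟩
    · exact ⟨hab, Or.inr (key1 b a (Ne.symm hab) h)⟩
  · rintro ⟨hab, h | h⟩
    · exact ⟨hab, key2 a b hab h⟩
    · exact ⟨hab, (key2 b a (Ne.symm hab) h).symm⟩

/-- moving a mark along an edge is a conic deformation -/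
lemma conicAdj_moveMark {G : SimpleGraph (Fin n)} (hG : G.IsTree) (m : Fin k → Fin n)
    (i : Fin k) {u : Fin n} (h : G.Adj u (m i)) :
    ConicAdj ⟨n, G, hG, m⟩ ⟨n, G, hG, Function.update m i u⟩ := by
  refine conicAdj_of_contract_eq hG hG m _ u (m i) h h (fun a b => Iff.rfl) (fun j => ?_)
  unfold contractMark
  by_cases hj : j = i
  · subst hj
    rw [dif_pos rfl, Function.update_self, dif_neg h.ne]
  · rw [Function.update_of_ne hj]

end Moves

section Normalize

variable {n : ℕ}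

/-- the star with centre `r` -/
def starG (n : ℕ) (r : Fin n) : SimpleGraph (Fin n) where
  Adj a b := (a = r ∧ b ≠ r) ∨ (b = r ∧ a ≠ r)
  symm := ⟨fun _ _ h => h.symm⟩
  loopless := ⟨fun _ h => by rcases h with ⟨h1, h2⟩ | ⟨h1, h2⟩ <;> exact h2 h1⟩

lemma eq_starG {G : SimpleGraph (Fin n)} (hG : G.IsTree) (r : Fin n)
    (h : ∀ v, v ≠ r → G.Adj r v) : G = starG n r := by
  ext a b
  constructor
  · intro hab
    by_cases ha : a = r
    · subst ha; exact Or.inl ⟨rfl, hab.ne'⟩
    · by_cases hb : b = r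
      · subst hb; exact Or.inr ⟨rfl, ha⟩
      · exact (no_triangle hG.isAcyclic (h a ha) hab (h b hb).symm).elim
  · rintro (⟨rfl, hb⟩ | ⟨rfl, ha⟩)
    · exact h b hb
    · exact (h a ha).symm

theorem to_star (r : Fin n) : ∀ (N : ℕ) (G : SimpleGraph (Fin n)) (hG : G.IsTree)
    (m : Fin k → Fin n),
    (Set.ncard {v : Fin n | v ≠ r ∧ ¬ G.Adj r v}) = N →
    ∃ (G' : SimpleGraph (Fin n)) (hG' : G'.IsTree), (∀ v, v ≠ r → G'.Adj r v) ∧
      Relation.ReflTransGen ConicAdj (⟨n, G, hG, m⟩ : MarkedTree k) ⟨n, G', hG', m⟩ := by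
  intro N
  induction N using Nat.strong_induction_on with
  | _ N ih =>
    intro G hG m hN
    by_cases hall : ∀ v, v ≠ r → G.Adj r v
    · exact ⟨G, hG, hall, Relation.ReflTransGen.refl⟩
    · push Not at hall
      obtain ⟨v, hvr, hv⟩ := hall
      -- a crossing edge from the closed neighbourhood of `r`
      set S : Set (Fin n) := {a | a = r ∨ G.Adj r a} with hS
      obtain ⟨p⟩ := hG.connected.preconnected r v
      obtain ⟨d, -, hd1, hd2⟩ := p.exists_boundary_dart S (Or.inl rfl)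
        (fun h => h.elim hvr hv)
      have hda := d.adj
      simp only [hS, Set.mem_ofPred_eq, not_or] at hd1 hd2
      have hfst : G.Adj r d.fst := by
        rcases hd1 with h | h
        · exact absurd (h ▸ hda) hd2.2
        · exact h
      have hne : r ≠ d.snd := fun h => hd2.1 h.symm
      have step := conicAdj_slide hG m hfst hda hne
      have hsub : {v : Fin n | v ≠ r ∧ ¬ (slide G r d.fst d.snd).Adj r v} ⊂
          {v : Fin n | v ≠ r ∧ ¬ G.Adj r v} := by
        refine ⟨fun a ⟨ha1, ha2⟩ => ⟨ha1, fun hra => ha2 ?_⟩, fun hcon => ?_⟩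
        · rw [slide_adj]
          refine Or.inl ⟨hra, ?_⟩
          simp only [ne_eq, Sym2.eq_iff, not_or, not_and]
          exact ⟨fun h _ => hfst.ne h, fun h _ => hne h⟩
        · have := hcon ⟨hd2.1, hd2.2⟩
          apply this.2
          rw [slide_adj]
          exact Or.inr ⟨rfl, hne⟩
      have hlt := Set.ncard_lt_ncard hsub (Set.toFinite _)
      rw [hN] at hlt
      obtain ⟨G', hG', hstar, hchain⟩ := ih _ hlt (slide G r d.fst d.snd)
        (slide_isTree hG hfst hda hne) m rfl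
      exact ⟨G', hG', hstar, Relation.ReflTransGen.head step hchain⟩

theorem marks_to_root {G : SimpleGraph (Fin n)} (hG : G.IsTree) (r : Fin n)
    (hstar : ∀ v, v ≠ r → G.Adj r v) : ∀ (N : ℕ) (m : Fin k → Fin n),
    (Finset.univ.filter (fun i => m i ≠ r)).card = N →
    Relation.ReflTransGen ConicAdj (⟨n, G, hG, m⟩ : MarkedTree k) ⟨n, G, hG, fun _ => r⟩ := by
  intro N
  induction N with
  | zero =>
    intro m hN
    have : m = fun _ => r := by
      funext i
      by_contra hi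
      have : i ∈ Finset.univ.filter (fun i => m i ≠ r) := by simp [hi]
      rw [Finset.card_eq_zero.mp hN] at this
      exact absurd this (Finset.notMem_empty _)
    subst this
    exact Relation.ReflTransGen.refl
  | succ N ih =>
    intro m hN
    have hpos : 0 < (Finset.univ.filter (fun i => m i ≠ r)).card := by omega
    obtain ⟨i, hi⟩ := Finset.card_pos.mp hpos
    simp only [Finset.mem_filter, Finset.mem_univ, true_and] at hi
    have step := conicAdj_moveMark hG m i (hstar (m i) hi)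
    refine Relation.ReflTransGen.head step (ih _ ?_)
    have hset : Finset.univ.filter (fun j => Function.update m i r j ≠ r) =
        (Finset.univ.filter (fun j => m j ≠ r)).erase i := by
      ext j
      simp only [Finset.mem_filter, Finset.mem_univ, true_and, Finset.mem_erase]
      by_cases hj : j = i
      · subst hj; simp
      · rw [Function.update_of_ne hj]; simp [hj]
    rw [hset, Finset.card_erase_of_mem (by simp [hi]), hN]
    rfl

lemma rtg_symm {a b : MarkedTree k} (h : Relation.ReflTransGen ConicAdj a b) :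
    Relation.ReflTransGen ConicAdj b a := by
  induction h with
  | refl => exact Relation.ReflTransGen.refl
  | tail _ hbc ih => exact Relation.ReflTransGen.head (conicAdj_symm hbc) ih

theorem main (T₁ T₂ : MarkedTree k) (h : T₁.n = T₂.n) :
    Relation.ReflTransGen ConicAdj T₁ T₂ := by
  obtain ⟨n₁, G₁, hG₁, m₁⟩ := T₁
  obtain ⟨n₂, G₂, hG₂, m₂⟩ := T₂
  simp only at h
  subst h
  haveI : Nonempty (Fin n₁) := hG₁.connected.nonempty
  have hn : 0 < n₁ := Fin.pos_iff_nonempty.mpr inferInstance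
  let r : Fin n₁ := ⟨0, hn⟩
  have norm : ∀ (G : SimpleGraph (Fin n₁)) (hG : G.IsTree) (m : Fin k → Fin n₁),
      ∃ hs : (starG n₁ r).IsTree, Relation.ReflTransGen ConicAdj
        (⟨n₁, G, hG, m⟩ : MarkedTree k) ⟨n₁, starG n₁ r, hs, fun _ => r⟩ := by
    intro G hG m
    obtain ⟨G', hG', hstar, hchain⟩ := to_star r _ G hG m rfl
    have heq := eq_starG hG' r hstar
    subst heq
    exact ⟨hG', hchain.trans (marks_to_root hG' r hstar _ m rfl)⟩
  obtain ⟨hs₁, c₁⟩ := norm G₁ hG₁ m₁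
  obtain ⟨_, c₂⟩ := norm G₂ hG₂ m₂
  exact c₁.trans (rtg_symm c₂)

end Normalize

end Groth.Agent.Lib.Helper24.MarkedTreeLib
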