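import Mathlib
import Groth.Prelude.Def_RegImm
import Groth.Agent.Lib.Helper24.RelGCIAway

/-!
# Nakayama and presentations `P/J ≅ P[z]/(G, gz - 1)`
-/

set_option autoImplicit false
set_option maxHeartbeats 400000
set_option linter.style.haveILetI false
set_option linter.unusedSectionVars false
set_option linter.unusedVariables false

universe u

open MvPolynomial

namespace Groth.Agent.Lib.Helper24.NakPres

/-- Abstract generation modulo the square: the elements `G i = α i + β i - ∑ k, ε i k * β k`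
generate `J = (α) + (β)` modulo `J²` when `ε` is idempotent modulo `(α)` and fixes `α` modulo
`J²`. -/
theorem le_span_sup_sq {T : Type*} [CommRing T] {m : ℕ} (α β : Fin m → T) (ε : Fin m → Fin m → T)
    (J : Ideal T) (hJ : J = Ideal.span (Set.range α) ⊔ Ideal.span (Set.range β))
    (h1 : ∀ i, α i - ∑ j, ε i j * α j ∈ J * J)
    (h3 : ∀ i k, ε i k - ∑ j, ε i j * ε j k ∈ Ideal.span (Set.range α))
    (hβ : ∀ i, ∑ k, ε i k * β k ∈ Ideal.span (Set.range α)) :
    J ≤ Ideal.span (Set.range fun i => α i + β i - ∑ k, ε i k * β k) ⊔ J * J := by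
  set G : Fin m → T := fun i => α i + β i - ∑ k, ε i k * β k with hG
  set W : Ideal T := Ideal.span (Set.range G) ⊔ J * J with hW
  have hαJ : ∀ i, α i ∈ J := fun i => by
    rw [hJ]; exact Ideal.mem_sup_left (Ideal.subset_span ⟨i, rfl⟩)
  have hβJ : ∀ i, β i ∈ J := fun i => by
    rw [hJ]; exact Ideal.mem_sup_right (Ideal.subset_span ⟨i, rfl⟩)
  have hIJ : Ideal.span (Set.range α) ≤ J := by rw [hJ]; exact le_sup_left
  have hGW : ∀ i, G i ∈ W := fun i => Ideal.mem_sup_left (Ideal.subset_span ⟨i, rfl⟩)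
  have hsqW : J * J ≤ W := le_sup_right
  have hα : ∀ t, α t ∈ W := by
    intro t
    have e1 : ∑ i, ε t i * G i =
        ∑ i, ε t i * α i + ∑ i, ε t i * β i - ∑ i, ε t i * ∑ k, ε i k * β k := by
      simp only [hG, mul_add, mul_sub, Finset.sum_add_distrib, Finset.sum_sub_distrib]
    have e2 : ∑ i, ε t i * ∑ k, ε i k * β k = ∑ k, (∑ i, ε t i * ε i k) * β k := by
      simp only [Finset.mul_sum, Finset.sum_mul]
      rw [Finset.sum_comm]
      refine Finset.sum_congr rfl fun k _ => Finset.sum_congr rfl fun i _ => ?_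
      ring
    have e3 : ∑ k, (ε t k - ∑ i, ε t i * ε i k) * β k =
        ∑ i, ε t i * β i - ∑ k, (∑ i, ε t i * ε i k) * β k := by
      simp only [sub_mul, Finset.sum_sub_distrib]
    have key : α t = (α t - ∑ i, ε t i * α i) + ∑ i, ε t i * G i -
        ∑ k, (ε t k - ∑ i, ε t i * ε i k) * β k := by
      rw [e1, e3, e2]
      ring
    rw [key]
    refine W.sub_mem (W.add_mem (hsqW (h1 t)) ?_) ?_
    · exact W.sum_mem fun i _ => W.mul_mem_left _ (hGW i)
    · refine W.sum_mem fun k _ => hsqW ?_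
      exact Ideal.mul_mem_mul (hIJ (h3 t k)) (hβJ k)
  have hIW : Ideal.span (Set.range α) ≤ W := by
    rw [Ideal.span_le]
    rintro _ ⟨t, rfl⟩
    exact hα t
  have hβW : ∀ i, β i ∈ W := by
    intro i
    have key : β i = G i - α i + ∑ k, ε i k * β k := by
      simp only [hG]
      ring
    rw [key]
    exact W.add_mem (W.sub_mem (hGW i) (hα i)) (hIW (hβ i))
  rw [hJ]
  refine sup_le hIW ?_
  rw [Ideal.span_le]
  rintro _ ⟨i, rfl⟩
  exact hβW i

/-- Nakayama: if `J` is finitely generated and `G ⊆ J` generates `J` modulo `J²`, then some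
`g ∈ 1 + J` satisfies `g J ⊆ (G)`. -/
theorem exists_nak {T : Type*} [CommRing T] (J : Ideal T) (hJ : J.FG) {K : ℕ} (G : Fin K → T)
    (hG : ∀ i, G i ∈ J) (hle : J ≤ Ideal.span (Set.range G) ⊔ J * J) :
    ∃ g : T, g - 1 ∈ J ∧ ∀ a ∈ J, g * a ∈ Ideal.span (Set.range G) := by
  set W := Ideal.span (Set.range G) with hW
  have hWJ : W ≤ J := Ideal.span_le.mpr (by rintro _ ⟨i, rfl⟩; exact hG i)
  set Jb : Ideal (T ⧸ W) := J.map (Ideal.Quotient.mk W) with hJb
  have hfg : Jb.FG := hJ.map _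
  have hle' : Jb ≤ Jb • Jb := by
    calc Jb ≤ (W ⊔ J * J).map (Ideal.Quotient.mk W) := Ideal.map_mono hle
      _ = Jb * Jb := by
        rw [Ideal.map_sup, Ideal.map_mul, Ideal.map_quotient_self, bot_sup_eq]
      _ = Jb • Jb := rfl
  obtain ⟨r, hr1, hr0⟩ :=
    Submodule.exists_sub_one_mem_and_smul_eq_zero_of_fg_of_le_smul Jb Jb hfg hle'
  obtain ⟨g, rfl⟩ := Ideal.Quotient.mk_surjective r
  refine ⟨g, ?_, ?_⟩
  · have h1 : Ideal.Quotient.mk W (g - 1) ∈ Jb := by rwa [map_sub, map_one]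
    obtain ⟨j, hj, hjeq⟩ :=
      (Ideal.mem_map_iff_of_surjective _ Ideal.Quotient.mk_surjective).mp h1
    have h3 : j - (g - 1) ∈ W := Ideal.Quotient.eq.mp hjeq
    have h4 : g - 1 = j - (j - (g - 1)) := by ring
    rw [h4]
    exact J.sub_mem hj (hWJ h3)
  · intro a ha
    have h1 := hr0 (Ideal.Quotient.mk W a) (Ideal.mem_map_of_mem _ ha)
    rw [smul_eq_mul, ← map_mul] at h1
    exact Ideal.Quotient.eq_zero_iff_mem.mp h1

/-- If `g ∈ 1 + J` and `g J ⊆ (G) ⊆ J` then `P/J ≅ P[z]/(G, g z - 1)`. -/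
theorem exists_pres {R : Type u} [CommRing R] (N K : ℕ) (J : Ideal (MvPolynomial (Fin N) R))
    (G : Fin K → MvPolynomial (Fin N) R) (g : MvPolynomial (Fin N) R)
    (hG : ∀ i, G i ∈ J) (hg1 : g - 1 ∈ J)
    (hgJ : ∀ a ∈ J, g * a ∈ Ideal.span (Set.range G)) :
    Nonempty ((MvPolynomial (Fin N) R ⧸ J) ≃ₐ[R] Synt.RelGCIRing R (N + 1) (K + 1)
      (Fin.snoc (fun i => rename Fin.castSucc (G i))
        (rename Fin.castSucc g * X (Fin.last N) - 1))) := by
  obtain ⟨e₂⟩ := RelGCIAway.exists_awayEquiv N K G g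
  have hWJ : Ideal.span (Set.range G) ≤ J :=
    Ideal.span_le.mpr (by rintro _ ⟨i, rfl⟩; exact hG i)
  let φ : (MvPolynomial (Fin N) R ⧸ Ideal.span (Set.range G)) →ₐ[R]
      (MvPolynomial (Fin N) R ⧸ J) := Ideal.Quotient.factorₐ R hWJ
  have hφ : ∀ a, φ (Ideal.Quotient.mk _ a) = Ideal.Quotient.mk J a := fun a => rfl
  have hone : φ (Ideal.Quotient.mk _ g) = 1 := by
    rw [hφ, ← map_one (Ideal.Quotient.mk J)]
    exact Ideal.Quotient.eq.mpr hg1
  letI : Algebra (MvPolynomial (Fin N) R ⧸ Ideal.span (Set.range G))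
      (MvPolynomial (Fin N) R ⧸ J) := φ.toRingHom.toAlgebra
  haveI : IsScalarTower R (MvPolynomial (Fin N) R ⧸ Ideal.span (Set.range G))
      (MvPolynomial (Fin N) R ⧸ J) :=
    IsScalarTower.of_algebraMap_eq (fun r => (φ.commutes r).symm)
  haveI : IsLocalization.Away (Ideal.Quotient.mk (Ideal.span (Set.range G)) g)
      (MvPolynomial (Fin N) R ⧸ J) := by
    refine (isLocalization_iff _ _).mpr ⟨?_, ?_, ?_⟩
    · rintro ⟨_, k, rfl⟩
      show IsUnit (φ ((Ideal.Quotient.mk _ g) ^ k))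
      rw [map_pow, hone, one_pow]
      exact isUnit_one
    · intro z
      obtain ⟨a, rfl⟩ := Ideal.Quotient.mk_surjective z
      refine ⟨(Ideal.Quotient.mk _ a, 1), ?_⟩
      show Ideal.Quotient.mk J a * φ 1 = φ (Ideal.Quotient.mk _ a)
      rw [map_one, mul_one, hφ]
    · intro x y hxy
      obtain ⟨a, rfl⟩ := Ideal.Quotient.mk_surjective x
      obtain ⟨b, rfl⟩ := Ideal.Quotient.mk_surjective y
      have hxy' : Ideal.Quotient.mk J a = Ideal.Quotient.mk J b := hxy
      have hab : a - b ∈ J := Ideal.Quotient.eq.mp hxy'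
      refine ⟨⟨Ideal.Quotient.mk _ g, 1, pow_one _⟩, ?_⟩
      show Ideal.Quotient.mk _ g * Ideal.Quotient.mk _ a =
        Ideal.Quotient.mk _ g * Ideal.Quotient.mk _ b
      rw [← map_mul, ← map_mul]
      apply Ideal.Quotient.eq.mpr
      rw [← mul_sub]
      exact hgJ _ hab
  let e₁ : Localization.Away (Ideal.Quotient.mk (Ideal.span (Set.range G)) g) ≃ₐ[
      MvPolynomial (Fin N) R ⧸ Ideal.span (Set.range G)] (MvPolynomial (Fin N) R ⧸ J) :=
    IsLocalization.algEquiv (Submonoid.powers (Ideal.Quotient.mk (Ideal.span (Set.range G)) g))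
      _ _
  exact ⟨(e₁.restrictScalars R).symm.trans e₂⟩

end Groth.Agent.Lib.Helper24.NakPres
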