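import Mathlib

/-!
# NilPair (helper24), part A

Index category of finitely presented cospans `QB → QD ← QD'` over a cospan `B → D ← D'` of
`R`-algebras (with `QD' → QD` surjective with locally nilpotent kernel, and `QB → QD` subject
to a predicate `E`), its diagrams in `Under R`, and the transport lemma `exists_obj`.
-/

set_option autoImplicit false
set_option maxHeartbeats 400000
set_option linter.style.haveILetI false
set_option linter.unusedSectionVars false
set_option linter.unusedVariables false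

universe u
open CategoryTheory Limits TensorProduct

namespace Groth.Agent.Lib.Helper24.NilPair

noncomputable section

/-! ## generic lemmas -/

section Colim
variable {R : Type u} [CommRing R]

attribute [local instance] IsFiltered.isConnected in
theorem isColimit_of_elementwise {J : Type u} [SmallCategory J] [IsFiltered J]
    (F : J ⥤ Under (CommRingCat.of R)) (c : Cocone F)
    (hsurj : ∀ x : c.pt.right, ∃ (j : J) (y : (F.obj j).right), (c.ι.app j).right.hom y = x)
    (hinj : ∀ (j : J) (y y' : (F.obj j).right),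
      (c.ι.app j).right.hom y = (c.ι.app j).right.hom y' →
      ∃ (k : J) (m : j ⟶ k), (F.map m).right.hom y = (F.map m).right.hom y') :
    Nonempty (IsColimit c) := by
  have h1 : IsColimit ((forget CommRingCat).mapCocone
      ((Under.forget (CommRingCat.of R)).mapCocone c)) := by
    apply Types.FilteredColimit.isColimitOf'
    · intro b
      obtain ⟨j, y, hy⟩ := hsurj b
      exact ⟨j, y, hy.symm⟩
    · intro j y y' h
      obtain ⟨k, m, hm⟩ := hinj j y y' h
      exact ⟨k, m, hm⟩
  haveI : ReflectsColimit (F ⋙ Under.forget (CommRingCat.of R)) (forget CommRingCat) :=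
    reflectsColimit_of_reflectsIsomorphisms _ _
  have h2 : IsColimit ((Under.forget (CommRingCat.of R)).mapCocone c) :=
    isColimitOfReflects (forget CommRingCat) h1
  exact ⟨isColimitOfReflects (Under.forget (CommRingCat.of R)) h2⟩

end Colim

section PB
variable {B D D' P : Type u} [CommRing B] [CommRing D] [CommRing D'] [CommRing P]
  {f : B →+* D} {i : D' →+* D} {q₁ : P →+* B} {q₂ : P →+* D'}

theorem pb_comm (hP : IsPullback (CommRingCat.ofHom q₁) (CommRingCat.ofHom q₂)
    (CommRingCat.ofHom f) (CommRingCat.ofHom i)) (p : P) : f (q₁ p) = i (q₂ p) := by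
  have h := hP.w
  have h2 := congrArg (fun g => g.hom p) h
  simpa using h2

theorem pb_inj (hP : IsPullback (CommRingCat.ofHom q₁) (CommRingCat.ofHom q₂)
    (CommRingCat.ofHom f) (CommRingCat.ofHom i)) (p p' : P)
    (h1 : q₁ p = q₁ p') (h2 : q₂ p = q₂ p') : p = p' := by
  let W : CommRingCat.{u} := CommRingCat.of (FreeCommRing PUnit.{u+1})
  let ev : P → (W ⟶ CommRingCat.of P) :=
    fun a => CommRingCat.ofHom (FreeCommRing.lift (fun _ => a))
  have key : ev p = ev p' := by
    apply hP.hom_ext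
    · apply CommRingCat.hom_ext
      apply FreeCommRing.hom_ext
      intro x
      simp [ev, h1]
    · apply CommRingCat.hom_ext
      apply FreeCommRing.hom_ext
      intro x
      simp [ev, h2]
  have h3 : (ev p).hom (FreeCommRing.of PUnit.unit) = (ev p').hom (FreeCommRing.of PUnit.unit) := by
    rw [key]
  have h4 : (FreeCommRing.lift fun _ : PUnit.{u+1} => p) (FreeCommRing.of PUnit.unit) = p :=
    FreeCommRing.lift_of _ _
  have h5 : (FreeCommRing.lift fun _ : PUnit.{u+1} => p') (FreeCommRing.of PUnit.unit) = p' :=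
    FreeCommRing.lift_of _ _
  exact h4.symm.trans (h3.trans h5)

theorem pb_surj (hP : IsPullback (CommRingCat.ofHom q₁) (CommRingCat.ofHom q₂)
    (CommRingCat.ofHom f) (CommRingCat.ofHom i)) (b : B) (d' : D') (h : f b = i d') :
    ∃ p : P, q₁ p = b ∧ q₂ p = d' := by
  let W : CommRingCat.{u} := CommRingCat.of (FreeCommRing PUnit.{u+1})
  let u : W ⟶ CommRingCat.of B := CommRingCat.ofHom (FreeCommRing.lift (fun _ => b))
  let v : W ⟶ CommRingCat.of D' := CommRingCat.ofHom (FreeCommRing.lift (fun _ => d'))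
  have w : u ≫ CommRingCat.ofHom f = v ≫ CommRingCat.ofHom i := by
    apply CommRingCat.hom_ext
    apply FreeCommRing.hom_ext
    intro x
    simp [u, v, h]
  refine ⟨(hP.lift u v w).hom (FreeCommRing.of PUnit.unit), ?_, ?_⟩
  · have h1 := hP.lift_fst u v w
    have h2 : (hP.lift u v w ≫ CommRingCat.ofHom q₁).hom (FreeCommRing.of PUnit.unit) =
        u.hom (FreeCommRing.of PUnit.unit) := by rw [h1]
    exact h2.trans (FreeCommRing.lift_of _ _)
  · have h1 := hP.lift_snd u v w
    have h2 : (hP.lift u v w ≫ CommRingCat.ofHom q₂).hom (FreeCommRing.of PUnit.unit) =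
        v.hom (FreeCommRing.of PUnit.unit) := by rw [h1]
    exact h2.trans (FreeCommRing.lift_of _ _)

end PB

section Aux
variable {R A X : Type u} [CommRing R] [CommRing A] [CommRing X] [Algebra R A] [Algebra R X]

theorem bot_ker (g : A →ₐ[R] X) : ∀ x ∈ (⊥ : Ideal A), g x = 0 := fun x hx => by
  rw [Ideal.mem_bot.1 hx, map_zero]

theorem span_singleton_ker (g : A →ₐ[R] X) (y y' : A) (h : g y = g y') :
    ∀ x ∈ Ideal.span {y - y'}, g x = 0 := by
  intro x hx
  obtain ⟨c, rfl⟩ := Ideal.mem_span_singleton'.1 hx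
  rw [map_mul, map_sub, h, sub_self, mul_zero]

theorem span_singleton_ker0 (g : A →ₐ[R] X) (z : A) (h : g z = 0) :
    ∀ x ∈ Ideal.span {z}, g x = 0 := by
  intro x hx
  obtain ⟨c, rfl⟩ := Ideal.mem_span_singleton'.1 hx
  rw [map_mul, h, mul_zero]

theorem fg_singleton (z : A) : (Ideal.span {z}).FG := ⟨{z}, by simp⟩

end Aux

/-! ## the index category -/

section Main
variable {R B D D' : Type u} [CommRing R] [CommRing B] [CommRing D] [CommRing D']
  [Algebra R B] [Algebra R D] [Algebra R D']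

/-- surjective with locally nilpotent kernel -/
def NilLeg {C C' : Type u} [CommRing C] [CommRing C'] (l : C →+* C') : Prop :=
  Function.Surjective l ∧ ∀ x ∈ RingHom.ker l, IsNilpotent x

variable (f : B →ₐ[R] D) (i : D' →ₐ[R] D)
variable (E : ∀ (C C' : Type u) [CommRing C] [CommRing C'], (C →+* C') → Prop)

/-- presented finitely presented cospans over `B → D ← D'`. -/
structure Obj : Type u where
  nB : ℕ
  IB : Ideal (MvPolynomial (Fin nB) R)
  fgB : IB.FG
  nD : ℕ
  ID : Ideal (MvPolynomial (Fin nD) R)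
  fgD : ID.FG
  nD' : ℕ
  ID' : Ideal (MvPolynomial (Fin nD') R)
  fgD' : ID'.FG
  φ : (MvPolynomial (Fin nB) R ⧸ IB) →ₐ[R] (MvPolynomial (Fin nD) R ⧸ ID)
  ψ : (MvPolynomial (Fin nD') R ⧸ ID') →ₐ[R] (MvPolynomial (Fin nD) R ⧸ ID)
  gB : (MvPolynomial (Fin nB) R ⧸ IB) →ₐ[R] B
  gD : (MvPolynomial (Fin nD) R ⧸ ID) →ₐ[R] D
  gD' : (MvPolynomial (Fin nD') R ⧸ ID') →ₐ[R] D'
  hφ : gD.comp φ = f.comp gB
  hψ : gD.comp ψ = i.comp gD'
  ψnil : NilLeg ψ.toRingHom
  eφ : E _ _ φ.toRingHom

variable {f i E}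

abbrev Obj.QB (s : Obj f i E) : Type u := MvPolynomial (Fin s.nB) R ⧸ s.IB
abbrev Obj.QD (s : Obj f i E) : Type u := MvPolynomial (Fin s.nD) R ⧸ s.ID
abbrev Obj.QD' (s : Obj f i E) : Type u := MvPolynomial (Fin s.nD') R ⧸ s.ID'

instance (s : Obj f i E) : Algebra.FinitePresentation R s.QB :=
  Algebra.FinitePresentation.quotient s.fgB
instance (s : Obj f i E) : Algebra.FinitePresentation R s.QD :=
  Algebra.FinitePresentation.quotient s.fgD
instance (s : Obj f i E) : Algebra.FinitePresentation R s.QD' :=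
  Algebra.FinitePresentation.quotient s.fgD'

@[ext] structure Hom (s t : Obj f i E) where
  a : s.QB →ₐ[R] t.QB
  aD : s.QD →ₐ[R] t.QD
  a' : s.QD' →ₐ[R] t.QD'
  hB : t.gB.comp a = s.gB
  hD : t.gD.comp aD = s.gD
  hD' : t.gD'.comp a' = s.gD'
  hφ : t.φ.comp a = aD.comp s.φ
  hψ : t.ψ.comp a' = aD.comp s.ψ

instance : Category.{u} (Obj f i E) where
  Hom s t := Hom s t
  id s :=
    { a := AlgHom.id R _, aD := AlgHom.id R _, a' := AlgHom.id R _
      hB := AlgHom.comp_id _, hD := AlgHom.comp_id _, hD' := AlgHom.comp_id _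
      hφ := by rw [AlgHom.comp_id, AlgHom.id_comp]
      hψ := by rw [AlgHom.comp_id, AlgHom.id_comp] }
  comp {s t u} m n :=
    { a := n.a.comp m.a, aD := n.aD.comp m.aD, a' := n.a'.comp m.a'
      hB := AlgHom.ext fun x => by
        have h1 := AlgHom.congr_fun n.hB (m.a x)
        have h2 := AlgHom.congr_fun m.hB x
        simp only [AlgHom.comp_apply] at h1 h2 ⊢
        rw [h1, h2]
      hD := AlgHom.ext fun x => by
        have h1 := AlgHom.congr_fun n.hD (m.aD x)
        have h2 := AlgHom.congr_fun m.hD x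
        simp only [AlgHom.comp_apply] at h1 h2 ⊢
        rw [h1, h2]
      hD' := AlgHom.ext fun x => by
        have h1 := AlgHom.congr_fun n.hD' (m.a' x)
        have h2 := AlgHom.congr_fun m.hD' x
        simp only [AlgHom.comp_apply] at h1 h2 ⊢
        rw [h1, h2]
      hφ := AlgHom.ext fun x => by
        have h1 := AlgHom.congr_fun n.hφ (m.a x)
        have h2 := AlgHom.congr_fun m.hφ x
        simp only [AlgHom.comp_apply] at h1 h2 ⊢
        rw [h1, h2]
      hψ := AlgHom.ext fun x => by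
        have h1 := AlgHom.congr_fun n.hψ (m.a' x)
        have h2 := AlgHom.congr_fun m.hψ x
        simp only [AlgHom.comp_apply] at h1 h2 ⊢
        rw [h1, h2] }
  id_comp m := Hom.ext (AlgHom.comp_id _) (AlgHom.comp_id _) (AlgHom.comp_id _)
  comp_id m := Hom.ext (AlgHom.id_comp _) (AlgHom.id_comp _) (AlgHom.id_comp _)
  assoc m n k := Hom.ext rfl rfl rfl

theorem comp_a {s t u : Obj f i E} (m : s ⟶ t) (n : t ⟶ u) : (m ≫ n).a = n.a.comp m.a := rfl
theorem comp_aD {s t u : Obj f i E} (m : s ⟶ t) (n : t ⟶ u) : (m ≫ n).aD = n.aD.comp m.aD := rfl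
theorem comp_a' {s t u : Obj f i E} (m : s ⟶ t) (n : t ⟶ u) : (m ≫ n).a' = n.a'.comp m.a' := rfl

variable (f i E)

/-- the `B`-diagram -/
def DB : Obj f i E ⥤ Under (CommRingCat.of R) where
  obj s := Under.mk (CommRingCat.ofHom (algebraMap R s.QB))
  map m := Under.homMk (CommRingCat.ofHom m.a.toRingHom) (by
    ext r
    exact m.a.commutes r)
  map_id s := by
    ext : 2
    rfl
  map_comp m n := by
    ext : 2
    rfl

/-- the `D`-diagram -/
def DD : Obj f i E ⥤ Under (CommRingCat.of R) where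
  obj s := Under.mk (CommRingCat.ofHom (algebraMap R s.QD))
  map m := Under.homMk (CommRingCat.ofHom m.aD.toRingHom) (by
    ext r
    exact m.aD.commutes r)
  map_id s := by
    ext : 2
    rfl
  map_comp m n := by
    ext : 2
    rfl

/-- the `D'`-diagram -/
def DD' : Obj f i E ⥤ Under (CommRingCat.of R) where
  obj s := Under.mk (CommRingCat.ofHom (algebraMap R s.QD'))
  map m := Under.homMk (CommRingCat.ofHom m.a'.toRingHom) (by
    ext r
    exact m.a'.commutes r)
  map_id s := by
    ext : 2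
    rfl
  map_comp m n := by
    ext : 2
    rfl

def φN : DB f i E ⟶ DD f i E where
  app s := Under.homMk (CommRingCat.ofHom s.φ.toRingHom) (by
    ext r
    exact s.φ.commutes r)
  naturality s t m := by
    ext : 2
    ext x
    exact AlgHom.congr_fun m.hφ x

def ψN : DD' f i E ⟶ DD f i E where
  app s := Under.homMk (CommRingCat.ofHom s.ψ.toRingHom) (by
    ext r
    exact s.ψ.commutes r)
  naturality s t m := by
    ext : 2
    ext x
    exact AlgHom.congr_fun m.hψ x

def cB : DB f i E ⟶ (Functor.const _).obj (Under.mk (CommRingCat.ofHom (algebraMap R B))) where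
  app s := Under.homMk (CommRingCat.ofHom s.gB.toRingHom) (by
    ext r
    exact s.gB.commutes r)
  naturality s t m := by
    ext : 2
    simp only [Functor.const_obj_obj, Functor.const_obj_map, Category.comp_id]
    ext x
    exact AlgHom.congr_fun m.hB x

def cD : DD f i E ⟶ (Functor.const _).obj (Under.mk (CommRingCat.ofHom (algebraMap R D))) where
  app s := Under.homMk (CommRingCat.ofHom s.gD.toRingHom) (by
    ext r
    exact s.gD.commutes r)
  naturality s t m := by
    ext : 2
    simp only [Functor.const_obj_obj, Functor.const_obj_map, Category.comp_id]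
    ext x
    exact AlgHom.congr_fun m.hD x

def cD' : DD' f i E ⟶ (Functor.const _).obj (Under.mk (CommRingCat.ofHom (algebraMap R D'))) where
  app s := Under.homMk (CommRingCat.ofHom s.gD'.toRingHom) (by
    ext r
    exact s.gD'.commutes r)
  naturality s t m := by
    ext : 2
    simp only [Functor.const_obj_obj, Functor.const_obj_map, Category.comp_id]
    ext x
    exact AlgHom.congr_fun m.hD' x

variable {f i E}

/-- transport of an arbitrary finitely presented cospan to presented form. -/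
theorem exists_obj
    (hiso : ∀ (C C' C₁ C₁' : Type u) [CommRing C] [CommRing C'] [CommRing C₁] [CommRing C₁']
      (l : C →+* C') (l₁ : C₁ →+* C₁') (e : C ≃+* C₁) (e' : C' ≃+* C₁'),
      (∀ x, l₁ (e x) = e' (l x)) → E C C' l → E C₁ C₁' l₁)
    (CB CD CD' : Type u) [CommRing CB] [CommRing CD] [CommRing CD']
    [Algebra R CB] [Algebra R CD] [Algebra R CD']
    [hB : Algebra.FinitePresentation R CB] [hD : Algebra.FinitePresentation R CD]
    [hD' : Algebra.FinitePresentation R CD']
    (φ : CB →ₐ[R] CD) (ψ : CD' →ₐ[R] CD) (gB : CB →ₐ[R] B) (gD : CD →ₐ[R] D)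
    (gD' : CD' →ₐ[R] D')
    (hφ : gD.comp φ = f.comp gB) (hψ : gD.comp ψ = i.comp gD')
    (ψnil : NilLeg ψ.toRingHom) (eφ : E _ _ φ.toRingHom) :
    ∃ (s : Obj f i E) (eB : CB ≃ₐ[R] s.QB) (eD : CD ≃ₐ[R] s.QD) (eD' : CD' ≃ₐ[R] s.QD'),
      (∀ x, s.φ (eB x) = eD (φ x)) ∧ (∀ y, s.ψ (eD' y) = eD (ψ y)) ∧
      (∀ x, s.gB (eB x) = gB x) ∧ (∀ x, s.gD (eD x) = gD x) ∧ (∀ y, s.gD' (eD' y) = gD' y) := by
  obtain ⟨nB, pB, spB, kB⟩ := hB
  obtain ⟨nD, pD, spD, kD⟩ := hD
  obtain ⟨nD', pD', spD', kD'⟩ := hD'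
  let eB0 : (MvPolynomial (Fin nB) R ⧸ RingHom.ker pB.toRingHom) ≃ₐ[R] CB :=
    Ideal.quotientKerAlgEquivOfSurjective spB
  let eD0 : (MvPolynomial (Fin nD) R ⧸ RingHom.ker pD.toRingHom) ≃ₐ[R] CD :=
    Ideal.quotientKerAlgEquivOfSurjective spD
  let eD'0 : (MvPolynomial (Fin nD') R ⧸ RingHom.ker pD'.toRingHom) ≃ₐ[R] CD' :=
    Ideal.quotientKerAlgEquivOfSurjective spD'
  refine ⟨{ nB := nB, IB := RingHom.ker pB.toRingHom, fgB := kB
            nD := nD, ID := RingHom.ker pD.toRingHom, fgD := kD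
            nD' := nD', ID' := RingHom.ker pD'.toRingHom, fgD' := kD'
            φ := eD0.symm.toAlgHom.comp (φ.comp eB0.toAlgHom)
            ψ := eD0.symm.toAlgHom.comp (ψ.comp eD'0.toAlgHom)
            gB := gB.comp eB0.toAlgHom
            gD := gD.comp eD0.toAlgHom
            gD' := gD'.comp eD'0.toAlgHom
            hφ := ?_, hψ := ?_, ψnil := ?_, eφ := ?_ },
    eB0.symm, eD0.symm, eD'0.symm, ?_, ?_, ?_, ?_, ?_⟩
  · apply AlgHom.ext
    intro x
    show gD (eD0 (eD0.symm (φ (eB0 x)))) = f (gB (eB0 x))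
    rw [AlgEquiv.apply_symm_apply]
    exact AlgHom.congr_fun hφ _
  · apply AlgHom.ext
    intro x
    show gD (eD0 (eD0.symm (ψ (eD'0 x)))) = i (gD' (eD'0 x))
    rw [AlgEquiv.apply_symm_apply]
    exact AlgHom.congr_fun hψ _
  · refine ⟨fun y => ?_, fun x hx => ?_⟩
    · obtain ⟨z, hz⟩ := ψnil.1 (eD0 y)
      refine ⟨eD'0.symm z, ?_⟩
      show eD0.symm (ψ (eD'0 (eD'0.symm z))) = y
      rw [AlgEquiv.apply_symm_apply]
      have hz' : ψ z = eD0 y := hz
      rw [hz', AlgEquiv.symm_apply_apply]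
    · rw [RingHom.mem_ker] at hx
      have h0 : eD0.symm (ψ (eD'0 x)) = 0 := hx
      have h1 : ψ (eD'0 x) = 0 := by
        have := congrArg eD0 h0
        rwa [AlgEquiv.apply_symm_apply, map_zero] at this
      have h2 : IsNilpotent (eD'0 x) := ψnil.2 _ ((RingHom.mem_ker).2 h1)
      have h3 := h2.map eD'0.symm
      rwa [AlgEquiv.symm_apply_apply] at h3
  · refine hiso CB CD _ _ φ.toRingHom _ eB0.symm.toRingEquiv eD0.symm.toRingEquiv (fun x => ?_) eφ
    show eD0.symm (φ (eB0 (eB0.symm x))) = eD0.symm (φ x)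
    rw [AlgEquiv.apply_symm_apply]
  · intro x
    show eD0.symm (φ (eB0 (eB0.symm x))) = eD0.symm (φ x)
    rw [AlgEquiv.apply_symm_apply]
  · intro y
    show eD0.symm (ψ (eD'0 (eD'0.symm y))) = eD0.symm (ψ y)
    rw [AlgEquiv.apply_symm_apply]
  · intro x
    show gB (eB0 (eB0.symm x)) = gB x
    rw [AlgEquiv.apply_symm_apply]
  · intro x
    show gD (eD0 (eD0.symm x)) = gD x
    rw [AlgEquiv.apply_symm_apply]
  · intro y
    show gD' (eD'0 (eD'0.symm y)) = gD' y
    rw [AlgEquiv.apply_symm_apply]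

end Main

end

end Groth.Agent.Lib.Helper24.NilPair
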