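import Groth.Agent.Lib.Helper24.NilPairA

/-!
# NilPair (helper24), part B: leg hypotheses, quotient/tensor steps, filteredness, colimits
-/

set_option autoImplicit false
set_option maxHeartbeats 400000
set_option linter.style.haveILetI false
set_option linter.unusedSectionVars false
set_option linter.unusedVariables false

universe u
open CategoryTheory Limits TensorProduct

namespace Groth.Agent.Lib.Helper24.NilPair

noncomputable section

variable {R B D D' : Type u} [CommRing R] [CommRing B] [CommRing D] [CommRing D']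
  [Algebra R B] [Algebra R D] [Algebra R D']

/-- closure properties of a predicate `E` on ring maps, relative to a leg `h : X → D`. -/
structure LegHyp {X : Type u} [CommRing X] [Algebra R X] (h : X →ₐ[R] D)
    (E : ∀ (C C' : Type u) [CommRing C] [CommRing C'], (C →+* C') → Prop) : Prop where
  iso : ∀ (C C' C₁ C₁' : Type u) [CommRing C] [CommRing C'] [CommRing C₁] [CommRing C₁']
    (l : C →+* C') (l₁ : C₁ →+* C₁') (e : C ≃+* C₁) (e' : C' ≃+* C₁'),
    (∀ x, l₁ (e x) = e' (l x)) → E C C' l → E C₁ C₁' l₁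
  tensor : ∀ (C₁ C₁' C₂ C₂' : Type u) [CommRing C₁] [CommRing C₁'] [CommRing C₂] [CommRing C₂']
    [Algebra R C₁] [Algebra R C₁'] [Algebra R C₂] [Algebra R C₂']
    (l₁ : C₁ →ₐ[R] C₁') (l₂ : C₂ →ₐ[R] C₂'),
    E _ _ l₁.toRingHom → E _ _ l₂.toRingHom →
    E _ _ (Algebra.TensorProduct.map l₁ l₂).toRingHom
  quot : ∀ (C C' : Type u) [CommRing C] [CommRing C'] [Algebra R C] [Algebra R C']
    (l : C →ₐ[R] C') (g : C →ₐ[R] X) (g' : C' →ₐ[R] D), g'.comp l = h.comp g →
    E _ _ l.toRingHom → ∀ (J₀ : Ideal C) (J' : Ideal C'), J₀.FG → J'.FG →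
    (∀ x ∈ J₀, g x = 0) → (∀ x ∈ J', g' x = 0) → J₀ ≤ J'.comap l →
    ∃ (J : Ideal C) (hle : J ≤ J'.comap l), J.FG ∧ J₀ ≤ J ∧ (∀ x ∈ J, g x = 0) ∧
      E _ _ (Ideal.quotientMapₐ J' l hle).toRingHom

variable {f : B →ₐ[R] D} {i : D' →ₐ[R] D}
variable {E : ∀ (C C' : Type u) [CommRing C] [CommRing C'], (C →+* C') → Prop}

theorem quotStep (hφ : LegHyp f E) (hψ : LegHyp i (fun C C' _ _ l => NilLeg l)) (s : Obj f i E)
    (JB : Ideal s.QB) (JD : Ideal s.QD) (JD' : Ideal s.QD')
    (fB : JB.FG) (fD : JD.FG) (fD' : JD'.FG)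
    (kB : ∀ x ∈ JB, s.gB x = 0) (kD : ∀ x ∈ JD, s.gD x = 0) (kD' : ∀ x ∈ JD', s.gD' x = 0) :
    ∃ (t : Obj f i E) (m : s ⟶ t), (∀ x ∈ JB, m.a x = 0) ∧ (∀ x ∈ JD, m.aD x = 0) ∧
      (∀ x ∈ JD', m.a' x = 0) := by
  let JD₁ : Ideal s.QD := JD ⊔ JB.map s.φ.toRingHom ⊔ JD'.map s.ψ.toRingHom
  have fD₁ : JD₁.FG := Submodule.FG.sup (Submodule.FG.sup fD (Ideal.FG.map fB _)) (Ideal.FG.map fD' _)
  have kD₁ : ∀ x ∈ JD₁, s.gD x = 0 := by
    have hle : JD₁ ≤ RingHom.ker s.gD.toRingHom := by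
      refine sup_le (sup_le (fun x hx => ?_) ?_) ?_
      · exact (RingHom.mem_ker).2 (kD x hx)
      · rw [Ideal.map_le_iff_le_comap]
        intro x hx
        rw [Ideal.mem_comap, RingHom.mem_ker]
        show s.gD (s.φ x) = 0
        have h1 := AlgHom.congr_fun s.hφ x
        simp only [AlgHom.comp_apply] at h1
        rw [h1, kB x hx, map_zero]
      · rw [Ideal.map_le_iff_le_comap]
        intro x hx
        rw [Ideal.mem_comap, RingHom.mem_ker]
        show s.gD (s.ψ x) = 0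
        have h1 := AlgHom.congr_fun s.hψ x
        simp only [AlgHom.comp_apply] at h1
        rw [h1, kD' x hx, map_zero]
    exact fun x hx => (RingHom.mem_ker).1 (hle hx)
  have leB : JB ≤ JD₁.comap s.φ := fun x hx =>
    Ideal.mem_comap.2 (Ideal.mem_sup_left (Ideal.mem_sup_right
      (Ideal.mem_map_of_mem s.φ.toRingHom hx)))
  have leD' : JD' ≤ JD₁.comap s.ψ := fun x hx =>
    Ideal.mem_comap.2 (Ideal.mem_sup_right (Ideal.mem_map_of_mem s.ψ.toRingHom hx))
  obtain ⟨JB₁, hleB, fB₁, leB₁, kB₁, eB₁⟩ :=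
    hφ.quot s.QB s.QD s.φ s.gB s.gD s.hφ s.eφ JB JD₁ fB fD₁ kB kD₁ leB
  obtain ⟨JD'₁, hleD', fD'₁, leD'₁, kD'₁, eD'₁⟩ :=
    hψ.quot s.QD' s.QD s.ψ s.gD' s.gD s.hψ s.ψnil JD' JD₁ fD' fD₁ kD' kD₁ leD'
  haveI : Algebra.FinitePresentation R (s.QB ⧸ JB₁) := Algebra.FinitePresentation.quotient fB₁
  haveI : Algebra.FinitePresentation R (s.QD ⧸ JD₁) := Algebra.FinitePresentation.quotient fD₁
  haveI : Algebra.FinitePresentation R (s.QD' ⧸ JD'₁) :=
    Algebra.FinitePresentation.quotient fD'₁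
  have hφq : (Ideal.Quotient.liftₐ JD₁ s.gD kD₁).comp (Ideal.quotientMapₐ JD₁ s.φ hleB) =
      f.comp (Ideal.Quotient.liftₐ JB₁ s.gB kB₁) := by
    apply Ideal.Quotient.algHom_ext
    apply AlgHom.ext
    intro x
    show s.gD (s.φ x) = f (s.gB x)
    exact AlgHom.congr_fun s.hφ x
  have hψq : (Ideal.Quotient.liftₐ JD₁ s.gD kD₁).comp (Ideal.quotientMapₐ JD₁ s.ψ hleD') =
      i.comp (Ideal.Quotient.liftₐ JD'₁ s.gD' kD'₁) := by
    apply Ideal.Quotient.algHom_ext
    apply AlgHom.ext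
    intro x
    show s.gD (s.ψ x) = i (s.gD' x)
    exact AlgHom.congr_fun s.hψ x
  obtain ⟨t, eB, eD, eD', h1, h2, h3, h4, h5⟩ := exists_obj (f := f) (i := i) (E := E) hφ.iso
    (s.QB ⧸ JB₁) (s.QD ⧸ JD₁) (s.QD' ⧸ JD'₁)
    (Ideal.quotientMapₐ JD₁ s.φ hleB) (Ideal.quotientMapₐ JD₁ s.ψ hleD')
    (Ideal.Quotient.liftₐ JB₁ s.gB kB₁) (Ideal.Quotient.liftₐ JD₁ s.gD kD₁)
    (Ideal.Quotient.liftₐ JD'₁ s.gD' kD'₁) hφq hψq eD'₁ eB₁
  let m : Hom s t :=
    { a := eB.toAlgHom.comp (Ideal.Quotient.mkₐ R JB₁)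
      aD := eD.toAlgHom.comp (Ideal.Quotient.mkₐ R JD₁)
      a' := eD'.toAlgHom.comp (Ideal.Quotient.mkₐ R JD'₁)
      hB := AlgHom.ext fun x => by
        show t.gB (eB (Ideal.Quotient.mk JB₁ x)) = s.gB x
        rw [h3]
        rfl
      hD := AlgHom.ext fun x => by
        show t.gD (eD (Ideal.Quotient.mk JD₁ x)) = s.gD x
        rw [h4]
        rfl
      hD' := AlgHom.ext fun x => by
        show t.gD' (eD' (Ideal.Quotient.mk JD'₁ x)) = s.gD' x
        rw [h5]
        rfl
      hφ := AlgHom.ext fun x => by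
        show t.φ (eB (Ideal.Quotient.mk JB₁ x)) = eD (Ideal.Quotient.mk JD₁ (s.φ x))
        rw [h1]
        rfl
      hψ := AlgHom.ext fun x => by
        show t.ψ (eD' (Ideal.Quotient.mk JD'₁ x)) = eD (Ideal.Quotient.mk JD₁ (s.ψ x))
        rw [h2]
        rfl }
  refine ⟨t, m, fun x hx => ?_, fun x hx => ?_, fun x hx => ?_⟩
  · show eB (Ideal.Quotient.mk JB₁ x) = 0
    rw [Ideal.Quotient.eq_zero_iff_mem.2 (leB₁ hx), map_zero]
  · show eD (Ideal.Quotient.mk JD₁ x) = 0
    rw [Ideal.Quotient.eq_zero_iff_mem.2 (Ideal.mem_sup_left (Ideal.mem_sup_left hx)), map_zero]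
  · show eD' (Ideal.Quotient.mk JD'₁ x) = 0
    rw [Ideal.Quotient.eq_zero_iff_mem.2 (leD'₁ hx), map_zero]

theorem tensorStep (hφ : LegHyp f E) (hψ : LegHyp i (fun C C' _ _ l => NilLeg l))
    (s t : Obj f i E) : ∃ (u : Obj f i E), Nonempty (s ⟶ u) ∧ Nonempty (t ⟶ u) := by
  haveI : Algebra.FinitePresentation R (s.QB ⊗[R] t.QB) :=
    Algebra.FinitePresentation.trans R s.QB (s.QB ⊗[R] t.QB)
  haveI : Algebra.FinitePresentation R (s.QD ⊗[R] t.QD) :=
    Algebra.FinitePresentation.trans R s.QD (s.QD ⊗[R] t.QD)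
  haveI : Algebra.FinitePresentation R (s.QD' ⊗[R] t.QD') :=
    Algebra.FinitePresentation.trans R s.QD' (s.QD' ⊗[R] t.QD')
  have hφq : (Algebra.TensorProduct.productMap s.gD t.gD).comp
      (Algebra.TensorProduct.map s.φ t.φ) =
      f.comp (Algebra.TensorProduct.productMap s.gB t.gB) := by
    apply Algebra.TensorProduct.ext'
    intro x y
    show (Algebra.TensorProduct.productMap s.gD t.gD)
      ((Algebra.TensorProduct.map s.φ t.φ) (x ⊗ₜ y)) =
      f ((Algebra.TensorProduct.productMap s.gB t.gB) (x ⊗ₜ y))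
    rw [Algebra.TensorProduct.map_tmul, Algebra.TensorProduct.productMap_apply_tmul,
      Algebra.TensorProduct.productMap_apply_tmul, map_mul]
    have h1 := AlgHom.congr_fun s.hφ x
    have h2 := AlgHom.congr_fun t.hφ y
    simp only [AlgHom.comp_apply] at h1 h2
    rw [h1, h2]
  have hψq : (Algebra.TensorProduct.productMap s.gD t.gD).comp
      (Algebra.TensorProduct.map s.ψ t.ψ) =
      i.comp (Algebra.TensorProduct.productMap s.gD' t.gD') := by
    apply Algebra.TensorProduct.ext'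
    intro x y
    show (Algebra.TensorProduct.productMap s.gD t.gD)
      ((Algebra.TensorProduct.map s.ψ t.ψ) (x ⊗ₜ y)) =
      i ((Algebra.TensorProduct.productMap s.gD' t.gD') (x ⊗ₜ y))
    rw [Algebra.TensorProduct.map_tmul, Algebra.TensorProduct.productMap_apply_tmul,
      Algebra.TensorProduct.productMap_apply_tmul, map_mul]
    have h1 := AlgHom.congr_fun s.hψ x
    have h2 := AlgHom.congr_fun t.hψ y
    simp only [AlgHom.comp_apply] at h1 h2
    rw [h1, h2]
  obtain ⟨u, eB, eD, eD', h1, h2, h3, h4, h5⟩ := exists_obj (f := f) (i := i) (E := E) hφ.iso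
    (s.QB ⊗[R] t.QB) (s.QD ⊗[R] t.QD) (s.QD' ⊗[R] t.QD')
    (Algebra.TensorProduct.map s.φ t.φ) (Algebra.TensorProduct.map s.ψ t.ψ)
    (Algebra.TensorProduct.productMap s.gB t.gB) (Algebra.TensorProduct.productMap s.gD t.gD)
    (Algebra.TensorProduct.productMap s.gD' t.gD') hφq hψq
    (hψ.tensor _ _ _ _ s.ψ t.ψ s.ψnil t.ψnil) (hφ.tensor _ _ _ _ s.φ t.φ s.eφ t.eφ)
  let m₁ : Hom s u :=
    { a := eB.toAlgHom.comp Algebra.TensorProduct.includeLeft
      aD := eD.toAlgHom.comp Algebra.TensorProduct.includeLeft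
      a' := eD'.toAlgHom.comp Algebra.TensorProduct.includeLeft
      hB := AlgHom.ext fun x => by
        show u.gB (eB (x ⊗ₜ 1)) = s.gB x
        rw [h3, Algebra.TensorProduct.productMap_apply_tmul, map_one, mul_one]
      hD := AlgHom.ext fun x => by
        show u.gD (eD (x ⊗ₜ 1)) = s.gD x
        rw [h4, Algebra.TensorProduct.productMap_apply_tmul, map_one, mul_one]
      hD' := AlgHom.ext fun x => by
        show u.gD' (eD' (x ⊗ₜ 1)) = s.gD' x
        rw [h5, Algebra.TensorProduct.productMap_apply_tmul, map_one, mul_one]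
      hφ := AlgHom.ext fun x => by
        show u.φ (eB (x ⊗ₜ 1)) = eD (s.φ x ⊗ₜ 1)
        rw [h1, Algebra.TensorProduct.map_tmul, map_one]
      hψ := AlgHom.ext fun x => by
        show u.ψ (eD' (x ⊗ₜ 1)) = eD (s.ψ x ⊗ₜ 1)
        rw [h2, Algebra.TensorProduct.map_tmul, map_one] }
  let m₂ : Hom t u :=
    { a := eB.toAlgHom.comp Algebra.TensorProduct.includeRight
      aD := eD.toAlgHom.comp Algebra.TensorProduct.includeRight
      a' := eD'.toAlgHom.comp Algebra.TensorProduct.includeRight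
      hB := AlgHom.ext fun x => by
        show u.gB (eB (1 ⊗ₜ x)) = t.gB x
        rw [h3, Algebra.TensorProduct.productMap_apply_tmul, map_one, one_mul]
      hD := AlgHom.ext fun x => by
        show u.gD (eD (1 ⊗ₜ x)) = t.gD x
        rw [h4, Algebra.TensorProduct.productMap_apply_tmul, map_one, one_mul]
      hD' := AlgHom.ext fun x => by
        show u.gD' (eD' (1 ⊗ₜ x)) = t.gD' x
        rw [h5, Algebra.TensorProduct.productMap_apply_tmul, map_one, one_mul]
      hφ := AlgHom.ext fun x => by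
        show u.φ (eB (1 ⊗ₜ x)) = eD (1 ⊗ₜ t.φ x)
        rw [h1, Algebra.TensorProduct.map_tmul, map_one]
      hψ := AlgHom.ext fun x => by
        show u.ψ (eD' (1 ⊗ₜ x)) = eD (1 ⊗ₜ t.ψ x)
        rw [h2, Algebra.TensorProduct.map_tmul, map_one] }
  exact ⟨u, ⟨m₁⟩, ⟨m₂⟩⟩

theorem isFiltered (hφ : LegHyp f E) (hψ : LegHyp i (fun C C' _ _ l => NilLeg l))
    (hne : Nonempty (Obj f i E)) : IsFiltered (Obj f i E) := by
  haveI := hne
  haveI : IsFilteredOrEmpty (Obj f i E) := by
    refine ⟨?_, ?_⟩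
    · intro s t
      obtain ⟨u, ⟨m⟩, ⟨n⟩⟩ := tensorStep hφ hψ s t
      exact ⟨u, m, n, trivial⟩
    · intro s t m m'
      let genB : Fin s.nB → t.QB := fun k =>
        m.a (Ideal.Quotient.mk _ (MvPolynomial.X k)) - m'.a (Ideal.Quotient.mk _ (MvPolynomial.X k))
      let genD : Fin s.nD → t.QD := fun k =>
        m.aD (Ideal.Quotient.mk _ (MvPolynomial.X k)) -
          m'.aD (Ideal.Quotient.mk _ (MvPolynomial.X k))
      let genD' : Fin s.nD' → t.QD' := fun k =>
        m.a' (Ideal.Quotient.mk _ (MvPolynomial.X k)) -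
          m'.a' (Ideal.Quotient.mk _ (MvPolynomial.X k))
      have kB : ∀ x ∈ Ideal.span (Set.range genB), t.gB x = 0 := by
        have hle : Ideal.span (Set.range genB) ≤ RingHom.ker t.gB.toRingHom := by
          rw [Ideal.span_le]
          rintro _ ⟨k, rfl⟩
          show t.gB (m.a _ - m'.a _) = 0
          rw [map_sub, sub_eq_zero]
          exact (AlgHom.congr_fun m.hB _).trans (AlgHom.congr_fun m'.hB _).symm
        exact fun x hx => hle hx
      have kD : ∀ x ∈ Ideal.span (Set.range genD), t.gD x = 0 := by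
        have hle : Ideal.span (Set.range genD) ≤ RingHom.ker t.gD.toRingHom := by
          rw [Ideal.span_le]
          rintro _ ⟨k, rfl⟩
          show t.gD (m.aD _ - m'.aD _) = 0
          rw [map_sub, sub_eq_zero]
          exact (AlgHom.congr_fun m.hD _).trans (AlgHom.congr_fun m'.hD _).symm
        exact fun x hx => hle hx
      have kD' : ∀ x ∈ Ideal.span (Set.range genD'), t.gD' x = 0 := by
        have hle : Ideal.span (Set.range genD') ≤ RingHom.ker t.gD'.toRingHom := by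
          rw [Ideal.span_le]
          rintro _ ⟨k, rfl⟩
          show t.gD' (m.a' _ - m'.a' _) = 0
          rw [map_sub, sub_eq_zero]
          exact (AlgHom.congr_fun m.hD' _).trans (AlgHom.congr_fun m'.hD' _).symm
        exact fun x hx => hle hx
      obtain ⟨u, n, hB, hD, hD'⟩ := quotStep hφ hψ t (Ideal.span (Set.range genB))
        (Ideal.span (Set.range genD)) (Ideal.span (Set.range genD'))
        (Submodule.fg_span (Set.finite_range genB)) (Submodule.fg_span (Set.finite_range genD))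
        (Submodule.fg_span (Set.finite_range genD')) kB kD kD'
      refine ⟨u, n, ?_⟩
      apply Hom.ext
      · show n.a.comp m.a = n.a.comp m'.a
        apply Ideal.Quotient.algHom_ext
        apply MvPolynomial.algHom_ext
        intro k
        show n.a (m.a (Ideal.Quotient.mk _ (MvPolynomial.X k))) =
          n.a (m'.a (Ideal.Quotient.mk _ (MvPolynomial.X k)))
        have h0 := hB _ (Ideal.subset_span ⟨k, rfl⟩)
        rw [← sub_eq_zero, ← map_sub]
        exact h0
      · show n.aD.comp m.aD = n.aD.comp m'.aD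
        apply Ideal.Quotient.algHom_ext
        apply MvPolynomial.algHom_ext
        intro k
        show n.aD (m.aD (Ideal.Quotient.mk _ (MvPolynomial.X k))) =
          n.aD (m'.aD (Ideal.Quotient.mk _ (MvPolynomial.X k)))
        have h0 := hD _ (Ideal.subset_span ⟨k, rfl⟩)
        rw [← sub_eq_zero, ← map_sub]
        exact h0
      · show n.a'.comp m.a' = n.a'.comp m'.a'
        apply Ideal.Quotient.algHom_ext
        apply MvPolynomial.algHom_ext
        intro k
        show n.a' (m.a' (Ideal.Quotient.mk _ (MvPolynomial.X k))) =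
          n.a' (m'.a' (Ideal.Quotient.mk _ (MvPolynomial.X k)))
        have h0 := hD' _ (Ideal.subset_span ⟨k, rfl⟩)
        rw [← sub_eq_zero, ← map_sub]
        exact h0
  exact {}

section Colimits
variable [IsFiltered (Obj f i E)]

theorem isColimit_cB (hφ : LegHyp f E) (hψ : LegHyp i (fun C C' _ _ l => NilLeg l))
    (claimB : ∀ b : B, ∃ (s : Obj f i E) (x : s.QB), s.gB x = b) :
    Nonempty (IsColimit (Cocone.mk _ (cB f i E))) := by
  apply isColimit_of_elementwise
  · intro x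
    obtain ⟨s, y, hy⟩ := claimB x
    exact ⟨s, y, hy⟩
  · intro s (y : s.QB) (y' : s.QB) (h : s.gB y = s.gB y')
    obtain ⟨t, m, hB, -, -⟩ := quotStep hφ hψ s (Ideal.span {y - y'}) ⊥ ⊥
      (fg_singleton _) Submodule.fg_bot Submodule.fg_bot
      (span_singleton_ker s.gB y y' h) (bot_ker _) (bot_ker _)
    refine ⟨t, m, ?_⟩
    show m.a y = m.a y'
    have h0 := hB _ (Ideal.subset_span (Set.mem_singleton _))
    rwa [map_sub, sub_eq_zero] at h0

theorem isColimit_cD' (hφ : LegHyp f E) (hψ : LegHyp i (fun C C' _ _ l => NilLeg l))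
    (claimD' : ∀ d' : D', ∃ (s : Obj f i E) (x : s.QD'), s.gD' x = d') :
    Nonempty (IsColimit (Cocone.mk _ (cD' f i E))) := by
  apply isColimit_of_elementwise
  · intro x
    obtain ⟨s, y, hy⟩ := claimD' x
    exact ⟨s, y, hy⟩
  · intro s (y : s.QD') (y' : s.QD') (h : s.gD' y = s.gD' y')
    obtain ⟨t, m, -, -, hD'⟩ := quotStep hφ hψ s ⊥ ⊥ (Ideal.span {y - y'})
      Submodule.fg_bot Submodule.fg_bot (fg_singleton _)
      (bot_ker _) (bot_ker _) (span_singleton_ker s.gD' y y' h)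
    refine ⟨t, m, ?_⟩
    show m.a' y = m.a' y'
    have h0 := hD' _ (Ideal.subset_span (Set.mem_singleton _))
    rwa [map_sub, sub_eq_zero] at h0

theorem isColimit_cD (hi : Function.Surjective i) (hφ : LegHyp f E)
    (hψ : LegHyp i (fun C C' _ _ l => NilLeg l))
    (claimD' : ∀ d' : D', ∃ (s : Obj f i E) (x : s.QD'), s.gD' x = d') :
    Nonempty (IsColimit (Cocone.mk _ (cD f i E))) := by
  apply isColimit_of_elementwise
  · intro x
    obtain ⟨d', hd'⟩ := hi x
    obtain ⟨s, y, hy⟩ := claimD' d'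
    refine ⟨s, s.ψ y, ?_⟩
    show s.gD (s.ψ y) = x
    have h1 := AlgHom.congr_fun s.hψ y
    simp only [AlgHom.comp_apply] at h1
    rw [h1, hy, hd']
  · intro s (y : s.QD) (y' : s.QD) (h : s.gD y = s.gD y')
    obtain ⟨t, m, -, hD, -⟩ := quotStep hφ hψ s ⊥ (Ideal.span {y - y'}) ⊥
      Submodule.fg_bot (fg_singleton _) Submodule.fg_bot
      (bot_ker _) (span_singleton_ker s.gD y y' h) (bot_ker _)
    refine ⟨t, m, ?_⟩
    show m.aD y = m.aD y'
    have h0 := hD _ (Ideal.subset_span (Set.mem_singleton _))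
    rwa [map_sub, sub_eq_zero] at h0

end Colimits

end

end Groth.Agent.Lib.Helper24.NilPair
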