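import Groth.Agent.Lib.Helper24.NilPairB

/-!
# NilPair (helper24), part C: the fibre-product diagram and the main generic theorem
-/

set_option autoImplicit false
set_option maxHeartbeats 400000
set_option linter.style.haveILetI false
set_option linter.unusedSectionVars false
set_option linter.unusedVariables false
set_option backward.isDefEq.respectTransparency false
set_option backward.isDefEq.respectTransparency.types false
set_option backward.defeqAttrib.useBackward true

universe u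
open CategoryTheory Limits TensorProduct

namespace Groth.Agent.Lib.Helper24.NilPair

noncomputable section

variable {R B D D' P : Type u} [CommRing R] [CommRing B] [CommRing D] [CommRing D'] [CommRing P]
  [Algebra R B] [Algebra R D] [Algebra R D'] [Algebra R P]
variable {f : B →ₐ[R] D} {i : D' →ₐ[R] D}
variable {E : ∀ (C C' : Type u) [CommRing C] [CommRing C'], (C →+* C') → Prop}

/-- fibre product of a cospan object. -/
abbrev Obj.PS (s : Obj f i E) : Subalgebra R (s.QB × s.QD') :=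
  AlgHom.equalizer (s.φ.comp (AlgHom.fst R s.QB s.QD')) (s.ψ.comp (AlgHom.snd R s.QB s.QD'))

theorem Obj.mem_PS (s : Obj f i E) (z : s.QB × s.QD') : z ∈ s.PS ↔ s.φ z.1 = s.ψ z.2 :=
  AlgHom.mem_equalizer _ _ _

def Hom.pMap {s t : Obj f i E} (m : Hom s t) : s.PS →ₐ[R] t.PS :=
  AlgHom.codRestrict ((AlgHom.prodMap m.a m.a').comp s.PS.val) t.PS (by
    intro z
    rw [Obj.mem_PS]
    have hz := (s.mem_PS z.1).1 z.2
    show t.φ (m.a z.1.1) = t.ψ (m.a' z.1.2)
    have h1 := AlgHom.congr_fun m.hφ z.1.1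
    have h2 := AlgHom.congr_fun m.hψ z.1.2
    simp only [AlgHom.comp_apply] at h1 h2
    rw [h1, h2, hz])

def DPobj (s : Obj f i E) : Under (CommRingCat.of R) :=
  Under.mk (CommRingCat.ofHom (R := R) (S := ↥s.PS) (algebraMap R ↥s.PS))

def DPmap {s t : Obj f i E} (m : s ⟶ t) : DPobj s ⟶ DPobj t :=
  Under.homMk (CommRingCat.ofHom (R := ↥s.PS) (S := ↥t.PS) (Hom.pMap m).toRingHom) (by
    apply CommRingCat.hom_ext
    apply RingHom.ext
    intro r
    exact (Hom.pMap m).commutes r)

variable (f i E)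

/-- the fibre-product diagram -/
def DP : Obj f i E ⥤ Under (CommRingCat.of R) where
  obj s := DPobj s
  map m := DPmap m
  map_id s := by
    apply Under.UnderMorphism.ext
    apply CommRingCat.hom_ext
    apply RingHom.ext
    intro z
    rfl
  map_comp m n := by
    apply Under.UnderMorphism.ext
    apply CommRingCat.hom_ext
    apply RingHom.ext
    intro z
    rfl

def π₁N : DP f i E ⟶ DB f i E where
  app s := Under.homMk (U := DPobj s)
    (CommRingCat.ofHom (R := ↥s.PS) (S := s.QB)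
      ((AlgHom.fst R s.QB s.QD').comp s.PS.val).toRingHom) (by
      apply CommRingCat.hom_ext
      apply RingHom.ext
      intro r
      exact ((AlgHom.fst R s.QB s.QD').comp s.PS.val).commutes r)
  naturality s t m := by
    apply Under.UnderMorphism.ext
    apply CommRingCat.hom_ext
    apply RingHom.ext
    intro z
    rfl

def π₂N : DP f i E ⟶ DD' f i E where
  app s := Under.homMk (U := DPobj s)
    (CommRingCat.ofHom (R := ↥s.PS) (S := s.QD')
      ((AlgHom.snd R s.QB s.QD').comp s.PS.val).toRingHom) (by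
      apply CommRingCat.hom_ext
      apply RingHom.ext
      intro r
      exact ((AlgHom.snd R s.QB s.QD').comp s.PS.val).commutes r)
  naturality s t m := by
    apply Under.UnderMorphism.ext
    apply CommRingCat.hom_ext
    apply RingHom.ext
    intro z
    rfl

variable {f i E}

theorem isPullback_PS (s : Obj f i E) :
    IsPullback ((π₁N f i E).app s).right ((π₂N f i E).app s).right
      ((φN f i E).app s).right ((ψN f i E).app s).right := by
  have w : ((π₁N f i E).app s).right ≫ ((φN f i E).app s).right =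
      ((π₂N f i E).app s).right ≫ ((ψN f i E).app s).right := by
    apply CommRingCat.hom_ext
    apply RingHom.ext
    intro (z : s.PS)
    exact (s.mem_PS z.1).1 z.2
  refine IsPullback.of_isLimit (PullbackCone.IsLimit.mk w
    (fun c => CommRingCat.ofHom (S := ↥s.PS)
      (RingHom.codRestrict (c.fst.hom.prod c.snd.hom) s.PS (fun x => ?_))) ?_ ?_ ?_)
  · rw [Obj.mem_PS]
    exact congr_arg (fun g => g.hom x) c.condition
  · intro c
    apply CommRingCat.hom_ext
    apply RingHom.ext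
    intro x
    rfl
  · intro c
    apply CommRingCat.hom_ext
    apply RingHom.ext
    intro x
    rfl
  · intro c m' h1 h2
    apply CommRingCat.hom_ext
    apply RingHom.ext
    intro x
    apply Subtype.ext
    apply Prod.ext
    · exact congr_arg (fun g => g.hom x) h1
    · exact congr_arg (fun g => g.hom x) h2

section PCocone

variable (q₁ : P →ₐ[R] B) (q₂ : P →ₐ[R] D')
  (hP : IsPullback (CommRingCat.ofHom q₁.toRingHom) (CommRingCat.ofHom q₂.toRingHom)
    (CommRingCat.ofHom f.toRingHom) (CommRingCat.ofHom i.toRingHom))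

def uB (s : Obj f i E) : CommRingCat.of ↥s.PS ⟶ CommRingCat.of B :=
  CommRingCat.ofHom (R := ↥s.PS) (S := B) ((s.gB.comp ((AlgHom.fst R s.QB s.QD').comp s.PS.val)).toRingHom)

def uD' (s : Obj f i E) : CommRingCat.of ↥s.PS ⟶ CommRingCat.of D' :=
  CommRingCat.ofHom (R := ↥s.PS) (S := D') ((s.gD'.comp ((AlgHom.snd R s.QB s.QD').comp s.PS.val)).toRingHom)

theorem u_w (s : Obj f i E) :
    uB s ≫ CommRingCat.ofHom f.toRingHom = uD' s ≫ CommRingCat.ofHom i.toRingHom := by
  apply CommRingCat.hom_ext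
  apply RingHom.ext
  intro (z : s.PS)
  show f (s.gB z.1.1) = i (s.gD' z.1.2)
  have h1 := AlgHom.congr_fun s.hφ z.1.1
  have h2 := AlgHom.congr_fun s.hψ z.1.2
  simp only [AlgHom.comp_apply] at h1 h2
  rw [← h1, ← h2, (s.mem_PS z.1).1 z.2]

include hP in
theorem u_w' (s : Obj f i E) : True := trivial

def θ (s : Obj f i E) : CommRingCat.of ↥s.PS ⟶ CommRingCat.of P :=
  hP.lift (uB s) (uD' s) (u_w s)

theorem θ_fst (s : Obj f i E) :
    θ q₁ q₂ hP s ≫ CommRingCat.ofHom q₁.toRingHom = uB s := hP.lift_fst _ _ _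

theorem θ_snd (s : Obj f i E) :
    θ q₁ q₂ hP s ≫ CommRingCat.ofHom q₂.toRingHom = uD' s := hP.lift_snd _ _ _

theorem q₁_θ (s : Obj f i E) (z : s.PS) : q₁ ((θ q₁ q₂ hP s).hom z) = s.gB z.1.1 :=
  congrArg (fun g => g.hom z) (θ_fst q₁ q₂ hP s)

theorem q₂_θ (s : Obj f i E) (z : s.PS) : q₂ ((θ q₁ q₂ hP s).hom z) = s.gD' z.1.2 :=
  congrArg (fun g => g.hom z) (θ_snd q₁ q₂ hP s)

variable (f i E) in
def cP : DP f i E ⟶ (Functor.const _).obj (Under.mk (CommRingCat.ofHom (algebraMap R P))) where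
  app s := Under.homMk (U := DPobj s) (θ q₁ q₂ hP s) (by
    show CommRingCat.ofHom (R := R) (S := ↥s.PS) (algebraMap R ↥s.PS) ≫ θ q₁ q₂ hP s =
      CommRingCat.ofHom (algebraMap R P)
    apply hP.hom_ext
    · rw [Category.assoc, θ_fst]
      apply CommRingCat.hom_ext
      apply RingHom.ext
      intro r
      show s.gB (algebraMap R s.QB r) = q₁ (algebraMap R P r)
      rw [AlgHom.commutes, AlgHom.commutes]
    · rw [Category.assoc, θ_snd]
      apply CommRingCat.hom_ext
      apply RingHom.ext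
      intro r
      show s.gD' (algebraMap R s.QD' r) = q₂ (algebraMap R P r)
      rw [AlgHom.commutes, AlgHom.commutes])
  naturality s t m := by
    apply Under.UnderMorphism.ext
    simp only [Functor.const_obj_obj, Functor.const_obj_map, Category.comp_id, Under.comp_right]
    show CommRingCat.ofHom (R := ↥s.PS) (S := ↥t.PS) (Hom.pMap m).toRingHom ≫ θ q₁ q₂ hP t =
      θ q₁ q₂ hP s
    apply hP.hom_ext
    · rw [Category.assoc, θ_fst, θ_fst]
      apply CommRingCat.hom_ext
      apply RingHom.ext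
      intro (z : s.PS)
      exact AlgHom.congr_fun m.hB z.1.1
    · rw [Category.assoc, θ_snd, θ_snd]
      apply CommRingCat.hom_ext
      apply RingHom.ext
      intro (z : s.PS)
      exact AlgHom.congr_fun m.hD' z.1.2

theorem isColimit_cP [IsFiltered (Obj f i E)] (hφ : LegHyp f E)
    (hψ : LegHyp i (fun C C' _ _ l => NilLeg l))
    (claimB : ∀ b : B, ∃ (s : Obj f i E) (x : s.QB), s.gB x = b)
    (claimD' : ∀ d' : D', ∃ (s : Obj f i E) (x : s.QD'), s.gD' x = d') :
    Nonempty (IsColimit (Cocone.mk _ (cP f i E q₁ q₂ hP))) := by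
  apply isColimit_of_elementwise
  · intro (p : P)
    obtain ⟨s₁, x, hx⟩ := claimB (q₁ p)
    obtain ⟨s₂, y, hy⟩ := claimD' (q₂ p)
    let s₃ := IsFiltered.max s₁ s₂
    let m₁ : s₁ ⟶ s₃ := IsFiltered.leftToMax s₁ s₂
    let m₂ : s₂ ⟶ s₃ := IsFiltered.rightToMax s₁ s₂
    have hx₃ : s₃.gB (m₁.a x) = q₁ p := by
      have h0 := AlgHom.congr_fun m₁.hB x
      simp only [AlgHom.comp_apply] at h0
      rw [h0, hx]
    have hy₃ : s₃.gD' (m₂.a' y) = q₂ p := by
      have h0 := AlgHom.congr_fun m₂.hD' y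
      simp only [AlgHom.comp_apply] at h0
      rw [h0, hy]
    have hδ : s₃.gD (s₃.φ (m₁.a x)) = s₃.gD (s₃.ψ (m₂.a' y)) := by
      have h1 := AlgHom.congr_fun s₃.hφ (m₁.a x)
      have h2 := AlgHom.congr_fun s₃.hψ (m₂.a' y)
      simp only [AlgHom.comp_apply] at h1 h2
      rw [h1, h2, hx₃, hy₃]
      exact pb_comm hP p
    obtain ⟨t, n, -, hD, -⟩ := quotStep hφ hψ s₃ ⊥
      (Ideal.span {s₃.φ (m₁.a x) - s₃.ψ (m₂.a' y)}) ⊥ Submodule.fg_bot (fg_singleton _)
      Submodule.fg_bot (bot_ker _) (span_singleton_ker s₃.gD _ _ hδ) (bot_ker _)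
    have h0 := hD _ (Ideal.subset_span (Set.mem_singleton _))
    rw [map_sub, sub_eq_zero] at h0
    have hz : ((n.a (m₁.a x), n.a' (m₂.a' y)) : t.QB × t.QD') ∈ t.PS := by
      rw [Obj.mem_PS]
      show t.φ (n.a (m₁.a x)) = t.ψ (n.a' (m₂.a' y))
      have h1 := AlgHom.congr_fun n.hφ (m₁.a x)
      have h2 := AlgHom.congr_fun n.hψ (m₂.a' y)
      simp only [AlgHom.comp_apply] at h1 h2
      rw [h1, h2, h0]
    refine ⟨t, ⟨_, hz⟩, ?_⟩
    show (θ q₁ q₂ hP t).hom ⟨_, hz⟩ = p
    apply pb_inj hP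
    · refine (q₁_θ q₁ q₂ hP t ⟨_, hz⟩).trans ?_
      show t.gB (n.a (m₁.a x)) = q₁ p
      have h1 := AlgHom.congr_fun n.hB (m₁.a x)
      simp only [AlgHom.comp_apply] at h1
      rw [h1, hx₃]
    · refine (q₂_θ q₁ q₂ hP t ⟨_, hz⟩).trans ?_
      show t.gD' (n.a' (m₂.a' y)) = q₂ p
      have h1 := AlgHom.congr_fun n.hD' (m₂.a' y)
      simp only [AlgHom.comp_apply] at h1
      rw [h1, hy₃]
  · intro s (z : s.PS) (z' : s.PS) (h : (θ q₁ q₂ hP s).hom z = (θ q₁ q₂ hP s).hom z')
    have hB : s.gB z.1.1 = s.gB z'.1.1 := by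
      rw [← q₁_θ q₁ q₂ hP s z, ← q₁_θ q₁ q₂ hP s z', h]
    have hD' : s.gD' z.1.2 = s.gD' z'.1.2 := by
      rw [← q₂_θ q₁ q₂ hP s z, ← q₂_θ q₁ q₂ hP s z', h]
    obtain ⟨t, m, hB', -, hD''⟩ := quotStep hφ hψ s (Ideal.span {z.1.1 - z'.1.1}) ⊥
      (Ideal.span {z.1.2 - z'.1.2}) (fg_singleton _) Submodule.fg_bot (fg_singleton _)
      (span_singleton_ker s.gB _ _ hB) (bot_ker _) (span_singleton_ker s.gD' _ _ hD')
    refine ⟨t, m, ?_⟩
    show Hom.pMap m z = Hom.pMap m z'
    apply Subtype.ext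
    apply Prod.ext
    · show m.a z.1.1 = m.a z'.1.1
      have h0 := hB' _ (Ideal.subset_span (Set.mem_singleton _))
      rwa [map_sub, sub_eq_zero] at h0
    · show m.a' z.1.2 = m.a' z'.1.2
      have h0 := hD'' _ (Ideal.subset_span (Set.mem_singleton _))
      rwa [map_sub, sub_eq_zero] at h0

end PCocone

/-- the generic main theorem. -/
theorem main (hi : Function.Surjective i) (hψ : LegHyp i (fun C C' _ _ l => NilLeg l))
    (q₁ : P →ₐ[R] B) (q₂ : P →ₐ[R] D')
    (hP : IsPullback (CommRingCat.ofHom q₁.toRingHom) (CommRingCat.ofHom q₂.toRingHom)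
      (CommRingCat.ofHom f.toRingHom) (CommRingCat.ofHom i.toRingHom))
    (hφ : LegHyp f E)
    (claimB : ∀ b : B, ∃ (s : Obj f i E) (x : s.QB), s.gB x = b)
    (claimD' : ∀ d' : D', ∃ (s : Obj f i E) (x : s.QD'), s.gD' x = d') :
    ∃ (ι : Type u) (_ : SmallCategory ι) (_ : IsFiltered ι)
      (DB DD DD' DP : ι ⥤ Under (CommRingCat.of R))
      (φ : DB ⟶ DD) (ψ : DD' ⟶ DD) (π₁ : DP ⟶ DB) (π₂ : DP ⟶ DD')
      (cB : DB ⟶ (Functor.const ι).obj (Under.mk (CommRingCat.ofHom (algebraMap R B))))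
      (cD : DD ⟶ (Functor.const ι).obj (Under.mk (CommRingCat.ofHom (algebraMap R D))))
      (cD' : DD' ⟶ (Functor.const ι).obj (Under.mk (CommRingCat.ofHom (algebraMap R D'))))
      (cP : DP ⟶ (Functor.const ι).obj (Under.mk (CommRingCat.ofHom (algebraMap R P)))),
      Nonempty (IsColimit (Cocone.mk _ cB)) ∧ Nonempty (IsColimit (Cocone.mk _ cD)) ∧
      Nonempty (IsColimit (Cocone.mk _ cD')) ∧ Nonempty (IsColimit (Cocone.mk _ cP)) ∧
      (∀ j, (φ.app j).right ≫ (cD.app j).right =
        (cB.app j).right ≫ CommRingCat.ofHom f.toRingHom) ∧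
      (∀ j, (ψ.app j).right ≫ (cD.app j).right =
        (cD'.app j).right ≫ CommRingCat.ofHom i.toRingHom) ∧
      (∀ j, (π₁.app j).right ≫ (cB.app j).right =
        (cP.app j).right ≫ CommRingCat.ofHom q₁.toRingHom) ∧
      (∀ j, (π₂.app j).right ≫ (cD'.app j).right =
        (cP.app j).right ≫ CommRingCat.ofHom q₂.toRingHom) ∧
      (∀ j, (DB.obj j).hom.hom.FinitePresentation ∧ (DD.obj j).hom.hom.FinitePresentation ∧
        (DD'.obj j).hom.hom.FinitePresentation) ∧
      (∀ j, Function.Surjective (ψ.app j).right.hom ∧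
        ∀ x ∈ RingHom.ker (ψ.app j).right.hom, IsNilpotent x) ∧
      (∀ j, IsPullback (π₁.app j).right (π₂.app j).right (φ.app j).right (ψ.app j).right) ∧
      (∀ j, E _ _ (φ.app j).right.hom) := by
  haveI : IsFiltered (Obj f i E) := isFiltered hφ hψ (by
    obtain ⟨s, -, -⟩ := claimB 0
    exact ⟨s⟩)
  refine ⟨Obj f i E, inferInstance, inferInstance, DB f i E, DD f i E, DD' f i E, DP f i E,
    φN f i E, ψN f i E, π₁N f i E, π₂N f i E, cB f i E, cD f i E, cD' f i E, cP f i E q₁ q₂ hP,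
    isColimit_cB hφ hψ claimB, isColimit_cD hi hφ hψ claimD', isColimit_cD' hφ hψ claimD',
    isColimit_cP q₁ q₂ hP hφ hψ claimB claimD', ?_, ?_, ?_, ?_, ?_, ?_, ?_, ?_⟩
  · intro s
    ext x
    exact AlgHom.congr_fun s.hφ x
  · intro s
    ext x
    exact AlgHom.congr_fun s.hψ x
  · intro s
    exact (θ_fst q₁ q₂ hP s).symm
  · intro s
    exact (θ_snd q₁ q₂ hP s).symm
  · intro s
    refine ⟨?_, ?_, ?_⟩
    · show (algebraMap R s.QB).FinitePresentation
      exact RingHom.finitePresentation_algebraMap.2 inferInstance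
    · show (algebraMap R s.QD).FinitePresentation
      exact RingHom.finitePresentation_algebraMap.2 inferInstance
    · show (algebraMap R s.QD').FinitePresentation
      exact RingHom.finitePresentation_algebraMap.2 inferInstance
  · intro s
    exact s.ψnil
  · intro s
    exact isPullback_PS s
  · intro s
    exact s.eφ

end

end Groth.Agent.Lib.Helper24.NilPair
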