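import Groth.Agent.Lib.Helper24.NilPairC

/-!
# NilPair (helper24), part D: the four modes (leg hypotheses and claims)
-/

set_option autoImplicit false
set_option maxHeartbeats 400000
set_option linter.style.haveILetI false
set_option linter.unusedSectionVars false
set_option linter.unusedVariables false

universe u
open CategoryTheory Limits TensorProduct

namespace Groth.Agent.Lib.Helper24.NilPair

noncomputable section

variable {R B D D' : Type u} [CommRing R] [CommRing B] [CommRing D] [CommRing D']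
  [Algebra R B] [Algebra R D] [Algebra R D']

/-! ### surjective with locally nilpotent kernel -/

theorem nilLegHyp {X : Type u} [CommRing X] [Algebra R X] (h : X →ₐ[R] D)
    (hnil : ∀ x ∈ RingHom.ker h.toRingHom, IsNilpotent x) :
    LegHyp h (fun C C' _ _ l => NilLeg l) where
  iso := by
    intro C C' C₁ C₁' _ _ _ _ l l₁ e e' hsq hl
    refine ⟨fun y => ?_, fun z hz => ?_⟩
    · obtain ⟨x, hx⟩ := hl.1 (e'.symm y)
      refine ⟨e x, ?_⟩
      rw [hsq, hx, RingEquiv.apply_symm_apply]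
    · rw [RingHom.mem_ker] at hz
      have h1 : l (e.symm z) = 0 := by
        have h2 := hsq (e.symm z)
        rw [RingEquiv.apply_symm_apply, hz] at h2
        have h3 : e' (l (e.symm z)) = e' 0 := by rw [← h2, map_zero]
        exact e'.injective h3
      have h3 : IsNilpotent (e.symm z) := hl.2 _ ((RingHom.mem_ker).2 h1)
      have h4 := h3.map e
      rwa [RingEquiv.apply_symm_apply] at h4
  tensor := by
    intro C₁ C₁' C₂ C₂' _ _ _ _ _ _ _ _ l₁ l₂ h₁ h₂
    have s₁ : Function.Surjective l₁ := h₁.1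
    have s₂ : Function.Surjective l₂ := h₂.1
    refine ⟨Algebra.TensorProduct.map_surjective l₁ l₂ s₁ s₂, fun x hx => ?_⟩
    have hker := Algebra.TensorProduct.map_ker l₁ l₂ s₁ s₂
    have hx0 : (Algebra.TensorProduct.map l₁ l₂) x = 0 := (RingHom.mem_ker).1 hx
    have hx' : x ∈ RingHom.ker (Algebra.TensorProduct.map l₁ l₂) := (RingHom.mem_ker).2 hx0
    rw [hker] at hx'
    have hle : (RingHom.ker l₁).map
        (Algebra.TensorProduct.includeLeft : C₁ →ₐ[R] C₁ ⊗[R] C₂) ⊔
        (RingHom.ker l₂).map (Algebra.TensorProduct.includeRight : C₂ →ₐ[R] C₁ ⊗[R] C₂) ≤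
        nilradical (C₁ ⊗[R] C₂) := by
      refine sup_le ?_ ?_
      · rw [Ideal.map_le_iff_le_comap]
        intro y hy
        rw [Ideal.mem_comap, mem_nilradical]
        have hy0 : l₁ y = 0 := (RingHom.mem_ker).1 hy
        exact (h₁.2 y ((RingHom.mem_ker).2 hy0)).map
          (Algebra.TensorProduct.includeLeft : C₁ →ₐ[R] C₁ ⊗[R] C₂)
      · rw [Ideal.map_le_iff_le_comap]
        intro y hy
        rw [Ideal.mem_comap, mem_nilradical]
        have hy0 : l₂ y = 0 := (RingHom.mem_ker).1 hy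
        exact (h₂.2 y ((RingHom.mem_ker).2 hy0)).map
          (Algebra.TensorProduct.includeRight : C₂ →ₐ[R] C₁ ⊗[R] C₂)
    exact mem_nilradical.1 (hle hx')
  quot := by
    intro C C' _ _ _ _ l g g' hsq hl J₀ J' fJ₀ fJ' k₀ k' hle₀
    obtain ⟨T, hT⟩ := fJ'
    have hlift : ∀ t : C', ∃ β : C, l β = t := hl.1
    choose β hβ using hlift
    have hnilβ : ∀ t ∈ T, ∃ N : ℕ, (g (β t)) ^ (N + 1) = 0 := by
      intro t ht
      have ht' : t ∈ J' := hT ▸ Ideal.subset_span ht
      have h1 : h (g (β t)) = 0 := by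
        have h2 := AlgHom.congr_fun hsq (β t)
        simp only [AlgHom.comp_apply] at h2
        rw [← h2, hβ]
        exact k' t ht'
      obtain ⟨N, hN⟩ := hnil _ ((RingHom.mem_ker).2 h1)
      exact ⟨N, by rw [pow_succ, hN, zero_mul]⟩
    choose! N hN using hnilβ
    let gens : Set C := (fun t => β t ^ (N t + 1)) '' (T : Set C')
    let J : Ideal C := J₀ ⊔ Ideal.span gens
    have hJle : J ≤ J'.comap l := by
      refine sup_le hle₀ ?_
      rw [Ideal.span_le]
      rintro _ ⟨t, ht, rfl⟩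
      show l (β t ^ (N t + 1)) ∈ J'
      rw [map_pow, hβ]
      exact Ideal.pow_mem_of_mem _ (hT ▸ Ideal.subset_span ht) _ (Nat.succ_pos _)
    have hgens : Ideal.span gens ≤ J := le_sup_right
    refine ⟨J, hJle, ?_, le_sup_left, ?_, ?_, ?_⟩
    · exact Submodule.FG.sup fJ₀ (Submodule.fg_span ((Finset.finite_toSet T).image _))
    · have hle : J ≤ RingHom.ker g.toRingHom := by
        refine sup_le (fun x hx => (RingHom.mem_ker).2 (k₀ x hx)) ?_
        rw [Ideal.span_le]
        rintro _ ⟨t, ht, rfl⟩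
        show g (β t ^ (N t + 1)) = 0
        rw [map_pow]
        exact hN t ht
      exact fun x hx => (RingHom.mem_ker).1 (hle hx)
    · intro y
      obtain ⟨y₀, rfl⟩ := Ideal.Quotient.mk_surjective y
      obtain ⟨x₀, hx₀⟩ := hl.1 y₀
      refine ⟨Ideal.Quotient.mk J x₀, ?_⟩
      show Ideal.Quotient.mk J' (l x₀) = Ideal.Quotient.mk J' y₀
      have hx₀' : l x₀ = y₀ := hx₀
      rw [hx₀']
    · intro x hx
      obtain ⟨x₀, rfl⟩ := Ideal.Quotient.mk_surjective x
      have hx1 : Ideal.Quotient.mk J' (l x₀) = 0 := (RingHom.mem_ker).1 hx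
      have hx2 : l x₀ ∈ J' := Ideal.Quotient.eq_zero_iff_mem.1 hx1
      have hJ' : J' = Ideal.map l.toRingHom (Ideal.span (β '' (T : Set C'))) := by
        rw [Ideal.map_span, ← Set.image_comp, ← hT]
        congr 1
        have : ∀ t ∈ (T : Set C'), (l.toRingHom ∘ β) t = id t := fun t _ => hβ t
        rw [Set.image_congr this, Set.image_id]
      rw [hJ'] at hx2
      obtain ⟨x₁, hx₁, hx₁'⟩ := (Ideal.mem_map_iff_of_surjective l.toRingHom hl.1).1 hx2
      have hx₁'' : l x₁ = l x₀ := hx₁'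
      have hd : IsNilpotent (x₀ - x₁) := by
        apply hl.2
        rw [RingHom.mem_ker]
        show l (x₀ - x₁) = 0
        rw [map_sub, hx₁'', sub_self]
      have hmk : (Ideal.span (β '' (T : Set C'))).map (Ideal.Quotient.mk J) ≤
          nilradical (C ⧸ J) := by
        rw [Ideal.map_span, Ideal.span_le]
        rintro _ ⟨_, ⟨t, ht, rfl⟩, rfl⟩
        show IsNilpotent (Ideal.Quotient.mk J (β t))
        refine ⟨N t + 1, ?_⟩
        rw [← map_pow]
        exact Ideal.Quotient.eq_zero_iff_mem.2 (hgens (Ideal.subset_span ⟨t, ht, rfl⟩))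
      have h1 : Ideal.Quotient.mk J (x₀ - x₁) ∈ nilradical (C ⧸ J) :=
        mem_nilradical.2 (hd.map (Ideal.Quotient.mk J))
      have h2 : Ideal.Quotient.mk J x₁ ∈ nilradical (C ⧸ J) :=
        hmk (Ideal.mem_map_of_mem _ hx₁)
      have h3 := Ideal.add_mem _ h1 h2
      rw [← map_add, sub_add_cancel] at h3
      exact mem_nilradical.1 h3

/-! ### surjective -/

theorem surjLegHyp {X : Type u} [CommRing X] [Algebra R X] (h : X →ₐ[R] D) :
    LegHyp h (fun C C' _ _ l => Function.Surjective l) where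
  iso := by
    intro C C' C₁ C₁' _ _ _ _ l l₁ e e' hsq hl y
    obtain ⟨x, hx⟩ := hl (e'.symm y)
    refine ⟨e x, ?_⟩
    rw [hsq, hx, RingEquiv.apply_symm_apply]
  tensor := by
    intro C₁ C₁' C₂ C₂' _ _ _ _ _ _ _ _ l₁ l₂ h₁ h₂
    exact Algebra.TensorProduct.map_surjective l₁ l₂ h₁ h₂
  quot := by
    intro C C' _ _ _ _ l g g' hsq hl J₀ J' fJ₀ fJ' k₀ k' hle₀
    refine ⟨J₀, hle₀, fJ₀, le_rfl, k₀, ?_⟩
    intro y
    obtain ⟨y₀, rfl⟩ := Ideal.Quotient.mk_surjective y
    obtain ⟨x₀, hx₀⟩ := hl y₀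
    refine ⟨Ideal.Quotient.mk J₀ x₀, ?_⟩
    show Ideal.Quotient.mk J' (l x₀) = Ideal.Quotient.mk J' y₀
    have hx₀' : l x₀ = y₀ := hx₀
    rw [hx₀']

/-! ### no condition -/

theorem trivLegHyp {X : Type u} [CommRing X] [Algebra R X] (h : X →ₐ[R] D) :
    LegHyp h (fun _ _ _ _ _ => True) where
  iso := by
    intros
    trivial
  tensor := by
    intros
    trivial
  quot := by
    intro C C' _ _ _ _ l g g' hsq hl J₀ J' fJ₀ fJ' k₀ k' hle₀
    exact ⟨J₀, hle₀, fJ₀, le_rfl, k₀, trivial⟩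

/-! ### integral -/

theorem isIntegralElem_of_square {C C' C₁ C₁' : Type u} [CommRing C] [CommRing C']
    [CommRing C₁] [CommRing C₁'] (l : C →+* C') (l₁ : C₁ →+* C₁') (a : C →+* C₁)
    (a' : C' →+* C₁') (hsq : ∀ x, l₁ (a x) = a' (l x)) {y : C'} (hy : l.IsIntegralElem y) :
    l₁.IsIntegralElem (a' y) := by
  obtain ⟨p, hp, hpy⟩ := hy
  refine ⟨p.map a, hp.map a, ?_⟩
  rw [Polynomial.eval₂_map]
  have hc : l₁.comp a = a'.comp l := RingHom.ext hsq
  rw [hc, ← Polynomial.hom_eval₂, hpy, map_zero]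

theorem intLegHyp {X : Type u} [CommRing X] [Algebra R X] (h : X →ₐ[R] D) :
    LegHyp h (fun C C' _ _ l => l.IsIntegral) where
  iso := by
    intro C C' C₁ C₁' _ _ _ _ l l₁ e e' hsq hl y
    have h1 := isIntegralElem_of_square l l₁ (e : C →+* C₁) (e' : C' →+* C₁') hsq
      (hl (e'.symm y))
    simpa using h1
  tensor := by
    intro C₁ C₁' C₂ C₂' _ _ _ _ _ _ _ _ l₁ l₂ h₁ h₂ z
    induction z using TensorProduct.induction_on with
    | zero => exact RingHom.isIntegralElem_zero _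
    | add x y hx hy => exact RingHom.IsIntegralElem.add _ hx hy
    | tmul x y =>
      have hx : (Algebra.TensorProduct.map l₁ l₂).toRingHom.IsIntegralElem (x ⊗ₜ[R] (1 : C₂')) :=
        isIntegralElem_of_square l₁.toRingHom (Algebra.TensorProduct.map l₁ l₂).toRingHom
          (Algebra.TensorProduct.includeLeft : C₁ →ₐ[R] C₁ ⊗[R] C₂).toRingHom
          (Algebra.TensorProduct.includeLeft : C₁' →ₐ[R] C₁' ⊗[R] C₂').toRingHom
          (fun c => by
            show (Algebra.TensorProduct.map l₁ l₂) (c ⊗ₜ[R] (1 : C₂)) = l₁ c ⊗ₜ[R] (1 : C₂')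
            rw [Algebra.TensorProduct.map_tmul, map_one]) (h₁ x)
      have hy : (Algebra.TensorProduct.map l₁ l₂).toRingHom.IsIntegralElem ((1 : C₁') ⊗ₜ[R] y) :=
        isIntegralElem_of_square l₂.toRingHom (Algebra.TensorProduct.map l₁ l₂).toRingHom
          (Algebra.TensorProduct.includeRight : C₂ →ₐ[R] C₁ ⊗[R] C₂).toRingHom
          (Algebra.TensorProduct.includeRight : C₂' →ₐ[R] C₁' ⊗[R] C₂').toRingHom
          (fun c => by
            show (Algebra.TensorProduct.map l₁ l₂) ((1 : C₁) ⊗ₜ[R] c) = (1 : C₁') ⊗ₜ[R] l₂ c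
            rw [Algebra.TensorProduct.map_tmul, map_one]) (h₂ y)
      have hxy : x ⊗ₜ[R] y = (x ⊗ₜ[R] (1 : C₂')) * ((1 : C₁') ⊗ₜ[R] y) := by
        rw [Algebra.TensorProduct.tmul_mul_tmul, mul_one, one_mul]
      rw [hxy]
      exact RingHom.IsIntegralElem.mul _ hx hy
  quot := by
    intro C C' _ _ _ _ l g g' hsq hl J₀ J' fJ₀ fJ' k₀ k' hle₀
    refine ⟨J₀, hle₀, fJ₀, le_rfl, k₀, ?_⟩
    have hc : (Ideal.quotientMapₐ J' l hle₀).toRingHom.comp (Ideal.Quotient.mk J₀) =
        (Ideal.Quotient.mk J').comp l.toRingHom := RingHom.ext fun x => rfl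
    have h1 : ((Ideal.quotientMapₐ J' l hle₀).toRingHom.comp (Ideal.Quotient.mk J₀)).IsIntegral := by
      rw [hc]
      exact RingHom.IsIntegral.trans _ _ hl
        (RingHom.isIntegral_of_surjective _ Ideal.Quotient.mk_surjective)
    exact RingHom.IsIntegral.tower_top _ _ h1

/-! ### claims -/

variable {f : B →ₐ[R] D} {i : D' →ₐ[R] D}
variable {E : ∀ (C C' : Type u) [CommRing C] [CommRing C'], (C →+* C') → Prop}

theorem exists_pairObj
    (hiso : ∀ (C C' C₁ C₁' : Type u) [CommRing C] [CommRing C'] [CommRing C₁] [CommRing C₁']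
      (l : C →+* C') (l₁ : C₁ →+* C₁') (e : C ≃+* C₁) (e' : C' ≃+* C₁'),
      (∀ x, l₁ (e x) = e' (l x)) → E C C' l → E C₁ C₁' l₁)
    (hid : ∀ (C : Type u) [CommRing C], E C C (RingHom.id C))
    (b : B) (d' : D') (h : f b = i d') :
    ∃ (s : Obj f i E) (x : s.QB) (y : s.QD'), s.gB x = b ∧ s.gD' y = d' := by
  let T := MvPolynomial (Fin 1) R
  let gB : T →ₐ[R] B := MvPolynomial.aeval (fun _ => b)
  let gD' : T →ₐ[R] D' := MvPolynomial.aeval (fun _ => d')
  let gD : T →ₐ[R] D := MvPolynomial.aeval (fun _ => f b)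
  have hφ : gD.comp (AlgHom.id R T) = f.comp gB := by
    apply MvPolynomial.algHom_ext
    intro k
    simp [gD, gB]
  have hψ : gD.comp (AlgHom.id R T) = i.comp gD' := by
    apply MvPolynomial.algHom_ext
    intro k
    simp [gD, gD', h]
  have hnil : NilLeg (AlgHom.id R T).toRingHom := by
    refine ⟨fun y => ⟨y, rfl⟩, fun x hx => ?_⟩
    have hx0 : x = 0 := (RingHom.mem_ker).1 hx
    rw [hx0]
    exact IsNilpotent.zero
  have hE : E T T (AlgHom.id R T).toRingHom :=
    hiso T T T T (RingHom.id T) (AlgHom.id R T).toRingHom (RingEquiv.refl T) (RingEquiv.refl T)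
      (fun x => rfl) (hid T)
  obtain ⟨s, eB, eD, eD', h1, h2, h3, h4, h5⟩ := exists_obj (f := f) (i := i) (E := E) hiso
    T T T (AlgHom.id R T) (AlgHom.id R T) gB gD gD' hφ hψ hnil hE
  refine ⟨s, eB (MvPolynomial.X 0), eD' (MvPolynomial.X 0), ?_, ?_⟩
  · rw [h3]
    exact MvPolynomial.aeval_X _ _
  · rw [h5]
    exact MvPolynomial.aeval_X _ _

theorem claimB_of_pair (hi : Function.Surjective i)
    (hiso : ∀ (C C' C₁ C₁' : Type u) [CommRing C] [CommRing C'] [CommRing C₁] [CommRing C₁']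
      (l : C →+* C') (l₁ : C₁ →+* C₁') (e : C ≃+* C₁) (e' : C' ≃+* C₁'),
      (∀ x, l₁ (e x) = e' (l x)) → E C C' l → E C₁ C₁' l₁)
    (hid : ∀ (C : Type u) [CommRing C], E C C (RingHom.id C)) :
    ∀ b : B, ∃ (s : Obj f i E) (x : s.QB), s.gB x = b := by
  intro b
  obtain ⟨d', hd'⟩ := hi (f b)
  obtain ⟨s, x, y, hx, hy⟩ := exists_pairObj hiso hid b d' hd'.symm
  exact ⟨s, x, hx⟩

theorem claimD'_of_surj (hf : Function.Surjective f)
    (hiso : ∀ (C C' C₁ C₁' : Type u) [CommRing C] [CommRing C'] [CommRing C₁] [CommRing C₁']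
      (l : C →+* C') (l₁ : C₁ →+* C₁') (e : C ≃+* C₁) (e' : C' ≃+* C₁'),
      (∀ x, l₁ (e x) = e' (l x)) → E C C' l → E C₁ C₁' l₁)
    (hid : ∀ (C : Type u) [CommRing C], E C C (RingHom.id C)) :
    ∀ d' : D', ∃ (s : Obj f i E) (y : s.QD'), s.gD' y = d' := by
  intro d'
  obtain ⟨b, hb⟩ := hf (i d')
  obtain ⟨s, x, y, hx, hy⟩ := exists_pairObj hiso hid b d' hb
  exact ⟨s, y, hy⟩

theorem claimD'_triv :
    ∀ d' : D', ∃ (s : Obj f i (fun _ _ _ _ _ => True)) (y : s.QD'), s.gD' y = d' := by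
  intro d'
  let T := MvPolynomial (Fin 1) R
  let gD' : T →ₐ[R] D' := MvPolynomial.aeval (fun _ => d')
  let gD : T →ₐ[R] D := MvPolynomial.aeval (fun _ => i d')
  have hφ : gD.comp (Algebra.ofId R T) = f.comp (Algebra.ofId R B) := by
    apply AlgHom.ext
    intro r
    simp [Algebra.ofId_apply]
  have hψ : gD.comp (AlgHom.id R T) = i.comp gD' := by
    apply MvPolynomial.algHom_ext
    intro k
    simp [gD, gD']
  have hnil : NilLeg (AlgHom.id R T).toRingHom := by
    refine ⟨fun y => ⟨y, rfl⟩, fun x hx => ?_⟩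
    have hx0 : x = 0 := (RingHom.mem_ker).1 hx
    rw [hx0]
    exact IsNilpotent.zero
  obtain ⟨s, eB, eD, eD', h1, h2, h3, h4, h5⟩ := exists_obj (f := f) (i := i)
    (E := fun _ _ _ _ _ => True) (fun _ _ _ _ _ _ _ _ _ _ _ _ _ _ => trivial)
    R T T (Algebra.ofId R T) (AlgHom.id R T) (Algebra.ofId R B) gD gD' hφ hψ hnil trivial
  refine ⟨s, eD' (MvPolynomial.X 0), ?_⟩
  rw [h5]
  exact MvPolynomial.aeval_X _ _

/-- evaluation as an algebra map -/
def evalAlg {A X : Type u} [CommRing A] [CommRing X] [Algebra R A] [Algebra R X]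
    (g : A →ₐ[R] X) (x : X) : Polynomial A →ₐ[R] X :=
  { Polynomial.eval₂RingHom g.toRingHom x with
    commutes' := fun r => by
      show Polynomial.eval₂ g.toRingHom x (algebraMap R (Polynomial A) r) = algebraMap R X r
      rw [Polynomial.algebraMap_apply, Polynomial.eval₂_C]
      exact g.commutes r }

theorem evalAlg_apply {A X : Type u} [CommRing A] [CommRing X] [Algebra R A] [Algebra R X]
    (g : A →ₐ[R] X) (x : X) (p : Polynomial A) :
    evalAlg g x p = Polynomial.eval₂ g.toRingHom x p := rfl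

theorem claimD'_int (hi : Function.Surjective i)
    (hnil : ∀ x ∈ RingHom.ker i.toRingHom, IsNilpotent x) (hf : f.toRingHom.IsIntegral) :
    ∀ d' : D', ∃ (s : Obj f i (fun C C' _ _ l => l.IsIntegral)) (y : s.QD'), s.gD' y = d' := by
  intro d'
  obtain ⟨p, hp, hpd⟩ := hf (i d')
  let n := p.natDegree
  let CB := MvPolynomial (Fin n) R
  let gB : CB →ₐ[R] B := MvPolynomial.aeval (fun k : Fin n => p.coeff k)
  choose β hβ using fun k : Fin n => hi (f (p.coeff k))
  let gβ : CB →ₐ[R] D' := MvPolynomial.aeval β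
  let M : Polynomial CB := Polynomial.X ^ n +
    ∑ k : Fin n, Polynomial.C (MvPolynomial.X k : CB) * Polynomial.X ^ (k : ℕ)
  have hM : M.Monic := Polynomial.monic_X_pow_add (Polynomial.degree_sum_fin_lt _)
  have hgBX : ∀ k : Fin n, gB.toRingHom (MvPolynomial.X k) = p.coeff k := fun k => by
    show gB (MvPolynomial.X k) = p.coeff k
    exact MvPolynomial.aeval_X _ _
  have hMp : M.map gB.toRingHom = p := by
    simp only [M, Polynomial.map_add, Polynomial.map_pow, Polynomial.map_X, Polynomial.map_sum,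
      Polynomial.map_mul, Polynomial.map_C, hgBX]
    rw [← Finset.sum_range (fun k => Polynomial.C (p.coeff k) * Polynomial.X ^ k)]
    exact hp.as_sum.symm
  let θD' : Polynomial CB →ₐ[R] D' := evalAlg gβ d'
  let θD : Polynomial CB →ₐ[R] D := evalAlg (f.comp gB) (i d')
  have hcomp : i.comp θD' = θD := by
    apply Polynomial.algHom_ext'
    · apply MvPolynomial.algHom_ext
      intro k
      show i (Polynomial.eval₂ gβ.toRingHom d' (Polynomial.C (MvPolynomial.X k))) =
        Polynomial.eval₂ (f.comp gB).toRingHom (i d') (Polynomial.C (MvPolynomial.X k))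
      rw [Polynomial.eval₂_C, Polynomial.eval₂_C]
      show i (gβ (MvPolynomial.X k)) = f (gB (MvPolynomial.X k))
      rw [show gβ (MvPolynomial.X k) = β k from MvPolynomial.aeval_X _ _,
        show gB (MvPolynomial.X k) = p.coeff k from MvPolynomial.aeval_X _ _, hβ]
    · show i (Polynomial.eval₂ gβ.toRingHom d' Polynomial.X) =
        Polynomial.eval₂ (f.comp gB).toRingHom (i d') Polynomial.X
      rw [Polynomial.eval₂_X, Polynomial.eval₂_X]
  have hθM : θD M = 0 := by
    show Polynomial.eval₂ (f.comp gB).toRingHom (i d') M = 0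
    have h0 : (f.comp gB).toRingHom = f.toRingHom.comp gB.toRingHom := rfl
    rw [h0, ← Polynomial.eval₂_map, hMp]
    exact hpd
  have hδ : i (θD' M) = 0 := by
    have h0 := AlgHom.congr_fun hcomp M
    simp only [AlgHom.comp_apply] at h0
    rw [h0, hθM]
  obtain ⟨N, hN⟩ := hnil _ ((RingHom.mem_ker).2 hδ)
  let K' : Ideal (Polynomial CB) := Ideal.span {M ^ (N + 1)}
  let K : Ideal (Polynomial CB) := Ideal.span {M}
  have hle : K' ≤ K := (Ideal.span_singleton_le_iff_mem _).2
    (Ideal.pow_mem_of_mem _ (Ideal.mem_span_singleton_self M) _ (Nat.succ_pos N))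
  haveI : Algebra.FinitePresentation R (Polynomial CB ⧸ K') :=
    Algebra.FinitePresentation.quotient (fg_singleton _)
  haveI : Algebra.FinitePresentation R (Polynomial CB ⧸ K) :=
    Algebra.FinitePresentation.quotient (fg_singleton _)
  let ψ : (Polynomial CB ⧸ K') →ₐ[R] (Polynomial CB ⧸ K) := Ideal.Quotient.factorₐ R hle
  let φ : CB →ₐ[R] (Polynomial CB ⧸ K) := (Ideal.Quotient.mkₐ R K).comp Polynomial.CAlgHom
  have hK' : ∀ x ∈ K', θD' x = 0 :=
    span_singleton_ker0 θD' _ (by rw [map_pow, pow_succ, hN, zero_mul])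
  have hK : ∀ x ∈ K, θD x = 0 := span_singleton_ker0 θD _ hθM
  let gD' : (Polynomial CB ⧸ K') →ₐ[R] D' := Ideal.Quotient.liftₐ K' θD' hK'
  let gD : (Polynomial CB ⧸ K) →ₐ[R] D := Ideal.Quotient.liftₐ K θD hK
  have hφ : gD.comp φ = f.comp gB := by
    apply AlgHom.ext
    intro x
    show Polynomial.eval₂ (f.comp gB).toRingHom (i d') (Polynomial.C x) = f (gB x)
    rw [Polynomial.eval₂_C]
    rfl
  have hψ : gD.comp ψ = i.comp gD' := by
    apply Ideal.Quotient.algHom_ext
    apply AlgHom.ext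
    intro t
    show θD t = i (θD' t)
    exact (AlgHom.congr_fun hcomp t).symm
  have hψnil : NilLeg (C := Polynomial CB ⧸ K') (C' := Polynomial CB ⧸ K) ψ.toRingHom := by
    refine ⟨fun y => ?_, fun x hx => ?_⟩
    · obtain ⟨t, rfl⟩ := Ideal.Quotient.mk_surjective y
      exact ⟨Ideal.Quotient.mk K' t, rfl⟩
    · obtain ⟨t, rfl⟩ := Ideal.Quotient.mk_surjective x
      have h0 : Ideal.Quotient.mk K t = 0 := (RingHom.mem_ker).1 hx
      have h1 : t ∈ K := Ideal.Quotient.eq_zero_iff_mem.1 h0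
      obtain ⟨c, rfl⟩ := Ideal.mem_span_singleton'.1 h1
      refine ⟨N + 1, ?_⟩
      rw [← map_pow, mul_pow]
      exact Ideal.Quotient.eq_zero_iff_mem.2
        (Ideal.mul_mem_left _ _ (Ideal.mem_span_singleton_self _))
  have hφX : φ.toRingHom.IsIntegralElem (Ideal.Quotient.mk K Polynomial.X) := by
    refine ⟨M, hM, ?_⟩
    have h0 : φ.toRingHom = (Ideal.Quotient.mk K).comp Polynomial.C := RingHom.ext fun _ => rfl
    rw [h0, ← Polynomial.hom_eval₂, Polynomial.eval₂_C_X]
    exact Ideal.Quotient.eq_zero_iff_mem.2 (Ideal.mem_span_singleton_self M)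
  have hφint : φ.toRingHom.IsIntegral := by
    intro z
    obtain ⟨t, rfl⟩ := Ideal.Quotient.mk_surjective z
    induction t using Polynomial.induction_on with
    | C a => exact φ.toRingHom.isIntegralElem_map (x := a)
    | add p q hp hq =>
      rw [map_add]
      exact RingHom.IsIntegralElem.add (R := CB) (S := Polynomial CB ⧸ K) φ.toRingHom hp hq
    | monomial k a hk =>
      rw [pow_succ, ← mul_assoc, map_mul]
      exact RingHom.IsIntegralElem.mul (R := CB) (S := Polynomial CB ⧸ K) φ.toRingHom hk hφX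
  obtain ⟨s, eB, eD, eD', h1, h2, h3, h4, h5⟩ := exists_obj (f := f) (i := i)
    (E := fun C C' _ _ l => l.IsIntegral) (intLegHyp f).iso
    CB (Polynomial CB ⧸ K) (Polynomial CB ⧸ K') φ ψ gB gD gD' hφ hψ hψnil hφint
  refine ⟨s, eD' (Ideal.Quotient.mk K' Polynomial.X), ?_⟩
  rw [h5]
  show Polynomial.eval₂ gβ.toRingHom d' Polynomial.X = d'
  rw [Polynomial.eval₂_X]

end

end Groth.Agent.Lib.Helper24.NilPair
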