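import Groth.Prelude.Def_ConstGrp
import Groth.Prelude.Def_CartDual2
import Mathlib

/-!
A criterion showing that the algebra of functions on a finite set is not isomorphic to an algebra
with a "visible" nilpotent (helper24).
-/

set_option autoImplicit false
set_option linter.unusedSectionVars false
universe u v w

namespace Groth.Agent.Lib.Helper24.NonIso

open ConstGrp

/-- If `B` has an element `n` with `n ^ p = 0` on which some linear form takes the value `1`, then
`B` is not isomorphic to the algebra of functions on a finite set (over a nontrivial ring). -/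
theorem false_of_algEquiv (R : Type u) [CommRing R] [Nontrivial R] (G : Type v) [Fintype G]
    [DecidableEq G] {B : Type w} [CommRing B] [Algebra R B] (φ : F R G ≃ₐ[R] B) (p : ℕ)
    (n : B) (hn : n ^ p = 0) (l : B →ₗ[R] R) (hl : l n = 1) : False := by
  obtain ⟨m, hm⟩ := Ideal.exists_maximal R
  have hmp : m.IsPrime := hm.isPrime
  set f : F R G := φ.symm n with hf
  have hfp : f ^ p = 0 := by
    rw [hf, ← map_pow, hn, map_zero]
  have hfm : ∀ g, f g ∈ m := by
    intro g
    have h1 : (f ^ p) g = (f g) ^ p := rfl
    rw [hfp] at h1
    have h2 : (f g) ^ p ∈ m := by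
      rw [← h1]
      exact m.zero_mem
    exact hmp.mem_of_pow_mem p h2
  have hn2 : n = ∑ g : G, f g • φ (e R g) := by
    have h1 : φ f = n := φ.apply_symm_apply n
    rw [← h1]
    conv_lhs => rw [eq_sum_smul_e f]
    rw [map_sum]
    apply Finset.sum_congr rfl
    intro g _
    rw [map_smul]
  have h1 : l n ∈ m := by
    rw [hn2, map_sum]
    apply Ideal.sum_mem
    intro g _
    rw [map_smul, smul_eq_mul]
    exact m.mul_mem_right _ (hfm g)
  rw [hl] at h1
  exact hm.ne_top ((Ideal.eq_top_iff_one m).mpr h1)

end Groth.Agent.Lib.Helper24.NonIso
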