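import Mathlib
import Groth.Prelude.Def_PolLaw
import Groth.Prelude.Def_PolLaw2
import Groth.Prelude.Def_W4c5normfunctorschNorm
import Groth.Agent.Lib.Helper20.PolyLaw

/-!
# The algebra map `Γ^d(R'/R) → R` attached to the norm commutes with base change (helper24, S17914)
-/

set_option autoImplicit false

namespace Groth.Agent.Lib.Helper24.NormBC

open scoped TensorProduct

universe u

section bcAlong

variable {R : Type u} [CommRing R] {Q : Type u} [CommRing Q] [Algebra R Q]
  {X : Type u} [AddCommGroup X] [Module R X]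
  {Y : Type u} [AddCommGroup Y] [Module R Y] [Module Q Y] [IsScalarTower R Q Y]
  (P : Type u) [CommRing P] [Algebra R P] [Algebra Q P] [IsScalarTower R Q P]

lemma bcAlong_tmul (g : X →ₗ[R] Y) (p : P) (x : X) :
    PolLaw.bcAlong (Q := Q) g P (p ⊗ₜ[R] x) = p ⊗ₜ[Q] g x := by
  unfold PolLaw.bcAlong
  rw [LinearMap.comp_apply, LinearMap.restrictScalars_apply, LinearEquiv.coe_coe,
    TensorProduct.AlgebraTensorModule.cancelBaseChange_symm_tmul, LinearMap.lTensor_tmul,
    LinearMap.liftBaseChange_tmul, one_smul]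

lemma lTensor_bcAlong {Y' : Type u} [AddCommGroup Y'] [Module R Y'] [Module Q Y']
    [IsScalarTower R Q Y'] (g' : Y →ₗ[Q] Y') (f : X →ₗ[R] Y) (w : P ⊗[R] X) :
    g'.lTensor P (PolLaw.bcAlong (Q := Q) f P w) = PolLaw.bcAlong (Q := Q) ((g'.restrictScalars R) ∘ₗ f) P w := by
  induction w using TensorProduct.induction_on with
  | zero => simp
  | tmul p x =>
    rw [bcAlong_tmul, bcAlong_tmul, LinearMap.lTensor_tmul]
    rfl
  | add x y hx hy => rw [map_add, map_add, map_add, hx, hy]

lemma bcAlong_lTensor {X' : Type u} [AddCommGroup X'] [Module R X'] (g : X →ₗ[R] Y)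
    (h : X' →ₗ[R] X) (w : P ⊗[R] X') :
    PolLaw.bcAlong (Q := Q) g P (h.lTensor P w) = PolLaw.bcAlong (Q := Q) (g ∘ₗ h) P w := by
  induction w using TensorProduct.induction_on with
  | zero => simp
  | tmul p x =>
    rw [LinearMap.lTensor_tmul, bcAlong_tmul, bcAlong_tmul]
    rfl
  | add x y hx hy => rw [map_add, map_add, map_add, hx, hy]

end bcAlong

section descent

variable {R : Type u} [CommRing R] {Q : Type u} [CommRing Q] [Algebra R Q]
  {C : Type u} [AddCommGroup C] [Module R C] (S : Type u) [CommRing S] [Algebra R S]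

lemma rid_bcAlong (f : C →ₗ[R] Q) (w : S ⊗[R] C) :
    TensorProduct.rid Q (Q ⊗[R] S) (PolLaw.bcAlong (Q := Q) f (Q ⊗[R] S)
      ((Algebra.TensorProduct.includeRight : S →ₐ[R] Q ⊗[R] S).toLinearMap.rTensor C w)) =
      TensorProduct.comm R S Q (f.lTensor S w) := by
  induction w using TensorProduct.induction_on with
  | zero => simp
  | tmul s c =>
    rw [LinearMap.rTensor_tmul, AlgHom.toLinearMap_apply, bcAlong_tmul, TensorProduct.rid_tmul,
      Algebra.TensorProduct.includeRight_apply, TensorProduct.smul_tmul', smul_eq_mul, mul_one,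
      LinearMap.lTensor_tmul, TensorProduct.comm_tmul]
  | add x y hx hy => rw [map_add, map_add, map_add, map_add, map_add, hx, hy]

end descent

/-- S17914. -/
theorem normMap_baseChange {R R' Q Q' : Type u} [CommRing R] [CommRing R'] [Algebra R R']
    [CommRing Q] [Algebra R Q] [CommRing Q'] [Algebra R Q'] [Algebra Q Q'] [Algebra R' Q']
    [IsScalarTower R Q Q'] [IsScalarTower R R' Q'] [Algebra.IsPushout R R' Q Q']
    [Module.Free R R'] [Module.Finite R R'] [Module.Free Q Q'] [Module.Finite Q Q']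
    (d : ℕ) (hd : Module.finrank R R' = d) (hd' : Module.finrank Q Q' = d)
    {C : Type u} [CommRing C] [Algebra R C] (γ : PolLaw.MulLaw R R' C d) (hγ : PolLaw.IsGammaD γ)
    (π : C →ₐ[R] R) (hπ : PolLaw.MulLaw.postcomp π γ = PolLaw.normLaw R R' d hd)
    {C' : Type u} [CommRing C'] [Algebra R C'] [Algebra Q C'] [IsScalarTower R Q C']
    (γ' : PolLaw.MulLaw Q Q' C' d)
    (π' : C' →ₐ[Q] Q) (hπ' : PolLaw.MulLaw.postcomp π' γ' = PolLaw.normLaw Q Q' d hd')
    (θ : C →ₐ[R] C')
    (hθ : ∀ (P : Type u) [CommRing P] [Algebra R P] [Algebra Q P] [IsScalarTower R Q P]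
      (z : P ⊗[R] R'),
      γ'.law.toFun' P (PolLaw.bcAlong (Q := Q) (IsScalarTower.toAlgHom R R' Q').toLinearMap P z) =
        PolLaw.bcAlong (Q := Q) θ.toLinearMap P (γ.law.toFun' P z)) :
    ∀ c : C, π' (θ c) = algebraMap R Q (π c) := by
  haveI hpush : Algebra.IsPushout R Q R' Q' := Algebra.IsPushout.symm inferInstance
  have keyP : ∀ (P : Type u) [CommRing P] [Algebra R P] [Algebra Q P] [IsScalarTower R Q P]
      (z : P ⊗[R] R'),
      PolLaw.bcAlong (Q := Q) ((π'.toLinearMap.restrictScalars R) ∘ₗ θ.toLinearMap) P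
          (γ.law.toFun' P z) =
        PolLaw.bcAlong (Q := Q) ((Algebra.ofId R Q).toLinearMap ∘ₗ π.toLinearMap) P
          (γ.law.toFun' P z) := by
    intro P _ _ _ _ z
    have hnorm : Algebra.norm P (PolLaw.bcAlong (Q := Q) (IsScalarTower.toAlgHom R R' Q').toLinearMap P z) =
        Algebra.norm P z := by
      obtain ⟨E, hE⟩ : ∃ E : P ⊗[R] R' ≃ₐ[P] P ⊗[Q] Q',
          E = (Algebra.TensorProduct.cancelBaseChange R Q P P R').symm.trans
            (Algebra.TensorProduct.congr (AlgEquiv.refl : P ≃ₐ[P] P)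
              (Algebra.IsPushout.equiv R Q R' Q')) := ⟨_, rfl⟩
      have hEz : ∀ w : P ⊗[R] R',
          E w = PolLaw.bcAlong (Q := Q) (IsScalarTower.toAlgHom R R' Q').toLinearMap P w := by
        intro w
        induction w using TensorProduct.induction_on with
        | zero => simp
        | tmul p r =>
          rw [bcAlong_tmul, hE, AlgEquiv.trans_apply,
            Algebra.TensorProduct.cancelBaseChange_symm_tmul, Algebra.TensorProduct.congr_apply,
            Algebra.TensorProduct.map_tmul]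
          simp [Algebra.IsPushout.equiv_tmul]
        | add x y hx hy => rw [map_add, map_add, hx, hy]
      rw [← hEz, Algebra.norm_eq_of_algEquiv]
    have h1 : π'.toLinearMap.lTensor P (γ'.law.toFun' P
        (PolLaw.bcAlong (Q := Q) (IsScalarTower.toAlgHom R R' Q').toLinearMap P z)) =
        (PolLaw.normLaw Q Q' d hd').law.toFun' P
          (PolLaw.bcAlong (Q := Q) (IsScalarTower.toAlgHom R R' Q').toLinearMap P z) := by
      rw [← hπ']
      rfl
    have h2 : π.toLinearMap.lTensor P (γ.law.toFun' P z) =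
        (PolLaw.normLaw R R' d hd).law.toFun' P z := by
      rw [← hπ]
      rfl
    rw [← lTensor_bcAlong, ← hθ P z, h1, PolLaw.normLaw_apply, ← bcAlong_lTensor, h2,
      PolLaw.normLaw_apply, bcAlong_tmul, AlgHom.toLinearMap_apply, map_one, hnorm]
  obtain ⟨f₁, hf₁⟩ : ∃ f₁ : C →ₐ[R] Q, f₁ = (π'.restrictScalars R).comp θ := ⟨_, rfl⟩
  obtain ⟨f₂, hf₂⟩ : ∃ f₂ : C →ₐ[R] Q, f₂ = (Algebra.ofId R Q).comp π := ⟨_, rfl⟩
  have hlaw : PolLaw.postcomp f₁.toLinearMap γ.law = PolLaw.postcomp f₂.toLinearMap γ.law := by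
    apply Groth.Agent.Lib.Helper20.PolyLaw.law_ext
    intro n
    funext z
    show f₁.toLinearMap.lTensor (MvPolynomial (Fin n) R)
        (γ.law.toFun' (MvPolynomial (Fin n) R) z) =
      f₂.toLinearMap.lTensor (MvPolynomial (Fin n) R) (γ.law.toFun' (MvPolynomial (Fin n) R) z)
    apply (TensorProduct.comm R (MvPolynomial (Fin n) R) Q).injective
    rw [← rid_bcAlong, ← rid_bcAlong, PolynomialLaw.isCompat_apply', hf₁, hf₂]
    congr 1
    exact keyP (Q ⊗[R] MvPolynomial (Fin n) R) _
  obtain ⟨f, -, huniq⟩ := hγ Q (γ.postcomp f₂)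
  have e1 : f₁ = f := huniq f₁ hlaw
  have e2 : f₂ = f := huniq f₂ rfl
  intro c
  have h := congrArg (fun g : C →ₐ[R] Q => g c) (e1.trans e2.symm)
  rw [hf₁, hf₂] at h
  exact h

end Groth.Agent.Lib.Helper24.NormBC
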