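import Mathlib
import Groth.Prelude.Def_W4c5normfunctorschNorm
import Groth.Agent.Lib.Helper24.LawBC

/-!
# Base change of universal normic pairs (helper24)

`R → R'` finite free, `Q` an `R`-algebra, `Q' = Q ⊗ R'`, `M'' = Q' ⊗_{R'} M'`. A universal
normic pair `(N'', ν'')` for `M''` over `Q` is the base change of a universal normic pair
`(N, ν)` for `M'` over `R`.
-/

set_option autoImplicit false

namespace Groth.Agent.Lib.Helper24.NormicBC

open scoped TensorProduct
open Groth.Agent.Lib.Helper24.LawBC Groth.Agent.Lib.Helper20.PolyLaw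

universe u

/-- the structure map `R' → Q'` as an `R`-linear map. -/
noncomputable def aMap (R R' Q' : Type u) [CommRing R] [CommRing R'] [Algebra R R']
    [CommRing Q'] [Algebra R Q'] [Algebra R' Q'] [IsScalarTower R R' Q'] : R' →ₗ[R] Q' :=
  (IsScalarTower.toAlgHom R R' Q').toLinearMap

variable {R R' Q Q' : Type u} [CommRing R] [CommRing R'] [Algebra R R']
  [CommRing Q] [Algebra R Q] [CommRing Q'] [Algebra R Q'] [Algebra Q Q'] [Algebra R' Q']
  [IsScalarTower R Q Q'] [IsScalarTower R R' Q']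
  {M' : Type u} [AddCommGroup M'] [Module R M'] [Module R' M'] [IsScalarTower R R' M']
  {M'' : Type u} [AddCommGroup M''] [Module R M''] [Module R' M''] [Module Q M''] [Module Q' M'']
  [IsScalarTower R R' M''] [IsScalarTower R Q M''] [IsScalarTower R' Q' M'']
  [IsScalarTower Q Q' M'']

lemma aMap_apply (r : R') : aMap R R' Q' r = algebraMap R' Q' r := rfl

section P

variable (f : M' →ₗ[R'] M'')
  (P : Type u) [CommRing P] [Algebra R P] [Algebra Q P] [IsScalarTower R Q P]

lemma bc_act (x : P ⊗[R] R') (m : P ⊗[R] M') :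
    PolLaw.bcAlong (Q := Q) (f.restrictScalars R) P (PolLaw.actEnd M' P x m) =
      PolLaw.actEnd M'' P (PolLaw.bcAlong (Q := Q) (aMap R R' Q') P x)
        (PolLaw.bcAlong (Q := Q) (f.restrictScalars R) P m) := by
  induction x using TensorProduct.induction_on with
  | zero => simp
  | tmul s r' =>
    induction m using TensorProduct.induction_on with
    | zero => simp
    | tmul t m' =>
      rw [PolLaw.actEnd_tmul_tmul, bcAlong_tmul, bcAlong_tmul, bcAlong_tmul,
        PolLaw.actEnd_tmul_tmul]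
      congr 1
      show f (r' • m') = algebraMap R' Q' r' • f m'
      rw [map_smul, algebraMap_smul]
    | add a b ha hb => simp only [map_add, ha, hb]
  | add a b ha hb => simp only [map_add, LinearMap.add_apply, ha, hb]

lemma bc_one : PolLaw.bcAlong (Q := Q) (aMap R R' Q') P 1 = 1 := by
  rw [Algebra.TensorProduct.one_def, bcAlong_tmul, aMap_apply, map_one]
  rfl

lemma bc_mul (x y : P ⊗[R] R') :
    PolLaw.bcAlong (Q := Q) (aMap R R' Q') P (x * y) =
      PolLaw.bcAlong (Q := Q) (aMap R R' Q') P x *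
        PolLaw.bcAlong (Q := Q) (aMap R R' Q') P y := by
  induction x using TensorProduct.induction_on with
  | zero => simp
  | tmul s r =>
    induction y using TensorProduct.induction_on with
    | zero => simp
    | tmul t r2 =>
      rw [Algebra.TensorProduct.tmul_mul_tmul, bcAlong_tmul, bcAlong_tmul, bcAlong_tmul,
        Algebra.TensorProduct.tmul_mul_tmul, aMap_apply, aMap_apply, aMap_apply, map_mul]
    | add a b ha hb => simp only [mul_add, map_add, ha, hb]
  | add a b ha hb => simp only [add_mul, map_add, ha, hb]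

/-- `P ⊗_R R' ≃ P ⊗_Q Q'` as `P`-algebras. -/
noncomputable def bcAlgEquiv (ha : IsBaseChange Q (aMap R R' Q')) :
    P ⊗[R] R' ≃ₐ[P] P ⊗[Q] Q' :=
  AlgEquiv.ofLinearEquiv (bcEquivP (aMap R R' Q') P ha)
    (by rw [bcEquivP_apply]; exact bc_one P)
    (fun x y => by
      rw [bcEquivP_apply, bcEquivP_apply, bcEquivP_apply]
      exact bc_mul P x y)

lemma norm_bc (ha : IsBaseChange Q (aMap R R' Q')) (x : P ⊗[R] R') :
    Algebra.norm P (PolLaw.bcAlong (Q := Q) (aMap R R' Q') P x) = Algebra.norm P x := by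
  have h := Algebra.norm_eq_of_algEquiv (bcAlgEquiv P ha) x
  rw [← h]
  congr 1

end P

lemma norm_inr [Module.Free R R'] [Module.Finite R R'] (S : Type u) [CommRing S] [Algebra R S]
    (x : S ⊗[R] R') :
    Algebra.norm (Q ⊗[R] S) (Algebra.TensorProduct.map
        (Algebra.TensorProduct.includeRight : S →ₐ[R] Q ⊗[R] S) (AlgHom.id R R') x) =
      (Algebra.TensorProduct.includeRight : S →ₐ[R] Q ⊗[R] S) (Algebra.norm S x) := by
  rw [← PolLaw.detAct_self, ← PolLaw.detAct_self, PolLaw.detAct_map]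

lemma postcomp_isNormic {N E : Type u} [AddCommGroup N] [Module R N] [AddCommGroup E]
    [Module R E] (g₀ : N →ₗ[R] E) (ν : M' →ₚₗ[R] N) (hν : PolLaw.IsNormic R' ν) :
    PolLaw.IsNormic R' (PolLaw.postcomp g₀ ν) := by
  intro P _ _ x m
  show g₀.lTensor P (ν.toFun' P (PolLaw.actEnd M' P x m)) =
    Algebra.norm P x • g₀.lTensor P (ν.toFun' P m)
  rw [hν P x m, ← LinearMap.baseChange_eq_ltensor, map_smul]

variable (f : M' →ₗ[R'] M'')

theorem res_isNormic [Module.Free R R'] [Module.Finite R R']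
    (ha : IsBaseChange Q (aMap R R' Q'))
    {N'' : Type u} [AddCommGroup N''] [Module R N''] [Module Q N''] [IsScalarTower R Q N'']
    (ν'' : M'' →ₚₗ[Q] N'') (hν'' : PolLaw.IsNormic Q' ν'') :
    PolLaw.IsNormic R' (res ν'' (f.restrictScalars R)) := by
  intro S _ _ x m
  rw [res_apply, res_apply]
  unfold resFun
  rw [PolLaw.rTensor_actEnd M' _ x m, bc_act (Q := Q) (Q' := Q') f (Q ⊗[R] S), hν'' (Q ⊗[R] S),
    norm_bc (Q ⊗[R] S) ha, norm_inr S x, del_smul]

theorem ext_isNormic (ha : IsBaseChange Q (aMap R R' Q'))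
    (hf : IsBaseChange Q (f.restrictScalars R))
    {E : Type u} [AddCommGroup E] [Module R E] [Module Q E] [IsScalarTower R Q E]
    (μ : M' →ₚₗ[R] E) (hμ : PolLaw.IsNormic R' μ) :
    PolLaw.IsNormic Q' (ext (f.restrictScalars R) hf μ) := by
  intro P _ _ x'' m''
  letI : Algebra R P := ((algebraMap Q P).comp (algebraMap R Q)).toAlgebra
  haveI : IsScalarTower R Q P := IsScalarTower.of_algebraMap_eq (fun _ => rfl)
  obtain ⟨x, rfl⟩ := (bcAlong_bijective (aMap R R' Q') P ha).2 x''
  obtain ⟨m, rfl⟩ := (bcAlong_bijective (f.restrictScalars R) P hf).2 m''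
  rw [← bc_act (Q := Q) (Q' := Q'), ext_apply, ext_apply, hμ P x m, bcAlong_smul, norm_bc P ha x]

theorem main [Algebra.IsPushout R R' Q Q'] [Module.Free R R'] [Module.Finite R R']
    (hf : IsBaseChange Q' f)
    {N : Type u} [AddCommGroup N] [Module R N] (ν : M' →ₚₗ[R] N)
    (hν : PolLaw.IsUnivNormic R' ν)
    {N'' : Type u} [AddCommGroup N''] [Module R N''] [Module Q N''] [IsScalarTower R Q N'']
    (ν'' : M'' →ₚₗ[Q] N'') (hν'' : PolLaw.IsUnivNormic Q' ν'') :
    ∃ u : N →ₗ[R] N'',
      (∀ (P : Type u) [CommRing P] [Algebra R P] [Algebra Q P] [IsScalarTower R Q P]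
          (m : P ⊗[R] M'),
          ν''.toFun' P (PolLaw.bcAlong (f.restrictScalars R) P m) =
            PolLaw.bcAlong u P (ν.toFun' P m)) ∧
      IsBaseChange Q u := by
  have hpo : Algebra.IsPushout R Q R' Q' := Algebra.IsPushout.symm inferInstance
  have ha : IsBaseChange Q (aMap R R' Q') := hpo.out
  have hfR : IsBaseChange Q (f.restrictScalars R) := by
    haveI := hpo
    refine IsBaseChange.of_equiv ((Algebra.IsPushout.cancelBaseChange R Q R' Q' M').symm ≪≫ₗ
      (hf.equiv.restrictScalars Q)) (fun x => ?_)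
    rw [LinearEquiv.trans_apply, Algebra.IsPushout.cancelBaseChange_symm_tmul, map_one,
      LinearEquiv.restrictScalars_apply, hf.equiv_tmul, one_smul]
    rfl
  obtain ⟨u, hu, -⟩ := hν.2 N'' (res ν'' (f.restrictScalars R)) (res_isNormic f ha ν'' hν''.1)
  have hu' : PolLaw.postcomp u ν = res ν'' (f.restrictScalars R) := hu
  have hcompat : ∀ (P : Type u) [CommRing P] [Algebra R P] [Algebra Q P] [IsScalarTower R Q P]
      (m : P ⊗[R] M'),
      ν''.toFun' P (PolLaw.bcAlong (f.restrictScalars R) P m) =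
        PolLaw.bcAlong u P (ν.toFun' P m) := by
    intro P _ _ _ _ m
    rw [← res_bc, ← hu']
    show PolLaw.bcAlong (Q := Q) (LinearMap.id : N'' →ₗ[R] N'') P
      (u.lTensor P (ν.toFun' P m)) = _
    rw [bcAlong_lTensor, LinearMap.id_comp]
  refine ⟨u, hcompat, ?_⟩
  apply IsBaseChange.of_lift_unique
  intro E _ _ _ _ g₀
  letI : AddCommGroup E := Module.addCommMonoidToAddCommGroup Q
  have hμ : PolLaw.IsNormic R' (PolLaw.postcomp g₀ ν) := postcomp_isNormic g₀ ν hν.1
  obtain ⟨g', hg', hg'u⟩ := hν''.2 E (ext (f.restrictScalars R) hfR (PolLaw.postcomp g₀ ν))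
    (ext_isNormic f ha hfR _ hμ)
  refine ⟨g', ?_, ?_⟩
  · obtain ⟨φ, -, hφu⟩ := hν.2 E (PolLaw.postcomp g₀ ν) hμ
    have e1 : g₀ = φ := hφu g₀ rfl
    have key : ∀ (S : Type u) [CommRing S] [Algebra R S] (x : S ⊗[R] M'),
        ((g'.restrictScalars R).comp u).lTensor S (ν.toFun' S x) =
          g₀.lTensor S (ν.toFun' S x) := by
      intro S _ _ x
      rw [LinearMap.lTensor_comp, LinearMap.comp_apply]
      have h1 : u.lTensor S (ν.toFun' S x) =
          (res ν'' (f.restrictScalars R)).toFun' S x := by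
        rw [← hu']; rfl
      rw [h1, res_apply]
      unfold resFun
      rw [del_lTensor]
      have h2 : ∀ w, g'.lTensor (Q ⊗[R] S) (ν''.toFun' (Q ⊗[R] S) w) =
          (ext (f.restrictScalars R) hfR (PolLaw.postcomp g₀ ν)).toFun' (Q ⊗[R] S) w := by
        intro w; rw [← hg']; rfl
      rw [h2, ext_apply]
      have h3 := congr_fun ((PolLaw.postcomp g₀ ν).isCompat'
        (Algebra.TensorProduct.includeRight : S →ₐ[R] Q ⊗[R] S)) x
      simp only [Function.comp_apply] at h3
      rw [← h3, del_bc_inr]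
      rfl
    have e2 : (g'.restrictScalars R).comp u = φ := by
      apply hφu
      apply law_ext
      intro n
      funext x
      exact key _ x
    rw [e2, e1]
  · intro g'' hg''
    apply hg'u
    apply law_ext
    intro n
    funext y
    obtain ⟨m, rfl⟩ := (bcAlong_bijective (f.restrictScalars R) (MvPolynomial (Fin n) Q) hfR).2 y
    rw [ext_apply]
    show g''.lTensor _ (ν''.toFun' _ (PolLaw.bcAlong (Q := Q) (f.restrictScalars R) _ m)) = _
    rw [hcompat, lTensor_bcAlong]
    show _ = PolLaw.bcAlong (Q := Q) LinearMap.id _ (g₀.lTensor _ (ν.toFun' _ m))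
    rw [bcAlong_lTensor, LinearMap.id_comp, hg'']

end Groth.Agent.Lib.Helper24.NormicBC
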