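import Mathlib

/-!
# A small verified search engine for generalized Cartan matrices

Used for the classification of genus-one numerical types on a fixed number of indices
(`Models.NumericalType`): an abstract integer matrix `M` (indexed by `ℕ`, only the entries
`< K` matter) satisfying `Good` is extended by one vertex; a certificate tree explores the
possible values of the new row/column and either refutes them (by a nonnegative vector with
nonnegative column sums) or matches the result with a table in a list of targets.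
-/

set_option autoImplicit false

namespace Groth.Agent.Lib.Helper24.NumTypeEngine

open Finset

/-- the possible values of a pair `(M s t, M t s)`, `s ≠ t` -/
def opts : List (ℤ × ℤ) := [(0,0),(1,1),(1,2),(2,1),(1,3),(3,1)]

inductive Tree where
  | pos (y : List ℤ)
  | neg (y : List ℤ)
  | mat (idx : ℕ) (τ : List ℕ)
  | zero
  | node (c0 c1 c2 c3 c4 c5 : Tree)

def ent (D : List (List ℤ)) (s t : ℕ) : ℤ := (D.getD s []).getD t 0

/-- lower bound matrix: `D` on the first `k` indices, the partially known last row and column -/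
def Lm (D : List (List ℤ)) (k : ℕ) (xs : List (ℤ × ℤ)) (s t : ℕ) : ℤ :=
  if s < k then (if t < k then ent D s t else (xs.getD s (0,0)).1)
  else (if t < k then (xs.getD t (0,0)).2 else -2)

def csum (K : ℕ) (y : ℕ → ℤ) (M : ℕ → ℕ → ℤ) (t : ℕ) : ℤ := ∑ s ∈ range K, y s * M s t

def yv (y : List ℤ) (s : ℕ) : ℤ := y.getD s 0
def tv (τ : List ℕ) (s : ℕ) : ℕ := τ.getD s 0

structure Good (K : ℕ) (full : Bool) (M : ℕ → ℕ → ℤ) : Prop where
  diag : ∀ s < K, M s s = -2
  opt : ∀ s < K, ∀ t < K, s ≠ t → (M s t, M t s) ∈ opts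
  pos : ∀ y : ℕ → ℤ, (∀ s < K, 0 ≤ y s) → (∃ s < K, y s ≠ 0) → (∀ t < K, 0 ≤ csum K y M t) →
      full = true ∧ (∀ s < K, 0 < y s) ∧ ∀ t < K, csum K y M t = 0
  neg : full = true → ∀ y : ℕ → ℤ, (∀ t < K, csum K y M t ≤ 0) → ∀ t < K, csum K y M t = 0

def PosOK (full : Bool) (K : ℕ) (L : ℕ → ℕ → ℤ) (y : List ℤ) : Prop :=
  (∀ s < K, 0 ≤ yv y s) ∧ (∃ s < K, yv y s ≠ 0) ∧ (∀ t < K, 0 ≤ csum K (yv y) L t) ∧
    (full = false ∨ (∃ s < K, yv y s = 0) ∨ ∃ t < K, 0 < csum K (yv y) L t)

instance (full : Bool) (K : ℕ) (L : ℕ → ℕ → ℤ) (y : List ℤ) : Decidable (PosOK full K L y) := by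
  unfold PosOK; infer_instance

def NegOK (full : Bool) (K : ℕ) (L : ℕ → ℕ → ℤ) (y : List ℤ) : Prop :=
  full = true ∧ (∀ t < K, csum K (yv y) L t ≤ 0) ∧ ∃ t < K, csum K (yv y) L t < 0

instance (full : Bool) (K : ℕ) (L : ℕ → ℕ → ℤ) (y : List ℤ) : Decidable (NegOK full K L y) := by
  unfold NegOK; infer_instance

def MatOK (K : ℕ) (L : ℕ → ℕ → ℤ) (targets : List (List (List ℤ))) (idx : ℕ) (τ : List ℕ) : Prop :=
  idx < targets.length ∧ τ.length = K ∧ τ.Nodup ∧ (∀ s < K, tv τ s < K) ∧
    ∀ s < K, ∀ t < K, L (tv τ s) (tv τ t) = ent (targets.getD idx []) s t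

instance (K : ℕ) (L : ℕ → ℕ → ℤ) (targets : List (List (List ℤ))) (idx : ℕ) (τ : List ℕ) :
    Decidable (MatOK K L targets idx τ) := by
  unfold MatOK; infer_instance

def Concl (K : ℕ) (targets : List (List (List ℤ))) (M : ℕ → ℕ → ℤ) : Prop :=
  ∃ idx τ, MatOK K M targets idx τ

def check (full : Bool) (D : List (List ℤ)) (k : ℕ) (targets : List (List (List ℤ))) :
    Tree → List (ℤ × ℤ) → Bool
  | .pos y, xs => decide (PosOK full (k+1) (Lm D k xs) y)
  | .neg y, xs => decide (xs.length = k ∧ NegOK full (k+1) (Lm D k xs) y)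
  | .mat idx τ, xs => decide (xs.length = k ∧ MatOK (k+1) (Lm D k xs) targets idx τ)
  | .zero, xs => decide (xs.length = k ∧ ∀ i < k, xs.getD i (0,0) = (0,0))
  | .node c0 c1 c2 c3 c4 c5, xs => decide (xs.length < k) &&
      check full D k targets c0 (xs ++ [(0,0)]) && check full D k targets c1 (xs ++ [(1,1)]) &&
      check full D k targets c2 (xs ++ [(1,2)]) && check full D k targets c3 (xs ++ [(2,1)]) &&
      check full D k targets c4 (xs ++ [(1,3)]) && check full D k targets c5 (xs ++ [(3,1)])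

lemma opt_nonneg {a b : ℤ} (h : (a, b) ∈ opts) : 0 ≤ a ∧ 0 ≤ b := by
  simp only [opts, List.mem_cons, Prod.mk.injEq, List.not_mem_nil, or_false] at h
  rcases h with ⟨rfl, rfl⟩ | ⟨rfl, rfl⟩ | ⟨rfl, rfl⟩ | ⟨rfl, rfl⟩ | ⟨rfl, rfl⟩ | ⟨rfl, rfl⟩ <;> decide

section Sound

variable {full : Bool} {D : List (List ℤ)} {k : ℕ} {targets : List (List (List ℤ))}
  {M : ℕ → ℕ → ℤ}

lemma Lm_le (hG : Good (k+1) full M) (hD : ∀ s < k, ∀ t < k, M s t = ent D s t)
    (xs : List (ℤ × ℤ)) (hxs : ∀ i < xs.length, xs.getD i (0,0) = (M i k, M k i))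
    (s t : ℕ) (hs : s < k + 1) (ht : t < k + 1) : Lm D k xs s t ≤ M s t := by
  unfold Lm
  by_cases hsk : s < k
  · by_cases htk : t < k
    · rw [if_pos hsk, if_pos htk, hD s hsk t htk]
    · have htk' : t = k := by omega
      subst htk'
      rw [if_pos hsk, if_neg htk]
      by_cases hsl : s < xs.length
      · rw [hxs s hsl]
      · rw [List.getD_eq_default _ _ (by omega)]
        exact (opt_nonneg (hG.opt s hs t ht (by omega))).1
  · have hsk' : s = k := by omega
    subst hsk'
    by_cases htk : t < s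
    · rw [if_neg hsk, if_pos htk]
      by_cases htl : t < xs.length
      · rw [hxs t htl]
      · rw [List.getD_eq_default _ _ (by omega)]
        exact (opt_nonneg (hG.opt t ht s hs (by omega))).2
    · have htk' : t = s := by omega
      subst htk'
      rw [if_neg hsk, if_neg htk, hG.diag t hs]

lemma Lm_eq (hG : Good (k+1) full M) (hD : ∀ s < k, ∀ t < k, M s t = ent D s t)
    (xs : List (ℤ × ℤ)) (hxs : ∀ i < xs.length, xs.getD i (0,0) = (M i k, M k i))
    (hlen : xs.length = k)
    (s t : ℕ) (hs : s < k + 1) (ht : t < k + 1) : Lm D k xs s t = M s t := by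
  unfold Lm
  by_cases hsk : s < k
  · by_cases htk : t < k
    · rw [if_pos hsk, if_pos htk, hD s hsk t htk]
    · have htk' : t = k := by omega
      subst htk'
      rw [if_pos hsk, if_neg htk, hxs s (by omega)]
  · have hsk' : s = k := by omega
    subst hsk'
    by_cases htk : t < s
    · rw [if_neg hsk, if_pos htk, hxs t (by omega)]
    · have htk' : t = s := by omega
      subst htk'
      rw [if_neg hsk, if_neg htk, hG.diag t hs]

lemma csum_mono {K : ℕ} {y : ℕ → ℤ} {L M' : ℕ → ℕ → ℤ} (hy : ∀ s < K, 0 ≤ y s)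
    (hLM : ∀ s < K, ∀ t < K, L s t ≤ M' s t) (t : ℕ) (ht : t < K) :
    csum K y L t ≤ csum K y M' t := by
  unfold csum
  refine Finset.sum_le_sum (fun s hs => ?_)
  have hs' := Finset.mem_range.mp hs
  exact mul_le_mul_of_nonneg_left (hLM s hs' t ht) (hy s hs')

lemma csum_congr {K : ℕ} {y : ℕ → ℤ} {L M' : ℕ → ℕ → ℤ}
    (hLM : ∀ s < K, ∀ t < K, L s t = M' s t) (t : ℕ) (ht : t < K) :
    csum K y L t = csum K y M' t := by
  unfold csum
  refine Finset.sum_congr rfl (fun s hs => ?_)
  rw [hLM s (Finset.mem_range.mp hs) t ht]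

theorem check_sound (hG : Good (k+1) full M) (hD : ∀ s < k, ∀ t < k, M s t = ent D s t)
    (hadj : ∃ s < k, M s k ≠ 0) :
    ∀ (tr : Tree) (xs : List (ℤ × ℤ)), xs.length ≤ k →
      (∀ i < xs.length, xs.getD i (0,0) = (M i k, M k i)) →
      check full D k targets tr xs = true → Concl (k+1) targets M := by
  intro tr
  induction tr with
  | pos y =>
    intro xs _ hxs hc
    exfalso
    simp only [check, decide_eq_true_eq] at hc
    obtain ⟨h1, h2, h3, h4⟩ := hc
    have hle : ∀ s < k + 1, ∀ t < k + 1, Lm D k xs s t ≤ M s t :=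
      fun s hs t ht => Lm_le hG hD xs hxs s t hs ht
    have hmono := fun t ht => csum_mono (y := yv y) h1 hle t ht
    obtain ⟨hf, hp, hz⟩ := hG.pos (yv y) h1 h2 (fun t ht => le_trans (h3 t ht) (hmono t ht))
    rcases h4 with h4 | ⟨s, hs, h4⟩ | ⟨t, ht, h4⟩
    · rw [hf] at h4; exact Bool.noConfusion h4
    · have := hp s hs; omega
    · have := hmono t ht; have := hz t ht; omega
  | neg y =>
    intro xs _ hxs hc
    exfalso
    simp only [check, decide_eq_true_eq] at hc
    obtain ⟨hlen, hf, h1, t, ht, h2⟩ := hc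
    have heq : ∀ s < k + 1, ∀ t < k + 1, Lm D k xs s t = M s t :=
      fun s hs t ht => Lm_eq hG hD xs hxs hlen s t hs ht
    have hz := hG.neg hf (yv y) (fun t ht => by rw [← csum_congr heq t ht]; exact h1 t ht)
    have := hz t ht
    rw [← csum_congr heq t ht] at this
    omega
  | mat idx τ =>
    intro xs _ hxs hc
    simp only [check, decide_eq_true_eq] at hc
    obtain ⟨hlen, h1, h2, h3, h4, h5⟩ := hc
    have heq : ∀ s < k + 1, ∀ t < k + 1, Lm D k xs s t = M s t :=
      fun s hs t ht => Lm_eq hG hD xs hxs hlen s t hs ht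
    exact ⟨idx, τ, h1, h2, h3, h4, fun s hs t ht => by
      rw [← heq _ (h4 s hs) _ (h4 t ht)]; exact h5 s hs t ht⟩
  | zero =>
    intro xs _ hxs hc
    exfalso
    simp only [check, decide_eq_true_eq] at hc
    obtain ⟨hlen, h1⟩ := hc
    obtain ⟨s, hs, hne⟩ := hadj
    have := hxs s (by omega)
    rw [h1 s hs] at this
    exact hne (Prod.mk.inj this).1.symm
  | node c0 c1 c2 c3 c4 c5 ih0 ih1 ih2 ih3 ih4 ih5 =>
    intro xs _ hxs hc
    simp only [check, Bool.and_eq_true, decide_eq_true_eq] at hc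
    obtain ⟨⟨⟨⟨⟨⟨hlt, h0⟩, h1⟩, h2⟩, h3⟩, h4⟩, h5⟩ := hc
    have hopt := hG.opt xs.length (by omega) k (by omega) (by omega)
    have key : ∀ o : ℤ × ℤ, (M xs.length k, M k xs.length) = o →
        ((xs ++ [o]).length ≤ k ∧
          ∀ i < (xs ++ [o]).length, (xs ++ [o]).getD i (0,0) = (M i k, M k i)) := by
      intro o ho
      refine ⟨by simp; omega, fun i hi => ?_⟩
      simp only [List.length_append, List.length_cons, List.length_nil, zero_add] at hi
      by_cases hil : i < xs.length
      · rw [List.getD_append _ _ _ _ hil]; exact hxs i hil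
      · have : i = xs.length := by omega
        subst this
        rw [List.getD_append_right _ _ _ _ (le_refl _)]
        simp [ho]
    simp only [opts, List.mem_cons, List.not_mem_nil, or_false] at hopt
    rcases hopt with h | h | h | h | h | h
    · exact ih0 _ (key _ h).1 (key _ h).2 h0
    · exact ih1 _ (key _ h).1 (key _ h).2 h1
    · exact ih2 _ (key _ h).1 (key _ h).2 h2
    · exact ih3 _ (key _ h).1 (key _ h).2 h3
    · exact ih4 _ (key _ h).1 (key _ h).2 h4
    · exact ih5 _ (key _ h).1 (key _ h).2 h5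

end Sound

end Groth.Agent.Lib.Helper24.NumTypeEngine
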