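import Mathlib
import Groth.Prelude.Def_Models
import Groth.Agent.Lib.Helper24.NumTypeEngine

/-!
# Numerical types of genus one: glue between `Models.NumericalType` and the search engine

The first part (Cartan integers `c i j = a i j / w i`, `all_minusTwo`) follows helper11's
`Lib/Helper11/NumType*.lean` (copied here so that this library is self-contained).
-/

set_option autoImplicit false

namespace Groth.Agent.Lib.Helper24.NumTypeGlue

open Finset Models
open Groth.Agent.Lib.Helper24.NumTypeEngine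

variable {n : ℕ} (T : Models.NumericalType n)

/-- Cartan integer `a i j / w i`. -/
def c (i j : Fin n) : ℤ := T.a i j / T.w i

lemma a_eq (i j : Fin n) : T.a i j = T.w i * c T i j := by
  unfold c
  exact (Int.mul_ediv_cancel' (T.w_dvd i j)).symm

lemma a_symm (i j : Fin n) : T.a i j = T.a j i := T.symm.apply j i

lemma w_mul_c_symm (i j : Fin n) : T.w i * c T i j = T.w j * c T j i := by
  rw [← a_eq, ← a_eq, a_symm]

lemma c_nonneg {i j : Fin n} (h : i ≠ j) : 0 ≤ c T i j :=
  Int.ediv_nonneg (T.offDiag_nonneg i j h) (T.w_pos i).le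

lemma c_eq_zero_iff (i j : Fin n) : c T i j = 0 ↔ T.a i j = 0 := by
  constructor
  · intro h; rw [a_eq, h, mul_zero]
  · intro h
    have := a_eq T i j
    rw [h] at this
    exact (mul_eq_zero.mp this.symm).resolve_left (T.w_pos i).ne'

lemma one_le_c {i j : Fin n} (h : i ≠ j) (ha : T.a i j ≠ 0) : 1 ≤ c T i j := by
  have h0 := c_nonneg T h
  have h1 : c T i j ≠ 0 := fun h' => ha ((c_eq_zero_iff T i j).mp h')
  omega

lemma c_eq_zero_symm {i j : Fin n} (hc : c T i j = 0) : c T j i = 0 := by
  rw [c_eq_zero_iff] at hc ⊢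
  rw [a_symm]; exact hc

lemma c_diag_of_isMinusTwo {i : Fin n} (h : T.IsMinusTwo i) : c T i i = -2 := by
  unfold c
  rw [h.2]
  exact Int.mul_ediv_cancel _ (T.w_pos i).ne'

lemma sum_c_mul_m (i : Fin n) : ∑ l, c T i l * T.m l = 0 := by
  have h := congrFun T.mulVec_m i
  simp only [Matrix.mulVec, dotProduct, Pi.zero_apply] at h
  have h2 : T.w i * ∑ l, c T i l * T.m l = 0 := by
    rw [Finset.mul_sum, ← h]
    exact Finset.sum_congr rfl (fun l _ => by rw [a_eq T i l]; ring)
  exact (mul_eq_zero.mp h2).resolve_left (T.w_pos i).ne'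

lemma c_diag_neg (hn : 2 ≤ n) (i : Fin n) : c T i i ≤ -1 := by
  classical
  have hne : ({i} : Finset (Fin n)).Nonempty := Finset.singleton_nonempty i
  have hne' : ({i} : Finset (Fin n)) ≠ Finset.univ := by
    intro h
    have := congrArg Finset.card h
    rw [Finset.card_singleton, Finset.card_univ, Fintype.card_fin] at this
    omega
  obtain ⟨i', hi', j, hj, hij⟩ := T.connected _ hne hne'
  obtain rfl := Finset.mem_singleton.mp hi'
  have hji : i' ≠ j := fun h => hj (h ▸ hi')
  have h := sum_c_mul_m T i'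
  rw [← Finset.add_sum_erase _ _ (Finset.mem_univ i')] at h
  have hc : 0 < ∑ l ∈ Finset.univ.erase i', c T i' l * T.m l := by
    refine Finset.sum_pos' (fun l hl => mul_nonneg (c_nonneg T (Finset.ne_of_mem_erase hl).symm)
      (T.m_pos l).le) ⟨j, Finset.mem_erase.mpr ⟨hji.symm, Finset.mem_univ _⟩,
      mul_pos ?_ (T.m_pos j)⟩
    have := one_le_c T hji hij
    omega
  have hm := T.m_pos i'
  by_contra hcon
  have h0 : 0 ≤ c T i' i' := by omega
  have := mul_nonneg h0 hm.le
  linarith

theorem all_minusTwo (hn : 2 ≤ n) (hmin : T.IsMinimal) (hg : T.genus = 1) (i : Fin n) :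
    T.IsMinusTwo i := by
  classical
  have hk : ∀ i, 0 ≤ T.w i * (2 * T.g i - 2) - T.a i i ∧
      (T.w i * (2 * T.g i - 2) - T.a i i = 0 → T.IsMinusTwo i) := by
    intro i
    have hw := T.w_pos i
    have hgi := T.g_nonneg i
    have hc := c_diag_neg T hn i
    have ha := a_eq T i i
    rcases hgi.eq_or_lt with h0 | hpos
    · have hc2 : c T i i ≤ -2 := by
        by_contra hcon
        have h1 : c T i i = -1 := by omega
        exact hmin i ⟨h0.symm, by rw [ha, h1]; ring⟩
      rw [← h0, ha]
      constructor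
      · nlinarith
      · intro h
        have : T.w i * (-2 - c T i i) = 0 := by linarith
        rcases mul_eq_zero.mp this with h' | h'
        · omega
        · exact ⟨h0.symm, by rw [ha]; have : c T i i = -2 := by omega
                             rw [this]; ring⟩
    · have h1 : 1 ≤ T.g i := hpos
      have h2 : 0 < T.w i * (2 * T.g i - 2) - T.a i i := by
        rw [ha]
        nlinarith
      exact ⟨h2.le, fun h => absurd h h2.ne'⟩
  have hsum : ∑ i, T.m i * (T.w i * (2 * T.g i - 2) - T.a i i) ≤ 0 := by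
    unfold Models.NumericalType.genus at hg
    have e : ∑ i, T.m i * (T.w i * (2 * T.g i - 2) - T.a i i)
        = 2 * (∑ i, T.m i * T.w i * (T.g i - 1)) - ∑ i, T.m i * T.a i i := by
      rw [Finset.mul_sum, ← Finset.sum_sub_distrib]
      exact Finset.sum_congr rfl (fun i _ => by ring)
    rw [e]
    omega
  have hzero : ∀ i ∈ Finset.univ, T.m i * (T.w i * (2 * T.g i - 2) - T.a i i) = 0 := by
    have hnn : ∀ i ∈ Finset.univ, 0 ≤ T.m i * (T.w i * (2 * T.g i - 2) - T.a i i) :=
      fun i _ => mul_nonneg (T.m_pos i).le (hk i).1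
    have := Finset.sum_nonneg hnn
    exact (Finset.sum_eq_zero_iff_of_nonneg hnn).mp (le_antisymm hsum this)
  have := hzero i (Finset.mem_univ i)
  rcases mul_eq_zero.mp this with h | h
  · exact absurd h (T.m_pos i).ne'
  · exact (hk i).2 h

/-! ### The basic identity and its consequences -/

lemma sum_col_mul_m (Y : Fin n → ℤ) : ∑ j, (∑ i, Y i * c T i j) * T.m j = 0 := by
  simp_rw [Finset.sum_mul]
  rw [Finset.sum_comm]
  refine Finset.sum_eq_zero (fun i _ => ?_)
  have := sum_c_mul_m T i
  calc ∑ j, Y i * c T i j * T.m j = Y i * ∑ j, c T i j * T.m j := by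
        rw [Finset.mul_sum]; exact Finset.sum_congr rfl (fun j _ => by ring)
    _ = 0 := by rw [this, mul_zero]

lemma core_neg (Y : Fin n → ℤ) (h : ∀ j, ∑ i, Y i * c T i j ≤ 0) (j : Fin n) :
    ∑ i, Y i * c T i j = 0 := by
  have h0 := sum_col_mul_m T Y
  have hnp : ∀ j ∈ (Finset.univ : Finset (Fin n)), (∑ i, Y i * c T i j) * T.m j ≤ 0 :=
    fun j _ => mul_nonpos_of_nonpos_of_nonneg (h j) (T.m_pos j).le
  have := (Finset.sum_eq_zero_iff_of_nonpos hnp).mp h0 j (Finset.mem_univ j)
  exact (mul_eq_zero.mp this).resolve_right (T.m_pos j).ne'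

lemma core_pos (Y : Fin n → ℤ) (hY : ∀ i, 0 ≤ Y i) (hne : ∃ i, Y i ≠ 0)
    (h : ∀ j, 0 ≤ ∑ i, Y i * c T i j) :
    (∀ i, 0 < Y i) ∧ ∀ j, ∑ i, Y i * c T i j = 0 := by
  classical
  have h0 := sum_col_mul_m T Y
  have hnn : ∀ j ∈ (Finset.univ : Finset (Fin n)), 0 ≤ (∑ i, Y i * c T i j) * T.m j :=
    fun j _ => mul_nonneg (h j) (T.m_pos j).le
  have hz : ∀ j, ∑ i, Y i * c T i j = 0 := fun j =>
    (mul_eq_zero.mp ((Finset.sum_eq_zero_iff_of_nonneg hnn).mp h0 j (Finset.mem_univ j))).resolve_right
      (T.m_pos j).ne'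
  refine ⟨?_, hz⟩
  by_contra hcon
  push Not at hcon
  obtain ⟨i₁, hi₁⟩ := hcon
  obtain ⟨i₀, hi₀⟩ := hne
  set I : Finset (Fin n) := Finset.univ.filter (fun i => Y i ≠ 0) with hI
  have hIne : I.Nonempty := ⟨i₀, by simp [hI, hi₀]⟩
  have hIuniv : I ≠ Finset.univ := by
    intro hh
    have : i₁ ∈ I := hh ▸ Finset.mem_univ _
    simp only [hI, Finset.mem_filter, Finset.mem_univ, true_and] at this
    exact this (le_antisymm hi₁ (hY i₁))
  obtain ⟨i, hi, j, hj, hij⟩ := T.connected I hIne hIuniv
  simp only [hI, Finset.mem_filter, Finset.mem_univ, true_and] at hi hj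
  push Not at hj
  have hijne : i ≠ j := fun hh => hi (hh ▸ hj)
  have hterm : ∀ i' ∈ (Finset.univ : Finset (Fin n)), 0 ≤ Y i' * c T i' j := by
    intro i' _
    by_cases hh : i' = j
    · rw [hh, hj, zero_mul]
    · exact mul_nonneg (hY i') (c_nonneg T hh)
  have hle := Finset.single_le_sum hterm (Finset.mem_univ i)
  rw [hz j] at hle
  have h1 := one_le_c T hijne hij
  have h2 : 0 < Y i := lt_of_le_of_ne (hY i) (Ne.symm hi)
  have := mul_pos h2 (lt_of_lt_of_le one_pos h1)
  omega

/-- possible values of a pair of Cartan integers when there are at least three indices -/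
lemma pair_mem_opts (hn3 : 3 ≤ n) (hm2 : ∀ i, T.IsMinusTwo i) {i j : Fin n} (hij : i ≠ j) :
    (c T i j, c T j i) ∈ opts := by
  classical
  have hp := c_nonneg T hij
  have hq := c_nonneg T (Ne.symm hij)
  by_cases hp0 : c T i j = 0
  · have hq0 := c_eq_zero_symm T hp0
    rw [hp0, hq0]; simp [opts]
  have hq0 : c T j i ≠ 0 := fun h => hp0 (c_eq_zero_symm T h)
  have hpq : c T i j * c T j i ≤ 3 := by
    by_contra hcon
    push Not at hcon
    -- Y = q at i, 2 at j
    set Y : Fin n → ℤ := fun l => if l = i then c T j i else if l = j then 2 else 0 with hY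
    have hYnn : ∀ l, 0 ≤ Y l := by
      intro l; simp only [hY]; split_ifs <;> omega
    have hYi : Y i = c T j i := by simp [hY]
    have hYj : Y j = 2 := by simp [hY, Ne.symm hij]
    have hcol : ∀ t, ∑ l, Y l * c T l t = c T j i * c T i t + 2 * c T j t := by
      intro t
      rw [Finset.sum_eq_add_of_mem i j (Finset.mem_univ _) (Finset.mem_univ _) hij]
      · rw [hYi, hYj]
      · intro l _ hl
        simp only [hY, if_neg hl.1, if_neg hl.2, zero_mul]
    have hall : ∀ t, 0 ≤ ∑ l, Y l * c T l t := by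
      intro t
      rw [hcol]
      by_cases hti : t = i
      · subst hti; rw [c_diag_of_isMinusTwo T (hm2 _)]; omega
      · by_cases htj : t = j
        · subst htj; rw [c_diag_of_isMinusTwo T (hm2 _)]; nlinarith
        · have h1 := c_nonneg T (Ne.symm hti)
          have h2 := c_nonneg T (Ne.symm htj)
          positivity
    obtain ⟨hpos, -⟩ := core_pos T Y hYnn ⟨j, by rw [hYj]; norm_num⟩ hall
    -- a third index
    have hcard : ({i, j} : Finset (Fin n)).card < (Finset.univ : Finset (Fin n)).card := by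
      rw [Finset.card_univ, Fintype.card_fin]
      calc ({i, j} : Finset (Fin n)).card ≤ 2 := Finset.card_le_two
        _ < n := by omega
    obtain ⟨l, -, hl⟩ := Finset.exists_mem_notMem_of_card_lt_card hcard
    simp only [Finset.mem_insert, Finset.mem_singleton, not_or] at hl
    have := hpos l
    simp only [hY, if_neg hl.1, if_neg hl.2] at this
    exact lt_irrefl _ this
  have hp1 : 1 ≤ c T i j := by omega
  have hq1 : 1 ≤ c T j i := by omega
  have hp3 : c T i j ≤ 3 := by nlinarith
  have hq3 : c T j i ≤ 3 := by nlinarith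
  generalize c T i j = p at *
  generalize c T j i = q at *
  interval_cases p <;> interval_cases q <;> simp_all [opts]


/-! ### Configurations -/

section Cfg

variable {K : ℕ}

/-- extension by zero of a vector on a configuration -/
def ext (v : Fin K → Fin n) (y : Fin K → ℤ) (i : Fin n) : ℤ := ∑ s, if v s = i then y s else 0

lemma ext_apply {v : Fin K → Fin n} (hv : Function.Injective v) (y : Fin K → ℤ) (s : Fin K) :
    ext v y (v s) = y s := by
  unfold ext
  rw [Finset.sum_eq_single s]
  · simp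
  · intro s' _ hs'
    rw [if_neg (fun h => hs' (hv h))]
  · intro h; exact absurd (Finset.mem_univ s) h

lemma ext_of_notMem {v : Fin K → Fin n} (y : Fin K → ℤ) {i : Fin n} (h : ∀ s, v s ≠ i) :
    ext v y i = 0 := by
  unfold ext
  exact Finset.sum_eq_zero (fun s _ => if_neg (h s))

lemma ext_nonneg {v : Fin K → Fin n} {y : Fin K → ℤ} (hy : ∀ s, 0 ≤ y s) (i : Fin n) :
    0 ≤ ext v y i := by
  unfold ext
  exact Finset.sum_nonneg (fun s _ => by split_ifs; exacts [hy s, le_refl _])

lemma sum_ext_mul (v : Fin K → Fin n) (y : Fin K → ℤ) (f : Fin n → ℤ) :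
    ∑ i, ext v y i * f i = ∑ s, y s * f (v s) := by
  unfold ext
  simp_rw [Finset.sum_mul]
  rw [Finset.sum_comm]
  refine Finset.sum_congr rfl (fun s _ => ?_)
  simp_rw [ite_mul, zero_mul]
  rw [Finset.sum_ite_eq]
  simp

lemma cfg_pos {v : Fin K → Fin n} (hv : Function.Injective v) (y : Fin K → ℤ)
    (hy : ∀ s, 0 ≤ y s) (hne : ∃ s, y s ≠ 0)
    (h : ∀ t, 0 ≤ ∑ s, y s * c T (v s) (v t)) :
    K = n ∧ (∀ s, 0 < y s) ∧ ∀ t, ∑ s, y s * c T (v s) (v t) = 0 := by
  have hcol : ∀ j, ∑ i, ext v y i * c T i j = ∑ s, y s * c T (v s) j :=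
    fun j => sum_ext_mul v y (fun i => c T i j)
  have hall : ∀ j, 0 ≤ ∑ i, ext v y i * c T i j := by
    intro j
    rw [hcol]
    by_cases hj : ∃ t, v t = j
    · obtain ⟨t, rfl⟩ := hj
      exact h t
    · push Not at hj
      exact Finset.sum_nonneg (fun s _ => mul_nonneg (hy s) (c_nonneg T (hj s)))
  obtain ⟨s₀, hs₀⟩ := hne
  obtain ⟨hpos, hz⟩ := core_pos T (ext v y) (ext_nonneg hy) ⟨v s₀, by rw [ext_apply hv]; exact hs₀⟩ hall
  have hsurj : Function.Surjective v := by
    intro i
    by_contra hcon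
    push Not at hcon
    have := hpos i
    rw [ext_of_notMem y hcon] at this
    exact lt_irrefl _ this
  refine ⟨?_, fun s => ?_, fun t => ?_⟩
  · have := Fintype.card_of_bijective ⟨hv, hsurj⟩
    simpa using this
  · have := hpos (v s); rwa [ext_apply hv] at this
  · rw [← hcol]; exact hz _

lemma cfg_neg {v : Fin K → Fin n} (hv : Function.Injective v) (hK : K = n) (y : Fin K → ℤ)
    (h : ∀ t, ∑ s, y s * c T (v s) (v t) ≤ 0) (t : Fin K) :
    ∑ s, y s * c T (v s) (v t) = 0 := by
  have hcol : ∀ j, ∑ i, ext v y i * c T i j = ∑ s, y s * c T (v s) j :=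
    fun j => sum_ext_mul v y (fun i => c T i j)
  have hbij : Function.Bijective v :=
    (Fintype.bijective_iff_injective_and_card v).mpr ⟨hv, by simp [hK]⟩
  have hall : ∀ j, ∑ i, ext v y i * c T i j ≤ 0 := by
    intro j
    obtain ⟨t, rfl⟩ := hbij.2 j
    rw [hcol]; exact h t
  rw [← hcol]
  exact core_neg T _ hall _

/-- the matrix of a configuration, indexed by `ℕ` -/
def Mof (v : Fin K → Fin n) (s t : ℕ) : ℤ :=
  if h : s < K ∧ t < K then c T (v ⟨s, h.1⟩) (v ⟨t, h.2⟩) else 0

lemma Mof_apply (v : Fin K → Fin n) (s t : Fin K) : Mof T v s t = c T (v s) (v t) := by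
  unfold Mof
  rw [dif_pos ⟨s.2, t.2⟩]

lemma csum_Mof (v : Fin K → Fin n) (y : ℕ → ℤ) (t : Fin K) :
    csum K y (Mof T v) t = ∑ s : Fin K, y s * c T (v s) (v t) := by
  unfold csum
  rw [Finset.sum_range (fun s => y s * Mof T v s t)]
  exact Finset.sum_congr rfl (fun s _ => by rw [Mof_apply])

theorem good_Mof (hn3 : 3 ≤ n) (hm2 : ∀ i, T.IsMinusTwo i) {v : Fin K → Fin n}
    (hv : Function.Injective v) (full : Bool) (hfull : full = true ↔ K = n) :
    Good K full (Mof T v) where
  diag := fun s hs => by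
    have := Mof_apply T v ⟨s, hs⟩ ⟨s, hs⟩
    simp only at this
    rw [this, c_diag_of_isMinusTwo T (hm2 _)]
  opt := fun s hs t ht hst => by
    have h1 := Mof_apply T v ⟨s, hs⟩ ⟨t, ht⟩
    have h2 := Mof_apply T v ⟨t, ht⟩ ⟨s, hs⟩
    simp only at h1 h2
    rw [h1, h2]
    refine pair_mem_opts T hn3 hm2 (fun h => hst ?_)
    have := hv h
    exact Fin.mk.inj_iff.mp this
  pos := fun y hy hne hcs => by
    obtain ⟨s₀, hs₀, hne₀⟩ := hne
    obtain ⟨h1, h2, h3⟩ := cfg_pos T hv (fun s : Fin K => y s) (fun s => hy s s.2)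
      ⟨⟨s₀, hs₀⟩, hne₀⟩ (fun t => by rw [← csum_Mof]; exact hcs t t.2)
    refine ⟨hfull.mpr h1, fun s hs => h2 ⟨s, hs⟩, fun t ht => ?_⟩
    have := h3 ⟨t, ht⟩
    rw [← csum_Mof] at this
    exact this
  neg := fun hf y hcs t ht => by
    have := cfg_neg T hv (hfull.mp hf) (fun s : Fin K => y s)
      (fun t => by rw [← csum_Mof]; exact hcs t t.2) ⟨t, ht⟩
    rw [← csum_Mof] at this
    exact this

end Cfg


/-! ### The dual graph, connected configurations and the induction step -/

/-- the dual graph of a numerical type -/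
def G : SimpleGraph (Fin n) where
  Adj i j := i ≠ j ∧ T.a i j ≠ 0
  symm := ⟨fun i j h => ⟨h.1.symm, by rw [a_symm]; exact h.2⟩⟩
  loopless := ⟨fun i h => h.1 rfl⟩

lemma G_adj (i j : Fin n) : (G T).Adj i j ↔ i ≠ j ∧ T.a i j ≠ 0 := Iff.rfl

lemma G_connected : (G T).Connected := by
  classical
  haveI : NeZero n := ⟨T.pos.ne'⟩
  rw [SimpleGraph.connected_iff_exists_forall_reachable]
  refine ⟨0, fun j => ?_⟩
  by_contra hcon
  set I : Finset (Fin n) := Finset.univ.filter (fun i => (G T).Reachable 0 i) with hI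
  have hIne : I.Nonempty := ⟨0, by simp [hI]⟩
  have hIuniv : I ≠ Finset.univ := by
    intro hh
    have : j ∈ I := hh ▸ Finset.mem_univ _
    simp only [hI, Finset.mem_filter, Finset.mem_univ, true_and] at this
    exact hcon this
  obtain ⟨i, hi, j', hj', hij⟩ := T.connected I hIne hIuniv
  simp only [hI, Finset.mem_filter, Finset.mem_univ, true_and] at hi hj'
  have hne : i ≠ j' := fun hh => hj' (hh ▸ hi)
  exact hj' (hi.trans (SimpleGraph.Adj.reachable ⟨hne, hij⟩))

section Claim

variable {K : ℕ}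

/-- a configuration is connected -/
def Conn (v : Fin K ↪ Fin n) : Prop := ((G T).comap v).Connected

/-- a configuration matches one of the target tables after reparametrisation -/
def CMatch (targets : List (List (List ℤ))) (v : Fin K ↪ Fin n) : Prop :=
  ∃ idx < targets.length, ∃ u : Fin K ↪ Fin n, Set.range u = Set.range v ∧
    ∀ s t : Fin K, c T (u s) (u t) = ent (targets.getD idx []) s t

def Claim (K : ℕ) (targets : List (List (List ℤ))) : Prop :=
  ∀ v : Fin K ↪ Fin n, Conn T v → CMatch T targets v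

theorem claim_one (hm2 : ∀ i, T.IsMinusTwo i) : Claim T 1 [[[-2]]] := by
  intro v _
  refine ⟨0, by simp, v, rfl, fun s t => ?_⟩
  have hs : s = 0 := Subsingleton.elim _ _
  have ht : t = 0 := Subsingleton.elim _ _
  subst hs ht
  rw [c_diag_of_isMinusTwo T (hm2 _)]
  rfl

end Claim

theorem step (hn3 : 3 ≤ n) (hm2 : ∀ i, T.IsMinusTwo i) (k : ℕ) (hk : 1 ≤ k) (full : Bool)
    (hfull : full = true ↔ k + 1 = n)
    (Fk Fk1 : List (List (List ℤ))) (trees : List Tree)
    (hcheck : ∀ idx < Fk.length,
      check full (Fk.getD idx []) k Fk1 (trees.getD idx Tree.zero) [] = true)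
    (hClaim : Claim T k Fk) : Claim T (k + 1) Fk1 := by
  classical
  intro v hconn
  haveI : Nontrivial (Fin (k + 1)) := Fin.nontrivial_iff_two_le.mpr (by omega)
  -- a vertex whose removal keeps the configuration connected
  obtain ⟨x, hx⟩ := hconn.exists_connected_induce_compl_singleton_of_finite_nontrivial
  let v' : Fin k ↪ Fin n :=
    ⟨fun s => v (x.succAbove s), v.injective.comp Fin.succAbove_right_injective⟩
  have hconn' : Conn T v' := by
    unfold Conn
    let e : (((G T).comap v).induce ({x}ᶜ : Set (Fin (k + 1)))) ≃g ((G T).comap v') :=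
      { toEquiv := ((finSuccAboveEquiv x).trans (Equiv.subtypeEquivRight (by simp))).symm
        map_rel_iff' := by
          intro a b
          obtain ⟨a', ha'⟩ : ∃ a', a = (finSuccAboveEquiv x).trans
              (Equiv.subtypeEquivRight (by simp)) a' := ⟨_, (Equiv.apply_symm_apply _ a).symm⟩
          obtain ⟨b', hb'⟩ : ∃ b', b = (finSuccAboveEquiv x).trans
              (Equiv.subtypeEquivRight (by simp)) b' := ⟨_, (Equiv.apply_symm_apply _ b).symm⟩
          subst ha' hb'
          simp only [Equiv.symm_apply_apply]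
          rfl }
    exact e.connected_iff.mp hx
  obtain ⟨idx, hidx, u', hru', hmatch'⟩ := hClaim v' hconn'
  -- the removed vertex is not in the range of `u'`
  have hxnot : v x ∉ Set.range u' := by
    rw [hru']
    rintro ⟨s, hs⟩
    exact Fin.succAbove_ne x s (v.injective hs)
  let v'' : Fin (k + 1) → Fin n := Fin.snoc (α := fun _ => Fin n) u' (v x)
  have hv''inj : Function.Injective v'' := Fin.snoc_injective_of_injective u'.injective hxnot
  have hv''cast : ∀ s : Fin k, v'' s.castSucc = u' s := fun s => by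
    simp only [v'', Fin.snoc_castSucc]
  have hv''last : v'' (Fin.last k) = v x := by simp only [v'', Fin.snoc_last]
  have hrange'' : Set.range v'' = Set.range v := by
    ext i
    constructor
    · rintro ⟨s, rfl⟩
      induction s using Fin.lastCases with
      | last => rw [hv''last]; exact ⟨x, rfl⟩
      | cast s =>
        rw [hv''cast]
        have : u' s ∈ Set.range u' := ⟨s, rfl⟩
        rw [hru'] at this
        obtain ⟨s', hs'⟩ := this
        exact ⟨x.succAbove s', hs'⟩
    · rintro ⟨s, rfl⟩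
      by_cases hsx : s = x
      · subst hsx; exact ⟨Fin.last k, hv''last⟩
      · obtain ⟨s', rfl⟩ := Fin.exists_succAbove_eq hsx
        have : v' s' ∈ Set.range u' := by rw [hru']; exact ⟨s', rfl⟩
        obtain ⟨s'', hs''⟩ := this
        exact ⟨s''.castSucc, by rw [hv''cast, hs'']; rfl⟩
  -- apply the engine
  have hG := good_Mof T hn3 hm2 hv''inj full hfull
  have hD : ∀ s < k, ∀ t < k, Mof T v'' s t = ent (Fk.getD idx []) s t := by
    intro s hs t ht
    have := Mof_apply T v'' (Fin.castSucc ⟨s, hs⟩) (Fin.castSucc ⟨t, ht⟩)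
    simp only [Fin.val_castSucc] at this
    rw [this, hv''cast, hv''cast, hmatch']
  have hadj : ∃ s < k, Mof T v'' s k ≠ 0 := by
    obtain ⟨y, hy⟩ := hconn.preconnected.exists_adj_of_nontrivial x
    have hy' : (G T).Adj (v x) (v y) := hy
    have hyx : y ≠ x := fun h => hy'.1 (by rw [h])
    obtain ⟨s', rfl⟩ := Fin.exists_succAbove_eq hyx
    have : v' s' ∈ Set.range u' := by rw [hru']; exact ⟨s', rfl⟩
    obtain ⟨s'', hs''⟩ := this
    refine ⟨s'', s''.2, ?_⟩
    have := Mof_apply T v'' s''.castSucc (Fin.last k)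
    simp only [Fin.val_castSucc, Fin.val_last] at this
    rw [this, hv''cast, hv''last, hs'']
    intro h0
    rw [c_eq_zero_iff, a_symm] at h0
    exact hy'.2 h0
  obtain ⟨idx', τ, hidx', hlen, hnodup, hlt, hmat⟩ :=
    check_sound hG hD hadj (trees.getD idx Tree.zero) [] (Nat.zero_le _)
      (fun i hi => absurd hi (Nat.not_lt_zero _)) (hcheck idx hidx)
  -- the reparametrisation
  let ρ : Fin (k + 1) → Fin (k + 1) := fun s => ⟨tv τ s, hlt s s.2⟩
  have hρinj : Function.Injective ρ := by
    intro s t hst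
    have h1 : tv τ s = tv τ t := congrArg Fin.val hst
    unfold tv at h1
    rw [List.getD_eq_getElem _ _ (by rw [hlen]; exact s.2),
      List.getD_eq_getElem _ _ (by rw [hlen]; exact t.2)] at h1
    exact Fin.ext ((hnodup.getElem_inj_iff).mp h1)
  have hρsurj : Function.Surjective ρ := Finite.injective_iff_surjective.mp hρinj
  refine ⟨idx', hidx', ⟨fun s => v'' (ρ s), hv''inj.comp hρinj⟩, ?_, fun s t => ?_⟩
  · rw [← hrange'']
    ext i
    constructor
    · rintro ⟨s, rfl⟩; exact ⟨ρ s, rfl⟩
    · rintro ⟨s, rfl⟩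
      obtain ⟨s', rfl⟩ := hρsurj s
      exact ⟨s', rfl⟩
  · have := hmat s s.2 t t.2
    rw [← this]
    exact (Mof_apply T v'' (ρ s) (ρ t)).symm


/-! ### Multiplicities and weights from the Cartan matrix -/

lemma ker_zero (z : Fin n → ℤ) (hz : ∀ i, ∑ l, c T i l * z l = 0) (j : Fin n) (hj : z j = 0)
    (l : Fin n) : z l = 0 := by
  classical
  haveI : Nonempty (Fin n) := ⟨j⟩
  obtain ⟨i₀, -, hi₀⟩ := Finset.exists_min_image (Finset.univ : Finset (Fin n))
    (fun i => (z i : ℚ) / (T.m i : ℚ)) Finset.univ_nonempty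
  have hmin : ∀ l, z i₀ * T.m l ≤ z l * T.m i₀ := by
    intro l
    have h := hi₀ l (Finset.mem_univ l)
    have h1 : (0 : ℚ) < T.m i₀ := by exact_mod_cast T.m_pos i₀
    have h2 : (0 : ℚ) < T.m l := by exact_mod_cast T.m_pos l
    rw [div_le_div_iff₀ h1 h2] at h
    exact_mod_cast h
  set z' : Fin n → ℤ := fun l => T.m i₀ * z l - z i₀ * T.m l with hz'
  have hz'nn : ∀ l, 0 ≤ z' l := by
    intro l
    have := hmin l
    simp only [hz']
    linarith
  have hz'0 : z' i₀ = 0 := by simp only [hz']; ring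
  have hz'ker : ∀ i, ∑ l, c T i l * z' l = 0 := by
    intro i
    have h1 := hz i
    have h2 := sum_c_mul_m T i
    calc ∑ l, c T i l * z' l
        = T.m i₀ * ∑ l, c T i l * z l - z i₀ * ∑ l, c T i l * T.m l := by
          rw [Finset.mul_sum, Finset.mul_sum, ← Finset.sum_sub_distrib]
          exact Finset.sum_congr rfl (fun l _ => by simp only [hz']; ring)
      _ = 0 := by rw [h1, h2]; ring
  set Y : Fin n → ℤ := fun l => T.w l * z' l with hY
  have hYnn : ∀ l, 0 ≤ Y l := fun l => mul_nonneg (T.w_pos l).le (hz'nn l)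
  have hcol : ∀ t, ∑ l, Y l * c T l t = 0 := by
    intro t
    calc ∑ l, Y l * c T l t = T.w t * ∑ l, c T t l * z' l := by
          rw [Finset.mul_sum]
          refine Finset.sum_congr rfl (fun l _ => ?_)
          simp only [hY]
          have := w_mul_c_symm T l t
          calc T.w l * z' l * c T l t = z' l * (T.w l * c T l t) := by ring
            _ = z' l * (T.w t * c T t l) := by rw [this]
            _ = T.w t * (c T t l * z' l) := by ring
      _ = 0 := by rw [hz'ker, mul_zero]
  have hYall : ∀ l, Y l = 0 := by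
    by_contra hcon
    push Not at hcon
    obtain ⟨hpos, -⟩ := core_pos T Y hYnn hcon (fun t => by rw [hcol])
    have := hpos i₀
    simp only [hY, hz'0, mul_zero] at this
    exact lt_irrefl _ this
  have hz'all : ∀ l, z' l = 0 := fun l =>
    (mul_eq_zero.mp (hYall l)).resolve_left (T.w_pos l).ne'
  have h1 := hz'all j
  simp only [hz', hj, mul_zero, zero_sub, neg_eq_zero] at h1
  have hzi₀ : z i₀ = 0 := (mul_eq_zero.mp h1).resolve_right (T.m_pos j).ne'
  have h2 := hz'all l
  simp only [hz', hzi₀, zero_mul, sub_zero] at h2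
  exact (mul_eq_zero.mp h2).resolve_left (T.m_pos i₀).ne'

lemma ker_prop (u : Fin n → ℤ) (hu : ∀ i, ∑ l, c T i l * u l = 0) (i j : Fin n) :
    u i * T.m j = u j * T.m i := by
  have hker : ∀ i', ∑ l, c T i' l * (T.m j * u l - u j * T.m l) = 0 := by
    intro i'
    have h1 := hu i'
    have h2 := sum_c_mul_m T i'
    calc ∑ l, c T i' l * (T.m j * u l - u j * T.m l)
        = T.m j * ∑ l, c T i' l * u l - u j * ∑ l, c T i' l * T.m l := by
          rw [Finset.mul_sum, Finset.mul_sum, ← Finset.sum_sub_distrib]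
          exact Finset.sum_congr rfl (fun l _ => by ring)
      _ = 0 := by rw [h1, h2]; ring
  have := ker_zero T (fun l => T.m j * u l - u j * T.m l) hker j (by ring) i
  linarith

lemma w_prop (g : Fin n → ℤ) (hg : ∀ i j, g i * c T i j = g j * c T j i) (i j : Fin n) :
    T.w i * g j = T.w j * g i := by
  classical
  set I : Finset (Fin n) := Finset.univ.filter (fun l => T.w l * g j = T.w j * g l) with hI
  have hIne : I.Nonempty := ⟨j, by simp [hI]⟩
  by_contra hcon
  have hIuniv : I ≠ Finset.univ := by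
    intro hh
    have : i ∈ I := hh ▸ Finset.mem_univ _
    simp only [hI, Finset.mem_filter, Finset.mem_univ, true_and] at this
    exact hcon this
  obtain ⟨i', hi', j', hj', hij⟩ := T.connected I hIne hIuniv
  simp only [hI, Finset.mem_filter, Finset.mem_univ, true_and] at hi' hj'
  apply hj'
  have hc : c T i' j' ≠ 0 := fun h => hij ((c_eq_zero_iff T i' j').mp h)
  have h1 := w_mul_c_symm T i' j'
  have h2 := hg i' j'
  have h3 : T.w i' * g j' = T.w j' * g i' := by
    have : c T i' j' * (T.w i' * g j') = c T i' j' * (T.w j' * g i') := by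
      calc c T i' j' * (T.w i' * g j') = (T.w i' * c T i' j') * g j' := by ring
        _ = (T.w j' * c T j' i') * g j' := by rw [h1]
        _ = T.w j' * (g j' * c T j' i') := by ring
        _ = T.w j' * (g i' * c T i' j') := by rw [h2]
        _ = c T i' j' * (T.w j' * g i') := by ring
    exact mul_left_cancel₀ hc this
  have hw : T.w i' ≠ 0 := (T.w_pos i').ne'
  have : T.w i' * (T.w j' * g j) = T.w i' * (T.w j * g j') := by
    calc T.w i' * (T.w j' * g j) = T.w j' * (T.w i' * g j) := by ring
      _ = T.w j' * (T.w j * g i') := by rw [hi']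
      _ = T.w j * (T.w j' * g i') := by ring
      _ = T.w j * (T.w i' * g j') := by rw [h3]
      _ = T.w i' * (T.w j * g j') := by ring
  exact mul_left_cancel₀ hw this

theorem final (σ : Equiv.Perm (Fin n)) (cv dv : Fin n → ℤ) (Dm : Fin n → Fin n → ℤ)
    (hmatch : ∀ s t, c T (σ s) (σ t) = Dm s t)
    (hker : ∀ s, ∑ t, Dm s t * cv t = 0) (hsym : ∀ s t, dv s * Dm s t = dv t * Dm t s)
    (i0 j0 : Fin n) (hc : cv i0 = 1) (hd : dv j0 = 1) :
    (∀ i, T.m (σ i) = cv i * T.m (σ i0)) ∧ (∀ i, T.w (σ i) = dv i * T.w (σ j0)) ∧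
      ∀ i j, T.a (σ i) (σ j) = dv i * Dm i j * T.w (σ j0) := by
  have hu : ∀ i, ∑ l, c T i l * cv (σ.symm l) = 0 := by
    intro i
    rw [← Equiv.sum_comp σ (fun l => c T i l * cv (σ.symm l))]
    simp only [Equiv.symm_apply_apply]
    have := hker (σ.symm i)
    rw [← this]
    refine Finset.sum_congr rfl (fun t _ => ?_)
    rw [← hmatch, Equiv.apply_symm_apply]
  have hg : ∀ i j, dv (σ.symm i) * c T i j = dv (σ.symm j) * c T j i := by
    intro i j
    have := hsym (σ.symm i) (σ.symm j)
    rw [← hmatch, ← hmatch, Equiv.apply_symm_apply, Equiv.apply_symm_apply] at this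
    exact this
  have hW : ∀ i, T.w (σ i) = dv i * T.w (σ j0) := by
    intro i
    have := w_prop T (fun l => dv (σ.symm l)) hg (σ i) (σ j0)
    simp only [Equiv.symm_apply_apply, hd, mul_one] at this
    rw [this]; ring
  refine ⟨fun i => ?_, hW, fun i j => ?_⟩
  · have := ker_prop T (fun l => cv (σ.symm l)) hu (σ i) (σ i0)
    simp only [Equiv.symm_apply_apply, hc, one_mul] at this
    exact this.symm
  · rw [a_eq, hmatch, hW]; ring

theorem top (targets : List (List (List ℤ))) (hClaim : Claim T n targets) :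
    ∃ idx < targets.length, ∃ σ : Equiv.Perm (Fin n),
      ∀ s t : Fin n, c T (σ s) (σ t) = ent (targets.getD idx []) s t := by
  have hconn : Conn T (Function.Embedding.refl (Fin n)) := by
    unfold Conn
    have : ((G T).comap (Function.Embedding.refl (Fin n))) = G T := SimpleGraph.comap_id
    rw [this]
    exact G_connected T
  obtain ⟨idx, hidx, u, -, hu⟩ := hClaim _ hconn
  exact ⟨idx, hidx, Equiv.ofBijective u (Function.Injective.bijective_of_finite u.injective), hu⟩

end Groth.Agent.Lib.Helper24.NumTypeGlue
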