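import Mathlib
import Groth.Prelude.Def_Models
import Groth.Agent.Lib.Helper24.NumTypeEngine
import Groth.Agent.Lib.Helper24.NumTypeGlue

/-!
# Data for the genus-one classification: finite-type tables, certificate trees, and the
resulting classification of connected proper sub-configurations (generated by a script).
-/

set_option autoImplicit false

namespace Groth.Agent.Lib.Helper24.NumTypeData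

open Models
open Groth.Agent.Lib.Helper24.NumTypeEngine Groth.Agent.Lib.Helper24.NumTypeGlue


def F1 : List (List (List ℤ)) := [[[-2]]]

def F2 : List (List (List ℤ)) := [[[-2, 1], [1, -2]], [[-2, 1], [2, -2]], [[-2, 1], [3, -2]]]

def F3 : List (List (List ℤ)) := [[[-2, 1, 0], [1, -2, 1], [0, 1, -2]], [[-2, 1, 0], [1, -2, 1], [0, 2, -2]], [[-2, 1, 0], [1, -2, 2], [0, 1, -2]]]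

def F4 : List (List (List ℤ)) := [[[-2, 1, 0, 0], [1, -2, 1, 0], [0, 1, -2, 1], [0, 0, 1, -2]], [[-2, 1, 0, 0], [1, -2, 1, 0], [0, 1, -2, 1], [0, 0, 2, -2]], [[-2, 1, 0, 0], [1, -2, 1, 0], [0, 1, -2, 2], [0, 0, 1, -2]], [[-2, 1, 0, 0], [1, -2, 1, 1], [0, 1, -2, 0], [0, 1, 0, -2]], [[-2, 1, 0, 0], [1, -2, 1, 0], [0, 2, -2, 1], [0, 0, 1, -2]]]

def F5 : List (List (List ℤ)) := [[[-2, 1, 0, 0, 0], [1, -2, 1, 0, 0], [0, 1, -2, 1, 0], [0, 0, 1, -2, 1], [0, 0, 0, 1, -2]], [[-2, 1, 0, 0, 0], [1, -2, 1, 0, 0], [0, 1, -2, 1, 0], [0, 0, 1, -2, 1], [0, 0, 0, 2, -2]], [[-2, 1, 0, 0, 0], [1, -2, 1, 0, 0], [0, 1, -2, 1, 0], [0, 0, 1, -2, 2], [0, 0, 0, 1, -2]], [[-2, 1, 0, 0, 0], [1, -2, 1, 0, 0], [0, 1, -2, 1, 1], [0, 0, 1, -2, 0], [0, 0, 1, 0, -2]]]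

def F6 : List (List (List ℤ)) := [[[-2, 1, 0, 0, 0, 0], [1, -2, 1, 0, 0, 0], [0, 1, -2, 1, 0, 0], [0, 0, 1, -2, 1, 0], [0, 0, 0, 1, -2, 1], [0, 0, 0, 0, 1, -2]], [[-2, 1, 0, 0, 0, 0], [1, -2, 1, 0, 0, 0], [0, 1, -2, 1, 0, 0], [0, 0, 1, -2, 1, 0], [0, 0, 0, 1, -2, 1], [0, 0, 0, 0, 2, -2]], [[-2, 1, 0, 0, 0, 0], [1, -2, 1, 0, 0, 0], [0, 1, -2, 1, 0, 0], [0, 0, 1, -2, 1, 0], [0, 0, 0, 1, -2, 2], [0, 0, 0, 0, 1, -2]], [[-2, 1, 0, 0, 0, 0], [1, -2, 1, 0, 0, 0], [0, 1, -2, 1, 0, 0], [0, 0, 1, -2, 1, 1], [0, 0, 0, 1, -2, 0], [0, 0, 0, 1, 0, -2]], [[-2, 1, 0, 0, 0, 0], [1, -2, 1, 0, 0, 0], [0, 1, -2, 1, 0, 1], [0, 0, 1, -2, 1, 0], [0, 0, 0, 1, -2, 0], [0, 0, 1, 0, 0, -2]]]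

def F7 : List (List (List ℤ)) := [[[-2, 1, 0, 0, 0, 0, 0], [1, -2, 1, 0, 0, 0, 0], [0, 1, -2, 1, 0, 0, 0], [0, 0, 1, -2, 1, 0, 0], [0, 0, 0, 1, -2, 1, 0], [0, 0, 0, 0, 1, -2, 1], [0, 0, 0, 0, 0, 1, -2]], [[-2, 1, 0, 0, 0, 0, 0], [1, -2, 1, 0, 0, 0, 0], [0, 1, -2, 1, 0, 0, 0], [0, 0, 1, -2, 1, 0, 0], [0, 0, 0, 1, -2, 1, 0], [0, 0, 0, 0, 1, -2, 1], [0, 0, 0, 0, 0, 2, -2]], [[-2, 1, 0, 0, 0, 0, 0], [1, -2, 1, 0, 0, 0, 0], [0, 1, -2, 1, 0, 0, 0], [0, 0, 1, -2, 1, 0, 0], [0, 0, 0, 1, -2, 1, 0], [0, 0, 0, 0, 1, -2, 2], [0, 0, 0, 0, 0, 1, -2]], [[-2, 1, 0, 0, 0, 0, 0], [1, -2, 1, 0, 0, 0, 0], [0, 1, -2, 1, 0, 0, 0], [0, 0, 1, -2, 1, 0, 0], [0, 0, 0, 1, -2, 1, 1], [0, 0, 0, 0, 1, -2, 0], [0, 0, 0, 0, 1, 0, -2]], [[-2, 1, 0, 0, 0, 0, 0], [1, -2,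 1, 0, 0, 0, 0], [0, 1, -2, 1, 0, 0, 0], [0, 0, 1, -2, 1, 0, 1], [0, 0, 0, 1, -2, 1, 0], [0, 0, 0, 0, 1, -2, 0], [0, 0, 0, 1, 0, 0, -2]]]

def F8 : List (List (List ℤ)) := [[[-2, 1, 0, 0, 0, 0, 0, 0], [1, -2, 1, 0, 0, 0, 0, 0], [0, 1, -2, 1, 0, 0, 0, 0], [0, 0, 1, -2, 1, 0, 0, 0], [0, 0, 0, 1, -2, 1, 0, 0], [0, 0, 0, 0, 1, -2, 1, 0], [0, 0, 0, 0, 0, 1, -2, 1], [0, 0, 0, 0, 0, 0, 1, -2]], [[-2, 1, 0, 0, 0, 0, 0, 0], [1, -2, 1, 0, 0, 0, 0, 0], [0, 1, -2, 1, 0, 0, 0, 0], [0, 0, 1, -2, 1, 0, 0, 0], [0, 0, 0, 1, -2, 1, 0, 0], [0, 0, 0, 0, 1, -2, 1, 0], [0, 0, 0, 0, 0, 1, -2, 1], [0, 0, 0, 0, 0, 0, 2, -2]], [[-2, 1, 0, 0, 0, 0, 0, 0], [1, -2, 1, 0, 0, 0, 0, 0], [0, 1, -2, 1, 0, 0, 0, 0], [0, 0, 1, -2, 1, 0, 0, 0], [0, 0, 0, 1, -2, 1, 0, 0], [0,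 0, 0, 0, 1, -2, 1, 0], [0, 0, 0, 0, 0, 1, -2, 2], [0, 0, 0, 0, 0, 0, 1, -2]], [[-2, 1, 0, 0, 0, 0, 0, 0], [1, -2, 1, 0, 0, 0, 0, 0], [0, 1, -2, 1, 0, 0, 0, 0], [0, 0, 1, -2, 1, 0, 0, 0], [0, 0, 0, 1, -2, 1, 0, 0], [0, 0, 0, 0, 1, -2, 1, 1], [0, 0, 0, 0, 0, 1, -2, 0], [0, 0, 0, 0, 0, 1, 0, -2]], [[-2, 1, 0, 0, 0, 0, 0, 0], [1, -2, 1, 0, 0, 0, 0, 0], [0, 1, -2, 1, 0, 0, 0, 0], [0, 0, 1, -2, 1, 0, 0, 0], [0, 0, 0, 1, -2, 1, 0, 1], [0, 0, 0, 0, 1, -2, 1, 0], [0, 0, 0, 0, 0, 1, -2, 0], [0, 0, 0, 0, 1, 0, 0, -2]]]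

def trees1 : List Tree := [
  (.node .zero (.mat 0 [0, 1]) (.mat 1 [0, 1]) (.mat 1 [1, 0]) (.mat 2 [0, 1]) (.mat 2 [1, 0]))]

def trees2 : List Tree := [
  (.node (.node .zero (.mat 0 [0, 1, 2]) (.mat 1 [0, 1, 2]) (.mat 2 [0, 1, 2]) (.pos [1, 2, 1]) (.pos [1, 2, 3])) (.node (.mat 0 [1, 0, 2]) (.pos [1, 1, 1]) (.pos [4, 5, 3]) (.pos [1, 1, 1]) (.pos [5, 7, 3]) (.pos [1, 1, 1])) (.node (.mat 1 [1, 0, 2]) (.pos [5, 4, 3]) (.pos [2, 2, 1]) (.pos [5, 4, 3]) (.pos [7, 8, 3]) (.pos [5, 4, 3])) (.node (.mat 2 [1, 0, 2]) (.pos [1, 1, 1]) (.pos [4, 5, 3]) (.pos [1, 1, 1]) (.pos [5, 7, 3]) (.pos [1, 1, 1])) (.pos [2, 1, 1]) (.pos [2, 1, 3])),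
  (.node (.node .zero (.mat 2 [2, 1, 0]) (.pos [2, 2, 1]) (.pos [1, 1, 1]) (.pos [3, 3, 1]) (.pos [1, 1, 1])) (.node (.mat 1 [2, 0, 1]) (.pos [4, 3, 2]) (.pos [6, 5, 2]) (.pos [4, 3, 2]) (.pos [8, 7, 2]) (.pos [4, 3, 2])) (.pos [2, 1, 1]) (.pos [2, 1, 2]) (.pos [6, 3, 2]) (.pos [2, 1, 2])),
  (.node (.node .zero (.pos [3, 2, 1]) (.pos [6, 4, 1]) (.pos [3, 2, 1]) (.pos [9, 6, 1]) (.pos [3, 2, 1])) (.pos [2, 1, 1]) (.pos [4, 2, 1]) (.pos [2, 1, 1]) (.pos [6, 3, 1]) (.pos [2, 1, 1]))]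

def trees3 : List Tree := [
  (.node (.node (.node .zero (.mat 0 [0, 1, 2, 3]) (.mat 1 [0, 1, 2, 3]) (.mat 2 [0, 1, 2, 3]) (.pos [3, 6, 9, 4]) (.pos [1, 2, 3, 4])) (.node (.mat 3 [0, 1, 2, 3]) (.pos [3, 6, 5, 4]) (.pos [1, 2, 2, 1]) (.pos [3, 6, 5, 4]) (.pos [5, 10, 11, 4]) (.pos [3, 6, 5, 4])) (.pos [1, 2, 1, 1]) (.pos [1, 2, 1, 2]) (.pos [3, 6, 3, 2]) (.pos [1, 2, 1, 2])) (.node (.node (.mat 0 [2, 1, 0, 3]) (.pos [1, 1, 1, 1]) (.pos [5, 6, 7, 4]) (.pos [1, 1, 1, 1]) (.pos [3, 4, 5, 2]) (.pos [1, 1, 1, 1])) (.pos [5, 6, 3, 4]) (.pos [7, 10, 5, 4]) (.pos [5, 6, 3, 4]) (.pos [9, 14, 7, 4]) (.pos [5, 6, 3, 4])) (.node (.node (.mat 1 [2, 1, 0, 3]) (.pos [7, 6, 5, 4]) (.pos [2, 2, 2, 1]) (.pos [7, 6, 5, 4]) (.pos [9, 10, 11, 4]) (.pos [7,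 6, 5, 4])) (.pos [2, 2, 1, 1]) (.pos [5, 6, 3, 2]) (.pos [2, 2, 1, 1]) (.pos [3, 4, 2, 1]) (.pos [2, 2, 1, 1])) (.node (.node (.mat 2 [2, 1, 0, 3]) (.pos [1, 1, 1, 1]) (.pos [5, 6, 7, 4]) (.pos [1, 1, 1, 1]) (.pos [3, 4, 5, 2]) (.pos [1, 1, 1, 1])) (.pos [5, 6, 3, 4]) (.pos [7, 10, 5, 4]) (.pos [5, 6, 3, 4]) (.pos [9, 14, 7, 4]) (.pos [5, 6, 3, 4])) (.pos [9, 6, 3, 4]) (.pos [3, 2, 1, 4])),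
  (.node (.node (.node .zero (.mat 4 [0, 1, 2, 3]) (.pos [2, 4, 3, 1]) (.pos [2, 4, 3, 2]) (.pos [6, 12, 9, 2]) (.pos [2, 4, 3, 2])) (.pos [1, 2, 1, 1]) (.pos [2, 4, 2, 1]) (.pos [1, 2, 1, 1]) (.pos [3, 6, 3, 1]) (.pos [1, 2, 1, 1])) (.node (.node (.mat 1 [3, 0, 1, 2]) (.pos [2, 3, 2, 1]) (.pos [6, 10, 7, 2]) (.pos [2, 3, 2, 1]) (.pos [4, 7, 5, 1]) (.pos [2, 3, 2, 1])) (.pos [4, 6, 3, 2]) (.pos [6, 10, 5, 2]) (.pos [4, 6, 3, 2]) (.pos [8, 14, 7, 2]) (.pos [4, 6, 3, 2])) (.pos [2, 2, 1, 1]) (.pos [2, 2, 1, 2]) (.pos [6, 6, 3, 2]) (.pos [2, 2, 1, 2])),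
  (.node (.node (.node .zero (.mat 4 [3, 2, 1, 0]) (.pos [1, 2, 3, 1]) (.pos [1, 2, 3, 2]) (.pos [3, 6, 9, 2]) (.pos [1, 2, 3, 2])) (.pos [1, 2, 2, 1]) (.pos [2, 4, 4, 1]) (.pos [1, 2, 2, 1]) (.pos [3, 6, 6, 1]) (.pos [1, 2, 2, 1])) (.node (.node (.mat 2 [3, 0, 1, 2]) (.pos [3, 4, 5, 2]) (.pos [2, 3, 4, 1]) (.pos [3, 4, 5, 2]) (.pos [5, 8, 11, 2]) (.pos [3, 4, 5, 2])) (.pos [2, 3, 3, 1]) (.pos [3, 5, 5, 1]) (.pos [2, 3, 3, 1]) (.pos [4, 7, 7, 1]) (.pos [2, 3, 3, 1])) (.pos [2, 2, 2, 1]) (.pos [1, 1, 1, 1]) (.pos [3, 3, 3, 1]) (.pos [1, 1, 1, 1]))]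

def trees4 : List Tree := [
  (.node (.node (.node (.node .zero (.mat 0 [0, 1, 2, 3, 4]) (.mat 1 [0, 1, 2, 3, 4]) (.mat 2 [0, 1, 2, 3, 4]) (.pos [3, 6, 9, 12, 5]) (.pos [1, 2, 3, 4, 5])) (.node (.mat 3 [0, 1, 2, 3, 4]) (.pos [3, 6, 9, 7, 5]) (.pos [4, 8, 12, 11, 5]) (.pos [3, 6, 9, 7, 5]) (.pos [1, 2, 3, 3, 1]) (.pos [3, 6, 9, 7, 5])) (.pos [4, 8, 12, 6, 5]) (.pos [2, 4, 6, 3, 5]) (.pos [6, 12, 18, 9, 5]) (.pos [2, 4, 6, 3, 5])) (.node (.node (.mat 3 [3, 2, 1, 0, 4]) (.pos [4, 8, 7, 6, 5]) (.pos [1, 2, 2, 2, 1]) (.pos [4, 8, 7, 6, 5]) (.pos [6, 12, 13, 14, 5]) (.pos [4, 8, 7, 6, 5])) (.pos [1, 2, 2, 1, 1]) (.pos [7, 14, 16, 8, 5]) (.pos [1, 2, 2, 1, 1]) (.pos [9, 18, 22, 11, 5]) (.pos [1, 2, 2, 1, 1])) (.pos [6, 12, 8, 4, 5]) (.pos [3,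 6, 4, 2, 5]) (.pos [9, 18, 12, 6, 5]) (.pos [3, 6, 4, 2, 5])) (.node (.node (.node (.mat 0 [3, 2, 1, 0, 4]) (.pos [1, 1, 1, 1, 1]) (.pos [6, 7, 8, 9, 5]) (.pos [1, 1, 1, 1, 1]) (.pos [7, 9, 11, 13, 5]) (.pos [1, 1, 1, 1, 1])) (.pos [6, 7, 8, 4, 5]) (.pos [8, 11, 14, 7, 5]) (.pos [6, 7, 8, 4, 5]) (.pos [2, 3, 4, 2, 1]) (.pos [6, 7, 8, 4, 5])) (.pos [7, 9, 6, 3, 5]) (.pos [2, 3, 2, 1, 1]) (.pos [7, 9, 6, 3, 5]) (.pos [13, 21, 14, 7, 5]) (.pos [7, 9, 6, 3, 5])) (.node (.node (.node (.mat 1 [3, 2, 1, 0, 4]) (.pos [9, 8, 7, 6, 5]) (.pos [2, 2, 2, 2, 1]) (.pos [9, 8, 7, 6, 5]) (.pos [11, 12, 13, 14, 5]) (.pos [9, 8, 7, 6, 5])) (.pos [2, 2, 2, 1, 1]) (.pos [12, 14, 16, 8, 5]) (.pos [2, 2, 2, 1, 1]) (.pos [14, 18, 22, 11, 5]) (.pos [2, 2, 2, 1,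 1])) (.pos [11, 12, 8, 4, 5]) (.pos [14, 18, 12, 6, 5]) (.pos [11, 12, 8, 4, 5]) (.pos [17, 24, 16, 8, 5]) (.pos [11, 12, 8, 4, 5])) (.node (.node (.node (.mat 2 [3, 2, 1, 0, 4]) (.pos [1, 1, 1, 1, 1]) (.pos [6, 7, 8, 9, 5]) (.pos [1, 1, 1, 1, 1]) (.pos [7, 9, 11, 13, 5]) (.pos [1, 1, 1, 1, 1])) (.pos [6, 7, 8, 4, 5]) (.pos [8, 11, 14, 7, 5]) (.pos [6, 7, 8, 4, 5]) (.pos [2, 3, 4, 2, 1]) (.pos [6, 7, 8, 4, 5])) (.pos [7, 9, 6, 3, 5]) (.pos [2, 3, 2, 1, 1]) (.pos [7, 9, 6, 3, 5]) (.pos [13, 21, 14, 7, 5]) (.pos [7, 9, 6, 3, 5])) (.pos [12, 9, 6, 3, 5]) (.pos [4, 3, 2, 1, 5])),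
  (.node (.node (.node (.node .zero (.pos [1, 2, 3, 2, 1]) (.pos [2, 4, 6, 4, 1]) (.pos [1, 2, 3, 2, 1]) (.pos [3, 6, 9, 6, 1]) (.pos [1, 2, 3, 2, 1])) (.pos [2, 4, 6, 3, 2]) (.pos [2, 4, 6, 3, 1]) (.pos [2, 4, 6, 3, 2]) (.pos [6, 12, 18, 9, 2]) (.pos [2, 4, 6, 3, 2])) (.pos [1, 2, 2, 1, 1]) (.pos [2, 4, 4, 2, 1]) (.pos [1, 2, 2, 1, 1]) (.pos [3, 6, 6, 3, 1]) (.pos [1, 2, 2, 1, 1])) (.node (.node (.node (.mat 1 [4, 0, 1, 2, 3]) (.pos [4, 6, 8, 5, 2]) (.pos [6, 10, 14, 9, 2]) (.pos [4, 6, 8, 5, 2]) (.pos [8, 14, 20, 13, 2]) (.pos [4, 6, 8, 5, 2])) (.pos [2, 3, 4, 2, 1]) (.pos [6, 10, 14, 7, 2]) (.pos [2, 3, 4, 2, 1]) (.pos [4, 7, 10, 5, 1]) (.pos [2, 3, 4, 2, 1])) (.pos [4, 6, 6, 3, 2]) (.pos [6, 10, 10, 5, 2]) (.pos [4, 6, 6, 3, 2]) (.pos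 [8, 14, 14, 7, 2]) (.pos [4, 6, 6, 3, 2])) (.pos [2, 2, 2, 1, 1]) (.pos [2, 2, 2, 1, 2]) (.pos [6, 6, 6, 3, 2]) (.pos [2, 2, 2, 1, 2])),
  (.node (.node (.node (.node .zero (.pos [1, 2, 3, 4, 2]) (.pos [1, 2, 3, 4, 1]) (.pos [1, 2, 3, 4, 2]) (.pos [3, 6, 9, 12, 2]) (.pos [1, 2, 3, 4, 2])) (.pos [1, 2, 3, 3, 1]) (.pos [2, 4, 6, 6, 1]) (.pos [1, 2, 3, 3, 1]) (.pos [3, 6, 9, 9, 1]) (.pos [1, 2, 3, 3, 1])) (.pos [1, 2, 2, 2, 1]) (.pos [2, 4, 4, 4, 1]) (.pos [1, 2, 2, 2, 1]) (.pos [3, 6, 6, 6, 1]) (.pos [1, 2, 2, 2, 1])) (.node (.node (.node (.mat 2 [4, 0, 1, 2, 3]) (.pos [3, 4, 5, 6, 2]) (.pos [2, 3, 4, 5, 1]) (.pos [3, 4, 5, 6, 2]) (.pos [5, 8, 11, 14, 2]) (.pos [3, 4, 5, 6, 2])) (.pos [2, 3, 4, 4, 1]) (.pos [3, 5, 7, 7, 1]) (.pos [2, 3,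 4, 4, 1]) (.pos [4, 7, 10, 10, 1]) (.pos [2, 3, 4, 4, 1])) (.pos [2, 3, 3, 3, 1]) (.pos [3, 5, 5, 5, 1]) (.pos [2, 3, 3, 3, 1]) (.pos [4, 7, 7, 7, 1]) (.pos [2, 3, 3, 3, 1])) (.pos [2, 2, 2, 2, 1]) (.pos [1, 1, 1, 1, 1]) (.pos [3, 3, 3, 3, 1]) (.pos [1, 1, 1, 1, 1])),
  (.node (.node (.node (.node .zero (.mat 3 [4, 3, 1, 0, 2]) (.pos [1, 2, 1, 2, 1]) (.pos [1, 2, 1, 2, 2]) (.pos [3, 6, 3, 6, 2]) (.pos [1, 2, 1, 2, 2])) (.node (.mat 3 [4, 2, 1, 0, 3]) (.pos [2, 4, 3, 3, 2]) (.pos [3, 6, 4, 5, 2]) (.pos [2, 4, 3, 3, 2]) (.pos [4, 8, 5, 7, 2]) (.pos [2, 4, 3, 3, 2])) (.pos [1, 2, 2, 1, 1]) (.pos [1, 2, 2, 1, 2]) (.pos [3, 6, 6, 3, 2]) (.pos [1, 2, 2, 1, 2])) (.pos [1, 2, 1, 1, 1]) (.pos [2, 4, 2, 2, 1]) (.pos [1, 2, 1, 1, 1]) (.pos [3, 6,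 3, 3, 1]) (.pos [1, 2, 1, 1, 1])) (.node (.node (.node (.mat 3 [4, 0, 1, 2, 3]) (.pos [3, 4, 2, 3, 2]) (.pos [4, 6, 3, 5, 2]) (.pos [3, 4, 2, 3, 2]) (.pos [5, 8, 4, 7, 2]) (.pos [3, 4, 2, 3, 2])) (.pos [3, 4, 3, 2, 2]) (.pos [4, 6, 5, 3, 2]) (.pos [3, 4, 3, 2, 2]) (.pos [5, 8, 7, 4, 2]) (.pos [3, 4, 3, 2, 2])) (.pos [4, 6, 3, 3, 2]) (.pos [6, 10, 5, 5, 2]) (.pos [4, 6, 3, 3, 2]) (.pos [8, 14, 7, 7, 2]) (.pos [4, 6, 3, 3, 2])) (.pos [2, 2, 1, 1, 1]) (.pos [2, 2, 1, 1, 2]) (.pos [6, 6, 3, 3, 2]) (.pos [2, 2, 1, 1, 2])),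
  (.node (.node (.node (.node .zero (.pos [2, 4, 3, 2, 1]) (.pos [4, 8, 6, 4, 1]) (.pos [2, 4, 3, 2, 1]) (.pos [6, 12, 9, 6, 1]) (.pos [2, 4, 3, 2, 1])) (.pos [4, 8, 6, 3, 1]) (.pos [8, 16, 12, 6, 1]) (.pos [4, 8, 6, 3, 1]) (.pos [12, 24, 18, 9, 1]) (.pos [4, 8, 6, 3, 1])) (.pos [3, 6, 4, 2, 1]) (.pos [6, 12, 8, 4, 1]) (.pos [3, 6, 4, 2, 1]) (.pos [9, 18, 12, 6, 1]) (.pos [3, 6, 4, 2, 1])) (.pos [2, 3, 2, 1, 1]) (.pos [4, 6, 4, 2, 1]) (.pos [2, 3, 2, 1, 1]) (.pos [6, 9, 6, 3, 1]) (.pos [2, 3, 2, 1, 1]))]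

def trees5 : List Tree := [
  (.node (.node (.node (.node (.node .zero (.mat 0 [0, 1, 2, 3, 4, 5]) (.mat 1 [0, 1, 2, 3, 4, 5]) (.mat 2 [0, 1, 2, 3, 4, 5]) (.pos [1, 2, 3, 4, 5, 2]) (.pos [1, 2, 3, 4, 5, 6])) (.node (.mat 3 [0, 1, 2, 3, 4, 5]) (.pos [1, 2, 3, 4, 3, 2]) (.pos [2, 4, 6, 8, 7, 3]) (.pos [1, 2, 3, 4, 3, 2]) (.pos [5, 10, 15, 20, 19, 6]) (.pos [1, 2, 3, 4, 3, 2])) (.pos [2, 4, 6, 8, 4, 3]) (.pos [1, 2, 3, 4, 2, 3]) (.pos [1, 2, 3, 4, 2, 1]) (.pos [1, 2, 3, 4, 2, 3])) (.node (.node (.mat 4 [0, 1, 2, 3, 4, 5]) (.pos [2, 4, 6, 5, 4, 3]) (.pos [5, 10, 15, 14, 13, 6]) (.pos [2, 4, 6, 5, 4, 3]) (.pos [1, 2, 3, 3, 3, 1]) (.pos [2, 4, 6, 5, 4, 3])) (.pos [5, 10, 15, 14, 7, 6]) (.pos [7, 14, 21, 22, 11, 6]) (.pos [5, 10, 15, 14, 7,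 6]) (.pos [3, 6, 9, 10, 5, 2]) (.pos [5, 10, 15, 14, 7, 6])) (.pos [1, 2, 3, 2, 1, 1]) (.pos [1, 2, 3, 2, 1, 2]) (.pos [3, 6, 9, 6, 3, 2]) (.pos [1, 2, 3, 2, 1, 2])) (.node (.node (.node (.mat 3 [4, 3, 2, 1, 0, 5]) (.pos [5, 10, 9, 8, 7, 6]) (.pos [1, 2, 2, 2, 2, 1]) (.pos [5, 10, 9, 8, 7, 6]) (.pos [7, 14, 15, 16, 17, 6]) (.pos [5, 10, 9, 8, 7, 6])) (.pos [1, 2, 2, 2, 1, 1]) (.pos [4, 8, 9, 10, 5, 3]) (.pos [1, 2, 2, 2, 1, 1]) (.pos [5, 10, 12, 14, 7, 3]) (.pos [1, 2, 2, 2, 1, 1])) (.pos [7, 14, 15, 10, 5, 6]) (.pos [5, 10, 12, 8, 4, 3]) (.pos [7, 14, 15, 10, 5, 6]) (.pos [13, 26, 33, 22, 11, 6]) (.pos [7, 14, 15, 10, 5, 6])) (.pos [4, 8, 6, 4, 2, 3]) (.pos [2, 4, 3, 2, 1, 3]) (.pos [2, 4, 3, 2, 1, 1]) (.pos [2, 4, 3, 2, 1, 3])) (.node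 (.node (.node (.node (.mat 0 [4, 3, 2, 1, 0, 5]) (.pos [1, 1, 1, 1, 1, 1]) (.pos [7, 8, 9, 10, 11, 6]) (.pos [1, 1, 1, 1, 1, 1]) (.pos [4, 5, 6, 7, 8, 3]) (.pos [1, 1, 1, 1, 1, 1])) (.pos [7, 8, 9, 10, 5, 6]) (.pos [3, 4, 5, 6, 3, 2]) (.pos [7, 8, 9, 10, 5, 6]) (.pos [11, 16, 21, 26, 13, 6]) (.pos [7, 8, 9, 10, 5, 6])) (.pos [4, 5, 6, 4, 2, 3]) (.pos [11, 16, 21, 14, 7, 6]) (.pos [4, 5, 6, 4, 2, 3]) (.pos [7, 11, 15, 10, 5, 3]) (.pos [4, 5, 6, 4, 2, 3])) (.pos [3, 4, 3, 2, 1, 2]) (.pos [13, 20, 15, 10, 5, 6]) (.pos [3, 4, 3, 2, 1, 2]) (.pos [17, 28, 21, 14, 7, 6]) (.pos [3, 4, 3, 2, 1, 2])) (.node (.node (.node (.node (.mat 1 [4, 3, 2, 1, 0, 5]) (.pos [11, 10, 9, 8, 7, 6]) (.pos [2, 2, 2, 2, 2, 1]) (.pos [11, 10, 9, 8, 7, 6]) (.pos [13,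 14, 15, 16, 17, 6]) (.pos [11, 10, 9, 8, 7, 6])) (.pos [2, 2, 2, 2, 1, 1]) (.pos [7, 8, 9, 10, 5, 3]) (.pos [2, 2, 2, 2, 1, 1]) (.pos [8, 10, 12, 14, 7, 3]) (.pos [2, 2, 2, 2, 1, 1])) (.pos [13, 14, 15, 10, 5, 6]) (.pos [8, 10, 12, 8, 4, 3]) (.pos [13, 14, 15, 10, 5, 6]) (.pos [19, 26, 33, 22, 11, 6]) (.pos [13, 14, 15, 10, 5, 6])) (.pos [7, 8, 6, 4, 2, 3]) (.pos [3, 4, 3, 2, 1, 1]) (.pos [7, 8, 6, 4, 2, 3]) (.pos [11, 16, 12, 8, 4, 3]) (.pos [7, 8, 6, 4, 2, 3])) (.node (.node (.node (.node (.mat 2 [4, 3, 2, 1, 0, 5]) (.pos [1, 1, 1, 1, 1, 1]) (.pos [7, 8, 9, 10, 11, 6]) (.pos [1, 1, 1, 1, 1, 1]) (.pos [4, 5, 6, 7, 8, 3]) (.pos [1, 1, 1, 1, 1, 1])) (.pos [7, 8, 9, 10, 5, 6]) (.pos [3, 4, 5, 6, 3, 2]) (.pos [7, 8, 9, 10, 5, 6]) (.pos [11,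 16, 21, 26, 13, 6]) (.pos [7, 8, 9, 10, 5, 6])) (.pos [4, 5, 6, 4, 2, 3]) (.pos [11, 16, 21, 14, 7, 6]) (.pos [4, 5, 6, 4, 2, 3]) (.pos [7, 11, 15, 10, 5, 3]) (.pos [4, 5, 6, 4, 2, 3])) (.pos [3, 4, 3, 2, 1, 2]) (.pos [13, 20, 15, 10, 5, 6]) (.pos [3, 4, 3, 2, 1, 2]) (.pos [17, 28, 21, 14, 7, 6]) (.pos [3, 4, 3, 2, 1, 2])) (.pos [5, 4, 3, 2, 1, 2]) (.pos [5, 4, 3, 2, 1, 6])),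
  (.node (.node (.node (.node (.node .zero (.pos [2, 4, 6, 8, 5, 2]) (.pos [2, 4, 6, 8, 5, 1]) (.pos [2, 4, 6, 8, 5, 2]) (.pos [6, 12, 18, 24, 15, 2]) (.pos [2, 4, 6, 8, 5, 2])) (.pos [1, 2, 3, 4, 2, 1]) (.pos [2, 4, 6, 8, 4, 1]) (.pos [1, 2, 3, 4, 2, 1]) (.pos [3, 6, 9, 12, 6, 1]) (.pos [1, 2, 3, 4, 2, 1])) (.pos [2, 4, 6, 6, 3, 2]) (.pos [2, 4, 6, 6, 3, 1]) (.pos [2, 4, 6, 6, 3, 2]) (.pos [6, 12, 18, 18, 9, 2]) (.pos [2, 4, 6, 6, 3, 2])) (.pos [1, 2, 2, 2, 1, 1]) (.pos [2, 4, 4, 4, 2, 1]) (.pos [1, 2, 2, 2, 1, 1]) (.pos [3, 6, 6, 6, 3, 1]) (.pos [1, 2, 2, 2, 1, 1])) (.node (.node (.node (.node (.mat 1 [5, 0, 1, 2, 3, 4]) (.pos [2, 3, 4, 5, 3, 1]) (.pos [6, 10, 14, 18, 11, 2]) (.pos [2, 3, 4, 5, 3, 1]) (.pos [4, 7, 10, 13, 8, 1]) (.pos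 [2, 3, 4, 5, 3, 1])) (.pos [4, 6, 8, 10, 5, 2]) (.pos [6, 10, 14, 18, 9, 2]) (.pos [4, 6, 8, 10, 5, 2]) (.pos [8, 14, 20, 26, 13, 2]) (.pos [4, 6, 8, 10, 5, 2])) (.pos [2, 3, 4, 4, 2, 1]) (.pos [6, 10, 14, 14, 7, 2]) (.pos [2, 3, 4, 4, 2, 1]) (.pos [4, 7, 10, 10, 5, 1]) (.pos [2, 3, 4, 4, 2, 1])) (.pos [4, 6, 6, 6, 3, 2]) (.pos [6, 10, 10, 10, 5, 2]) (.pos [4, 6, 6, 6, 3, 2]) (.pos [8, 14, 14, 14, 7, 2]) (.pos [4, 6, 6, 6, 3, 2])) (.pos [2, 2, 2, 2, 1, 1]) (.pos [2, 2, 2, 2, 1, 2]) (.pos [6, 6, 6, 6, 3, 2]) (.pos [2, 2, 2, 2, 1, 2])),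
  (.node (.node (.node (.node (.node .zero (.pos [1, 2, 3, 4, 5, 2]) (.pos [1, 2, 3, 4, 5, 1]) (.pos [1, 2, 3, 4, 5, 2]) (.pos [3, 6, 9, 12, 15, 2]) (.pos [1, 2, 3, 4, 5, 2])) (.pos [1, 2, 3, 4, 4, 1]) (.pos [2, 4, 6, 8, 8, 1]) (.pos [1, 2, 3, 4, 4, 1]) (.pos [3, 6, 9, 12, 12, 1]) (.pos [1, 2, 3, 4, 4, 1])) (.pos [1, 2, 3, 3, 3, 1]) (.pos [2, 4, 6, 6, 6, 1]) (.pos [1, 2, 3, 3, 3, 1]) (.pos [3, 6, 9, 9, 9, 1]) (.pos [1, 2, 3, 3, 3, 1])) (.pos [1, 2, 2, 2, 2, 1]) (.pos [2, 4, 4, 4, 4, 1]) (.pos [1, 2, 2, 2, 2, 1]) (.pos [3, 6, 6, 6, 6, 1]) (.pos [1, 2, 2, 2, 2, 1])) (.node (.node (.node (.node (.mat 2 [5, 0, 1, 2, 3, 4]) (.pos [3, 4, 5, 6, 7, 2]) (.pos [2, 3, 4, 5, 6, 1]) (.pos [3, 4, 5, 6, 7, 2]) (.pos [5, 8, 11, 14, 17, 2]) (.pos [3, 4,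 5, 6, 7, 2])) (.pos [2, 3, 4, 5, 5, 1]) (.pos [3, 5, 7, 9, 9, 1]) (.pos [2, 3, 4, 5, 5, 1]) (.pos [4, 7, 10, 13, 13, 1]) (.pos [2, 3, 4, 5, 5, 1])) (.pos [2, 3, 4, 4, 4, 1]) (.pos [3, 5, 7, 7, 7, 1]) (.pos [2, 3, 4, 4, 4, 1]) (.pos [4, 7, 10, 10, 10, 1]) (.pos [2, 3, 4, 4, 4, 1])) (.pos [2, 3, 3, 3, 3, 1]) (.pos [3, 5, 5, 5, 5, 1]) (.pos [2, 3, 3, 3, 3, 1]) (.pos [4, 7, 7, 7, 7, 1]) (.pos [2, 3, 3, 3, 3, 1])) (.pos [2, 2, 2, 2, 2, 1]) (.pos [1, 1, 1, 1, 1, 1]) (.pos [3, 3, 3, 3, 3, 1]) (.pos [1, 1, 1, 1, 1, 1])),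
  (.node (.node (.node (.node (.node .zero (.mat 4 [0, 1, 2, 4, 5, 3]) (.pos [2, 4, 6, 3, 5, 2]) (.pos [2, 4, 6, 3, 5, 4]) (.pos [6, 12, 18, 9, 15, 4]) (.pos [2, 4, 6, 3, 5, 4])) (.node (.mat 4 [0, 1, 2, 3, 5, 4]) (.pos [1, 2, 3, 2, 2, 1]) (.pos [6, 12, 18, 11, 13, 4]) (.pos [1, 2, 3, 2, 2, 1]) (.pos [4, 8, 12, 7, 9, 2]) (.pos [1, 2, 3, 2, 2, 1])) (.pos [2, 4, 6, 5, 3, 2]) (.pos [2, 4, 6, 5, 3, 4]) (.pos [6, 12, 18, 15, 9, 4]) (.pos [2, 4, 6, 5, 3, 4])) (.pos [2, 4, 6, 3, 3, 2]) (.pos [2, 4, 6, 3, 3, 1]) (.pos [2, 4, 6, 3, 3, 2]) (.pos [6, 12, 18, 9, 9, 2]) (.pos [2, 4, 6, 3, 3, 2])) (.pos [1, 2, 2, 1, 1, 1]) (.pos [2, 4, 4, 2, 2, 1]) (.pos [1, 2, 2, 1, 1, 1]) (.pos [3, 6, 6, 3, 3, 1]) (.pos [1, 2, 2, 1, 1, 1])) (.node (.node (.node (.node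 (.mat 3 [5, 0, 1, 2, 3, 4]) (.pos [6, 8, 10, 5, 7, 4]) (.pos [2, 3, 4, 2, 3, 1]) (.pos [6, 8, 10, 5, 7, 4]) (.pos [10, 16, 22, 11, 17, 4]) (.pos [6, 8, 10, 5, 7, 4])) (.pos [6, 8, 10, 7, 5, 4]) (.pos [2, 3, 4, 3, 2, 1]) (.pos [6, 8, 10, 7, 5, 4]) (.pos [10, 16, 22, 17, 11, 4]) (.pos [6, 8, 10, 7, 5, 4])) (.pos [2, 3, 4, 2, 2, 1]) (.pos [6, 10, 14, 7, 7, 2]) (.pos [2, 3, 4, 2, 2, 1]) (.pos [4, 7, 10, 5, 5, 1]) (.pos [2, 3, 4, 2, 2, 1])) (.pos [4, 6, 6, 3, 3, 2]) (.pos [6, 10, 10, 5, 5, 2]) (.pos [4, 6, 6, 3, 3, 2]) (.pos [8, 14, 14, 7, 7, 2]) (.pos [4, 6, 6, 3, 3, 2])) (.pos [2, 2, 2, 1, 1, 1]) (.pos [2, 2, 2, 1, 1, 2]) (.pos [6, 6, 6, 3, 3, 2]) (.pos [2, 2, 2, 1, 1, 2]))]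

def trees6 : List Tree := [
  (.node (.node (.node (.node (.node (.node .zero (.mat 0 [0, 1, 2, 3, 4, 5, 6]) (.mat 1 [0, 1, 2, 3, 4, 5, 6]) (.mat 2 [0, 1, 2, 3, 4, 5, 6]) (.pos [3, 6, 9, 12, 15, 18, 7]) (.pos [1, 2, 3, 4, 5, 6, 7])) (.node (.mat 3 [0, 1, 2, 3, 4, 5, 6]) (.pos [3, 6, 9, 12, 15, 11, 7]) (.pos [4, 8, 12, 16, 20, 17, 7]) (.pos [3, 6, 9, 12, 15, 11, 7]) (.pos [5, 10, 15, 20, 25, 23, 7]) (.pos [3, 6, 9, 12, 15, 11, 7])) (.pos [4, 8, 12, 16, 20, 10, 7]) (.pos [2, 4, 6, 8, 10, 5, 7]) (.pos [6, 12, 18, 24, 30, 15, 7]) (.pos [2, 4, 6, 8, 10, 5, 7])) (.node (.node (.mat 4 [0, 1, 2, 3, 4, 5, 6]) (.pos [4, 8, 12, 16, 13, 10, 7]) (.pos [5, 10, 15, 20, 18, 16, 7]) (.pos [4, 8, 12, 16, 13, 10, 7]) (.pos [6, 12, 18, 24, 23, 22, 7]) (.pos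 [4, 8, 12, 16, 13, 10, 7])) (.pos [5, 10, 15, 20, 18, 9, 7]) (.pos [1, 2, 3, 4, 4, 2, 1]) (.pos [5, 10, 15, 20, 18, 9, 7]) (.pos [9, 18, 27, 36, 38, 19, 7]) (.pos [5, 10, 15, 20, 18, 9, 7])) (.pos [6, 12, 18, 24, 16, 8, 7]) (.pos [3, 6, 9, 12, 8, 4, 7]) (.pos [9, 18, 27, 36, 24, 12, 7]) (.pos [3, 6, 9, 12, 8, 4, 7])) (.node (.node (.node (.mat 4 [5, 4, 3, 2, 1, 0, 6]) (.pos [5, 10, 15, 13, 11, 9, 7]) (.pos [6, 12, 18, 17, 16, 15, 7]) (.pos [5, 10, 15, 13, 11, 9, 7]) (.pos [1, 2, 3, 3, 3, 3, 1]) (.pos [5, 10, 15, 13, 11, 9, 7])) (.pos [6, 12, 18, 17, 16, 8, 7]) (.pos [8, 16, 24, 25, 26, 13, 7]) (.pos [6, 12, 18, 17, 16, 8, 7]) (.pos [10, 20, 30, 33, 36, 18, 7]) (.pos [6, 12, 18, 17, 16, 8, 7])) (.pos [1, 2, 3, 3, 2, 1, 1]) (.pos [10, 20,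 30, 33, 22, 11, 7]) (.pos [1, 2, 3, 3, 2, 1, 1]) (.pos [13, 26, 39, 45, 30, 15, 7]) (.pos [1, 2, 3, 3, 2, 1, 1])) (.pos [8, 16, 24, 18, 12, 6, 7]) (.pos [4, 8, 12, 9, 6, 3, 7]) (.pos [12, 24, 36, 27, 18, 9, 7]) (.pos [4, 8, 12, 9, 6, 3, 7])) (.node (.node (.node (.node (.mat 3 [5, 4, 3, 2, 1, 0, 6]) (.pos [6, 12, 11, 10, 9, 8, 7]) (.pos [1, 2, 2, 2, 2, 2, 1]) (.pos [6, 12, 11, 10, 9, 8, 7]) (.pos [8, 16, 17, 18, 19, 20, 7]) (.pos [6, 12, 11, 10, 9, 8, 7])) (.pos [1, 2, 2, 2, 2, 1, 1]) (.pos [9, 18, 20, 22, 24, 12, 7]) (.pos [1, 2, 2, 2, 2, 1, 1]) (.pos [11, 22, 26, 30, 34, 17, 7]) (.pos [1, 2, 2, 2, 2, 1, 1])) (.pos [8, 16, 17, 18, 12, 6, 7]) (.pos [11, 22, 26, 30, 20, 10, 7]) (.pos [8, 16, 17, 18, 12, 6, 7]) (.pos [2, 4, 5, 6, 4, 2, 1])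 (.pos [8, 16, 17, 18, 12, 6, 7])) (.pos [9, 18, 20, 15, 10, 5, 7]) (.pos [13, 26, 32, 24, 16, 8, 7]) (.pos [9, 18, 20, 15, 10, 5, 7]) (.pos [17, 34, 44, 33, 22, 11, 7]) (.pos [9, 18, 20, 15, 10, 5, 7])) (.pos [10, 20, 16, 12, 8, 4, 7]) (.pos [5, 10, 8, 6, 4, 2, 7]) (.pos [15, 30, 24, 18, 12, 6, 7]) (.pos [5, 10, 8, 6, 4, 2, 7])) (.node (.node (.node (.node (.node (.mat 0 [5, 4, 3, 2, 1, 0, 6]) (.pos [1, 1, 1, 1, 1, 1, 1]) (.pos [8, 9, 10, 11, 12, 13, 7]) (.pos [1, 1, 1, 1, 1, 1, 1]) (.pos [9, 11, 13, 15, 17, 19, 7]) (.pos [1, 1, 1, 1, 1, 1, 1])) (.pos [8, 9, 10, 11, 12, 6, 7]) (.pos [10, 13, 16, 19, 22, 11, 7]) (.pos [8, 9, 10, 11, 12, 6, 7]) (.pos [12, 17, 22, 27, 32, 16, 7]) (.pos [8, 9, 10, 11, 12, 6, 7])) (.pos [9, 11, 13, 15, 10,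 5, 7]) (.pos [12, 17, 22, 27, 18, 9, 7]) (.pos [9, 11, 13, 15, 10, 5, 7]) (.pos [15, 23, 31, 39, 26, 13, 7]) (.pos [9, 11, 13, 15, 10, 5, 7])) (.pos [10, 13, 16, 12, 8, 4, 7]) (.pos [2, 3, 4, 3, 2, 1, 1]) (.pos [10, 13, 16, 12, 8, 4, 7]) (.pos [18, 29, 40, 30, 20, 10, 7]) (.pos [10, 13, 16, 12, 8, 4, 7])) (.pos [11, 15, 12, 9, 6, 3, 7]) (.pos [16, 25, 20, 15, 10, 5, 7]) (.pos [11, 15, 12, 9, 6, 3, 7]) (.pos [3, 5, 4, 3, 2, 1, 1]) (.pos [11, 15, 12, 9, 6, 3, 7])) (.node (.node (.node (.node (.node (.mat 1 [5, 4, 3, 2, 1, 0, 6]) (.pos [13, 12, 11, 10, 9, 8, 7]) (.pos [2, 2, 2, 2, 2, 2, 1]) (.pos [13, 12, 11, 10, 9, 8, 7]) (.pos [15, 16, 17, 18, 19, 20, 7]) (.pos [13, 12, 11, 10, 9, 8, 7])) (.pos [2, 2, 2, 2, 2, 1, 1]) (.pos [16, 18, 20,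 22, 24, 12, 7]) (.pos [2, 2, 2, 2, 2, 1, 1]) (.pos [18, 22, 26, 30, 34, 17, 7]) (.pos [2, 2, 2, 2, 2, 1, 1])) (.pos [15, 16, 17, 18, 12, 6, 7]) (.pos [18, 22, 26, 30, 20, 10, 7]) (.pos [15, 16, 17, 18, 12, 6, 7]) (.pos [3, 4, 5, 6, 4, 2, 1]) (.pos [15, 16, 17, 18, 12, 6, 7])) (.pos [16, 18, 20, 15, 10, 5, 7]) (.pos [20, 26, 32, 24, 16, 8, 7]) (.pos [16, 18, 20, 15, 10, 5, 7]) (.pos [24, 34, 44, 33, 22, 11, 7]) (.pos [16, 18, 20, 15, 10, 5, 7])) (.pos [17, 20, 16, 12, 8, 4, 7]) (.pos [22, 30, 24, 18, 12, 6, 7]) (.pos [17, 20, 16, 12, 8, 4, 7]) (.pos [27, 40, 32, 24, 16, 8, 7]) (.pos [17, 20, 16, 12, 8, 4, 7])) (.node (.node (.node (.node (.node (.mat 2 [5, 4, 3, 2, 1, 0, 6]) (.pos [1, 1, 1, 1, 1, 1, 1]) (.pos [8, 9, 10, 11, 12, 13, 7])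 (.pos [1, 1, 1, 1, 1, 1, 1]) (.pos [9, 11, 13, 15, 17, 19, 7]) (.pos [1, 1, 1, 1, 1, 1, 1])) (.pos [8, 9, 10, 11, 12, 6, 7]) (.pos [10, 13, 16, 19, 22, 11, 7]) (.pos [8, 9, 10, 11, 12, 6, 7]) (.pos [12, 17, 22, 27, 32, 16, 7]) (.pos [8, 9, 10, 11, 12, 6, 7])) (.pos [9, 11, 13, 15, 10, 5, 7]) (.pos [12, 17, 22, 27, 18, 9, 7]) (.pos [9, 11, 13, 15, 10, 5, 7]) (.pos [15, 23, 31, 39, 26, 13, 7]) (.pos [9, 11, 13, 15, 10, 5, 7])) (.pos [10, 13, 16, 12, 8, 4, 7]) (.pos [2, 3, 4, 3, 2, 1, 1]) (.pos [10, 13, 16, 12, 8, 4, 7]) (.pos [18, 29, 40, 30, 20, 10, 7]) (.pos [10, 13, 16, 12, 8, 4, 7])) (.pos [11, 15, 12, 9, 6, 3, 7]) (.pos [16, 25, 20, 15, 10, 5, 7]) (.pos [11, 15, 12, 9, 6, 3, 7]) (.pos [3, 5, 4, 3, 2, 1, 1]) (.pos [11, 15, 12, 9, 6,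 3, 7])) (.pos [18, 15, 12, 9, 6, 3, 7]) (.pos [6, 5, 4, 3, 2, 1, 7])),
  (.node (.node (.node (.node (.node (.node .zero (.pos [1, 2, 3, 4, 5, 3, 1]) (.pos [2, 4, 6, 8, 10, 6, 1]) (.pos [1, 2, 3, 4, 5, 3, 1]) (.pos [3, 6, 9, 12, 15, 9, 1]) (.pos [1, 2, 3, 4, 5, 3, 1])) (.pos [2, 4, 6, 8, 10, 5, 2]) (.pos [2, 4, 6, 8, 10, 5, 1]) (.pos [2, 4, 6, 8, 10, 5, 2]) (.pos [6, 12, 18, 24, 30, 15, 2]) (.pos [2, 4, 6, 8, 10, 5, 2])) (.pos [1, 2, 3, 4, 4, 2, 1]) (.pos [2, 4, 6, 8, 8, 4, 1]) (.pos [1, 2, 3, 4, 4, 2, 1]) (.pos [3, 6, 9, 12, 12, 6, 1]) (.pos [1, 2, 3, 4, 4, 2, 1])) (.pos [2, 4, 6, 6, 6, 3, 2]) (.pos [2, 4, 6, 6, 6, 3, 1]) (.pos [2, 4, 6, 6, 6, 3, 2]) (.pos [6, 12, 18, 18, 18, 9, 2]) (.pos [2, 4, 6, 6, 6, 3, 2])) (.pos [1, 2, 2, 2, 2,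 1, 1]) (.pos [2, 4, 4, 4, 4, 2, 1]) (.pos [1, 2, 2, 2, 2, 1, 1]) (.pos [3, 6, 6, 6, 6, 3, 1]) (.pos [1, 2, 2, 2, 2, 1, 1])) (.node (.node (.node (.node (.node (.mat 1 [6, 0, 1, 2, 3, 4, 5]) (.pos [4, 6, 8, 10, 12, 7, 2]) (.pos [6, 10, 14, 18, 22, 13, 2]) (.pos [4, 6, 8, 10, 12, 7, 2]) (.pos [8, 14, 20, 26, 32, 19, 2]) (.pos [4, 6, 8, 10, 12, 7, 2])) (.pos [2, 3, 4, 5, 6, 3, 1]) (.pos [6, 10, 14, 18, 22, 11, 2]) (.pos [2, 3, 4, 5, 6, 3, 1]) (.pos [4, 7, 10, 13, 16, 8, 1]) (.pos [2, 3, 4, 5, 6, 3, 1])) (.pos [4, 6, 8, 10, 10, 5, 2]) (.pos [6, 10, 14, 18, 18, 9, 2]) (.pos [4, 6, 8, 10, 10, 5, 2]) (.pos [8, 14, 20, 26, 26, 13, 2]) (.pos [4, 6, 8, 10, 10, 5, 2])) (.pos [2, 3, 4, 4, 4, 2, 1]) (.pos [6, 10, 14, 14, 14, 7, 2]) (.pos [2, 3, 4,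 4, 4, 2, 1]) (.pos [4, 7, 10, 10, 10, 5, 1]) (.pos [2, 3, 4, 4, 4, 2, 1])) (.pos [4, 6, 6, 6, 6, 3, 2]) (.pos [6, 10, 10, 10, 10, 5, 2]) (.pos [4, 6, 6, 6, 6, 3, 2]) (.pos [8, 14, 14, 14, 14, 7, 2]) (.pos [4, 6, 6, 6, 6, 3, 2])) (.pos [2, 2, 2, 2, 2, 1, 1]) (.pos [2, 2, 2, 2, 2, 1, 2]) (.pos [6, 6, 6, 6, 6, 3, 2]) (.pos [2, 2, 2, 2, 2, 1, 2])),
  (.node (.node (.node (.node (.node (.node .zero (.pos [1, 2, 3, 4, 5, 6, 2]) (.pos [1, 2, 3, 4, 5, 6, 1]) (.pos [1, 2, 3, 4, 5, 6, 2]) (.pos [3, 6, 9, 12, 15, 18, 2]) (.pos [1, 2, 3, 4, 5, 6, 2])) (.pos [1, 2, 3, 4, 5, 5, 1]) (.pos [2, 4, 6, 8, 10, 10, 1]) (.pos [1, 2, 3, 4, 5, 5, 1]) (.pos [3, 6, 9, 12, 15, 15, 1]) (.pos [1, 2, 3, 4, 5, 5, 1])) (.pos [1, 2, 3, 4, 4, 4, 1]) (.pos [2, 4, 6, 8,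 8, 8, 1]) (.pos [1, 2, 3, 4, 4, 4, 1]) (.pos [3, 6, 9, 12, 12, 12, 1]) (.pos [1, 2, 3, 4, 4, 4, 1])) (.pos [1, 2, 3, 3, 3, 3, 1]) (.pos [2, 4, 6, 6, 6, 6, 1]) (.pos [1, 2, 3, 3, 3, 3, 1]) (.pos [3, 6, 9, 9, 9, 9, 1]) (.pos [1, 2, 3, 3, 3, 3, 1])) (.pos [1, 2, 2, 2, 2, 2, 1]) (.pos [2, 4, 4, 4, 4, 4, 1]) (.pos [1, 2, 2, 2, 2, 2, 1]) (.pos [3, 6, 6, 6, 6, 6, 1]) (.pos [1, 2, 2, 2, 2, 2, 1])) (.node (.node (.node (.node (.node (.mat 2 [6, 0, 1, 2, 3, 4, 5]) (.pos [3, 4, 5, 6, 7, 8, 2]) (.pos [2, 3, 4, 5, 6, 7, 1]) (.pos [3, 4, 5, 6, 7, 8, 2]) (.pos [5, 8, 11, 14, 17, 20, 2]) (.pos [3, 4, 5, 6, 7, 8, 2])) (.pos [2, 3, 4, 5, 6, 6, 1]) (.pos [3, 5, 7, 9, 11, 11, 1]) (.pos [2, 3, 4, 5, 6, 6, 1]) (.pos [4, 7, 10, 13, 16, 16, 1]) (.pos [2, 3, 4,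 5, 6, 6, 1])) (.pos [2, 3, 4, 5, 5, 5, 1]) (.pos [3, 5, 7, 9, 9, 9, 1]) (.pos [2, 3, 4, 5, 5, 5, 1]) (.pos [4, 7, 10, 13, 13, 13, 1]) (.pos [2, 3, 4, 5, 5, 5, 1])) (.pos [2, 3, 4, 4, 4, 4, 1]) (.pos [3, 5, 7, 7, 7, 7, 1]) (.pos [2, 3, 4, 4, 4, 4, 1]) (.pos [4, 7, 10, 10, 10, 10, 1]) (.pos [2, 3, 4, 4, 4, 4, 1])) (.pos [2, 3, 3, 3, 3, 3, 1]) (.pos [3, 5, 5, 5, 5, 5, 1]) (.pos [2, 3, 3, 3, 3, 3, 1]) (.pos [4, 7, 7, 7, 7, 7, 1]) (.pos [2, 3, 3, 3, 3, 3, 1])) (.pos [2, 2, 2, 2, 2, 2, 1]) (.pos [1, 1, 1, 1, 1, 1, 1]) (.pos [3, 3, 3, 3, 3, 3, 1]) (.pos [1, 1, 1, 1, 1, 1, 1])),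
  (.node (.node (.node (.node (.node (.node .zero (.mat 4 [0, 1, 2, 3, 5, 6, 4]) (.pos [1, 2, 3, 4, 2, 3, 1]) (.pos [1, 2, 3, 4, 2, 3, 2]) (.pos [3, 6, 9, 12, 6, 9, 2]) (.pos [1, 2, 3, 4, 2, 3, 2])) (.node (.mat 4 [0, 1, 2, 3, 4, 6, 5]) (.pos [2, 4, 6, 8, 5, 5, 2]) (.pos [3, 6, 9, 12, 7, 8, 2]) (.pos [2, 4, 6, 8, 5, 5, 2]) (.pos [4, 8, 12, 16, 9, 11, 2]) (.pos [2, 4, 6, 8, 5, 5, 2])) (.pos [1, 2, 3, 4, 3, 2, 1]) (.pos [1, 2, 3, 4, 3, 2, 2]) (.pos [3, 6, 9, 12, 9, 6, 2]) (.pos [1, 2, 3, 4, 3, 2, 2])) (.pos [1, 2, 3, 4, 2, 2, 1]) (.pos [2, 4, 6, 8, 4, 4, 1]) (.pos [1, 2, 3, 4, 2, 2, 1]) (.pos [3, 6, 9, 12, 6, 6, 1]) (.pos [1, 2, 3, 4, 2, 2, 1])) (.pos [2, 4, 6, 6, 3, 3, 2]) (.pos [2, 4, 6, 6, 3, 3, 1]) (.pos [2, 4, 6, 6, 3, 3, 2]) (.pos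 [6, 12, 18, 18, 9, 9, 2]) (.pos [2, 4, 6, 6, 3, 3, 2])) (.pos [1, 2, 2, 2, 1, 1, 1]) (.pos [2, 4, 4, 4, 2, 2, 1]) (.pos [1, 2, 2, 2, 1, 1, 1]) (.pos [3, 6, 6, 6, 3, 3, 1]) (.pos [1, 2, 2, 2, 1, 1, 1])) (.node (.node (.node (.node (.node (.mat 3 [6, 0, 1, 2, 3, 4, 5]) (.pos [3, 4, 5, 6, 3, 4, 2]) (.pos [4, 6, 8, 10, 5, 7, 2]) (.pos [3, 4, 5, 6, 3, 4, 2]) (.pos [5, 8, 11, 14, 7, 10, 2]) (.pos [3, 4, 5, 6, 3, 4, 2])) (.pos [3, 4, 5, 6, 4, 3, 2]) (.pos [4, 6, 8, 10, 7, 5, 2]) (.pos [3, 4, 5, 6, 4, 3, 2]) (.pos [5, 8, 11, 14, 10, 7, 2]) (.pos [3, 4, 5, 6, 4, 3, 2])) (.pos [4, 6, 8, 10, 5, 5, 2]) (.pos [6, 10, 14, 18, 9, 9, 2]) (.pos [4, 6, 8, 10, 5, 5, 2]) (.pos [8, 14, 20, 26, 13, 13, 2]) (.pos [4, 6, 8, 10, 5, 5, 2])) (.pos [2, 3, 4, 4, 2,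 2, 1]) (.pos [6, 10, 14, 14, 7, 7, 2]) (.pos [2, 3, 4, 4, 2, 2, 1]) (.pos [4, 7, 10, 10, 5, 5, 1]) (.pos [2, 3, 4, 4, 2, 2, 1])) (.pos [4, 6, 6, 6, 3, 3, 2]) (.pos [6, 10, 10, 10, 5, 5, 2]) (.pos [4, 6, 6, 6, 3, 3, 2]) (.pos [8, 14, 14, 14, 7, 7, 2]) (.pos [4, 6, 6, 6, 3, 3, 2])) (.pos [2, 2, 2, 2, 1, 1, 1]) (.pos [2, 2, 2, 2, 1, 1, 2]) (.pos [6, 6, 6, 6, 3, 3, 2]) (.pos [2, 2, 2, 2, 1, 1, 2])),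
  (.node (.node (.node (.node (.node (.node .zero (.pos [1, 2, 3, 2, 1, 2, 1]) (.pos [2, 4, 6, 4, 2, 4, 1]) (.pos [1, 2, 3, 2, 1, 2, 1]) (.pos [3, 6, 9, 6, 3, 6, 1]) (.pos [1, 2, 3, 2, 1, 2, 1])) (.node (.mat 4 [6, 4, 3, 2, 1, 0, 5]) (.pos [5, 10, 15, 11, 7, 9, 3]) (.pos [8, 16, 24, 17, 10, 15, 3]) (.pos [5, 10, 15, 11, 7, 9, 3]) (.pos [11, 22, 33, 23, 13, 21, 3]) (.pos [5, 10, 15, 11, 7, 9, 3])) (.pos [4, 8, 12, 10, 8, 6, 3]) (.pos [2, 4, 6, 5, 4, 3, 3]) (.pos [2, 4, 6, 5, 4, 3, 1]) (.pos [2, 4, 6, 5, 4, 3, 3])) (.pos [4, 8, 12, 10, 5, 6, 3]) (.pos [8, 16, 24, 20, 10, 12, 3]) (.pos [4, 8, 12, 10, 5, 6, 3]) (.pos [4, 8, 12, 10, 5, 6, 1]) (.pos [4, 8, 12, 10, 5, 6, 3])) (.pos [2, 4, 6, 4, 2, 3, 1]) (.pos [4, 8, 12, 8, 4, 6, 1]) (.pos [2,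 4, 6, 4, 2, 3, 1]) (.pos [6, 12, 18, 12, 6, 9, 1]) (.pos [2, 4, 6, 4, 2, 3, 1])) (.pos [5, 10, 12, 8, 4, 6, 3]) (.pos [10, 20, 24, 16, 8, 12, 3]) (.pos [5, 10, 12, 8, 4, 6, 3]) (.pos [5, 10, 12, 8, 4, 6, 1]) (.pos [5, 10, 12, 8, 4, 6, 3])) (.node (.node (.node (.node (.node (.mat 4 [6, 0, 1, 2, 3, 4, 5]) (.pos [7, 11, 15, 10, 5, 9, 3]) (.pos [10, 17, 24, 16, 8, 15, 3]) (.pos [7, 11, 15, 10, 5, 9, 3]) (.pos [13, 23, 33, 22, 11, 21, 3]) (.pos [7, 11, 15, 10, 5, 9, 3])) (.pos [2, 3, 4, 3, 2, 2, 1]) (.pos [8, 13, 18, 14, 10, 9, 3]) (.pos [2, 3, 4, 3, 2, 2, 1]) (.pos [10, 17, 24, 19, 14, 12, 3]) (.pos [2, 3, 4, 3, 2, 2, 1])) (.pos [8, 13, 18, 14, 7, 9, 3]) (.pos [4, 7, 10, 8, 4, 5, 1]) (.pos [8, 13, 18, 14, 7, 9, 3]) (.pos [16, 29, 42, 34,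 17, 21, 3]) (.pos [8, 13, 18, 14, 7, 9, 3])) (.pos [10, 17, 24, 16, 8, 12, 3]) (.pos [16, 29, 42, 28, 14, 21, 3]) (.pos [10, 17, 24, 16, 8, 12, 3]) (.pos [22, 41, 60, 40, 20, 30, 3]) (.pos [10, 17, 24, 16, 8, 12, 3])) (.pos [3, 5, 6, 4, 2, 3, 1]) (.pos [14, 25, 30, 20, 10, 15, 3]) (.pos [3, 5, 6, 4, 2, 3, 1]) (.pos [19, 35, 42, 28, 14, 21, 3]) (.pos [3, 5, 6, 4, 2, 3, 1])) (.pos [8, 10, 12, 8, 4, 6, 3]) (.pos [4, 5, 6, 4, 2, 3, 3]) (.pos [4, 5, 6, 4, 2, 3, 1]) (.pos [4, 5, 6, 4, 2, 3, 3]))]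

def trees7 : List Tree := [
  (.node (.node (.node (.node (.node (.node (.node .zero (.mat 0 [0, 1, 2, 3, 4, 5, 6, 7]) (.mat 1 [0, 1, 2, 3, 4, 5, 6, 7]) (.mat 2 [0, 1, 2, 3, 4, 5, 6, 7]) (.pos [3, 6, 9, 12, 15, 18, 21, 8]) (.pos [1, 2, 3, 4, 5, 6, 7, 8])) (.node (.mat 3 [0, 1, 2, 3, 4, 5, 6, 7]) (.pos [3, 6, 9, 12, 15, 18, 13, 8]) (.pos [1, 2, 3, 4, 5, 6, 5, 2]) (.pos [3, 6, 9, 12, 15, 18, 13, 8]) (.pos [5, 10, 15, 20, 25, 30, 27, 8]) (.pos [3, 6, 9, 12, 15, 18, 13, 8])) (.pos [1, 2, 3, 4, 5, 6, 3, 2]) (.pos [1, 2, 3, 4, 5, 6, 3, 4]) (.pos [3, 6, 9, 12, 15, 18, 9, 4]) (.pos [1, 2, 3, 4, 5, 6, 3, 4])) (.node (.node (.mat 4 [0, 1, 2, 3, 4, 5, 6, 7]) (.pos [1, 2, 3, 4, 5, 4, 3, 2]) (.pos [5, 10, 15, 20, 25, 22, 19, 8]) (.pos [1, 2, 3, 4,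 5, 4, 3, 2]) (.pos [3, 6, 9, 12, 15, 14, 13, 4]) (.pos [1, 2, 3, 4, 5, 4, 3, 2])) (.pos [5, 10, 15, 20, 25, 22, 11, 8]) (.pos [7, 14, 21, 28, 35, 34, 17, 8]) (.pos [5, 10, 15, 20, 25, 22, 11, 8]) (.pos [9, 18, 27, 36, 45, 46, 23, 8]) (.pos [5, 10, 15, 20, 25, 22, 11, 8])) (.pos [3, 6, 9, 12, 15, 10, 5, 4]) (.pos [3, 6, 9, 12, 15, 10, 5, 8]) (.pos [9, 18, 27, 36, 45, 30, 15, 8]) (.pos [3, 6, 9, 12, 15, 10, 5, 8])) (.pos [1, 2, 3, 4, 3, 2, 1, 2]) (.pos [1, 2, 3, 4, 3, 2, 1, 1]) (.pos [1, 2, 3, 4, 3, 2, 1, 2]) (.pos [3, 6, 9, 12, 9, 6, 3, 2]) (.pos [1, 2, 3, 4, 3, 2, 1, 2])) (.node (.node (.node (.node (.mat 4 [6, 5, 4, 3, 2, 1, 0, 7]) (.pos [3, 6, 9, 8, 7, 6, 5, 4]) (.pos [7, 14, 21, 20, 19, 18, 17, 8]) (.pos [3, 6, 9, 8, 7, 6, 5, 4]) (.pos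 [1, 2, 3, 3, 3, 3, 3, 1]) (.pos [3, 6, 9, 8, 7, 6, 5, 4])) (.pos [7, 14, 21, 20, 19, 18, 9, 8]) (.pos [9, 18, 27, 28, 29, 30, 15, 8]) (.pos [7, 14, 21, 20, 19, 18, 9, 8]) (.pos [11, 22, 33, 36, 39, 42, 21, 8]) (.pos [7, 14, 21, 20, 19, 18, 9, 8])) (.pos [1, 2, 3, 3, 3, 2, 1, 1]) (.pos [11, 22, 33, 36, 39, 26, 13, 8]) (.pos [1, 2, 3, 3, 3, 2, 1, 1]) (.pos [7, 14, 21, 24, 27, 18, 9, 4]) (.pos [1, 2, 3, 3, 3, 2, 1, 1])) (.pos [9, 18, 27, 28, 21, 14, 7, 8]) (.pos [13, 26, 39, 44, 33, 22, 11, 8]) (.pos [9, 18, 27, 28, 21, 14, 7, 8]) (.pos [17, 34, 51, 60, 45, 30, 15, 8]) (.pos [9, 18, 27, 28, 21, 14, 7, 8])) (.pos [5, 10, 15, 12, 9, 6, 3, 4]) (.pos [5, 10, 15, 12, 9, 6, 3, 8]) (.pos [15, 30, 45, 36, 27, 18, 9, 8]) (.pos [5, 10, 15, 12, 9, 6,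 3, 8])) (.node (.node (.node (.node (.node (.mat 3 [6, 5, 4, 3, 2, 1, 0, 7]) (.pos [7, 14, 13, 12, 11, 10, 9, 8]) (.pos [1, 2, 2, 2, 2, 2, 2, 1]) (.pos [7, 14, 13, 12, 11, 10, 9, 8]) (.pos [9, 18, 19, 20, 21, 22, 23, 8]) (.pos [7, 14, 13, 12, 11, 10, 9, 8])) (.pos [1, 2, 2, 2, 2, 2, 1, 1]) (.pos [5, 10, 11, 12, 13, 14, 7, 4]) (.pos [1, 2, 2, 2, 2, 2, 1, 1]) (.pos [3, 6, 7, 8, 9, 10, 5, 2]) (.pos [1, 2, 2, 2, 2, 2, 1, 1])) (.pos [9, 18, 19, 20, 21, 14, 7, 8]) (.pos [3, 6, 7, 8, 9, 6, 3, 2]) (.pos [9, 18, 19, 20, 21, 14, 7, 8]) (.pos [15, 30, 37, 44, 51, 34, 17, 8]) (.pos [9, 18, 19, 20, 21, 14, 7, 8])) (.pos [5, 10, 11, 12, 9, 6, 3, 4]) (.pos [7, 14, 17, 20, 15, 10, 5, 4]) (.pos [5, 10, 11, 12, 9, 6, 3, 4]) (.pos [9, 18, 23, 28, 21, 14,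 7, 4]) (.pos [5, 10, 11, 12, 9, 6, 3, 4])) (.pos [11, 22, 25, 20, 15, 10, 5, 8]) (.pos [2, 4, 5, 4, 3, 2, 1, 1]) (.pos [11, 22, 25, 20, 15, 10, 5, 8]) (.pos [21, 42, 55, 44, 33, 22, 11, 8]) (.pos [11, 22, 25, 20, 15, 10, 5, 8])) (.pos [3, 6, 5, 4, 3, 2, 1, 2]) (.pos [3, 6, 5, 4, 3, 2, 1, 4]) (.pos [9, 18, 15, 12, 9, 6, 3, 4]) (.pos [3, 6, 5, 4, 3, 2, 1, 4])) (.node (.node (.node (.node (.node (.node (.mat 0 [6, 5, 4, 3, 2, 1, 0, 7]) (.pos [1, 1, 1, 1, 1, 1, 1, 1]) (.pos [9, 10, 11, 12, 13, 14, 15, 8]) (.pos [1, 1, 1, 1, 1, 1, 1, 1]) (.pos [5, 6, 7, 8, 9, 10, 11, 4]) (.pos [1, 1, 1, 1, 1, 1, 1, 1])) (.pos [9, 10, 11, 12, 13, 14, 7, 8]) (.pos [11, 14, 17, 20, 23, 26, 13, 8]) (.pos [9, 10, 11, 12, 13, 14, 7, 8]) (.pos [13, 18, 23, 28, 33,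 38, 19, 8]) (.pos [9, 10, 11, 12, 13, 14, 7, 8])) (.pos [5, 6, 7, 8, 9, 6, 3, 4]) (.pos [13, 18, 23, 28, 33, 22, 11, 8]) (.pos [5, 6, 7, 8, 9, 6, 3, 4]) (.pos [2, 3, 4, 5, 6, 4, 2, 1]) (.pos [5, 6, 7, 8, 9, 6, 3, 4])) (.pos [11, 14, 17, 20, 15, 10, 5, 8]) (.pos [15, 22, 29, 36, 27, 18, 9, 8]) (.pos [11, 14, 17, 20, 15, 10, 5, 8]) (.pos [19, 30, 41, 52, 39, 26, 13, 8]) (.pos [11, 14, 17, 20, 15, 10, 5, 8])) (.pos [3, 4, 5, 4, 3, 2, 1, 2]) (.pos [17, 26, 35, 28, 21, 14, 7, 8]) (.pos [3, 4, 5, 4, 3, 2, 1, 2]) (.pos [11, 18, 25, 20, 15, 10, 5, 4]) (.pos [3, 4, 5, 4, 3, 2, 1, 2])) (.pos [13, 18, 15, 12, 9, 6, 3, 8]) (.pos [19, 30, 25, 20, 15, 10, 5, 8]) (.pos [13, 18, 15, 12, 9, 6, 3, 8]) (.pos [25, 42, 35, 28, 21, 14, 7, 8]) (.pos [13, 18,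 15, 12, 9, 6, 3, 8])) (.node (.node (.node (.node (.node (.node (.mat 1 [6, 5, 4, 3, 2, 1, 0, 7]) (.pos [15, 14, 13, 12, 11, 10, 9, 8]) (.pos [2, 2, 2, 2, 2, 2, 2, 1]) (.pos [15, 14, 13, 12, 11, 10, 9, 8]) (.pos [17, 18, 19, 20, 21, 22, 23, 8]) (.pos [15, 14, 13, 12, 11, 10, 9, 8])) (.pos [2, 2, 2, 2, 2, 2, 1, 1]) (.pos [9, 10, 11, 12, 13, 14, 7, 4]) (.pos [2, 2, 2, 2, 2, 2, 1, 1]) (.pos [5, 6, 7, 8, 9, 10, 5, 2]) (.pos [2, 2, 2, 2, 2, 2, 1, 1])) (.pos [17, 18, 19, 20, 21, 14, 7, 8]) (.pos [5, 6, 7, 8, 9, 6, 3, 2]) (.pos [17, 18, 19, 20, 21, 14, 7, 8]) (.pos [23, 30, 37, 44, 51, 34, 17, 8]) (.pos [17, 18, 19, 20, 21, 14, 7, 8])) (.pos [9, 10, 11, 12, 9, 6, 3, 4]) (.pos [11, 14, 17, 20, 15, 10, 5, 4]) (.pos [9, 10, 11, 12, 9, 6, 3, 4])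 (.pos [13, 18, 23, 28, 21, 14, 7, 4]) (.pos [9, 10, 11, 12, 9, 6, 3, 4])) (.pos [19, 22, 25, 20, 15, 10, 5, 8]) (.pos [3, 4, 5, 4, 3, 2, 1, 1]) (.pos [19, 22, 25, 20, 15, 10, 5, 8]) (.pos [29, 42, 55, 44, 33, 22, 11, 8]) (.pos [19, 22, 25, 20, 15, 10, 5, 8])) (.pos [5, 6, 5, 4, 3, 2, 1, 2]) (.pos [13, 18, 15, 12, 9, 6, 3, 4]) (.pos [5, 6, 5, 4, 3, 2, 1, 2]) (.pos [4, 6, 5, 4, 3, 2, 1, 1]) (.pos [5, 6, 5, 4, 3, 2, 1, 2])) (.node (.node (.node (.node (.node (.node (.mat 2 [6, 5, 4, 3, 2, 1, 0, 7]) (.pos [1, 1, 1, 1, 1, 1, 1, 1]) (.pos [9, 10, 11, 12, 13, 14, 15, 8]) (.pos [1, 1, 1, 1, 1, 1, 1, 1]) (.pos [5, 6, 7, 8, 9, 10, 11, 4]) (.pos [1, 1, 1, 1, 1, 1, 1, 1])) (.pos [9, 10, 11, 12, 13, 14, 7, 8]) (.pos [11, 14, 17, 20, 23, 26, 13, 8])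 (.pos [9, 10, 11, 12, 13, 14, 7, 8]) (.pos [13, 18, 23, 28, 33, 38, 19, 8]) (.pos [9, 10, 11, 12, 13, 14, 7, 8])) (.pos [5, 6, 7, 8, 9, 6, 3, 4]) (.pos [13, 18, 23, 28, 33, 22, 11, 8]) (.pos [5, 6, 7, 8, 9, 6, 3, 4]) (.pos [2, 3, 4, 5, 6, 4, 2, 1]) (.pos [5, 6, 7, 8, 9, 6, 3, 4])) (.pos [11, 14, 17, 20, 15, 10, 5, 8]) (.pos [15, 22, 29, 36, 27, 18, 9, 8]) (.pos [11, 14, 17, 20, 15, 10, 5, 8]) (.pos [19, 30, 41, 52, 39, 26, 13, 8]) (.pos [11, 14, 17, 20, 15, 10, 5, 8])) (.pos [3, 4, 5, 4, 3, 2, 1, 2]) (.pos [17, 26, 35, 28, 21, 14, 7, 8]) (.pos [3, 4, 5, 4, 3, 2, 1, 2]) (.pos [11, 18, 25, 20, 15, 10, 5, 4]) (.pos [3, 4, 5, 4, 3, 2, 1, 2])) (.pos [13, 18, 15, 12, 9, 6, 3, 8]) (.pos [19, 30, 25, 20, 15, 10, 5, 8]) (.pos [13, 18, 15, 12, 9,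 6, 3, 8]) (.pos [25, 42, 35, 28, 21, 14, 7, 8]) (.pos [13, 18, 15, 12, 9, 6, 3, 8])) (.pos [21, 18, 15, 12, 9, 6, 3, 8]) (.pos [7, 6, 5, 4, 3, 2, 1, 8])),
  (.node (.node (.node (.node (.node (.node (.node .zero (.pos [2, 4, 6, 8, 10, 12, 7, 2]) (.pos [2, 4, 6, 8, 10, 12, 7, 1]) (.pos [2, 4, 6, 8, 10, 12, 7, 2]) (.pos [6, 12, 18, 24, 30, 36, 21, 2]) (.pos [2, 4, 6, 8, 10, 12, 7, 2])) (.pos [1, 2, 3, 4, 5, 6, 3, 1]) (.pos [2, 4, 6, 8, 10, 12, 6, 1]) (.pos [1, 2, 3, 4, 5, 6, 3, 1]) (.pos [3, 6, 9, 12, 15, 18, 9, 1]) (.pos [1, 2, 3, 4, 5, 6, 3, 1])) (.pos [2, 4, 6, 8, 10, 10, 5, 2]) (.pos [2, 4, 6, 8, 10, 10, 5, 1]) (.pos [2, 4, 6, 8, 10, 10, 5, 2]) (.pos [6, 12, 18, 24, 30, 30, 15, 2]) (.pos [2, 4, 6, 8, 10, 10, 5, 2])) (.pos [1, 2, 3, 4,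 4, 4, 2, 1]) (.pos [2, 4, 6, 8, 8, 8, 4, 1]) (.pos [1, 2, 3, 4, 4, 4, 2, 1]) (.pos [3, 6, 9, 12, 12, 12, 6, 1]) (.pos [1, 2, 3, 4, 4, 4, 2, 1])) (.pos [2, 4, 6, 6, 6, 6, 3, 2]) (.pos [2, 4, 6, 6, 6, 6, 3, 1]) (.pos [2, 4, 6, 6, 6, 6, 3, 2]) (.pos [6, 12, 18, 18, 18, 18, 9, 2]) (.pos [2, 4, 6, 6, 6, 6, 3, 2])) (.pos [1, 2, 2, 2, 2, 2, 1, 1]) (.pos [2, 4, 4, 4, 4, 4, 2, 1]) (.pos [1, 2, 2, 2, 2, 2, 1, 1]) (.pos [3, 6, 6, 6, 6, 6, 3, 1]) (.pos [1, 2, 2, 2, 2, 2, 1, 1])) (.node (.node (.node (.node (.node (.node (.mat 1 [7, 0, 1, 2, 3, 4, 5, 6]) (.pos [2, 3, 4, 5, 6, 7, 4, 1]) (.pos [6, 10, 14, 18, 22, 26, 15, 2]) (.pos [2, 3, 4, 5, 6, 7, 4, 1]) (.pos [4, 7, 10, 13, 16, 19, 11, 1]) (.pos [2, 3, 4, 5, 6, 7, 4, 1])) (.pos [4, 6, 8, 10, 12, 14,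 7, 2]) (.pos [6, 10, 14, 18, 22, 26, 13, 2]) (.pos [4, 6, 8, 10, 12, 14, 7, 2]) (.pos [8, 14, 20, 26, 32, 38, 19, 2]) (.pos [4, 6, 8, 10, 12, 14, 7, 2])) (.pos [2, 3, 4, 5, 6, 6, 3, 1]) (.pos [6, 10, 14, 18, 22, 22, 11, 2]) (.pos [2, 3, 4, 5, 6, 6, 3, 1]) (.pos [4, 7, 10, 13, 16, 16, 8, 1]) (.pos [2, 3, 4, 5, 6, 6, 3, 1])) (.pos [4, 6, 8, 10, 10, 10, 5, 2]) (.pos [6, 10, 14, 18, 18, 18, 9, 2]) (.pos [4, 6, 8, 10, 10, 10, 5, 2]) (.pos [8, 14, 20, 26, 26, 26, 13, 2]) (.pos [4, 6, 8, 10, 10, 10, 5, 2])) (.pos [2, 3, 4, 4, 4, 4, 2, 1]) (.pos [6, 10, 14, 14, 14, 14, 7, 2]) (.pos [2, 3, 4, 4, 4, 4, 2, 1]) (.pos [4, 7, 10, 10, 10, 10, 5, 1]) (.pos [2, 3, 4, 4, 4, 4, 2, 1])) (.pos [4, 6, 6, 6, 6, 6, 3, 2]) (.pos [6, 10, 10, 10, 10, 10, 5, 2])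 (.pos [4, 6, 6, 6, 6, 6, 3, 2]) (.pos [8, 14, 14, 14, 14, 14, 7, 2]) (.pos [4, 6, 6, 6, 6, 6, 3, 2])) (.pos [2, 2, 2, 2, 2, 2, 1, 1]) (.pos [2, 2, 2, 2, 2, 2, 1, 2]) (.pos [6, 6, 6, 6, 6, 6, 3, 2]) (.pos [2, 2, 2, 2, 2, 2, 1, 2])),
  (.node (.node (.node (.node (.node (.node (.node .zero (.pos [1, 2, 3, 4, 5, 6, 7, 2]) (.pos [1, 2, 3, 4, 5, 6, 7, 1]) (.pos [1, 2, 3, 4, 5, 6, 7, 2]) (.pos [3, 6, 9, 12, 15, 18, 21, 2]) (.pos [1, 2, 3, 4, 5, 6, 7, 2])) (.pos [1, 2, 3, 4, 5, 6, 6, 1]) (.pos [2, 4, 6, 8, 10, 12, 12, 1]) (.pos [1, 2, 3, 4, 5, 6, 6, 1]) (.pos [3, 6, 9, 12, 15, 18, 18, 1]) (.pos [1, 2, 3, 4, 5, 6, 6, 1])) (.pos [1, 2, 3, 4, 5, 5, 5, 1]) (.pos [2, 4, 6, 8, 10, 10, 10, 1]) (.pos [1, 2, 3, 4, 5, 5, 5, 1]) (.pos [3, 6, 9, 12, 15,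 15, 15, 1]) (.pos [1, 2, 3, 4, 5, 5, 5, 1])) (.pos [1, 2, 3, 4, 4, 4, 4, 1]) (.pos [2, 4, 6, 8, 8, 8, 8, 1]) (.pos [1, 2, 3, 4, 4, 4, 4, 1]) (.pos [3, 6, 9, 12, 12, 12, 12, 1]) (.pos [1, 2, 3, 4, 4, 4, 4, 1])) (.pos [1, 2, 3, 3, 3, 3, 3, 1]) (.pos [2, 4, 6, 6, 6, 6, 6, 1]) (.pos [1, 2, 3, 3, 3, 3, 3, 1]) (.pos [3, 6, 9, 9, 9, 9, 9, 1]) (.pos [1, 2, 3, 3, 3, 3, 3, 1])) (.pos [1, 2, 2, 2, 2, 2, 2, 1]) (.pos [2, 4, 4, 4, 4, 4, 4, 1]) (.pos [1, 2, 2, 2, 2, 2, 2, 1]) (.pos [3, 6, 6, 6, 6, 6, 6, 1]) (.pos [1, 2, 2, 2, 2, 2, 2, 1])) (.node (.node (.node (.node (.node (.node (.mat 2 [7, 0, 1, 2, 3, 4, 5, 6]) (.pos [3, 4, 5, 6, 7, 8, 9, 2]) (.pos [2, 3, 4, 5, 6, 7, 8, 1]) (.pos [3, 4, 5, 6, 7, 8, 9, 2]) (.pos [5, 8, 11, 14, 17, 20, 23, 2]) (.pos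 [3, 4, 5, 6, 7, 8, 9, 2])) (.pos [2, 3, 4, 5, 6, 7, 7, 1]) (.pos [3, 5, 7, 9, 11, 13, 13, 1]) (.pos [2, 3, 4, 5, 6, 7, 7, 1]) (.pos [4, 7, 10, 13, 16, 19, 19, 1]) (.pos [2, 3, 4, 5, 6, 7, 7, 1])) (.pos [2, 3, 4, 5, 6, 6, 6, 1]) (.pos [3, 5, 7, 9, 11, 11, 11, 1]) (.pos [2, 3, 4, 5, 6, 6, 6, 1]) (.pos [4, 7, 10, 13, 16, 16, 16, 1]) (.pos [2, 3, 4, 5, 6, 6, 6, 1])) (.pos [2, 3, 4, 5, 5, 5, 5, 1]) (.pos [3, 5, 7, 9, 9, 9, 9, 1]) (.pos [2, 3, 4, 5, 5, 5, 5, 1]) (.pos [4, 7, 10, 13, 13, 13, 13, 1]) (.pos [2, 3, 4, 5, 5, 5, 5, 1])) (.pos [2, 3, 4, 4, 4, 4, 4, 1]) (.pos [3, 5, 7, 7, 7, 7, 7, 1]) (.pos [2, 3, 4, 4, 4, 4, 4, 1]) (.pos [4, 7, 10, 10, 10, 10, 10, 1]) (.pos [2, 3, 4, 4, 4, 4, 4, 1])) (.pos [2, 3, 3, 3, 3, 3, 3, 1]) (.pos [3, 5, 5,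 5, 5, 5, 5, 1]) (.pos [2, 3, 3, 3, 3, 3, 3, 1]) (.pos [4, 7, 7, 7, 7, 7, 7, 1]) (.pos [2, 3, 3, 3, 3, 3, 3, 1])) (.pos [2, 2, 2, 2, 2, 2, 2, 1]) (.pos [1, 1, 1, 1, 1, 1, 1, 1]) (.pos [3, 3, 3, 3, 3, 3, 3, 1]) (.pos [1, 1, 1, 1, 1, 1, 1, 1])),
  (.node (.node (.node (.node (.node (.node (.node .zero (.mat 4 [0, 1, 2, 3, 4, 6, 7, 5]) (.pos [2, 4, 6, 8, 10, 5, 7, 2]) (.pos [2, 4, 6, 8, 10, 5, 7, 4]) (.pos [6, 12, 18, 24, 30, 15, 21, 4]) (.pos [2, 4, 6, 8, 10, 5, 7, 4])) (.node (.mat 4 [0, 1, 2, 3, 4, 5, 7, 6]) (.pos [1, 2, 3, 4, 5, 3, 3, 1]) (.pos [6, 12, 18, 24, 30, 17, 19, 4]) (.pos [1, 2, 3, 4, 5, 3, 3, 1]) (.pos [4, 8, 12, 16, 20, 11, 13, 2]) (.pos [1, 2, 3, 4, 5, 3, 3, 1])) (.pos [2, 4, 6, 8, 10, 7, 5, 2]) (.pos [2, 4, 6, 8, 10, 7, 5,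 4]) (.pos [6, 12, 18, 24, 30, 21, 15, 4]) (.pos [2, 4, 6, 8, 10, 7, 5, 4])) (.pos [2, 4, 6, 8, 10, 5, 5, 2]) (.pos [2, 4, 6, 8, 10, 5, 5, 1]) (.pos [2, 4, 6, 8, 10, 5, 5, 2]) (.pos [6, 12, 18, 24, 30, 15, 15, 2]) (.pos [2, 4, 6, 8, 10, 5, 5, 2])) (.pos [1, 2, 3, 4, 4, 2, 2, 1]) (.pos [2, 4, 6, 8, 8, 4, 4, 1]) (.pos [1, 2, 3, 4, 4, 2, 2, 1]) (.pos [3, 6, 9, 12, 12, 6, 6, 1]) (.pos [1, 2, 3, 4, 4, 2, 2, 1])) (.pos [2, 4, 6, 6, 6, 3, 3, 2]) (.pos [2, 4, 6, 6, 6, 3, 3, 1]) (.pos [2, 4, 6, 6, 6, 3, 3, 2]) (.pos [6, 12, 18, 18, 18, 9, 9, 2]) (.pos [2, 4, 6, 6, 6, 3, 3, 2])) (.pos [1, 2, 2, 2, 2, 1, 1, 1]) (.pos [2, 4, 4, 4, 4, 2, 2, 1]) (.pos [1, 2, 2, 2, 2, 1, 1, 1]) (.pos [3, 6, 6, 6, 6, 3, 3, 1]) (.pos [1, 2, 2, 2, 2, 1, 1, 1])) (.node (.node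 (.node (.node (.node (.node (.mat 3 [7, 0, 1, 2, 3, 4, 5, 6]) (.pos [6, 8, 10, 12, 14, 7, 9, 4]) (.pos [2, 3, 4, 5, 6, 3, 4, 1]) (.pos [6, 8, 10, 12, 14, 7, 9, 4]) (.pos [10, 16, 22, 28, 34, 17, 23, 4]) (.pos [6, 8, 10, 12, 14, 7, 9, 4])) (.pos [6, 8, 10, 12, 14, 9, 7, 4]) (.pos [2, 3, 4, 5, 6, 4, 3, 1]) (.pos [6, 8, 10, 12, 14, 9, 7, 4]) (.pos [10, 16, 22, 28, 34, 23, 17, 4]) (.pos [6, 8, 10, 12, 14, 9, 7, 4])) (.pos [2, 3, 4, 5, 6, 3, 3, 1]) (.pos [6, 10, 14, 18, 22, 11, 11, 2]) (.pos [2, 3, 4, 5, 6, 3, 3, 1]) (.pos [4, 7, 10, 13, 16, 8, 8, 1]) (.pos [2, 3, 4, 5, 6, 3, 3, 1])) (.pos [4, 6, 8, 10, 10, 5, 5, 2]) (.pos [6, 10, 14, 18, 18, 9, 9, 2]) (.pos [4, 6, 8, 10, 10, 5, 5, 2]) (.pos [8, 14, 20, 26, 26, 13, 13, 2]) (.pos [4, 6, 8, 10,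 10, 5, 5, 2])) (.pos [2, 3, 4, 4, 4, 2, 2, 1]) (.pos [6, 10, 14, 14, 14, 7, 7, 2]) (.pos [2, 3, 4, 4, 4, 2, 2, 1]) (.pos [4, 7, 10, 10, 10, 5, 5, 1]) (.pos [2, 3, 4, 4, 4, 2, 2, 1])) (.pos [4, 6, 6, 6, 6, 3, 3, 2]) (.pos [6, 10, 10, 10, 10, 5, 5, 2]) (.pos [4, 6, 6, 6, 6, 3, 3, 2]) (.pos [8, 14, 14, 14, 14, 7, 7, 2]) (.pos [4, 6, 6, 6, 6, 3, 3, 2])) (.pos [2, 2, 2, 2, 2, 1, 1, 1]) (.pos [2, 2, 2, 2, 2, 1, 1, 2]) (.pos [6, 6, 6, 6, 6, 3, 3, 2]) (.pos [2, 2, 2, 2, 2, 1, 1, 2])),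
  (.node (.node (.node (.node (.node (.node (.node .zero (.pos [3, 6, 9, 12, 8, 4, 7, 2]) (.pos [3, 6, 9, 12, 8, 4, 7, 1]) (.pos [3, 6, 9, 12, 8, 4, 7, 2]) (.pos [9, 18, 27, 36, 24, 12, 21, 2]) (.pos [3, 6, 9, 12, 8, 4, 7, 2])) (.pos [1, 2, 3, 4, 3, 2, 2, 1]) (.pos [2, 4, 6, 8, 6, 4, 4, 1]) (.pos [1, 2, 3, 4, 3, 2, 2, 1]) (.pos [3, 6, 9, 12, 9, 6, 6, 1]) (.pos [1, 2, 3, 4, 3, 2, 2, 1])) (.pos [2, 4, 6, 8, 6, 3, 4, 1]) (.pos [4, 8, 12, 16, 12, 6, 8, 1]) (.pos [2, 4, 6, 8, 6, 3, 4, 1]) (.pos [6, 12, 18, 24, 18, 9, 12, 1]) (.pos [2, 4, 6, 8, 6, 3, 4, 1])) (.pos [3, 6, 9, 12, 8, 4, 6, 1]) (.pos [6, 12, 18, 24, 16, 8, 12, 1]) (.pos [3, 6, 9, 12, 8, 4, 6, 1]) (.pos [9, 18, 27, 36, 24, 12, 18, 1]) (.pos [3, 6, 9, 12, 8, 4, 6, 1])) (.pos [5, 10,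 15, 18, 12, 6, 9, 2]) (.pos [5, 10, 15, 18, 12, 6, 9, 1]) (.pos [5, 10, 15, 18, 12, 6, 9, 2]) (.pos [15, 30, 45, 54, 36, 18, 27, 2]) (.pos [5, 10, 15, 18, 12, 6, 9, 2])) (.pos [2, 4, 5, 6, 4, 2, 3, 1]) (.pos [4, 8, 10, 12, 8, 4, 6, 1]) (.pos [2, 4, 5, 6, 4, 2, 3, 1]) (.pos [6, 12, 15, 18, 12, 6, 9, 1]) (.pos [2, 4, 5, 6, 4, 2, 3, 1])) (.node (.node (.node (.node (.node (.node (.mat 4 [7, 0, 1, 2, 3, 4, 5, 6]) (.pos [3, 5, 7, 9, 6, 3, 5, 1]) (.pos [9, 16, 23, 30, 20, 10, 17, 2]) (.pos [3, 5, 7, 9, 6, 3, 5, 1]) (.pos [6, 11, 16, 21, 14, 7, 12, 1]) (.pos [3, 5, 7, 9, 6, 3, 5, 1])) (.pos [5, 8, 11, 14, 10, 6, 7, 2]) (.pos [7, 12, 17, 22, 16, 10, 11, 2]) (.pos [5, 8, 11, 14, 10, 6, 7, 2]) (.pos [9, 16, 23, 30, 22, 14, 15, 2]) (.pos [5, 8, 11,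 14, 10, 6, 7, 2])) (.pos [7, 12, 17, 22, 16, 8, 11, 2]) (.pos [11, 20, 29, 38, 28, 14, 19, 2]) (.pos [7, 12, 17, 22, 16, 8, 11, 2]) (.pos [15, 28, 41, 54, 40, 20, 27, 2]) (.pos [7, 12, 17, 22, 16, 8, 11, 2])) (.pos [9, 16, 23, 30, 20, 10, 15, 2]) (.pos [15, 28, 41, 54, 36, 18, 27, 2]) (.pos [9, 16, 23, 30, 20, 10, 15, 2]) (.pos [21, 40, 59, 78, 52, 26, 39, 2]) (.pos [9, 16, 23, 30, 20, 10, 15, 2])) (.pos [4, 7, 10, 12, 8, 4, 6, 1]) (.pos [13, 24, 35, 42, 28, 14, 21, 2]) (.pos [4, 7, 10, 12, 8, 4, 6, 1]) (.pos [9, 17, 25, 30, 20, 10, 15, 1]) (.pos [4, 7, 10, 12, 8, 4, 6, 1])) (.pos [7, 12, 15, 18, 12, 6, 9, 2]) (.pos [11, 20, 25, 30, 20, 10, 15, 2]) (.pos [7, 12, 15, 18, 12, 6, 9, 2]) (.pos [15, 28, 35, 42, 28, 14, 21, 2]) (.pos [7, 12,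 15, 18, 12, 6, 9, 2])) (.pos [3, 4, 5, 6, 4, 2, 3, 1]) (.pos [3, 4, 5, 6, 4, 2, 3, 2]) (.pos [9, 12, 15, 18, 12, 6, 9, 2]) (.pos [3, 4, 5, 6, 4, 2, 3, 2]))]

set_option maxRecDepth 100000 in
theorem check1 : ∀ idx < F1.length,
    check false (F1.getD idx []) 1 F2 (trees1.getD idx Tree.zero) [] = true := by
  decide +kernel

set_option maxRecDepth 100000 in
theorem check2 : ∀ idx < F2.length,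
    check false (F2.getD idx []) 2 F3 (trees2.getD idx Tree.zero) [] = true := by
  decide +kernel

set_option maxRecDepth 100000 in
theorem check3 : ∀ idx < F3.length,
    check false (F3.getD idx []) 3 F4 (trees3.getD idx Tree.zero) [] = true := by
  decide +kernel

set_option maxRecDepth 100000 in
theorem check4 : ∀ idx < F4.length,
    check false (F4.getD idx []) 4 F5 (trees4.getD idx Tree.zero) [] = true := by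
  decide +kernel

set_option maxRecDepth 100000 in
theorem check5 : ∀ idx < F5.length,
    check false (F5.getD idx []) 5 F6 (trees5.getD idx Tree.zero) [] = true := by
  decide +kernel

set_option maxRecDepth 100000 in
theorem check6 : ∀ idx < F6.length,
    check false (F6.getD idx []) 6 F7 (trees6.getD idx Tree.zero) [] = true := by
  decide +kernel

set_option maxRecDepth 100000 in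
theorem check7 : ∀ idx < F7.length,
    check false (F7.getD idx []) 7 F8 (trees7.getD idx Tree.zero) [] = true := by
  decide +kernel

variable {n : ℕ} (T : Models.NumericalType n)

theorem claim1 (hm2 : ∀ i, T.IsMinusTwo i) : Claim T 1 F1 := claim_one T hm2

theorem claim2 (hn3 : 3 ≤ n) (hm2 : ∀ i, T.IsMinusTwo i) (h : 2 < n) : Claim T 2 F2 :=
  step T hn3 hm2 1 (by norm_num) false (by simp; omega) F1 F2 trees1 check1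
    (claim1 T hm2)

theorem claim3 (hn3 : 3 ≤ n) (hm2 : ∀ i, T.IsMinusTwo i) (h : 3 < n) : Claim T 3 F3 :=
  step T hn3 hm2 2 (by norm_num) false (by simp; omega) F2 F3 trees2 check2
    (claim2 T hn3 hm2 (by omega))

theorem claim4 (hn3 : 3 ≤ n) (hm2 : ∀ i, T.IsMinusTwo i) (h : 4 < n) : Claim T 4 F4 :=
  step T hn3 hm2 3 (by norm_num) false (by simp; omega) F3 F4 trees3 check3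
    (claim3 T hn3 hm2 (by omega))

theorem claim5 (hn3 : 3 ≤ n) (hm2 : ∀ i, T.IsMinusTwo i) (h : 5 < n) : Claim T 5 F5 :=
  step T hn3 hm2 4 (by norm_num) false (by simp; omega) F4 F5 trees4 check4
    (claim4 T hn3 hm2 (by omega))

theorem claim6 (hn3 : 3 ≤ n) (hm2 : ∀ i, T.IsMinusTwo i) (h : 6 < n) : Claim T 6 F6 :=
  step T hn3 hm2 5 (by norm_num) false (by simp; omega) F5 F6 trees5 check5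
    (claim5 T hn3 hm2 (by omega))

theorem claim7 (hn3 : 3 ≤ n) (hm2 : ∀ i, T.IsMinusTwo i) (h : 7 < n) : Claim T 7 F7 :=
  step T hn3 hm2 6 (by norm_num) false (by simp; omega) F6 F7 trees6 check6
    (claim6 T hn3 hm2 (by omega))

theorem claim8 (hn3 : 3 ≤ n) (hm2 : ∀ i, T.IsMinusTwo i) (h : 8 < n) : Claim T 8 F8 :=
  step T hn3 hm2 7 (by norm_num) false (by simp; omega) F7 F8 trees7 check7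
    (claim7 T hn3 hm2 (by omega))

end Groth.Agent.Lib.Helper24.NumTypeData
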