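import Mathlib
import Groth.Prelude.Def_Models
import Groth.Agent.Lib.Helper24.NumTypeEngine
import Groth.Agent.Lib.Helper24.NumTypeGlue
import Groth.Agent.Lib.Helper24.NumTypeData

/-! # Genus-one numerical types on 4 indices: the Cartan matrix is one of the listed ones
(generated by a script). -/

set_option autoImplicit false

namespace Groth.Agent.Lib.Helper24.NumTypeAff4

open Models
open Groth.Agent.Lib.Helper24.NumTypeEngine Groth.Agent.Lib.Helper24.NumTypeGlue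
open Groth.Agent.Lib.Helper24.NumTypeData

def typesC : List (List (List ℤ)) := [[[-2, 1, 0, 1], [1, -2, 1, 0], [0, 1, -2, 1], [1, 0, 1, -2]], [[-2, 2, 0, 0], [1, -2, 1, 0], [0, 1, -2, 2], [0, 0, 1, -2]], [[-2, 2, 0, 0], [1, -2, 1, 0], [0, 1, -2, 1], [0, 0, 2, -2]], [[-2, 1, 0, 0], [2, -2, 1, 0], [0, 1, -2, 2], [0, 0, 1, -2]], [[-2, 1, 1, 2], [1, -2, 0, 0], [1, 0, -2, 0], [1, 0, 0, -2]], [[-2, 1, 1, 1], [1, -2, 0, 0], [1, 0, -2, 0], [2, 0, 0, -2]]]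

def atrees : List Tree := [
  (.node (.node (.node .zero (.neg [2, 3, 3, 2]) (.neg [4, 7, 9, 5]) (.neg [7, 12, 15, 16]) (.pos [3, 6, 9, 4]) (.pos [1, 2, 3, 4])) (.node (.neg [3, 5, 3, 3]) (.pos [3, 6, 5, 4]) (.pos [1, 2, 2, 1]) (.pos [3, 6, 5, 4]) (.pos [5, 10, 11, 4]) (.pos [3, 6, 5, 4])) (.node (.mat 5 [1, 0, 2, 3]) (.pos [5, 10, 7, 4]) (.pos [3, 6, 5, 2]) (.pos [5, 10, 7, 4]) (.pos [7, 14, 13, 4]) (.pos [5, 10, 7, 4])) (.node (.mat 4 [1, 0, 2, 3]) (.pos [3, 6, 5, 4]) (.pos [1, 2, 2, 1]) (.pos [3, 6, 5, 4]) (.pos [5, 10, 11, 4]) (.pos [3, 6, 5, 4])) (.pos [3, 6, 3, 2]) (.pos [1, 2, 1, 2])) (.node (.node (.neg [3, 3, 2, 2]) (.mat 0 [0, 1, 2, 3]) (.pos [5, 6, 7, 4]) (.pos [1, 1, 1, 1]) (.pos [3, 4, 5, 2]) (.pos [1, 1, 1, 1])) (.pos [5, 6, 3, 4]) (.pos [7, 10, 5, 4]) (.pos [5, 6, 3, 4]) (.pos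 [9, 14, 7, 4]) (.pos [5, 6, 3, 4])) (.node (.node (.neg [9, 7, 4, 5]) (.pos [7, 6, 5, 4]) (.pos [2, 2, 2, 1]) (.pos [7, 6, 5, 4]) (.pos [9, 10, 11, 4]) (.pos [7, 6, 5, 4])) (.pos [2, 2, 1, 1]) (.pos [5, 6, 3, 2]) (.pos [2, 2, 1, 1]) (.pos [3, 4, 2, 1]) (.pos [2, 2, 1, 1])) (.node (.node (.neg [15, 12, 7, 16]) (.pos [1, 1, 1, 1]) (.pos [5, 6, 7, 4]) (.pos [1, 1, 1, 1]) (.pos [3, 4, 5, 2]) (.pos [1, 1, 1, 1])) (.pos [5, 6, 3, 4]) (.pos [7, 10, 5, 4]) (.pos [5, 6, 3, 4]) (.pos [9, 14, 7, 4]) (.pos [5, 6, 3, 4])) (.pos [9, 6, 3, 4]) (.pos [3, 2, 1, 4])),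
  (.node (.node (.node .zero (.neg [11, 21, 15, 8]) (.pos [2, 4, 3, 1]) (.pos [2, 4, 3, 2]) (.pos [6, 12, 9, 2]) (.pos [2, 4, 3, 2])) (.node (.mat 5 [1, 0, 3, 2]) (.pos [4, 8, 5, 2]) (.pos [3, 6, 4, 1]) (.pos [4, 8, 5, 2]) (.pos [8, 16, 11, 2]) (.pos [4, 8, 5, 2])) (.pos [2, 4, 2, 1]) (.pos [1, 2, 1, 1]) (.pos [3, 6, 3, 1]) (.pos [1, 2, 1, 1])) (.node (.node (.neg [7, 9, 5, 4]) (.pos [2, 3, 2, 1]) (.pos [6, 10, 7, 2]) (.pos [2, 3, 2, 1]) (.pos [4, 7, 5, 1]) (.pos [2, 3, 2, 1])) (.pos [4, 6, 3, 2]) (.pos [6, 10, 5, 2]) (.pos [4, 6, 3, 2]) (.pos [8, 14, 7, 2]) (.pos [4, 6, 3, 2])) (.node (.node (.mat 2 [2, 1, 0, 3]) (.pos [6, 8, 5, 2]) (.pos [4, 6, 4, 1]) (.pos [6, 8, 5, 2]) (.pos [10, 16, 11, 2]) (.pos [6, 8, 5, 2])) (.pos [3, 4, 2, 1]) (.pos [4, 6, 3, 1]) (.pos [3, 4, 2, 1]) (.pos [5, 8, 4,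 1]) (.pos [3, 4, 2, 1])) (.node (.node (.mat 1 [2, 1, 0, 3]) (.pos [2, 3, 2, 1]) (.pos [6, 10, 7, 2]) (.pos [2, 3, 2, 1]) (.pos [4, 7, 5, 1]) (.pos [2, 3, 2, 1])) (.pos [4, 6, 3, 2]) (.pos [6, 10, 5, 2]) (.pos [4, 6, 3, 2]) (.pos [8, 14, 7, 2]) (.pos [4, 6, 3, 2])) (.pos [6, 6, 3, 2]) (.pos [2, 2, 1, 2])),
  (.node (.node (.node .zero (.neg [8, 15, 21, 11]) (.pos [1, 2, 3, 1]) (.pos [1, 2, 3, 2]) (.pos [3, 6, 9, 2]) (.pos [1, 2, 3, 2])) (.node (.mat 4 [1, 0, 3, 2]) (.pos [3, 6, 7, 2]) (.pos [2, 4, 5, 1]) (.pos [3, 6, 7, 2]) (.pos [5, 10, 13, 2]) (.pos [3, 6, 7, 2])) (.pos [2, 4, 4, 1]) (.pos [1, 2, 2, 1]) (.pos [3, 6, 6, 1]) (.pos [1, 2, 2, 1])) (.node (.node (.neg [12, 15, 16, 7]) (.pos [3, 4, 5, 2]) (.pos [2, 3, 4, 1]) (.pos [3, 4, 5, 2]) (.pos [5, 8, 11, 2]) (.pos [3, 4, 5, 2])) (.pos [2,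 3, 3, 1]) (.pos [3, 5, 5, 1]) (.pos [2, 3, 3, 1]) (.pos [4, 7, 7, 1]) (.pos [2, 3, 3, 1])) (.node (.node (.mat 1 [3, 0, 1, 2]) (.pos [5, 6, 7, 2]) (.pos [3, 4, 5, 1]) (.pos [5, 6, 7, 2]) (.pos [7, 10, 13, 2]) (.pos [5, 6, 7, 2])) (.pos [3, 4, 4, 1]) (.pos [4, 6, 6, 1]) (.pos [3, 4, 4, 1]) (.pos [5, 8, 8, 1]) (.pos [3, 4, 4, 1])) (.node (.node (.mat 3 [2, 1, 0, 3]) (.pos [3, 4, 5, 2]) (.pos [2, 3, 4, 1]) (.pos [3, 4, 5, 2]) (.pos [5, 8, 11, 2]) (.pos [3, 4, 5, 2])) (.pos [2, 3, 3, 1]) (.pos [3, 5, 5, 1]) (.pos [2, 3, 3, 1]) (.pos [4, 7, 7, 1]) (.pos [2, 3, 3, 1])) (.pos [3, 3, 3, 1]) (.pos [1, 1, 1, 1]))]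

set_option maxRecDepth 100000 in
theorem acheck : ∀ idx < F3.length,
    check true (F3.getD idx []) 3 typesC (atrees.getD idx Tree.zero) [] = true := by
  decide +kernel

theorem claimTop (T : Models.NumericalType 4) (hm2 : ∀ i, T.IsMinusTwo i) : Claim T 4 typesC :=
  step T (by norm_num) hm2 3 (by norm_num) true (by simp) F3 typesC atrees acheck
    (claim3 T (by norm_num) hm2 (by norm_num))

end Groth.Agent.Lib.Helper24.NumTypeAff4
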