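import Mathlib
import Groth.Prelude.Def_Models
import Groth.Agent.Lib.Helper24.NumTypeEngine
import Groth.Agent.Lib.Helper24.NumTypeGlue
import Groth.Agent.Lib.Helper24.NumTypeData

/-! # Genus-one numerical types on 5 indices: the Cartan matrix is one of the listed ones
(generated by a script). -/

set_option autoImplicit false

namespace Groth.Agent.Lib.Helper24.NumTypeAff5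

open Models
open Groth.Agent.Lib.Helper24.NumTypeEngine Groth.Agent.Lib.Helper24.NumTypeGlue
open Groth.Agent.Lib.Helper24.NumTypeData

def typesC : List (List (List ℤ)) := [[[-2, 1, 0, 0, 1], [1, -2, 1, 0, 0], [0, 1, -2, 1, 0], [0, 0, 1, -2, 1], [1, 0, 0, 1, -2]], [[-2, 1, 0, 0, 0], [1, -2, 1, 0, 0], [0, 1, -2, 2, 0], [0, 0, 1, -2, 1], [0, 0, 0, 1, -2]], [[-2, 1, 0, 0, 0], [1, -2, 1, 0, 0], [0, 1, -2, 1, 0], [0, 0, 2, -2, 1], [0, 0, 0, 1, -2]], [[-2, 2, 0, 0, 0], [1, -2, 1, 0, 0], [0, 1, -2, 1, 0], [0, 0, 1, -2, 2], [0, 0, 0, 1, -2]], [[-2, 2, 0, 0, 0], [1, -2, 1, 0, 0], [0, 1, -2, 1, 0], [0, 0, 1, -2, 1], [0, 0, 0, 2, -2]], [[-2, 1, 0, 0, 0], [2, -2, 1, 0, 0], [0, 1, -2, 1, 0], [0, 0, 1, -2, 2], [0, 0, 0, 1, -2]], [[-2, 1, 1, 1, 1], [1, -2,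 0, 0, 0], [1, 0, -2, 0, 0], [1, 0, 0, -2, 0], [1, 0, 0, 0, -2]], [[-2, 1, 0, 0, 0], [2, -2, 1, 0, 0], [0, 1, -2, 1, 1], [0, 0, 1, -2, 0], [0, 0, 1, 0, -2]], [[-2, 2, 0, 0, 0], [1, -2, 1, 0, 0], [0, 1, -2, 1, 1], [0, 0, 1, -2, 0], [0, 0, 1, 0, -2]]]

def atrees : List Tree := [
  (.node (.node (.node (.node .zero (.neg [5, 8, 9, 8, 5]) (.neg [10, 18, 24, 28, 15]) (.neg [9, 16, 21, 24, 25]) (.pos [3, 6, 9, 12, 5]) (.pos [1, 2, 3, 4, 5])) (.node (.neg [4, 7, 9, 5, 5]) (.pos [3, 6, 9, 7, 5]) (.pos [4, 8, 12, 11, 5]) (.pos [3, 6, 9, 7, 5]) (.pos [1, 2, 3, 3, 1]) (.pos [3, 6, 9, 7, 5])) (.pos [4, 8, 12, 6, 5]) (.pos [2, 4, 6, 3, 5]) (.pos [6, 12, 18, 9, 5]) (.pos [2, 4, 6, 3, 5])) (.node (.node (.neg [5, 9, 7, 4, 5]) (.pos [4, 8, 7, 6, 5]) (.pos [1,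 2, 2, 2, 1]) (.pos [4, 8, 7, 6, 5]) (.pos [6, 12, 13, 14, 5]) (.pos [4, 8, 7, 6, 5])) (.pos [1, 2, 2, 1, 1]) (.pos [7, 14, 16, 8, 5]) (.pos [1, 2, 2, 1, 1]) (.pos [9, 18, 22, 11, 5]) (.pos [1, 2, 2, 1, 1])) (.pos [6, 12, 8, 4, 5]) (.pos [3, 6, 4, 2, 5]) (.pos [9, 18, 12, 6, 5]) (.pos [3, 6, 4, 2, 5])) (.node (.node (.node (.neg [8, 9, 8, 5, 5]) (.mat 0 [0, 1, 2, 3, 4]) (.pos [6, 7, 8, 9, 5]) (.pos [1, 1, 1, 1, 1]) (.pos [7, 9, 11, 13, 5]) (.pos [1, 1, 1, 1, 1])) (.pos [6, 7, 8, 4, 5]) (.pos [8, 11, 14, 7, 5]) (.pos [6, 7, 8, 4, 5]) (.pos [2, 3, 4, 2, 1]) (.pos [6, 7, 8, 4, 5])) (.pos [7, 9, 6, 3, 5]) (.pos [2, 3, 2, 1, 1]) (.pos [7, 9, 6, 3, 5]) (.pos [13, 21, 14, 7, 5]) (.pos [7, 9, 6, 3, 5])) (.node (.node (.node (.neg [28, 24, 18, 10, 15]) (.pos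 [9, 8, 7, 6, 5]) (.pos [2, 2, 2, 2, 1]) (.pos [9, 8, 7, 6, 5]) (.pos [11, 12, 13, 14, 5]) (.pos [9, 8, 7, 6, 5])) (.pos [2, 2, 2, 1, 1]) (.pos [12, 14, 16, 8, 5]) (.pos [2, 2, 2, 1, 1]) (.pos [14, 18, 22, 11, 5]) (.pos [2, 2, 2, 1, 1])) (.pos [11, 12, 8, 4, 5]) (.pos [14, 18, 12, 6, 5]) (.pos [11, 12, 8, 4, 5]) (.pos [17, 24, 16, 8, 5]) (.pos [11, 12, 8, 4, 5])) (.node (.node (.node (.neg [24, 21, 16, 9, 25]) (.pos [1, 1, 1, 1, 1]) (.pos [6, 7, 8, 9, 5]) (.pos [1, 1, 1, 1, 1]) (.pos [7, 9, 11, 13, 5]) (.pos [1, 1, 1, 1, 1])) (.pos [6, 7, 8, 4, 5]) (.pos [8, 11, 14, 7, 5]) (.pos [6, 7, 8, 4, 5]) (.pos [2, 3, 4, 2, 1]) (.pos [6, 7, 8, 4, 5])) (.pos [7, 9, 6, 3, 5]) (.pos [2, 3, 2, 1, 1]) (.pos [7, 9, 6, 3, 5]) (.pos [13, 21, 14, 7, 5]) (.pos [7,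 9, 6, 3, 5])) (.pos [12, 9, 6, 3, 5]) (.pos [4, 3, 2, 1, 5])),
  (.node (.node (.node (.node .zero (.mat 2 [0, 1, 2, 3, 4]) (.pos [2, 4, 6, 4, 1]) (.pos [1, 2, 3, 2, 1]) (.pos [3, 6, 9, 6, 1]) (.pos [1, 2, 3, 2, 1])) (.pos [2, 4, 6, 3, 2]) (.pos [2, 4, 6, 3, 1]) (.pos [2, 4, 6, 3, 2]) (.pos [6, 12, 18, 9, 2]) (.pos [2, 4, 6, 3, 2])) (.node (.node (.mat 8 [3, 2, 1, 0, 4]) (.pos [2, 4, 5, 3, 1]) (.pos [3, 6, 8, 5, 1]) (.pos [2, 4, 5, 3, 1]) (.pos [4, 8, 11, 7, 1]) (.pos [2, 4, 5, 3, 1])) (.pos [4, 8, 10, 5, 2]) (.pos [3, 6, 8, 4, 1]) (.pos [4, 8, 10, 5, 2]) (.pos [8, 16, 22, 11, 2]) (.pos [4, 8, 10, 5, 2])) (.pos [2, 4, 4, 2, 1]) (.pos [1, 2, 2, 1, 1]) (.pos [3, 6, 6, 3, 1]) (.pos [1, 2, 2, 1, 1])) (.node (.node (.node (.neg [18, 24, 28, 15, 10])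 (.pos [4, 6, 8, 5, 2]) (.pos [6, 10, 14, 9, 2]) (.pos [4, 6, 8, 5, 2]) (.pos [8, 14, 20, 13, 2]) (.pos [4, 6, 8, 5, 2])) (.pos [2, 3, 4, 2, 1]) (.pos [6, 10, 14, 7, 2]) (.pos [2, 3, 4, 2, 1]) (.pos [4, 7, 10, 5, 1]) (.pos [2, 3, 4, 2, 1])) (.pos [4, 6, 6, 3, 2]) (.pos [6, 10, 10, 5, 2]) (.pos [4, 6, 6, 3, 2]) (.pos [8, 14, 14, 7, 2]) (.pos [4, 6, 6, 3, 2])) (.node (.node (.node (.mat 4 [3, 2, 1, 0, 4]) (.pos [3, 4, 5, 3, 1]) (.pos [4, 6, 8, 5, 1]) (.pos [3, 4, 5, 3, 1]) (.pos [5, 8, 11, 7, 1]) (.pos [3, 4, 5, 3, 1])) (.pos [6, 8, 10, 5, 2]) (.pos [4, 6, 8, 4, 1]) (.pos [6, 8, 10, 5, 2]) (.pos [10, 16, 22, 11, 2]) (.pos [6, 8, 10, 5, 2])) (.pos [3, 4, 4, 2, 1]) (.pos [4, 6, 6, 3, 1]) (.pos [3, 4, 4, 2, 1]) (.pos [5, 8, 8, 4, 1]) (.pos [3, 4, 4,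 2, 1])) (.node (.node (.node (.mat 3 [3, 2, 1, 0, 4]) (.pos [4, 6, 8, 5, 2]) (.pos [6, 10, 14, 9, 2]) (.pos [4, 6, 8, 5, 2]) (.pos [8, 14, 20, 13, 2]) (.pos [4, 6, 8, 5, 2])) (.pos [2, 3, 4, 2, 1]) (.pos [6, 10, 14, 7, 2]) (.pos [2, 3, 4, 2, 1]) (.pos [4, 7, 10, 5, 1]) (.pos [2, 3, 4, 2, 1])) (.pos [4, 6, 6, 3, 2]) (.pos [6, 10, 10, 5, 2]) (.pos [4, 6, 6, 3, 2]) (.pos [8, 14, 14, 7, 2]) (.pos [4, 6, 6, 3, 2])) (.pos [6, 6, 6, 3, 2]) (.pos [2, 2, 2, 1, 2])),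
  (.node (.node (.node (.node .zero (.mat 1 [0, 1, 2, 3, 4]) (.pos [1, 2, 3, 4, 1]) (.pos [1, 2, 3, 4, 2]) (.pos [3, 6, 9, 12, 2]) (.pos [1, 2, 3, 4, 2])) (.pos [1, 2, 3, 3, 1]) (.pos [2, 4, 6, 6, 1]) (.pos [1, 2, 3, 3, 1]) (.pos [3, 6, 9, 9, 1]) (.pos [1, 2, 3, 3, 1])) (.node (.node (.mat 7 [3, 2, 1, 0, 4]) (.pos [3, 6, 7, 8, 2]) (.pos [2, 4, 5, 6, 1]) (.pos [3, 6, 7, 8, 2]) (.pos [5, 10, 13, 16, 2]) (.pos [3, 6, 7, 8, 2])) (.pos [2, 4, 5, 5, 1]) (.pos [3, 6, 8, 8, 1]) (.pos [2, 4, 5, 5, 1]) (.pos [4, 8, 11, 11, 1]) (.pos [2, 4, 5, 5, 1])) (.pos [2, 4, 4, 4, 1]) (.pos [1, 2, 2, 2, 1]) (.pos [3, 6, 6, 6, 1]) (.pos [1, 2, 2, 2, 1])) (.node (.node (.node (.neg [16, 21, 24, 25, 9]) (.pos [3, 4, 5, 6, 2]) (.pos [2, 3, 4, 5, 1]) (.pos [3, 4, 5, 6, 2])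 (.pos [5, 8, 11, 14, 2]) (.pos [3, 4, 5, 6, 2])) (.pos [2, 3, 4, 4, 1]) (.pos [3, 5, 7, 7, 1]) (.pos [2, 3, 4, 4, 1]) (.pos [4, 7, 10, 10, 1]) (.pos [2, 3, 4, 4, 1])) (.pos [2, 3, 3, 3, 1]) (.pos [3, 5, 5, 5, 1]) (.pos [2, 3, 3, 3, 1]) (.pos [4, 7, 7, 7, 1]) (.pos [2, 3, 3, 3, 1])) (.node (.node (.node (.mat 3 [4, 0, 1, 2, 3]) (.pos [5, 6, 7, 8, 2]) (.pos [3, 4, 5, 6, 1]) (.pos [5, 6, 7, 8, 2]) (.pos [7, 10, 13, 16, 2]) (.pos [5, 6, 7, 8, 2])) (.pos [3, 4, 5, 5, 1]) (.pos [4, 6, 8, 8, 1]) (.pos [3, 4, 5, 5, 1]) (.pos [5, 8, 11, 11, 1]) (.pos [3, 4, 5, 5, 1])) (.pos [3, 4, 4, 4, 1]) (.pos [4, 6, 6, 6, 1]) (.pos [3, 4, 4, 4, 1]) (.pos [5, 8, 8, 8, 1]) (.pos [3, 4, 4, 4, 1])) (.node (.node (.node (.mat 5 [3, 2, 1, 0, 4]) (.pos [3, 4, 5, 6, 2]) (.pos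 [2, 3, 4, 5, 1]) (.pos [3, 4, 5, 6, 2]) (.pos [5, 8, 11, 14, 2]) (.pos [3, 4, 5, 6, 2])) (.pos [2, 3, 4, 4, 1]) (.pos [3, 5, 7, 7, 1]) (.pos [2, 3, 4, 4, 1]) (.pos [4, 7, 10, 10, 1]) (.pos [2, 3, 4, 4, 1])) (.pos [2, 3, 3, 3, 1]) (.pos [3, 5, 5, 5, 1]) (.pos [2, 3, 3, 3, 1]) (.pos [4, 7, 7, 7, 1]) (.pos [2, 3, 3, 3, 1])) (.pos [3, 3, 3, 3, 1]) (.pos [1, 1, 1, 1, 1])),
  (.node (.node (.node (.node .zero (.neg [5, 9, 5, 7, 4]) (.mat 8 [4, 3, 1, 0, 2]) (.mat 7 [4, 3, 1, 0, 2]) (.pos [3, 6, 3, 6, 2]) (.pos [1, 2, 1, 2, 2])) (.node (.neg [5, 9, 7, 5, 4]) (.pos [2, 4, 3, 3, 2]) (.pos [3, 6, 4, 5, 2]) (.pos [2, 4, 3, 3, 2]) (.pos [4, 8, 5, 7, 2]) (.pos [2, 4, 3, 3, 2])) (.node (.mat 8 [4, 2, 1, 0, 3]) (.pos [3, 6, 5, 4, 2]) (.pos [2, 4, 3, 3, 1]) (.pos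 [3, 6, 5, 4, 2]) (.pos [5, 10, 7, 8, 2]) (.pos [3, 6, 5, 4, 2])) (.node (.mat 7 [4, 2, 1, 0, 3]) (.pos [2, 4, 3, 3, 2]) (.pos [3, 6, 4, 5, 2]) (.pos [2, 4, 3, 3, 2]) (.pos [4, 8, 5, 7, 2]) (.pos [2, 4, 3, 3, 2])) (.pos [3, 6, 6, 3, 2]) (.pos [1, 2, 2, 1, 2])) (.node (.node (.mat 6 [1, 0, 2, 3, 4]) (.pos [3, 6, 3, 4, 2]) (.pos [2, 4, 2, 3, 1]) (.pos [3, 6, 3, 4, 2]) (.pos [5, 10, 5, 8, 2]) (.pos [3, 6, 3, 4, 2])) (.pos [3, 6, 4, 3, 2]) (.pos [2, 4, 3, 2, 1]) (.pos [3, 6, 4, 3, 2]) (.pos [5, 10, 8, 5, 2]) (.pos [3, 6, 4, 3, 2])) (.pos [2, 4, 2, 2, 1]) (.pos [1, 2, 1, 1, 1]) (.pos [3, 6, 3, 3, 1]) (.pos [1, 2, 1, 1, 1])) (.node (.node (.node (.neg [7, 9, 5, 5, 4]) (.pos [3, 4, 2, 3, 2]) (.pos [4, 6, 3, 5, 2]) (.pos [3, 4, 2, 3, 2]) (.pos [5, 8, 4,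 7, 2]) (.pos [3, 4, 2, 3, 2])) (.pos [3, 4, 3, 2, 2]) (.pos [4, 6, 5, 3, 2]) (.pos [3, 4, 3, 2, 2]) (.pos [5, 8, 7, 4, 2]) (.pos [3, 4, 3, 2, 2])) (.pos [4, 6, 3, 3, 2]) (.pos [6, 10, 5, 5, 2]) (.pos [4, 6, 3, 3, 2]) (.pos [8, 14, 7, 7, 2]) (.pos [4, 6, 3, 3, 2])) (.node (.node (.node (.mat 8 [4, 0, 1, 2, 3]) (.pos [5, 6, 3, 4, 2]) (.pos [3, 4, 2, 3, 1]) (.pos [5, 6, 3, 4, 2]) (.pos [7, 10, 5, 8, 2]) (.pos [5, 6, 3, 4, 2])) (.pos [5, 6, 4, 3, 2]) (.pos [3, 4, 3, 2, 1]) (.pos [5, 6, 4, 3, 2]) (.pos [7, 10, 8, 5, 2]) (.pos [5, 6, 4, 3, 2])) (.pos [3, 4, 2, 2, 1]) (.pos [4, 6, 3, 3, 1]) (.pos [3, 4, 2, 2, 1]) (.pos [5, 8, 4, 4, 1]) (.pos [3, 4, 2, 2, 1])) (.node (.node (.node (.mat 7 [4, 0, 1, 2, 3]) (.pos [3, 4, 2, 3, 2]) (.pos [4, 6, 3, 5, 2]) (.pos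 [3, 4, 2, 3, 2]) (.pos [5, 8, 4, 7, 2]) (.pos [3, 4, 2, 3, 2])) (.pos [3, 4, 3, 2, 2]) (.pos [4, 6, 5, 3, 2]) (.pos [3, 4, 3, 2, 2]) (.pos [5, 8, 7, 4, 2]) (.pos [3, 4, 3, 2, 2])) (.pos [4, 6, 3, 3, 2]) (.pos [6, 10, 5, 5, 2]) (.pos [4, 6, 3, 3, 2]) (.pos [8, 14, 7, 7, 2]) (.pos [4, 6, 3, 3, 2])) (.pos [6, 6, 3, 3, 2]) (.pos [2, 2, 1, 1, 2])),
  (.node (.node (.node (.node .zero (.mat 1 [4, 3, 2, 1, 0]) (.pos [4, 8, 6, 4, 1]) (.pos [2, 4, 3, 2, 1]) (.pos [6, 12, 9, 6, 1]) (.pos [2, 4, 3, 2, 1])) (.pos [4, 8, 6, 3, 1]) (.pos [8, 16, 12, 6, 1]) (.pos [4, 8, 6, 3, 1]) (.pos [12, 24, 18, 9, 1]) (.pos [4, 8, 6, 3, 1])) (.pos [3, 6, 4, 2, 1]) (.pos [6, 12, 8, 4, 1]) (.pos [3, 6, 4, 2, 1]) (.pos [9, 18, 12, 6, 1]) (.pos [3, 6, 4, 2, 1])) (.node (.node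 (.node (.mat 2 [4, 0, 1, 2, 3]) (.pos [4, 7, 5, 3, 1]) (.pos [6, 11, 8, 5, 1]) (.pos [4, 7, 5, 3, 1]) (.pos [8, 15, 11, 7, 1]) (.pos [4, 7, 5, 3, 1])) (.pos [6, 11, 8, 4, 1]) (.pos [10, 19, 14, 7, 1]) (.pos [6, 11, 8, 4, 1]) (.pos [14, 27, 20, 10, 1]) (.pos [6, 11, 8, 4, 1])) (.pos [5, 9, 6, 3, 1]) (.pos [8, 15, 10, 5, 1]) (.pos [5, 9, 6, 3, 1]) (.pos [11, 21, 14, 7, 1]) (.pos [5, 9, 6, 3, 1])) (.pos [4, 6, 4, 2, 1]) (.pos [2, 3, 2, 1, 1]) (.pos [6, 9, 6, 3, 1]) (.pos [2, 3, 2, 1, 1]))]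

set_option maxRecDepth 100000 in
theorem acheck : ∀ idx < F4.length,
    check true (F4.getD idx []) 4 typesC (atrees.getD idx Tree.zero) [] = true := by
  decide +kernel

theorem claimTop (T : Models.NumericalType 5) (hm2 : ∀ i, T.IsMinusTwo i) : Claim T 5 typesC :=
  step T (by norm_num) hm2 4 (by norm_num) true (by simp) F4 typesC atrees acheck
    (claim4 T (by norm_num) hm2 (by norm_num))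

end Groth.Agent.Lib.Helper24.NumTypeAff5
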