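import Mathlib
import Groth.Prelude.Def_Models
import Groth.Agent.Lib.Helper24.NumTypeEngine
import Groth.Agent.Lib.Helper24.NumTypeGlue
import Groth.Agent.Lib.Helper24.NumTypeData

/-! # Genus-one numerical types on 6 indices: the Cartan matrix is one of the listed ones
(generated by a script). -/

set_option autoImplicit false

namespace Groth.Agent.Lib.Helper24.NumTypeAff6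

open Models
open Groth.Agent.Lib.Helper24.NumTypeEngine Groth.Agent.Lib.Helper24.NumTypeGlue
open Groth.Agent.Lib.Helper24.NumTypeData

def typesC : List (List (List ℤ)) := [[[-2, 1, 0, 0, 0, 1], [1, -2, 1, 0, 0, 0], [0, 1, -2, 1, 0, 0], [0, 0, 1, -2, 1, 0], [0, 0, 0, 1, -2, 1], [1, 0, 0, 0, 1, -2]], [[-2, 2, 0, 0, 0, 0], [1, -2, 1, 0, 0, 0], [0, 1, -2, 1, 0, 0], [0, 0, 1, -2, 1, 0], [0, 0, 0, 1, -2, 2], [0, 0, 0, 0, 1, -2]], [[-2, 2, 0, 0, 0, 0], [1, -2, 1, 0, 0, 0], [0, 1, -2, 1, 0, 0], [0, 0, 1, -2, 1, 0], [0, 0, 0, 1, -2, 1], [0, 0, 0, 0, 2, -2]], [[-2, 1, 0, 0, 0, 0], [2, -2, 1, 0, 0, 0], [0, 1, -2, 1, 0, 0], [0, 0, 1, -2, 1, 0], [0, 0, 0, 1, -2, 2], [0, 0, 0, 0, 1, -2]], [[-2, 1, 0, 0, 0, 0], [2, -2, 1, 0, 0, 0], [0, 1, -2, 1, 0, 0],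 [0, 0, 1, -2, 1, 1], [0, 0, 0, 1, -2, 0], [0, 0, 0, 1, 0, -2]], [[-2, 2, 0, 0, 0, 0], [1, -2, 1, 0, 0, 0], [0, 1, -2, 1, 0, 0], [0, 0, 1, -2, 1, 1], [0, 0, 0, 1, -2, 0], [0, 0, 0, 1, 0, -2]], [[-2, 0, 1, 0, 0, 0], [0, -2, 1, 0, 0, 0], [1, 1, -2, 1, 0, 0], [0, 0, 1, -2, 1, 1], [0, 0, 0, 1, -2, 0], [0, 0, 0, 1, 0, -2]]]

def atrees : List Tree := [
  (.node (.node (.node (.node (.node .zero (.neg [3, 5, 6, 6, 5, 3]) (.neg [12, 22, 30, 36, 40, 21]) (.neg [11, 20, 27, 32, 35, 36]) (.pos [1, 2, 3, 4, 5, 2]) (.pos [1, 2, 3, 4, 5, 6])) (.node (.neg [10, 18, 24, 28, 15, 15]) (.pos [1, 2, 3, 4, 3, 2]) (.pos [2, 4, 6, 8, 7, 3]) (.pos [1, 2, 3, 4, 3, 2]) (.pos [5, 10, 15, 20, 19, 6]) (.pos [1, 2, 3, 4, 3, 2])) (.pos [2, 4, 6, 8, 4, 3]) (.pos [1, 2,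 3, 4, 2, 3]) (.pos [1, 2, 3, 4, 2, 1]) (.pos [1, 2, 3, 4, 2, 3])) (.node (.node (.neg [8, 15, 21, 15, 8, 11]) (.pos [2, 4, 6, 5, 4, 3]) (.pos [5, 10, 15, 14, 13, 6]) (.pos [2, 4, 6, 5, 4, 3]) (.pos [1, 2, 3, 3, 3, 1]) (.pos [2, 4, 6, 5, 4, 3])) (.pos [5, 10, 15, 14, 7, 6]) (.pos [7, 14, 21, 22, 11, 6]) (.pos [5, 10, 15, 14, 7, 6]) (.pos [3, 6, 9, 10, 5, 2]) (.pos [5, 10, 15, 14, 7, 6])) (.pos [1, 2, 3, 2, 1, 1]) (.pos [1, 2, 3, 2, 1, 2]) (.pos [3, 6, 9, 6, 3, 2]) (.pos [1, 2, 3, 2, 1, 2])) (.node (.node (.node (.neg [15, 28, 24, 18, 10, 15]) (.pos [5, 10, 9, 8, 7, 6]) (.pos [1, 2, 2, 2, 2, 1]) (.pos [5, 10, 9, 8, 7, 6]) (.pos [7, 14, 15, 16, 17, 6]) (.pos [5, 10, 9, 8, 7, 6])) (.pos [1, 2, 2, 2, 1, 1]) (.pos [4, 8, 9, 10, 5, 3]) (.pos [1,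 2, 2, 2, 1, 1]) (.pos [5, 10, 12, 14, 7, 3]) (.pos [1, 2, 2, 2, 1, 1])) (.pos [7, 14, 15, 10, 5, 6]) (.pos [5, 10, 12, 8, 4, 3]) (.pos [7, 14, 15, 10, 5, 6]) (.pos [13, 26, 33, 22, 11, 6]) (.pos [7, 14, 15, 10, 5, 6])) (.pos [4, 8, 6, 4, 2, 3]) (.pos [2, 4, 3, 2, 1, 3]) (.pos [2, 4, 3, 2, 1, 1]) (.pos [2, 4, 3, 2, 1, 3])) (.node (.node (.node (.node (.neg [5, 6, 6, 5, 3, 3]) (.mat 0 [0, 1, 2, 3, 4, 5]) (.pos [7, 8, 9, 10, 11, 6]) (.pos [1, 1, 1, 1, 1, 1]) (.pos [4, 5, 6, 7, 8, 3]) (.pos [1, 1, 1, 1, 1, 1])) (.pos [7, 8, 9, 10, 5, 6]) (.pos [3, 4, 5, 6, 3, 2]) (.pos [7, 8, 9, 10, 5, 6]) (.pos [11, 16, 21, 26, 13, 6]) (.pos [7, 8, 9, 10, 5, 6])) (.pos [4, 5, 6, 4, 2, 3]) (.pos [11, 16, 21, 14, 7, 6]) (.pos [4, 5, 6, 4, 2, 3]) (.pos [7, 11,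 15, 10, 5, 3]) (.pos [4, 5, 6, 4, 2, 3])) (.pos [3, 4, 3, 2, 1, 2]) (.pos [13, 20, 15, 10, 5, 6]) (.pos [3, 4, 3, 2, 1, 2]) (.pos [17, 28, 21, 14, 7, 6]) (.pos [3, 4, 3, 2, 1, 2])) (.node (.node (.node (.node (.neg [40, 36, 30, 22, 12, 21]) (.pos [11, 10, 9, 8, 7, 6]) (.pos [2, 2, 2, 2, 2, 1]) (.pos [11, 10, 9, 8, 7, 6]) (.pos [13, 14, 15, 16, 17, 6]) (.pos [11, 10, 9, 8, 7, 6])) (.pos [2, 2, 2, 2, 1, 1]) (.pos [7, 8, 9, 10, 5, 3]) (.pos [2, 2, 2, 2, 1, 1]) (.pos [8, 10, 12, 14, 7, 3]) (.pos [2, 2, 2, 2, 1, 1])) (.pos [13, 14, 15, 10, 5, 6]) (.pos [8, 10, 12, 8, 4, 3]) (.pos [13, 14, 15, 10, 5, 6]) (.pos [19, 26, 33, 22, 11, 6]) (.pos [13, 14, 15, 10, 5, 6])) (.pos [7, 8, 6, 4, 2, 3]) (.pos [3, 4, 3, 2, 1, 1]) (.pos [7, 8, 6, 4, 2, 3]) (.pos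 [11, 16, 12, 8, 4, 3]) (.pos [7, 8, 6, 4, 2, 3])) (.node (.node (.node (.node (.neg [35, 32, 27, 20, 11, 36]) (.pos [1, 1, 1, 1, 1, 1]) (.pos [7, 8, 9, 10, 11, 6]) (.pos [1, 1, 1, 1, 1, 1]) (.pos [4, 5, 6, 7, 8, 3]) (.pos [1, 1, 1, 1, 1, 1])) (.pos [7, 8, 9, 10, 5, 6]) (.pos [3, 4, 5, 6, 3, 2]) (.pos [7, 8, 9, 10, 5, 6]) (.pos [11, 16, 21, 26, 13, 6]) (.pos [7, 8, 9, 10, 5, 6])) (.pos [4, 5, 6, 4, 2, 3]) (.pos [11, 16, 21, 14, 7, 6]) (.pos [4, 5, 6, 4, 2, 3]) (.pos [7, 11, 15, 10, 5, 3]) (.pos [4, 5, 6, 4, 2, 3])) (.pos [3, 4, 3, 2, 1, 2]) (.pos [13, 20, 15, 10, 5, 6]) (.pos [3, 4, 3, 2, 1, 2]) (.pos [17, 28, 21, 14, 7, 6]) (.pos [3, 4, 3, 2, 1, 2])) (.pos [5, 4, 3, 2, 1, 2]) (.pos [5, 4, 3, 2, 1, 6])),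
  (.node (.node (.node (.node (.node .zero (.pos [2, 4, 6, 8, 5, 2]) (.pos [2, 4, 6, 8, 5, 1]) (.pos [2, 4, 6, 8, 5, 2]) (.pos [6, 12, 18, 24, 15, 2]) (.pos [2, 4, 6, 8, 5, 2])) (.pos [1, 2, 3, 4, 2, 1]) (.pos [2, 4, 6, 8, 4, 1]) (.pos [1, 2, 3, 4, 2, 1]) (.pos [3, 6, 9, 12, 6, 1]) (.pos [1, 2, 3, 4, 2, 1])) (.pos [2, 4, 6, 6, 3, 2]) (.pos [2, 4, 6, 6, 3, 1]) (.pos [2, 4, 6, 6, 3, 2]) (.pos [6, 12, 18, 18, 9, 2]) (.pos [2, 4, 6, 6, 3, 2])) (.node (.node (.node (.mat 5 [4, 3, 2, 1, 0, 5]) (.pos [4, 8, 10, 12, 7, 2]) (.pos [3, 6, 8, 10, 6, 1]) (.pos [4, 8, 10, 12, 7, 2]) (.pos [8, 16, 22, 28, 17, 2]) (.pos [4, 8, 10, 12, 7, 2])) (.pos [2, 4, 5, 6, 3, 1]) (.pos [3, 6, 8, 10, 5, 1]) (.pos [2, 4, 5, 6, 3, 1]) (.pos [4, 8, 11, 14, 7, 1]) (.pos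 [2, 4, 5, 6, 3, 1])) (.pos [4, 8, 10, 10, 5, 2]) (.pos [3, 6, 8, 8, 4, 1]) (.pos [4, 8, 10, 10, 5, 2]) (.pos [8, 16, 22, 22, 11, 2]) (.pos [4, 8, 10, 10, 5, 2])) (.pos [2, 4, 4, 4, 2, 1]) (.pos [1, 2, 2, 2, 1, 1]) (.pos [3, 6, 6, 6, 3, 1]) (.pos [1, 2, 2, 2, 1, 1])) (.node (.node (.node (.node (.neg [22, 30, 36, 40, 21, 12]) (.pos [2, 3, 4, 5, 3, 1]) (.pos [6, 10, 14, 18, 11, 2]) (.pos [2, 3, 4, 5, 3, 1]) (.pos [4, 7, 10, 13, 8, 1]) (.pos [2, 3, 4, 5, 3, 1])) (.pos [4, 6, 8, 10, 5, 2]) (.pos [6, 10, 14, 18, 9, 2]) (.pos [4, 6, 8, 10, 5, 2]) (.pos [8, 14, 20, 26, 13, 2]) (.pos [4, 6, 8, 10, 5, 2])) (.pos [2, 3, 4, 4, 2, 1]) (.pos [6, 10, 14, 14, 7, 2]) (.pos [2, 3, 4, 4, 2, 1]) (.pos [4, 7, 10, 10, 5, 1]) (.pos [2, 3, 4, 4, 2, 1])) (.pos [4,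 6, 6, 6, 3, 2]) (.pos [6, 10, 10, 10, 5, 2]) (.pos [4, 6, 6, 6, 3, 2]) (.pos [8, 14, 14, 14, 7, 2]) (.pos [4, 6, 6, 6, 3, 2])) (.node (.node (.node (.node (.mat 2 [4, 3, 2, 1, 0, 5]) (.pos [6, 8, 10, 12, 7, 2]) (.pos [4, 6, 8, 10, 6, 1]) (.pos [6, 8, 10, 12, 7, 2]) (.pos [10, 16, 22, 28, 17, 2]) (.pos [6, 8, 10, 12, 7, 2])) (.pos [3, 4, 5, 6, 3, 1]) (.pos [4, 6, 8, 10, 5, 1]) (.pos [3, 4, 5, 6, 3, 1]) (.pos [5, 8, 11, 14, 7, 1]) (.pos [3, 4, 5, 6, 3, 1])) (.pos [6, 8, 10, 10, 5, 2]) (.pos [4, 6, 8, 8, 4, 1]) (.pos [6, 8, 10, 10, 5, 2]) (.pos [10, 16, 22, 22, 11, 2]) (.pos [6, 8, 10, 10, 5, 2])) (.pos [3, 4, 4, 4, 2, 1]) (.pos [4, 6, 6, 6, 3, 1]) (.pos [3, 4, 4, 4, 2, 1]) (.pos [5, 8, 8, 8, 4, 1]) (.pos [3, 4, 4, 4, 2, 1])) (.node (.node (.node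 (.node (.mat 1 [4, 3, 2, 1, 0, 5]) (.pos [2, 3, 4, 5, 3, 1]) (.pos [6, 10, 14, 18, 11, 2]) (.pos [2, 3, 4, 5, 3, 1]) (.pos [4, 7, 10, 13, 8, 1]) (.pos [2, 3, 4, 5, 3, 1])) (.pos [4, 6, 8, 10, 5, 2]) (.pos [6, 10, 14, 18, 9, 2]) (.pos [4, 6, 8, 10, 5, 2]) (.pos [8, 14, 20, 26, 13, 2]) (.pos [4, 6, 8, 10, 5, 2])) (.pos [2, 3, 4, 4, 2, 1]) (.pos [6, 10, 14, 14, 7, 2]) (.pos [2, 3, 4, 4, 2, 1]) (.pos [4, 7, 10, 10, 5, 1]) (.pos [2, 3, 4, 4, 2, 1])) (.pos [4, 6, 6, 6, 3, 2]) (.pos [6, 10, 10, 10, 5, 2]) (.pos [4, 6, 6, 6, 3, 2]) (.pos [8, 14, 14, 14, 7, 2]) (.pos [4, 6, 6, 6, 3, 2])) (.pos [6, 6, 6, 6, 3, 2]) (.pos [2, 2, 2, 2, 1, 2])),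
  (.node (.node (.node (.node (.node .zero (.pos [1, 2, 3, 4, 5, 2]) (.pos [1, 2, 3, 4, 5, 1]) (.pos [1, 2, 3, 4, 5, 2]) (.pos [3, 6, 9, 12, 15, 2]) (.pos [1, 2, 3, 4, 5, 2])) (.pos [1, 2, 3, 4, 4, 1]) (.pos [2, 4, 6, 8, 8, 1]) (.pos [1, 2, 3, 4, 4, 1]) (.pos [3, 6, 9, 12, 12, 1]) (.pos [1, 2, 3, 4, 4, 1])) (.pos [1, 2, 3, 3, 3, 1]) (.pos [2, 4, 6, 6, 6, 1]) (.pos [1, 2, 3, 3, 3, 1]) (.pos [3, 6, 9, 9, 9, 1]) (.pos [1, 2, 3, 3, 3, 1])) (.node (.node (.node (.mat 4 [4, 3, 2, 1, 0, 5]) (.pos [3, 6, 7, 8, 9, 2]) (.pos [2, 4, 5, 6, 7, 1]) (.pos [3, 6, 7, 8, 9, 2]) (.pos [5, 10, 13, 16, 19, 2]) (.pos [3, 6, 7, 8, 9, 2])) (.pos [2, 4, 5, 6, 6, 1]) (.pos [3, 6, 8, 10, 10, 1]) (.pos [2, 4, 5, 6, 6, 1]) (.pos [4, 8, 11, 14, 14, 1]) (.pos [2, 4, 5,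 6, 6, 1])) (.pos [2, 4, 5, 5, 5, 1]) (.pos [3, 6, 8, 8, 8, 1]) (.pos [2, 4, 5, 5, 5, 1]) (.pos [4, 8, 11, 11, 11, 1]) (.pos [2, 4, 5, 5, 5, 1])) (.pos [2, 4, 4, 4, 4, 1]) (.pos [1, 2, 2, 2, 2, 1]) (.pos [3, 6, 6, 6, 6, 1]) (.pos [1, 2, 2, 2, 2, 1])) (.node (.node (.node (.node (.neg [20, 27, 32, 35, 36, 11]) (.pos [3, 4, 5, 6, 7, 2]) (.pos [2, 3, 4, 5, 6, 1]) (.pos [3, 4, 5, 6, 7, 2]) (.pos [5, 8, 11, 14, 17, 2]) (.pos [3, 4, 5, 6, 7, 2])) (.pos [2, 3, 4, 5, 5, 1]) (.pos [3, 5, 7, 9, 9, 1]) (.pos [2, 3, 4, 5, 5, 1]) (.pos [4, 7, 10, 13, 13, 1]) (.pos [2, 3, 4, 5, 5, 1])) (.pos [2, 3, 4, 4, 4, 1]) (.pos [3, 5, 7, 7, 7, 1]) (.pos [2, 3, 4, 4, 4, 1]) (.pos [4, 7, 10, 10, 10, 1]) (.pos [2, 3, 4, 4, 4, 1])) (.pos [2, 3, 3, 3, 3, 1]) (.pos [3,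 5, 5, 5, 5, 1]) (.pos [2, 3, 3, 3, 3, 1]) (.pos [4, 7, 7, 7, 7, 1]) (.pos [2, 3, 3, 3, 3, 1])) (.node (.node (.node (.node (.mat 1 [5, 0, 1, 2, 3, 4]) (.pos [5, 6, 7, 8, 9, 2]) (.pos [3, 4, 5, 6, 7, 1]) (.pos [5, 6, 7, 8, 9, 2]) (.pos [7, 10, 13, 16, 19, 2]) (.pos [5, 6, 7, 8, 9, 2])) (.pos [3, 4, 5, 6, 6, 1]) (.pos [4, 6, 8, 10, 10, 1]) (.pos [3, 4, 5, 6, 6, 1]) (.pos [5, 8, 11, 14, 14, 1]) (.pos [3, 4, 5, 6, 6, 1])) (.pos [3, 4, 5, 5, 5, 1]) (.pos [4, 6, 8, 8, 8, 1]) (.pos [3, 4, 5, 5, 5, 1]) (.pos [5, 8, 11, 11, 11, 1]) (.pos [3, 4, 5, 5, 5, 1])) (.pos [3, 4, 4, 4, 4, 1]) (.pos [4, 6, 6, 6, 6, 1]) (.pos [3, 4, 4, 4, 4, 1]) (.pos [5, 8, 8, 8, 8, 1]) (.pos [3, 4, 4, 4, 4, 1])) (.node (.node (.node (.node (.mat 3 [4, 3, 2, 1, 0, 5]) (.pos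 [3, 4, 5, 6, 7, 2]) (.pos [2, 3, 4, 5, 6, 1]) (.pos [3, 4, 5, 6, 7, 2]) (.pos [5, 8, 11, 14, 17, 2]) (.pos [3, 4, 5, 6, 7, 2])) (.pos [2, 3, 4, 5, 5, 1]) (.pos [3, 5, 7, 9, 9, 1]) (.pos [2, 3, 4, 5, 5, 1]) (.pos [4, 7, 10, 13, 13, 1]) (.pos [2, 3, 4, 5, 5, 1])) (.pos [2, 3, 4, 4, 4, 1]) (.pos [3, 5, 7, 7, 7, 1]) (.pos [2, 3, 4, 4, 4, 1]) (.pos [4, 7, 10, 10, 10, 1]) (.pos [2, 3, 4, 4, 4, 1])) (.pos [2, 3, 3, 3, 3, 1]) (.pos [3, 5, 5, 5, 5, 1]) (.pos [2, 3, 3, 3, 3, 1]) (.pos [4, 7, 7, 7, 7, 1]) (.pos [2, 3, 3, 3, 3, 1])) (.pos [3, 3, 3, 3, 3, 1]) (.pos [1, 1, 1, 1, 1, 1])),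
  (.node (.node (.node (.node (.node .zero (.neg [8, 15, 21, 11, 15, 8]) (.pos [2, 4, 6, 3, 5, 2]) (.pos [2, 4, 6, 3, 5, 4]) (.pos [6, 12, 18, 9, 15, 4]) (.pos [2, 4, 6, 3, 5, 4])) (.node (.neg [8, 15, 21, 15, 11, 8]) (.pos [1, 2, 3, 2, 2, 1]) (.pos [6, 12, 18, 11, 13, 4]) (.pos [1, 2, 3, 2, 2, 1]) (.pos [4, 8, 12, 7, 9, 2]) (.pos [1, 2, 3, 2, 2, 1])) (.pos [2, 4, 6, 5, 3, 2]) (.pos [2, 4, 6, 5, 3, 4]) (.pos [6, 12, 18, 15, 9, 4]) (.pos [2, 4, 6, 5, 3, 4])) (.pos [2, 4, 6, 3, 3, 2]) (.pos [2, 4, 6, 3, 3, 1]) (.pos [2, 4, 6, 3, 3, 2]) (.pos [6, 12, 18, 9, 9, 2]) (.pos [2, 4, 6, 3, 3, 2])) (.node (.node (.node (.mat 6 [0, 5, 1, 2, 3, 4]) (.pos [6, 12, 14, 7, 9, 4]) (.pos [4, 8, 10, 5, 7, 2]) (.pos [6, 12, 14, 7, 9, 4]) (.pos [10, 20, 26, 13,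 19, 4]) (.pos [6, 12, 14, 7, 9, 4])) (.pos [6, 12, 14, 9, 7, 4]) (.pos [4, 8, 10, 7, 5, 2]) (.pos [6, 12, 14, 9, 7, 4]) (.pos [10, 20, 26, 19, 13, 4]) (.pos [6, 12, 14, 9, 7, 4])) (.pos [4, 8, 10, 5, 5, 2]) (.pos [3, 6, 8, 4, 4, 1]) (.pos [4, 8, 10, 5, 5, 2]) (.pos [8, 16, 22, 11, 11, 2]) (.pos [4, 8, 10, 5, 5, 2])) (.pos [2, 4, 4, 2, 2, 1]) (.pos [1, 2, 2, 1, 1, 1]) (.pos [3, 6, 6, 3, 3, 1]) (.pos [1, 2, 2, 1, 1, 1])) (.node (.node (.node (.node (.neg [18, 24, 28, 15, 15, 10]) (.pos [6, 8, 10, 5, 7, 4]) (.pos [2, 3, 4, 2, 3, 1]) (.pos [6, 8, 10, 5, 7, 4]) (.pos [10, 16, 22, 11, 17, 4]) (.pos [6, 8, 10, 5, 7, 4])) (.pos [6, 8, 10, 7, 5, 4]) (.pos [2, 3, 4, 3, 2, 1]) (.pos [6, 8, 10, 7, 5, 4]) (.pos [10, 16, 22, 17, 11, 4]) (.pos [6, 8, 10,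 7, 5, 4])) (.pos [2, 3, 4, 2, 2, 1]) (.pos [6, 10, 14, 7, 7, 2]) (.pos [2, 3, 4, 2, 2, 1]) (.pos [4, 7, 10, 5, 5, 1]) (.pos [2, 3, 4, 2, 2, 1])) (.pos [4, 6, 6, 3, 3, 2]) (.pos [6, 10, 10, 5, 5, 2]) (.pos [4, 6, 6, 3, 3, 2]) (.pos [8, 14, 14, 7, 7, 2]) (.pos [4, 6, 6, 3, 3, 2])) (.node (.node (.node (.node (.mat 5 [5, 0, 1, 2, 3, 4]) (.pos [10, 12, 14, 7, 9, 4]) (.pos [6, 8, 10, 5, 7, 2]) (.pos [10, 12, 14, 7, 9, 4]) (.pos [14, 20, 26, 13, 19, 4]) (.pos [10, 12, 14, 7, 9, 4])) (.pos [10, 12, 14, 9, 7, 4]) (.pos [6, 8, 10, 7, 5, 2]) (.pos [10, 12, 14, 9, 7, 4]) (.pos [14, 20, 26, 19, 13, 4]) (.pos [10, 12, 14, 9, 7, 4])) (.pos [6, 8, 10, 5, 5, 2]) (.pos [4, 6, 8, 4, 4, 1]) (.pos [6, 8, 10, 5, 5, 2]) (.pos [10, 16, 22, 11, 11, 2]) (.pos [6,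 8, 10, 5, 5, 2])) (.pos [3, 4, 4, 2, 2, 1]) (.pos [4, 6, 6, 3, 3, 1]) (.pos [3, 4, 4, 2, 2, 1]) (.pos [5, 8, 8, 4, 4, 1]) (.pos [3, 4, 4, 2, 2, 1])) (.node (.node (.node (.node (.mat 4 [5, 0, 1, 2, 3, 4]) (.pos [6, 8, 10, 5, 7, 4]) (.pos [2, 3, 4, 2, 3, 1]) (.pos [6, 8, 10, 5, 7, 4]) (.pos [10, 16, 22, 11, 17, 4]) (.pos [6, 8, 10, 5, 7, 4])) (.pos [6, 8, 10, 7, 5, 4]) (.pos [2, 3, 4, 3, 2, 1]) (.pos [6, 8, 10, 7, 5, 4]) (.pos [10, 16, 22, 17, 11, 4]) (.pos [6, 8, 10, 7, 5, 4])) (.pos [2, 3, 4, 2, 2, 1]) (.pos [6, 10, 14, 7, 7, 2]) (.pos [2, 3, 4, 2, 2, 1]) (.pos [4, 7, 10, 5, 5, 1]) (.pos [2, 3, 4, 2, 2, 1])) (.pos [4, 6, 6, 3, 3, 2]) (.pos [6, 10, 10, 5, 5, 2]) (.pos [4, 6, 6, 3, 3, 2]) (.pos [8, 14, 14, 7, 7, 2]) (.pos [4, 6, 6, 3, 3, 2]))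 (.pos [6, 6, 6, 3, 3, 2]) (.pos [2, 2, 2, 1, 1, 2]))]

set_option maxRecDepth 100000 in
theorem acheck : ∀ idx < F5.length,
    check true (F5.getD idx []) 5 typesC (atrees.getD idx Tree.zero) [] = true := by
  decide +kernel

theorem claimTop (T : Models.NumericalType 6) (hm2 : ∀ i, T.IsMinusTwo i) : Claim T 6 typesC :=
  step T (by norm_num) hm2 5 (by norm_num) true (by simp) F5 typesC atrees acheck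
    (claim5 T (by norm_num) hm2 (by norm_num))

end Groth.Agent.Lib.Helper24.NumTypeAff6
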