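import Mathlib
import Groth.Prelude.Def_Models
import Groth.Agent.Lib.Helper24.NumTypeEngine
import Groth.Agent.Lib.Helper24.NumTypeGlue
import Groth.Agent.Lib.Helper24.NumTypeData

/-! # Genus-one numerical types on 7 indices: the Cartan matrix is one of the listed ones
(generated by a script). -/

set_option autoImplicit false

namespace Groth.Agent.Lib.Helper24.NumTypeAff7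

open Models
open Groth.Agent.Lib.Helper24.NumTypeEngine Groth.Agent.Lib.Helper24.NumTypeGlue
open Groth.Agent.Lib.Helper24.NumTypeData

def typesC : List (List (List ℤ)) := [[[-2, 1, 0, 0, 0, 0, 1], [1, -2, 1, 0, 0, 0, 0], [0, 1, -2, 1, 0, 0, 0], [0, 0, 1, -2, 1, 0, 0], [0, 0, 0, 1, -2, 1, 0], [0, 0, 0, 0, 1, -2, 1], [1, 0, 0, 0, 0, 1, -2]], [[-2, 2, 0, 0, 0, 0, 0], [1, -2, 1, 0, 0, 0, 0], [0, 1, -2, 1, 0, 0, 0], [0, 0, 1, -2, 1, 0, 0], [0, 0, 0, 1, -2, 1, 0], [0, 0, 0, 0, 1, -2, 2], [0, 0, 0, 0, 0, 1, -2]], [[-2, 2, 0, 0, 0, 0, 0], [1, -2, 1, 0, 0, 0, 0], [0, 1, -2, 1, 0, 0, 0], [0, 0, 1, -2, 1, 0, 0], [0, 0, 0, 1, -2, 1, 0], [0, 0, 0, 0, 1, -2, 1], [0, 0, 0, 0, 0, 2, -2]], [[-2, 1, 0, 0, 0, 0, 0], [2, -2, 1, 0, 0, 0, 0], [0, 1, -2,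 1, 0, 0, 0], [0, 0, 1, -2, 1, 0, 0], [0, 0, 0, 1, -2, 1, 0], [0, 0, 0, 0, 1, -2, 2], [0, 0, 0, 0, 0, 1, -2]], [[-2, 1, 0, 0, 0, 0, 0], [2, -2, 1, 0, 0, 0, 0], [0, 1, -2, 1, 0, 0, 0], [0, 0, 1, -2, 1, 0, 0], [0, 0, 0, 1, -2, 1, 1], [0, 0, 0, 0, 1, -2, 0], [0, 0, 0, 0, 1, 0, -2]], [[-2, 2, 0, 0, 0, 0, 0], [1, -2, 1, 0, 0, 0, 0], [0, 1, -2, 1, 0, 0, 0], [0, 0, 1, -2, 1, 0, 0], [0, 0, 0, 1, -2, 1, 1], [0, 0, 0, 0, 1, -2, 0], [0, 0, 0, 0, 1, 0, -2]], [[-2, 0, 1, 0, 0, 0, 0], [0, -2, 1, 0, 0, 0, 0], [1, 1, -2, 1, 0, 0, 0], [0, 0, 1, -2, 1, 0, 0], [0, 0, 0, 1, -2, 1, 1], [0, 0, 0, 0, 1, -2, 0], [0, 0, 0, 0, 1, 0, -2]], [[-2, 1, 0, 0, 0, 0, 0], [1, -2, 1, 0, 0, 0, 0], [0, 1, -2, 0, 1, 0, 1], [0, 0, 0, -2, 1, 0, 0], [0, 0, 1, 1, -2, 0, 0], [0,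 0, 0, 0, 0, -2, 1], [0, 0, 1, 0, 0, 1, -2]]]

def atrees : List Tree := [
  (.node (.node (.node (.node (.node (.node .zero (.neg [7, 12, 15, 16, 15, 12, 7]) (.neg [7, 13, 18, 22, 25, 27, 14]) (.neg [13, 24, 33, 40, 45, 48, 49]) (.pos [3, 6, 9, 12, 15, 18, 7]) (.pos [1, 2, 3, 4, 5, 6, 7])) (.node (.neg [12, 22, 30, 36, 40, 21, 21]) (.pos [3, 6, 9, 12, 15, 11, 7]) (.pos [4, 8, 12, 16, 20, 17, 7]) (.pos [3, 6, 9, 12, 15, 11, 7]) (.pos [5, 10, 15, 20, 25, 23, 7]) (.pos [3, 6, 9, 12, 15, 11, 7])) (.pos [4, 8, 12, 16, 20, 10, 7]) (.pos [2, 4, 6, 8, 10, 5, 7]) (.pos [6, 12, 18, 24, 30, 15, 7]) (.pos [2, 4, 6, 8, 10, 5, 7])) (.node (.node (.neg [27, 52, 75, 96, 66, 34, 49]) (.pos [4, 8, 12, 16, 13, 10, 7]) (.pos [5, 10, 15, 20, 18, 16, 7])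 (.pos [4, 8, 12, 16, 13, 10, 7]) (.pos [6, 12, 18, 24, 23, 22, 7]) (.pos [4, 8, 12, 16, 13, 10, 7])) (.pos [5, 10, 15, 20, 18, 9, 7]) (.pos [1, 2, 3, 4, 4, 2, 1]) (.pos [5, 10, 15, 20, 18, 9, 7]) (.pos [9, 18, 27, 36, 38, 19, 7]) (.pos [5, 10, 15, 20, 18, 9, 7])) (.pos [6, 12, 18, 24, 16, 8, 7]) (.pos [3, 6, 9, 12, 8, 4, 7]) (.pos [9, 18, 27, 36, 24, 12, 7]) (.pos [3, 6, 9, 12, 8, 4, 7])) (.node (.node (.node (.neg [34, 66, 96, 75, 52, 27, 49]) (.pos [5, 10, 15, 13, 11, 9, 7]) (.pos [6, 12, 18, 17, 16, 15, 7]) (.pos [5, 10, 15, 13, 11, 9, 7]) (.pos [1, 2, 3, 3, 3, 3, 1]) (.pos [5, 10, 15, 13, 11, 9, 7])) (.pos [6, 12, 18, 17, 16, 8, 7]) (.pos [8, 16, 24, 25, 26, 13, 7]) (.pos [6, 12, 18, 17, 16, 8, 7]) (.pos [10, 20, 30, 33, 36, 18,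 7]) (.pos [6, 12, 18, 17, 16, 8, 7])) (.pos [1, 2, 3, 3, 2, 1, 1]) (.pos [10, 20, 30, 33, 22, 11, 7]) (.pos [1, 2, 3, 3, 2, 1, 1]) (.pos [13, 26, 39, 45, 30, 15, 7]) (.pos [1, 2, 3, 3, 2, 1, 1])) (.pos [8, 16, 24, 18, 12, 6, 7]) (.pos [4, 8, 12, 9, 6, 3, 7]) (.pos [12, 24, 36, 27, 18, 9, 7]) (.pos [4, 8, 12, 9, 6, 3, 7])) (.node (.node (.node (.node (.neg [21, 40, 36, 30, 22, 12, 21]) (.pos [6, 12, 11, 10, 9, 8, 7]) (.pos [1, 2, 2, 2, 2, 2, 1]) (.pos [6, 12, 11, 10, 9, 8, 7]) (.pos [8, 16, 17, 18, 19, 20, 7]) (.pos [6, 12, 11, 10, 9, 8, 7])) (.pos [1, 2, 2, 2, 2, 1, 1]) (.pos [9, 18, 20, 22, 24, 12, 7]) (.pos [1, 2, 2, 2, 2, 1, 1]) (.pos [11, 22, 26, 30, 34, 17, 7]) (.pos [1, 2, 2, 2, 2, 1, 1])) (.pos [8, 16, 17, 18, 12, 6, 7]) (.pos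 [11, 22, 26, 30, 20, 10, 7]) (.pos [8, 16, 17, 18, 12, 6, 7]) (.pos [2, 4, 5, 6, 4, 2, 1]) (.pos [8, 16, 17, 18, 12, 6, 7])) (.pos [9, 18, 20, 15, 10, 5, 7]) (.pos [13, 26, 32, 24, 16, 8, 7]) (.pos [9, 18, 20, 15, 10, 5, 7]) (.pos [17, 34, 44, 33, 22, 11, 7]) (.pos [9, 18, 20, 15, 10, 5, 7])) (.pos [10, 20, 16, 12, 8, 4, 7]) (.pos [5, 10, 8, 6, 4, 2, 7]) (.pos [15, 30, 24, 18, 12, 6, 7]) (.pos [5, 10, 8, 6, 4, 2, 7])) (.node (.node (.node (.node (.node (.neg [12, 15, 16, 15, 12, 7, 7]) (.mat 0 [0, 1, 2, 3, 4, 5, 6]) (.pos [8, 9, 10, 11, 12, 13, 7]) (.pos [1, 1, 1, 1, 1, 1, 1]) (.pos [9, 11, 13, 15, 17, 19, 7]) (.pos [1, 1, 1, 1, 1, 1, 1])) (.pos [8, 9, 10, 11, 12, 6, 7]) (.pos [10, 13, 16, 19, 22, 11, 7]) (.pos [8, 9, 10, 11, 12, 6,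 7]) (.pos [12, 17, 22, 27, 32, 16, 7]) (.pos [8, 9, 10, 11, 12, 6, 7])) (.pos [9, 11, 13, 15, 10, 5, 7]) (.pos [12, 17, 22, 27, 18, 9, 7]) (.pos [9, 11, 13, 15, 10, 5, 7]) (.pos [15, 23, 31, 39, 26, 13, 7]) (.pos [9, 11, 13, 15, 10, 5, 7])) (.pos [10, 13, 16, 12, 8, 4, 7]) (.pos [2, 3, 4, 3, 2, 1, 1]) (.pos [10, 13, 16, 12, 8, 4, 7]) (.pos [18, 29, 40, 30, 20, 10, 7]) (.pos [10, 13, 16, 12, 8, 4, 7])) (.pos [11, 15, 12, 9, 6, 3, 7]) (.pos [16, 25, 20, 15, 10, 5, 7]) (.pos [11, 15, 12, 9, 6, 3, 7]) (.pos [3, 5, 4, 3, 2, 1, 1]) (.pos [11, 15, 12, 9, 6, 3, 7])) (.node (.node (.node (.node (.node (.neg [27, 25, 22, 18, 13, 7, 14]) (.pos [13, 12, 11, 10, 9, 8, 7]) (.pos [2, 2, 2, 2, 2, 2, 1]) (.pos [13, 12, 11, 10, 9, 8, 7]) (.pos [15, 16,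 17, 18, 19, 20, 7]) (.pos [13, 12, 11, 10, 9, 8, 7])) (.pos [2, 2, 2, 2, 2, 1, 1]) (.pos [16, 18, 20, 22, 24, 12, 7]) (.pos [2, 2, 2, 2, 2, 1, 1]) (.pos [18, 22, 26, 30, 34, 17, 7]) (.pos [2, 2, 2, 2, 2, 1, 1])) (.pos [15, 16, 17, 18, 12, 6, 7]) (.pos [18, 22, 26, 30, 20, 10, 7]) (.pos [15, 16, 17, 18, 12, 6, 7]) (.pos [3, 4, 5, 6, 4, 2, 1]) (.pos [15, 16, 17, 18, 12, 6, 7])) (.pos [16, 18, 20, 15, 10, 5, 7]) (.pos [20, 26, 32, 24, 16, 8, 7]) (.pos [16, 18, 20, 15, 10, 5, 7]) (.pos [24, 34, 44, 33, 22, 11, 7]) (.pos [16, 18, 20, 15, 10, 5, 7])) (.pos [17, 20, 16, 12, 8, 4, 7]) (.pos [22, 30, 24, 18, 12, 6, 7]) (.pos [17, 20, 16, 12, 8, 4, 7]) (.pos [27, 40, 32, 24, 16, 8, 7]) (.pos [17, 20, 16, 12, 8, 4, 7])) (.node (.node (.node (.node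 (.node (.neg [48, 45, 40, 33, 24, 13, 49]) (.pos [1, 1, 1, 1, 1, 1, 1]) (.pos [8, 9, 10, 11, 12, 13, 7]) (.pos [1, 1, 1, 1, 1, 1, 1]) (.pos [9, 11, 13, 15, 17, 19, 7]) (.pos [1, 1, 1, 1, 1, 1, 1])) (.pos [8, 9, 10, 11, 12, 6, 7]) (.pos [10, 13, 16, 19, 22, 11, 7]) (.pos [8, 9, 10, 11, 12, 6, 7]) (.pos [12, 17, 22, 27, 32, 16, 7]) (.pos [8, 9, 10, 11, 12, 6, 7])) (.pos [9, 11, 13, 15, 10, 5, 7]) (.pos [12, 17, 22, 27, 18, 9, 7]) (.pos [9, 11, 13, 15, 10, 5, 7]) (.pos [15, 23, 31, 39, 26, 13, 7]) (.pos [9, 11, 13, 15, 10, 5, 7])) (.pos [10, 13, 16, 12, 8, 4, 7]) (.pos [2, 3, 4, 3, 2, 1, 1]) (.pos [10, 13, 16, 12, 8, 4, 7]) (.pos [18, 29, 40, 30, 20, 10, 7]) (.pos [10, 13, 16, 12, 8, 4, 7])) (.pos [11, 15, 12, 9, 6, 3, 7]) (.pos [16, 25,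 20, 15, 10, 5, 7]) (.pos [11, 15, 12, 9, 6, 3, 7]) (.pos [3, 5, 4, 3, 2, 1, 1]) (.pos [11, 15, 12, 9, 6, 3, 7])) (.pos [18, 15, 12, 9, 6, 3, 7]) (.pos [6, 5, 4, 3, 2, 1, 7])),
  (.node (.node (.node (.node (.node (.node .zero (.pos [1, 2, 3, 4, 5, 3, 1]) (.pos [2, 4, 6, 8, 10, 6, 1]) (.pos [1, 2, 3, 4, 5, 3, 1]) (.pos [3, 6, 9, 12, 15, 9, 1]) (.pos [1, 2, 3, 4, 5, 3, 1])) (.pos [2, 4, 6, 8, 10, 5, 2]) (.pos [2, 4, 6, 8, 10, 5, 1]) (.pos [2, 4, 6, 8, 10, 5, 2]) (.pos [6, 12, 18, 24, 30, 15, 2]) (.pos [2, 4, 6, 8, 10, 5, 2])) (.pos [1, 2, 3, 4, 4, 2, 1]) (.pos [2, 4, 6, 8, 8, 4, 1]) (.pos [1, 2, 3, 4, 4, 2, 1]) (.pos [3, 6, 9, 12, 12, 6, 1]) (.pos [1, 2, 3, 4, 4, 2, 1])) (.pos [2, 4, 6, 6, 6, 3, 2]) (.pos [2, 4, 6, 6, 6, 3, 1]) (.pos [2,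 4, 6, 6, 6, 3, 2]) (.pos [6, 12, 18, 18, 18, 9, 2]) (.pos [2, 4, 6, 6, 6, 3, 2])) (.node (.node (.node (.node (.mat 5 [5, 4, 3, 2, 1, 0, 6]) (.pos [2, 4, 5, 6, 7, 4, 1]) (.pos [3, 6, 8, 10, 12, 7, 1]) (.pos [2, 4, 5, 6, 7, 4, 1]) (.pos [4, 8, 11, 14, 17, 10, 1]) (.pos [2, 4, 5, 6, 7, 4, 1])) (.pos [4, 8, 10, 12, 14, 7, 2]) (.pos [3, 6, 8, 10, 12, 6, 1]) (.pos [4, 8, 10, 12, 14, 7, 2]) (.pos [8, 16, 22, 28, 34, 17, 2]) (.pos [4, 8, 10, 12, 14, 7, 2])) (.pos [2, 4, 5, 6, 6, 3, 1]) (.pos [3, 6, 8, 10, 10, 5, 1]) (.pos [2, 4, 5, 6, 6, 3, 1]) (.pos [4, 8, 11, 14, 14, 7, 1]) (.pos [2, 4, 5, 6, 6, 3, 1])) (.pos [4, 8, 10, 10, 10, 5, 2]) (.pos [3, 6, 8, 8, 8, 4, 1]) (.pos [4, 8, 10, 10, 10, 5, 2]) (.pos [8, 16, 22, 22, 22, 11, 2]) (.pos [4,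 8, 10, 10, 10, 5, 2])) (.pos [2, 4, 4, 4, 4, 2, 1]) (.pos [1, 2, 2, 2, 2, 1, 1]) (.pos [3, 6, 6, 6, 6, 3, 1]) (.pos [1, 2, 2, 2, 2, 1, 1])) (.node (.node (.node (.node (.node (.neg [13, 18, 22, 25, 27, 14, 7]) (.pos [4, 6, 8, 10, 12, 7, 2]) (.pos [6, 10, 14, 18, 22, 13, 2]) (.pos [4, 6, 8, 10, 12, 7, 2]) (.pos [8, 14, 20, 26, 32, 19, 2]) (.pos [4, 6, 8, 10, 12, 7, 2])) (.pos [2, 3, 4, 5, 6, 3, 1]) (.pos [6, 10, 14, 18, 22, 11, 2]) (.pos [2, 3, 4, 5, 6, 3, 1]) (.pos [4, 7, 10, 13, 16, 8, 1]) (.pos [2, 3, 4, 5, 6, 3, 1])) (.pos [4, 6, 8, 10, 10, 5, 2]) (.pos [6, 10, 14, 18, 18, 9, 2]) (.pos [4, 6, 8, 10, 10, 5, 2]) (.pos [8, 14, 20, 26, 26, 13, 2]) (.pos [4, 6, 8, 10, 10, 5, 2])) (.pos [2, 3, 4, 4, 4, 2, 1]) (.pos [6, 10, 14, 14, 14, 7,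 2]) (.pos [2, 3, 4, 4, 4, 2, 1]) (.pos [4, 7, 10, 10, 10, 5, 1]) (.pos [2, 3, 4, 4, 4, 2, 1])) (.pos [4, 6, 6, 6, 6, 3, 2]) (.pos [6, 10, 10, 10, 10, 5, 2]) (.pos [4, 6, 6, 6, 6, 3, 2]) (.pos [8, 14, 14, 14, 14, 7, 2]) (.pos [4, 6, 6, 6, 6, 3, 2])) (.node (.node (.node (.node (.node (.mat 2 [5, 4, 3, 2, 1, 0, 6]) (.pos [3, 4, 5, 6, 7, 4, 1]) (.pos [4, 6, 8, 10, 12, 7, 1]) (.pos [3, 4, 5, 6, 7, 4, 1]) (.pos [5, 8, 11, 14, 17, 10, 1]) (.pos [3, 4, 5, 6, 7, 4, 1])) (.pos [6, 8, 10, 12, 14, 7, 2]) (.pos [4, 6, 8, 10, 12, 6, 1]) (.pos [6, 8, 10, 12, 14, 7, 2]) (.pos [10, 16, 22, 28, 34, 17, 2]) (.pos [6, 8, 10, 12, 14, 7, 2])) (.pos [3, 4, 5, 6, 6, 3, 1]) (.pos [4, 6, 8, 10, 10, 5, 1]) (.pos [3, 4, 5, 6, 6, 3, 1]) (.pos [5, 8, 11, 14, 14,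 7, 1]) (.pos [3, 4, 5, 6, 6, 3, 1])) (.pos [6, 8, 10, 10, 10, 5, 2]) (.pos [4, 6, 8, 8, 8, 4, 1]) (.pos [6, 8, 10, 10, 10, 5, 2]) (.pos [10, 16, 22, 22, 22, 11, 2]) (.pos [6, 8, 10, 10, 10, 5, 2])) (.pos [3, 4, 4, 4, 4, 2, 1]) (.pos [4, 6, 6, 6, 6, 3, 1]) (.pos [3, 4, 4, 4, 4, 2, 1]) (.pos [5, 8, 8, 8, 8, 4, 1]) (.pos [3, 4, 4, 4, 4, 2, 1])) (.node (.node (.node (.node (.node (.mat 1 [5, 4, 3, 2, 1, 0, 6]) (.pos [4, 6, 8, 10, 12, 7, 2]) (.pos [6, 10, 14, 18, 22, 13, 2]) (.pos [4, 6, 8, 10, 12, 7, 2]) (.pos [8, 14, 20, 26, 32, 19, 2]) (.pos [4, 6, 8, 10, 12, 7, 2])) (.pos [2, 3, 4, 5, 6, 3, 1]) (.pos [6, 10, 14, 18, 22, 11, 2]) (.pos [2, 3, 4, 5, 6, 3, 1]) (.pos [4, 7, 10, 13, 16, 8, 1]) (.pos [2, 3, 4, 5, 6, 3, 1])) (.pos [4, 6, 8, 10,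 10, 5, 2]) (.pos [6, 10, 14, 18, 18, 9, 2]) (.pos [4, 6, 8, 10, 10, 5, 2]) (.pos [8, 14, 20, 26, 26, 13, 2]) (.pos [4, 6, 8, 10, 10, 5, 2])) (.pos [2, 3, 4, 4, 4, 2, 1]) (.pos [6, 10, 14, 14, 14, 7, 2]) (.pos [2, 3, 4, 4, 4, 2, 1]) (.pos [4, 7, 10, 10, 10, 5, 1]) (.pos [2, 3, 4, 4, 4, 2, 1])) (.pos [4, 6, 6, 6, 6, 3, 2]) (.pos [6, 10, 10, 10, 10, 5, 2]) (.pos [4, 6, 6, 6, 6, 3, 2]) (.pos [8, 14, 14, 14, 14, 7, 2]) (.pos [4, 6, 6, 6, 6, 3, 2])) (.pos [6, 6, 6, 6, 6, 3, 2]) (.pos [2, 2, 2, 2, 2, 1, 2])),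
  (.node (.node (.node (.node (.node (.node .zero (.pos [1, 2, 3, 4, 5, 6, 2]) (.pos [1, 2, 3, 4, 5, 6, 1]) (.pos [1, 2, 3, 4, 5, 6, 2]) (.pos [3, 6, 9, 12, 15, 18, 2]) (.pos [1, 2, 3, 4, 5, 6, 2])) (.pos [1, 2, 3, 4, 5, 5, 1]) (.pos [2, 4, 6, 8, 10, 10, 1]) (.pos [1, 2, 3, 4, 5, 5, 1]) (.pos [3, 6, 9, 12, 15, 15, 1]) (.pos [1, 2, 3, 4, 5, 5, 1])) (.pos [1, 2, 3, 4, 4, 4, 1]) (.pos [2, 4, 6, 8, 8, 8, 1]) (.pos [1, 2, 3, 4, 4, 4, 1]) (.pos [3, 6, 9, 12, 12, 12, 1]) (.pos [1, 2, 3, 4, 4, 4, 1])) (.pos [1, 2, 3, 3, 3, 3, 1]) (.pos [2, 4, 6, 6, 6, 6, 1]) (.pos [1, 2, 3, 3, 3, 3, 1]) (.pos [3, 6, 9, 9, 9, 9, 1]) (.pos [1, 2, 3, 3, 3, 3, 1])) (.node (.node (.node (.node (.mat 4 [5, 4, 3, 2, 1, 0, 6]) (.pos [3, 6, 7, 8, 9, 10, 2]) (.pos [2,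 4, 5, 6, 7, 8, 1]) (.pos [3, 6, 7, 8, 9, 10, 2]) (.pos [5, 10, 13, 16, 19, 22, 2]) (.pos [3, 6, 7, 8, 9, 10, 2])) (.pos [2, 4, 5, 6, 7, 7, 1]) (.pos [3, 6, 8, 10, 12, 12, 1]) (.pos [2, 4, 5, 6, 7, 7, 1]) (.pos [4, 8, 11, 14, 17, 17, 1]) (.pos [2, 4, 5, 6, 7, 7, 1])) (.pos [2, 4, 5, 6, 6, 6, 1]) (.pos [3, 6, 8, 10, 10, 10, 1]) (.pos [2, 4, 5, 6, 6, 6, 1]) (.pos [4, 8, 11, 14, 14, 14, 1]) (.pos [2, 4, 5, 6, 6, 6, 1])) (.pos [2, 4, 5, 5, 5, 5, 1]) (.pos [3, 6, 8, 8, 8, 8, 1]) (.pos [2, 4, 5, 5, 5, 5, 1]) (.pos [4, 8, 11, 11, 11, 11, 1]) (.pos [2, 4, 5, 5, 5, 5, 1])) (.pos [2, 4, 4, 4, 4, 4, 1]) (.pos [1, 2, 2, 2, 2, 2, 1]) (.pos [3, 6, 6, 6, 6, 6, 1]) (.pos [1, 2, 2, 2, 2, 2, 1])) (.node (.node (.node (.node (.node (.neg [24, 33, 40, 45,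 48, 49, 13]) (.pos [3, 4, 5, 6, 7, 8, 2]) (.pos [2, 3, 4, 5, 6, 7, 1]) (.pos [3, 4, 5, 6, 7, 8, 2]) (.pos [5, 8, 11, 14, 17, 20, 2]) (.pos [3, 4, 5, 6, 7, 8, 2])) (.pos [2, 3, 4, 5, 6, 6, 1]) (.pos [3, 5, 7, 9, 11, 11, 1]) (.pos [2, 3, 4, 5, 6, 6, 1]) (.pos [4, 7, 10, 13, 16, 16, 1]) (.pos [2, 3, 4, 5, 6, 6, 1])) (.pos [2, 3, 4, 5, 5, 5, 1]) (.pos [3, 5, 7, 9, 9, 9, 1]) (.pos [2, 3, 4, 5, 5, 5, 1]) (.pos [4, 7, 10, 13, 13, 13, 1]) (.pos [2, 3, 4, 5, 5, 5, 1])) (.pos [2, 3, 4, 4, 4, 4, 1]) (.pos [3, 5, 7, 7, 7, 7, 1]) (.pos [2, 3, 4, 4, 4, 4, 1]) (.pos [4, 7, 10, 10, 10, 10, 1]) (.pos [2, 3, 4, 4, 4, 4, 1])) (.pos [2, 3, 3, 3, 3, 3, 1]) (.pos [3, 5, 5, 5, 5, 5, 1]) (.pos [2, 3, 3, 3, 3, 3, 1]) (.pos [4, 7, 7, 7, 7, 7, 1]) (.pos [2, 3,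 3, 3, 3, 3, 1])) (.node (.node (.node (.node (.node (.mat 1 [6, 0, 1, 2, 3, 4, 5]) (.pos [5, 6, 7, 8, 9, 10, 2]) (.pos [3, 4, 5, 6, 7, 8, 1]) (.pos [5, 6, 7, 8, 9, 10, 2]) (.pos [7, 10, 13, 16, 19, 22, 2]) (.pos [5, 6, 7, 8, 9, 10, 2])) (.pos [3, 4, 5, 6, 7, 7, 1]) (.pos [4, 6, 8, 10, 12, 12, 1]) (.pos [3, 4, 5, 6, 7, 7, 1]) (.pos [5, 8, 11, 14, 17, 17, 1]) (.pos [3, 4, 5, 6, 7, 7, 1])) (.pos [3, 4, 5, 6, 6, 6, 1]) (.pos [4, 6, 8, 10, 10, 10, 1]) (.pos [3, 4, 5, 6, 6, 6, 1]) (.pos [5, 8, 11, 14, 14, 14, 1]) (.pos [3, 4, 5, 6, 6, 6, 1])) (.pos [3, 4, 5, 5, 5, 5, 1]) (.pos [4, 6, 8, 8, 8, 8, 1]) (.pos [3, 4, 5, 5, 5, 5, 1]) (.pos [5, 8, 11, 11, 11, 11, 1]) (.pos [3, 4, 5, 5, 5, 5, 1])) (.pos [3, 4, 4, 4, 4, 4, 1]) (.pos [4, 6, 6, 6, 6,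 6, 1]) (.pos [3, 4, 4, 4, 4, 4, 1]) (.pos [5, 8, 8, 8, 8, 8, 1]) (.pos [3, 4, 4, 4, 4, 4, 1])) (.node (.node (.node (.node (.node (.mat 3 [5, 4, 3, 2, 1, 0, 6]) (.pos [3, 4, 5, 6, 7, 8, 2]) (.pos [2, 3, 4, 5, 6, 7, 1]) (.pos [3, 4, 5, 6, 7, 8, 2]) (.pos [5, 8, 11, 14, 17, 20, 2]) (.pos [3, 4, 5, 6, 7, 8, 2])) (.pos [2, 3, 4, 5, 6, 6, 1]) (.pos [3, 5, 7, 9, 11, 11, 1]) (.pos [2, 3, 4, 5, 6, 6, 1]) (.pos [4, 7, 10, 13, 16, 16, 1]) (.pos [2, 3, 4, 5, 6, 6, 1])) (.pos [2, 3, 4, 5, 5, 5, 1]) (.pos [3, 5, 7, 9, 9, 9, 1]) (.pos [2, 3, 4, 5, 5, 5, 1]) (.pos [4, 7, 10, 13, 13, 13, 1]) (.pos [2, 3, 4, 5, 5, 5, 1])) (.pos [2, 3, 4, 4, 4, 4, 1]) (.pos [3, 5, 7, 7, 7, 7, 1]) (.pos [2, 3, 4, 4, 4, 4, 1]) (.pos [4, 7, 10, 10, 10, 10, 1]) (.pos [2,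 3, 4, 4, 4, 4, 1])) (.pos [2, 3, 3, 3, 3, 3, 1]) (.pos [3, 5, 5, 5, 5, 5, 1]) (.pos [2, 3, 3, 3, 3, 3, 1]) (.pos [4, 7, 7, 7, 7, 7, 1]) (.pos [2, 3, 3, 3, 3, 3, 1])) (.pos [3, 3, 3, 3, 3, 3, 1]) (.pos [1, 1, 1, 1, 1, 1, 1])),
  (.node (.node (.node (.node (.node (.node .zero (.neg [27, 52, 75, 96, 49, 66, 34]) (.pos [1, 2, 3, 4, 2, 3, 1]) (.pos [1, 2, 3, 4, 2, 3, 2]) (.pos [3, 6, 9, 12, 6, 9, 2]) (.pos [1, 2, 3, 4, 2, 3, 2])) (.node (.neg [27, 52, 75, 96, 66, 49, 34]) (.pos [2, 4, 6, 8, 5, 5, 2]) (.pos [3, 6, 9, 12, 7, 8, 2]) (.pos [2, 4, 6, 8, 5, 5, 2]) (.pos [4, 8, 12, 16, 9, 11, 2]) (.pos [2, 4, 6, 8, 5, 5, 2])) (.pos [1, 2, 3, 4, 3, 2, 1]) (.pos [1, 2, 3, 4, 3, 2, 2]) (.pos [3, 6, 9, 12, 9, 6, 2]) (.pos [1, 2, 3, 4, 3, 2, 2])) (.pos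 [1, 2, 3, 4, 2, 2, 1]) (.pos [2, 4, 6, 8, 4, 4, 1]) (.pos [1, 2, 3, 4, 2, 2, 1]) (.pos [3, 6, 9, 12, 6, 6, 1]) (.pos [1, 2, 3, 4, 2, 2, 1])) (.pos [2, 4, 6, 6, 3, 3, 2]) (.pos [2, 4, 6, 6, 3, 3, 1]) (.pos [2, 4, 6, 6, 3, 3, 2]) (.pos [6, 12, 18, 18, 9, 9, 2]) (.pos [2, 4, 6, 6, 3, 3, 2])) (.node (.node (.node (.node (.mat 6 [0, 6, 1, 2, 3, 4, 5]) (.pos [3, 6, 7, 8, 4, 5, 2]) (.pos [2, 4, 5, 6, 3, 4, 1]) (.pos [3, 6, 7, 8, 4, 5, 2]) (.pos [5, 10, 13, 16, 8, 11, 2]) (.pos [3, 6, 7, 8, 4, 5, 2])) (.pos [3, 6, 7, 8, 5, 4, 2]) (.pos [2, 4, 5, 6, 4, 3, 1]) (.pos [3, 6, 7, 8, 5, 4, 2]) (.pos [5, 10, 13, 16, 11, 8, 2]) (.pos [3, 6, 7, 8, 5, 4, 2])) (.pos [2, 4, 5, 6, 3, 3, 1]) (.pos [3, 6, 8, 10, 5, 5, 1]) (.pos [2, 4, 5, 6, 3, 3, 1]) (.pos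 [4, 8, 11, 14, 7, 7, 1]) (.pos [2, 4, 5, 6, 3, 3, 1])) (.pos [4, 8, 10, 10, 5, 5, 2]) (.pos [3, 6, 8, 8, 4, 4, 1]) (.pos [4, 8, 10, 10, 5, 5, 2]) (.pos [8, 16, 22, 22, 11, 11, 2]) (.pos [4, 8, 10, 10, 5, 5, 2])) (.pos [2, 4, 4, 4, 2, 2, 1]) (.pos [1, 2, 2, 2, 1, 1, 1]) (.pos [3, 6, 6, 6, 3, 3, 1]) (.pos [1, 2, 2, 2, 1, 1, 1])) (.node (.node (.node (.node (.node (.neg [22, 30, 36, 40, 21, 21, 12]) (.pos [3, 4, 5, 6, 3, 4, 2]) (.pos [4, 6, 8, 10, 5, 7, 2]) (.pos [3, 4, 5, 6, 3, 4, 2]) (.pos [5, 8, 11, 14, 7, 10, 2]) (.pos [3, 4, 5, 6, 3, 4, 2])) (.pos [3, 4, 5, 6, 4, 3, 2]) (.pos [4, 6, 8, 10, 7, 5, 2]) (.pos [3, 4, 5, 6, 4, 3, 2]) (.pos [5, 8, 11, 14, 10, 7, 2]) (.pos [3, 4, 5, 6, 4, 3, 2])) (.pos [4, 6, 8, 10, 5, 5, 2]) (.pos [6, 10,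 14, 18, 9, 9, 2]) (.pos [4, 6, 8, 10, 5, 5, 2]) (.pos [8, 14, 20, 26, 13, 13, 2]) (.pos [4, 6, 8, 10, 5, 5, 2])) (.pos [2, 3, 4, 4, 2, 2, 1]) (.pos [6, 10, 14, 14, 7, 7, 2]) (.pos [2, 3, 4, 4, 2, 2, 1]) (.pos [4, 7, 10, 10, 5, 5, 1]) (.pos [2, 3, 4, 4, 2, 2, 1])) (.pos [4, 6, 6, 6, 3, 3, 2]) (.pos [6, 10, 10, 10, 5, 5, 2]) (.pos [4, 6, 6, 6, 3, 3, 2]) (.pos [8, 14, 14, 14, 7, 7, 2]) (.pos [4, 6, 6, 6, 3, 3, 2])) (.node (.node (.node (.node (.node (.mat 5 [6, 0, 1, 2, 3, 4, 5]) (.pos [5, 6, 7, 8, 4, 5, 2]) (.pos [3, 4, 5, 6, 3, 4, 1]) (.pos [5, 6, 7, 8, 4, 5, 2]) (.pos [7, 10, 13, 16, 8, 11, 2]) (.pos [5, 6, 7, 8, 4, 5, 2])) (.pos [5, 6, 7, 8, 5, 4, 2]) (.pos [3, 4, 5, 6, 4, 3, 1]) (.pos [5, 6, 7, 8, 5, 4, 2]) (.pos [7, 10, 13, 16, 11,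 8, 2]) (.pos [5, 6, 7, 8, 5, 4, 2])) (.pos [3, 4, 5, 6, 3, 3, 1]) (.pos [4, 6, 8, 10, 5, 5, 1]) (.pos [3, 4, 5, 6, 3, 3, 1]) (.pos [5, 8, 11, 14, 7, 7, 1]) (.pos [3, 4, 5, 6, 3, 3, 1])) (.pos [6, 8, 10, 10, 5, 5, 2]) (.pos [4, 6, 8, 8, 4, 4, 1]) (.pos [6, 8, 10, 10, 5, 5, 2]) (.pos [10, 16, 22, 22, 11, 11, 2]) (.pos [6, 8, 10, 10, 5, 5, 2])) (.pos [3, 4, 4, 4, 2, 2, 1]) (.pos [4, 6, 6, 6, 3, 3, 1]) (.pos [3, 4, 4, 4, 2, 2, 1]) (.pos [5, 8, 8, 8, 4, 4, 1]) (.pos [3, 4, 4, 4, 2, 2, 1])) (.node (.node (.node (.node (.node (.mat 4 [6, 0, 1, 2, 3, 4, 5]) (.pos [3, 4, 5, 6, 3, 4, 2]) (.pos [4, 6, 8, 10, 5, 7, 2]) (.pos [3, 4, 5, 6, 3, 4, 2]) (.pos [5, 8, 11, 14, 7, 10, 2]) (.pos [3, 4, 5, 6, 3, 4, 2])) (.pos [3, 4, 5, 6, 4, 3, 2]) (.pos [4,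 6, 8, 10, 7, 5, 2]) (.pos [3, 4, 5, 6, 4, 3, 2]) (.pos [5, 8, 11, 14, 10, 7, 2]) (.pos [3, 4, 5, 6, 4, 3, 2])) (.pos [4, 6, 8, 10, 5, 5, 2]) (.pos [6, 10, 14, 18, 9, 9, 2]) (.pos [4, 6, 8, 10, 5, 5, 2]) (.pos [8, 14, 20, 26, 13, 13, 2]) (.pos [4, 6, 8, 10, 5, 5, 2])) (.pos [2, 3, 4, 4, 2, 2, 1]) (.pos [6, 10, 14, 14, 7, 7, 2]) (.pos [2, 3, 4, 4, 2, 2, 1]) (.pos [4, 7, 10, 10, 5, 5, 1]) (.pos [2, 3, 4, 4, 2, 2, 1])) (.pos [4, 6, 6, 6, 3, 3, 2]) (.pos [6, 10, 10, 10, 5, 5, 2]) (.pos [4, 6, 6, 6, 3, 3, 2]) (.pos [8, 14, 14, 14, 7, 7, 2]) (.pos [4, 6, 6, 6, 3, 3, 2])) (.pos [6, 6, 6, 6, 3, 3, 2]) (.pos [2, 2, 2, 2, 1, 1, 2])),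
  (.node (.node (.node (.node (.node (.node .zero (.mat 7 [0, 1, 2, 4, 3, 6, 5]) (.pos [2, 4, 6, 4, 2, 4, 1]) (.pos [1, 2, 3, 2, 1, 2, 1]) (.pos [3, 6, 9, 6, 3, 6, 1]) (.pos [1, 2, 3, 2, 1, 2, 1])) (.node (.neg [34, 66, 96, 75, 52, 49, 27]) (.pos [5, 10, 15, 11, 7, 9, 3]) (.pos [8, 16, 24, 17, 10, 15, 3]) (.pos [5, 10, 15, 11, 7, 9, 3]) (.pos [11, 22, 33, 23, 13, 21, 3]) (.pos [5, 10, 15, 11, 7, 9, 3])) (.pos [4, 8, 12, 10, 8, 6, 3]) (.pos [2, 4, 6, 5, 4, 3, 3]) (.pos [2, 4, 6, 5, 4, 3, 1]) (.pos [2, 4, 6, 5, 4, 3, 3])) (.pos [4, 8, 12, 10, 5, 6, 3]) (.pos [8, 16, 24, 20, 10, 12, 3]) (.pos [4, 8, 12, 10, 5, 6, 3]) (.pos [4, 8, 12, 10, 5, 6, 1]) (.pos [4, 8, 12, 10, 5, 6, 3])) (.pos [2, 4, 6, 4, 2, 3, 1]) (.pos [4, 8, 12, 8, 4, 6, 1])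 (.pos [2, 4, 6, 4, 2, 3, 1]) (.pos [6, 12, 18, 12, 6, 9, 1]) (.pos [2, 4, 6, 4, 2, 3, 1])) (.pos [5, 10, 12, 8, 4, 6, 3]) (.pos [10, 20, 24, 16, 8, 12, 3]) (.pos [5, 10, 12, 8, 4, 6, 3]) (.pos [5, 10, 12, 8, 4, 6, 1]) (.pos [5, 10, 12, 8, 4, 6, 3])) (.node (.node (.node (.node (.node (.neg [52, 75, 96, 66, 34, 49, 27]) (.pos [7, 11, 15, 10, 5, 9, 3]) (.pos [10, 17, 24, 16, 8, 15, 3]) (.pos [7, 11, 15, 10, 5, 9, 3]) (.pos [13, 23, 33, 22, 11, 21, 3]) (.pos [7, 11, 15, 10, 5, 9, 3])) (.pos [2, 3, 4, 3, 2, 2, 1]) (.pos [8, 13, 18, 14, 10, 9, 3]) (.pos [2, 3, 4, 3, 2, 2, 1]) (.pos [10, 17, 24, 19, 14, 12, 3]) (.pos [2, 3, 4, 3, 2, 2, 1])) (.pos [8, 13, 18, 14, 7, 9, 3]) (.pos [4, 7, 10, 8, 4, 5, 1]) (.pos [8, 13, 18, 14, 7, 9, 3]) (.pos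 [16, 29, 42, 34, 17, 21, 3]) (.pos [8, 13, 18, 14, 7, 9, 3])) (.pos [10, 17, 24, 16, 8, 12, 3]) (.pos [16, 29, 42, 28, 14, 21, 3]) (.pos [10, 17, 24, 16, 8, 12, 3]) (.pos [22, 41, 60, 40, 20, 30, 3]) (.pos [10, 17, 24, 16, 8, 12, 3])) (.pos [3, 5, 6, 4, 2, 3, 1]) (.pos [14, 25, 30, 20, 10, 15, 3]) (.pos [3, 5, 6, 4, 2, 3, 1]) (.pos [19, 35, 42, 28, 14, 21, 3]) (.pos [3, 5, 6, 4, 2, 3, 1])) (.pos [8, 10, 12, 8, 4, 6, 3]) (.pos [4, 5, 6, 4, 2, 3, 3]) (.pos [4, 5, 6, 4, 2, 3, 1]) (.pos [4, 5, 6, 4, 2, 3, 3]))]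

set_option maxRecDepth 100000 in
theorem acheck : ∀ idx < F6.length,
    check true (F6.getD idx []) 6 typesC (atrees.getD idx Tree.zero) [] = true := by
  decide +kernel

theorem claimTop (T : Models.NumericalType 7) (hm2 : ∀ i, T.IsMinusTwo i) : Claim T 7 typesC :=
  step T (by norm_num) hm2 6 (by norm_num) true (by simp) F6 typesC atrees acheck
    (claim6 T (by norm_num) hm2 (by norm_num))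

end Groth.Agent.Lib.Helper24.NumTypeAff7
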