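import Mathlib
import Groth.Prelude.Def_Models
import Groth.Agent.Lib.Helper24.NumTypeEngine
import Groth.Agent.Lib.Helper24.NumTypeGlue
import Groth.Agent.Lib.Helper24.NumTypeData

/-! # Genus-one numerical types on 8 indices: the Cartan matrix is one of the listed ones
(generated by a script). -/

set_option autoImplicit false

namespace Groth.Agent.Lib.Helper24.NumTypeAff8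

open Models
open Groth.Agent.Lib.Helper24.NumTypeEngine Groth.Agent.Lib.Helper24.NumTypeGlue
open Groth.Agent.Lib.Helper24.NumTypeData

def typesC : List (List (List ℤ)) := [[[-2, 1, 0, 0, 0, 0, 0, 1], [1, -2, 1, 0, 0, 0, 0, 0], [0, 1, -2, 1, 0, 0, 0, 0], [0, 0, 1, -2, 1, 0, 0, 0], [0, 0, 0, 1, -2, 1, 0, 0], [0, 0, 0, 0, 1, -2, 1, 0], [0, 0, 0, 0, 0, 1, -2, 1], [1, 0, 0, 0, 0, 0, 1, -2]], [[-2, 2, 0, 0, 0, 0, 0, 0], [1, -2, 1, 0, 0, 0, 0, 0], [0, 1, -2, 1, 0, 0, 0, 0], [0, 0, 1, -2, 1, 0, 0, 0], [0, 0, 0, 1, -2, 1, 0, 0], [0, 0, 0, 0, 1, -2, 1, 0], [0, 0, 0, 0, 0, 1, -2, 2], [0, 0, 0, 0, 0, 0, 1, -2]], [[-2, 2, 0, 0, 0, 0, 0, 0], [1, -2, 1, 0, 0, 0, 0, 0], [0, 1, -2, 1, 0, 0, 0, 0], [0, 0, 1, -2, 1, 0, 0, 0], [0, 0, 0, 1, -2, 1,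 0, 0], [0, 0, 0, 0, 1, -2, 1, 0], [0, 0, 0, 0, 0, 1, -2, 1], [0, 0, 0, 0, 0, 0, 2, -2]], [[-2, 1, 0, 0, 0, 0, 0, 0], [2, -2, 1, 0, 0, 0, 0, 0], [0, 1, -2, 1, 0, 0, 0, 0], [0, 0, 1, -2, 1, 0, 0, 0], [0, 0, 0, 1, -2, 1, 0, 0], [0, 0, 0, 0, 1, -2, 1, 0], [0, 0, 0, 0, 0, 1, -2, 2], [0, 0, 0, 0, 0, 0, 1, -2]], [[-2, 1, 0, 0, 0, 0, 0, 0], [2, -2, 1, 0, 0, 0, 0, 0], [0, 1, -2, 1, 0, 0, 0, 0], [0, 0, 1, -2, 1, 0, 0, 0], [0, 0, 0, 1, -2, 1, 0, 0], [0, 0, 0, 0, 1, -2, 1, 1], [0, 0, 0, 0, 0, 1, -2, 0], [0, 0, 0, 0, 0, 1, 0, -2]], [[-2, 2, 0, 0, 0, 0, 0, 0], [1, -2, 1, 0, 0, 0, 0, 0], [0, 1, -2, 1, 0, 0, 0, 0], [0, 0, 1, -2, 1, 0, 0, 0], [0, 0, 0, 1, -2, 1, 0, 0], [0, 0, 0, 0, 1, -2, 1, 1], [0, 0, 0, 0, 0, 1, -2, 0], [0, 0, 0, 0, 0, 1, 0, -2]],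 [[-2, 0, 1, 0, 0, 0, 0, 0], [0, -2, 1, 0, 0, 0, 0, 0], [1, 1, -2, 1, 0, 0, 0, 0], [0, 0, 1, -2, 1, 0, 0, 0], [0, 0, 0, 1, -2, 1, 0, 0], [0, 0, 0, 0, 1, -2, 1, 1], [0, 0, 0, 0, 0, 1, -2, 0], [0, 0, 0, 0, 0, 1, 0, -2]], [[-2, 1, 0, 0, 0, 0, 0, 0], [1, -2, 1, 0, 0, 0, 0, 0], [0, 1, -2, 1, 0, 0, 0, 0], [0, 0, 1, -2, 1, 0, 0, 1], [0, 0, 0, 1, -2, 1, 0, 0], [0, 0, 0, 0, 1, -2, 1, 0], [0, 0, 0, 0, 0, 1, -2, 0], [0, 0, 0, 1, 0, 0, 0, -2]]]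

def atrees : List Tree := [
  (.node (.node (.node (.node (.node (.node (.node .zero (.neg [4, 7, 9, 10, 10, 9, 7, 4]) (.neg [8, 15, 21, 26, 30, 33, 35, 18]) (.neg [15, 28, 39, 48, 55, 60, 63, 64]) (.pos [3, 6, 9, 12, 15, 18, 21, 8]) (.pos [1, 2, 3, 4, 5, 6, 7, 8])) (.node (.neg [7, 13, 18, 22, 25, 27, 14, 14]) (.pos [3, 6, 9, 12, 15, 18, 13, 8]) (.pos [1, 2, 3, 4, 5, 6, 5, 2]) (.pos [3, 6, 9, 12, 15, 18, 13, 8]) (.pos [5, 10, 15, 20, 25, 30, 27, 8]) (.pos [3, 6, 9, 12, 15, 18, 13, 8])) (.pos [1, 2, 3, 4, 5, 6, 3, 2]) (.pos [1, 2, 3, 4, 5, 6, 3, 4]) (.pos [3, 6, 9, 12, 15, 18, 9, 4]) (.pos [1, 2, 3, 4, 5, 6, 3, 4])) (.node (.node (.neg [29, 57, 84, 110, 135, 91, 46, 68]) (.pos [1, 2, 3, 4, 5, 4, 3, 2]) (.pos [5, 10, 15, 20, 25, 22,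 19, 8]) (.pos [1, 2, 3, 4, 5, 4, 3, 2]) (.pos [3, 6, 9, 12, 15, 14, 13, 4]) (.pos [1, 2, 3, 4, 5, 4, 3, 2])) (.pos [5, 10, 15, 20, 25, 22, 11, 8]) (.pos [7, 14, 21, 28, 35, 34, 17, 8]) (.pos [5, 10, 15, 20, 25, 22, 11, 8]) (.pos [9, 18, 27, 36, 45, 46, 23, 8]) (.pos [5, 10, 15, 20, 25, 22, 11, 8])) (.pos [3, 6, 9, 12, 15, 10, 5, 4]) (.pos [3, 6, 9, 12, 15, 10, 5, 8]) (.pos [9, 18, 27, 36, 45, 30, 15, 8]) (.pos [3, 6, 9, 12, 15, 10, 5, 8])) (.node (.node (.node (.mat 7 [0, 1, 2, 3, 4, 5, 6, 7]) (.pos [5, 10, 15, 20, 17, 14, 11, 8]) (.pos [3, 6, 9, 12, 11, 10, 9, 4]) (.pos [5, 10, 15, 20, 17, 14, 11, 8]) (.pos [7, 14, 21, 28, 27, 26, 25, 8]) (.pos [5, 10, 15, 20, 17, 14, 11, 8])) (.pos [3, 6, 9, 12, 11, 10, 5, 4]) (.pos [1, 2, 3, 4,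 4, 4, 2, 1]) (.pos [3, 6, 9, 12, 11, 10, 5, 4]) (.pos [5, 10, 15, 20, 21, 22, 11, 4]) (.pos [3, 6, 9, 12, 11, 10, 5, 4])) (.pos [7, 14, 21, 28, 27, 18, 9, 8]) (.pos [5, 10, 15, 20, 21, 14, 7, 4]) (.pos [7, 14, 21, 28, 27, 18, 9, 8]) (.pos [13, 26, 39, 52, 57, 38, 19, 8]) (.pos [7, 14, 21, 28, 27, 18, 9, 8])) (.pos [1, 2, 3, 4, 3, 2, 1, 1]) (.pos [1, 2, 3, 4, 3, 2, 1, 2]) (.pos [3, 6, 9, 12, 9, 6, 3, 2]) (.pos [1, 2, 3, 4, 3, 2, 1, 2])) (.node (.node (.node (.node (.neg [46, 91, 135, 110, 84, 57, 29, 68]) (.pos [3, 6, 9, 8, 7, 6, 5, 4]) (.pos [7, 14, 21, 20, 19, 18, 17, 8]) (.pos [3, 6, 9, 8, 7, 6, 5, 4]) (.pos [1, 2, 3, 3, 3, 3, 3, 1]) (.pos [3, 6, 9, 8, 7, 6, 5, 4])) (.pos [7, 14, 21, 20, 19, 18, 9, 8]) (.pos [9, 18, 27, 28, 29,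 30, 15, 8]) (.pos [7, 14, 21, 20, 19, 18, 9, 8]) (.pos [11, 22, 33, 36, 39, 42, 21, 8]) (.pos [7, 14, 21, 20, 19, 18, 9, 8])) (.pos [1, 2, 3, 3, 3, 2, 1, 1]) (.pos [11, 22, 33, 36, 39, 26, 13, 8]) (.pos [1, 2, 3, 3, 3, 2, 1, 1]) (.pos [7, 14, 21, 24, 27, 18, 9, 4]) (.pos [1, 2, 3, 3, 3, 2, 1, 1])) (.pos [9, 18, 27, 28, 21, 14, 7, 8]) (.pos [13, 26, 39, 44, 33, 22, 11, 8]) (.pos [9, 18, 27, 28, 21, 14, 7, 8]) (.pos [17, 34, 51, 60, 45, 30, 15, 8]) (.pos [9, 18, 27, 28, 21, 14, 7, 8])) (.pos [5, 10, 15, 12, 9, 6, 3, 4]) (.pos [5, 10, 15, 12, 9, 6, 3, 8]) (.pos [15, 30, 45, 36, 27, 18, 9, 8]) (.pos [5, 10, 15, 12, 9, 6, 3, 8])) (.node (.node (.node (.node (.node (.neg [14, 27, 25, 22, 18, 13, 7, 14]) (.pos [7, 14, 13, 12, 11, 10, 9,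 8]) (.pos [1, 2, 2, 2, 2, 2, 2, 1]) (.pos [7, 14, 13, 12, 11, 10, 9, 8]) (.pos [9, 18, 19, 20, 21, 22, 23, 8]) (.pos [7, 14, 13, 12, 11, 10, 9, 8])) (.pos [1, 2, 2, 2, 2, 2, 1, 1]) (.pos [5, 10, 11, 12, 13, 14, 7, 4]) (.pos [1, 2, 2, 2, 2, 2, 1, 1]) (.pos [3, 6, 7, 8, 9, 10, 5, 2]) (.pos [1, 2, 2, 2, 2, 2, 1, 1])) (.pos [9, 18, 19, 20, 21, 14, 7, 8]) (.pos [3, 6, 7, 8, 9, 6, 3, 2]) (.pos [9, 18, 19, 20, 21, 14, 7, 8]) (.pos [15, 30, 37, 44, 51, 34, 17, 8]) (.pos [9, 18, 19, 20, 21, 14, 7, 8])) (.pos [5, 10, 11, 12, 9, 6, 3, 4]) (.pos [7, 14, 17, 20, 15, 10, 5, 4]) (.pos [5, 10, 11, 12, 9, 6, 3, 4]) (.pos [9, 18, 23, 28, 21, 14, 7, 4]) (.pos [5, 10, 11, 12, 9, 6, 3, 4])) (.pos [11, 22, 25, 20, 15, 10, 5, 8]) (.pos [2, 4, 5, 4, 3, 2,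 1, 1]) (.pos [11, 22, 25, 20, 15, 10, 5, 8]) (.pos [21, 42, 55, 44, 33, 22, 11, 8]) (.pos [11, 22, 25, 20, 15, 10, 5, 8])) (.pos [3, 6, 5, 4, 3, 2, 1, 2]) (.pos [3, 6, 5, 4, 3, 2, 1, 4]) (.pos [9, 18, 15, 12, 9, 6, 3, 4]) (.pos [3, 6, 5, 4, 3, 2, 1, 4])) (.node (.node (.node (.node (.node (.node (.neg [7, 9, 10, 10, 9, 7, 4, 4]) (.mat 0 [0, 1, 2, 3, 4, 5, 6, 7]) (.pos [9, 10, 11, 12, 13, 14, 15, 8]) (.pos [1, 1, 1, 1, 1, 1, 1, 1]) (.pos [5, 6, 7, 8, 9, 10, 11, 4]) (.pos [1, 1, 1, 1, 1, 1, 1, 1])) (.pos [9, 10, 11, 12, 13, 14, 7, 8]) (.pos [11, 14, 17, 20, 23, 26, 13, 8]) (.pos [9, 10, 11, 12, 13, 14, 7, 8]) (.pos [13, 18, 23, 28, 33, 38, 19, 8]) (.pos [9, 10, 11, 12, 13, 14, 7, 8])) (.pos [5, 6, 7, 8, 9, 6, 3, 4]) (.pos [13, 18, 23,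 28, 33, 22, 11, 8]) (.pos [5, 6, 7, 8, 9, 6, 3, 4]) (.pos [2, 3, 4, 5, 6, 4, 2, 1]) (.pos [5, 6, 7, 8, 9, 6, 3, 4])) (.pos [11, 14, 17, 20, 15, 10, 5, 8]) (.pos [15, 22, 29, 36, 27, 18, 9, 8]) (.pos [11, 14, 17, 20, 15, 10, 5, 8]) (.pos [19, 30, 41, 52, 39, 26, 13, 8]) (.pos [11, 14, 17, 20, 15, 10, 5, 8])) (.pos [3, 4, 5, 4, 3, 2, 1, 2]) (.pos [17, 26, 35, 28, 21, 14, 7, 8]) (.pos [3, 4, 5, 4, 3, 2, 1, 2]) (.pos [11, 18, 25, 20, 15, 10, 5, 4]) (.pos [3, 4, 5, 4, 3, 2, 1, 2])) (.pos [13, 18, 15, 12, 9, 6, 3, 8]) (.pos [19, 30, 25, 20, 15, 10, 5, 8]) (.pos [13, 18, 15, 12, 9, 6, 3, 8]) (.pos [25, 42, 35, 28, 21, 14, 7, 8]) (.pos [13, 18, 15, 12, 9, 6, 3, 8])) (.node (.node (.node (.node (.node (.node (.neg [35, 33, 30, 26, 21, 15,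 8, 18]) (.pos [15, 14, 13, 12, 11, 10, 9, 8]) (.pos [2, 2, 2, 2, 2, 2, 2, 1]) (.pos [15, 14, 13, 12, 11, 10, 9, 8]) (.pos [17, 18, 19, 20, 21, 22, 23, 8]) (.pos [15, 14, 13, 12, 11, 10, 9, 8])) (.pos [2, 2, 2, 2, 2, 2, 1, 1]) (.pos [9, 10, 11, 12, 13, 14, 7, 4]) (.pos [2, 2, 2, 2, 2, 2, 1, 1]) (.pos [5, 6, 7, 8, 9, 10, 5, 2]) (.pos [2, 2, 2, 2, 2, 2, 1, 1])) (.pos [17, 18, 19, 20, 21, 14, 7, 8]) (.pos [5, 6, 7, 8, 9, 6, 3, 2]) (.pos [17, 18, 19, 20, 21, 14, 7, 8]) (.pos [23, 30, 37, 44, 51, 34, 17, 8]) (.pos [17, 18, 19, 20, 21, 14, 7, 8])) (.pos [9, 10, 11, 12, 9, 6, 3, 4]) (.pos [11, 14, 17, 20, 15, 10, 5, 4]) (.pos [9, 10, 11, 12, 9, 6, 3, 4]) (.pos [13, 18, 23, 28, 21, 14, 7, 4]) (.pos [9, 10, 11, 12, 9, 6, 3, 4])) (.pos [19,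 22, 25, 20, 15, 10, 5, 8]) (.pos [3, 4, 5, 4, 3, 2, 1, 1]) (.pos [19, 22, 25, 20, 15, 10, 5, 8]) (.pos [29, 42, 55, 44, 33, 22, 11, 8]) (.pos [19, 22, 25, 20, 15, 10, 5, 8])) (.pos [5, 6, 5, 4, 3, 2, 1, 2]) (.pos [13, 18, 15, 12, 9, 6, 3, 4]) (.pos [5, 6, 5, 4, 3, 2, 1, 2]) (.pos [4, 6, 5, 4, 3, 2, 1, 1]) (.pos [5, 6, 5, 4, 3, 2, 1, 2])) (.node (.node (.node (.node (.node (.node (.neg [63, 60, 55, 48, 39, 28, 15, 64]) (.pos [1, 1, 1, 1, 1, 1, 1, 1]) (.pos [9, 10, 11, 12, 13, 14, 15, 8]) (.pos [1, 1, 1, 1, 1, 1, 1, 1]) (.pos [5, 6, 7, 8, 9, 10, 11, 4]) (.pos [1, 1, 1, 1, 1, 1, 1, 1])) (.pos [9, 10, 11, 12, 13, 14, 7, 8]) (.pos [11, 14, 17, 20, 23, 26, 13, 8]) (.pos [9, 10, 11, 12, 13, 14, 7, 8]) (.pos [13, 18, 23, 28, 33, 38, 19, 8])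 (.pos [9, 10, 11, 12, 13, 14, 7, 8])) (.pos [5, 6, 7, 8, 9, 6, 3, 4]) (.pos [13, 18, 23, 28, 33, 22, 11, 8]) (.pos [5, 6, 7, 8, 9, 6, 3, 4]) (.pos [2, 3, 4, 5, 6, 4, 2, 1]) (.pos [5, 6, 7, 8, 9, 6, 3, 4])) (.pos [11, 14, 17, 20, 15, 10, 5, 8]) (.pos [15, 22, 29, 36, 27, 18, 9, 8]) (.pos [11, 14, 17, 20, 15, 10, 5, 8]) (.pos [19, 30, 41, 52, 39, 26, 13, 8]) (.pos [11, 14, 17, 20, 15, 10, 5, 8])) (.pos [3, 4, 5, 4, 3, 2, 1, 2]) (.pos [17, 26, 35, 28, 21, 14, 7, 8]) (.pos [3, 4, 5, 4, 3, 2, 1, 2]) (.pos [11, 18, 25, 20, 15, 10, 5, 4]) (.pos [3, 4, 5, 4, 3, 2, 1, 2])) (.pos [13, 18, 15, 12, 9, 6, 3, 8]) (.pos [19, 30, 25, 20, 15, 10, 5, 8]) (.pos [13, 18, 15, 12, 9, 6, 3, 8]) (.pos [25, 42, 35, 28, 21, 14, 7, 8]) (.pos [13, 18, 15, 12,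 9, 6, 3, 8])) (.pos [21, 18, 15, 12, 9, 6, 3, 8]) (.pos [7, 6, 5, 4, 3, 2, 1, 8])),
  (.node (.node (.node (.node (.node (.node (.node .zero (.pos [2, 4, 6, 8, 10, 12, 7, 2]) (.pos [2, 4, 6, 8, 10, 12, 7, 1]) (.pos [2, 4, 6, 8, 10, 12, 7, 2]) (.pos [6, 12, 18, 24, 30, 36, 21, 2]) (.pos [2, 4, 6, 8, 10, 12, 7, 2])) (.pos [1, 2, 3, 4, 5, 6, 3, 1]) (.pos [2, 4, 6, 8, 10, 12, 6, 1]) (.pos [1, 2, 3, 4, 5, 6, 3, 1]) (.pos [3, 6, 9, 12, 15, 18, 9, 1]) (.pos [1, 2, 3, 4, 5, 6, 3, 1])) (.pos [2, 4, 6, 8, 10, 10, 5, 2]) (.pos [2, 4, 6, 8, 10, 10, 5, 1]) (.pos [2, 4, 6, 8, 10, 10, 5, 2]) (.pos [6, 12, 18, 24, 30, 30, 15, 2]) (.pos [2, 4, 6, 8, 10, 10, 5, 2])) (.pos [1, 2, 3, 4, 4, 4, 2, 1]) (.pos [2, 4, 6, 8, 8, 8, 4, 1]) (.pos [1, 2, 3, 4,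 4, 4, 2, 1]) (.pos [3, 6, 9, 12, 12, 12, 6, 1]) (.pos [1, 2, 3, 4, 4, 4, 2, 1])) (.pos [2, 4, 6, 6, 6, 6, 3, 2]) (.pos [2, 4, 6, 6, 6, 6, 3, 1]) (.pos [2, 4, 6, 6, 6, 6, 3, 2]) (.pos [6, 12, 18, 18, 18, 18, 9, 2]) (.pos [2, 4, 6, 6, 6, 6, 3, 2])) (.node (.node (.node (.node (.node (.mat 5 [6, 5, 4, 3, 2, 1, 0, 7]) (.pos [4, 8, 10, 12, 14, 16, 9, 2]) (.pos [3, 6, 8, 10, 12, 14, 8, 1]) (.pos [4, 8, 10, 12, 14, 16, 9, 2]) (.pos [8, 16, 22, 28, 34, 40, 23, 2]) (.pos [4, 8, 10, 12, 14, 16, 9, 2])) (.pos [2, 4, 5, 6, 7, 8, 4, 1]) (.pos [3, 6, 8, 10, 12, 14, 7, 1]) (.pos [2, 4, 5, 6, 7, 8, 4, 1]) (.pos [4, 8, 11, 14, 17, 20, 10, 1]) (.pos [2, 4, 5, 6, 7, 8, 4, 1])) (.pos [4, 8, 10, 12, 14, 14, 7, 2]) (.pos [3, 6, 8, 10, 12, 12, 6, 1]) (.pos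 [4, 8, 10, 12, 14, 14, 7, 2]) (.pos [8, 16, 22, 28, 34, 34, 17, 2]) (.pos [4, 8, 10, 12, 14, 14, 7, 2])) (.pos [2, 4, 5, 6, 6, 6, 3, 1]) (.pos [3, 6, 8, 10, 10, 10, 5, 1]) (.pos [2, 4, 5, 6, 6, 6, 3, 1]) (.pos [4, 8, 11, 14, 14, 14, 7, 1]) (.pos [2, 4, 5, 6, 6, 6, 3, 1])) (.pos [4, 8, 10, 10, 10, 10, 5, 2]) (.pos [3, 6, 8, 8, 8, 8, 4, 1]) (.pos [4, 8, 10, 10, 10, 10, 5, 2]) (.pos [8, 16, 22, 22, 22, 22, 11, 2]) (.pos [4, 8, 10, 10, 10, 10, 5, 2])) (.pos [2, 4, 4, 4, 4, 4, 2, 1]) (.pos [1, 2, 2, 2, 2, 2, 1, 1]) (.pos [3, 6, 6, 6, 6, 6, 3, 1]) (.pos [1, 2, 2, 2, 2, 2, 1, 1])) (.node (.node (.node (.node (.node (.node (.neg [15, 21, 26, 30, 33, 35, 18, 8]) (.pos [2, 3, 4, 5, 6, 7, 4, 1]) (.pos [6, 10, 14, 18, 22, 26, 15, 2]) (.pos [2,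 3, 4, 5, 6, 7, 4, 1]) (.pos [4, 7, 10, 13, 16, 19, 11, 1]) (.pos [2, 3, 4, 5, 6, 7, 4, 1])) (.pos [4, 6, 8, 10, 12, 14, 7, 2]) (.pos [6, 10, 14, 18, 22, 26, 13, 2]) (.pos [4, 6, 8, 10, 12, 14, 7, 2]) (.pos [8, 14, 20, 26, 32, 38, 19, 2]) (.pos [4, 6, 8, 10, 12, 14, 7, 2])) (.pos [2, 3, 4, 5, 6, 6, 3, 1]) (.pos [6, 10, 14, 18, 22, 22, 11, 2]) (.pos [2, 3, 4, 5, 6, 6, 3, 1]) (.pos [4, 7, 10, 13, 16, 16, 8, 1]) (.pos [2, 3, 4, 5, 6, 6, 3, 1])) (.pos [4, 6, 8, 10, 10, 10, 5, 2]) (.pos [6, 10, 14, 18, 18, 18, 9, 2]) (.pos [4, 6, 8, 10, 10, 10, 5, 2]) (.pos [8, 14, 20, 26, 26, 26, 13, 2]) (.pos [4, 6, 8, 10, 10, 10, 5, 2])) (.pos [2, 3, 4, 4, 4, 4, 2, 1]) (.pos [6, 10, 14, 14, 14, 14, 7, 2]) (.pos [2, 3, 4, 4, 4, 4, 2, 1]) (.pos [4, 7,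 10, 10, 10, 10, 5, 1]) (.pos [2, 3, 4, 4, 4, 4, 2, 1])) (.pos [4, 6, 6, 6, 6, 6, 3, 2]) (.pos [6, 10, 10, 10, 10, 10, 5, 2]) (.pos [4, 6, 6, 6, 6, 6, 3, 2]) (.pos [8, 14, 14, 14, 14, 14, 7, 2]) (.pos [4, 6, 6, 6, 6, 6, 3, 2])) (.node (.node (.node (.node (.node (.node (.mat 2 [6, 5, 4, 3, 2, 1, 0, 7]) (.pos [6, 8, 10, 12, 14, 16, 9, 2]) (.pos [4, 6, 8, 10, 12, 14, 8, 1]) (.pos [6, 8, 10, 12, 14, 16, 9, 2]) (.pos [10, 16, 22, 28, 34, 40, 23, 2]) (.pos [6, 8, 10, 12, 14, 16, 9, 2])) (.pos [3, 4, 5, 6, 7, 8, 4, 1]) (.pos [4, 6, 8, 10, 12, 14, 7, 1]) (.pos [3, 4, 5, 6, 7, 8, 4, 1]) (.pos [5, 8, 11, 14, 17, 20, 10, 1]) (.pos [3, 4, 5, 6, 7, 8, 4, 1])) (.pos [6, 8, 10, 12, 14, 14, 7, 2]) (.pos [4, 6, 8, 10, 12, 12, 6, 1]) (.pos [6, 8, 10,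 12, 14, 14, 7, 2]) (.pos [10, 16, 22, 28, 34, 34, 17, 2]) (.pos [6, 8, 10, 12, 14, 14, 7, 2])) (.pos [3, 4, 5, 6, 6, 6, 3, 1]) (.pos [4, 6, 8, 10, 10, 10, 5, 1]) (.pos [3, 4, 5, 6, 6, 6, 3, 1]) (.pos [5, 8, 11, 14, 14, 14, 7, 1]) (.pos [3, 4, 5, 6, 6, 6, 3, 1])) (.pos [6, 8, 10, 10, 10, 10, 5, 2]) (.pos [4, 6, 8, 8, 8, 8, 4, 1]) (.pos [6, 8, 10, 10, 10, 10, 5, 2]) (.pos [10, 16, 22, 22, 22, 22, 11, 2]) (.pos [6, 8, 10, 10, 10, 10, 5, 2])) (.pos [3, 4, 4, 4, 4, 4, 2, 1]) (.pos [4, 6, 6, 6, 6, 6, 3, 1]) (.pos [3, 4, 4, 4, 4, 4, 2, 1]) (.pos [5, 8, 8, 8, 8, 8, 4, 1]) (.pos [3, 4, 4, 4, 4, 4, 2, 1])) (.node (.node (.node (.node (.node (.node (.mat 1 [6, 5, 4, 3, 2, 1, 0, 7]) (.pos [2, 3, 4, 5, 6, 7, 4, 1]) (.pos [6, 10, 14, 18, 22, 26,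 15, 2]) (.pos [2, 3, 4, 5, 6, 7, 4, 1]) (.pos [4, 7, 10, 13, 16, 19, 11, 1]) (.pos [2, 3, 4, 5, 6, 7, 4, 1])) (.pos [4, 6, 8, 10, 12, 14, 7, 2]) (.pos [6, 10, 14, 18, 22, 26, 13, 2]) (.pos [4, 6, 8, 10, 12, 14, 7, 2]) (.pos [8, 14, 20, 26, 32, 38, 19, 2]) (.pos [4, 6, 8, 10, 12, 14, 7, 2])) (.pos [2, 3, 4, 5, 6, 6, 3, 1]) (.pos [6, 10, 14, 18, 22, 22, 11, 2]) (.pos [2, 3, 4, 5, 6, 6, 3, 1]) (.pos [4, 7, 10, 13, 16, 16, 8, 1]) (.pos [2, 3, 4, 5, 6, 6, 3, 1])) (.pos [4, 6, 8, 10, 10, 10, 5, 2]) (.pos [6, 10, 14, 18, 18, 18, 9, 2]) (.pos [4, 6, 8, 10, 10, 10, 5, 2]) (.pos [8, 14, 20, 26, 26, 26, 13, 2]) (.pos [4, 6, 8, 10, 10, 10, 5, 2])) (.pos [2, 3, 4, 4, 4, 4, 2, 1]) (.pos [6, 10, 14, 14, 14, 14, 7, 2]) (.pos [2, 3, 4, 4, 4, 4, 2,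 1]) (.pos [4, 7, 10, 10, 10, 10, 5, 1]) (.pos [2, 3, 4, 4, 4, 4, 2, 1])) (.pos [4, 6, 6, 6, 6, 6, 3, 2]) (.pos [6, 10, 10, 10, 10, 10, 5, 2]) (.pos [4, 6, 6, 6, 6, 6, 3, 2]) (.pos [8, 14, 14, 14, 14, 14, 7, 2]) (.pos [4, 6, 6, 6, 6, 6, 3, 2])) (.pos [6, 6, 6, 6, 6, 6, 3, 2]) (.pos [2, 2, 2, 2, 2, 2, 1, 2])),
  (.node (.node (.node (.node (.node (.node (.node .zero (.pos [1, 2, 3, 4, 5, 6, 7, 2]) (.pos [1, 2, 3, 4, 5, 6, 7, 1]) (.pos [1, 2, 3, 4, 5, 6, 7, 2]) (.pos [3, 6, 9, 12, 15, 18, 21, 2]) (.pos [1, 2, 3, 4, 5, 6, 7, 2])) (.pos [1, 2, 3, 4, 5, 6, 6, 1]) (.pos [2, 4, 6, 8, 10, 12, 12, 1]) (.pos [1, 2, 3, 4, 5, 6, 6, 1]) (.pos [3, 6, 9, 12, 15, 18, 18, 1]) (.pos [1, 2, 3, 4, 5, 6, 6, 1])) (.pos [1, 2, 3, 4, 5, 5, 5, 1]) (.pos [2,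 4, 6, 8, 10, 10, 10, 1]) (.pos [1, 2, 3, 4, 5, 5, 5, 1]) (.pos [3, 6, 9, 12, 15, 15, 15, 1]) (.pos [1, 2, 3, 4, 5, 5, 5, 1])) (.pos [1, 2, 3, 4, 4, 4, 4, 1]) (.pos [2, 4, 6, 8, 8, 8, 8, 1]) (.pos [1, 2, 3, 4, 4, 4, 4, 1]) (.pos [3, 6, 9, 12, 12, 12, 12, 1]) (.pos [1, 2, 3, 4, 4, 4, 4, 1])) (.pos [1, 2, 3, 3, 3, 3, 3, 1]) (.pos [2, 4, 6, 6, 6, 6, 6, 1]) (.pos [1, 2, 3, 3, 3, 3, 3, 1]) (.pos [3, 6, 9, 9, 9, 9, 9, 1]) (.pos [1, 2, 3, 3, 3, 3, 3, 1])) (.node (.node (.node (.node (.node (.mat 4 [6, 5, 4, 3, 2, 1, 0, 7]) (.pos [3, 6, 7, 8, 9, 10, 11, 2]) (.pos [2, 4, 5, 6, 7, 8, 9, 1]) (.pos [3, 6, 7, 8, 9, 10, 11, 2]) (.pos [5, 10, 13, 16, 19, 22, 25, 2]) (.pos [3, 6, 7, 8, 9, 10, 11, 2])) (.pos [2, 4, 5, 6, 7, 8, 8, 1]) (.pos [3, 6, 8,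 10, 12, 14, 14, 1]) (.pos [2, 4, 5, 6, 7, 8, 8, 1]) (.pos [4, 8, 11, 14, 17, 20, 20, 1]) (.pos [2, 4, 5, 6, 7, 8, 8, 1])) (.pos [2, 4, 5, 6, 7, 7, 7, 1]) (.pos [3, 6, 8, 10, 12, 12, 12, 1]) (.pos [2, 4, 5, 6, 7, 7, 7, 1]) (.pos [4, 8, 11, 14, 17, 17, 17, 1]) (.pos [2, 4, 5, 6, 7, 7, 7, 1])) (.pos [2, 4, 5, 6, 6, 6, 6, 1]) (.pos [3, 6, 8, 10, 10, 10, 10, 1]) (.pos [2, 4, 5, 6, 6, 6, 6, 1]) (.pos [4, 8, 11, 14, 14, 14, 14, 1]) (.pos [2, 4, 5, 6, 6, 6, 6, 1])) (.pos [2, 4, 5, 5, 5, 5, 5, 1]) (.pos [3, 6, 8, 8, 8, 8, 8, 1]) (.pos [2, 4, 5, 5, 5, 5, 5, 1]) (.pos [4, 8, 11, 11, 11, 11, 11, 1]) (.pos [2, 4, 5, 5, 5, 5, 5, 1])) (.pos [2, 4, 4, 4, 4, 4, 4, 1]) (.pos [1, 2, 2, 2, 2, 2, 2, 1]) (.pos [3, 6, 6, 6, 6, 6, 6, 1]) (.pos [1, 2, 2,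 2, 2, 2, 2, 1])) (.node (.node (.node (.node (.node (.node (.neg [28, 39, 48, 55, 60, 63, 64, 15]) (.pos [3, 4, 5, 6, 7, 8, 9, 2]) (.pos [2, 3, 4, 5, 6, 7, 8, 1]) (.pos [3, 4, 5, 6, 7, 8, 9, 2]) (.pos [5, 8, 11, 14, 17, 20, 23, 2]) (.pos [3, 4, 5, 6, 7, 8, 9, 2])) (.pos [2, 3, 4, 5, 6, 7, 7, 1]) (.pos [3, 5, 7, 9, 11, 13, 13, 1]) (.pos [2, 3, 4, 5, 6, 7, 7, 1]) (.pos [4, 7, 10, 13, 16, 19, 19, 1]) (.pos [2, 3, 4, 5, 6, 7, 7, 1])) (.pos [2, 3, 4, 5, 6, 6, 6, 1]) (.pos [3, 5, 7, 9, 11, 11, 11, 1]) (.pos [2, 3, 4, 5, 6, 6, 6, 1]) (.pos [4, 7, 10, 13, 16, 16, 16, 1]) (.pos [2, 3, 4, 5, 6, 6, 6, 1])) (.pos [2, 3, 4, 5, 5, 5, 5, 1]) (.pos [3, 5, 7, 9, 9, 9, 9, 1]) (.pos [2, 3, 4, 5, 5, 5, 5, 1]) (.pos [4, 7, 10, 13, 13, 13, 13, 1]) (.pos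 [2, 3, 4, 5, 5, 5, 5, 1])) (.pos [2, 3, 4, 4, 4, 4, 4, 1]) (.pos [3, 5, 7, 7, 7, 7, 7, 1]) (.pos [2, 3, 4, 4, 4, 4, 4, 1]) (.pos [4, 7, 10, 10, 10, 10, 10, 1]) (.pos [2, 3, 4, 4, 4, 4, 4, 1])) (.pos [2, 3, 3, 3, 3, 3, 3, 1]) (.pos [3, 5, 5, 5, 5, 5, 5, 1]) (.pos [2, 3, 3, 3, 3, 3, 3, 1]) (.pos [4, 7, 7, 7, 7, 7, 7, 1]) (.pos [2, 3, 3, 3, 3, 3, 3, 1])) (.node (.node (.node (.node (.node (.node (.mat 1 [7, 0, 1, 2, 3, 4, 5, 6]) (.pos [5, 6, 7, 8, 9, 10, 11, 2]) (.pos [3, 4, 5, 6, 7, 8, 9, 1]) (.pos [5, 6, 7, 8, 9, 10, 11, 2]) (.pos [7, 10, 13, 16, 19, 22, 25, 2]) (.pos [5, 6, 7, 8, 9, 10, 11, 2])) (.pos [3, 4, 5, 6, 7, 8, 8, 1]) (.pos [4, 6, 8, 10, 12, 14, 14, 1]) (.pos [3, 4, 5, 6, 7, 8, 8, 1]) (.pos [5, 8, 11, 14, 17, 20, 20, 1])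 (.pos [3, 4, 5, 6, 7, 8, 8, 1])) (.pos [3, 4, 5, 6, 7, 7, 7, 1]) (.pos [4, 6, 8, 10, 12, 12, 12, 1]) (.pos [3, 4, 5, 6, 7, 7, 7, 1]) (.pos [5, 8, 11, 14, 17, 17, 17, 1]) (.pos [3, 4, 5, 6, 7, 7, 7, 1])) (.pos [3, 4, 5, 6, 6, 6, 6, 1]) (.pos [4, 6, 8, 10, 10, 10, 10, 1]) (.pos [3, 4, 5, 6, 6, 6, 6, 1]) (.pos [5, 8, 11, 14, 14, 14, 14, 1]) (.pos [3, 4, 5, 6, 6, 6, 6, 1])) (.pos [3, 4, 5, 5, 5, 5, 5, 1]) (.pos [4, 6, 8, 8, 8, 8, 8, 1]) (.pos [3, 4, 5, 5, 5, 5, 5, 1]) (.pos [5, 8, 11, 11, 11, 11, 11, 1]) (.pos [3, 4, 5, 5, 5, 5, 5, 1])) (.pos [3, 4, 4, 4, 4, 4, 4, 1]) (.pos [4, 6, 6, 6, 6, 6, 6, 1]) (.pos [3, 4, 4, 4, 4, 4, 4, 1]) (.pos [5, 8, 8, 8, 8, 8, 8, 1]) (.pos [3, 4, 4, 4, 4, 4, 4, 1])) (.node (.node (.node (.node (.node (.node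 (.mat 3 [6, 5, 4, 3, 2, 1, 0, 7]) (.pos [3, 4, 5, 6, 7, 8, 9, 2]) (.pos [2, 3, 4, 5, 6, 7, 8, 1]) (.pos [3, 4, 5, 6, 7, 8, 9, 2]) (.pos [5, 8, 11, 14, 17, 20, 23, 2]) (.pos [3, 4, 5, 6, 7, 8, 9, 2])) (.pos [2, 3, 4, 5, 6, 7, 7, 1]) (.pos [3, 5, 7, 9, 11, 13, 13, 1]) (.pos [2, 3, 4, 5, 6, 7, 7, 1]) (.pos [4, 7, 10, 13, 16, 19, 19, 1]) (.pos [2, 3, 4, 5, 6, 7, 7, 1])) (.pos [2, 3, 4, 5, 6, 6, 6, 1]) (.pos [3, 5, 7, 9, 11, 11, 11, 1]) (.pos [2, 3, 4, 5, 6, 6, 6, 1]) (.pos [4, 7, 10, 13, 16, 16, 16, 1]) (.pos [2, 3, 4, 5, 6, 6, 6, 1])) (.pos [2, 3, 4, 5, 5, 5, 5, 1]) (.pos [3, 5, 7, 9, 9, 9, 9, 1]) (.pos [2, 3, 4, 5, 5, 5, 5, 1]) (.pos [4, 7, 10, 13, 13, 13, 13, 1]) (.pos [2, 3, 4, 5, 5, 5, 5, 1])) (.pos [2, 3, 4, 4, 4, 4, 4, 1]) (.pos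 [3, 5, 7, 7, 7, 7, 7, 1]) (.pos [2, 3, 4, 4, 4, 4, 4, 1]) (.pos [4, 7, 10, 10, 10, 10, 10, 1]) (.pos [2, 3, 4, 4, 4, 4, 4, 1])) (.pos [2, 3, 3, 3, 3, 3, 3, 1]) (.pos [3, 5, 5, 5, 5, 5, 5, 1]) (.pos [2, 3, 3, 3, 3, 3, 3, 1]) (.pos [4, 7, 7, 7, 7, 7, 7, 1]) (.pos [2, 3, 3, 3, 3, 3, 3, 1])) (.pos [3, 3, 3, 3, 3, 3, 3, 1]) (.pos [1, 1, 1, 1, 1, 1, 1, 1])),
  (.node (.node (.node (.node (.node (.node (.node .zero (.neg [29, 57, 84, 110, 135, 68, 91, 46]) (.pos [2, 4, 6, 8, 10, 5, 7, 2]) (.pos [2, 4, 6, 8, 10, 5, 7, 4]) (.pos [6, 12, 18, 24, 30, 15, 21, 4]) (.pos [2, 4, 6, 8, 10, 5, 7, 4])) (.node (.neg [29, 57, 84, 110, 135, 91, 68, 46]) (.pos [1, 2, 3, 4, 5, 3, 3, 1]) (.pos [6, 12, 18, 24, 30, 17, 19, 4]) (.pos [1, 2, 3, 4, 5, 3, 3, 1])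 (.pos [4, 8, 12, 16, 20, 11, 13, 2]) (.pos [1, 2, 3, 4, 5, 3, 3, 1])) (.pos [2, 4, 6, 8, 10, 7, 5, 2]) (.pos [2, 4, 6, 8, 10, 7, 5, 4]) (.pos [6, 12, 18, 24, 30, 21, 15, 4]) (.pos [2, 4, 6, 8, 10, 7, 5, 4])) (.pos [2, 4, 6, 8, 10, 5, 5, 2]) (.pos [2, 4, 6, 8, 10, 5, 5, 1]) (.pos [2, 4, 6, 8, 10, 5, 5, 2]) (.pos [6, 12, 18, 24, 30, 15, 15, 2]) (.pos [2, 4, 6, 8, 10, 5, 5, 2])) (.pos [1, 2, 3, 4, 4, 2, 2, 1]) (.pos [2, 4, 6, 8, 8, 4, 4, 1]) (.pos [1, 2, 3, 4, 4, 2, 2, 1]) (.pos [3, 6, 9, 12, 12, 6, 6, 1]) (.pos [1, 2, 3, 4, 4, 2, 2, 1])) (.pos [2, 4, 6, 6, 6, 3, 3, 2]) (.pos [2, 4, 6, 6, 6, 3, 3, 1]) (.pos [2, 4, 6, 6, 6, 3, 3, 2]) (.pos [6, 12, 18, 18, 18, 9, 9, 2]) (.pos [2, 4, 6, 6, 6, 3, 3, 2])) (.node (.node (.node (.node (.node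 (.mat 6 [0, 7, 1, 2, 3, 4, 5, 6]) (.pos [6, 12, 14, 16, 18, 9, 11, 4]) (.pos [4, 8, 10, 12, 14, 7, 9, 2]) (.pos [6, 12, 14, 16, 18, 9, 11, 4]) (.pos [10, 20, 26, 32, 38, 19, 25, 4]) (.pos [6, 12, 14, 16, 18, 9, 11, 4])) (.pos [6, 12, 14, 16, 18, 11, 9, 4]) (.pos [4, 8, 10, 12, 14, 9, 7, 2]) (.pos [6, 12, 14, 16, 18, 11, 9, 4]) (.pos [10, 20, 26, 32, 38, 25, 19, 4]) (.pos [6, 12, 14, 16, 18, 11, 9, 4])) (.pos [4, 8, 10, 12, 14, 7, 7, 2]) (.pos [3, 6, 8, 10, 12, 6, 6, 1]) (.pos [4, 8, 10, 12, 14, 7, 7, 2]) (.pos [8, 16, 22, 28, 34, 17, 17, 2]) (.pos [4, 8, 10, 12, 14, 7, 7, 2])) (.pos [2, 4, 5, 6, 6, 3, 3, 1]) (.pos [3, 6, 8, 10, 10, 5, 5, 1]) (.pos [2, 4, 5, 6, 6, 3, 3, 1]) (.pos [4, 8, 11, 14, 14, 7, 7, 1]) (.pos [2, 4, 5, 6, 6, 3,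 3, 1])) (.pos [4, 8, 10, 10, 10, 5, 5, 2]) (.pos [3, 6, 8, 8, 8, 4, 4, 1]) (.pos [4, 8, 10, 10, 10, 5, 5, 2]) (.pos [8, 16, 22, 22, 22, 11, 11, 2]) (.pos [4, 8, 10, 10, 10, 5, 5, 2])) (.pos [2, 4, 4, 4, 4, 2, 2, 1]) (.pos [1, 2, 2, 2, 2, 1, 1, 1]) (.pos [3, 6, 6, 6, 6, 3, 3, 1]) (.pos [1, 2, 2, 2, 2, 1, 1, 1])) (.node (.node (.node (.node (.node (.node (.neg [13, 18, 22, 25, 27, 14, 14, 7]) (.pos [6, 8, 10, 12, 14, 7, 9, 4]) (.pos [2, 3, 4, 5, 6, 3, 4, 1]) (.pos [6, 8, 10, 12, 14, 7, 9, 4]) (.pos [10, 16, 22, 28, 34, 17, 23, 4]) (.pos [6, 8, 10, 12, 14, 7, 9, 4])) (.pos [6, 8, 10, 12, 14, 9, 7, 4]) (.pos [2, 3, 4, 5, 6, 4, 3, 1]) (.pos [6, 8, 10, 12, 14, 9, 7, 4]) (.pos [10, 16, 22, 28, 34, 23, 17, 4]) (.pos [6, 8, 10, 12, 14, 9,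 7, 4])) (.pos [2, 3, 4, 5, 6, 3, 3, 1]) (.pos [6, 10, 14, 18, 22, 11, 11, 2]) (.pos [2, 3, 4, 5, 6, 3, 3, 1]) (.pos [4, 7, 10, 13, 16, 8, 8, 1]) (.pos [2, 3, 4, 5, 6, 3, 3, 1])) (.pos [4, 6, 8, 10, 10, 5, 5, 2]) (.pos [6, 10, 14, 18, 18, 9, 9, 2]) (.pos [4, 6, 8, 10, 10, 5, 5, 2]) (.pos [8, 14, 20, 26, 26, 13, 13, 2]) (.pos [4, 6, 8, 10, 10, 5, 5, 2])) (.pos [2, 3, 4, 4, 4, 2, 2, 1]) (.pos [6, 10, 14, 14, 14, 7, 7, 2]) (.pos [2, 3, 4, 4, 4, 2, 2, 1]) (.pos [4, 7, 10, 10, 10, 5, 5, 1]) (.pos [2, 3, 4, 4, 4, 2, 2, 1])) (.pos [4, 6, 6, 6, 6, 3, 3, 2]) (.pos [6, 10, 10, 10, 10, 5, 5, 2]) (.pos [4, 6, 6, 6, 6, 3, 3, 2]) (.pos [8, 14, 14, 14, 14, 7, 7, 2]) (.pos [4, 6, 6, 6, 6, 3, 3, 2])) (.node (.node (.node (.node (.node (.node (.mat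 5 [7, 0, 1, 2, 3, 4, 5, 6]) (.pos [10, 12, 14, 16, 18, 9, 11, 4]) (.pos [6, 8, 10, 12, 14, 7, 9, 2]) (.pos [10, 12, 14, 16, 18, 9, 11, 4]) (.pos [14, 20, 26, 32, 38, 19, 25, 4]) (.pos [10, 12, 14, 16, 18, 9, 11, 4])) (.pos [10, 12, 14, 16, 18, 11, 9, 4]) (.pos [6, 8, 10, 12, 14, 9, 7, 2]) (.pos [10, 12, 14, 16, 18, 11, 9, 4]) (.pos [14, 20, 26, 32, 38, 25, 19, 4]) (.pos [10, 12, 14, 16, 18, 11, 9, 4])) (.pos [6, 8, 10, 12, 14, 7, 7, 2]) (.pos [4, 6, 8, 10, 12, 6, 6, 1]) (.pos [6, 8, 10, 12, 14, 7, 7, 2]) (.pos [10, 16, 22, 28, 34, 17, 17, 2]) (.pos [6, 8, 10, 12, 14, 7, 7, 2])) (.pos [3, 4, 5, 6, 6, 3, 3, 1]) (.pos [4, 6, 8, 10, 10, 5, 5, 1]) (.pos [3, 4, 5, 6, 6, 3, 3, 1]) (.pos [5, 8, 11, 14, 14, 7, 7, 1]) (.pos [3, 4, 5, 6, 6,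 3, 3, 1])) (.pos [6, 8, 10, 10, 10, 5, 5, 2]) (.pos [4, 6, 8, 8, 8, 4, 4, 1]) (.pos [6, 8, 10, 10, 10, 5, 5, 2]) (.pos [10, 16, 22, 22, 22, 11, 11, 2]) (.pos [6, 8, 10, 10, 10, 5, 5, 2])) (.pos [3, 4, 4, 4, 4, 2, 2, 1]) (.pos [4, 6, 6, 6, 6, 3, 3, 1]) (.pos [3, 4, 4, 4, 4, 2, 2, 1]) (.pos [5, 8, 8, 8, 8, 4, 4, 1]) (.pos [3, 4, 4, 4, 4, 2, 2, 1])) (.node (.node (.node (.node (.node (.node (.mat 4 [7, 0, 1, 2, 3, 4, 5, 6]) (.pos [6, 8, 10, 12, 14, 7, 9, 4]) (.pos [2, 3, 4, 5, 6, 3, 4, 1]) (.pos [6, 8, 10, 12, 14, 7, 9, 4]) (.pos [10, 16, 22, 28, 34, 17, 23, 4]) (.pos [6, 8, 10, 12, 14, 7, 9, 4])) (.pos [6, 8, 10, 12, 14, 9, 7, 4]) (.pos [2, 3, 4, 5, 6, 4, 3, 1]) (.pos [6, 8, 10, 12, 14, 9, 7, 4]) (.pos [10, 16, 22, 28, 34, 23, 17, 4])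 (.pos [6, 8, 10, 12, 14, 9, 7, 4])) (.pos [2, 3, 4, 5, 6, 3, 3, 1]) (.pos [6, 10, 14, 18, 22, 11, 11, 2]) (.pos [2, 3, 4, 5, 6, 3, 3, 1]) (.pos [4, 7, 10, 13, 16, 8, 8, 1]) (.pos [2, 3, 4, 5, 6, 3, 3, 1])) (.pos [4, 6, 8, 10, 10, 5, 5, 2]) (.pos [6, 10, 14, 18, 18, 9, 9, 2]) (.pos [4, 6, 8, 10, 10, 5, 5, 2]) (.pos [8, 14, 20, 26, 26, 13, 13, 2]) (.pos [4, 6, 8, 10, 10, 5, 5, 2])) (.pos [2, 3, 4, 4, 4, 2, 2, 1]) (.pos [6, 10, 14, 14, 14, 7, 7, 2]) (.pos [2, 3, 4, 4, 4, 2, 2, 1]) (.pos [4, 7, 10, 10, 10, 5, 5, 1]) (.pos [2, 3, 4, 4, 4, 2, 2, 1])) (.pos [4, 6, 6, 6, 6, 3, 3, 2]) (.pos [6, 10, 10, 10, 10, 5, 5, 2]) (.pos [4, 6, 6, 6, 6, 3, 3, 2]) (.pos [8, 14, 14, 14, 14, 7, 7, 2]) (.pos [4, 6, 6, 6, 6, 3, 3, 2])) (.pos [6, 6, 6, 6, 6,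 3, 3, 2]) (.pos [2, 2, 2, 2, 2, 1, 1, 2])),
  (.node (.node (.node (.node (.node (.node (.node .zero (.pos [3, 6, 9, 12, 8, 4, 7, 2]) (.pos [3, 6, 9, 12, 8, 4, 7, 1]) (.pos [3, 6, 9, 12, 8, 4, 7, 2]) (.pos [9, 18, 27, 36, 24, 12, 21, 2]) (.pos [3, 6, 9, 12, 8, 4, 7, 2])) (.node (.mat 7 [0, 1, 2, 3, 4, 5, 7, 6]) (.pos [5, 10, 15, 20, 14, 8, 11, 2]) (.pos [4, 8, 12, 16, 11, 6, 9, 1]) (.pos [5, 10, 15, 20, 14, 8, 11, 2]) (.pos [11, 22, 33, 44, 30, 16, 25, 2]) (.pos [5, 10, 15, 20, 14, 8, 11, 2])) (.pos [2, 4, 6, 8, 6, 4, 4, 1]) (.pos [1, 2, 3, 4, 3, 2, 2, 1]) (.pos [3, 6, 9, 12, 9, 6, 6, 1]) (.pos [1, 2, 3, 4, 3, 2, 2, 1])) (.pos [2, 4, 6, 8, 6, 3, 4, 1]) (.pos [4, 8, 12, 16, 12, 6, 8, 1]) (.pos [2, 4, 6, 8, 6, 3, 4, 1]) (.pos [6, 12,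 18, 24, 18, 9, 12, 1]) (.pos [2, 4, 6, 8, 6, 3, 4, 1])) (.pos [3, 6, 9, 12, 8, 4, 6, 1]) (.pos [6, 12, 18, 24, 16, 8, 12, 1]) (.pos [3, 6, 9, 12, 8, 4, 6, 1]) (.pos [9, 18, 27, 36, 24, 12, 18, 1]) (.pos [3, 6, 9, 12, 8, 4, 6, 1])) (.pos [5, 10, 15, 18, 12, 6, 9, 2]) (.pos [5, 10, 15, 18, 12, 6, 9, 1]) (.pos [5, 10, 15, 18, 12, 6, 9, 2]) (.pos [15, 30, 45, 54, 36, 18, 27, 2]) (.pos [5, 10, 15, 18, 12, 6, 9, 2])) (.pos [2, 4, 5, 6, 4, 2, 3, 1]) (.pos [4, 8, 10, 12, 8, 4, 6, 1]) (.pos [2, 4, 5, 6, 4, 2, 3, 1]) (.pos [6, 12, 15, 18, 12, 6, 9, 1]) (.pos [2, 4, 5, 6, 4, 2, 3, 1])) (.node (.node (.node (.node (.node (.node (.neg [57, 84, 110, 135, 91, 46, 68, 29]) (.pos [3, 5, 7, 9, 6, 3, 5, 1]) (.pos [9, 16, 23, 30, 20, 10, 17, 2]) (.pos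 [3, 5, 7, 9, 6, 3, 5, 1]) (.pos [6, 11, 16, 21, 14, 7, 12, 1]) (.pos [3, 5, 7, 9, 6, 3, 5, 1])) (.pos [5, 8, 11, 14, 10, 6, 7, 2]) (.pos [7, 12, 17, 22, 16, 10, 11, 2]) (.pos [5, 8, 11, 14, 10, 6, 7, 2]) (.pos [9, 16, 23, 30, 22, 14, 15, 2]) (.pos [5, 8, 11, 14, 10, 6, 7, 2])) (.pos [7, 12, 17, 22, 16, 8, 11, 2]) (.pos [11, 20, 29, 38, 28, 14, 19, 2]) (.pos [7, 12, 17, 22, 16, 8, 11, 2]) (.pos [15, 28, 41, 54, 40, 20, 27, 2]) (.pos [7, 12, 17, 22, 16, 8, 11, 2])) (.pos [9, 16, 23, 30, 20, 10, 15, 2]) (.pos [15, 28, 41, 54, 36, 18, 27, 2]) (.pos [9, 16, 23, 30, 20, 10, 15, 2]) (.pos [21, 40, 59, 78, 52, 26, 39, 2]) (.pos [9, 16, 23, 30, 20, 10, 15, 2])) (.pos [4, 7, 10, 12, 8, 4, 6, 1]) (.pos [13, 24, 35, 42, 28, 14, 21, 2]) (.pos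 [4, 7, 10, 12, 8, 4, 6, 1]) (.pos [9, 17, 25, 30, 20, 10, 15, 1]) (.pos [4, 7, 10, 12, 8, 4, 6, 1])) (.pos [7, 12, 15, 18, 12, 6, 9, 2]) (.pos [11, 20, 25, 30, 20, 10, 15, 2]) (.pos [7, 12, 15, 18, 12, 6, 9, 2]) (.pos [15, 28, 35, 42, 28, 14, 21, 2]) (.pos [7, 12, 15, 18, 12, 6, 9, 2])) (.pos [3, 4, 5, 6, 4, 2, 3, 1]) (.pos [3, 4, 5, 6, 4, 2, 3, 2]) (.pos [9, 12, 15, 18, 12, 6, 9, 2]) (.pos [3, 4, 5, 6, 4, 2, 3, 2]))]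

set_option maxRecDepth 100000 in
theorem acheck : ∀ idx < F7.length,
    check true (F7.getD idx []) 7 typesC (atrees.getD idx Tree.zero) [] = true := by
  decide +kernel

theorem claimTop (T : Models.NumericalType 8) (hm2 : ∀ i, T.IsMinusTwo i) : Claim T 8 typesC :=
  step T (by norm_num) hm2 7 (by norm_num) true (by simp) F7 typesC atrees acheck
    (claim7 T (by norm_num) hm2 (by norm_num))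

end Groth.Agent.Lib.Helper24.NumTypeAff8
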