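import Mathlib
import Groth.Prelude.Def_Models
import Groth.Agent.Lib.Helper24.NumTypeEngine
import Groth.Agent.Lib.Helper24.NumTypeGlue
import Groth.Agent.Lib.Helper24.NumTypeData

/-! # Genus-one numerical types on 9 indices: the Cartan matrix is one of the listed ones
(generated by a script). -/

set_option autoImplicit false

namespace Groth.Agent.Lib.Helper24.NumTypeAff9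

open Models
open Groth.Agent.Lib.Helper24.NumTypeEngine Groth.Agent.Lib.Helper24.NumTypeGlue
open Groth.Agent.Lib.Helper24.NumTypeData

def typesC : List (List (List ℤ)) := [[[-2, 1, 0, 0, 0, 0, 0, 0, 1], [1, -2, 1, 0, 0, 0, 0, 0, 0], [0, 1, -2, 1, 0, 0, 0, 0, 0], [0, 0, 1, -2, 1, 0, 0, 0, 0], [0, 0, 0, 1, -2, 1, 0, 0, 0], [0, 0, 0, 0, 1, -2, 1, 0, 0], [0, 0, 0, 0, 0, 1, -2, 1, 0], [0, 0, 0, 0, 0, 0, 1, -2, 1], [1, 0, 0, 0, 0, 0, 0, 1, -2]], [[-2, 2, 0, 0, 0, 0, 0, 0, 0], [1, -2, 1, 0, 0, 0, 0, 0, 0], [0, 1, -2, 1, 0, 0, 0, 0, 0], [0, 0, 1, -2, 1, 0, 0, 0, 0], [0, 0, 0, 1, -2, 1, 0, 0, 0], [0, 0, 0, 0, 1, -2, 1, 0, 0], [0, 0, 0, 0, 0, 1, -2, 1, 0], [0, 0, 0, 0, 0, 0, 1, -2, 2], [0, 0, 0, 0, 0, 0, 0, 1, -2]], [[-2, 2, 0, 0, 0,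 0, 0, 0, 0], [1, -2, 1, 0, 0, 0, 0, 0, 0], [0, 1, -2, 1, 0, 0, 0, 0, 0], [0, 0, 1, -2, 1, 0, 0, 0, 0], [0, 0, 0, 1, -2, 1, 0, 0, 0], [0, 0, 0, 0, 1, -2, 1, 0, 0], [0, 0, 0, 0, 0, 1, -2, 1, 0], [0, 0, 0, 0, 0, 0, 1, -2, 1], [0, 0, 0, 0, 0, 0, 0, 2, -2]], [[-2, 1, 0, 0, 0, 0, 0, 0, 0], [2, -2, 1, 0, 0, 0, 0, 0, 0], [0, 1, -2, 1, 0, 0, 0, 0, 0], [0, 0, 1, -2, 1, 0, 0, 0, 0], [0, 0, 0, 1, -2, 1, 0, 0, 0], [0, 0, 0, 0, 1, -2, 1, 0, 0], [0, 0, 0, 0, 0, 1, -2, 1, 0], [0, 0, 0, 0, 0, 0, 1, -2, 2], [0, 0, 0, 0, 0, 0, 0, 1, -2]], [[-2, 1, 0, 0, 0, 0, 0, 0, 0], [2, -2, 1, 0, 0, 0, 0, 0, 0], [0, 1, -2, 1, 0, 0, 0, 0, 0], [0, 0, 1, -2, 1, 0, 0, 0, 0], [0, 0, 0, 1, -2, 1, 0, 0, 0], [0, 0, 0, 0, 1, -2, 1, 0, 0], [0, 0, 0, 0, 0, 1, -2, 1, 1],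 [0, 0, 0, 0, 0, 0, 1, -2, 0], [0, 0, 0, 0, 0, 0, 1, 0, -2]], [[-2, 2, 0, 0, 0, 0, 0, 0, 0], [1, -2, 1, 0, 0, 0, 0, 0, 0], [0, 1, -2, 1, 0, 0, 0, 0, 0], [0, 0, 1, -2, 1, 0, 0, 0, 0], [0, 0, 0, 1, -2, 1, 0, 0, 0], [0, 0, 0, 0, 1, -2, 1, 0, 0], [0, 0, 0, 0, 0, 1, -2, 1, 1], [0, 0, 0, 0, 0, 0, 1, -2, 0], [0, 0, 0, 0, 0, 0, 1, 0, -2]], [[-2, 0, 1, 0, 0, 0, 0, 0, 0], [0, -2, 1, 0, 0, 0, 0, 0, 0], [1, 1, -2, 1, 0, 0, 0, 0, 0], [0, 0, 1, -2, 1, 0, 0, 0, 0], [0, 0, 0, 1, -2, 1, 0, 0, 0], [0, 0, 0, 0, 1, -2, 1, 0, 0], [0, 0, 0, 0, 0, 1, -2, 1, 1], [0, 0, 0, 0, 0, 0, 1, -2, 0], [0, 0, 0, 0, 0, 0, 1, 0, -2]], [[-2, 1, 0, 0, 0, 0, 0, 0, 0], [1, -2, 1, 0, 0, 0, 0, 0, 0], [0, 1, -2, 1, 0, 0, 0, 0, 0], [0, 0, 1, -2, 1, 0, 0, 0, 0], [0, 0, 0, 1,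 -2, 1, 0, 0, 0], [0, 0, 0, 0, 1, -2, 1, 0, 1], [0, 0, 0, 0, 0, 1, -2, 1, 0], [0, 0, 0, 0, 0, 0, 1, -2, 0], [0, 0, 0, 0, 0, 1, 0, 0, -2]]]

def atrees : List Tree := [
  (.node (.node (.node (.node (.node (.node (.node (.node .zero (.neg [9, 16, 21, 24, 25, 24, 21, 16, 9]) (.neg [18, 34, 48, 60, 70, 78, 84, 88, 45]) (.neg [17, 32, 45, 56, 65, 72, 77, 80, 81]) (.pos [1, 2, 3, 4, 5, 6, 7, 8, 3]) (.pos [1, 2, 3, 4, 5, 6, 7, 8, 9])) (.node (.neg [8, 15, 21, 26, 30, 33, 35, 18, 18]) (.pos [1, 2, 3, 4, 5, 6, 7, 5, 3]) (.pos [4, 8, 12, 16, 20, 24, 28, 23, 9]) (.pos [1, 2, 3, 4, 5, 6, 7, 5, 3]) (.pos [5, 10, 15, 20, 25, 30, 35, 31, 9]) (.pos [1, 2, 3, 4, 5, 6, 7, 5, 3])) (.pos [4, 8, 12, 16, 20, 24, 28, 14, 9]) (.pos [2, 4, 6, 8, 10, 12,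 14, 7, 9]) (.pos [2, 4, 6, 8, 10, 12, 14, 7, 3]) (.pos [2, 4, 6, 8, 10, 12, 14, 7, 9])) (.node (.node (.mat 7 [0, 1, 2, 3, 4, 5, 6, 7, 8]) (.pos [4, 8, 12, 16, 20, 24, 19, 14, 9]) (.pos [5, 10, 15, 20, 25, 30, 26, 22, 9]) (.pos [4, 8, 12, 16, 20, 24, 19, 14, 9]) (.pos [2, 4, 6, 8, 10, 12, 11, 10, 3]) (.pos [4, 8, 12, 16, 20, 24, 19, 14, 9])) (.pos [5, 10, 15, 20, 25, 30, 26, 13, 9]) (.pos [7, 14, 21, 28, 35, 42, 40, 20, 9]) (.pos [5, 10, 15, 20, 25, 30, 26, 13, 9]) (.pos [1, 2, 3, 4, 5, 6, 6, 3, 1]) (.pos [5, 10, 15, 20, 25, 30, 26, 13, 9])) (.pos [2, 4, 6, 8, 10, 12, 8, 4, 3]) (.pos [1, 2, 3, 4, 5, 6, 4, 2, 3]) (.pos [1, 2, 3, 4, 5, 6, 4, 2, 1]) (.pos [1, 2, 3, 4, 5, 6, 4, 2, 3])) (.pos [4, 8, 12, 16, 20, 15, 10, 5, 9]) (.pos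 [8, 16, 24, 32, 40, 30, 20, 10, 9]) (.pos [4, 8, 12, 16, 20, 15, 10, 5, 9]) (.pos [4, 8, 12, 16, 20, 15, 10, 5, 3]) (.pos [4, 8, 12, 16, 20, 15, 10, 5, 9])) (.pos [5, 10, 15, 20, 16, 12, 8, 4, 9]) (.pos [10, 20, 30, 40, 32, 24, 16, 8, 9]) (.pos [5, 10, 15, 20, 16, 12, 8, 4, 9]) (.pos [5, 10, 15, 20, 16, 12, 8, 4, 3]) (.pos [5, 10, 15, 20, 16, 12, 8, 4, 9])) (.node (.node (.node (.node (.node (.mat 7 [7, 6, 5, 4, 3, 2, 1, 0, 8]) (.pos [7, 14, 21, 19, 17, 15, 13, 11, 9]) (.pos [8, 16, 24, 23, 22, 21, 20, 19, 9]) (.pos [7, 14, 21, 19, 17, 15, 13, 11, 9]) (.pos [1, 2, 3, 3, 3, 3, 3, 3, 1]) (.pos [7, 14, 21, 19, 17, 15, 13, 11, 9])) (.pos [8, 16, 24, 23, 22, 21, 20, 10, 9]) (.pos [10, 20, 30, 31, 32, 33, 34, 17, 9]) (.pos [8, 16, 24,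 23, 22, 21, 20, 10, 9]) (.pos [4, 8, 12, 13, 14, 15, 16, 8, 3]) (.pos [8, 16, 24, 23, 22, 21, 20, 10, 9])) (.pos [1, 2, 3, 3, 3, 3, 2, 1, 1]) (.pos [4, 8, 12, 13, 14, 15, 10, 5, 3]) (.pos [1, 2, 3, 3, 3, 3, 2, 1, 1]) (.pos [5, 10, 15, 17, 19, 21, 14, 7, 3]) (.pos [1, 2, 3, 3, 3, 3, 2, 1, 1])) (.pos [10, 20, 30, 31, 32, 24, 16, 8, 9]) (.pos [14, 28, 42, 47, 52, 39, 26, 13, 9]) (.pos [10, 20, 30, 31, 32, 24, 16, 8, 9]) (.pos [2, 4, 6, 7, 8, 6, 4, 2, 1]) (.pos [10, 20, 30, 31, 32, 24, 16, 8, 9])) (.pos [11, 22, 33, 35, 28, 21, 14, 7, 9]) (.pos [16, 32, 48, 55, 44, 33, 22, 11, 9]) (.pos [11, 22, 33, 35, 28, 21, 14, 7, 9]) (.pos [7, 14, 21, 25, 20, 15, 10, 5, 3]) (.pos [11, 22, 33, 35, 28, 21, 14, 7, 9])) (.pos [4, 8, 12, 10, 8, 6,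 4, 2, 3]) (.pos [2, 4, 6, 5, 4, 3, 2, 1, 3]) (.pos [2, 4, 6, 5, 4, 3, 2, 1, 1]) (.pos [2, 4, 6, 5, 4, 3, 2, 1, 3])) (.node (.node (.node (.node (.node (.node (.neg [18, 35, 33, 30, 26, 21, 15, 8, 18]) (.pos [8, 16, 15, 14, 13, 12, 11, 10, 9]) (.pos [1, 2, 2, 2, 2, 2, 2, 2, 1]) (.pos [8, 16, 15, 14, 13, 12, 11, 10, 9]) (.pos [10, 20, 21, 22, 23, 24, 25, 26, 9]) (.pos [8, 16, 15, 14, 13, 12, 11, 10, 9])) (.pos [1, 2, 2, 2, 2, 2, 2, 1, 1]) (.pos [11, 22, 24, 26, 28, 30, 32, 16, 9]) (.pos [1, 2, 2, 2, 2, 2, 2, 1, 1]) (.pos [13, 26, 30, 34, 38, 42, 46, 23, 9]) (.pos [1, 2, 2, 2, 2, 2, 2, 1, 1])) (.pos [10, 20, 21, 22, 23, 24, 16, 8, 9]) (.pos [13, 26, 30, 34, 38, 42, 28, 14, 9]) (.pos [10, 20, 21, 22, 23, 24, 16, 8, 9]) (.pos [16, 32,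 39, 46, 53, 60, 40, 20, 9]) (.pos [10, 20, 21, 22, 23, 24, 16, 8, 9])) (.pos [11, 22, 24, 26, 28, 21, 14, 7, 9]) (.pos [5, 10, 12, 14, 16, 12, 8, 4, 3]) (.pos [11, 22, 24, 26, 28, 21, 14, 7, 9]) (.pos [19, 38, 48, 58, 68, 51, 34, 17, 9]) (.pos [11, 22, 24, 26, 28, 21, 14, 7, 9])) (.pos [4, 8, 9, 10, 8, 6, 4, 2, 3]) (.pos [17, 34, 42, 50, 40, 30, 20, 10, 9]) (.pos [4, 8, 9, 10, 8, 6, 4, 2, 3]) (.pos [22, 44, 57, 70, 56, 42, 28, 14, 9]) (.pos [4, 8, 9, 10, 8, 6, 4, 2, 3])) (.pos [13, 26, 30, 25, 20, 15, 10, 5, 9]) (.pos [19, 38, 48, 40, 32, 24, 16, 8, 9]) (.pos [13, 26, 30, 25, 20, 15, 10, 5, 9]) (.pos [25, 50, 66, 55, 44, 33, 22, 11, 9]) (.pos [13, 26, 30, 25, 20, 15, 10, 5, 9])) (.pos [14, 28, 24, 20, 16, 12, 8, 4, 9]) (.pos [7,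 14, 12, 10, 8, 6, 4, 2, 9]) (.pos [7, 14, 12, 10, 8, 6, 4, 2, 3]) (.pos [7, 14, 12, 10, 8, 6, 4, 2, 9])) (.node (.node (.node (.node (.node (.node (.node (.neg [16, 21, 24, 25, 24, 21, 16, 9, 9]) (.mat 0 [0, 1, 2, 3, 4, 5, 6, 7, 8]) (.pos [10, 11, 12, 13, 14, 15, 16, 17, 9]) (.pos [1, 1, 1, 1, 1, 1, 1, 1, 1]) (.pos [11, 13, 15, 17, 19, 21, 23, 25, 9]) (.pos [1, 1, 1, 1, 1, 1, 1, 1, 1])) (.pos [10, 11, 12, 13, 14, 15, 16, 8, 9]) (.pos [4, 5, 6, 7, 8, 9, 10, 5, 3]) (.pos [10, 11, 12, 13, 14, 15, 16, 8, 9]) (.pos [14, 19, 24, 29, 34, 39, 44, 22, 9]) (.pos [10, 11, 12, 13, 14, 15, 16, 8, 9])) (.pos [11, 13, 15, 17, 19, 21, 14, 7, 9]) (.pos [14, 19, 24, 29, 34, 39, 26, 13, 9]) (.pos [11, 13, 15, 17, 19, 21, 14, 7, 9]) (.pos [17, 25,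 33, 41, 49, 57, 38, 19, 9]) (.pos [11, 13, 15, 17, 19, 21, 14, 7, 9])) (.pos [4, 5, 6, 7, 8, 6, 4, 2, 3]) (.pos [16, 23, 30, 37, 44, 33, 22, 11, 9]) (.pos [4, 5, 6, 7, 8, 6, 4, 2, 3]) (.pos [20, 31, 42, 53, 64, 48, 32, 16, 9]) (.pos [4, 5, 6, 7, 8, 6, 4, 2, 3])) (.pos [13, 17, 21, 25, 20, 15, 10, 5, 9]) (.pos [2, 3, 4, 5, 4, 3, 2, 1, 1]) (.pos [13, 17, 21, 25, 20, 15, 10, 5, 9]) (.pos [23, 37, 51, 65, 52, 39, 26, 13, 9]) (.pos [13, 17, 21, 25, 20, 15, 10, 5, 9])) (.pos [14, 19, 24, 20, 16, 12, 8, 4, 9]) (.pos [20, 31, 42, 35, 28, 21, 14, 7, 9]) (.pos [14, 19, 24, 20, 16, 12, 8, 4, 9]) (.pos [26, 43, 60, 50, 40, 30, 20, 10, 9]) (.pos [14, 19, 24, 20, 16, 12, 8, 4, 9])) (.pos [5, 7, 6, 5, 4, 3, 2, 1, 3]) (.pos [22, 35, 30, 25, 20,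 15, 10, 5, 9]) (.pos [5, 7, 6, 5, 4, 3, 2, 1, 3]) (.pos [29, 49, 42, 35, 28, 21, 14, 7, 9]) (.pos [5, 7, 6, 5, 4, 3, 2, 1, 3])) (.node (.node (.node (.node (.node (.node (.node (.neg [88, 84, 78, 70, 60, 48, 34, 18, 45]) (.pos [17, 16, 15, 14, 13, 12, 11, 10, 9]) (.pos [2, 2, 2, 2, 2, 2, 2, 2, 1]) (.pos [17, 16, 15, 14, 13, 12, 11, 10, 9]) (.pos [19, 20, 21, 22, 23, 24, 25, 26, 9]) (.pos [17, 16, 15, 14, 13, 12, 11, 10, 9])) (.pos [2, 2, 2, 2, 2, 2, 2, 1, 1]) (.pos [20, 22, 24, 26, 28, 30, 32, 16, 9]) (.pos [2, 2, 2, 2, 2, 2, 2, 1, 1]) (.pos [22, 26, 30, 34, 38, 42, 46, 23, 9]) (.pos [2, 2, 2, 2, 2, 2, 2, 1, 1])) (.pos [19, 20, 21, 22, 23, 24, 16, 8, 9]) (.pos [22, 26, 30, 34, 38, 42, 28, 14, 9]) (.pos [19, 20, 21, 22, 23, 24,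 16, 8, 9]) (.pos [25, 32, 39, 46, 53, 60, 40, 20, 9]) (.pos [19, 20, 21, 22, 23, 24, 16, 8, 9])) (.pos [20, 22, 24, 26, 28, 21, 14, 7, 9]) (.pos [8, 10, 12, 14, 16, 12, 8, 4, 3]) (.pos [20, 22, 24, 26, 28, 21, 14, 7, 9]) (.pos [28, 38, 48, 58, 68, 51, 34, 17, 9]) (.pos [20, 22, 24, 26, 28, 21, 14, 7, 9])) (.pos [7, 8, 9, 10, 8, 6, 4, 2, 3]) (.pos [26, 34, 42, 50, 40, 30, 20, 10, 9]) (.pos [7, 8, 9, 10, 8, 6, 4, 2, 3]) (.pos [31, 44, 57, 70, 56, 42, 28, 14, 9]) (.pos [7, 8, 9, 10, 8, 6, 4, 2, 3])) (.pos [22, 26, 30, 25, 20, 15, 10, 5, 9]) (.pos [28, 38, 48, 40, 32, 24, 16, 8, 9]) (.pos [22, 26, 30, 25, 20, 15, 10, 5, 9]) (.pos [34, 50, 66, 55, 44, 33, 22, 11, 9]) (.pos [22, 26, 30, 25, 20, 15, 10, 5, 9])) (.pos [23, 28, 24, 20,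 16, 12, 8, 4, 9]) (.pos [10, 14, 12, 10, 8, 6, 4, 2, 3]) (.pos [23, 28, 24, 20, 16, 12, 8, 4, 9]) (.pos [37, 56, 48, 40, 32, 24, 16, 8, 9]) (.pos [23, 28, 24, 20, 16, 12, 8, 4, 9])) (.node (.node (.node (.node (.node (.node (.node (.neg [80, 77, 72, 65, 56, 45, 32, 17, 81]) (.pos [1, 1, 1, 1, 1, 1, 1, 1, 1]) (.pos [10, 11, 12, 13, 14, 15, 16, 17, 9]) (.pos [1, 1, 1, 1, 1, 1, 1, 1, 1]) (.pos [11, 13, 15, 17, 19, 21, 23, 25, 9]) (.pos [1, 1, 1, 1, 1, 1, 1, 1, 1])) (.pos [10, 11, 12, 13, 14, 15, 16, 8, 9]) (.pos [4, 5, 6, 7, 8, 9, 10, 5, 3]) (.pos [10, 11, 12, 13, 14, 15, 16, 8, 9]) (.pos [14, 19, 24, 29, 34, 39, 44, 22, 9]) (.pos [10, 11, 12, 13, 14, 15, 16, 8, 9])) (.pos [11, 13, 15, 17, 19, 21, 14, 7, 9]) (.pos [14, 19, 24, 29,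 34, 39, 26, 13, 9]) (.pos [11, 13, 15, 17, 19, 21, 14, 7, 9]) (.pos [17, 25, 33, 41, 49, 57, 38, 19, 9]) (.pos [11, 13, 15, 17, 19, 21, 14, 7, 9])) (.pos [4, 5, 6, 7, 8, 6, 4, 2, 3]) (.pos [16, 23, 30, 37, 44, 33, 22, 11, 9]) (.pos [4, 5, 6, 7, 8, 6, 4, 2, 3]) (.pos [20, 31, 42, 53, 64, 48, 32, 16, 9]) (.pos [4, 5, 6, 7, 8, 6, 4, 2, 3])) (.pos [13, 17, 21, 25, 20, 15, 10, 5, 9]) (.pos [2, 3, 4, 5, 4, 3, 2, 1, 1]) (.pos [13, 17, 21, 25, 20, 15, 10, 5, 9]) (.pos [23, 37, 51, 65, 52, 39, 26, 13, 9]) (.pos [13, 17, 21, 25, 20, 15, 10, 5, 9])) (.pos [14, 19, 24, 20, 16, 12, 8, 4, 9]) (.pos [20, 31, 42, 35, 28, 21, 14, 7, 9]) (.pos [14, 19, 24, 20, 16, 12, 8, 4, 9]) (.pos [26, 43, 60, 50, 40, 30, 20, 10, 9]) (.pos [14, 19, 24, 20, 16,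 12, 8, 4, 9])) (.pos [5, 7, 6, 5, 4, 3, 2, 1, 3]) (.pos [22, 35, 30, 25, 20, 15, 10, 5, 9]) (.pos [5, 7, 6, 5, 4, 3, 2, 1, 3]) (.pos [29, 49, 42, 35, 28, 21, 14, 7, 9]) (.pos [5, 7, 6, 5, 4, 3, 2, 1, 3])) (.pos [8, 7, 6, 5, 4, 3, 2, 1, 3]) (.pos [8, 7, 6, 5, 4, 3, 2, 1, 9])),
  (.node (.node (.node (.node (.node (.node (.node (.node .zero (.pos [1, 2, 3, 4, 5, 6, 7, 4, 1]) (.pos [2, 4, 6, 8, 10, 12, 14, 8, 1]) (.pos [1, 2, 3, 4, 5, 6, 7, 4, 1]) (.pos [3, 6, 9, 12, 15, 18, 21, 12, 1]) (.pos [1, 2, 3, 4, 5, 6, 7, 4, 1])) (.pos [2, 4, 6, 8, 10, 12, 14, 7, 2]) (.pos [2, 4, 6, 8, 10, 12, 14, 7, 1]) (.pos [2, 4, 6, 8, 10, 12, 14, 7, 2]) (.pos [6, 12, 18, 24, 30, 36, 42, 21, 2]) (.pos [2, 4, 6, 8, 10, 12, 14, 7, 2])) (.pos [1, 2, 3, 4,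 5, 6, 6, 3, 1]) (.pos [2, 4, 6, 8, 10, 12, 12, 6, 1]) (.pos [1, 2, 3, 4, 5, 6, 6, 3, 1]) (.pos [3, 6, 9, 12, 15, 18, 18, 9, 1]) (.pos [1, 2, 3, 4, 5, 6, 6, 3, 1])) (.pos [2, 4, 6, 8, 10, 10, 10, 5, 2]) (.pos [2, 4, 6, 8, 10, 10, 10, 5, 1]) (.pos [2, 4, 6, 8, 10, 10, 10, 5, 2]) (.pos [6, 12, 18, 24, 30, 30, 30, 15, 2]) (.pos [2, 4, 6, 8, 10, 10, 10, 5, 2])) (.pos [1, 2, 3, 4, 4, 4, 4, 2, 1]) (.pos [2, 4, 6, 8, 8, 8, 8, 4, 1]) (.pos [1, 2, 3, 4, 4, 4, 4, 2, 1]) (.pos [3, 6, 9, 12, 12, 12, 12, 6, 1]) (.pos [1, 2, 3, 4, 4, 4, 4, 2, 1])) (.pos [2, 4, 6, 6, 6, 6, 6, 3, 2]) (.pos [2, 4, 6, 6, 6, 6, 6, 3, 1]) (.pos [2, 4, 6, 6, 6, 6, 6, 3, 2]) (.pos [6, 12, 18, 18, 18, 18, 18, 9, 2]) (.pos [2, 4, 6, 6, 6, 6, 6, 3, 2])) (.node (.node (.node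 (.node (.node (.node (.mat 5 [7, 6, 5, 4, 3, 2, 1, 0, 8]) (.pos [2, 4, 5, 6, 7, 8, 9, 5, 1]) (.pos [3, 6, 8, 10, 12, 14, 16, 9, 1]) (.pos [2, 4, 5, 6, 7, 8, 9, 5, 1]) (.pos [4, 8, 11, 14, 17, 20, 23, 13, 1]) (.pos [2, 4, 5, 6, 7, 8, 9, 5, 1])) (.pos [4, 8, 10, 12, 14, 16, 18, 9, 2]) (.pos [3, 6, 8, 10, 12, 14, 16, 8, 1]) (.pos [4, 8, 10, 12, 14, 16, 18, 9, 2]) (.pos [8, 16, 22, 28, 34, 40, 46, 23, 2]) (.pos [4, 8, 10, 12, 14, 16, 18, 9, 2])) (.pos [2, 4, 5, 6, 7, 8, 8, 4, 1]) (.pos [3, 6, 8, 10, 12, 14, 14, 7, 1]) (.pos [2, 4, 5, 6, 7, 8, 8, 4, 1]) (.pos [4, 8, 11, 14, 17, 20, 20, 10, 1]) (.pos [2, 4, 5, 6, 7, 8, 8, 4, 1])) (.pos [4, 8, 10, 12, 14, 14, 14, 7, 2]) (.pos [3, 6, 8, 10, 12, 12, 12, 6, 1]) (.pos [4, 8, 10, 12, 14, 14,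 14, 7, 2]) (.pos [8, 16, 22, 28, 34, 34, 34, 17, 2]) (.pos [4, 8, 10, 12, 14, 14, 14, 7, 2])) (.pos [2, 4, 5, 6, 6, 6, 6, 3, 1]) (.pos [3, 6, 8, 10, 10, 10, 10, 5, 1]) (.pos [2, 4, 5, 6, 6, 6, 6, 3, 1]) (.pos [4, 8, 11, 14, 14, 14, 14, 7, 1]) (.pos [2, 4, 5, 6, 6, 6, 6, 3, 1])) (.pos [4, 8, 10, 10, 10, 10, 10, 5, 2]) (.pos [3, 6, 8, 8, 8, 8, 8, 4, 1]) (.pos [4, 8, 10, 10, 10, 10, 10, 5, 2]) (.pos [8, 16, 22, 22, 22, 22, 22, 11, 2]) (.pos [4, 8, 10, 10, 10, 10, 10, 5, 2])) (.pos [2, 4, 4, 4, 4, 4, 4, 2, 1]) (.pos [1, 2, 2, 2, 2, 2, 2, 1, 1]) (.pos [3, 6, 6, 6, 6, 6, 6, 3, 1]) (.pos [1, 2, 2, 2, 2, 2, 2, 1, 1])) (.node (.node (.node (.node (.node (.node (.node (.neg [34, 48, 60, 70, 78, 84, 88, 45, 18]) (.pos [4, 6, 8, 10, 12, 14,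 16, 9, 2]) (.pos [6, 10, 14, 18, 22, 26, 30, 17, 2]) (.pos [4, 6, 8, 10, 12, 14, 16, 9, 2]) (.pos [8, 14, 20, 26, 32, 38, 44, 25, 2]) (.pos [4, 6, 8, 10, 12, 14, 16, 9, 2])) (.pos [2, 3, 4, 5, 6, 7, 8, 4, 1]) (.pos [6, 10, 14, 18, 22, 26, 30, 15, 2]) (.pos [2, 3, 4, 5, 6, 7, 8, 4, 1]) (.pos [4, 7, 10, 13, 16, 19, 22, 11, 1]) (.pos [2, 3, 4, 5, 6, 7, 8, 4, 1])) (.pos [4, 6, 8, 10, 12, 14, 14, 7, 2]) (.pos [6, 10, 14, 18, 22, 26, 26, 13, 2]) (.pos [4, 6, 8, 10, 12, 14, 14, 7, 2]) (.pos [8, 14, 20, 26, 32, 38, 38, 19, 2]) (.pos [4, 6, 8, 10, 12, 14, 14, 7, 2])) (.pos [2, 3, 4, 5, 6, 6, 6, 3, 1]) (.pos [6, 10, 14, 18, 22, 22, 22, 11, 2]) (.pos [2, 3, 4, 5, 6, 6, 6, 3, 1]) (.pos [4, 7, 10, 13, 16, 16, 16, 8, 1]) (.pos [2, 3, 4, 5, 6,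 6, 6, 3, 1])) (.pos [4, 6, 8, 10, 10, 10, 10, 5, 2]) (.pos [6, 10, 14, 18, 18, 18, 18, 9, 2]) (.pos [4, 6, 8, 10, 10, 10, 10, 5, 2]) (.pos [8, 14, 20, 26, 26, 26, 26, 13, 2]) (.pos [4, 6, 8, 10, 10, 10, 10, 5, 2])) (.pos [2, 3, 4, 4, 4, 4, 4, 2, 1]) (.pos [6, 10, 14, 14, 14, 14, 14, 7, 2]) (.pos [2, 3, 4, 4, 4, 4, 4, 2, 1]) (.pos [4, 7, 10, 10, 10, 10, 10, 5, 1]) (.pos [2, 3, 4, 4, 4, 4, 4, 2, 1])) (.pos [4, 6, 6, 6, 6, 6, 6, 3, 2]) (.pos [6, 10, 10, 10, 10, 10, 10, 5, 2]) (.pos [4, 6, 6, 6, 6, 6, 6, 3, 2]) (.pos [8, 14, 14, 14, 14, 14, 14, 7, 2]) (.pos [4, 6, 6, 6, 6, 6, 6, 3, 2])) (.node (.node (.node (.node (.node (.node (.node (.mat 2 [7, 6, 5, 4, 3, 2, 1, 0, 8]) (.pos [3, 4, 5, 6, 7, 8, 9, 5, 1]) (.pos [4, 6, 8, 10, 12, 14,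 16, 9, 1]) (.pos [3, 4, 5, 6, 7, 8, 9, 5, 1]) (.pos [5, 8, 11, 14, 17, 20, 23, 13, 1]) (.pos [3, 4, 5, 6, 7, 8, 9, 5, 1])) (.pos [6, 8, 10, 12, 14, 16, 18, 9, 2]) (.pos [4, 6, 8, 10, 12, 14, 16, 8, 1]) (.pos [6, 8, 10, 12, 14, 16, 18, 9, 2]) (.pos [10, 16, 22, 28, 34, 40, 46, 23, 2]) (.pos [6, 8, 10, 12, 14, 16, 18, 9, 2])) (.pos [3, 4, 5, 6, 7, 8, 8, 4, 1]) (.pos [4, 6, 8, 10, 12, 14, 14, 7, 1]) (.pos [3, 4, 5, 6, 7, 8, 8, 4, 1]) (.pos [5, 8, 11, 14, 17, 20, 20, 10, 1]) (.pos [3, 4, 5, 6, 7, 8, 8, 4, 1])) (.pos [6, 8, 10, 12, 14, 14, 14, 7, 2]) (.pos [4, 6, 8, 10, 12, 12, 12, 6, 1]) (.pos [6, 8, 10, 12, 14, 14, 14, 7, 2]) (.pos [10, 16, 22, 28, 34, 34, 34, 17, 2]) (.pos [6, 8, 10, 12, 14, 14, 14, 7, 2])) (.pos [3, 4, 5, 6, 6,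 6, 6, 3, 1]) (.pos [4, 6, 8, 10, 10, 10, 10, 5, 1]) (.pos [3, 4, 5, 6, 6, 6, 6, 3, 1]) (.pos [5, 8, 11, 14, 14, 14, 14, 7, 1]) (.pos [3, 4, 5, 6, 6, 6, 6, 3, 1])) (.pos [6, 8, 10, 10, 10, 10, 10, 5, 2]) (.pos [4, 6, 8, 8, 8, 8, 8, 4, 1]) (.pos [6, 8, 10, 10, 10, 10, 10, 5, 2]) (.pos [10, 16, 22, 22, 22, 22, 22, 11, 2]) (.pos [6, 8, 10, 10, 10, 10, 10, 5, 2])) (.pos [3, 4, 4, 4, 4, 4, 4, 2, 1]) (.pos [4, 6, 6, 6, 6, 6, 6, 3, 1]) (.pos [3, 4, 4, 4, 4, 4, 4, 2, 1]) (.pos [5, 8, 8, 8, 8, 8, 8, 4, 1]) (.pos [3, 4, 4, 4, 4, 4, 4, 2, 1])) (.node (.node (.node (.node (.node (.node (.node (.mat 1 [7, 6, 5, 4, 3, 2, 1, 0, 8]) (.pos [4, 6, 8, 10, 12, 14, 16, 9, 2]) (.pos [6, 10, 14, 18, 22, 26, 30, 17, 2]) (.pos [4, 6, 8, 10, 12, 14, 16,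 9, 2]) (.pos [8, 14, 20, 26, 32, 38, 44, 25, 2]) (.pos [4, 6, 8, 10, 12, 14, 16, 9, 2])) (.pos [2, 3, 4, 5, 6, 7, 8, 4, 1]) (.pos [6, 10, 14, 18, 22, 26, 30, 15, 2]) (.pos [2, 3, 4, 5, 6, 7, 8, 4, 1]) (.pos [4, 7, 10, 13, 16, 19, 22, 11, 1]) (.pos [2, 3, 4, 5, 6, 7, 8, 4, 1])) (.pos [4, 6, 8, 10, 12, 14, 14, 7, 2]) (.pos [6, 10, 14, 18, 22, 26, 26, 13, 2]) (.pos [4, 6, 8, 10, 12, 14, 14, 7, 2]) (.pos [8, 14, 20, 26, 32, 38, 38, 19, 2]) (.pos [4, 6, 8, 10, 12, 14, 14, 7, 2])) (.pos [2, 3, 4, 5, 6, 6, 6, 3, 1]) (.pos [6, 10, 14, 18, 22, 22, 22, 11, 2]) (.pos [2, 3, 4, 5, 6, 6, 6, 3, 1]) (.pos [4, 7, 10, 13, 16, 16, 16, 8, 1]) (.pos [2, 3, 4, 5, 6, 6, 6, 3, 1])) (.pos [4, 6, 8, 10, 10, 10, 10, 5, 2]) (.pos [6, 10, 14, 18, 18, 18,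 18, 9, 2]) (.pos [4, 6, 8, 10, 10, 10, 10, 5, 2]) (.pos [8, 14, 20, 26, 26, 26, 26, 13, 2]) (.pos [4, 6, 8, 10, 10, 10, 10, 5, 2])) (.pos [2, 3, 4, 4, 4, 4, 4, 2, 1]) (.pos [6, 10, 14, 14, 14, 14, 14, 7, 2]) (.pos [2, 3, 4, 4, 4, 4, 4, 2, 1]) (.pos [4, 7, 10, 10, 10, 10, 10, 5, 1]) (.pos [2, 3, 4, 4, 4, 4, 4, 2, 1])) (.pos [4, 6, 6, 6, 6, 6, 6, 3, 2]) (.pos [6, 10, 10, 10, 10, 10, 10, 5, 2]) (.pos [4, 6, 6, 6, 6, 6, 6, 3, 2]) (.pos [8, 14, 14, 14, 14, 14, 14, 7, 2]) (.pos [4, 6, 6, 6, 6, 6, 6, 3, 2])) (.pos [6, 6, 6, 6, 6, 6, 6, 3, 2]) (.pos [2, 2, 2, 2, 2, 2, 2, 1, 2])),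
  (.node (.node (.node (.node (.node (.node (.node (.node .zero (.pos [1, 2, 3, 4, 5, 6, 7, 8, 2]) (.pos [1, 2, 3, 4, 5, 6, 7, 8, 1]) (.pos [1, 2, 3, 4, 5, 6, 7, 8, 2]) (.pos [3, 6, 9, 12, 15, 18, 21, 24, 2]) (.pos [1, 2, 3, 4, 5, 6, 7, 8, 2])) (.pos [1, 2, 3, 4, 5, 6, 7, 7, 1]) (.pos [2, 4, 6, 8, 10, 12, 14, 14, 1]) (.pos [1, 2, 3, 4, 5, 6, 7, 7, 1]) (.pos [3, 6, 9, 12, 15, 18, 21, 21, 1]) (.pos [1, 2, 3, 4, 5, 6, 7, 7, 1])) (.pos [1, 2, 3, 4, 5, 6, 6, 6, 1]) (.pos [2, 4, 6, 8, 10, 12, 12, 12, 1]) (.pos [1, 2, 3, 4, 5, 6, 6, 6, 1]) (.pos [3, 6, 9, 12, 15, 18, 18, 18, 1]) (.pos [1, 2, 3, 4, 5, 6, 6, 6, 1])) (.pos [1, 2, 3, 4, 5, 5, 5, 5, 1]) (.pos [2, 4, 6, 8, 10, 10, 10, 10, 1]) (.pos [1, 2, 3, 4, 5, 5, 5, 5, 1]) (.pos [3, 6,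 9, 12, 15, 15, 15, 15, 1]) (.pos [1, 2, 3, 4, 5, 5, 5, 5, 1])) (.pos [1, 2, 3, 4, 4, 4, 4, 4, 1]) (.pos [2, 4, 6, 8, 8, 8, 8, 8, 1]) (.pos [1, 2, 3, 4, 4, 4, 4, 4, 1]) (.pos [3, 6, 9, 12, 12, 12, 12, 12, 1]) (.pos [1, 2, 3, 4, 4, 4, 4, 4, 1])) (.pos [1, 2, 3, 3, 3, 3, 3, 3, 1]) (.pos [2, 4, 6, 6, 6, 6, 6, 6, 1]) (.pos [1, 2, 3, 3, 3, 3, 3, 3, 1]) (.pos [3, 6, 9, 9, 9, 9, 9, 9, 1]) (.pos [1, 2, 3, 3, 3, 3, 3, 3, 1])) (.node (.node (.node (.node (.node (.node (.mat 4 [7, 6, 5, 4, 3, 2, 1, 0, 8]) (.pos [3, 6, 7, 8, 9, 10, 11, 12, 2]) (.pos [2, 4, 5, 6, 7, 8, 9, 10, 1]) (.pos [3, 6, 7, 8, 9, 10, 11, 12, 2]) (.pos [5, 10, 13, 16, 19, 22, 25, 28, 2]) (.pos [3, 6, 7, 8, 9, 10, 11, 12, 2])) (.pos [2, 4, 5, 6, 7, 8, 9, 9, 1]) (.pos [3,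 6, 8, 10, 12, 14, 16, 16, 1]) (.pos [2, 4, 5, 6, 7, 8, 9, 9, 1]) (.pos [4, 8, 11, 14, 17, 20, 23, 23, 1]) (.pos [2, 4, 5, 6, 7, 8, 9, 9, 1])) (.pos [2, 4, 5, 6, 7, 8, 8, 8, 1]) (.pos [3, 6, 8, 10, 12, 14, 14, 14, 1]) (.pos [2, 4, 5, 6, 7, 8, 8, 8, 1]) (.pos [4, 8, 11, 14, 17, 20, 20, 20, 1]) (.pos [2, 4, 5, 6, 7, 8, 8, 8, 1])) (.pos [2, 4, 5, 6, 7, 7, 7, 7, 1]) (.pos [3, 6, 8, 10, 12, 12, 12, 12, 1]) (.pos [2, 4, 5, 6, 7, 7, 7, 7, 1]) (.pos [4, 8, 11, 14, 17, 17, 17, 17, 1]) (.pos [2, 4, 5, 6, 7, 7, 7, 7, 1])) (.pos [2, 4, 5, 6, 6, 6, 6, 6, 1]) (.pos [3, 6, 8, 10, 10, 10, 10, 10, 1]) (.pos [2, 4, 5, 6, 6, 6, 6, 6, 1]) (.pos [4, 8, 11, 14, 14, 14, 14, 14, 1]) (.pos [2, 4, 5, 6, 6, 6, 6, 6, 1])) (.pos [2, 4, 5, 5, 5, 5, 5, 5, 1])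 (.pos [3, 6, 8, 8, 8, 8, 8, 8, 1]) (.pos [2, 4, 5, 5, 5, 5, 5, 5, 1]) (.pos [4, 8, 11, 11, 11, 11, 11, 11, 1]) (.pos [2, 4, 5, 5, 5, 5, 5, 5, 1])) (.pos [2, 4, 4, 4, 4, 4, 4, 4, 1]) (.pos [1, 2, 2, 2, 2, 2, 2, 2, 1]) (.pos [3, 6, 6, 6, 6, 6, 6, 6, 1]) (.pos [1, 2, 2, 2, 2, 2, 2, 2, 1])) (.node (.node (.node (.node (.node (.node (.node (.neg [32, 45, 56, 65, 72, 77, 80, 81, 17]) (.pos [3, 4, 5, 6, 7, 8, 9, 10, 2]) (.pos [2, 3, 4, 5, 6, 7, 8, 9, 1]) (.pos [3, 4, 5, 6, 7, 8, 9, 10, 2]) (.pos [5, 8, 11, 14, 17, 20, 23, 26, 2]) (.pos [3, 4, 5, 6, 7, 8, 9, 10, 2])) (.pos [2, 3, 4, 5, 6, 7, 8, 8, 1]) (.pos [3, 5, 7, 9, 11, 13, 15, 15, 1]) (.pos [2, 3, 4, 5, 6, 7, 8, 8, 1]) (.pos [4, 7, 10, 13, 16, 19, 22, 22, 1]) (.pos [2, 3, 4, 5, 6,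 7, 8, 8, 1])) (.pos [2, 3, 4, 5, 6, 7, 7, 7, 1]) (.pos [3, 5, 7, 9, 11, 13, 13, 13, 1]) (.pos [2, 3, 4, 5, 6, 7, 7, 7, 1]) (.pos [4, 7, 10, 13, 16, 19, 19, 19, 1]) (.pos [2, 3, 4, 5, 6, 7, 7, 7, 1])) (.pos [2, 3, 4, 5, 6, 6, 6, 6, 1]) (.pos [3, 5, 7, 9, 11, 11, 11, 11, 1]) (.pos [2, 3, 4, 5, 6, 6, 6, 6, 1]) (.pos [4, 7, 10, 13, 16, 16, 16, 16, 1]) (.pos [2, 3, 4, 5, 6, 6, 6, 6, 1])) (.pos [2, 3, 4, 5, 5, 5, 5, 5, 1]) (.pos [3, 5, 7, 9, 9, 9, 9, 9, 1]) (.pos [2, 3, 4, 5, 5, 5, 5, 5, 1]) (.pos [4, 7, 10, 13, 13, 13, 13, 13, 1]) (.pos [2, 3, 4, 5, 5, 5, 5, 5, 1])) (.pos [2, 3, 4, 4, 4, 4, 4, 4, 1]) (.pos [3, 5, 7, 7, 7, 7, 7, 7, 1]) (.pos [2, 3, 4, 4, 4, 4, 4, 4, 1]) (.pos [4, 7, 10, 10, 10, 10, 10, 10, 1]) (.pos [2, 3, 4, 4, 4, 4,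 4, 4, 1])) (.pos [2, 3, 3, 3, 3, 3, 3, 3, 1]) (.pos [3, 5, 5, 5, 5, 5, 5, 5, 1]) (.pos [2, 3, 3, 3, 3, 3, 3, 3, 1]) (.pos [4, 7, 7, 7, 7, 7, 7, 7, 1]) (.pos [2, 3, 3, 3, 3, 3, 3, 3, 1])) (.node (.node (.node (.node (.node (.node (.node (.mat 1 [8, 0, 1, 2, 3, 4, 5, 6, 7]) (.pos [5, 6, 7, 8, 9, 10, 11, 12, 2]) (.pos [3, 4, 5, 6, 7, 8, 9, 10, 1]) (.pos [5, 6, 7, 8, 9, 10, 11, 12, 2]) (.pos [7, 10, 13, 16, 19, 22, 25, 28, 2]) (.pos [5, 6, 7, 8, 9, 10, 11, 12, 2])) (.pos [3, 4, 5, 6, 7, 8, 9, 9, 1]) (.pos [4, 6, 8, 10, 12, 14, 16, 16, 1]) (.pos [3, 4, 5, 6, 7, 8, 9, 9, 1]) (.pos [5, 8, 11, 14, 17, 20, 23, 23, 1]) (.pos [3, 4, 5, 6, 7, 8, 9, 9, 1])) (.pos [3, 4, 5, 6, 7, 8, 8, 8, 1]) (.pos [4, 6, 8, 10, 12, 14, 14, 14, 1]) (.pos [3,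 4, 5, 6, 7, 8, 8, 8, 1]) (.pos [5, 8, 11, 14, 17, 20, 20, 20, 1]) (.pos [3, 4, 5, 6, 7, 8, 8, 8, 1])) (.pos [3, 4, 5, 6, 7, 7, 7, 7, 1]) (.pos [4, 6, 8, 10, 12, 12, 12, 12, 1]) (.pos [3, 4, 5, 6, 7, 7, 7, 7, 1]) (.pos [5, 8, 11, 14, 17, 17, 17, 17, 1]) (.pos [3, 4, 5, 6, 7, 7, 7, 7, 1])) (.pos [3, 4, 5, 6, 6, 6, 6, 6, 1]) (.pos [4, 6, 8, 10, 10, 10, 10, 10, 1]) (.pos [3, 4, 5, 6, 6, 6, 6, 6, 1]) (.pos [5, 8, 11, 14, 14, 14, 14, 14, 1]) (.pos [3, 4, 5, 6, 6, 6, 6, 6, 1])) (.pos [3, 4, 5, 5, 5, 5, 5, 5, 1]) (.pos [4, 6, 8, 8, 8, 8, 8, 8, 1]) (.pos [3, 4, 5, 5, 5, 5, 5, 5, 1]) (.pos [5, 8, 11, 11, 11, 11, 11, 11, 1]) (.pos [3, 4, 5, 5, 5, 5, 5, 5, 1])) (.pos [3, 4, 4, 4, 4, 4, 4, 4, 1]) (.pos [4, 6, 6, 6, 6, 6, 6, 6, 1]) (.pos [3,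 4, 4, 4, 4, 4, 4, 4, 1]) (.pos [5, 8, 8, 8, 8, 8, 8, 8, 1]) (.pos [3, 4, 4, 4, 4, 4, 4, 4, 1])) (.node (.node (.node (.node (.node (.node (.node (.mat 3 [7, 6, 5, 4, 3, 2, 1, 0, 8]) (.pos [3, 4, 5, 6, 7, 8, 9, 10, 2]) (.pos [2, 3, 4, 5, 6, 7, 8, 9, 1]) (.pos [3, 4, 5, 6, 7, 8, 9, 10, 2]) (.pos [5, 8, 11, 14, 17, 20, 23, 26, 2]) (.pos [3, 4, 5, 6, 7, 8, 9, 10, 2])) (.pos [2, 3, 4, 5, 6, 7, 8, 8, 1]) (.pos [3, 5, 7, 9, 11, 13, 15, 15, 1]) (.pos [2, 3, 4, 5, 6, 7, 8, 8, 1]) (.pos [4, 7, 10, 13, 16, 19, 22, 22, 1]) (.pos [2, 3, 4, 5, 6, 7, 8, 8, 1])) (.pos [2, 3, 4, 5, 6, 7, 7, 7, 1]) (.pos [3, 5, 7, 9, 11, 13, 13, 13, 1]) (.pos [2, 3, 4, 5, 6, 7, 7, 7, 1]) (.pos [4, 7, 10, 13, 16, 19, 19, 19, 1]) (.pos [2, 3, 4, 5, 6, 7, 7, 7, 1]))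 (.pos [2, 3, 4, 5, 6, 6, 6, 6, 1]) (.pos [3, 5, 7, 9, 11, 11, 11, 11, 1]) (.pos [2, 3, 4, 5, 6, 6, 6, 6, 1]) (.pos [4, 7, 10, 13, 16, 16, 16, 16, 1]) (.pos [2, 3, 4, 5, 6, 6, 6, 6, 1])) (.pos [2, 3, 4, 5, 5, 5, 5, 5, 1]) (.pos [3, 5, 7, 9, 9, 9, 9, 9, 1]) (.pos [2, 3, 4, 5, 5, 5, 5, 5, 1]) (.pos [4, 7, 10, 13, 13, 13, 13, 13, 1]) (.pos [2, 3, 4, 5, 5, 5, 5, 5, 1])) (.pos [2, 3, 4, 4, 4, 4, 4, 4, 1]) (.pos [3, 5, 7, 7, 7, 7, 7, 7, 1]) (.pos [2, 3, 4, 4, 4, 4, 4, 4, 1]) (.pos [4, 7, 10, 10, 10, 10, 10, 10, 1]) (.pos [2, 3, 4, 4, 4, 4, 4, 4, 1])) (.pos [2, 3, 3, 3, 3, 3, 3, 3, 1]) (.pos [3, 5, 5, 5, 5, 5, 5, 5, 1]) (.pos [2, 3, 3, 3, 3, 3, 3, 3, 1]) (.pos [4, 7, 7, 7, 7, 7, 7, 7, 1]) (.pos [2, 3, 3, 3, 3, 3, 3, 3, 1])) (.pos [3, 3,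 3, 3, 3, 3, 3, 3, 1]) (.pos [1, 1, 1, 1, 1, 1, 1, 1, 1])),
  (.node (.node (.node (.node (.node (.node (.node (.node .zero (.mat 7 [0, 1, 2, 3, 4, 5, 7, 8, 6]) (.pos [1, 2, 3, 4, 5, 6, 3, 4, 1]) (.pos [1, 2, 3, 4, 5, 6, 3, 4, 2]) (.pos [3, 6, 9, 12, 15, 18, 9, 12, 2]) (.pos [1, 2, 3, 4, 5, 6, 3, 4, 2])) (.node (.mat 7 [0, 1, 2, 3, 4, 5, 6, 8, 7]) (.pos [2, 4, 6, 8, 10, 12, 7, 7, 2]) (.pos [3, 6, 9, 12, 15, 18, 10, 11, 2]) (.pos [2, 4, 6, 8, 10, 12, 7, 7, 2]) (.pos [4, 8, 12, 16, 20, 24, 13, 15, 2]) (.pos [2, 4, 6, 8, 10, 12, 7, 7, 2])) (.pos [1, 2, 3, 4, 5, 6, 4, 3, 1]) (.pos [1, 2, 3, 4, 5, 6, 4, 3, 2]) (.pos [3, 6, 9, 12, 15, 18, 12, 9, 2]) (.pos [1, 2, 3, 4, 5, 6, 4, 3, 2])) (.pos [1, 2, 3, 4, 5, 6, 3, 3, 1]) (.pos [2, 4, 6,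 8, 10, 12, 6, 6, 1]) (.pos [1, 2, 3, 4, 5, 6, 3, 3, 1]) (.pos [3, 6, 9, 12, 15, 18, 9, 9, 1]) (.pos [1, 2, 3, 4, 5, 6, 3, 3, 1])) (.pos [2, 4, 6, 8, 10, 10, 5, 5, 2]) (.pos [2, 4, 6, 8, 10, 10, 5, 5, 1]) (.pos [2, 4, 6, 8, 10, 10, 5, 5, 2]) (.pos [6, 12, 18, 24, 30, 30, 15, 15, 2]) (.pos [2, 4, 6, 8, 10, 10, 5, 5, 2])) (.pos [1, 2, 3, 4, 4, 4, 2, 2, 1]) (.pos [2, 4, 6, 8, 8, 8, 4, 4, 1]) (.pos [1, 2, 3, 4, 4, 4, 2, 2, 1]) (.pos [3, 6, 9, 12, 12, 12, 6, 6, 1]) (.pos [1, 2, 3, 4, 4, 4, 2, 2, 1])) (.pos [2, 4, 6, 6, 6, 6, 3, 3, 2]) (.pos [2, 4, 6, 6, 6, 6, 3, 3, 1]) (.pos [2, 4, 6, 6, 6, 6, 3, 3, 2]) (.pos [6, 12, 18, 18, 18, 18, 9, 9, 2]) (.pos [2, 4, 6, 6, 6, 6, 3, 3, 2])) (.node (.node (.node (.node (.node (.node (.mat 6 [0, 8,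 1, 2, 3, 4, 5, 6, 7]) (.pos [3, 6, 7, 8, 9, 10, 5, 6, 2]) (.pos [2, 4, 5, 6, 7, 8, 4, 5, 1]) (.pos [3, 6, 7, 8, 9, 10, 5, 6, 2]) (.pos [5, 10, 13, 16, 19, 22, 11, 14, 2]) (.pos [3, 6, 7, 8, 9, 10, 5, 6, 2])) (.pos [3, 6, 7, 8, 9, 10, 6, 5, 2]) (.pos [2, 4, 5, 6, 7, 8, 5, 4, 1]) (.pos [3, 6, 7, 8, 9, 10, 6, 5, 2]) (.pos [5, 10, 13, 16, 19, 22, 14, 11, 2]) (.pos [3, 6, 7, 8, 9, 10, 6, 5, 2])) (.pos [2, 4, 5, 6, 7, 8, 4, 4, 1]) (.pos [3, 6, 8, 10, 12, 14, 7, 7, 1]) (.pos [2, 4, 5, 6, 7, 8, 4, 4, 1]) (.pos [4, 8, 11, 14, 17, 20, 10, 10, 1]) (.pos [2, 4, 5, 6, 7, 8, 4, 4, 1])) (.pos [4, 8, 10, 12, 14, 14, 7, 7, 2]) (.pos [3, 6, 8, 10, 12, 12, 6, 6, 1]) (.pos [4, 8, 10, 12, 14, 14, 7, 7, 2]) (.pos [8, 16, 22, 28, 34, 34, 17, 17, 2])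 (.pos [4, 8, 10, 12, 14, 14, 7, 7, 2])) (.pos [2, 4, 5, 6, 6, 6, 3, 3, 1]) (.pos [3, 6, 8, 10, 10, 10, 5, 5, 1]) (.pos [2, 4, 5, 6, 6, 6, 3, 3, 1]) (.pos [4, 8, 11, 14, 14, 14, 7, 7, 1]) (.pos [2, 4, 5, 6, 6, 6, 3, 3, 1])) (.pos [4, 8, 10, 10, 10, 10, 5, 5, 2]) (.pos [3, 6, 8, 8, 8, 8, 4, 4, 1]) (.pos [4, 8, 10, 10, 10, 10, 5, 5, 2]) (.pos [8, 16, 22, 22, 22, 22, 11, 11, 2]) (.pos [4, 8, 10, 10, 10, 10, 5, 5, 2])) (.pos [2, 4, 4, 4, 4, 4, 2, 2, 1]) (.pos [1, 2, 2, 2, 2, 2, 1, 1, 1]) (.pos [3, 6, 6, 6, 6, 6, 3, 3, 1]) (.pos [1, 2, 2, 2, 2, 2, 1, 1, 1])) (.node (.node (.node (.node (.node (.node (.node (.neg [15, 21, 26, 30, 33, 35, 18, 18, 8]) (.pos [3, 4, 5, 6, 7, 8, 4, 5, 2]) (.pos [4, 6, 8, 10, 12, 14, 7, 9, 2]) (.pos [3, 4,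 5, 6, 7, 8, 4, 5, 2]) (.pos [5, 8, 11, 14, 17, 20, 10, 13, 2]) (.pos [3, 4, 5, 6, 7, 8, 4, 5, 2])) (.pos [3, 4, 5, 6, 7, 8, 5, 4, 2]) (.pos [4, 6, 8, 10, 12, 14, 9, 7, 2]) (.pos [3, 4, 5, 6, 7, 8, 5, 4, 2]) (.pos [5, 8, 11, 14, 17, 20, 13, 10, 2]) (.pos [3, 4, 5, 6, 7, 8, 5, 4, 2])) (.pos [4, 6, 8, 10, 12, 14, 7, 7, 2]) (.pos [6, 10, 14, 18, 22, 26, 13, 13, 2]) (.pos [4, 6, 8, 10, 12, 14, 7, 7, 2]) (.pos [8, 14, 20, 26, 32, 38, 19, 19, 2]) (.pos [4, 6, 8, 10, 12, 14, 7, 7, 2])) (.pos [2, 3, 4, 5, 6, 6, 3, 3, 1]) (.pos [6, 10, 14, 18, 22, 22, 11, 11, 2]) (.pos [2, 3, 4, 5, 6, 6, 3, 3, 1]) (.pos [4, 7, 10, 13, 16, 16, 8, 8, 1]) (.pos [2, 3, 4, 5, 6, 6, 3, 3, 1])) (.pos [4, 6, 8, 10, 10, 10, 5, 5, 2]) (.pos [6, 10, 14, 18, 18, 18,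 9, 9, 2]) (.pos [4, 6, 8, 10, 10, 10, 5, 5, 2]) (.pos [8, 14, 20, 26, 26, 26, 13, 13, 2]) (.pos [4, 6, 8, 10, 10, 10, 5, 5, 2])) (.pos [2, 3, 4, 4, 4, 4, 2, 2, 1]) (.pos [6, 10, 14, 14, 14, 14, 7, 7, 2]) (.pos [2, 3, 4, 4, 4, 4, 2, 2, 1]) (.pos [4, 7, 10, 10, 10, 10, 5, 5, 1]) (.pos [2, 3, 4, 4, 4, 4, 2, 2, 1])) (.pos [4, 6, 6, 6, 6, 6, 3, 3, 2]) (.pos [6, 10, 10, 10, 10, 10, 5, 5, 2]) (.pos [4, 6, 6, 6, 6, 6, 3, 3, 2]) (.pos [8, 14, 14, 14, 14, 14, 7, 7, 2]) (.pos [4, 6, 6, 6, 6, 6, 3, 3, 2])) (.node (.node (.node (.node (.node (.node (.node (.mat 5 [8, 0, 1, 2, 3, 4, 5, 6, 7]) (.pos [5, 6, 7, 8, 9, 10, 5, 6, 2]) (.pos [3, 4, 5, 6, 7, 8, 4, 5, 1]) (.pos [5, 6, 7, 8, 9, 10, 5, 6, 2]) (.pos [7, 10, 13, 16, 19, 22, 11, 14, 2]) (.pos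 [5, 6, 7, 8, 9, 10, 5, 6, 2])) (.pos [5, 6, 7, 8, 9, 10, 6, 5, 2]) (.pos [3, 4, 5, 6, 7, 8, 5, 4, 1]) (.pos [5, 6, 7, 8, 9, 10, 6, 5, 2]) (.pos [7, 10, 13, 16, 19, 22, 14, 11, 2]) (.pos [5, 6, 7, 8, 9, 10, 6, 5, 2])) (.pos [3, 4, 5, 6, 7, 8, 4, 4, 1]) (.pos [4, 6, 8, 10, 12, 14, 7, 7, 1]) (.pos [3, 4, 5, 6, 7, 8, 4, 4, 1]) (.pos [5, 8, 11, 14, 17, 20, 10, 10, 1]) (.pos [3, 4, 5, 6, 7, 8, 4, 4, 1])) (.pos [6, 8, 10, 12, 14, 14, 7, 7, 2]) (.pos [4, 6, 8, 10, 12, 12, 6, 6, 1]) (.pos [6, 8, 10, 12, 14, 14, 7, 7, 2]) (.pos [10, 16, 22, 28, 34, 34, 17, 17, 2]) (.pos [6, 8, 10, 12, 14, 14, 7, 7, 2])) (.pos [3, 4, 5, 6, 6, 6, 3, 3, 1]) (.pos [4, 6, 8, 10, 10, 10, 5, 5, 1]) (.pos [3, 4, 5, 6, 6, 6, 3, 3, 1]) (.pos [5, 8, 11, 14, 14, 14,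 7, 7, 1]) (.pos [3, 4, 5, 6, 6, 6, 3, 3, 1])) (.pos [6, 8, 10, 10, 10, 10, 5, 5, 2]) (.pos [4, 6, 8, 8, 8, 8, 4, 4, 1]) (.pos [6, 8, 10, 10, 10, 10, 5, 5, 2]) (.pos [10, 16, 22, 22, 22, 22, 11, 11, 2]) (.pos [6, 8, 10, 10, 10, 10, 5, 5, 2])) (.pos [3, 4, 4, 4, 4, 4, 2, 2, 1]) (.pos [4, 6, 6, 6, 6, 6, 3, 3, 1]) (.pos [3, 4, 4, 4, 4, 4, 2, 2, 1]) (.pos [5, 8, 8, 8, 8, 8, 4, 4, 1]) (.pos [3, 4, 4, 4, 4, 4, 2, 2, 1])) (.node (.node (.node (.node (.node (.node (.node (.mat 4 [8, 0, 1, 2, 3, 4, 5, 6, 7]) (.pos [3, 4, 5, 6, 7, 8, 4, 5, 2]) (.pos [4, 6, 8, 10, 12, 14, 7, 9, 2]) (.pos [3, 4, 5, 6, 7, 8, 4, 5, 2]) (.pos [5, 8, 11, 14, 17, 20, 10, 13, 2]) (.pos [3, 4, 5, 6, 7, 8, 4, 5, 2])) (.pos [3, 4, 5, 6, 7, 8, 5, 4, 2]) (.pos [4, 6,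 8, 10, 12, 14, 9, 7, 2]) (.pos [3, 4, 5, 6, 7, 8, 5, 4, 2]) (.pos [5, 8, 11, 14, 17, 20, 13, 10, 2]) (.pos [3, 4, 5, 6, 7, 8, 5, 4, 2])) (.pos [4, 6, 8, 10, 12, 14, 7, 7, 2]) (.pos [6, 10, 14, 18, 22, 26, 13, 13, 2]) (.pos [4, 6, 8, 10, 12, 14, 7, 7, 2]) (.pos [8, 14, 20, 26, 32, 38, 19, 19, 2]) (.pos [4, 6, 8, 10, 12, 14, 7, 7, 2])) (.pos [2, 3, 4, 5, 6, 6, 3, 3, 1]) (.pos [6, 10, 14, 18, 22, 22, 11, 11, 2]) (.pos [2, 3, 4, 5, 6, 6, 3, 3, 1]) (.pos [4, 7, 10, 13, 16, 16, 8, 8, 1]) (.pos [2, 3, 4, 5, 6, 6, 3, 3, 1])) (.pos [4, 6, 8, 10, 10, 10, 5, 5, 2]) (.pos [6, 10, 14, 18, 18, 18, 9, 9, 2]) (.pos [4, 6, 8, 10, 10, 10, 5, 5, 2]) (.pos [8, 14, 20, 26, 26, 26, 13, 13, 2]) (.pos [4, 6, 8, 10, 10, 10, 5, 5, 2])) (.pos [2, 3, 4, 4,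 4, 4, 2, 2, 1]) (.pos [6, 10, 14, 14, 14, 14, 7, 7, 2]) (.pos [2, 3, 4, 4, 4, 4, 2, 2, 1]) (.pos [4, 7, 10, 10, 10, 10, 5, 5, 1]) (.pos [2, 3, 4, 4, 4, 4, 2, 2, 1])) (.pos [4, 6, 6, 6, 6, 6, 3, 3, 2]) (.pos [6, 10, 10, 10, 10, 10, 5, 5, 2]) (.pos [4, 6, 6, 6, 6, 6, 3, 3, 2]) (.pos [8, 14, 14, 14, 14, 14, 7, 7, 2]) (.pos [4, 6, 6, 6, 6, 6, 3, 3, 2])) (.pos [6, 6, 6, 6, 6, 6, 3, 3, 2]) (.pos [2, 2, 2, 2, 2, 2, 1, 1, 2])),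
  (.node (.node (.node (.node (.node (.node (.node (.node .zero (.pos [3, 6, 9, 12, 15, 10, 5, 8, 1]) (.pos [6, 12, 18, 24, 30, 20, 10, 16, 1]) (.pos [3, 6, 9, 12, 15, 10, 5, 8, 1]) (.pos [9, 18, 27, 36, 45, 30, 15, 24, 1]) (.pos [3, 6, 9, 12, 15, 10, 5, 8, 1])) (.pos [2, 4, 6, 8, 10, 7, 4, 5, 1]) (.pos [4, 8, 12, 16, 20, 14, 8, 10, 1]) (.pos [2, 4, 6, 8, 10, 7, 4, 5, 1]) (.pos [6, 12, 18, 24, 30, 21, 12, 15, 1]) (.pos [2, 4, 6, 8, 10, 7, 4, 5, 1])) (.pos [4, 8, 12, 16, 20, 14, 7, 10, 1]) (.pos [8, 16, 24, 32, 40, 28, 14, 20, 1]) (.pos [4, 8, 12, 16, 20, 14, 7, 10, 1]) (.pos [12, 24, 36, 48, 60, 42, 21, 30, 1]) (.pos [4, 8, 12, 16, 20, 14, 7, 10, 1])) (.pos [6, 12, 18, 24, 30, 20, 10, 15, 1]) (.pos [12, 24, 36, 48, 60, 40, 20,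 30, 1]) (.pos [6, 12, 18, 24, 30, 20, 10, 15, 1]) (.pos [18, 36, 54, 72, 90, 60, 30, 45, 1]) (.pos [6, 12, 18, 24, 30, 20, 10, 15, 1])) (.pos [5, 10, 15, 20, 24, 16, 8, 12, 1]) (.pos [10, 20, 30, 40, 48, 32, 16, 24, 1]) (.pos [5, 10, 15, 20, 24, 16, 8, 12, 1]) (.pos [15, 30, 45, 60, 72, 48, 24, 36, 1]) (.pos [5, 10, 15, 20, 24, 16, 8, 12, 1])) (.pos [4, 8, 12, 15, 18, 12, 6, 9, 1]) (.pos [8, 16, 24, 30, 36, 24, 12, 18, 1]) (.pos [4, 8, 12, 15, 18, 12, 6, 9, 1]) (.pos [12, 24, 36, 45, 54, 36, 18, 27, 1]) (.pos [4, 8, 12, 15, 18, 12, 6, 9, 1])) (.pos [3, 6, 8, 10, 12, 8, 4, 6, 1]) (.pos [6, 12, 16, 20, 24, 16, 8, 12, 1]) (.pos [3, 6, 8, 10, 12, 8, 4, 6, 1]) (.pos [9, 18, 24, 30, 36, 24, 12, 18, 1]) (.pos [3, 6, 8, 10, 12, 8, 4, 6,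 1])) (.node (.node (.node (.node (.node (.node (.node (.mat 7 [8, 0, 1, 2, 3, 4, 5, 6, 7]) (.pos [5, 9, 13, 17, 21, 14, 7, 11, 1]) (.pos [8, 15, 22, 29, 36, 24, 12, 19, 1]) (.pos [5, 9, 13, 17, 21, 14, 7, 11, 1]) (.pos [11, 21, 31, 41, 51, 34, 17, 27, 1]) (.pos [5, 9, 13, 17, 21, 14, 7, 11, 1])) (.pos [4, 7, 10, 13, 16, 11, 6, 8, 1]) (.pos [6, 11, 16, 21, 26, 18, 10, 13, 1]) (.pos [4, 7, 10, 13, 16, 11, 6, 8, 1]) (.pos [8, 15, 22, 29, 36, 25, 14, 18, 1]) (.pos [4, 7, 10, 13, 16, 11, 6, 8, 1])) (.pos [6, 11, 16, 21, 26, 18, 9, 13, 1]) (.pos [10, 19, 28, 37, 46, 32, 16, 23, 1]) (.pos [6, 11, 16, 21, 26, 18, 9, 13, 1]) (.pos [14, 27, 40, 53, 66, 46, 23, 33, 1]) (.pos [6, 11, 16, 21, 26, 18, 9, 13, 1])) (.pos [8, 15, 22, 29, 36, 24,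 12, 18, 1]) (.pos [14, 27, 40, 53, 66, 44, 22, 33, 1]) (.pos [8, 15, 22, 29, 36, 24, 12, 18, 1]) (.pos [20, 39, 58, 77, 96, 64, 32, 48, 1]) (.pos [8, 15, 22, 29, 36, 24, 12, 18, 1])) (.pos [7, 13, 19, 25, 30, 20, 10, 15, 1]) (.pos [12, 23, 34, 45, 54, 36, 18, 27, 1]) (.pos [7, 13, 19, 25, 30, 20, 10, 15, 1]) (.pos [17, 33, 49, 65, 78, 52, 26, 39, 1]) (.pos [7, 13, 19, 25, 30, 20, 10, 15, 1])) (.pos [6, 11, 16, 20, 24, 16, 8, 12, 1]) (.pos [10, 19, 28, 35, 42, 28, 14, 21, 1]) (.pos [6, 11, 16, 20, 24, 16, 8, 12, 1]) (.pos [14, 27, 40, 50, 60, 40, 20, 30, 1]) (.pos [6, 11, 16, 20, 24, 16, 8, 12, 1])) (.pos [5, 9, 12, 15, 18, 12, 6, 9, 1]) (.pos [8, 15, 20, 25, 30, 20, 10, 15, 1]) (.pos [5, 9, 12, 15, 18, 12, 6, 9, 1]) (.pos [11,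 21, 28, 35, 42, 28, 14, 21, 1]) (.pos [5, 9, 12, 15, 18, 12, 6, 9, 1])) (.pos [4, 6, 8, 10, 12, 8, 4, 6, 1]) (.pos [2, 3, 4, 5, 6, 4, 2, 3, 1]) (.pos [6, 9, 12, 15, 18, 12, 6, 9, 1]) (.pos [2, 3, 4, 5, 6, 4, 2, 3, 1]))]

set_option maxRecDepth 100000 in
theorem acheck : ∀ idx < F8.length,
    check true (F8.getD idx []) 8 typesC (atrees.getD idx Tree.zero) [] = true := by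
  decide +kernel

theorem claimTop (T : Models.NumericalType 9) (hm2 : ∀ i, T.IsMinusTwo i) : Claim T 9 typesC :=
  step T (by norm_num) hm2 8 (by norm_num) true (by simp) F8 typesC atrees acheck
    (claim8 T (by norm_num) hm2 (by norm_num))

end Groth.Agent.Lib.Helper24.NumTypeAff9
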