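import Mathlib
import Groth.Prelude.Def_FrobAlg

/-!
# Base change to the perfect closure commutes injectively with products (helper24)

`R` of characteristic `p` whose Frobenius twist is a projective `R`-module. Then for a family of
`R`-linear maps `q i : X → T i` that is jointly injective, the family
`R' ⊗ X → R' ⊗ T i` (`R'` the perfect closure of `R`) is jointly injective.

Ingredients: projective modules detect elements of a tensor product by linear forms (`detect`);
the modules `Fr n` (`R` with `r • x = r ^ p ^ n * x`) are projective (`fr_projective`); the perfect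
closure is the union of the images of `Fr n`, each of which is a direct summand (`ret`).
-/

set_option autoImplicit false

namespace Groth.Agent.Lib.Helper24.PerfBC

open scoped TensorProduct

universe u v w

section detect

variable {R : Type u} [CommRing R]

open Classical in
/-- A projective module detects elements of `P ⊗ M` by linear forms on `P`. -/
lemma detect (P : Type v) [AddCommGroup P] [Module R P] [Module.Projective R P]
    (M : Type w) [AddCommGroup M] [Module R M] (z : P ⊗[R] M)
    (h : ∀ f : P →ₗ[R] R, TensorProduct.lid R M (f.rTensor M z) = 0) : z = 0 := by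
  obtain ⟨s, hs⟩ := Module.projective_def'.mp (inferInstance : Module.Projective R P)
  have hinj : Function.Injective (s.rTensor M) := by
    apply Function.LeftInverse.injective (g := (Finsupp.linearCombination R id).rTensor M)
    intro w
    rw [← LinearMap.comp_apply, ← LinearMap.rTensor_comp, hs, LinearMap.rTensor_id,
      LinearMap.id_apply]
  apply hinj
  rw [map_zero]
  apply (TensorProduct.finsuppScalarLeft R M P).injective
  rw [map_zero]
  refine Finsupp.ext fun y => ?_
  have e : (Finsupp.lapply y).rTensor M (s.rTensor M z) =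
      ((Finsupp.lapply y).comp s).rTensor M z := by
    rw [LinearMap.rTensor_comp, LinearMap.comp_apply]
  rw [TensorProduct.finsuppScalarLeft_apply, e]
  exact h _

/-- joint detection along a jointly injective family. -/
lemma detect_family (P : Type v) [AddCommGroup P] [Module R P] [Module.Projective R P]
    {ι : Type*} (T : ι → Type*) [∀ i, AddCommGroup (T i)] [∀ i, Module R (T i)]
    (X : Type*) [AddCommGroup X] [Module R X] (q : ∀ i, X →ₗ[R] T i)
    (hq : ∀ x, (∀ i, q i x = 0) → x = 0) (z : P ⊗[R] X)
    (hz : ∀ i, (q i).lTensor P z = 0) : z = 0 := by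
  apply detect P X z
  intro f
  apply hq
  intro i
  have key : ∀ z : P ⊗[R] X, q i (TensorProduct.lid R X (f.rTensor X z)) =
      TensorProduct.lid R (T i) (f.rTensor (T i) ((q i).lTensor P z)) := by
    intro z
    induction z using TensorProduct.induction_on with
    | zero => simp
    | tmul a x =>
      rw [LinearMap.rTensor_tmul, TensorProduct.lid_tmul, LinearMap.lTensor_tmul,
        LinearMap.rTensor_tmul, TensorProduct.lid_tmul, map_smul]
    | add a b ha hb => simp only [map_add, ha, hb]
  rw [key, hz, map_zero, map_zero]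

end detect

set_option linter.unusedVariables false in
/-- `R` as an `R`-module through the `n`-fold Frobenius: `r • x = r ^ p ^ n * x`. -/
@[nolint unusedArguments]
def Fr (p : ℕ) (R : Type u) (n : ℕ) : Type u := R

section frob

variable (p : ℕ) [Fact p.Prime] (R : Type u) [CommRing R] [CharP R p]

instance instAddCommGroupFr (n : ℕ) : AddCommGroup (Fr p R n) := inferInstanceAs (AddCommGroup R)

instance instModuleFr (n : ℕ) : Module R (Fr p R n) :=
  (Module.compHom R (iterateFrobenius R p n) : Module R R)

variable {p R} in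
/-- the identity `Fr n → R`. -/
def out {n : ℕ} (x : Fr p R n) : R := x

variable {R} in
/-- the identity `R → Fr n`. -/
def into (n : ℕ) (x : R) : Fr p R n := x

variable {R} in
/-- the identity on finitely supported functions. -/
def castF {I : Type*} (n : ℕ) (c : I →₀ R) : I →₀ Fr p R n := c

/-- the algebra structure of the perfect closure over `R`. -/
@[reducible] noncomputable def algPC : Algebra R (PerfectClosure R p) :=
  (PerfectClosure.of R p).toAlgebra

attribute [local instance] algPC

/-- transition maps `x ↦ x ^ p ^ (n' - n)`. -/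
noncomputable def tr {n n' : ℕ} (h : n ≤ n') : Fr p R n →ₗ[R] Fr p R n' where
  toFun x := into p n' (out x ^ p ^ (n' - n))
  map_add' x y := add_pow_char_pow (out x) (out y) p (n' - n)
  map_smul' r x := by
    show (r ^ p ^ n * out x) ^ p ^ (n' - n) = r ^ p ^ n' * out x ^ p ^ (n' - n)
    rw [mul_pow, ← pow_mul, ← pow_add, Nat.add_sub_cancel' h]

/-- `Fr n → R'`, `x ↦ x ^ (p ^ (-n))`. -/
noncomputable def inc (n : ℕ) : Fr p R n →ₗ[R] PerfectClosure R p where
  toFun x := PerfectClosure.mk R p (n, out x)
  map_add' x y := by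
    show PerfectClosure.mk R p (n, out x + out y) =
      PerfectClosure.mk R p (n, out x) + PerfectClosure.mk R p (n, out y)
    rw [PerfectClosure.mk_add_mk]
    show _ = PerfectClosure.mk R p (n + n, (frobenius R p)^[n] (out x) + (frobenius R p)^[n] (out y))
    rw [← iterate_map_add]
    exact PerfectClosure.R.sound R p n n _ _ rfl
  map_smul' r x := by
    show PerfectClosure.mk R p (n, r ^ p ^ n * out x) = r • PerfectClosure.mk R p (n, out x)
    rw [Algebra.smul_def]
    show _ = PerfectClosure.mk R p (0, r) * PerfectClosure.mk R p (n, out x)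
    rw [PerfectClosure.mk_mul_mk]
    simp only [zero_add, iterate_frobenius, pow_zero, pow_one]

lemma inc_tr {n n' : ℕ} (h : n ≤ n') (x : Fr p R n) : inc p R n' (tr p R h x) = inc p R n x := by
  show PerfectClosure.mk R p (n', out x ^ p ^ (n' - n)) = PerfectClosure.mk R p (n, out x)
  have := PerfectClosure.R.sound R p (n' - n) n (out x) _ rfl
  rw [this, Nat.sub_add_cancel h, iterate_frobenius]

lemma exists_lift (X : Type*) [AddCommGroup X] [Module R X] (z : PerfectClosure R p ⊗[R] X) :
    ∃ n₀, ∀ n, n₀ ≤ n → ∃ w : Fr p R n ⊗[R] X, (inc p R n).rTensor X w = z := by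
  induction z using TensorProduct.induction_on with
  | zero => exact ⟨0, fun n _ => ⟨0, map_zero _⟩⟩
  | tmul a x =>
    obtain ⟨⟨m, r⟩, rfl⟩ := PerfectClosure.mk_surjective R p a
    refine ⟨m, fun n hn => ⟨(tr p R hn (into p m r)) ⊗ₜ x, ?_⟩⟩
    rw [LinearMap.rTensor_tmul, inc_tr]
    rfl
  | add a b ha hb =>
    obtain ⟨n₁, h₁⟩ := ha
    obtain ⟨n₂, h₂⟩ := hb
    refine ⟨max n₁ n₂, fun n hn => ?_⟩
    obtain ⟨w₁, rfl⟩ := h₁ n (le_trans (le_max_left _ _) hn)
    obtain ⟨w₂, rfl⟩ := h₂ n (le_trans (le_max_right _ _) hn)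
    exact ⟨w₁ + w₂, map_add _ _ _⟩

section phi

variable {R}
variable (φ : R →+ R) (hφ : ∀ s r, φ (s ^ p * r) = s * φ r) (hφ1 : φ 1 = 1)

include hφ hφ1 in
lemma phi_pow (y : R) : φ (y ^ p) = y := by
  rw [← mul_one (y ^ p), hφ, hφ1, mul_one]

include hφ in
lemma iter_phi_mul (k : ℕ) (s y : R) : φ^[k] (s ^ p ^ k * y) = s * φ^[k] y := by
  induction k generalizing y with
  | zero => simp
  | succ k ih =>
    rw [Function.iterate_succ_apply, pow_succ, pow_mul, hφ, ih, Function.iterate_succ_apply]

include hφ hφ1 in
lemma iter_phi_pow (k : ℕ) (y : R) : φ^[k] (y ^ p ^ k) = y := by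
  have := iter_phi_mul p φ hφ k y 1
  rw [mul_one, Function.iterate_fixed hφ1 k, mul_one] at this
  exact this

include hφ hφ1 in
lemma iter_phi_add_pow (a b : ℕ) (y : R) : φ^[a + b] (y ^ p ^ b) = φ^[a] y := by
  rw [Function.iterate_add_apply, iter_phi_pow p φ hφ hφ1]

/-- the underlying function of the retraction `R' → Fr n`. -/
noncomputable def retFun (n : ℕ) (a : PerfectClosure R p) : R :=
  a.liftOn (fun x => φ^[x.1] (x.2 ^ p ^ n)) (by
    rintro _ _ ⟨m, x⟩
    show φ^[m] (x ^ p ^ n) = φ^[m + 1] ((frobenius R p x) ^ p ^ n)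
    rw [Function.iterate_succ_apply, frobenius_def, ← pow_mul, mul_comm, pow_mul,
      phi_pow p φ hφ hφ1])

lemma retFun_mk (n m : ℕ) (x : R) :
    retFun p φ hφ hφ1 n (PerfectClosure.mk R p (m, x)) = φ^[m] (x ^ p ^ n) := rfl

/-- the retraction `R' → Fr n`. -/
noncomputable def ret (n : ℕ) : PerfectClosure R p →ₗ[R] Fr p R n where
  toFun a := into p n (retFun p φ hφ hφ1 n a)
  map_add' a b := by
    refine PerfectClosure.induction_on a (fun ⟨m, x⟩ => ?_)
    refine PerfectClosure.induction_on b (fun ⟨m', x'⟩ => ?_)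
    show retFun p φ hφ hφ1 n (PerfectClosure.mk R p (m, x) + PerfectClosure.mk R p (m', x')) =
      retFun p φ hφ hφ1 n (PerfectClosure.mk R p (m, x)) +
        retFun p φ hφ hφ1 n (PerfectClosure.mk R p (m', x'))
    rw [PerfectClosure.mk_add_mk, retFun_mk, retFun_mk, retFun_mk]
    show φ^[m + m'] (((frobenius R p)^[m'] x + (frobenius R p)^[m] x') ^ p ^ n) = _
    rw [add_pow_char_pow, iterate_map_add, iterate_frobenius, iterate_frobenius, ← pow_mul,
      ← pow_mul, mul_comm (p ^ m') (p ^ n), mul_comm (p ^ m) (p ^ n), pow_mul, pow_mul,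
      iter_phi_add_pow p φ hφ hφ1, add_comm m m', iter_phi_add_pow p φ hφ hφ1]
  map_smul' r a := by
    refine PerfectClosure.induction_on a (fun ⟨m, x⟩ => ?_)
    show retFun p φ hφ hφ1 n (r • PerfectClosure.mk R p (m, x)) =
      r ^ p ^ n * retFun p φ hφ hφ1 n (PerfectClosure.mk R p (m, x))
    rw [Algebra.smul_def]
    show retFun p φ hφ hφ1 n (PerfectClosure.mk R p (0, r) * PerfectClosure.mk R p (m, x)) = _
    rw [PerfectClosure.mk_mul_mk, retFun_mk, retFun_mk]
    simp only [zero_add, iterate_frobenius, pow_zero, pow_one]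
    rw [mul_pow, ← pow_mul, mul_comm (p ^ m) (p ^ n), pow_mul, iter_phi_mul p φ hφ]

lemma ret_inc (n : ℕ) : (ret p φ hφ hφ1 n).comp (inc p R n) = LinearMap.id := by
  apply LinearMap.ext
  intro x
  show φ^[n] (out x ^ p ^ n) = out x
  exact iter_phi_pow p φ hφ hφ1 n _

end phi

/-- a splitting of the Frobenius from projectivity of the Frobenius twist. -/
lemma exists_phi [Module.Projective R (FrobAlg.Twist p R)] :
    ∃ φ : R →+ R, (∀ s r, φ (s ^ p * r) = s * φ r) ∧ φ 1 = 1 := by
  obtain ⟨s, hs⟩ :=
    Module.projective_def'.mp (inferInstance : Module.Projective R (FrobAlg.Twist p R))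
  let ψ : FrobAlg.Twist p R →ₗ[R] R :=
    (Finsupp.linearCombination R (fun y : FrobAlg.Twist p R =>
      (s 1 y) ^ (p - 1) * ((FrobAlg.toTwist p R).symm y))) ∘ₗ s
  refine ⟨ψ.toAddMonoidHom.comp (FrobAlg.toTwist p R).toAddMonoidHom, ?_, ?_⟩
  · intro c r
    show ψ (FrobAlg.toTwist p R (c ^ p * r)) = c * ψ (FrobAlg.toTwist p R r)
    have e : FrobAlg.toTwist p R (c ^ p * r) = c • FrobAlg.toTwist p R r := by
      rw [Algebra.smul_def, FrobAlg.algebraMap_twist, map_mul]
    rw [e, map_smul, smul_eq_mul]
  · show ψ (FrobAlg.toTwist p R 1) = 1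
    rw [map_one]
    have h1 := LinearMap.congr_fun hs 1
    rw [LinearMap.comp_apply, LinearMap.id_apply, Finsupp.linearCombination_apply] at h1
    show Finsupp.linearCombination R _ (s 1) = 1
    rw [Finsupp.linearCombination_apply]
    refine Eq.trans (Finset.sum_congr rfl fun y _ => ?_) h1
    show (s 1 y) * ((s 1 y) ^ (p - 1) * ((FrobAlg.toTwist p R).symm y)) =
      (s 1 y) ^ p * ((FrobAlg.toTwist p R).symm y)
    rw [← mul_assoc, ← pow_succ', Nat.sub_add_cancel (Fact.out : p.Prime).one_lt.le]

open Classical in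
/-- `Fr (n+1)` is a direct summand of a direct sum of copies of `Fr n`. -/
theorem fr_succ_projective (n : ℕ) [Module.Projective R (FrobAlg.Twist p R)]
    [Module.Projective R (Fr p R n)] : Module.Projective R (Fr p R (n + 1)) := by
  obtain ⟨s, hs⟩ :=
    Module.projective_def'.mp (inferInstance : Module.Projective R (FrobAlg.Twist p R))
  haveI : Module.Projective R (FrobAlg.Twist p R →₀ Fr p R n) :=
    Module.Projective.of_equiv (finsuppLequivDFinsupp R).symm
  let i₁ : Fr p R (n + 1) →ₗ[R] (FrobAlg.Twist p R →₀ Fr p R n) :=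
    { toFun := fun x => castF p n (s (FrobAlg.toTwist p R (out x)))
      map_add' := fun x y => by
        show castF p n (s (FrobAlg.toTwist p R (out x + out y))) = _
        rw [map_add, map_add]
        rfl
      map_smul' := fun r x => by
        show castF p n (s (FrobAlg.toTwist p R (r ^ p ^ (n + 1) * out x))) =
          r • castF p n (s (FrobAlg.toTwist p R (out x)))
        have e : FrobAlg.toTwist p R (r ^ p ^ (n + 1) * out x) =
            (r ^ p ^ n) • FrobAlg.toTwist p R (out x) := by
          rw [Algebra.smul_def, FrobAlg.algebraMap_twist, map_mul, pow_succ, pow_mul]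
        rw [e, map_smul]
        refine Finsupp.ext fun y => ?_
        rfl }
  let c₁ : FrobAlg.Twist p R → (Fr p R n →ₗ[R] Fr p R (n + 1)) := fun y =>
    { toFun := fun c => into p (n + 1) (out c ^ p * (FrobAlg.toTwist p R).symm y)
      map_add' := fun c d => by
        show (out c + out d) ^ p * (FrobAlg.toTwist p R).symm y =
          out c ^ p * (FrobAlg.toTwist p R).symm y + out d ^ p * (FrobAlg.toTwist p R).symm y
        rw [add_pow_char, add_mul]
      map_smul' := fun r c => by
        show (r ^ p ^ n * out c) ^ p * (FrobAlg.toTwist p R).symm y =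
          r ^ p ^ (n + 1) * (out c ^ p * (FrobAlg.toTwist p R).symm y)
        rw [mul_pow, ← pow_mul, ← pow_succ, mul_assoc] }
  refine Module.Projective.of_split i₁ (Finsupp.lsum ℕ c₁) ?_
  apply LinearMap.ext
  intro x
  rw [LinearMap.comp_apply, LinearMap.id_apply, Finsupp.lsum_apply]
  have h1 := LinearMap.congr_fun hs (FrobAlg.toTwist p R (out x))
  rw [LinearMap.comp_apply, LinearMap.id_apply, Finsupp.linearCombination_apply] at h1
  refine Eq.trans (Finset.sum_congr rfl fun y _ => ?_) h1
  rfl

theorem fr_projective [Module.Projective R (FrobAlg.Twist p R)] :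
    ∀ n, Module.Projective R (Fr p R n)
  | 0 => by
    let i₀ : Fr p R 0 →ₗ[R] R :=
      { toFun := fun x => out x
        map_add' := fun _ _ => rfl
        map_smul' := fun r x => by
          show r ^ p ^ 0 * out x = r * out x
          rw [pow_zero, pow_one] }
    let s₀ : R →ₗ[R] Fr p R 0 :=
      { toFun := fun x => into p 0 x
        map_add' := fun _ _ => rfl
        map_smul' := fun r x => by
          show r * x = r ^ p ^ 0 * x
          rw [pow_zero, pow_one] }
    exact Module.Projective.of_split i₀ s₀ (LinearMap.ext fun _ => rfl)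
  | n + 1 => by
    haveI := fr_projective n
    exact fr_succ_projective p R n

/-- Main theorem. -/
theorem main [Module.Projective R (FrobAlg.Twist p R)]
    {ι : Type*} (T : ι → Type*) [∀ i, AddCommGroup (T i)] [∀ i, Module R (T i)]
    (X : Type*) [AddCommGroup X] [Module R X] (q : ∀ i, X →ₗ[R] T i)
    (hq : ∀ x, (∀ i, q i x = 0) → x = 0) :
    Function.Injective (LinearMap.pi fun i => (q i).lTensor (PerfectClosure R p)) := by
  obtain ⟨φ, hφ, hφ1⟩ := exists_phi p R
  rw [injective_iff_map_eq_zero]
  intro z hz
  have hz' : ∀ i, (q i).lTensor (PerfectClosure R p) z = 0 := fun i => congr_fun hz i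
  obtain ⟨n₀, hn₀⟩ := exists_lift p R X z
  obtain ⟨w, rfl⟩ := hn₀ n₀ le_rfl
  haveI := fr_projective p R n₀
  have hw : ∀ i, (q i).lTensor (Fr p R n₀) w = 0 := by
    intro i
    have h1 := hz' i
    have e1 : (q i).lTensor (PerfectClosure R p) ((inc p R n₀).rTensor X w) =
        (inc p R n₀).rTensor (T i) ((q i).lTensor (Fr p R n₀) w) := by
      rw [← LinearMap.comp_apply, ← LinearMap.comp_apply, LinearMap.lTensor_comp_rTensor,
        LinearMap.rTensor_comp_lTensor]
    rw [e1] at h1
    have h2 := congrArg ((ret p φ hφ hφ1 n₀).rTensor (T i)) h1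
    rw [map_zero, ← LinearMap.comp_apply, ← LinearMap.rTensor_comp, ret_inc, LinearMap.rTensor_id,
      LinearMap.id_apply] at h2
    exact h2
  rw [detect_family (Fr p R n₀) T X q hq w hw, map_zero]

end frob

end Groth.Agent.Lib.Helper24.PerfBC
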