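import Groth.Agent.Lib.Helper24.PosDet
import Groth.Agent.Lib.Helper24.LamFree2

/-!
# The γ-filtration of an extension generated by a line element (helper24)
-/

set_option autoImplicit false
set_option linter.unusedSectionVars false
set_option maxHeartbeats 400000
universe u v

namespace Groth.Agent.Lib.Helper24.PosExt

open LambdaRing MvPolynomial Groth.Agent.Lib.Helper20 Groth.Agent.Lib.Helper24.LamTest
  Groth.Agent.Lib.Helper24.PosGam Groth.Agent.Lib.Helper24.PosFil
  Groth.Agent.Lib.Helper24.PosSpecial Groth.Agent.Lib.Helper24.LamFil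
  Groth.Agent.Lib.Helper24.LamGam Groth.Agent.Lib.Helper24.LamExpr
  Groth.Agent.Lib.Helper24.LamFree2
  Groth.Agent.Lib.Helper3.LambdaAdams Groth.Agent.Lib.Helper6.LambdaBasic

section T1

variable {K : Type u} [CommRing K] [LambdaOps K] {P : PosStructure K}
  {A : Type v} [CommRing A] [LambdaOps A] [Algebra K A] {PA : PosStructure A}

/-- the γ-filtration of a λ-algebra generated by the `γ^j(x)` (S8698 for positive structures) -/
theorem mem_gammaFiltration_iff_V (hK : HasSplitting K P) (hA : HasSplitting A PA)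
    (hlam : ∀ (n : ℕ) (a : K), algebraMap K A (LambdaOps.lam n a) = LambdaOps.lam n (algebraMap K A a))
    (haug : ∀ a : K, PA.aug (algebraMap K A a) = P.aug a)
    (x : A) (hx : PA.aug x = 0)
    (hgen : Algebra.adjoin K (Set.range fun j : ℕ => gamma (j + 1) x) = ⊤) (k : ℕ) (z : A) :
    z ∈ gammaFiltration PA k ↔ z ∈ V (P.aug : K →+* ℤ) (fun j : ℕ => gamma (j + 1) x) k := by
  letI : LambdaOps ℤ := intOps
  rw [← mem_gammaFil_iff]
  have h := gammaFil_eq_V ℤ isBinomial_int K (isSpecial_of_hasSplitting hK) (augAlg P)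
    A (isSpecial_of_hasSplitting hA) hlam (augAlg PA) (isAugLambdaAlg hA) haug x hx
    UnivPolys.default hgen k
  rw [coe_augAlg, coe_augAlg] at h
  rw [h]

end T1

section T2

variable {K : Type u} [CommRing K] [LambdaOps K] (P : PosStructure K)
  {A : Type v} [CommRing A] (ι : K →+* A) (y : A)

/-- the generators `ι(a) y^i`, `a ∈ F^{k-i}` -/
def gens (k : ℕ) : Set A :=
  {b | ∃ (i : ℕ) (a : K), a ∈ gammaFiltration P (k - i) ∧ b = ι a * y ^ i}

/-- the additive group generated by the `ι(a) y^i`, `a ∈ F^{k-i}` -/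
def G (k : ℕ) : AddSubgroup A := AddSubgroup.closure (gens P ι y k)

theorem iota_mul_mem_G (k : ℕ) (a' : K) {z : A} (hz : z ∈ G P ι y k) : ι a' * z ∈ G P ι y k := by
  induction hz using AddSubgroup.closure_induction with
  | mem b hb =>
    obtain ⟨i, a, ha, rfl⟩ := hb
    apply AddSubgroup.subset_closure
    exact ⟨i, a' * a, PosFil.mul_mem_left P _ a' ha, by rw [map_mul, mul_assoc]⟩
  | zero => rw [mul_zero]; exact zero_mem _
  | add x y _ _ hx hy => rw [mul_add]; exact add_mem hx hy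
  | neg x _ hx => rw [mul_neg]; exact neg_mem hx

theorem y_mul_mem_G (k : ℕ) {z : A} (hz : z ∈ G P ι y k) : y * z ∈ G P ι y k := by
  induction hz using AddSubgroup.closure_induction with
  | mem b hb =>
    obtain ⟨i, a, ha, rfl⟩ := hb
    apply AddSubgroup.subset_closure
    refine ⟨i + 1, a, PosFil.antitone P (by omega) ha, ?_⟩
    rw [pow_succ]
    ring
  | zero => rw [mul_zero]; exact zero_mem _
  | add x y _ _ hx hy => rw [mul_add]; exact add_mem hx hy
  | neg x _ hx => rw [mul_neg]; exact neg_mem hx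

theorem y_pow_mul_mem_G (k n : ℕ) {z : A} (hz : z ∈ G P ι y k) : y ^ n * z ∈ G P ι y k := by
  induction n with
  | zero => rwa [pow_zero, one_mul]
  | succ n ih =>
    rw [pow_succ', mul_assoc]
    exact y_mul_mem_G P ι y k ih

theorem eval₂_mul_mem_G (k : ℕ) (p : Polynomial K) {z : A} (hz : z ∈ G P ι y k) :
    p.eval₂ ι y * z ∈ G P ι y k := by
  induction p using Polynomial.induction_on' with
  | add p q hp hq =>
    rw [Polynomial.eval₂_add, add_mul]
    exact add_mem hp hq
  | monomial n a =>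
    rw [Polynomial.eval₂_monomial, mul_assoc]
    exact iota_mul_mem_G P ι y k a (y_pow_mul_mem_G P ι y k n hz)

/-- if `A` is generated by `y` over `K`, the group `G k` is the ideal generated by the same elements -/
theorem span_gens_eq (hgen : ∀ z : A, ∃ p : Polynomial K, z = p.eval₂ ι y) (k : ℕ) (z : A) :
    z ∈ Ideal.span (gens P ι y k) ↔ z ∈ G P ι y k := by
  constructor
  · intro hz
    induction hz using Submodule.span_induction with
    | mem b hb => exact AddSubgroup.subset_closure hb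
    | zero => exact zero_mem _
    | add x y _ _ hx hy => exact add_mem hx hy
    | smul c x _ hx =>
      obtain ⟨p, rfl⟩ := hgen c
      rw [smul_eq_mul]
      exact eval₂_mul_mem_G P ι y k p hx
  · intro hz
    induction hz using AddSubgroup.closure_induction with
    | mem b hb => exact Ideal.subset_span hb
    | zero => exact zero_mem _
    | add x y _ _ hx hy => exact add_mem hx hy
    | neg x _ hx => exact neg_mem hx

/-- the bounded sum `Σ_{i ≤ r} ι(F^{k-i}) y^i` -/
def Rk (r k : ℕ) : AddSubgroup A :=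
  ⨆ i ∈ Finset.range (r + 1), AddSubgroup.map
    ((AddMonoidHom.mulRight (y ^ i)).comp ι.toAddMonoidHom) (gammaFiltration P (k - i))

theorem mem_Rk_of_le (r k : ℕ) {i : ℕ} (hi : i ≤ r) {a : K} (ha : a ∈ gammaFiltration P (k - i)) :
    ι a * y ^ i ∈ Rk P ι y r k := by
  have hle : AddSubgroup.map ((AddMonoidHom.mulRight (y ^ i)).comp ι.toAddMonoidHom)
      (gammaFiltration P (k - i)) ≤ Rk P ι y r k :=
    le_iSup₂ (f := fun i (_ : i ∈ Finset.range (r + 1)) => AddSubgroup.map
      ((AddMonoidHom.mulRight (y ^ i)).comp ι.toAddMonoidHom) (gammaFiltration P (k - i))) i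
      (Finset.mem_range.mpr (by omega))
  apply hle
  exact ⟨a, ha, rfl⟩

theorem Rk_le_G (r k : ℕ) : Rk P ι y r k ≤ G P ι y k := by
  apply iSup₂_le
  intro i _
  rintro _ ⟨a, ha, rfl⟩
  apply AddSubgroup.subset_closure
  exact ⟨i, a, ha, rfl⟩

theorem G_le_Rk (r : ℕ) (c : ℕ → K) (hc : ∀ s, c s ∈ gammaFiltration P (s + 1))
    (H2 : y ^ (r + 1) = ∑ s ∈ Finset.range (r + 1), ι (c s) * y ^ (r - s)) (k : ℕ) :
    G P ι y k ≤ Rk P ι y r k := by
  have claim : ∀ n : ℕ, ∀ a : K, a ∈ gammaFiltration P (k - n) → ι a * y ^ n ∈ Rk P ι y r k := by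
    intro n
    induction n using Nat.strong_induction_on with
    | _ n ih =>
      intro a ha
      by_cases hn : n ≤ r
      · exact mem_Rk_of_le P ι y r k hn ha
      · obtain ⟨t, rfl⟩ : ∃ t, n = t + (r + 1) := ⟨n - (r + 1), by omega⟩
        have e1 : ι a * y ^ (t + (r + 1)) =
            ∑ s ∈ Finset.range (r + 1), ι (a * c s) * y ^ (t + (r - s)) := by
          rw [pow_add, H2, Finset.mul_sum, Finset.mul_sum]
          apply Finset.sum_congr rfl
          intro s _
          rw [map_mul, pow_add]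
          ring
        rw [e1]
        apply AddSubgroup.sum_mem
        intro s hs
        rw [Finset.mem_range] at hs
        apply ih (t + (r - s)) (by omega)
        have h1 := PosFil.mul_mem P ha (hc s)
        exact PosFil.antitone P (by omega) h1
  unfold G
  rw [AddSubgroup.closure_le]
  rintro b ⟨i, a, ha, rfl⟩
  exact claim i a ha

theorem G_eq_Rk (r : ℕ) (c : ℕ → K) (hc : ∀ s, c s ∈ gammaFiltration P (s + 1))
    (H2 : y ^ (r + 1) = ∑ s ∈ Finset.range (r + 1), ι (c s) * y ^ (r - s)) (k : ℕ) :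
    G P ι y k = Rk P ι y r k :=
  le_antisymm (G_le_Rk P ι y r c hc H2 k) (Rk_le_G P ι y r k)

end T2

section T3

variable {K : Type u} [CommRing K] [LambdaOps K] {P : PosStructure K}
  {A : Type v} [CommRing A] [LambdaOps A] [Algebra K A] {PA : PosStructure A}

theorem gamma_line_sub_one {ℓ : A} (hℓ : PA.IsLine ℓ) (k : ℕ) (hk : 2 ≤ k) : gamma k (ℓ - 1) = 0 := by
  rw [← GammaBasic.coeff_gammaSeries,
    LamOrd.gammaSeries_sub_one ℓ (isLineElt_of_isLine PA hℓ) (isLineElt_of_isLine PA (one_isLine PA))]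
  obtain ⟨n, rfl⟩ : ∃ n, k = n + 2 := ⟨k - 2, by omega⟩
  simp only [map_add, PowerSeries.coeff_one, PowerSeries.coeff_C_mul, PowerSeries.coeff_X]
  simp

theorem V_eq_span_gens {ℓ : A} (hℓ : PA.IsLine ℓ) (k : ℕ) :
    V (P.aug : K →+* ℤ) (fun j : ℕ => gamma (j + 1) (ℓ - 1)) k =
      Ideal.span (gens P (algebraMap K A) (ℓ - 1) k) := by
  unfold V
  apply le_antisymm
  · apply Ideal.span_le.mpr
    rintro b ⟨e, a, ha, rfl⟩
    by_cases hex : ∃ j, j ≠ 0 ∧ e j ≠ 0
    · obtain ⟨j, hj0, hj⟩ := hex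
      have h0 : (e.prod fun j n => gamma (j + 1) (ℓ - 1) ^ n) = 0 := by
        rw [Finsupp.prod]
        apply Finset.prod_eq_zero (Finsupp.mem_support_iff.mpr hj)
        rw [gamma_line_sub_one hℓ (j + 1) (by omega), zero_pow hj]
      rw [h0, mul_zero]
      exact Ideal.zero_mem _
    · push Not at hex
      have he : e = Finsupp.single 0 (e 0) := by
        ext j
        by_cases hj : j = 0
        · rw [hj, Finsupp.single_eq_same]
        · rw [Finsupp.single_eq_of_ne hj, hex j hj]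
      rw [he, Finsupp.sum_single_index (by rw [mul_zero])] at ha
      rw [he, Finsupp.prod_single_index (h := fun j n => gamma (j + 1) (ℓ - 1) ^ n) (pow_zero _)]
      apply Ideal.subset_span
      refine ⟨e 0, a, ?_, ?_⟩
      · rw [zero_add, one_mul] at ha
        exact (mem_gammaFil_iff P).mp ha
      · rw [zero_add, GammaBasic.gamma_one_apply]
  · apply Ideal.span_le.mpr
    rintro b ⟨i, a, ha, rfl⟩
    apply Ideal.subset_span
    refine ⟨Finsupp.single 0 i, a, ?_, ?_⟩
    · rw [Finsupp.sum_single_index (by rw [mul_zero]), zero_add, one_mul]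
      exact (mem_gammaFil_iff P).mpr ha
    · rw [Finsupp.prod_single_index (h := fun j n => gamma (j + 1) (ℓ - 1) ^ n) (pow_zero _),
        zero_add, GammaBasic.gamma_one_apply]

/-- **the γ-filtration of an extension generated by a line element** -/
theorem gammaFiltration_eq_Rk (hK : HasSplitting K P) (hA : HasSplitting A PA)
    (hlam : ∀ (n : ℕ) (a : K), algebraMap K A (LambdaOps.lam n a) = LambdaOps.lam n (algebraMap K A a))
    (haug : ∀ a : K, PA.aug (algebraMap K A a) = P.aug a)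
    {ℓ : A} (hℓ : PA.IsLine ℓ)
    (hgenp : ∀ z : A, ∃ p : Polynomial K, z = p.eval₂ (algebraMap K A) (ℓ - 1))
    (r : ℕ) (c : ℕ → K) (hc : ∀ s, c s ∈ gammaFiltration P (s + 1))
    (H2 : (ℓ - 1) ^ (r + 1) = ∑ s ∈ Finset.range (r + 1), algebraMap K A (c s) * (ℓ - 1) ^ (r - s))
    (k : ℕ) :
    gammaFiltration PA k = Rk P (algebraMap K A) (ℓ - 1) r k := by
  have hx : PA.aug (ℓ - 1) = 0 := by rw [map_sub, hℓ.2, map_one, sub_self]
  have hgen : Algebra.adjoin K (Set.range fun j : ℕ => gamma (j + 1) (ℓ - 1)) = ⊤ := by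
    rw [eq_top_iff]
    intro z _
    obtain ⟨p, rfl⟩ := hgenp z
    have h1 : Algebra.adjoin K {ℓ - 1} ≤
        Algebra.adjoin K (Set.range fun j : ℕ => gamma (j + 1) (ℓ - 1)) := by
      apply Algebra.adjoin_mono
      rintro _ rfl
      exact ⟨0, GammaBasic.gamma_one_apply _⟩
    apply h1
    rw [← Polynomial.aeval_def]
    exact Polynomial.aeval_mem_adjoin_singleton K (ℓ - 1)
  ext z
  rw [mem_gammaFiltration_iff_V hK hA hlam haug (ℓ - 1) hx hgen k z, V_eq_span_gens hℓ,
    span_gens_eq P _ _ hgenp, G_eq_Rk P _ _ r c hc H2]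

end T3

section AdjoinRootCase

variable {K : Type u} [CommRing K] [LambdaOps K] {P : PosStructure K}

theorem neg_one_pow_sub {B : Type*} [CommRing B] {m i : ℕ} (hi : i ≤ m) :
    (-1 : B) ^ (m - i) = (-1) ^ m * (-1) ^ i := by
  rw [← pow_add]
  have : m + i = (m - i) + 2 * i := by omega
  rw [this, pow_add, pow_mul]
  simp

/-- the relation satisfied by `ℓ - 1` for a root `ℓ` of `p_e` -/
theorem H2_general {B : Type v} [CommRing B] (ι : K →+* B) (ℓ : B) {e : K} (he : e ∈ P.pos) (r : ℕ)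
    (hr : (P.aug e).toNat = r + 1) (hroot : (KRR.extPoly P e).eval₂ ι ℓ = 0) :
    (ℓ - 1) ^ (r + 1) = ∑ s ∈ Finset.range (r + 1),
      ι ((-1) ^ s * gamma (s + 1) (e - ((r + 1 : ℕ) : K))) * (ℓ - 1) ^ (r - s) := by
  have h1 : ∑ i ∈ Finset.range (r + 2), ι ((-1) ^ i * LambdaOps.lam i e) * ℓ ^ (r + 1 - i) = 0 := by
    rw [KRR.extPoly, hr, Polynomial.eval₂_finset_sum] at hroot
    rw [← hroot]
    apply Finset.sum_congr rfl
    intro i _
    rw [Polynomial.eval₂_mul, Polynomial.eval₂_C, Polynomial.eval₂_pow, Polynomial.eval₂_X]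
  have h2 := congrArg (Polynomial.eval₂ ι (1 - ℓ)) (gamma_sub_aug_identity he)
  rw [hr] at h2
  simp only [Polynomial.eval₂_finset_sum, Polynomial.eval₂_mul, Polynomial.eval₂_C,
    Polynomial.eval₂_pow, Polynomial.eval₂_X, Polynomial.eval₂_sub, Polynomial.eval₂_one] at h2
  have h3 : ∑ i ∈ Finset.range (r + 1 + 1), ι (LambdaOps.lam i e) * (1 - ℓ - 1) ^ (r + 1 - i) = 0 := by
    have hterm : ∀ i ∈ Finset.range (r + 1 + 1), ι (LambdaOps.lam i e) * (1 - ℓ - 1) ^ (r + 1 - i) =
        (-1) ^ (r + 1) * (ι ((-1) ^ i * LambdaOps.lam i e) * ℓ ^ (r + 1 - i)) := by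
      intro i hi
      rw [Finset.mem_range] at hi
      have e1 : (1 - ℓ - 1) = -ℓ := by ring
      rw [e1, neg_pow ℓ, neg_one_pow_sub (B := B) (show i ≤ r + 1 by omega), map_mul, map_pow, map_neg,
        map_one]
      ring
    rw [Finset.sum_congr rfl hterm, ← Finset.mul_sum, h1, mul_zero]
  rw [h3, Finset.sum_range_succ', GammaBasic.gamma_zero_apply, map_one, one_mul, Nat.sub_zero] at h2
  have e2 : (1 - ℓ) = -(ℓ - 1) := by ring
  have h4 : (ℓ - 1) ^ (r + 1) = (-1) ^ (r + 1) * (1 - ℓ) ^ (r + 1) := by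
    rw [e2, neg_pow (ℓ - 1), ← mul_assoc, ← mul_pow]
    simp
  rw [h4, eq_neg_of_add_eq_zero_right h2, mul_neg, Finset.mul_sum, ← Finset.sum_neg_distrib]
  apply Finset.sum_congr rfl
  intro s hs
  rw [Finset.mem_range] at hs
  have e3 : r + 1 - (s + 1) = r - s := by omega
  have hs' : (-1 : B) ^ (r + 1) * (-1) ^ (r - s) = -(-1) ^ s := by
    rw [← pow_add]
    have : r + 1 + (r - s) = 2 * (r - s) + (s + 1) := by omega
    rw [this, pow_add, pow_mul]
    simp [pow_succ]
  rw [e3, e2, neg_pow (ℓ - 1), map_mul, map_pow, map_neg, map_one]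
  linear_combination (-(ι (gamma (s + 1) (e - ((r + 1 : ℕ) : K))) * (ℓ - 1) ^ (r - s))) * hs'

theorem hgenp_adjoinRoot (f : Polynomial K) (z : AdjoinRoot f) :
    ∃ p : Polynomial K, z = p.eval₂ (algebraMap K (AdjoinRoot f)) (AdjoinRoot.root f - 1) := by
  obtain ⟨q, rfl⟩ := AdjoinRoot.mk_surjective z
  refine ⟨q.comp (Polynomial.X + 1), ?_⟩
  rw [Polynomial.eval₂_comp, Polynomial.eval₂_add, Polynomial.eval₂_X, Polynomial.eval₂_one,
    sub_add_cancel, ← AdjoinRoot.aeval_eq, Polynomial.aeval_def]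

/-- **S3782** -/
theorem gammaFiltration_elementaryExtension (hK : HasSplitting K P) (e : K) (he : e ∈ P.pos) (r : ℕ)
    (hr : P.aug e = r + 1)
    [LambdaOps (AdjoinRoot (KRR.extPoly P e))] (Pe : PosStructure (AdjoinRoot (KRR.extPoly P e)))
    (hext : IsExtension P Pe (AdjoinRoot.of (KRR.extPoly P e)))
    (hline : Pe.IsLine (AdjoinRoot.root (KRR.extPoly P e)))
    (hsplit : HasSplitting (AdjoinRoot (KRR.extPoly P e)) Pe) (k : ℕ) :
    gammaFiltration Pe k =
      ⨆ i ∈ Finset.range (r + 1), AddSubgroup.map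
        ((AddMonoidHom.mulRight ((AdjoinRoot.root (KRR.extPoly P e) - 1) ^ i)).comp
          (AdjoinRoot.of (KRR.extPoly P e)).toAddMonoidHom)
        (gammaFiltration P (k - i)) := by
  have hr' : (P.aug e).toNat = r + 1 := by
    rw [hr]
    exact Int.toNat_natCast (r + 1)
  have haug0 : P.aug (e - ((r + 1 : ℕ) : K)) = 0 := by
    rw [map_sub, map_natCast, hr]
    push_cast
    ring
  have h := gammaFiltration_eq_Rk (PA := Pe) hK hsplit
    (by
      intro n a
      rw [AdjoinRoot.algebraMap_eq]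
      exact hext.isLambdaHom n a)
    (by
      intro a
      rw [AdjoinRoot.algebraMap_eq]
      exact hext.aug_comp a)
    hline (hgenp_adjoinRoot _) r
    (fun s => (-1) ^ s * gamma (s + 1) (e - ((r + 1 : ℕ) : K)))
    (fun s => PosFil.mul_mem_left P _ _ (PosFil.gamma_mem P (s + 1) haug0))
    (H2_general _ _ he r hr' (by
      rw [AdjoinRoot.algebraMap_eq]
      exact AdjoinRoot.eval₂_root _)) k
  rw [h, Rk, AdjoinRoot.algebraMap_eq]

end AdjoinRootCase

end Groth.Agent.Lib.Helper24.PosExt
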