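import Groth.Agent.Lib.Helper24.LamBin

/-!
# γ-operations of positive elements (helper24)

For a positive element `e` of augmentation `m` in a λ-ring with positive structure,
`γ_t(e - m) = Σ_{j ≤ m} λ^j(e) t^j (1 - t)^{m - j}`.
-/

set_option autoImplicit false
set_option linter.unusedSectionVars false
set_option maxHeartbeats 400000
universe u

namespace Groth.Agent.Lib.Helper24.PosGam

open LambdaRing Groth.Agent.Lib.Helper20 Groth.Agent.Lib.Helper24.LamBin

variable {K : Type u} [CommRing K] [LambdaOps K] (P : PosStructure K)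

theorem one_mem_pos : (1 : K) ∈ P.pos := by
  have h := P.natCast_mem 1 Nat.one_pos
  rwa [Nat.cast_one] at h

include P in
theorem lam_one_eq_zero (i : ℕ) (hi : 2 ≤ i) : LambdaOps.lam i (1 : K) = 0 := by
  apply P.lam_eq_zero 1 (one_mem_pos P) i
  rw [map_one]
  exact_mod_cast hi

include P in
theorem gamma_one (k : ℕ) : gamma k (1 : K) = 1 := by
  rcases Nat.eq_zero_or_pos k with rfl | hk
  · exact GammaBasic.gamma_zero_apply _
  · rw [gamma, if_neg (by omega), Finset.sum_eq_single 1]
    · simp [LambdaOps.lam_one]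
    · intro j _ hj1
      rcases Nat.eq_zero_or_pos j with rfl | hj
      · simp
      · rw [if_neg (by omega), lam_one_eq_zero P j (by omega), mul_zero]
    · intro h
      exact absurd (Finset.mem_range.mpr (by omega)) h

include P in
theorem gammaSeries_one : GammaBasic.gammaSeries (1 : K) = PowerSeries.mk 1 := by
  ext k
  rw [GammaBasic.coeff_gammaSeries, gamma_one P, PowerSeries.coeff_mk]
  rfl

include P in
theorem gammaSeries_natCast (m : ℕ) : GammaBasic.gammaSeries ((m : K)) = PowerSeries.mk 1 ^ m := by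
  have h := gammaSeries_nsmul (1 : K) m
  rw [nsmul_eq_mul, mul_one, gammaSeries_one P] at h
  exact h

include P in
/-- `γ_t(x - m) = γ_t(x) (1 - t)^m` -/
theorem gammaSeries_sub_natCast (x : K) (m : ℕ) :
    GammaBasic.gammaSeries (x - (m : K)) = GammaBasic.gammaSeries x * (1 - PowerSeries.X) ^ m := by
  have h : GammaBasic.gammaSeries x =
      GammaBasic.gammaSeries (x - (m : K)) * PowerSeries.mk 1 ^ m := by
    rw [← gammaSeries_natCast P, ← GammaBasic.gammaSeries_add, sub_add_cancel]
  rw [h, mul_assoc, ← mul_pow, PowerSeries.mk_one_mul_one_sub_eq_one, one_pow, mul_one]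

variable {P}

theorem natCast_toNat_aug {e : K} (he : e ∈ P.pos) : (((P.aug e).toNat : ℕ) : ℤ) = P.aug e :=
  Int.toNat_of_nonneg (P.aug_pos e he).le

theorem lam_eq_zero_of_lt {e : K} (he : e ∈ P.pos) (i : ℕ) (hi : (P.aug e).toNat < i) :
    LambdaOps.lam i e = 0 := by
  apply P.lam_eq_zero e he i
  rw [← natCast_toNat_aug he]
  exact_mod_cast hi

/-- the polynomial `λ_t(e)` -/
noncomputable def lamPoly (e : K) (m : ℕ) : Polynomial K :=
  ∑ j ∈ Finset.range (m + 1), Polynomial.C (LambdaOps.lam j e) * Polynomial.X ^ j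

theorem lamSeries_eq_coe' {e : K} {m : ℕ} (hvan : ∀ i, m < i → LambdaOps.lam i e = 0) :
    lamSeries e = ((lamPoly e m : Polynomial K) : PowerSeries K) := by
  ext k
  rw [LamBasic.coeff_lamSeries, Polynomial.coeff_coe, lamPoly, Polynomial.finsetSum_coeff]
  simp only [Polynomial.coeff_C_mul, Polynomial.coeff_X_pow]
  rw [Finset.sum_eq_single k]
  · simp
  · intro j _ hjk
    rw [if_neg (Ne.symm hjk), mul_zero]
  · intro hk
    rw [if_pos rfl, mul_one]
    apply hvan
    simpa using hk

theorem lamSeries_eq_coe {e : K} (he : e ∈ P.pos) :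
    lamSeries e = ((lamPoly e (P.aug e).toNat : Polynomial K) : PowerSeries K) :=
  lamSeries_eq_coe' (lam_eq_zero_of_lt he)

/-- the polynomial `Σ_{j ≤ m} λ^j(e) t^j (1 - t)^{m - j}` -/
noncomputable def gamPoly (e : K) (m : ℕ) : Polynomial K :=
  ∑ j ∈ Finset.range (m + 1),
    Polynomial.C (LambdaOps.lam j e) * (Polynomial.X ^ j * (1 - Polynomial.X) ^ (m - j))

theorem uSer_pow_mul (j m : ℕ) (hj : j ≤ m) :
    GammaBasic.uSer K ^ j * (1 - PowerSeries.X) ^ m = PowerSeries.X ^ j * (1 - PowerSeries.X) ^ (m - j) := by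
  obtain ⟨r, rfl⟩ : ∃ r, m = j + r := ⟨m - j, by omega⟩
  rw [Nat.add_sub_cancel_left, pow_add, ← mul_assoc, ← mul_pow, GammaBasic.uSer, mul_assoc,
    PowerSeries.mk_one_mul_one_sub_eq_one, mul_one]

variable (P) in
include P in
/-- `γ_t(e - m) = Σ_{j ≤ m} λ^j(e) t^j (1 - t)^{m - j}` when `λ^i(e) = 0` for `i > m` -/
theorem gammaSeries_sub_natCast_eq {e : K} {m : ℕ} (hvan : ∀ i, m < i → LambdaOps.lam i e = 0) :
    GammaBasic.gammaSeries (e - ((m : ℕ) : K)) = ((gamPoly e m : Polynomial K) : PowerSeries K) := by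
  rw [gammaSeries_sub_natCast P, GammaBasic.gammaSeries_eq_subst, lamSeries_eq_coe' hvan,
    PowerSeries.subst_coe (GammaBasic.hasSubst_uSer K), lamPoly, map_sum, Finset.sum_mul, gamPoly,
    ← Polynomial.coeToPowerSeries.ringHom_apply, map_sum]
  apply Finset.sum_congr rfl
  intro j hj
  rw [Finset.mem_range] at hj
  rw [map_mul, map_pow, Polynomial.aeval_C, Polynomial.aeval_X, mul_assoc,
    uSer_pow_mul j _ (by omega), Polynomial.coeToPowerSeries.ringHom_apply]
  simp only [Polynomial.coe_mul, Polynomial.coe_C, Polynomial.coe_pow, Polynomial.coe_X,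
    Polynomial.coe_sub, Polynomial.coe_one]
  rfl

/-- `γ_t(e - m) = Σ_{j ≤ m} λ^j(e) t^j (1 - t)^{m - j}` -/
theorem gammaSeries_sub_aug {e : K} (he : e ∈ P.pos) :
    GammaBasic.gammaSeries (e - (((P.aug e).toNat : ℕ) : K)) =
      ((gamPoly e (P.aug e).toNat : Polynomial K) : PowerSeries K) :=
  gammaSeries_sub_natCast_eq P (lam_eq_zero_of_lt he)

variable (P) in
include P in
theorem gamma_sub_natCast_eq {e : K} {m : ℕ} (hvan : ∀ i, m < i → LambdaOps.lam i e = 0) (i : ℕ) :
    gamma i (e - ((m : ℕ) : K)) = (gamPoly e m).coeff i := by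
  rw [← GammaBasic.coeff_gammaSeries, gammaSeries_sub_natCast_eq P hvan, Polynomial.coeff_coe]

theorem gamma_sub_aug {e : K} (he : e ∈ P.pos) (i : ℕ) :
    gamma i (e - (((P.aug e).toNat : ℕ) : K)) = (gamPoly e (P.aug e).toNat).coeff i :=
  gamma_sub_natCast_eq P (lam_eq_zero_of_lt he) i

section Reflect

open Polynomial

variable {R : Type*} [CommRing R]

theorem reflect_sum {ι : Type*} (s : Finset ι) (f : ι → R[X]) (N : ℕ) :
    reflect N (∑ i ∈ s, f i) = ∑ i ∈ s, reflect N (f i) := by
  classical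
  induction s using Finset.induction_on with
  | empty => simp
  | insert a s ha ih => rw [Finset.sum_insert ha, Finset.sum_insert ha, reflect_add, ih]

theorem natDegree_one_sub_X_le : (1 - X : R[X]).natDegree ≤ 1 :=
  (natDegree_sub_le _ _).trans (by rw [natDegree_one]; exact max_le (Nat.zero_le _) natDegree_X_le)

theorem natDegree_one_sub_X_pow_le (n : ℕ) : ((1 - X : R[X]) ^ n).natDegree ≤ n :=
  natDegree_pow_le.trans (by simpa using Nat.mul_le_mul_left n (natDegree_one_sub_X_le (R := R)))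

theorem reflect_one_sub_X_pow (n : ℕ) : reflect n ((1 - X : R[X]) ^ n) = (X - 1) ^ n := by
  induction n with
  | zero => simp [reflect_one]
  | succ n ih =>
    rw [pow_succ, reflect_mul _ _ (natDegree_one_sub_X_pow_le n) natDegree_one_sub_X_le, ih,
      reflect_sub, reflect_one, reflect_one_X, pow_one, pow_succ]

theorem reflect_X_pow_mul (j m : ℕ) (hj : j ≤ m) :
    reflect m ((X : R[X]) ^ j * (1 - X) ^ (m - j)) = (X - 1) ^ (m - j) := by
  obtain ⟨r, rfl⟩ : ∃ r, m = j + r := ⟨m - j, by omega⟩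
  rw [Nat.add_sub_cancel_left, reflect_mul _ _ (natDegree_X_pow_le j) (natDegree_one_sub_X_pow_le r),
    reflect_one_sub_X_pow, reflect_monomial, revAt_le le_rfl, Nat.sub_self, pow_zero, one_mul]

theorem sum_coeff_eq_reflect (f : R[X]) (m : ℕ) (hf : f.natDegree ≤ m) :
    ∑ i ∈ Finset.range (m + 1), C (f.coeff i) * X ^ (m - i) = reflect m f := by
  conv_rhs => rw [f.as_sum_range_C_mul_X_pow' (Nat.lt_succ_of_le hf)]
  rw [reflect_sum]
  apply Finset.sum_congr rfl
  intro i hi
  rw [Finset.mem_range] at hi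
  rw [reflect_C_mul_X_pow, revAt_le (by omega)]

end Reflect

section Identity

open Polynomial

theorem natDegree_gamPoly_le (e : K) (m : ℕ) : (gamPoly e m).natDegree ≤ m := by
  rw [gamPoly]
  apply natDegree_sum_le_of_forall_le
  intro j hj
  rw [Finset.mem_range] at hj
  refine (natDegree_C_mul_le _ _).trans (natDegree_mul_le.trans ?_)
  calc _ ≤ j + (m - j) := Nat.add_le_add (natDegree_X_pow_le j) (natDegree_one_sub_X_pow_le (m - j))
    _ = m := by omega

theorem reflect_gamPoly (e : K) (m : ℕ) :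
    reflect m (gamPoly e m) =
      ∑ j ∈ Finset.range (m + 1), C (LambdaOps.lam j e) * (X - 1) ^ (m - j) := by
  rw [gamPoly, reflect_sum]
  apply Finset.sum_congr rfl
  intro j hj
  rw [Finset.mem_range] at hj
  rw [reflect_C_mul, reflect_X_pow_mul j m (by omega)]

variable (P) in
include P in
theorem gamma_sub_natCast_identity {e : K} {m : ℕ} (hvan : ∀ i, m < i → LambdaOps.lam i e = 0) :
    (∑ i ∈ Finset.range (m + 1), C (gamma i (e - (m : K))) * X ^ (m - i)) =
      ∑ i ∈ Finset.range (m + 1), C (LambdaOps.lam i e) * (X - 1) ^ (m - i) := by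
  rw [← reflect_gamPoly, ← sum_coeff_eq_reflect _ _ (natDegree_gamPoly_le e _)]
  apply Finset.sum_congr rfl
  intro i _
  rw [gamma_sub_natCast_eq P hvan]

/-- **S3290** -/
theorem gamma_sub_aug_identity {e : K} (he : e ∈ P.pos) :
    (∑ i ∈ Finset.range ((P.aug e).toNat + 1),
        C (gamma i (e - ((P.aug e).toNat : K))) * X ^ ((P.aug e).toNat - i)) =
      ∑ i ∈ Finset.range ((P.aug e).toNat + 1),
        C (LambdaOps.lam i e) * (X - 1) ^ ((P.aug e).toNat - i) :=
  gamma_sub_natCast_identity P (lam_eq_zero_of_lt he)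

variable (P) in
include P in
/-- `γ^m(e - m) = (-1)^m λ_{-1}(e)` when `λ^i(e) = 0` for `i > m` -/
theorem gamma_top' {e : K} {m : ℕ} (hvan : ∀ i, m < i → LambdaOps.lam i e = 0) :
    gamma m (e - (m : K)) =
      (-1) ^ m * ∑ i ∈ Finset.range (m + 1), (-1 : K) ^ i * LambdaOps.lam i e := by
  have h := congrArg (fun q : K[X] => q.eval 0) (gamma_sub_natCast_identity P hvan)
  simp only [eval_finsetSum, eval_mul, eval_C, eval_pow, eval_X, eval_sub, eval_one, zero_sub] at h
  rw [Finset.sum_eq_single m] at h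
  · rw [Nat.sub_self, pow_zero, mul_one] at h
    rw [h, Finset.mul_sum]
    apply Finset.sum_congr rfl
    intro i hi
    rw [Finset.mem_range] at hi
    have hs : (-1 : K) ^ (m - i) = (-1) ^ m * (-1) ^ i := by
      rw [← pow_add]
      have : m + i = (m - i) + 2 * i := by omega
      rw [this, pow_add, pow_mul]
      simp
    rw [hs]
    ring
  · intro i hi hne
    rw [Finset.mem_range] at hi
    rw [zero_pow (by omega), mul_zero]
  · intro h'
    exact absurd (Finset.mem_range.mpr (Nat.lt_succ_self _)) h'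

/-- `γ^m(e - m) = (-1)^m λ_{-1}(e)` -/
theorem gamma_top {e : K} (he : e ∈ P.pos) :
    gamma (P.aug e).toNat (e - ((P.aug e).toNat : K)) =
      (-1) ^ (P.aug e).toNat *
        ∑ i ∈ Finset.range ((P.aug e).toNat + 1), (-1 : K) ^ i * LambdaOps.lam i e :=
  gamma_top' P (lam_eq_zero_of_lt he)

end Identity

end Groth.Agent.Lib.Helper24.PosGam
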