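import Groth.Agent.Lib.Helper24.PosFil
import Groth.Agent.Lib.Helper17.LambdaSplit

/-!
# Involutions and the top γ-operation (helper24)
-/

set_option autoImplicit false
set_option linter.unusedSectionVars false
set_option maxHeartbeats 400000
universe u

namespace Groth.Agent.Lib.Helper24.PosInv

open LambdaRing PowerSeries Groth.Agent.Lib.Helper20 Groth.Agent.Lib.Helper24.PosGam
  Groth.Agent.Lib.Helper24.PosFil Groth.Agent.Lib.Helper17.LambdaSplit

variable {K : Type u} [CommRing K] [LambdaOps K]

/-- the core identity for a sum of line elements `E = Σ v` with `E' = Σ v^∨`: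
`γ^d(E - d) = λ_{-1}(E') λ^d(E)` -/
theorem core (P : PosStructure K) {inv : K → K} (hV : IsInvolution P inv) (s : Multiset K)
    (hs : ∀ u ∈ s, P.IsLine u) :
    gamma (Multiset.card s) (s.sum - ((Multiset.card s : ℕ) : K)) =
      (∑ i ∈ Finset.range (Multiset.card s + 1), (-1 : K) ^ i * LambdaOps.lam i (s.map inv).sum) *
        LambdaOps.lam (Multiset.card s) s.sum := by
  classical
  have hs' : ∀ u ∈ s.map inv, P.IsLine u := by
    intro u hu
    obtain ⟨v, hv, rfl⟩ := Multiset.mem_map.mp hu
    exact hV.inv_line v (hs v hv)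
  have hvan : ∀ i, Multiset.card s < i → LambdaOps.lam i s.sum = 0 := by
    intro i hi
    rw [lam_sum_lines P s hs, coeff_linProd_eq_zero s i hi]
  rw [gamma_top' P hvan, Finset.mul_sum, Finset.sum_mul, ← Finset.sum_range_reflect]
  apply Finset.sum_congr rfl
  intro j hj
  rw [Finset.mem_range] at hj
  have e1 : Multiset.card s + 1 - 1 - j = Multiset.card s - j := by omega
  rw [e1, lam_sum_lines P s hs, lam_sum_lines P s hs, lam_sum_lines P _ hs',
    coeff_linProd_dual inv s (fun v hv => hV.inv_mul_self v (hs v hv)) _ (Nat.sub_le _ _),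
    coeff_card_linProd]
  have e2 : Multiset.card s - (Multiset.card s - j) = j := by omega
  rw [e2]
  have hsgn : (-1 : K) ^ Multiset.card s * (-1) ^ (Multiset.card s - j) = (-1) ^ j := by
    rw [← pow_add]
    have : Multiset.card s + (Multiset.card s - j) = j + 2 * (Multiset.card s - j) := by omega
    rw [this, pow_add, pow_mul]
    simp
  rw [← hsgn]
  ring

variable {P : PosStructure K} {inv : K → K}

/-- **S8134** -/
theorem gamma_top_eq (hV : IsInvolution P inv) (hS : HasInvSplitting P inv) (e : K) (he : e ∈ P.pos) :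
    gamma (P.aug e).toNat (e - ((P.aug e).toNat : K)) =
      (∑ i ∈ Finset.range ((P.aug e).toNat + 1), (-1 : K) ^ i * LambdaOps.lam i (inv e)) *
        LambdaOps.lam (P.aug e).toNat e := by
  obtain ⟨L, inv', f, hext, hinv', hcomp, s, hs, hsum⟩ := hS e he
  apply hext.injective
  have hm : (P.aug e).toNat = Multiset.card s := by
    rw [← hext.aug_comp e, ← hsum]
    exact card_eq_toNat_aug L.posStr s hs
  have hinve : f (inv e) = (s.map inv').sum := by
    rw [hcomp, ← hsum, inv_multiset_sum hinv']
  rw [LamHom.map_gamma f hext.isLambdaHom, map_sub, map_natCast, map_mul, map_sum,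
    hext.isLambdaHom, ← hsum, hm, core L.posStr hinv' s hs]
  congr 1
  apply Finset.sum_congr rfl
  intro i _
  rw [map_mul, map_pow, map_neg, map_one, hext.isLambdaHom, hinve]

/-- `γ^d(q^∨ - d) = λ_{-1}(q) λ^d(q^∨)` -/
theorem gamma_inv_eq (hV : IsInvolution P inv) (hS : HasInvSplitting P inv) (q : K) (hq : q ∈ P.pos) :
    gamma (P.aug q).toNat (inv q - ((P.aug q).toNat : K)) =
      (∑ i ∈ Finset.range ((P.aug q).toNat + 1), (-1 : K) ^ i * LambdaOps.lam i q) *
        LambdaOps.lam (P.aug q).toNat (inv q) ∧ P.aug (LambdaOps.lam (P.aug q).toNat (inv q)) = 1 := by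
  obtain ⟨L, inv', f, hext, hinv', hcomp, s, hs, hsum⟩ := hS q hq
  have hm : (P.aug q).toNat = Multiset.card s := by
    rw [← hext.aug_comp q, ← hsum]
    exact card_eq_toNat_aug L.posStr s hs
  have hs' : ∀ u ∈ s.map inv', L.posStr.IsLine u := by
    intro u hu
    obtain ⟨v, hv, rfl⟩ := Multiset.mem_map.mp hu
    exact hinv'.inv_line v (hs v hv)
  have hinvq : f (inv q) = (s.map inv').sum := by
    rw [hcomp, ← hsum, inv_multiset_sum hinv']
  have hback : (s.map inv').map inv' = s := by
    rw [Multiset.map_map]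
    conv_rhs => rw [← Multiset.map_id s]
    apply Multiset.map_congr rfl
    intro v _
    exact hinv'.inv_inv v
  have hcard : Multiset.card (s.map inv') = Multiset.card s := Multiset.card_map _ _
  constructor
  · apply hext.injective
    have h := core L.posStr hinv' (s.map inv') hs'
    rw [hback, hcard] at h
    rw [LamHom.map_gamma f hext.isLambdaHom, map_sub, map_natCast, map_mul, map_sum,
      hext.isLambdaHom, hinvq, hm, h]
    congr 1
    apply Finset.sum_congr rfl
    intro i _
    rw [map_mul, map_pow, map_neg, map_one, hext.isLambdaHom, hsum]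
  · rw [← hext.aug_comp, hext.isLambdaHom, hinvq, hm, ← hcard, lam_sum_lines L.posStr _ hs',
      coeff_card_linProd, map_multiset_prod, Multiset.map_map]
    apply Multiset.prod_eq_one
    intro x hx
    obtain ⟨v, hv, rfl⟩ := Multiset.mem_map.mp hx
    exact (hinv'.inv_line v (hs v hv)).2

/-- **S8135** -/
theorem gamma_inv_sub_mem (hV : IsInvolution P inv) (hS : HasInvSplitting P inv) (q : K)
    (hq : q ∈ P.pos) :
    gamma (P.aug q).toNat (inv q - ((P.aug q).toNat : K)) -
        (∑ i ∈ Finset.range ((P.aug q).toNat + 1), (-1 : K) ^ i * LambdaOps.lam i q) ∈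
      gammaFiltration P ((P.aug q).toNat + 1) := by
  obtain ⟨h1, h2⟩ := gamma_inv_eq hV hS q hq
  rw [h1, ← mul_sub_one]
  refine PosFil.mul_mem P (lamAlt_mem P hq) ?_
  have h3 := pgens_subset P 1 (sub_aug_mem_pgens P (LambdaOps.lam (P.aug q).toNat (inv q)))
  rw [h2, Int.cast_one] at h3
  exact h3

end Groth.Agent.Lib.Helper24.PosInv
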