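import Groth.Agent.Lib.Helper24.PosSpecial

/-!
# Rational γ-filtration membership inside `K` (helper24)
-/

set_option autoImplicit false
set_option linter.unusedSectionVars false
set_option maxHeartbeats 400000
universe u

namespace Groth.Agent.Lib.Helper24.PosQ

open LambdaRing Groth.Agent.Lib.Helper24.PosFil Groth.Agent.Lib.Helper24.PosSpecial
  Groth.Agent.Lib.Helper3.LambdaAdams

variable {K : Type u} [CommRing K] [LambdaOps K] (P : PosStructure K)

/-- some positive multiple of `x` lies in `F^m` -/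
def QMem (m : ℕ) (x : K) : Prop := ∃ N : ℕ, 1 ≤ N ∧ (N : K) * x ∈ gammaFiltration P m

theorem qmem_zero (x : K) : QMem P 0 x :=
  ⟨1, le_rfl, by rw [gammaFiltration_zero]; exact AddSubgroup.mem_top _⟩

theorem qmem_anti {a b : ℕ} (h : a ≤ b) {x : K} (hx : QMem P b x) : QMem P a x := by
  obtain ⟨N, hN, hx⟩ := hx
  exact ⟨N, hN, PosFil.antitone P h hx⟩

theorem qmem_sub {m : ℕ} {x y : K} (hx : QMem P m x) (hy : QMem P m y) : QMem P m (x - y) := by
  obtain ⟨N1, h1, hx⟩ := hx
  obtain ⟨N2, h2, hy⟩ := hy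
  refine ⟨N1 * N2, Nat.mul_pos h1 h2, ?_⟩
  have e : ((N1 * N2 : ℕ) : K) * (x - y) = (N2 : K) * ((N1 : K) * x) - (N1 : K) * ((N2 : K) * y) := by
    push_cast; ring
  rw [e]
  exact sub_mem (mul_mem_left P m _ hx) (mul_mem_left P m _ hy)

theorem qmem_of_natCast_mul {m : ℕ} {x : K} (c : ℕ) (hc : 1 ≤ c) (h : QMem P m ((c : K) * x)) :
    QMem P m x := by
  obtain ⟨N, hN, hx⟩ := h
  refine ⟨N * c, Nat.mul_pos hN hc, ?_⟩
  have e : ((N * c : ℕ) : K) * x = (N : K) * ((c : K) * x) := by push_cast; ring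
  rw [e]
  exact hx

variable {P}

theorem adams_natCast_mul (j N : ℕ) (x : K) : adams P j ((N : K) * x) = (N : K) * adams P j x := by
  induction N with
  | zero => rw [Nat.cast_zero, zero_mul, zero_mul, adams_zero]
  | succ N ih => rw [Nat.cast_succ, add_mul, one_mul, adams_add, ih, add_mul, one_mul]

theorem qmem_adams_sub (hK : HasSplitting K P) (j : ℕ) (hj : 1 ≤ j) {m : ℕ} {x : K}
    (hx : QMem P m x) : QMem P (m + 1) (adams P j x - (j : K) ^ m * x) := by
  obtain ⟨N, hN, hx⟩ := hx
  refine ⟨N, hN, ?_⟩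
  have h := adams_sub_pow_mem hK j hj m _ hx
  rw [adams_natCast_mul] at h
  have e : (N : K) * (adams P j x - (j : K) ^ m * x) =
      (N : K) * adams P j x - (j : K) ^ m * ((N : K) * x) := by ring
  rw [e]
  exact h

/-- **S3795** -/
theorem qmem_of_adams_congr (hK : HasSplitting K P) (j : ℕ) (hj : 2 ≤ j) (n : ℕ) (x : K)
    (hx : QMem P (n + 1) (adams P j x - (j : K) ^ n * x)) : QMem P n x := by
  have key : ∀ m, m ≤ n → QMem P m x := by
    intro m
    induction m with
    | zero => intro _; exact qmem_zero P x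
    | succ m ih =>
      intro hm
      have h1 := qmem_adams_sub hK j (by omega) (ih (by omega))
      have h2 := qmem_anti P (show m + 1 ≤ n + 1 by omega) hx
      have h3 := qmem_sub P h1 h2
      have hlt : j ^ m < j ^ n := Nat.pow_lt_pow_right (by omega) (by omega)
      have e : adams P j x - (j : K) ^ m * x - (adams P j x - (j : K) ^ n * x) =
          ((j ^ n - j ^ m : ℕ) : K) * x := by
        rw [Nat.cast_sub hlt.le]
        push_cast
        ring
      rw [e] at h3
      exact qmem_of_natCast_mul P _ (by omega) h3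
  exact key n le_rfl

end Groth.Agent.Lib.Helper24.PosQ
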