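import Groth.Agent.Lib.Helper24.PosSpecial
import Groth.Agent.Lib.Helper24.EigenFil

/-!
# The Adams eigenspace decomposition of `ℚ ⊗ K` (helper24)
-/

set_option autoImplicit false
set_option linter.unusedSectionVars false
set_option maxHeartbeats 400000
universe u

namespace Groth.Agent.Lib.Helper24.PosRat

open LambdaRing TensorProduct Groth.Agent.Lib.Helper24.PosFil Groth.Agent.Lib.Helper24.PosSpecial
  Groth.Agent.Lib.Helper24.EigenFil Groth.Agent.Lib.Helper3.LambdaAdams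

variable {K : Type u} [CommRing K] [LambdaOps K] (P : PosStructure K)

/-- the `ℚ`-span of the image of `F^n K` in `ℚ ⊗ K` -/
def QF (n : ℕ) : Submodule ℚ (ℚ ⊗[ℤ] K) :=
  Submodule.span ℚ ((fun x : K => (1 : ℚ) ⊗ₜ[ℤ] x) '' (gammaFiltration P n : Set K))

theorem tmul_mem_QF {n : ℕ} {x : K} (hx : x ∈ gammaFiltration P n) : (1 : ℚ) ⊗ₜ[ℤ] x ∈ QF P n :=
  Submodule.subset_span ⟨x, hx, rfl⟩

theorem QF_anti {a b : ℕ} (h : a ≤ b) : QF P b ≤ QF P a :=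
  Submodule.span_mono (Set.image_mono (PosFil.antitone P h))

theorem smul_one_tmul (q : ℚ) (x : K) : q • ((1 : ℚ) ⊗ₜ[ℤ] x) = q ⊗ₜ[ℤ] x := by
  rw [TensorProduct.smul_tmul', smul_eq_mul, mul_one]

theorem QF_zero : QF P 0 = ⊤ := by
  rw [eq_top_iff]
  intro z hz
  clear hz
  induction z using TensorProduct.induction_on with
  | zero => exact zero_mem _
  | tmul q x =>
    rw [← smul_one_tmul]
    apply Submodule.smul_mem
    apply tmul_mem_QF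
    rw [gammaFiltration_zero]
    exact AddSubgroup.mem_top _
  | add a b ha hb => exact add_mem ha hb

theorem QF_top (d : ℕ) (hd : gammaFiltration P (d + 1) = ⊥) : QF P (d + 1) = ⊥ := by
  rw [QF, Submodule.span_eq_bot]
  rintro z ⟨x, hx, rfl⟩
  rw [SetLike.mem_coe, hd, AddSubgroup.mem_bot] at hx
  show (1 : ℚ) ⊗ₜ[ℤ] x = 0
  rw [hx, TensorProduct.tmul_zero]

theorem natCast_pow_smul_tmul (j n : ℕ) (y : K) :
    ((j : ℚ) ^ n) • ((1 : ℚ) ⊗ₜ[ℤ] y) = (1 : ℚ) ⊗ₜ[ℤ] ((j : K) ^ n * y) := by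
  have h1 : ((j : ℚ) ^ n) = ((j ^ n : ℕ) : ℚ) := by push_cast; rfl
  have h2 : ((j : K) ^ n * y) = (j ^ n : ℕ) • y := by rw [nsmul_eq_mul]; push_cast; rfl
  rw [h1, h2, Nat.cast_smul_eq_nsmul, TensorProduct.tmul_smul]

variable {P}

theorem data (hK : HasSplitting K P) (d : ℕ) (hd : gammaFiltration P (d + 1) = ⊥)
    (j : ℕ) (hj : 2 ≤ j) (Ψ : ℚ ⊗[ℤ] K →ₗ[ℚ] ℚ ⊗[ℤ] K)
    (hΨ : ∀ x : K, Ψ (1 ⊗ₜ[ℤ] x) = 1 ⊗ₜ[ℤ] adams P j x) :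
    Data (QF P) Ψ (fun n => (j : ℚ) ^ n) d where
  anti := fun h => QF_anti P h
  zero := QF_zero P
  top := QF_top P d hd
  act := by
    intro n x hx
    induction hx using Submodule.span_induction with
    | mem z hz =>
      obtain ⟨y, hy, rfl⟩ := hz
      show Ψ ((1 : ℚ) ⊗ₜ[ℤ] y) - ((j : ℚ) ^ n) • ((1 : ℚ) ⊗ₜ[ℤ] y) ∈ QF P (n + 1)
      rw [hΨ, natCast_pow_smul_tmul, ← TensorProduct.tmul_sub]
      exact tmul_mem_QF P (adams_sub_pow_mem hK j (by omega) n y hy)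
    | zero =>
      rw [map_zero, smul_zero, sub_zero]
      exact zero_mem _
    | add a b _ _ ha hb =>
      have e : Ψ (a + b) - ((j : ℚ) ^ n) • (a + b) =
          (Ψ a - ((j : ℚ) ^ n) • a) + (Ψ b - ((j : ℚ) ^ n) • b) := by
        rw [map_add, smul_add]; abel
      rw [e]
      exact add_mem ha hb
    | smul q a _ ha =>
      have e : Ψ (q • a) - ((j : ℚ) ^ n) • (q • a) = q • (Ψ a - ((j : ℚ) ^ n) • a) := by
        rw [map_smul, smul_sub, smul_comm]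
      rw [e]
      exact Submodule.smul_mem _ _ ha
  inj := by
    have h0 : (0 : ℚ) < (j : ℚ) := by exact_mod_cast (show 0 < j by omega)
    have h1 : (j : ℚ) ≠ 1 := by exact_mod_cast (show j ≠ 1 by omega)
    exact pow_right_injective₀ h0 h1

theorem commute (hK : HasSplitting K P) (j l : ℕ) (Ψj Ψl : ℚ ⊗[ℤ] K →ₗ[ℚ] ℚ ⊗[ℤ] K)
    (hΨj : ∀ x : K, Ψj (1 ⊗ₜ[ℤ] x) = 1 ⊗ₜ[ℤ] adams P j x)
    (hΨl : ∀ x : K, Ψl (1 ⊗ₜ[ℤ] x) = 1 ⊗ₜ[ℤ] adams P l x) (z : ℚ ⊗[ℤ] K) :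
    Ψj (Ψl z) = Ψl (Ψj z) := by
  induction z using TensorProduct.induction_on with
  | zero => simp
  | tmul q x =>
    rw [← smul_one_tmul, map_smul, map_smul, map_smul, map_smul, hΨl, hΨj, hΨj, hΨl,
      adams_adams hK, adams_adams hK, mul_comm]
  | add a b ha hb => rw [map_add, map_add, map_add, map_add, ha, hb]

/-- **S3296** -/
theorem eigenspace_decomposition (hK : HasSplitting K P) (d : ℕ)
    (hd : gammaFiltration P (d + 1) = ⊥) (j l : ℕ) (hj : 2 ≤ j) (hl : 2 ≤ l)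
    (Ψj Ψl : ℚ ⊗[ℤ] K →ₗ[ℚ] ℚ ⊗[ℤ] K)
    (hΨj : ∀ x : K, Ψj (1 ⊗ₜ[ℤ] x) = 1 ⊗ₜ[ℤ] adams P j x)
    (hΨl : ∀ x : K, Ψl (1 ⊗ₜ[ℤ] x) = 1 ⊗ₜ[ℤ] adams P l x) :
    (⨆ m ∈ Finset.range (d + 1), Module.End.eigenspace Ψj ((j : ℚ) ^ m)) = ⊤ ∧
    ∀ m : ℕ, Module.End.eigenspace Ψj ((j : ℚ) ^ m) = Module.End.eigenspace Ψl ((l : ℚ) ^ m) := by
  have Dj := data hK d hd j hj Ψj hΨj
  have Dl := data hK d hd l hl Ψl hΨl
  refine ⟨Dj.iSup_eq_top, fun m => le_antisymm ?_ ?_⟩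
  · exact eig_le_of_commute Dj Dl (commute hK j l Ψj Ψl hΨj hΨl) m
  · exact eig_le_of_commute Dl Dj (commute hK l j Ψl Ψj hΨl hΨj) m

/-- **S8131** -/
theorem eigenspace_sup_succ (hK : HasSplitting K P) (d : ℕ)
    (hd : gammaFiltration P (d + 1) = ⊥) (j : ℕ) (hj : 2 ≤ j)
    (Ψ : ℚ ⊗[ℤ] K →ₗ[ℚ] ℚ ⊗[ℤ] K)
    (hΨ : ∀ x : K, Ψ (1 ⊗ₜ[ℤ] x) = 1 ⊗ₜ[ℤ] adams P j x) (m : ℕ) :
    Module.End.eigenspace Ψ ((j : ℚ) ^ m) ⊔ QF P (m + 1) = QF P m ∧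
      Module.End.eigenspace Ψ ((j : ℚ) ^ m) ⊓ QF P (m + 1) = ⊥ := by
  have D := data hK d hd j hj Ψ hΨ
  exact ⟨D.sup_eq m, D.eig_inf (Nat.lt_succ_self m)⟩

end Groth.Agent.Lib.Helper24.PosRat
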