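import Groth.Agent.Lib.Helper24.PosSpecial
import Groth.Prelude.Def_KRR

/-!
# Augmentation of `σ^j(e)` (helper24)
-/

set_option autoImplicit false
set_option linter.unusedSectionVars false
set_option maxHeartbeats 400000
universe u

namespace Groth.Agent.Lib.Helper24.PosSigma

open LambdaRing PowerSeries Groth.Agent.Lib.Helper20 Groth.Agent.Lib.Helper24.PosSpecial
  Groth.Agent.Lib.Helper3.LambdaAdams

variable {K : Type u} [CommRing K] [LambdaOps K] {P : PosStructure K}

theorem map_rescale_neg_one (φ : K →+* ℤ) (F : PowerSeries K) :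
    PowerSeries.map φ (rescale (-1 : K) F) = rescale (-1 : ℤ) (PowerSeries.map φ F) := by
  ext n
  rw [coeff_map, coeff_rescale, coeff_rescale, coeff_map, map_mul, map_pow, map_neg, map_one]

theorem rescale_one_add_X_pow (m : ℕ) :
    rescale (-1 : ℤ) ((1 + X : PowerSeries ℤ) ^ m) = (1 - X) ^ m := by
  rw [map_pow, map_add, map_one, rescale_X, map_neg, map_one, neg_one_mul, sub_eq_add_neg]

/-- `ε(σ_t(e)) = (1 - t)^{-(r+1)}` -/
theorem map_aug_sigmaSeries (hK : HasSplitting K P) (e : K) (r : ℕ) (hr : P.aug e = r + 1) :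
    PowerSeries.map P.aug (KRR.sigmaSeries e) = (mk 1 : PowerSeries ℤ) ^ (r + 1) := by
  have h1 : rescale (-1 : K) (lamSeries e) * KRR.sigmaSeries e = 1 :=
    mul_invOfUnit _ 1 (by
      rw [← coeff_zero_eq_constantCoeff_apply, coeff_rescale, pow_zero, one_mul,
        coeff_zero_eq_constantCoeff_apply, LamBasic.constantCoeff_lamSeries, Units.val_one])
  have h2 := congrArg (PowerSeries.map P.aug) h1
  rw [map_mul, map_rescale_neg_one, map_aug_lamSeries hK, hr, map_one] at h2
  have h3 : binomialSeries ℤ ((r : ℤ) + 1) = (1 + X : PowerSeries ℤ) ^ (r + 1) := by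
    have := binomialSeries_nat (R := ℤ) (A := ℤ) (r + 1)
    rwa [Nat.cast_succ] at this
  rw [h3, rescale_one_add_X_pow] at h2
  have h4 : (mk 1 : PowerSeries ℤ) ^ (r + 1) * (1 - X) ^ (r + 1) = 1 := by
    rw [← mul_pow, mk_one_mul_one_sub_eq_one, one_pow]
  have hu : IsUnit ((1 - X : PowerSeries ℤ) ^ (r + 1)) := IsUnit.of_mul_eq_one _ (by rw [mul_comm]; exact h4)
  rw [mul_comm] at h2
  exact hu.mul_left_inj.mp (h2.trans h4.symm)

/-- **S8126** -/
theorem aug_sigma (hK : HasSplitting K P) (e : K) (r : ℕ) (hr : P.aug e = r + 1) (j : ℕ) :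
    P.aug (KRR.sigma j e) = ((r + j).choose j : ℤ) := by
  have h := congrArg (coeff j) (map_aug_sigmaSeries hK e r hr)
  rw [coeff_map, mk_one_pow_eq_mk_choose_add, coeff_mk] at h
  rw [KRR.sigma, h, Nat.choose_symm_add]

theorem choose_identity (r : ℕ) :
    ∑ i ∈ Finset.range (r + 1), ((-1 : ℤ) ^ (r - i) * (r.choose i : ℤ)) * ((r + i).choose i : ℤ) = 1 := by
  have h1 : ((1 + Polynomial.X : Polynomial ℤ) ^ r * Polynomial.X ^ r).coeff r = 1 := by
    rw [Polynomial.coeff_mul_X_pow', if_pos le_rfl, Nat.sub_self, Polynomial.coeff_one_add_X_pow,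
      Nat.choose_zero_right, Nat.cast_one]
  have h2 : ((1 + Polynomial.X : Polynomial ℤ) ^ r * Polynomial.X ^ r) =
      ∑ i ∈ Finset.range (r + 1), Polynomial.C ((-1 : ℤ) ^ (r - i) * (r.choose i : ℤ)) *
        (1 + Polynomial.X) ^ (r + i) := by
    have hX : (Polynomial.X : Polynomial ℤ) ^ r =
        ∑ i ∈ Finset.range (r + 1), (1 + Polynomial.X) ^ i * (-1) ^ (r - i) * (r.choose i : Polynomial ℤ) := by
      rw [← add_pow]
      congr 1
      ring
    rw [hX, Finset.mul_sum]
    apply Finset.sum_congr rfl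
    intro i _
    rw [pow_add, map_mul, map_pow, map_neg, map_one, Polynomial.C_eq_natCast]
    ring
  rw [h2, Polynomial.finsetSum_coeff] at h1
  refine Eq.trans ?_ h1
  apply Finset.sum_congr rfl
  intro i _
  rw [Polynomial.coeff_C_mul, Polynomial.coeff_one_add_X_pow, Nat.choose_symm_add]

/-- **S8144** -/
theorem aug_functional (hK : HasSplitting K P) (e : K) (r : ℕ) (hr : P.aug e = r + 1)
    (f : AdjoinRoot (KRR.extPoly P e) →ₗ[K] K)
    (hf : ∀ i : ℕ, i ≤ r → f (AdjoinRoot.root (KRR.extPoly P e) ^ i) = KRR.sigma i e) :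
    P.aug (f ((AdjoinRoot.root (KRR.extPoly P e) - 1) ^ r)) = 1 := by
  have h1 : (AdjoinRoot.root (KRR.extPoly P e) - 1) ^ r =
      ∑ i ∈ Finset.range (r + 1), ((-1 : K) ^ (r - i) * (r.choose i : K)) •
        AdjoinRoot.root (KRR.extPoly P e) ^ i := by
    rw [sub_eq_add_neg, add_pow]
    apply Finset.sum_congr rfl
    intro i _
    rw [Algebra.smul_def, map_mul, map_pow, map_neg, map_one, map_natCast]
    ring
  rw [h1, map_sum, map_sum, ← choose_identity r]
  apply Finset.sum_congr rfl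
  intro i hi
  rw [Finset.mem_range] at hi
  rw [map_smul, hf i (by omega), smul_eq_mul, map_mul, map_mul, map_pow, map_neg, map_one,
    map_natCast, aug_sigma hK e r hr]

end Groth.Agent.Lib.Helper24.PosSigma
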