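import Groth.Agent.Lib.Helper24.PosFil
import Groth.Agent.Lib.Helper24.LamPrim
import Groth.Agent.Lib.Helper3.LambdaAdams

/-!
# λ-rings with positive structure and the splitting property are special (helper24)

The test ring `ℤ[T_u : u a line element of L]` maps to `L` by a λ-homomorphism; identities of the
test ring (which is special) therefore hold for differences of sums of line elements, and, by the
splitting property, in `K`.
-/

set_option autoImplicit false
set_option linter.unusedSectionVars false
set_option maxHeartbeats 400000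
universe u v

namespace Groth.Agent.Lib.Helper24.PosSpecial

open LambdaRing MvPolynomial Groth.Agent.Lib.Helper20 Groth.Agent.Lib.Helper24.LamTest
  Groth.Agent.Lib.Helper24.PosGam Groth.Agent.Lib.Helper24.PosFil
  Groth.Agent.Lib.Helper3.LambdaAdams Groth.Agent.Lib.Helper6.LambdaBasic

section LamHomSet

variable {A : Type u} {B : Type v} [CommRing A] [CommRing B] [LambdaOps A] [LambdaOps B]

theorem isUnit_lamSeries (b : B) : IsUnit (lamSeries b) := by
  rw [PowerSeries.isUnit_iff_constantCoeff, LamBasic.constantCoeff_lamSeries]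
  exact isUnit_one

/-- the elements on which a ring homomorphism commutes with `λ_t` -/
def lamHomSet (φ : A →+* B) : AddSubgroup A where
  carrier := {a | PowerSeries.map φ (lamSeries a) = lamSeries (φ a)}
  zero_mem' := by
    show PowerSeries.map φ (lamSeries 0) = lamSeries (φ 0)
    rw [map_zero, LamBasic.lamSeries_zero, LamBasic.lamSeries_zero, map_one]
  add_mem' := by
    intro a b ha hb
    show PowerSeries.map φ (lamSeries (a + b)) = lamSeries (φ (a + b))
    rw [map_add, LamBasic.lamSeries_add, LamBasic.lamSeries_add, map_mul, ha, hb]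
  neg_mem' := by
    intro a ha
    show PowerSeries.map φ (lamSeries (-a)) = lamSeries (φ (-a))
    have h1 : PowerSeries.map φ (lamSeries (-a)) * lamSeries (φ a) = 1 := by
      rw [← ha, ← map_mul, ← LamBasic.lamSeries_add, neg_add_cancel, LamBasic.lamSeries_zero, map_one]
    have h2 : lamSeries (φ (-a)) * lamSeries (φ a) = 1 := by
      rw [← LamBasic.lamSeries_add, ← map_add, neg_add_cancel, map_zero, LamBasic.lamSeries_zero]
    exact (isUnit_lamSeries (φ a)).mul_left_inj.mp (h1.trans h2.symm)

theorem mem_lamHomSet {φ : A →+* B} {a : A} :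
    a ∈ lamHomSet φ ↔ PowerSeries.map φ (lamSeries a) = lamSeries (φ a) := Iff.rfl

theorem map_lam_of_mem {φ : A →+* B} {a : A} (ha : a ∈ lamHomSet φ) (n : ℕ) :
    φ (LambdaOps.lam n a) = LambdaOps.lam n (φ a) := by
  have h := congrArg (PowerSeries.coeff n) (mem_lamHomSet.mp ha)
  rwa [PowerSeries.coeff_map, LamBasic.coeff_lamSeries, LamBasic.coeff_lamSeries] at h

end LamHomSet

section TestMap

variable {σ : Type v} {B : Type u} [CommRing B] [LambdaOps B]

/-- a ring homomorphism from the test ring carrying monomials to line elements is a λ-homomorphism -/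
theorem map_lam_test (φ : MvPolynomial σ ℤ →+* B) (hφ : ∀ m : σ →₀ ℕ, IsLineElt (φ (mon σ m)))
    (n : ℕ) (f : MvPolynomial σ ℤ) : φ (LambdaOps.lam n f) = LambdaOps.lam n (φ f) := by
  apply map_lam_of_mem
  induction f using MvPolynomial.induction_on' with
  | monomial m c =>
    have h : monomial m c = c • mon σ m := by
      rw [mon, MvPolynomial.smul_monomial, smul_eq_mul, mul_one]
    rw [h]
    apply AddSubgroup.zsmul_mem
    rw [mem_lamHomSet, lamSeries_mon, hφ m, map_add, map_one, map_mul, PowerSeries.map_C,
      PowerSeries.map_X]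
  | add p q hp hq => exact add_mem hp hq

end TestMap

section Lines

variable {L : Type u} [CommRing L] [LambdaOps L] (P : PosStructure L)

/-- the type of line elements -/
def Lines : Type u := {w : L // P.IsLine w}

theorem isLineElt_of_isLine {w : L} (hw : P.IsLine w) : IsLineElt w := lamSeries_line P hw

/-- the canonical map from the test ring on the line elements -/
noncomputable def phiL : MvPolynomial (Lines P) ℤ →+* L :=
  (aeval (fun w : Lines P => (w.1 : L)) : MvPolynomial (Lines P) ℤ →ₐ[ℤ] L).toRingHom

theorem phiL_X (w : Lines P) : phiL P (X w) = w.1 := by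
  show aeval (fun w : Lines P => (w.1 : L)) (X w) = w.1
  rw [aeval_X]

theorem isLine_phiL_mon (m : Lines P →₀ ℕ) : P.IsLine (phiL P (mon (Lines P) m)) := by
  show P.IsLine (aeval (fun w : Lines P => (w.1 : L)) (monomial m (1 : ℤ)))
  rw [aeval_monomial, map_one, one_mul]
  induction m using Finsupp.induction_linear with
  | zero =>
    rw [Finsupp.prod_zero_index]
    exact one_isLine P
  | add d1 d2 h1 h2 =>
    rw [Finsupp.prod_add_index' (fun _ => pow_zero _) (fun _ _ _ => pow_add _ _ _)]
    exact isLine_mul P h1 h2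
  | single i k =>
    rw [Finsupp.prod_single_index (h := fun (w : Lines P) k => (w.1 : L) ^ k) (pow_zero _)]
    exact isLine_pow P i.2 k

/-- `φ_L` is a λ-homomorphism -/
theorem phiL_lam (n : ℕ) (f : MvPolynomial (Lines P) ℤ) :
    phiL P (LambdaOps.lam n f) = LambdaOps.lam n (phiL P f) :=
  map_lam_test (phiL P) (fun m => isLineElt_of_isLine P (isLine_phiL_mon P m)) n f

/-- the element of the test ring attached to a multiset of line elements -/
noncomputable def XS (s : Multiset L) (hs : ∀ w ∈ s, P.IsLine w) : MvPolynomial (Lines P) ℤ :=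
  (s.pmap (fun w hw => (X (⟨w, hw⟩ : Lines P) : MvPolynomial (Lines P) ℤ)) hs).sum

theorem phiL_XS (s : Multiset L) (hs : ∀ w ∈ s, P.IsLine w) : phiL P (XS P s hs) = s.sum := by
  rw [XS, map_multiset_sum, Multiset.map_pmap]
  have h : Multiset.pmap (fun w hw => phiL P (X (⟨w, hw⟩ : Lines P))) s hs =
      Multiset.pmap (fun w _ => w) s hs := by
    apply Multiset.pmap_congr
    intro w _ hw _
    exact phiL_X P ⟨w, hw⟩
  rw [h, Multiset.pmap_eq_map, Multiset.map_id']

end Lines

section MapAeval

/-- ring homomorphisms commute with `aeval` of integer polynomials -/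
theorem map_aeval_int {S : Type u} {B : Type v} [CommRing S] [CommRing B] {τ : Type*}
    (φ : S →+* B) (g : τ → S) (q : MvPolynomial τ ℤ) :
    φ (aeval g q) = aeval (fun i => φ (g i)) q := by
  induction q using MvPolynomial.induction_on with
  | C a => rw [aeval_C, aeval_C, eq_intCast, eq_intCast, map_intCast]
  | add p q hp hq => rw [map_add, map_add, map_add, hp, hq]
  | mul_X p i hp => rw [map_mul, map_mul, map_mul, hp, aeval_X, aeval_X]

end MapAeval

section SplitList

theorem isExtension_id {K : Type u} [CommRing K] [LambdaOps K] (P : PosStructure K) :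
    IsExtension P P (RingHom.id K) where
  isLambdaHom _ _ := rfl
  injective := Function.injective_id
  aug_comp _ := rfl
  pos_subset _ he := he

/-- joint splitting of finitely many positive elements -/
theorem exists_split_list : ∀ (n : ℕ) (K : Type u) [CommRing K] [LambdaOps K] (P : PosStructure K)
    (_ : HasSplitting K P) (es : List K), es.length = n → (∀ e ∈ es, e ∈ P.pos) →
    ∃ (L : PosLambdaRing.{u}) (f : K →+* L.carrier), IsExtension P L.posStr f ∧
      ∀ e ∈ es, ∃ s : Multiset L.carrier, (∀ w ∈ s, L.posStr.IsLine w) ∧ s.sum = f e := by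
  intro n
  induction n with
  | zero =>
    intro K _ _ P _ es hlen _
    refine ⟨⟨K, P⟩, RingHom.id K, isExtension_id P, ?_⟩
    intro e he
    rw [List.length_eq_zero_iff.mp hlen] at he
    simp at he
  | succ n ih =>
    intro K _ _ P hK es hlen hes
    obtain ⟨e0, es', rfl⟩ : ∃ e0 es', es = e0 :: es' := by
      cases es with
      | nil => simp at hlen
      | cons a l => exact ⟨a, l, rfl⟩
    obtain ⟨L1, f1, hf1, hL1, s1, hs1, hsum1⟩ := exists_split hK e0 (hes e0 List.mem_cons_self)
    obtain ⟨L2, f2, hf2, hall⟩ := ih L1.carrier L1.posStr hL1 (es'.map f1)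
      (by simpa using hlen)
      (by
        intro e he
        obtain ⟨e', he', rfl⟩ := List.mem_map.mp he
        exact hf1.pos_subset e' (hes e' (List.mem_cons_of_mem _ he')))
    refine ⟨L2, f2.comp f1, isExtension_comp hf1 hf2, ?_⟩
    intro e he
    rcases List.mem_cons.mp he with rfl | he'
    · refine ⟨s1.map f2, ?_, ?_⟩
      · intro w hw
        obtain ⟨v, hv, rfl⟩ := Multiset.mem_map.mp hw
        exact isLine_map hf2 (hs1 v hv)
      · rw [← map_multiset_sum, hsum1, RingHom.comp_apply]
    · exact hall (f1 e) (List.mem_map.mpr ⟨e, he', rfl⟩)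

end SplitList

section Special

variable {K : Type u} [CommRing K] [LambdaOps K] {P : PosStructure K}

/-- a difference of two positive elements comes from the test ring of a splitting extension -/
theorem exists_test_lift₂ (hK : HasSplitting K P) (x y : K) :
    ∃ (L : PosLambdaRing.{u}) (f : K →+* L.carrier), IsExtension P L.posStr f ∧
      ∃ xT yT : MvPolynomial (Lines L.posStr) ℤ, phiL L.posStr xT = f x ∧ phiL L.posStr yT = f y := by
  obtain ⟨e1, e2, he1, he2, rfl⟩ := P.exists_sub x
  obtain ⟨e3, e4, he3, he4, rfl⟩ := P.exists_sub y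
  obtain ⟨L, f, hf, hall⟩ := exists_split_list 4 K P hK [e1, e2, e3, e4] rfl (by
    intro e he
    simp only [List.mem_cons, List.not_mem_nil, or_false] at he
    rcases he with rfl | rfl | rfl | rfl <;> assumption)
  obtain ⟨s1, hs1, hsum1⟩ := hall e1 (by simp)
  obtain ⟨s2, hs2, hsum2⟩ := hall e2 (by simp)
  obtain ⟨s3, hs3, hsum3⟩ := hall e3 (by simp)
  obtain ⟨s4, hs4, hsum4⟩ := hall e4 (by simp)
  refine ⟨L, f, hf, XS L.posStr s1 hs1 - XS L.posStr s2 hs2, XS L.posStr s3 hs3 - XS L.posStr s4 hs4, ?_, ?_⟩
  · rw [map_sub, map_sub, phiL_XS, phiL_XS, hsum1, hsum2]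
  · rw [map_sub, map_sub, phiL_XS, phiL_XS, hsum3, hsum4]

/-- **λ-rings with positive structure and splitting are special** -/
theorem isSpecial_of_hasSplitting (hK : HasSplitting K P) : IsSpecial K where
  lam_one_eq_zero := PosGam.lam_one_eq_zero P
  lam_mul := by
    intro n Pn hPn x y
    obtain ⟨L, f, hf, xT, yT, hx, hy⟩ := exists_test_lift₂ hK x y
    apply hf.injective
    have hT := (isSpecial_test (σ := Lines L.posStr)).lam_mul n Pn hPn xT yT
    have h1 := congrArg (phiL L.posStr) hT
    rw [phiL_lam, map_mul, hx, hy, map_aeval_int] at h1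
    rw [hf.isLambdaHom, map_mul, h1, map_aeval_int]
    congr 2
    funext i
    rcases i with k | k
    · simp only [Sum.elim_inl]
      rw [phiL_lam, hx, hf.isLambdaHom]
    · simp only [Sum.elim_inr]
      rw [phiL_lam, hy, hf.isLambdaHom]
  lam_lam := by
    intro i j Q hQ x
    obtain ⟨L, f, hf, xT, yT, hx, hy⟩ := exists_test_lift₂ hK x x
    apply hf.injective
    have hT := (isSpecial_test (σ := Lines L.posStr)).lam_lam i j Q hQ xT
    have h1 := congrArg (phiL L.posStr) hT
    rw [phiL_lam, phiL_lam, hx, map_aeval_int] at h1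
    rw [hf.isLambdaHom, hf.isLambdaHom, h1, map_aeval_int]
    congr 2
    funext k
    rw [phiL_lam, hx, hf.isLambdaHom]

end Special

section Bridge

open PowerSeries

variable {K : Type u} [CommRing K] [LambdaOps K]

theorem derivative_rescale (a : K) (F : PowerSeries K) :
    derivative K (rescale a F) = PowerSeries.C a * rescale a (derivative K F) := by
  ext n
  rw [coeff_derivative, coeff_rescale, PowerSeries.coeff_C_mul, coeff_rescale, coeff_derivative, pow_succ]
  ring

theorem invOfUnit_rescale (a : K) (F : PowerSeries K) (hF : constantCoeff F = 1) :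
    (rescale a F).invOfUnit 1 = rescale a (F.invOfUnit 1) := by
  apply invOfUnit_one_eq
  · rw [← coeff_zero_eq_constantCoeff_apply, coeff_rescale, pow_zero, one_mul,
      coeff_zero_eq_constantCoeff_apply, hF]
  · rw [← map_mul, mul_invOfUnit F 1 (by rw [hF, Units.val_one]), map_one]

/-- the Adams operations of a positive structure are those of the underlying pre-λ-ring -/
theorem adams_eq_adamsOp (P : PosStructure K) (k : ℕ) (x : K) :
    adams P (k + 1) x = adamsOp (k + 1) x := by
  unfold adams adamsSeries
  rw [LamBasic.adamsOp_succ, logDerivSeries, derivative_rescale,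
    invOfUnit_rescale _ _ (LamBasic.constantCoeff_lamSeries x), map_sub, PowerSeries.coeff_C,
    if_neg (Nat.succ_ne_zero k), zero_sub, mul_assoc, coeff_succ_X_mul, mul_assoc, PowerSeries.coeff_C_mul,
    ← map_mul, coeff_rescale]
  ring

end Bridge

section Binom

open PowerSeries

variable {S : Type u} [CommRing S]

theorem isUnit_binomialSeries (k : ℤ) : IsUnit (binomialSeries S k) := by
  rw [PowerSeries.isUnit_iff_constantCoeff, binomialSeries_constantCoeff]
  exact isUnit_one

/-- a multiplicative family of power series with `F 1 = 1 + X` is the binomial series on integers -/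
theorem eq_binomialSeries {M : Type*} [AddCommGroup M] (F : M → PowerSeries S)
    (hadd : ∀ a b, F (a + b) = F a * F b) (m1 : M) (h1 : F m1 = 1 + PowerSeries.X) (k : ℤ) :
    F (k • m1) = binomialSeries S k := by
  have h0 : F 0 = 1 := by
    have h := hadd 0 m1
    rw [zero_add] at h
    have hu : IsUnit (F m1) := by
      rw [h1, PowerSeries.isUnit_iff_constantCoeff, map_add, map_one, PowerSeries.constantCoeff_X, add_zero]
      exact isUnit_one
    have h' : 1 * F m1 = F 0 * F m1 := by rw [one_mul]; exact h
    exact (hu.mul_left_inj.mp h').symm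
  have hnat : ∀ n : ℕ, F ((n : ℤ) • m1) = binomialSeries S (n : ℤ) := by
    intro n
    induction n with
    | zero => rw [Nat.cast_zero, zero_smul, h0, binomialSeries_zero]
    | succ n ih =>
      rw [Nat.cast_succ, add_smul, one_smul, hadd, ih, h1, binomialSeries_add]
      congr 1
      have := binomialSeries_nat (R := ℤ) (A := S) 1
      rw [Nat.cast_one, pow_one] at this
      exact this.symm
  rcases Int.eq_nat_or_neg k with ⟨n, rfl | rfl⟩
  · exact hnat n
  · have h2 : F (-(n : ℤ) • m1) * F ((n : ℤ) • m1) = 1 := by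
      rw [← hadd, ← add_smul, neg_add_cancel, zero_smul, h0]
    have h3 : binomialSeries S (-(n : ℤ)) * binomialSeries S (n : ℤ) = 1 := by
      rw [← binomialSeries_add, neg_add_cancel, binomialSeries_zero]
    rw [hnat n] at h2
    exact (isUnit_binomialSeries (n : ℤ)).mul_left_inj.mp (h2.trans h3.symm)

end Binom

section Aug

open PowerSeries

variable {K : Type u} [CommRing K] [LambdaOps K] {P : PosStructure K}

/-- the binomial λ-structure on `ℤ` -/
@[reducible] noncomputable def intOps : LambdaOps ℤ := binomialLambdaOps ℤ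

theorem isBinomial_int : @IsBinomial ℤ _ intOps _ := fun _ _ => rfl

variable (P) in
/-- the augmentation as a `ℤ`-algebra homomorphism -/
def augAlg : K →ₐ[ℤ] ℤ := P.aug.toIntAlgHom

theorem augAlg_apply (x : K) : augAlg P x = P.aug x := rfl

theorem coe_augAlg : ((augAlg P : K →ₐ[ℤ] ℤ) : K →+* ℤ) = P.aug := rfl

theorem lamSeries_one (P : PosStructure K) : lamSeries (1 : K) = 1 + PowerSeries.X := by
  have h := (isLineElt_iff (1 : K)).mpr (PosGam.lam_one_eq_zero P)
  unfold IsLineElt at h
  rw [h, map_one, one_mul]

/-- `λ^n(k) = C(k, n)` for integers `k` -/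
theorem lam_intCast (P : PosStructure K) (k : ℤ) (n : ℕ) :
    LambdaOps.lam n ((k : ℤ) : K) = ((Ring.choose k n : ℤ) : K) := by
  have h := eq_binomialSeries (S := K) (M := K) lamSeries LamBasic.lamSeries_add 1 (lamSeries_one P) k
  have h2 := congrArg (PowerSeries.coeff n) h
  rw [LamBasic.coeff_lamSeries, binomialSeries_coeff, zsmul_one, zsmul_one] at h2
  exact h2

theorem map_aug_lamSeries_pos (hK : HasSplitting K P) (e : K) (he : e ∈ P.pos) :
    PowerSeries.map P.aug (lamSeries e) = binomialSeries ℤ (P.aug e) := by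
  obtain ⟨L, f, hf, -, s, hs, hsum⟩ := exists_split hK e he
  have haug : P.aug e = (Multiset.card s : ℤ) := by
    rw [← hf.aug_comp, ← hsum, aug_sum_lines L.posStr s hs]
  have h1 : PowerSeries.map P.aug (lamSeries e) = PowerSeries.map L.posStr.aug (lamSeries (f e)) := by
    ext i
    rw [PowerSeries.coeff_map, PowerSeries.coeff_map, LamBasic.coeff_lamSeries,
      LamBasic.coeff_lamSeries, ← hf.isLambdaHom, hf.aug_comp]
  rw [h1, ← hsum, lamSeries_sum_lines L.posStr s hs, map_multiset_prod, Multiset.map_map, haug,
    binomialSeries_nat]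
  have hcongr : Multiset.map ((PowerSeries.map L.posStr.aug) ∘
      fun w => (1 + PowerSeries.C w * PowerSeries.X : PowerSeries L.carrier)) s =
      Multiset.map (fun _ => (1 + PowerSeries.X : PowerSeries ℤ)) s := by
    apply Multiset.map_congr rfl
    intro w hw
    simp only [Function.comp_apply]
    rw [map_add, map_one, map_mul, PowerSeries.map_C, PowerSeries.map_X, (hs w hw).2, map_one, one_mul]
  rw [hcongr, Multiset.map_const', Multiset.prod_replicate]

theorem map_aug_lamSeries (hK : HasSplitting K P) (a : K) :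
    PowerSeries.map P.aug (lamSeries a) = binomialSeries ℤ (P.aug a) := by
  obtain ⟨e, e', he, he', rfl⟩ := P.exists_sub a
  have h1 : PowerSeries.map P.aug (lamSeries (e - e')) * binomialSeries ℤ (P.aug e') =
      binomialSeries ℤ (P.aug (e - e')) * binomialSeries ℤ (P.aug e') := by
    rw [← map_aug_lamSeries_pos hK e' he', ← map_mul, ← LamBasic.lamSeries_add, sub_add_cancel,
      map_aug_lamSeries_pos hK e he, map_aug_lamSeries_pos hK e' he', ← binomialSeries_add,
      ← map_add, sub_add_cancel]
  exact (isUnit_binomialSeries (P.aug e')).mul_left_inj.mp h1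

theorem aug_lam (hK : HasSplitting K P) (n : ℕ) (a : K) :
    P.aug (LambdaOps.lam n a) = Ring.choose (P.aug a) n := by
  have h := congrArg (PowerSeries.coeff n) (map_aug_lamSeries hK a)
  rw [PowerSeries.coeff_map, LamBasic.coeff_lamSeries, binomialSeries_coeff, smul_eq_mul, mul_one] at h
  exact h

theorem isAugLambdaAlg (hK : HasSplitting K P) : @IsAugLambdaAlg ℤ K _ intOps _ _ _ (augAlg P) :=
  @IsAugLambdaAlg.mk ℤ K _ intOps _ _ _ (augAlg P)
    (by
      intro n k
      rw [eq_intCast, eq_intCast]
      exact (lam_intCast P k n).symm)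
    (by
      intro n a
      exact aug_lam hK n a)

end Aug

section Main

open Groth.Agent.Lib.Helper24.LamFil Groth.Agent.Lib.Helper24.LamPrim Groth.Agent.Lib.Helper24.LamExpr

variable {K : Type u} [CommRing K] [LambdaOps K] {P : PosStructure K}

/-- **S3292**: `ψ^j(x) - j^n x ∈ F^{n+1}` for `x ∈ F^n` -/
theorem adams_sub_pow_mem (hK : HasSplitting K P) (j : ℕ) (hj : 1 ≤ j) (n : ℕ) (x : K)
    (hx : x ∈ gammaFiltration P n) :
    adams P j x - (j : K) ^ n * x ∈ gammaFiltration P (n + 1) := by
  letI : LambdaOps ℤ := intOps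
  obtain ⟨k, rfl⟩ : ∃ k, j = k + 1 := ⟨j - 1, by omega⟩
  rw [adams_eq_adamsOp, ← mem_gammaFil_iff]
  have hA := isSpecial_of_hasSplitting hK
  have hε := isAugLambdaAlg hK
  have hx' : x ∈ gammaFil ((augAlg P : K →ₐ[ℤ] ℤ) : K →+* ℤ) n := (mem_gammaFil_iff P).mpr hx
  rcases Nat.eq_zero_or_pos n with h0 | hn
  · rw [h0]
    exact (psiPrim_zero ℤ isBinomial_int K (augAlg P) hε x).2 k
  · have hprim := prim_of_mem ℤ isBinomial_int K hA (augAlg P) hε UnivPolys.default n hn x hx'
    have hpsi := psiPrim_of_prim (gammaMulFil ((augAlg P : K →ₐ[ℤ] ℤ) : K →+* ℤ))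
      (lam_mem_gammaFil _ UnivPolys.default hA) hn hprim
    exact hpsi.2 k

end Main

end Groth.Agent.Lib.Helper24.PosSpecial
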