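import Mathlib
import Groth.Agent.Lib.Helper24.FlatFP
import Groth.Agent.Lib.Helper27.ValFP
import Groth.Agent.Lib.Helper14.FlatOpen.Open

/-!
# Finitely presented algebras over Prüfer domains are coherent (helper24)
-/

set_option autoImplicit false
set_option maxHeartbeats 400000
set_option linter.style.haveILetI false
universe u

open TensorProduct

namespace Groth.Agent.Lib.Helper24.PruferCoh

/-- descent of finite presentation of a module along a surjective ring map. -/
theorem finitePresentation_of_surjective_algebraMap {P A N : Type u} [CommRing P] [CommRing A]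
    [Algebra P A] (hsurj : Function.Surjective (algebraMap P A)) [AddCommGroup N] [Module A N]
    [Module P N] [IsScalarTower P A N] [Module.FinitePresentation P N] :
    Module.FinitePresentation A N := by
  refine FinitePresentation.of_isBaseChange (LinearMap.id : N →ₗ[P] N) ?_
  refine IsBaseChange.of_lift_unique _ ?_
  intro Q _ _ _ _ g
  refine ⟨{ toFun := g, map_add' := g.map_add, map_smul' := ?_ }, ?_, ?_⟩
  · intro a x
    obtain ⟨p, rfl⟩ := hsurj a
    simp only [RingHom.id_apply, algebraMap_smul, map_smul]
  · ext x
    rfl
  · intro g'' hg''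
    ext x
    have := LinearMap.congr_fun hg'' x
    exact this

/-- localizing a finite flat module over a finite type algebra over a Prüfer domain at a prime of
the base gives a finitely presented module. -/
theorem fp_localized {R P : Type u} [CommRing R] [IsDomain R] [CommRing P] [Algebra R P]
    [Algebra.FiniteType R P]
    (hR : ∀ (p : Ideal R) [p.IsPrime], ValuationRing (Localization.AtPrime p))
    (p : Ideal R) [p.IsPrime] (M : Type u) [AddCommGroup M] [Module P M] [Module R M]
    [IsScalarTower R P M] [Module.Finite P M] [Module.Flat R M] :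
    Module.FinitePresentation (Localization (Algebra.algebraMapSubmonoid P p.primeCompl))
      (LocalizedModule (Algebra.algebraMapSubmonoid P p.primeCompl) M) := by
  haveI : IsDomain (Localization.AtPrime p) :=
    IsLocalization.isDomain_localization (Ideal.primeCompl_le_nonZeroDivisors p)
  haveI : ValuationRing (Localization.AtPrime p) := hR p
  haveI : Algebra.EssFiniteType R (Localization (Algebra.algebraMapSubmonoid P p.primeCompl)) :=
    inferInstance
  haveI : Algebra.EssFiniteType (Localization.AtPrime p)
      (Localization (Algebra.algebraMapSubmonoid P p.primeCompl)) :=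
    Algebra.EssFiniteType.of_comp R (Localization.AtPrime p) _
  letI mRp : Module (Localization.AtPrime p)
      (LocalizedModule (Algebra.algebraMapSubmonoid P p.primeCompl) M) :=
    Module.compHom _ (algebraMap (Localization.AtPrime p)
      (Localization (Algebra.algebraMapSubmonoid P p.primeCompl)))
  haveI t1 : IsScalarTower (Localization.AtPrime p)
      (Localization (Algebra.algebraMapSubmonoid P p.primeCompl))
      (LocalizedModule (Algebra.algebraMapSubmonoid P p.primeCompl) M) := ⟨fun a b x => by
    show (a • b) • x = algebraMap (Localization.AtPrime p)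
        (Localization (Algebra.algebraMapSubmonoid P p.primeCompl)) a • (b • x)
    rw [Algebra.smul_def, mul_smul]⟩
  haveI t2 : IsScalarTower R (Localization.AtPrime p)
      (LocalizedModule (Algebra.algebraMapSubmonoid P p.primeCompl) M) := ⟨fun r a x => by
    show algebraMap (Localization.AtPrime p)
        (Localization (Algebra.algebraMapSubmonoid P p.primeCompl)) (r • a) • x =
      r • (algebraMap (Localization.AtPrime p)
        (Localization (Algebra.algebraMapSubmonoid P p.primeCompl)) a • x)
    rw [Algebra.smul_def, map_mul, ← IsScalarTower.algebraMap_apply R (Localization.AtPrime p)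
      (Localization (Algebra.algebraMapSubmonoid P p.primeCompl)), mul_smul, algebraMap_smul]⟩
  haveI hflatR : Module.Flat R
      (LocalizedModule (Algebra.algebraMapSubmonoid P p.primeCompl) M) :=
    Groth.Agent.Lib.Helper14.FlatOpen.flat_of_isLocalizedModule (A := R)
      (Algebra.algebraMapSubmonoid P p.primeCompl)
      (LocalizedModule.mkLinearMap _ M) inferInstance
  haveI hflat : Module.Flat (Localization.AtPrime p)
      (LocalizedModule (Algebra.algebraMapSubmonoid P p.primeCompl) M) :=
    (Module.flat_iff_of_isLocalization (Localization.AtPrime p) p.primeCompl _).2 hflatR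
  exact Groth.Agent.Lib.Helper27.ValFP.finitePresentation_of_flat (Localization.AtPrime p)
    (Localization (Algebra.algebraMapSubmonoid P p.primeCompl))
    (LocalizedModule (Algebra.algebraMapSubmonoid P p.primeCompl) M)

set_option maxHeartbeats 1600000 in
theorem fp_ideal_of_quotient {R P A : Type u} [CommRing R] [IsDomain R] [CommRing P] [Algebra R P]
    [Algebra.FinitePresentation R P] [CommRing A] [Algebra P A]
    (hR : ∀ (p : Ideal R) [p.IsPrime], ValuationRing (Localization.AtPrime p))
    (htf : ∀ (r : R) (x : P), r ≠ 0 → r • x = 0 → x = 0)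
    (hsurj : Function.Surjective (algebraMap P A))
    (hker : (RingHom.ker (algebraMap P A)).FG)
    (I : Ideal A) (hI : I.FG) : Module.FinitePresentation A I := by
  classical
  obtain ⟨I', hI'⟩ : ∃ I' : Ideal P, I' = I.comap (algebraMap P A) := ⟨_, rfl⟩
  have hkerle : RingHom.ker (algebraMap P A) ≤ I' := by
    rw [hI', RingHom.ker_eq_comap_bot]
    exact Ideal.comap_mono bot_le
  have hmap : Submodule.map (Algebra.linearMap P A) I' = I.restrictScalars P := by
    ext y
    constructor
    · rintro ⟨x, hx, rfl⟩
      rw [hI'] at hx
      exact hx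
    · intro hy
      obtain ⟨x, rfl⟩ := hsurj y
      exact ⟨x, by rw [hI']; exact hy, rfl⟩
  have hkerlin : LinearMap.ker (Algebra.linearMap P A) = RingHom.ker (algebraMap P A) := by
    ext x
    rw [LinearMap.mem_ker, RingHom.mem_ker, Algebra.linearMap_apply]
  have hI'fg : I'.FG := by
    refine Submodule.fg_of_fg_map_of_fg_inf_ker (Algebra.linearMap P A) ?_ ?_
    · rw [hmap]
      exact Submodule.FG.restrictScalars_of_surjective hI hsurj
    · rw [hkerlin, inf_eq_right.2 hkerle]
      exact hker
  haveI : Module.Finite P I' := Module.Finite.iff_fg.2 hI'fg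
  haveI : Module.Flat R I' := by
    rw [Module.Flat.flat_iff_torsion_eq_bot_of_valuationRing_localization_isMaximal
      (fun p hp => by haveI := hp.isPrime; exact hR p), eq_bot_iff]
    rintro x hx
    obtain ⟨a, ha⟩ := (Submodule.mem_torsion_iff x).1 hx
    rw [Submodule.mem_bot]
    have h1 : (a : R) • (x : P) = 0 := by
      have h2 : ((a : R) • x : ↥I') = 0 := ha
      have h3 := congrArg Subtype.val h2
      simpa using h3
    exact Subtype.ext (htf a x (nonZeroDivisors.ne_zero a.2) h1)
  haveI hfpI' : Module.FinitePresentation P I' := by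
    refine FlatFP.finitePresentation_of_flat (R := R) (P := P) (M := ↥I')
      {⟨⊥, Ideal.isPrime_bot⟩} ?_ ?_
    · intro r r' h
      have h1 := congrFun h ⟨⟨⊥, Ideal.isPrime_bot⟩, Finset.mem_singleton_self _⟩
      exact IsLocalization.injective (Localization.AtPrime (⊥ : Ideal R))
        (Ideal.primeCompl_le_nonZeroDivisors (⊥ : Ideal R)) h1
    · intro p hp
      exact fp_localized hR p ↥I'
  let l : ↥I' →ₗ[P] ↥(I.restrictScalars P) :=
    (Algebra.linearMap P A).restrict (p := I') (q := I.restrictScalars P)
      (fun x hx => by rw [hI'] at hx; exact hx)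
  have hl : Function.Surjective l := by
    rintro ⟨y, hy⟩
    obtain ⟨x, rfl⟩ := hsurj y
    exact ⟨⟨x, by rw [hI']; exact hy⟩, rfl⟩
  have hkerl : (LinearMap.ker l).FG := by
    apply Submodule.fg_of_fg_map_injective I'.subtype (Submodule.injective_subtype _)
    have h4 : Submodule.map I'.subtype (LinearMap.ker l) = RingHom.ker (algebraMap P A) := by
      ext x
      constructor
      · rintro ⟨⟨y, hy⟩, hyk, rfl⟩
        have h0 : l ⟨y, hy⟩ = 0 := hyk
        have h1 := congrArg Subtype.val h0
        exact h1
      · intro hx
        have hx0 : algebraMap P A x = 0 := RingHom.mem_ker.1 hx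
        have hx1 : l ⟨x, hkerle hx⟩ = 0 := Subtype.ext hx0
        exact ⟨⟨x, hkerle hx⟩, LinearMap.mem_ker.2 hx1, rfl⟩
    rw [h4]
    exact hker
  haveI h5 : Module.FinitePresentation P ↥(I.restrictScalars P) :=
    Module.finitePresentation_of_surjective l hl hkerl
  let e : ↥(I.restrictScalars P) ≃ₗ[P] ↥I :=
    { toFun := fun x => ⟨x.1, x.2⟩
      invFun := fun x => ⟨x.1, x.2⟩
      map_add' := fun _ _ => rfl
      map_smul' := fun _ _ => rfl
      left_inv := fun _ => rfl
      right_inv := fun _ => rfl }
  haveI h6 : Module.FinitePresentation P ↥I := Module.FinitePresentation.of_equiv e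
  exact finitePresentation_of_surjective_algebraMap (P := P) (A := A) (N := ↥I) hsurj

theorem fp_ideal_of_prufer (R : Type u) [CommRing R] [IsDomain R]
    (hR : ∀ (p : Ideal R) [p.IsPrime], ValuationRing (Localization.AtPrime p))
    (A : Type u) [CommRing A] [Algebra R A] [Algebra.FinitePresentation R A]
    (I : Ideal A) (hI : I.FG) : Module.FinitePresentation A I := by
  obtain ⟨n, φ, hφ, hker⟩ := Algebra.FinitePresentation.out (R := R) (A := A)
  letI : Algebra (MvPolynomial (Fin n) R) A := φ.toRingHom.toAlgebra
  exact fp_ideal_of_quotient (R := R) (P := MvPolynomial (Fin n) R) (A := A) hR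
    (fun r x hr hx => by
      rw [MvPolynomial.smul_eq_C_mul] at hx
      rcases mul_eq_zero.1 hx with h | h
      · have h' : (MvPolynomial.C r : MvPolynomial (Fin n) R) = MvPolynomial.C 0 := by
          rw [h, map_zero]
        exact absurd (MvPolynomial.C_injective _ _ h') hr
      · exact h)
    hφ hker I hI

end Groth.Agent.Lib.Helper24.PruferCoh
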