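import Mathlib
import Groth.Prelude.Def_FlatCA

/-!
# Content ideals of projective modules and fibrewise injectivity ⟹ universal injectivity
-/

set_option autoImplicit false
set_option maxHeartbeats 400000
set_option linter.style.haveILetI false
set_option linter.unusedSectionVars false
set_option linter.unusedVariables false

universe u

namespace Groth.Agent.Lib.Helper24.PureSpread

open TensorProduct

section General

variable {A : Type u} [CommRing A]

theorem map_mem_smul_top {P P₂ : Type u} [AddCommGroup P] [Module A P] [AddCommGroup P₂]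
    [Module A P₂] (f : P →ₗ[A] P₂) (J : Ideal A) {x : P}
    (hx : x ∈ J • (⊤ : Submodule A P)) : f x ∈ J • (⊤ : Submodule A P₂) := by
  refine Submodule.smul_induction_on hx ?_ ?_
  · intro r hr n _
    rw [map_smul]
    exact Submodule.smul_mem_smul hr Submodule.mem_top
  · intro a b ha hb
    rw [map_add]
    exact add_mem ha hb

theorem exists_content_of_projective {P : Type u} [AddCommGroup P] [Module A P]
    [Module.Projective A P] (x : P) :
    ∃ I : Ideal A, x ∈ I • (⊤ : Submodule A P) ∧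
      ∀ J : Ideal A, x ∈ J • (⊤ : Submodule A P) → I ≤ J := by
  obtain ⟨s, hs⟩ := Module.projective_def'.mp (inferInstance : Module.Projective A P)
  refine ⟨Ideal.span (Set.range (s x)), ?_, ?_⟩
  · have hx : Finsupp.linearCombination A id (s x) = x := LinearMap.congr_fun hs x
    have h1 : Finsupp.linearCombination A id (s x) ∈
        Ideal.span (Set.range (s x)) • (⊤ : Submodule A P) := by
      rw [Finsupp.linearCombination_apply, Finsupp.sum]
      refine Submodule.sum_mem _ fun i _ => ?_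
      exact Submodule.smul_mem_smul (Ideal.subset_span ⟨i, rfl⟩) Submodule.mem_top
    rwa [hx] at h1
  · intro J hJ
    rw [Ideal.span_le]
    rintro _ ⟨i, rfl⟩
    have h1 := map_mem_smul_top ((Finsupp.lapply i) ∘ₗ s) J hJ
    rw [smul_eq_mul, Ideal.mul_top] at h1
    exact h1

theorem mem_smul_top_of_mk_one_tmul_eq_zero (m : Ideal A) {W : Type u} [AddCommGroup W]
    [Module A W] (w : W) (h : (Ideal.Quotient.mk m 1) ⊗ₜ[A] w = (0 : (A ⧸ m) ⊗[A] W)) :
    w ∈ m • (⊤ : Submodule A W) := by
  have h1 := congrArg (TensorProduct.quotTensorEquivQuotSMul W m) h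
  rw [TensorProduct.quotTensorEquivQuotSMul_mk_tmul, map_zero, one_smul,
    Submodule.Quotient.mk_eq_zero] at h1
  exact h1

theorem mem_smul_top_of_univInj {N' N : Type u} [AddCommGroup N'] [Module A N'] [AddCommGroup N]
    [Module A N] (g : N' →ₗ[A] N) (hg : FlatCA.UnivInj A g) (J : Ideal A) (x' : N')
    (h : g x' ∈ J • (⊤ : Submodule A N)) : x' ∈ J • (⊤ : Submodule A N') := by
  have hinj := hg (A ⧸ J)
  apply mem_smul_top_of_mk_one_tmul_eq_zero
  apply hinj
  rw [map_zero, LinearMap.lTensor_tmul]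
  apply (TensorProduct.quotTensorEquivQuotSMul N J).injective
  rw [TensorProduct.quotTensorEquivQuotSMul_mk_tmul, map_zero, one_smul,
    Submodule.Quotient.mk_eq_zero]
  exact h

/-- Nakayama: a finitely generated submodule with `W ≤ 𝔪 • W` for every maximal `𝔪` is zero. -/
theorem eq_bot_of_forall_maximal {Q : Type u} [AddCommGroup Q] [Module A Q] (W : Submodule A Q)
    (hfg : W.FG) (h : ∀ (m : Ideal A) [m.IsMaximal], W ≤ m • W) : W = ⊥ := by
  by_contra hne
  have hann : W.annihilator ≠ ⊤ := by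
    intro htop
    apply hne
    rw [Submodule.annihilator_eq_top_iff] at htop
    exact htop
  obtain ⟨m, hm, hle⟩ := Ideal.exists_le_maximal _ hann
  obtain ⟨r, hr1, hr0⟩ :=
    Submodule.exists_sub_one_mem_and_smul_eq_zero_of_fg_of_le_smul m W hfg (h m)
  have hrm : r ∈ m := hle (Submodule.mem_annihilator.mpr hr0)
  have h1 : (1 : A) ∈ m := by
    have h2 := m.sub_mem hrm hr1
    simpa using h2
  exact hm.ne_top ((Ideal.eq_top_iff_one m).mpr h1)

theorem lTensor_injective_of_residue (m : Ideal A) [m.IsMaximal] {P M : Type u} [AddCommGroup P]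
    [Module A P] [AddCommGroup M] [Module A M] (v : P →ₗ[A] M)
    (hv : Function.Injective (v.lTensor (A ⧸ m))) (V : Type u) [AddCommGroup V] [Module A V]
    [Module (A ⧸ m) V] [IsScalarTower A (A ⧸ m) V] : Function.Injective (v.lTensor V) := by
  letI := Ideal.Quotient.field m
  have hb : Function.Injective (v.baseChange (A ⧸ m)) := by
    rw [LinearMap.baseChange_eq_ltensor]; exact hv
  have h2 : Function.Injective ((v.baseChange (A ⧸ m)).lTensor V) :=
    Module.Flat.lTensor_preserves_injective_linearMap _ hb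
  have hcomm : ∀ z, (v.lTensor V)
      ((AlgebraTensorModule.cancelBaseChange A (A ⧸ m) (A ⧸ m) V P) z) =
      (AlgebraTensorModule.cancelBaseChange A (A ⧸ m) (A ⧸ m) V M)
        (((v.baseChange (A ⧸ m)).lTensor V) z) := by
    intro z
    induction z using TensorProduct.induction_on with
    | zero => simp
    | tmul x y =>
      induction y using TensorProduct.induction_on with
      | zero => simp
      | tmul a p => simp [AlgebraTensorModule.cancelBaseChange_tmul]
      | add y₁ y₂ h₁ h₂ => simp only [tmul_add, map_add, h₁, h₂]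
    | add z₁ z₂ h₁ h₂ => simp only [map_add, h₁, h₂]
  intro a b hab
  obtain ⟨a', rfl⟩ := (AlgebraTensorModule.cancelBaseChange A (A ⧸ m) (A ⧸ m) V P).surjective a
  obtain ⟨b', rfl⟩ := (AlgebraTensorModule.cancelBaseChange A (A ⧸ m) (A ⧸ m) V P).surjective b
  rw [hcomm, hcomm] at hab
  have h3 := h2 ((AlgebraTensorModule.cancelBaseChange A (A ⧸ m) (A ⧸ m) V M).injective hab)
  rw [h3]

end General

section Coord

variable {A : Type u} [CommRing A] {P : Type u} [AddCommGroup P] [Module A P]
  (s : P →ₗ[A] (P →₀ A))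

open scoped Classical in
/-- coordinates of an element of `Q ⊗ P` with respect to a splitting `s`. -/
noncomputable def Φ (Q : Type u) [AddCommGroup Q] [Module A Q] : Q ⊗[A] P →ₗ[A] (P →₀ Q) :=
  (TensorProduct.finsuppScalarRight A A Q P).toLinearMap ∘ₗ (s.lTensor Q)

open scoped Classical in
/-- reconstruction from coordinates. -/
noncomputable def Ψ (Q : Type u) [AddCommGroup Q] [Module A Q] : (P →₀ Q) →ₗ[A] Q ⊗[A] P :=
  ((Finsupp.linearCombination A (id : P → P)).lTensor Q) ∘ₗ
    (TensorProduct.finsuppScalarRight A A Q P).symm.toLinearMap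

variable {Q W : Type u} [AddCommGroup Q] [Module A Q] [AddCommGroup W] [Module A W]

theorem Φ_tmul_apply (q : Q) (p : P) (i : P) : Φ s Q (q ⊗ₜ p) i = (s p i) • q := by
  simp [Φ, TensorProduct.finsuppScalarRight_apply_tmul_apply]

theorem Φ_rTensor (j : W →ₗ[A] Q) (ξ₀ : W ⊗[A] P) (i : P) :
    Φ s Q ((j.rTensor P) ξ₀) i = j (Φ s W ξ₀ i) := by
  induction ξ₀ using TensorProduct.induction_on with
  | zero => simp
  | tmul w p => rw [LinearMap.rTensor_tmul, Φ_tmul_apply, Φ_tmul_apply, map_smul]
  | add x y hx hy => simp only [map_add, Finsupp.add_apply, hx, hy]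

theorem Ψ_Φ (hs : Finsupp.linearCombination A id ∘ₗ s = LinearMap.id) (ξ : Q ⊗[A] P) :
    Ψ Q (Φ s Q ξ) = ξ := by
  unfold Ψ Φ
  simp only [LinearMap.comp_apply, LinearEquiv.coe_coe, LinearEquiv.symm_apply_apply]
  rw [← LinearMap.comp_apply, ← LinearMap.lTensor_comp, hs, LinearMap.lTensor_id,
    LinearMap.id_apply]

theorem Ψ_apply (φ : P →₀ Q) : Ψ (A := A) Q φ = φ.sum (fun i q => q ⊗ₜ[A] i) := by
  conv_lhs => rw [← Finsupp.sum_single φ]
  rw [Finsupp.sum, map_sum, Finsupp.sum]
  refine Finset.sum_congr rfl fun i _ => ?_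
  unfold Ψ
  simp [TensorProduct.finsuppScalarRight_symm_apply_single]

theorem recon (hs : Finsupp.linearCombination A id ∘ₗ s = LinearMap.id) (ξ : Q ⊗[A] P) :
    ξ = ∑ i ∈ (Φ s Q ξ).support, (Φ s Q ξ i) ⊗ₜ[A] i := by
  have h1 := Ψ_Φ s hs ξ
  rw [Ψ_apply, Finsupp.sum] at h1
  exact h1.symm

end Coord

section Main

variable {A : Type u} [CommRing A] {P M : Type u} [AddCommGroup P] [Module A P] [AddCommGroup M]
  [Module A M]

theorem univInj_of_projective_flat [Module.Projective A P] [Module.Flat A M] (v : P →ₗ[A] M)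
    (hv : ∀ (m : Ideal A) [m.IsMaximal], Function.Injective (v.lTensor (A ⧸ m))) :
    FlatCA.UnivInj A v := by
  classical
  intro Q _ _
  obtain ⟨s, hs⟩ := Module.projective_def'.mp (inferInstance : Module.Projective A P)
  rw [injective_iff_map_eq_zero]
  intro ξ hξ
  obtain ⟨W, hWdef⟩ : ∃ W : Submodule A Q,
      W = Submodule.span A (((Φ s Q ξ).support.image (Φ s Q ξ) : Finset Q) : Set Q) := ⟨_, rfl⟩
  have hWfg : W.FG := by rw [hWdef]; exact Submodule.fg_span (Finset.finite_toSet _)
  have hmemW : ∀ i, Φ s Q ξ i ∈ W := by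
    intro i
    by_cases hi : i ∈ (Φ s Q ξ).support
    · rw [hWdef]
      exact Submodule.subset_span (Finset.mem_coe.mpr (Finset.mem_image_of_mem _ hi))
    · rw [Finsupp.notMem_support_iff.mp hi]
      exact zero_mem _
  obtain ⟨ξ₀, hξ₀def⟩ : ∃ ξ₀ : W ⊗[A] P,
      ξ₀ = ∑ i ∈ (Φ s Q ξ).support, (⟨Φ s Q ξ i, hmemW i⟩ : W) ⊗ₜ[A] i := ⟨_, rfl⟩
  have hξ₀ : (W.subtype.rTensor P) ξ₀ = ξ := by
    rw [hξ₀def, map_sum]
    simp only [LinearMap.rTensor_tmul, Submodule.subtype_apply]
    exact (recon s hs ξ).symm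
  have hc : ∀ (W' : Type u) [AddCommGroup W'] [Module A W'] (j : W →ₗ[A] W'),
      (j.rTensor M) ∘ₗ (v.lTensor W) = (v.lTensor W') ∘ₗ (j.rTensor P) := by
    intro W' _ _ j
    rw [LinearMap.rTensor_comp_lTensor, LinearMap.lTensor_comp_rTensor]
  have h0 : (v.lTensor W) ξ₀ = 0 := by
    apply Module.Flat.rTensor_preserves_injective_linearMap (M := M) W.subtype
      W.injective_subtype
    rw [map_zero, ← LinearMap.comp_apply, hc, LinearMap.comp_apply, hξ₀, hξ]
  have hWm : ∀ (m : Ideal A) [m.IsMaximal], W ≤ m • W := by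
    intro m _
    have hI := lTensor_injective_of_residue m v (hv m) ((A ⧸ m) ⊗[A] W)
    have h1 : ((TensorProduct.mk A (A ⧸ m) W (Ideal.Quotient.mk m 1)).rTensor P) ξ₀ = 0 := by
      apply hI
      rw [map_zero, ← LinearMap.comp_apply, ← hc, LinearMap.comp_apply, h0, map_zero]
    have h2 : ∀ i, Φ s W ξ₀ i ∈ m • (⊤ : Submodule A W) := by
      intro i
      apply mem_smul_top_of_mk_one_tmul_eq_zero
      have h3 := Φ_rTensor s (TensorProduct.mk A (A ⧸ m) W (Ideal.Quotient.mk m 1)) ξ₀ i
      rw [h1] at h3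
      simpa using h3.symm
    have h4 : ∀ i, Φ s Q ξ i ∈ m • W := by
      intro i
      have h5 := Φ_rTensor s W.subtype ξ₀ i
      rw [hξ₀] at h5
      rw [h5]
      have h6 : W.subtype (Φ s W ξ₀ i) ∈ Submodule.map W.subtype (m • (⊤ : Submodule A W)) :=
        Submodule.mem_map_of_mem (h2 i)
      rw [Submodule.map_smul'', Submodule.map_subtype_top] at h6
      exact h6
    rw [hWdef, Submodule.span_le]
    intro y hy
    obtain ⟨i, _, rfl⟩ := Finset.mem_image.mp (Finset.mem_coe.mp hy)
    rw [← hWdef]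
    exact h4 i
  have hW0 : W = ⊥ := eq_bot_of_forall_maximal W hWfg hWm
  calc ξ = ∑ i ∈ (Φ s Q ξ).support, (Φ s Q ξ i) ⊗ₜ[A] i := recon s hs ξ
    _ = 0 := by
      refine Finset.sum_eq_zero fun i _ => ?_
      have h7 := hmemW i
      rw [hW0, Submodule.mem_bot] at h7
      rw [h7, zero_tmul]

end Main

end Groth.Agent.Lib.Helper24.PureSpread
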