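import Mathlib
import Groth.Prelude.Def_FlatCA
import Groth.Agent.Lib.Helper24.PureSpreadA

/-!
# Content ideals and universal injectivity from a pure spreadout
-/

set_option autoImplicit false
set_option maxHeartbeats 400000
set_option linter.style.haveILetI false
set_option linter.unusedSectionVars false
set_option linter.unusedVariables false

universe u

namespace Groth.Agent.Lib.Helper24.PureSpread

open TensorProduct

section Spread

variable {A B : Type u} [CommRing A] [CommRing B] [Algebra A B] (T : Submonoid B)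
  {N : Type u} [AddCommGroup N] [Module (Localization T) N] [Module A N]
  [IsScalarTower A (Localization T) N]
  {C : Type u} [CommRing C] [Algebra B C] [Algebra A C] [IsScalarTower A B C]
  [Algebra C (Localization T)] [IsScalarTower B C (Localization T)]
  [IsScalarTower A C (Localization T)]
  [Module C N] [IsScalarTower C (Localization T) N] [IsScalarTower A C N]
  {N' : Type u} [AddCommGroup N'] [Module C N'] [Module A N'] [IsScalarTower A C N']
  (g : N' →ₗ[C] N)

/-- multiplication by an element of the localization, as an `A`-linear endomorphism of `N`. -/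
noncomputable def ν (l : Localization T) : N →ₗ[A] N :=
  (LinearMap.lsmul (Localization T) N l).restrictScalars A

@[simp] theorem ν_apply (l : Localization T) (x : N) : ν (A := A) T l x = l • x := rfl

/-- multiplication by (the image of) an element of `B` on `N'`, `A`-linear. -/
noncomputable def σ (b : B) : N' →ₗ[A] N' :=
  (LinearMap.lsmul C N' (algebraMap B C b)).restrictScalars A

@[simp] theorem σ_apply (b : B) (x : N') : σ (A := A) (C := C) b x = algebraMap B C b • x := rfl

/-- `x' ↦ (1/t) • g x'`. -/
noncomputable def hh (t : T) : N' →ₗ[A] N :=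
  ν (A := A) T (IsLocalization.mk' (Localization T) (1 : B) t) ∘ₗ
    (LinearMap.restrictScalars A g : N' →ₗ[A] N)

theorem hh_apply (t : T) (x : N') :
    hh (A := A) T g t x = IsLocalization.mk' (Localization T) (1 : B) t • g x := rfl

theorem g_smul (b : B) (x : N') :
    g (algebraMap B C b • x) = algebraMap B (Localization T) b • g x := by
  rw [map_smul, ← algebraMap_smul (Localization T) (algebraMap B C b) (g x),
    ← IsScalarTower.algebraMap_apply B C (Localization T)]

theorem mk'_mul_alg (t s : T) :
    IsLocalization.mk' (Localization T) (1 : B) (t * s) * algebraMap B (Localization T) s =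
      IsLocalization.mk' (Localization T) (1 : B) t := by
  rw [IsLocalization.eq_mk'_iff_mul_eq, mul_assoc, ← map_mul, mul_comm (s : B) (t : B),
    ← Submonoid.coe_mul, IsLocalization.mk'_spec]

theorem hh_mul (t s : T) (x : N') :
    hh (A := A) T g (t * s) (algebraMap B C (s : B) • x) = hh (A := A) T g t x := by
  rw [hh_apply, hh_apply, g_smul T g, smul_smul, mk'_mul_alg]

theorem hh_comp_σ (t s : T) :
    hh (A := A) T g (t * s) ∘ₗ σ (A := A) (C := C) (s : B) = hh (A := A) T g t := by
  ext x
  exact hh_mul T g t s x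

theorem exists_hh (hbc : IsBaseChange (Localization T) g) (x : N) :
    ∃ (t : T) (x' : N'), x = hh (A := A) T g t x' := by
  refine hbc.inductionOn x (fun x => ∃ (t : T) (x' : N'), x = hh (A := A) T g t x') ?_ ?_ ?_ ?_
  · exact ⟨1, 0, by rw [map_zero]⟩
  · intro m
    refine ⟨1, m, ?_⟩
    rw [hh_apply, IsLocalization.mk'_one, map_one, one_smul]
  · rintro l n ⟨t, x', rfl⟩
    obtain ⟨⟨b, s⟩, rfl⟩ := IsLocalization.mk'_surjective T l
    refine ⟨s * t, algebraMap B C b • x', ?_⟩
    rw [hh_apply, hh_apply, g_smul T g, smul_smul, smul_smul]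
    congr 1
    rw [← IsLocalization.mk'_mul, mul_one, IsLocalization.mk'_eq_mul_mk'_one (S := Localization T) b (s * t),
      mul_comm]
  · rintro n₁ n₂ ⟨t₁, x₁, rfl⟩ ⟨t₂, x₂, rfl⟩
    refine ⟨t₁ * t₂, algebraMap B C (t₂ : B) • x₁ + algebraMap B C (t₁ : B) • x₂, ?_⟩
    rw [map_add, hh_mul, mul_comm t₁ t₂, hh_mul]

theorem exists_hh_lTensor (hbc : IsBaseChange (Localization T) g) (Q : Type u) [AddCommGroup Q]
    [Module A Q] (ξ : Q ⊗[A] N) :
    ∃ (t : T) (ξ' : Q ⊗[A] N'), ξ = ((hh (A := A) T g t).lTensor Q) ξ' := by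
  induction ξ using TensorProduct.induction_on with
  | zero => exact ⟨1, 0, by rw [map_zero]⟩
  | tmul q x =>
    obtain ⟨t, x', rfl⟩ := exists_hh (A := A) T g hbc x
    exact ⟨t, q ⊗ₜ x', by rw [LinearMap.lTensor_tmul]⟩
  | add ξ₁ ξ₂ h₁ h₂ =>
    obtain ⟨t₁, ξ₁', rfl⟩ := h₁
    obtain ⟨t₂, ξ₂', rfl⟩ := h₂
    refine ⟨t₁ * t₂, ((σ (A := A) (C := C) (t₂ : B)).lTensor Q) ξ₁' +
      ((σ (A := A) (C := C) (t₁ : B)).lTensor Q) ξ₂', ?_⟩
    rw [map_add, ← LinearMap.comp_apply, ← LinearMap.lTensor_comp, hh_comp_σ,
      ← LinearMap.comp_apply, ← LinearMap.lTensor_comp, mul_comm t₁ t₂, hh_comp_σ]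

theorem ν_alg_hh (t : T) (x' : N') :
    ν (A := A) T (algebraMap B (Localization T) (t : B)) (hh (A := A) T g t x') = g x' := by
  rw [ν_apply, hh_apply, smul_smul, IsLocalization.mk'_spec', map_one, one_smul]

theorem ν_comp (t : T) :
    ν (A := A) (N := N) T (algebraMap B (Localization T) (t : B)) ∘ₗ
      ν (A := A) T (IsLocalization.mk' (Localization T) (1 : B) t) = LinearMap.id := by
  ext x
  rw [LinearMap.comp_apply, ν_apply, ν_apply, smul_smul, IsLocalization.mk'_spec', map_one,
    one_smul, LinearMap.id_apply]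

theorem content_and_univInj (hbc : IsBaseChange (Localization T) g) [Module.Projective A N']
    (hpure : FlatCA.UnivInj A (g.restrictScalars A)) :
    (∀ x : N, ∃ I : Ideal A, x ∈ I • (⊤ : Submodule A N) ∧
      ∀ J : Ideal A, x ∈ J • (⊤ : Submodule A N) → I ≤ J) ∧
    ∀ (M : Type u) [AddCommGroup M] [Module A M] [Module.Flat A M] (u : N →ₗ[A] M),
      (∀ (m : Ideal A) [m.IsMaximal], Function.Injective (u.lTensor (A ⧸ m))) →
        FlatCA.UnivInj A u := by
  constructor
  · intro x
    obtain ⟨t, x', rfl⟩ := exists_hh (A := A) T g hbc x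
    obtain ⟨I, hI, hmin⟩ := exists_content_of_projective (A := A) x'
    refine ⟨I, map_mem_smul_top (hh (A := A) T g t) I hI, fun J hJ => hmin J ?_⟩
    have h1 := map_mem_smul_top (ν (A := A) T (algebraMap B (Localization T) (t : B))) J hJ
    rw [ν_alg_hh] at h1
    exact mem_smul_top_of_univInj (g.restrictScalars A) hpure J x' h1
  · intro M _ _ _ u hu Q _ _
    rw [injective_iff_map_eq_zero]
    intro ξ hξ
    obtain ⟨t, ξ', rfl⟩ := exists_hh_lTensor (A := A) T g hbc Q ξ
    have h1 : ((u ∘ₗ hh (A := A) T g t).lTensor Q) ξ' = 0 := by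
      rw [LinearMap.lTensor_comp, LinearMap.comp_apply]; exact hξ
    have hinj : FlatCA.UnivInj A (u ∘ₗ hh (A := A) T g t) := by
      apply univInj_of_projective_flat
      intro m _
      unfold hh
      rw [LinearMap.lTensor_comp, LinearMap.lTensor_comp, LinearMap.coe_comp, LinearMap.coe_comp]
      refine (hu m).comp (Function.Injective.comp ?_ (hpure (A ⧸ m)))
      have hleft : Function.LeftInverse
          ((ν (A := A) (N := N) T (algebraMap B (Localization T) (t : B))).lTensor (A ⧸ m))
          ((ν (A := A) T (IsLocalization.mk' (Localization T) (1 : B) t)).lTensor (A ⧸ m)) := by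
        intro z
        rw [← LinearMap.comp_apply, ← LinearMap.lTensor_comp, ν_comp, LinearMap.lTensor_id,
          LinearMap.id_apply]
      exact hleft.injective
    have h2 := (injective_iff_map_eq_zero _).mp (hinj Q) ξ' h1
    rw [h2, map_zero]

end Spread

theorem main {A B : Type u} [CommRing A] [CommRing B] [Algebra A B]
    (T : Submonoid B) (N : Type u) [AddCommGroup N] [Module (Localization T) N] [Module A N]
    [IsScalarTower A (Localization T) N] (h : FlatCA.HasPureSpreadout A B T N) :
    (∀ x : N, ∃ I : Ideal A, x ∈ I • (⊤ : Submodule A N) ∧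
      ∀ J : Ideal A, x ∈ J • (⊤ : Submodule A N) → I ≤ J) ∧
    ∀ (M : Type u) [AddCommGroup M] [Module A M] [Module.Flat A M] (u : N →ₗ[A] M),
      (∀ (m : Ideal A) [m.IsMaximal], Function.Injective (u.lTensor (A ⧸ m))) →
        FlatCA.UnivInj A u := by
  obtain ⟨C, _, _, _, _, _, _, _, _, _, _, N', _, _, _, _, g, hopen, hfp, hbc, hproj, hpure⟩ := h
  exact content_and_univInj T g hbc hpure

end Groth.Agent.Lib.Helper24.PureSpread
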