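import Mathlib
import Groth.Prelude.Def_W4c2gaugesfzipsQuiet
import Groth.Prelude.Def_Frob
import Groth.Agent.Lib.Helper24.QuietBC
import Groth.Agent.Lib.Helper24.FrobRootTower

/-!
# Helper library (helper24): composition of quasi-etale morphisms

* `exists_retract`: a root tower `φ : A → B` of height `n` in characteristic `p` has a "Frobenius
  retraction" `ψ : B → A` with `ψ ∘ φ = F^n` and `φ ∘ ψ = F^n`.
* `exists_etale_descent`: an étale algebra over the top of a root tower descends to the bottom.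
* `isQuiet_comp`: composition of quasi-etale morphisms.
-/

set_option autoImplicit false
set_option maxHeartbeats 400000
set_option linter.style.haveILetI false
universe u

namespace Groth.Agent.Lib.Helper24.QuietComp

open CategoryTheory Limits AlgebraicGeometry Polynomial Quiet
open Groth.Agent.Lib.Helper24.RootTower
open Groth.Agent.Lib.Helper24.QuietLift
open Groth.Agent.Lib.Helper24.QuietBC

variable (p : ℕ) [Fact p.Prime]

theorem root_pow {A : Type u} [CommRing A] (a : A) :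
    (AdjoinRoot.root (X ^ p - C a : A[X])) ^ p = AdjoinRoot.of (X ^ p - C a : A[X]) a := by
  have h := AdjoinRoot.eval₂_root (X ^ p - C a : A[X])
  simp only [Polynomial.eval₂_sub, Polynomial.eval₂_pow, Polynomial.eval₂_X,
    Polynomial.eval₂_C] at h
  exact sub_eq_zero.mp h

theorem exists_retract : ∀ (n : ℕ) (A B : Type u) [CommRing A] [CommRing B] (φ : A →+* B)
    (_ : (p : A) = 0), RT p n A B φ →
    ∃ ψ : B →+* A, (∀ x, ψ (φ x) = x ^ p ^ n) ∧ (∀ y, φ (ψ y) = y ^ p ^ n) := by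
  intro n
  induction n with
  | zero =>
    intro A B _ _ φ h0 h
    have hb : Function.Bijective φ := h
    let e := RingEquiv.ofBijective φ hb
    refine ⟨(e.symm : B →+* A), fun x => ?_, fun y => ?_⟩
    · rw [pow_zero, pow_one]
      exact e.symm_apply_apply x
    · rw [pow_zero, pow_one]
      exact e.apply_symm_apply y
  | succ n ih =>
    intro A B _ _ φ h0 h
    obtain ⟨a, g, hg, hrt⟩ := h
    subst hg
    have h1 : (p : RootRing p A a) = 0 := by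
      rw [← map_natCast (algebraMap A (RootRing p A a)) p, h0, map_zero]
    obtain ⟨ψ₁, hψ₁a, hψ₁b⟩ := ih (RootRing p A a) B g h1 hrt
    have hroot : (X ^ p - C a : A[X]).eval₂ (FrobSch.powHom p A h0) a = 0 := by
      simp only [Polynomial.eval₂_sub, Polynomial.eval₂_pow, Polynomial.eval₂_X,
        Polynomial.eval₂_C, FrobSch.powHom_apply, sub_self]
    let ψ₀ : RootRing p A a →+* A := AdjoinRoot.lift (FrobSch.powHom p A h0) a hroot
    have hψ₀a : ∀ x : A, ψ₀ (algebraMap A (RootRing p A a) x) = x ^ p := fun x => by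
      rw [AdjoinRoot.algebraMap_eq]
      exact (AdjoinRoot.lift_of (h := hroot)).trans (FrobSch.powHom_apply p A h0 x)
    have hψ₀b : ∀ c : RootRing p A a, algebraMap A (RootRing p A a) (ψ₀ c) = c ^ p := by
      have hh : (algebraMap A (RootRing p A a)).comp ψ₀ =
          FrobSch.powHom p (RootRing p A a) h1 := by
        apply AdjoinRoot.ringHom_ext
        · apply RingHom.ext
          intro x
          simp only [RingHom.comp_apply, FrobSch.powHom_apply]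
          rw [show ψ₀ (AdjoinRoot.of _ x) = x ^ p from
            (AdjoinRoot.lift_of (h := hroot)).trans (FrobSch.powHom_apply p A h0 x),
            AdjoinRoot.algebraMap_eq, map_pow]
        · simp only [RingHom.comp_apply, FrobSch.powHom_apply]
          rw [show ψ₀ (AdjoinRoot.root _) = a from AdjoinRoot.lift_root (h := hroot),
            AdjoinRoot.algebraMap_eq, root_pow]
      intro c
      exact RingHom.congr_fun hh c
    refine ⟨ψ₀.comp ψ₁, fun x => ?_, fun y => ?_⟩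
    · simp only [RingHom.comp_apply]
      rw [hψ₁a, ← map_pow, hψ₀a, ← pow_mul, ← pow_succ]
    · simp only [RingHom.comp_apply]
      rw [hψ₀b, map_pow, hψ₁b, ← pow_mul, ← pow_succ]

theorem isPushout_frobenius_of_etale {B C : CommRingCat.{u}} [CharP B p] [CharP C p] (ε : B ⟶ C)
    (hε : ε.hom.Etale) :
    IsPushout (CommRingCat.ofHom (frobenius B p)) ε ε (CommRingCat.ofHom (frobenius C p)) := by
  letI := ε.hom.toAlgebra
  haveI : Algebra.Etale B C := hε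
  exact isPushout_of_isPO _ _ _ _ (FrobRootTower.po_frobenius_of_etale p B C)

theorem isPushout_iterateFrobenius_of_etale (n : ℕ) {B C : CommRingCat.{u}} [CharP B p]
    [CharP C p] (ε : B ⟶ C) (hε : ε.hom.Etale) :
    IsPushout (CommRingCat.ofHom (iterateFrobenius B p n)) ε ε
      (CommRingCat.ofHom (iterateFrobenius C p n)) := by
  induction n with
  | zero =>
    have h1 : CommRingCat.ofHom (iterateFrobenius B p 0) = 𝟙 B := by
      ext x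
      change x ^ p ^ 0 = x
      rw [pow_zero, pow_one]
    have h2 : CommRingCat.ofHom (iterateFrobenius C p 0) = 𝟙 C := by
      ext x
      change x ^ p ^ 0 = x
      rw [pow_zero, pow_one]
    rw [h1, h2]
    exact IsPushout.of_id_fst
  | succ n ih =>
    have h1 : CommRingCat.ofHom (iterateFrobenius B p (n + 1)) =
        CommRingCat.ofHom (iterateFrobenius B p n) ≫ CommRingCat.ofHom (frobenius B p) := by
      ext x
      simp [iterateFrobenius_def, frobenius_def, pow_succ, pow_mul]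
    have h2 : CommRingCat.ofHom (iterateFrobenius C p (n + 1)) =
        CommRingCat.ofHom (iterateFrobenius C p n) ≫ CommRingCat.ofHom (frobenius C p) := by
      ext x
      simp [iterateFrobenius_def, frobenius_def, pow_succ, pow_mul]
    rw [h1, h2]
    exact ih.paste_horiz (isPushout_frobenius_of_etale p ε hε)

/-- **Étale descent along a root tower** in characteristic `p`. -/
theorem exists_etale_descent (n : ℕ) {A B C : CommRingCat.{u}} [CharP B p] [CharP C p]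
    (h0 : (p : A) = 0) (φ : A ⟶ B) (hφ : RT p n A B φ.hom) (ε : B ⟶ C) (hε : ε.hom.Etale) :
    ∃ (C₁ : CommRingCat.{u}) (ε₁ : A ⟶ C₁) (φ₁ : C₁ ⟶ C),
      ε₁.hom.Etale ∧ RT p n C₁ C φ₁.hom ∧ ε₁ ≫ φ₁ = φ ≫ ε := by
  obtain ⟨ψr, -, hψb⟩ := exists_retract p n A B φ.hom h0 hφ
  obtain ⟨ψ, hψ⟩ : ∃ ψ : B ⟶ A, ψ = CommRingCat.ofHom ψr := ⟨_, rfl⟩
  have hψφ : ψ ≫ φ = CommRingCat.ofHom (iterateFrobenius B p n) := by
    rw [hψ]
    ext y
    exact hψb y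
  have hcomm : ψ ≫ φ ≫ ε = ε ≫ CommRingCat.ofHom (iterateFrobenius C p n) := by
    rw [← Category.assoc, hψφ]
    ext y
    simp [iterateFrobenius_def, map_pow]
  obtain ⟨φ₁, hφ₁⟩ : ∃ φ₁ : pushout ψ ε ⟶ C, φ₁ = pushout.desc (φ ≫ ε)
      (CommRingCat.ofHom (iterateFrobenius C p n)) hcomm := ⟨_, rfl⟩
  have hinl : pushout.inl ψ ε ≫ φ₁ = φ ≫ ε := by rw [hφ₁, pushout.inl_desc]
  have hinr : pushout.inr ψ ε ≫ φ₁ = CommRingCat.ofHom (iterateFrobenius C p n) := by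
    rw [hφ₁, pushout.inr_desc]
  have hleft : IsPushout ψ ε (pushout.inl ψ ε) (pushout.inr ψ ε) := IsPushout.of_hasPushout ψ ε
  have houter : IsPushout (ψ ≫ φ) ε ε (pushout.inr ψ ε ≫ φ₁) := by
    rw [hψφ, hinr]
    exact isPushout_iterateFrobenius_of_etale p n ε hε
  have hright : IsPushout φ (pushout.inl ψ ε) ε φ₁ := IsPushout.of_left houter hinl.symm hleft
  refine ⟨pushout ψ ε, pushout.inl ψ ε, φ₁, ?_, rt_of_isPushout p n hright hφ, hinl⟩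
  exact RingHom.IsStableUnderBaseChange.pushout_inl RingHom.Etale.isStableUnderBaseChange
    RingHom.Etale.respectsIso ψ ε hε

section Sch

variable {p}

theorem isPthRoot_iso_spec {Y : Scheme.{u}} {A B : CommRingCat.{u}} (eY : Y ≅ Spec B) (φ : A ⟶ B)
    (n : ℕ) (h : RT p n A B φ.hom) : Quiet.IsPthRoot p (eY.hom ≫ Spec.map φ) := by
  haveI : IsAffine Y := .of_isIso eY.hom
  apply isPthRoot_of_rt_appTop _ n
  have e1 : (Spec.map φ).appTop =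
      (Scheme.ΓSpecIso _).hom ≫ φ ≫ (Scheme.ΓSpecIso _).inv := by
    rw [← Scheme.ΓSpecIso_naturality_assoc, Iso.hom_inv_id, Category.comp_id]
  haveI : IsIso eY.hom.appTop := inferInstanceAs (IsIso (eY.hom.app ⊤))
  have e2 : (eY.hom ≫ Spec.map φ).appTop =
      (Scheme.ΓSpecIso A).hom ≫ φ ≫ ((Scheme.ΓSpecIso B).inv ≫ eY.hom.appTop) := by
    rw [Scheme.Hom.comp_appTop, e1]
    simp only [Category.assoc]
  rw [e2]
  exact rt_iso_comp p n _ φ _ h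

/-- **Composition of quasi-etale morphisms** over a base of characteristic `p`. -/
theorem isQuiet_comp {X Y Z : Scheme.{u}} [FrobSch.IsCharP X p] (f : Y ⟶ X) (g : Z ⟶ Y)
    (hf : Quiet.IsQuiet p f) (hg : Quiet.IsQuiet p g) : Quiet.IsQuiet p (g ≫ f) := by
  have hp : p.Prime := Fact.out
  intro z
  obtain ⟨V₁, Z₁, r₁, e₁, hzV₁, hr₁, he₁, fac₁⟩ := hg z
  haveI : Etale e₁ := he₁
  obtain ⟨z₁, hz₁⟩ : ∃ z₁ : Z₁, z₁ = r₁.base ⟨z, hzV₁⟩ := ⟨_, rfl⟩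
  obtain ⟨V₂, Y₂, r₂, e₂, hyV₂, hr₂, he₂, fac₂⟩ := hf (e₁.base z₁)
  haveI : Etale e₂ := he₂
  rw [isPthRoot_iff] at hr₁ hr₂
  obtain ⟨U, hU, hx₂U, hW, n₂, hn₂⟩ := hr₂ (r₂.base ⟨e₁.base z₁, hyV₂⟩)
  have hO : IsAffineOpen (V₂.ι ''ᵁ (r₂ ⁻¹ᵁ U)) := hW.image_of_isOpenImmersion V₂.ι
  have hz₁O : z₁ ∈ e₁ ⁻¹ᵁ (V₂.ι ''ᵁ (r₂ ⁻¹ᵁ U)) := ⟨⟨e₁.base z₁, hyV₂⟩, hx₂U, rfl⟩
  obtain ⟨U₁, hU₁, hz₁U₁, hM₁, n₁, hn₁⟩ := hr₁ z₁
  obtain ⟨N, hN, hz₁N, hNle⟩ := exists_isAffineOpen_mem_and_subset (X := Z₁) (x := z₁)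
    (U := U₁ ⊓ e₁ ⁻¹ᵁ (V₂.ι ''ᵁ (r₂ ⁻¹ᵁ U))) ⟨hz₁U₁, hz₁O⟩
  have hNU₁ : N ≤ U₁ := fun t ht => (hNle ht).1
  have hNO : N ≤ e₁ ⁻¹ᵁ (V₂.ι ''ᵁ (r₂ ⁻¹ᵁ U)) := fun t ht => (hNle ht).2
  obtain ⟨hM, hχ⟩ := good_of_isPullback (IsPullback.of_id_fst (f := r₁)) hU₁ hM₁ n₁ hn₁ hN
    (fun t ht => hNU₁ ht)
  -- characteristic `p`
  haveI : FrobSch.IsCharP Y₂ p := FrobSch.IsCharP.of_hom e₂ p
  haveI : FrobSch.IsCharP (V₂ : Scheme.{u}) p := FrobSch.IsCharP.of_hom r₂ p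
  haveI : FrobSch.IsCharP Z₁ p := FrobSch.IsCharP.of_hom (e₁ ≫ f) p
  have h0 : (p : Γ(Y₂, U)) = 0 := FrobSch.natCast_eq_zero_app Y₂ p U
  haveI : Nonempty ↥(r₂ ⁻¹ᵁ U) := ⟨⟨⟨e₁.base z₁, hyV₂⟩, hx₂U⟩⟩
  haveI : Nontrivial Γ(V₂.toScheme, r₂ ⁻¹ᵁ U) := inferInstance
  haveI : CharP Γ(V₂.toScheme, r₂ ⁻¹ᵁ U) p :=
    (CharP.charP_iff_prime_eq_zero hp).2 (FrobSch.natCast_eq_zero_app _ p _)
  haveI : Nonempty ↥N := ⟨⟨z₁, hz₁N⟩⟩
  haveI : Nontrivial Γ(Z₁, N) := inferInstance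
  haveI : CharP Γ(Z₁, N) p :=
    (CharP.charP_iff_prime_eq_zero hp).2 (FrobSch.natCast_eq_zero_app _ p _)
  -- the étale ring map
  have hε' : (e₁.appLE (V₂.ι ''ᵁ (r₂ ⁻¹ᵁ U)) N hNO).hom.Etale := e₁.etale_appLE hO hN hNO
  obtain ⟨ε, hεdef⟩ : ∃ ε : Γ(V₂.toScheme, r₂ ⁻¹ᵁ U) ⟶ Γ(Z₁, N),
      ε = (V₂.ι.appIso (r₂ ⁻¹ᵁ U)).inv ≫ e₁.appLE (V₂.ι ''ᵁ (r₂ ⁻¹ᵁ U)) N hNO := ⟨_, rfl⟩
  have hε : ε.hom.Etale := by
    rw [hεdef, CommRingCat.hom_comp]
    exact RingHom.Etale.stableUnderComposition _ _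
      (RingHom.Etale.of_bijective (ConcreteCategory.bijective_of_isIso _)) hε'
  obtain ⟨C₁, ε₁, φ₁, hε₁, hφ₁, hsq⟩ := exists_etale_descent p n₂ h0 (r₂.app U) hn₂ ε hε
  haveI : Etale (Spec.map ε₁) := (HasRingHomProperty.Spec_iff (P := @Etale)).mpr hε₁
  -- assemble
  obtain ⟨eY, heY⟩ : ∃ eY : (V₁.ι ''ᵁ (r₁ ⁻¹ᵁ N) : Scheme.{u}) ≅ Spec Γ(V₁.toScheme, r₁ ⁻¹ᵁ N),
      eY = (V₁.ι.isoImage (r₁ ⁻¹ᵁ N)).symm ≪≫ hM.isoSpec := ⟨_, rfl⟩
  refine ⟨V₁.ι ''ᵁ (r₁ ⁻¹ᵁ N), Spec C₁, eY.hom ≫ Spec.map (φ₁ ≫ r₁.app N),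
    (Spec.map ε₁ ≫ hU.fromSpec) ≫ e₂,
    ⟨⟨z, hzV₁⟩, (show r₁.base ⟨z, hzV₁⟩ ∈ N from hz₁ ▸ hz₁N), rfl⟩, ?_, inferInstance, ?_⟩
  · exact isPthRoot_iso_spec eY _ (n₂ + n₁)
      (rt_comp p n₂ n₁ _ _ _ φ₁.hom (r₁.app N).hom hφ₁ hχ)
  · have k1 : Spec.map (r₂.app U) ≫ hU.fromSpec = hW.fromSpec ≫ r₂ := by
      have := IsAffineOpen.SpecMap_appLE_fromSpec r₂ hU hW le_rfl
      rwa [← Scheme.Hom.app_eq_appLE] at this
    have k2 : Spec.map (V₂.ι.appIso (r₂ ⁻¹ᵁ U)).hom ≫ hO.fromSpec = hW.fromSpec ≫ V₂.ι := by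
      rw [Scheme.Hom.appIso_hom']
      exact IsAffineOpen.SpecMap_appLE_fromSpec V₂.ι hO hW _
    have k3 : Spec.map (e₁.appLE (V₂.ι ''ᵁ (r₂ ⁻¹ᵁ U)) N hNO) ≫ hO.fromSpec =
        hN.fromSpec ≫ e₁ := IsAffineOpen.SpecMap_appLE_fromSpec e₁ hO hN hNO
    have k4 : Spec.map (r₁.app N) ≫ hN.fromSpec = hM.fromSpec ≫ r₁ := by
      have := IsAffineOpen.SpecMap_appLE_fromSpec r₁ hN hM le_rfl
      rwa [← Scheme.Hom.app_eq_appLE] at this
    have k5 : eY.hom ≫ hM.fromSpec ≫ V₁.ι = (V₁.ι ''ᵁ (r₁ ⁻¹ᵁ N)).ι := by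
      rw [heY, Iso.trans_hom, Iso.symm_hom, Category.assoc, hM.isoSpec_hom_fromSpec_assoc]
      exact Scheme.Hom.isoImage_inv_ι V₁.ι (r₁ ⁻¹ᵁ N)
    have k6 : Spec.map ε ≫ hW.fromSpec ≫ V₂.ι = hN.fromSpec ≫ e₁ := by
      rw [← k2, ← k3, hεdef, Spec.map_comp, Category.assoc,
        ← Spec.map_comp_assoc (V₂.ι.appIso (r₂ ⁻¹ᵁ U)).hom (V₂.ι.appIso (r₂ ⁻¹ᵁ U)).inv,
        Iso.hom_inv_id, Spec.map_id, Category.id_comp]
    calc (eY.hom ≫ Spec.map (φ₁ ≫ r₁.app N)) ≫ (Spec.map ε₁ ≫ hU.fromSpec) ≫ e₂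
        = eY.hom ≫ Spec.map (ε₁ ≫ φ₁ ≫ r₁.app N) ≫ hU.fromSpec ≫ e₂ := by
          simp only [Spec.map_comp, Category.assoc]
      _ = eY.hom ≫ Spec.map (r₁.app N) ≫ Spec.map ε ≫
            (Spec.map (r₂.app U) ≫ hU.fromSpec) ≫ e₂ := by
          rw [← Category.assoc ε₁, hsq]
          simp only [Spec.map_comp, Category.assoc]
      _ = eY.hom ≫ Spec.map (r₁.app N) ≫ (Spec.map ε ≫ hW.fromSpec ≫ V₂.ι) ≫ f := by
          rw [k1]
          simp only [Category.assoc, fac₂]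
      _ = eY.hom ≫ (Spec.map (r₁.app N) ≫ hN.fromSpec) ≫ e₁ ≫ f := by
          rw [k6]
          simp only [Category.assoc]
      _ = (eY.hom ≫ hM.fromSpec ≫ V₁.ι) ≫ g ≫ f := by
          rw [k4]
          simp only [Category.assoc, reassoc_of% fac₁]
      _ = (V₁.ι ''ᵁ (r₁ ⁻¹ᵁ N)).ι ≫ g ≫ f := by rw [k5]

end Sch

end Groth.Agent.Lib.Helper24.QuietComp
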