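import Mathlib
import Groth.Prelude.Def_RegImm
import Groth.Agent.Lib.Helper24.RootTower
import Groth.Agent.Lib.Helper6.SplitSynt

/-!
Ring-theoretic part of "quasi-etale implies syntomic": an etale ring map followed by a root tower
is syntomic (flat, square presentation, quasi-finite).
-/

set_option autoImplicit false
set_option maxHeartbeats 400000
universe u

namespace Groth.Agent.Lib.Helper24.QuietSynt

open Polynomial TensorProduct Quiet
open Groth.Agent.Lib.Helper24.RootTower
open Groth.Agent.Lib.Helper6.SplitSynt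

/-- converse of `isRootTower_of_rt` -/
theorem rt_of_isRootTower (p : ℕ) : ∀ (n : ℕ) (A B : Type u) [CommRing A] [CommRing B]
    [Algebra A B], IsRootTower p n A B → RT p n A B (algebraMap A B) := by
  intro n
  induction n with
  | zero =>
    intro A B _ _ _ h
    obtain ⟨e⟩ := h
    show Function.Bijective (algebraMap A B)
    have h1 : (algebraMap A B : A → B) = e.symm := by
      funext x
      exact (e.symm.commutes x).symm
    rw [h1]
    exact e.symm.bijective
  | succ n ih =>
    intro A B _ _ _ h
    obtain ⟨a, alg, hst, h⟩ := h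
    letI := alg
    refine ⟨a, algebraMap (RootRing p A a) B, ?_, ih _ _ h⟩
    ext x
    exact (IsScalarTower.algebraMap_apply A (RootRing p A a) B x).symm

/-- a commutative square whose vertical maps are localizations away from `s` and `f s` is a
pushout. -/
theorem isPO_of_isLocalization_away {P Q S D : Type u} [CommRing P] [CommRing Q] [CommRing S]
    [CommRing D] (f : P →+* Q) (h : P →+* S) (h' : Q →+* D) (f' : S →+* D) (s : P)
    (hcomm : f'.comp h = h'.comp f)
    (hS : @IsLocalization.Away _ _ s S _ h.toAlgebra)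
    (hD : @IsLocalization.Away _ _ (f s) D _ h'.toAlgebra) : IsPO f h h' f' := by
  letI := h.toAlgebra
  letI := h'.toAlgebra
  refine ⟨hcomm, fun E _ α β hαβ => ?_⟩
  have hu : IsUnit (β (f s)) := by
    have h1 : β (f s) = α (h s) := (RingHom.congr_fun hαβ s).symm
    rw [h1]
    exact (IsLocalization.Away.algebraMap_isUnit (S := S) s).map α
  have hl : (IsLocalization.Away.lift (S := D) (f s) hu).comp h' = β :=
    IsLocalization.Away.lift_comp (S := D) (f s) hu
  refine ⟨IsLocalization.Away.lift (S := D) (f s) hu, ⟨?_, hl⟩, ?_⟩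
  · apply IsLocalization.ringHom_ext (Submonoid.powers s)
    change ((IsLocalization.Away.lift (S := D) (f s) hu).comp f').comp h = α.comp h
    rw [RingHom.comp_assoc, hcomm, ← RingHom.comp_assoc, hl, hαβ]
  · rintro δ' ⟨-, h2⟩
    apply IsLocalization.ringHom_ext (Submonoid.powers (f s))
    change δ'.comp h' = (IsLocalization.Away.lift (S := D) (f s) hu).comp h'
    rw [h2, hl]

/-- existence of a presentation with `n` generators and `n` relations -/
def SqPres {A B : Type u} [CommRing A] [CommRing B] (f : A →+* B) (n : ℕ) : Prop :=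
  Nonempty (@Algebra.Presentation A B (Fin n) (Fin n) _ _ f.toAlgebra)

theorem sqPres_of_bijective {A B : Type u} [CommRing A] [CommRing B] (f : A →+* B)
    (hf : Function.Bijective f) : SqPres f 0 := by
  letI := f.toAlgebra
  exact ⟨(Algebra.Presentation.ofBijectiveAlgebraMap.{0, 0} (R := A) (S := B) hf).reindex
    (Equiv.equivPEmpty _) (Equiv.equivPEmpty _)⟩

theorem sqPres_algebraMap {A B : Type u} [CommRing A] [CommRing B] [inst : Algebra A B] (n : ℕ)
    (P : Algebra.Presentation A B (Fin n) (Fin n)) : SqPres (algebraMap A B) n := by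
  have h : (algebraMap A B).toAlgebra = inst := Algebra.algebra_ext _ _ (fun _ => rfl)
  unfold SqPres
  rw [h]
  exact ⟨P⟩

theorem sqPres_comp {A B C' : Type u} [CommRing A] [CommRing B] [CommRing C'] (f : A →+* B)
    (g : B →+* C') (n m : ℕ) (hf : SqPres f n) (hg : SqPres g m) :
    SqPres (g.comp f) (m + n) := by
  letI := f.toAlgebra
  letI := g.toAlgebra
  letI := (g.comp f).toAlgebra
  haveI : IsScalarTower A B C' := IsScalarTower.of_algebraMap_eq (fun x => rfl)
  obtain ⟨P⟩ := hf
  obtain ⟨Q⟩ := hg
  exact ⟨(Q.comp P).reindex finSumFinEquiv.symm finSumFinEquiv.symm⟩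

theorem rt_props (p : ℕ) (hp : 0 < p) : ∀ (n : ℕ) (A B : Type u) [CommRing A] [CommRing B]
    (f : A →+* B), RT p n A B f → SqPres f n ∧ f.Finite ∧ f.Flat := by
  intro n
  induction n with
  | zero =>
    intro A B _ _ f hf
    exact ⟨sqPres_of_bijective f hf, RingHom.Finite.of_surjective f hf.2,
      RingHom.Flat.of_bijective hf⟩
  | succ n ih =>
    intro A B _ _ f hf
    obtain ⟨a, g, hg, h⟩ := hf
    obtain ⟨h1, h2, h3⟩ := ih _ _ g h
    subst hg
    have hmonic : (X ^ p - C a : A[X]).Monic := monic_X_pow_sub_C a hp.ne'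
    have e1 : SqPres (algebraMap A (RootRing p A a)) 1 :=
      sqPres_algebraMap 1 (presAdjoinRoot _)
    have e2 : (algebraMap A (RootRing p A a)).Finite := by
      haveI := hmonic.finite_adjoinRoot
      exact RingHom.finite_algebraMap.mpr inferInstance
    have e3 : (algebraMap A (RootRing p A a)).Flat := by
      haveI := hmonic.free_adjoinRoot
      exact RingHom.flat_algebraMap_iff.mpr inferInstance
    exact ⟨sqPres_comp _ g 1 n e1 h1, h2.comp e2, e3.comp h3⟩

theorem sqPres_of_etale {A B : Type u} [CommRing A] [CommRing B] (f : A →+* B)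
    (hf : f.Etale) : ∃ n, SqPres f n := by
  letI := f.toAlgebra
  have h0 : Algebra.IsStandardSmoothOfRelativeDimension 0 A B :=
    Algebra.Etale.iff_isStandardSmoothOfRelativeDimension_zero.mp hf
  obtain ⟨ι, σ, _, _, P, hP⟩ := h0.out
  have hle : Nat.card σ ≤ Nat.card ι :=
    P.toPreSubmersivePresentation.card_relations_le_card_vars_of_isFinite
  have hcard : Nat.card ι = Nat.card σ := by
    have h2 : Nat.card ι - Nat.card σ = 0 := hP
    omega
  exact ⟨Nat.card ι, ⟨P.toPresentation.reindex (Finite.equivFin ι).symm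
    ((finCongr hcard).trans (Finite.equivFin σ).symm)⟩⟩

/-- square presentation + quasi-finite + flat implies syntomic -/
theorem isSyntomic_of_pres_quasiFinite {A S : Type u} [CommRing A] [CommRing S] [Algebra A S]
    (n : ℕ) (P : Algebra.Presentation A S (Fin n) (Fin n)) [Algebra.QuasiFinite A S]
    [Module.Flat A S] : Synt.IsSyntomic A S := by
  refine ⟨inferInstance, P.finitePresentation_of_isFinite, fun pr => ?_⟩
  haveI : Module.Finite pr.asIdeal.ResidueField (pr.asIdeal.Fiber S) :=
    Algebra.QuasiFinite.finite_fiber _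
  exact isLCIOver_of_pres pr.asIdeal.ResidueField (pr.asIdeal.Fiber S) n
    (P.baseChange pr.asIdeal.ResidueField)

/-- an etale map followed by a root tower is syntomic -/
theorem isSyntomic_of_etale_rt (p : ℕ) (hp : 0 < p) {A B C' : Type u} [CommRing A] [CommRing B]
    [CommRing C'] (α : A →+* B) (β : B →+* C') (n : ℕ) (hα : α.Etale) (hβ : RT p n B C' β) :
    @Synt.IsSyntomic A _ C' _ (β.comp α).toAlgebra := by
  obtain ⟨m, hm⟩ := sqPres_of_etale α hα
  obtain ⟨h1, h2, h3⟩ := rt_props p hp n B C' β hβ
  have hsq := sqPres_comp α β m n hm h1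
  letI := α.toAlgebra
  letI := β.toAlgebra
  letI := (β.comp α).toAlgebra
  haveI : IsScalarTower A B C' := IsScalarTower.of_algebraMap_eq (fun x => rfl)
  haveI : Algebra.Etale A B := hα
  haveI : Module.Finite B C' := h2
  haveI : Module.Flat B C' := h3
  haveI : Module.Flat A C' := Module.Flat.trans A B C'
  haveI : Algebra.QuasiFinite A B := inferInstance
  haveI : Algebra.QuasiFinite A C' := Algebra.QuasiFinite.trans A B C'
  obtain ⟨P⟩ := hsq
  exact isSyntomic_of_pres_quasiFinite (n + m) P

end Groth.Agent.Lib.Helper24.QuietSynt
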