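import Mathlib
import Groth.Prelude.Def_RegImm
import Groth.Agent.Lib.Helper24.FrobRootTower
import Groth.Agent.Lib.Helper6.FrobMvPoly

/-!
# The relative Frobenius of a standard smooth algebra is syntomic (ring level)
-/

set_option autoImplicit false
set_option maxHeartbeats 400000

universe u

namespace Groth.Agent.Lib.Helper24.RelFrobSynt

open CategoryTheory CategoryTheory.Limits TensorProduct MvPolynomial
open Groth.Agent.Lib.Helper24.RootTower Groth.Agent.Lib.Helper24.FrobRootTower
open Groth.Agent.Lib.Helper24.RelFrobSmooth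
open Groth.Agent.Lib.Helper21.PBasis

section PO

variable {P Q S D : Type u} [CommRing P] [CommRing Q] [CommRing S] [CommRing D]

theorem isPO_flip {f : P →+* Q} {h : P →+* S} {h' : Q →+* D} {f' : S →+* D}
    (hpo : IsPO f h h' f') : IsPO h f f' h' := by
  obtain ⟨hc, hup⟩ := hpo
  refine ⟨hc.symm, ?_⟩
  intro E _ α β hαβ
  obtain ⟨δ, ⟨h1, h2⟩, hu⟩ := hup E β α hαβ.symm
  exact ⟨δ, ⟨h2, h1⟩, fun δ' hδ' => hu δ' ⟨hδ'.2, hδ'.1⟩⟩

end PO

theorem isPO_of_isPushout {P Q S D : CommRingCat.{u}} {f : P ⟶ Q} {h : P ⟶ S} {h' : Q ⟶ D}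
    {f' : S ⟶ D} (H : IsPushout f h h' f') : IsPO f.hom h.hom h'.hom f'.hom := by
  refine ⟨?_, ?_⟩
  · have h2 := congrArg CommRingCat.Hom.hom H.w
    exact h2.symm
  · intro E _ α β hαβ
    have hw : f ≫ (CommRingCat.ofHom β : Q ⟶ CommRingCat.of E) =
        h ≫ (CommRingCat.ofHom α : S ⟶ CommRingCat.of E) := by
      ext x
      exact (RingHom.congr_fun hαβ x).symm
    refine ⟨(H.desc (CommRingCat.ofHom β : Q ⟶ CommRingCat.of E)
      (CommRingCat.ofHom α : S ⟶ CommRingCat.of E) hw).hom, ⟨?_, ?_⟩, ?_⟩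
    · have := H.inr_desc (CommRingCat.ofHom β : Q ⟶ CommRingCat.of E)
        (CommRingCat.ofHom α : S ⟶ CommRingCat.of E) hw
      exact congrArg CommRingCat.Hom.hom this
    · have := H.inl_desc (CommRingCat.ofHom β : Q ⟶ CommRingCat.of E)
        (CommRingCat.ofHom α : S ⟶ CommRingCat.of E) hw
      exact congrArg CommRingCat.Hom.hom this
    · rintro δ' ⟨h1, h2⟩
      have : (CommRingCat.ofHom δ' : D ⟶ CommRingCat.of E) = H.desc _ _ hw := by
        apply H.hom_ext
        · rw [H.inl_desc]
          ext x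
          exact RingHom.congr_fun h2 x
        · rw [H.inr_desc]
          ext x
          exact RingHom.congr_fun h1 x
      rw [← this]
      rfl

theorem isPO_mvPolynomial {A A' : Type u} [CommRing A] [CommRing A'] (σ : Type) (F : A →+* A') :
    IsPO (MvPolynomial.C : A →+* MvPolynomial σ A) F (MvPolynomial.map F)
      (MvPolynomial.C : A' →+* MvPolynomial σ A') := by
  refine ⟨?_, ?_⟩
  · ext a
    simp
  · intro E _ α β hαβ
    refine ⟨MvPolynomial.eval₂Hom α (fun i => β (X i)), ⟨?_, ?_⟩, ?_⟩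
    · ext a
      simp
    · apply MvPolynomial.ringHom_ext
      · intro a
        have := RingHom.congr_fun hαβ a
        simp only [RingHom.comp_apply] at this
        simp [this]
      · intro i
        simp
    · rintro δ' ⟨h1, h2⟩
      apply MvPolynomial.ringHom_ext
      · intro a
        rw [← h1]
        simp
      · intro i
        rw [← h2]
        simp

theorem qbasis_of_po {P Q S D : Type u} [CommRing P] [CommRing Q] [CommRing S] [CommRing D]
    {f : P →+* Q} {h : P →+* S} {h' : Q →+* D} {f' : S →+* D} (hpo : IsPO f h h' f')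
    {ι : Type} {q : ℕ} (x : ι → Q)
    (hx : @IsQBasis P Q _ _ f.toAlgebra ι q x) :
    @IsQBasis S D _ _ f'.toAlgebra ι q (fun i => h' (x i)) := by
  letI : Algebra P Q := f.toAlgebra
  letI : Algebra P S := h.toAlgebra
  letI : Algebra S D := f'.toAlgebra
  letI : Algebra P D := (f'.comp h).toAlgebra
  haveI : IsScalarTower P S D := IsScalarTower.of_algebraMap_eq (fun _ => rfl)
  let h'' : Q →ₐ[P] D := { h' with commutes' := fun r => (RingHom.congr_fun hpo.1 r).symm }
  let ε : S ⊗[P] Q →ₐ[S] D :=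
    Algebra.TensorProduct.lift (Algebra.ofId S D) h'' (fun _ _ => Commute.all _ _)
  have hε : ∀ (s : S) (y : Q), ε (s ⊗ₜ[P] y) = f' s * h' y := fun s y => by
    rw [Algebra.TensorProduct.lift_tmul]
    rfl
  obtain ⟨δ, ⟨hδ1, hδ2⟩, -⟩ := hpo.2 (S ⊗[P] Q)
    (Algebra.TensorProduct.includeLeftRingHom : S →+* S ⊗[P] Q)
    (Algebra.TensorProduct.includeRight : Q →ₐ[P] S ⊗[P] Q).toRingHom (by
      ext r
      exact Algebra.TensorProduct.tmul_one_eq_one_tmul r)
  obtain ⟨δ', -, huD⟩ := hpo.2 D f' h' hpo.1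
  have hδ1' : ∀ s : S, δ (f' s) = s ⊗ₜ[P] (1 : Q) := fun s => RingHom.congr_fun hδ1 s
  have hδ2' : ∀ y : Q, δ (h' y) = (1 : S) ⊗ₜ[P] y := fun y => RingHom.congr_fun hδ2 y
  have hεδ : ε.toRingHom.comp δ = RingHom.id D := by
    have e1 : ε.toRingHom.comp δ = δ' := by
      apply huD
      constructor
      · ext s
        change ε (δ (f' s)) = f' s
        rw [hδ1', hε, map_one, mul_one]
      · ext y
        change ε (δ (h' y)) = h' y
        rw [hδ2', hε, map_one, one_mul]
    have e2 : RingHom.id D = δ' := huD _ ⟨RingHom.id_comp _, RingHom.id_comp _⟩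
    rw [e1, e2]
  have hδε : ∀ t, δ (ε t) = t := by
    intro t
    induction t using TensorProduct.induction_on with
    | zero => simp
    | tmul s y =>
      rw [hε, map_mul, hδ1', hδ2', Algebra.TensorProduct.tmul_mul_tmul, mul_one, one_mul]
    | add a b ha hb => rw [map_add, map_add, ha, hb]
  let e : S ⊗[P] Q ≃+* D := RingEquiv.ofRingHom ε.toRingHom δ hεδ (RingHom.ext hδε)
  let b : Module.Basis {e : ι →₀ ℕ // ∀ i, e i < q} P Q := Module.Basis.mk hx.li hx.sp.ge
  have hb : ∀ e, (b.baseChange S) e = mon (fun i => (1 : S) ⊗ₜ[P] x i) e.1 := by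
    intro e
    rw [Module.Basis.baseChange_apply, Module.Basis.mk_apply]
    exact map_mon (Algebra.TensorProduct.includeRight : Q →ₐ[P] S ⊗[P] Q).toRingHom x e.1
  have hQ : IsQBasis S q (fun i => (1 : S) ⊗ₜ[P] x i) := by
    constructor
    · have hfun : (fun e : {e : ι →₀ ℕ // ∀ i, e i < q} =>
          mon (fun i => (1 : S) ⊗ₜ[P] x i) e.1) = ⇑(b.baseChange S) :=
        funext (fun e => (hb e).symm)
      rw [hfun]
      exact (b.baseChange S).linearIndependent
    · rw [eq_top_iff, ← (b.baseChange S).span_eq]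
      apply Submodule.span_mono
      rintro _ ⟨e, rfl⟩
      exact ⟨e, (hb e).symm⟩
  have hT := hQ.transport e (RingHom.id S) Function.surjective_id (fun c => by
    change ε (algebraMap S (S ⊗[P] Q) c) = algebraMap S D c
    exact ε.commutes c)
  have hfun : (fun i => h' (x i)) = (⇑e ∘ fun i => (1 : S) ⊗ₜ[P] x i) := by
    funext i
    change h' (x i) = ε ((1 : S) ⊗ₜ[P] x i)
    rw [hε, map_one, one_mul]
  rw [hfun]
  exact hT

section Main

variable (p : ℕ) [Fact p.Prime]

theorem isSyntomic_relFrob {A B B' : Type u} [CommRing A] [CommRing B] [CommRing B']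
    (hpA : (p : A) = 0) (n : ℕ)
    (φ : A →+* B) (F : A →+* A) (u : B →+* B') (v : A →+* B') (hpo : IsPO φ F u v)
    (hF : ∀ a, F a = a ^ p) (ψ : B' →+* B) (hψu : ∀ b, ψ (u b) = b ^ p) (hψv : ψ.comp v = φ)
    (hsm : φ.IsStandardSmoothOfRelativeDimension n) :
    @Synt.IsSyntomic B' _ B _ ψ.toAlgebra := by
  have hp' : p.Prime := Fact.out
  rcases subsingleton_or_nontrivial B with hB | hB
  · haveI : Subsingleton B' := by
      refine subsingleton_of_zero_eq_one ?_
      rw [← map_one u, ← map_zero u, Subsingleton.elim (0 : B) 1]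
    letI : Algebra B' B := ψ.toAlgebra
    refine ⟨inferInstance, ?_, fun pr => ?_⟩
    · let e : B' ≃ₐ[B'] B := AlgEquiv.ofBijective (Algebra.ofId B' B)
        ⟨fun _ _ _ => Subsingleton.elim _ _, fun b => ⟨0, Subsingleton.elim _ _⟩⟩
      exact Algebra.FinitePresentation.equiv e
    · exact (pr.isPrime.ne_top ((Ideal.eq_top_iff_one _).mpr (by
        rw [Subsingleton.elim (1 : B') 0]; exact zero_mem _))).elim
  · haveI : Nontrivial A := φ.domain_nontrivial
    haveI : CharP A p := ringChar.of_eq (CharP.ringChar_of_prime_eq_zero hp' hpA)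
    haveI : CharP B p := ringChar.of_eq (CharP.ringChar_of_prime_eq_zero hp' (by
      rw [← map_natCast φ, hpA, map_zero]))
    have hFeq : F = frobenius A p := RingHom.ext (fun a => by rw [hF, frobenius_def])
    subst hFeq
    obtain ⟨γ, hγC, hγet⟩ := hsm.exists_etale_mvPolynomial
    let γ' : MvPolynomial (Fin n) A →+* B' := MvPolynomial.eval₂Hom v (fun i => u (γ (X i)))
    have hγ'C : γ'.comp MvPolynomial.C = v := by
      ext a
      simp [γ']
    let M : MvPolynomial (Fin n) A →+* MvPolynomial (Fin n) A := MvPolynomial.map (frobenius A p)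
    let Φ' : MvPolynomial (Fin n) A →+* MvPolynomial (Fin n) A :=
      (Φ (R := A) (σ := Fin n) p Finset.univ).toRingHom
    have hcomm1 : γ'.comp M = u.comp γ := by
      apply MvPolynomial.ringHom_ext
      · intro a
        have h1 := RingHom.congr_fun hpo.1 a
        have h2 := RingHom.congr_fun hγC a
        simp only [RingHom.comp_apply] at h1 h2
        simp only [RingHom.comp_apply, M, γ', MvPolynomial.map_C, MvPolynomial.coe_eval₂Hom,
          MvPolynomial.eval₂_C]
        rw [h1, h2]
      · intro i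
        simp [M, γ']
    have hleft1 := isPO_mvPolynomial (Fin n) (frobenius A p)
    have houter1 : IsPO (γ.comp MvPolynomial.C) (frobenius A p) u (γ'.comp MvPolynomial.C) := by
      rw [hγC, hγ'C]
      exact hpo
    have sq1 : IsPO γ M u γ' := po_cancel houter1 hleft1 hcomm1
    have hΦM : Φ'.comp M = frobenius (MvPolynomial (Fin n) A) p := by
      apply RingHom.ext
      intro y
      rw [frobenius_def]
      exact Φ_univ_map_frobenius p A (Fin n) y
    have hψu' : ψ.comp u = frobenius B p :=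
      RingHom.ext (fun b => by rw [RingHom.comp_apply, hψu, frobenius_def])
    have houter2 : IsPO (Φ'.comp M) γ γ (ψ.comp u) := by
      rw [hΦM, hψu']
      letI : Algebra (MvPolynomial (Fin n) A) B := γ.toAlgebra
      haveI : Algebra.Etale (MvPolynomial (Fin n) A) B := hγet
      exact po_frobenius_of_etale p (MvPolynomial (Fin n) A) B
    have hcomm2 : ψ.comp γ' = γ.comp Φ' := by
      apply MvPolynomial.ringHom_ext
      · intro a
        have h1 := RingHom.congr_fun hψv a
        have h2 := RingHom.congr_fun hγC a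
        simp only [RingHom.comp_apply] at h1 h2
        simp only [RingHom.comp_apply, γ', Φ', MvPolynomial.coe_eval₂Hom, MvPolynomial.eval₂_C]
        change ψ (v a) = γ (Φ (R := A) (σ := Fin n) p Finset.univ (MvPolynomial.C a))
        rw [Φ_C, h1, h2]
      · intro i
        simp only [RingHom.comp_apply, γ', Φ', MvPolynomial.coe_eval₂Hom, MvPolynomial.eval₂_X]
        change ψ (u (γ (X i))) = γ (Φ (R := A) (σ := Fin n) p Finset.univ (X i))
        rw [Φ_X, if_pos (Finset.mem_univ i), hψu, map_pow]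
    have sq2 : IsPO Φ' γ' γ ψ := po_cancel houter2 (isPO_flip sq1) hcomm2
    have hQ0 := @Groth.Agent.Lib.Helper6.FrobMvPoly.isQBasis_frob A _ n p hp'.pos
      (Φ (R := A) (σ := Fin n) p Finset.univ) (fun i => by
        rw [Φ_X, if_pos (Finset.mem_univ i)])
      (MvPolynomial (Fin n) A) _ Φ'.toAlgebra (RingEquiv.refl _) (fun r => rfl)
    have hQ := qbasis_of_po sq2 (fun i => (X i : MvPolynomial (Fin n) A)) hQ0
    exact (@Groth.Agent.Lib.Helper6.FrobMvPoly.isSyntomic_of_isQBasis B' B _ _ ψ.toAlgebra n p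
      hp'.pos _ hQ (fun i => u (γ (X i))) (fun i => hψu _)).1

end Main

end Groth.Agent.Lib.Helper24.RelFrobSynt
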