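import Mathlib
import Groth.Prelude.Def_RegImm
import Groth.Prelude.Def_Frob
import Groth.Agent.Lib.Helper24.RelFrobSynt

/-!
# The relative Frobenius of a smooth morphism of relative dimension `d` is syntomic
-/

set_option autoImplicit false
set_option maxHeartbeats 400000

universe u

namespace Groth.Agent.Lib.Helper24.RelFrobSyntSch

open CategoryTheory CategoryTheory.Limits AlgebraicGeometry FrobSch
open Groth.Agent.Lib.Helper24.RootTower Groth.Agent.Lib.Helper24.RelFrobSynt

theorem frob_appLE_apply (X : Scheme.{u}) (p : ℕ) [Fact p.Prime] [IsCharP X p] (g : X ⟶ X)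
    (hg : g = frob X p) (U : X.Opens) (h : U ≤ g ⁻¹ᵁ U) (s : Γ(X, U)) :
    (g.appLE U U h).hom s = s ^ p := by
  subst hg
  have e : (frob X p).appLE U U h = (frob X p).app U := Scheme.Hom.appLE_eq_app (frob X p)
  rw [e]
  rfl

theorem appLE_congr_hom {X Y : Scheme.{u}} {g f : X ⟶ Y} (hg : g = f) (W : Y.Opens) (U : X.Opens)
    (h : U ≤ g ⁻¹ᵁ W) (h' : U ≤ f ⁻¹ᵁ W) : g.appLE W U h = f.appLE W U h' := by
  subst hg
  rfl

theorem main (p : ℕ) [Fact p.Prime] (S X : Scheme.{u}) [IsCharP S p] (f : X ⟶ S) (d : ℕ)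
    [SmoothOfRelativeDimension d f] : Synt.IsSyntomicMor (relFrob f p) := by
  haveI : IsCharP X p := IsCharP.of_hom f p
  intro x
  obtain ⟨W, hW, U, hU, hxU, e, hsm⟩ :=
    SmoothOfRelativeDimension.exists_isStandardSmoothOfRelativeDimension (n := d) (f := f) x
  have H : IsPullback (pullback.fst f (frob S p)) (pullback.snd f (frob S p)) f (frob S p) :=
    IsPullback.of_hasPullback _ _
  have hUST : W ≤ frob S p ⁻¹ᵁ W := le_rfl
  obtain ⟨V, hUY⟩ : ∃ V : (frobTwist f p).Opens,
      V = pullback.fst f (frob S p) ⁻¹ᵁ U ⊓ pullback.snd f (frob S p) ⁻¹ᵁ W := ⟨_, rfl⟩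
  have hV : IsAffineOpen V := by
    have : IsAffine (W : Scheme) := hW
    have : IsAffine (U : Scheme) := hU
    exact .of_isIso (Scheme.Hom.isPullback_resLE H hUST e hUY).isoPullback.hom
  have hiso := isIso_pushoutSection_of_isAffineOpen H hUST e hUY hW hW hU
  have hpush := (isIso_pushoutSection_iff H hUST e hUY).mp hiso
  have hpo := isPO_of_isPushout hpush
  have hUV : U ≤ relFrob f p ⁻¹ᵁ V := by
    intro y hy
    have h1 : pullback.fst f (frob S p) (relFrob f p y) ∈ U := by
      have : pullback.fst f (frob S p) (relFrob f p y) = y := by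
        rw [← Scheme.Hom.comp_apply, relFrob_fst]
        rfl
      rw [this]
      exact hy
    have h2 : pullback.snd f (frob S p) (relFrob f p y) ∈ W := by
      have : pullback.snd f (frob S p) (relFrob f p y) = f y := by
        rw [← Scheme.Hom.comp_apply, relFrob_snd]
      rw [this]
      exact e hy
    rw [hUY]
    exact And.intro h1 h2
  refine ⟨⟨U, hU⟩, ⟨V, hV⟩, hUV, hxU, ?_⟩
  refine isSyntomic_relFrob p (FrobSch.natCast_eq_zero_app S p W) d _ _ _ _ hpo ?_ _ ?_ ?_ hsm
  · intro a
    exact frob_appLE_apply S p _ rfl W hUST a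
  · intro b
    have h2 : ((pullback.fst f (frob S p)).appLE U V (by simp [hUY]) ≫
        (relFrob f p).appLE V U hUV).hom b = b ^ p := by
      rw [Scheme.Hom.appLE_comp_appLE]
      exact frob_appLE_apply X p _ (relFrob_fst f p) U _ b
    exact h2
  · have h2 : (pullback.snd f (frob S p)).appLE W V (by simp [hUY]) ≫
        (relFrob f p).appLE V U hUV = f.appLE W U e := by
      rw [Scheme.Hom.appLE_comp_appLE]
      exact appLE_congr_hom (relFrob_snd f p) W U _ e
    exact congrArg CommRingCat.Hom.hom h2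

end Groth.Agent.Lib.Helper24.RelFrobSyntSch
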