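import Mathlib
import Groth.Prelude.Def_RegImm
import Groth.Prelude.Def_W4c2gaugesfzipsQuiet
import Groth.Agent.Lib.Helper24.QuietSynt
import Groth.Agent.Lib.Helper24.RelFrobSyntSch
import Groth.Agent.Lib.Helper6.SyntCover

/-!
Scheme part of "quasi-etale implies syntomic".
-/

set_option autoImplicit false
set_option maxHeartbeats 400000
universe u

namespace Groth.Agent.Lib.Helper24.QuietSyntSch

open CategoryTheory AlgebraicGeometry Quiet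
open Groth.Agent.Lib.Helper24.RootTower
open Groth.Agent.Lib.Helper24.QuietSynt

theorem main (p : ℕ) (hp : 0 < p) {X Y : Scheme.{u}} (f : Y ⟶ X) (hf : Quiet.IsQuiet p f) :
    Synt.IsSyntomicMor f := by
  intro y
  obtain ⟨V, Y', r, e, hyV, hr, he, hfac⟩ := hf y
  haveI : Etale e := he
  obtain ⟨z, hz⟩ : ∃ z : Y', z = r ⟨y, hyV⟩ := ⟨_, rfl⟩
  obtain ⟨U', hzU', hrU', n, hn⟩ := hr z
  obtain ⟨W, hW, hezW, -⟩ := TopologicalSpace.Opens.isBasis_iff_nbhd.mp X.isBasis_affineOpens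
    (show e z ∈ (⊤ : X.Opens) from trivial)
  obtain ⟨s, hsle, hzs⟩ := U'.2.exists_basicOpen_le (V := e ⁻¹ᵁ W) ⟨z, hezW⟩ hzU'
  have hD : IsAffineOpen (Y'.basicOpen s) := U'.2.basicOpen s
  have hDU' : Y'.basicOpen s ≤ U'.1 := Y'.basicOpen_le s
  have eT : r ⁻¹ᵁ Y'.basicOpen s = (V : Scheme.{u}).basicOpen (r.app U'.1 s) :=
    Scheme.preimage_basicOpen r s
  have hT₂ : IsAffineOpen (r ⁻¹ᵁ Y'.basicOpen s) := eT ▸ hrU'.basicOpen _
  have hT₂le : r ⁻¹ᵁ Y'.basicOpen s ≤ r ⁻¹ᵁ U'.1 := fun t ht => hDU' ht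
  have hU : IsAffineOpen (V.ι ''ᵁ (r ⁻¹ᵁ Y'.basicOpen s)) := hT₂.image_of_isOpenImmersion V.ι
  have hyU : y ∈ V.ι ''ᵁ (r ⁻¹ᵁ Y'.basicOpen s) := by
    refine ⟨⟨y, hyV⟩, ?_, rfl⟩
    show r ⟨y, hyV⟩ ∈ Y'.basicOpen s
    rw [← hz]
    exact hzs
  have hUW : V.ι ''ᵁ (r ⁻¹ᵁ Y'.basicOpen s) ≤ f ⁻¹ᵁ W := by
    rintro _ ⟨t, ht, rfl⟩
    show f (V.ι t) ∈ W
    have h1 : f (V.ι t) = e (r t) := by
      rw [← Scheme.Hom.comp_apply, ← hfac, Scheme.Hom.comp_apply]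
    rw [h1]
    exact hsle ht
  refine ⟨⟨_, hU⟩, ⟨W, hW⟩, hUW, hyU, ?_⟩
  -- the ring maps
  have hα : (e.appLE W (Y'.basicOpen s) hsle).hom.Etale :=
    HasRingHomProperty.appLE (P := @Etale) e inferInstance ⟨W, hW⟩ ⟨_, hD⟩ hsle
  have hrt0 : RT p n Γ(Y', U'.1) Γ(V, r ⁻¹ᵁ U'.1) (r.app U'.1).hom := by
    letI := (r.app U'.1).hom.toAlgebra
    exact rt_of_isRootTower p n _ _ hn
  have hcomm : (r.app (Y'.basicOpen s)).hom.comp (Y'.presheaf.map (homOfLE hDU').op).hom =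
      ((V : Scheme.{u}).presheaf.map (homOfLE hT₂le).op).hom.comp (r.app U'.1).hom :=
    congrArg CommRingCat.Hom.hom (r.naturality (homOfLE hDU').op)
  have hS := U'.2.isLocalization_of_eq_basicOpen s (homOfLE hDU') rfl
  have hDl := hrU'.isLocalization_of_eq_basicOpen (r.app U'.1 s) (homOfLE hT₂le) eT
  have hpo := isPO_of_isLocalization_away (r.app U'.1).hom (Y'.presheaf.map (homOfLE hDU').op).hom
    ((V : Scheme.{u}).presheaf.map (homOfLE hT₂le).op).hom (r.app (Y'.basicOpen s)).hom s hcomm hS hDl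
  have hβ : RT p n _ _ (r.app (Y'.basicOpen s)).hom :=
    rt_of_po p n _ _ _ _ _ _ _ _ hrt0 hpo
  have hsynt := isSyntomic_of_etale_rt p hp (e.appLE W (Y'.basicOpen s) hsle).hom
    (r.app (Y'.basicOpen s)).hom n hα hβ
  have key : f.appLE W (V.ι ''ᵁ (r ⁻¹ᵁ Y'.basicOpen s)) hUW ≫
      (V.ι.appIso (r ⁻¹ᵁ Y'.basicOpen s)).hom =
      e.appLE W (Y'.basicOpen s) hsle ≫ r.app (Y'.basicOpen s) := by
    rw [Scheme.Hom.appIso_hom', Scheme.Hom.appLE_comp_appLE, Scheme.Hom.app_eq_appLE,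
      Scheme.Hom.appLE_comp_appLE]
    exact (Groth.Agent.Lib.Helper24.RelFrobSyntSch.appLE_congr_hom hfac W _ _ _).symm
  have key2 : f.appLE W (V.ι ''ᵁ (r ⁻¹ᵁ Y'.basicOpen s)) hUW =
      (e.appLE W (Y'.basicOpen s) hsle ≫ r.app (Y'.basicOpen s)) ≫
        (V.ι.appIso (r ⁻¹ᵁ Y'.basicOpen s)).inv := by
    rw [← key, Category.assoc, Iso.hom_inv_id, Category.comp_id]
  letI := ((r.app (Y'.basicOpen s)).hom.comp (e.appLE W (Y'.basicOpen s) hsle).hom).toAlgebra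
  exact Groth.Agent.Lib.Helper6.SyntCover.isSyntomic_toAlgebra_of_ringEquiv
    (f.appLE W (V.ι ''ᵁ (r ⁻¹ᵁ Y'.basicOpen s)) hUW).hom
    (V.ι.appIso (r ⁻¹ᵁ Y'.basicOpen s)).symm.commRingCatIsoToRingEquiv
    (fun x => congrArg (fun g : Γ(X, W) ⟶ Γ(Y, V.ι ''ᵁ (r ⁻¹ᵁ Y'.basicOpen s)) => g.hom x) key2)
    hsynt

end Groth.Agent.Lib.Helper24.QuietSyntSch
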