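import Mathlib
import Groth.Agent.Lib.Helper24.RamIdxEquiv

set_option autoImplicit false
set_option maxHeartbeats 400000
set_option linter.style.haveILetI false
set_option linter.unusedSectionVars false
set_option linter.unusedVariables false

/-!
# Ramification index of `Ω ⊗[k] R` over a local ring `R`: reduction to the fibre ring

Sub-lemma (RB1) for helper22's S6556.
-/

universe u

open TensorProduct IsLocalRing

namespace Groth.Agent.Lib.Helper24.RamIdxTensor

open Groth.Agent.Lib.Helper24.RamIdxEquiv

/-- For a surjection `π : A → B` and a prime `q ⊇ ker π` of `A`, the quotient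
`A_q ⧸ (ker π) A_q` is the localization of `B` at the prime `π(q)`; in particular the lengths
agree. -/
theorem length_quotient_localization_eq {A B : Type u} [CommRing A] [CommRing B] (π : A →+* B)
    (hπ : Function.Surjective π) (q : Ideal A) [q.IsPrime] (hkerq : RingHom.ker π ≤ q)
    (Q : Ideal B) [Q.IsPrime] (hQ : Q = q.map π) :
    Module.length (Localization.AtPrime q)
      (Localization.AtPrime q ⧸ (RingHom.ker π).map (algebraMap A (Localization.AtPrime q))) =
    Module.length (Localization.AtPrime Q) (Localization.AtPrime Q) := by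
  subst hQ
  have hcomap : (q.map π).comap π = q := by
    rw [Ideal.comap_map_of_surjective π hπ, ← RingHom.ker_eq_comap_bot]
    exact sup_eq_left.mpr hkerq
  set I : Ideal (Localization.AtPrime q) :=
    (RingHom.ker π).map (algebraMap A (Localization.AtPrime q)) with hI
  let ψ0 : A →+* Localization.AtPrime q ⧸ I :=
    (Ideal.Quotient.mk I).comp (algebraMap A (Localization.AtPrime q))
  have hψ0 : RingHom.ker π ≤ RingHom.ker ψ0 := by
    intro r hr
    rw [RingHom.mem_ker]
    change Ideal.Quotient.mk I (algebraMap A (Localization.AtPrime q) r) = 0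
    rw [Ideal.Quotient.eq_zero_iff_mem]
    exact Ideal.mem_map_of_mem _ hr
  let φ : B →+* Localization.AtPrime q ⧸ I := RingHom.liftOfSurjective π hπ ⟨ψ0, hψ0⟩
  have hφ : ∀ t, φ (π t) = ψ0 t := fun t =>
    RingHom.liftOfRightInverse_comp_apply π _ _ ⟨ψ0, hψ0⟩ t
  letI : Algebra B (Localization.AtPrime q ⧸ I) := φ.toAlgebra
  have hloc : IsLocalization (q.primeCompl.map π) (Localization.AtPrime q ⧸ I) :=
    IsLocalization.of_surjective q.primeCompl (Localization.AtPrime q) π hπ (Ideal.Quotient.mk I)
      Ideal.Quotient.mk_surjective (by ext t; exact (hφ t).symm) (by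
        rw [Ideal.mk_ker])
  have hM : q.primeCompl.map π = (q.map π).primeCompl := by
    ext y
    constructor
    · rintro ⟨t, ht, rfl⟩
      intro hmem
      have : t ∈ (q.map π).comap π := hmem
      rw [hcomap] at this
      exact ht this
    · intro hy
      obtain ⟨t, rfl⟩ := hπ y
      refine ⟨t, ?_, rfl⟩
      intro h
      exact hy (Ideal.mem_map_of_mem _ h)
  haveI : IsLocalization.AtPrime (Localization.AtPrime q ⧸ I) (q.map π) := by
    rw [hM] at hloc
    exact hloc
  let E : Localization.AtPrime (q.map π) ≃ₐ[B] Localization.AtPrime q ⧸ I :=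
    IsLocalization.algEquiv (q.map π).primeCompl _ _
  rw [Module.length_eq_of_surjective (S := Localization.AtPrime q)
      (R := Localization.AtPrime q ⧸ I) (M := Localization.AtPrime q ⧸ I)
      Ideal.Quotient.mk_surjective,
    ← length_self_eq_of_ringEquiv E.toRingEquiv]

attribute [local instance] Algebra.TensorProduct.rightAlgebra in
/-- (RB1) reduction of the ramification index of a prime `q` of `Ω ⊗[k] R` over the local ring
`R` to the lengths of the local rings of the fibre ring `Ω ⊗[k] κ(R)`. -/
theorem ramificationIdx_tensor_of (k Ω R : Type u) [Field k] [Field Ω] [Algebra k Ω] [CommRing R]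
    [IsLocalRing R] [Algebra k R] (n : ℕ)
    (hRF : ∀ (Q : Ideal (Ω ⊗[k] ResidueField R)) [Q.IsPrime],
      Module.length (Localization.AtPrime Q) (Localization.AtPrime Q) = (n : ℕ∞))
    (q : Ideal (Ω ⊗[k] R)) [q.IsPrime] (hq : q.under R = maximalIdeal R) :
    Ideal.ramificationIdx q R = n := by
  let g : R →ₐ[k] ResidueField R := IsScalarTower.toAlgHom k R (ResidueField R)
  have hg : Function.Surjective g := IsLocalRing.residue_surjective
  let π : Ω ⊗[k] R →ₐ[k] Ω ⊗[k] ResidueField R := Algebra.TensorProduct.map (AlgHom.id k Ω) g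
  have hπ : Function.Surjective (π : Ω ⊗[k] R →+* Ω ⊗[k] ResidueField R) :=
    Algebra.TensorProduct.map_surjective (AlgHom.id k Ω) g Function.surjective_id hg
  have hker : RingHom.ker (π : Ω ⊗[k] R →+* Ω ⊗[k] ResidueField R) =
      (maximalIdeal R).map (algebraMap R (Ω ⊗[k] R)) := by
    have h1 := Algebra.TensorProduct.lTensor_ker (A := Ω) g hg
    have h2 : RingHom.ker g = maximalIdeal R := IsLocalRing.ker_residue (R := R)
    rw [h2] at h1
    exact h1
  have hkerq : RingHom.ker (π : Ω ⊗[k] R →+* Ω ⊗[k] ResidueField R) ≤ q := by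
    rw [hker, Ideal.map_le_iff_le_comap, ← Ideal.under_def, hq]
  haveI hQ : (q.map (π : Ω ⊗[k] R →+* Ω ⊗[k] ResidueField R)).IsPrime :=
    Ideal.map_isPrime_of_surjective (f := (π : Ω ⊗[k] R →+* Ω ⊗[k] ResidueField R)) hπ hkerq
  have key := length_quotient_localization_eq (π : Ω ⊗[k] R →+* Ω ⊗[k] ResidueField R) hπ q hkerq
    (q.map (π : Ω ⊗[k] R →+* Ω ⊗[k] ResidueField R)) rfl
  rw [hRF _, hker, Ideal.map_map, ← IsScalarTower.algebraMap_eq] at key
  rw [Ideal.ramificationIdx_def, hq, key]
  simp

end Groth.Agent.Lib.Helper24.RamIdxTensor
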