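import Mathlib
import Groth.Prelude
import Groth.Agent.Lib.Helper23.T2A

/-!
# G1 (for S19496): cohomology of a finite coproduct is generated by the summands
-/
set_option autoImplicit false
set_option maxHeartbeats 400000
set_option linter.style.haveILetI false
set_option linter.unusedSectionVars false
set_option linter.unusedVariables false
universe u
open CategoryTheory CategoryTheory.Limits AlgebraicGeometry

noncomputable section

namespace Groth.Agent.Lib.Helper24.RelNefG1

open Groth.Agent.Lib.Helper23.T2 Groth.Agent.Lib.Helper13 Groth.Agent.Lib.Helper13.SerreCrit1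

variable {X : Scheme.{u}}

lemma Hmap_add' {M N : X.Modules} (φ ψ : M ⟶ N) (n : ℕ) (x : Coh.HH X M n) :
    Hmap (φ + ψ) n x = Hmap φ n x + Hmap ψ n x := by
  rw [Hmap_apply, Hmap_apply, Hmap_apply, Functor.map_add]
  exact Sheaf.H.map_add_apply _ _ x

lemma Hmap_sum' {M N : X.Modules} {ι : Type*} (s : Finset ι) (φ : ι → (M ⟶ N)) (n : ℕ)
    (x : Coh.HH X M n) : Hmap (∑ i ∈ s, φ i) n x = ∑ i ∈ s, Hmap (φ i) n x := by
  classical
  induction s using Finset.induction_on with
  | empty => rw [Finset.sum_empty, Finset.sum_empty]; exact Hmap_zero n x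
  | insert a s ha ih => rw [Finset.sum_insert ha, Finset.sum_insert ha, Hmap_add', ih]

/-- the identity of a finite coproduct of copies of `L` is the sum of the `π_i ≫ ι_i`. -/
lemma id_eq_sum (L : X.Modules) (r : ℕ) :
    𝟙 (∐ fun _ : Fin r => L) =
      ∑ i : Fin r, Sigma.desc (fun j => (Pi.single i (𝟙 L) : Fin r → (L ⟶ L)) j) ≫
        Sigma.ι (fun _ : Fin r => L) i := by
  classical
  apply Sigma.hom_ext
  intro j
  rw [Category.comp_id, Preadditive.comp_sum]
  rw [Finset.sum_eq_single j]
  · rw [← Category.assoc, Sigma.ι_desc, Pi.single_eq_same, Category.id_comp]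
  · intro i _ hij
    rw [← Category.assoc, Sigma.ι_desc, Pi.single_eq_of_ne (Ne.symm hij), zero_comp]
  · intro h
    exact absurd (Finset.mem_univ j) h

/-- (G1) cohomology of a finite coproduct is generated by the summands. -/
theorem G1_exists_sum {X : Scheme.{u}} (L : X.Modules) (r : ℕ) (p : ℕ)
    (z : Coh.HH X (∐ fun _ : Fin r => L) p) :
    ∃ zs : Fin r → Coh.HH X L p, z = ∑ i, Hmap (Sigma.ι (fun _ : Fin r => L) i) p (zs i) := by
  classical
  refine ⟨fun i => Hmap (Sigma.desc (fun j => (Pi.single i (𝟙 L) : Fin r → (L ⟶ L)) j)) p z, ?_⟩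
  have h1 : z = Hmap (𝟙 (∐ fun _ : Fin r => L)) p z := (Hmap_id _ p z).symm
  rw [id_eq_sum L r, Hmap_sum'] at h1
  refine h1.trans ?_
  refine Finset.sum_congr rfl ?_
  intro i _
  rw [Hmap_comp]

end Groth.Agent.Lib.Helper24.RelNefG1
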