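import Mathlib

set_option autoImplicit false
set_option maxHeartbeats 400000
set_option linter.style.haveILetI false
set_option linter.unusedSectionVars false
set_option linter.unusedVariables false

/-!
# A section with `pr₁^* s = pr₂^* s` takes values in the residue fields of the base

Sub-lemma (H7) for helper9's S13113 (with a private copy of H6).
-/

universe u

open CategoryTheory CategoryTheory.Limits AlgebraicGeometry TopologicalSpace
open scoped TensorProduct

namespace Groth.Agent.Lib.Helper24.ResEval

/-- (H6, private copy) faithfully flat descent for elements of a field extension. -/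
theorem mem_range_of_tmul_one_eq_one_tmul {K L : Type u} [Field K] [Field L] [Algebra K L]
    (b : L) (hb : b ⊗ₜ[K] (1 : L) = (1 : L) ⊗ₜ[K] b) : b ∈ Set.range (algebraMap K L) := by
  obtain ⟨φ, hφ⟩ := LinearMap.exists_leftInverse_of_injective (Algebra.linearMap K L)
    (by rw [LinearMap.ker_eq_bot]; exact (algebraMap K L).injective)
  have h1 : φ 1 = 1 := by
    have := LinearMap.congr_fun hφ 1
    simpa using this
  have h2 := congrArg (fun t => TensorProduct.lid K L (φ.rTensor L t)) hb
  simp only [LinearMap.rTensor_tmul, TensorProduct.lid_tmul, h1, one_smul] at h2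
  refine ⟨φ b, ?_⟩
  rw [Algebra.algebraMap_eq_smul_one]
  exact h2

theorem fromSpecResidueField_appTop {Y : Scheme.{u}} (y : Y) :
    (Y.fromSpecResidueField y).appTop ≫ (Scheme.ΓSpecIso (Y.residueField y)).hom =
      Y.Γevaluation y := by
  unfold Scheme.fromSpecResidueField
  rw [Scheme.Hom.comp_appTop, Scheme.fromSpecStalk_appTop]
  simp only [Category.assoc]
  rw [Scheme.ΓSpecIso_naturality]
  simp
  rfl

/-- (H7) -/
theorem exists_evaluation_eq {X Y : Scheme.{u}} (π : Y ⟶ X) (s : Γ(Y, ⊤))
    (hs : (pullback.fst π π).appTop s = (pullback.snd π π).appTop s) (y : Y) :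
    ∃ c : X.residueField (π y), (π.residueFieldMap y).hom c = (Y.Γevaluation y).hom s := by
  letI : Algebra (X.residueField (π y)) (Y.residueField y) :=
    (π.residueFieldMap y).hom.toAlgebra
  let i₁ : Y.residueField y →+* (Y.residueField y ⊗[X.residueField (π y)] Y.residueField y) :=
    Algebra.TensorProduct.includeLeftRingHom
  let i₂ : Y.residueField y →+* (Y.residueField y ⊗[X.residueField (π y)] Y.residueField y) :=
    (Algebra.TensorProduct.includeRight :
      Y.residueField y →ₐ[X.residueField (π y)] _).toRingHom
  let a₁ : Spec (CommRingCat.of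
      (Y.residueField y ⊗[X.residueField (π y)] Y.residueField y)) ⟶ Y :=
    Spec.map (CommRingCat.ofHom i₁) ≫ Y.fromSpecResidueField y
  let a₂ : Spec (CommRingCat.of
      (Y.residueField y ⊗[X.residueField (π y)] Y.residueField y)) ⟶ Y :=
    Spec.map (CommRingCat.ofHom i₂) ≫ Y.fromSpecResidueField y
  have hcomp : a₁ ≫ π = a₂ ≫ π := by
    simp only [a₁, a₂, Category.assoc, ← Scheme.Hom.SpecMap_residueFieldMap_fromSpecResidueField]
    rw [← Spec.map_comp_assoc, ← Spec.map_comp_assoc]
    congr 2
    ext c
    change i₁ (algebraMap (X.residueField (π y)) (Y.residueField y) c) =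
      i₂ (algebraMap (X.residueField (π y)) (Y.residueField y) c)
    have e1 : i₁ (algebraMap (X.residueField (π y)) (Y.residueField y) c) =
        algebraMap (X.residueField (π y)) _ c :=
      (Algebra.TensorProduct.includeLeft (R := X.residueField (π y))
        (S := X.residueField (π y)) (A := Y.residueField y) (B := Y.residueField y)).commutes c
    have e2 : i₂ (algebraMap (X.residueField (π y)) (Y.residueField y) c) =
        algebraMap (X.residueField (π y)) _ c :=
      (Algebra.TensorProduct.includeRight (R := X.residueField (π y))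
        (A := Y.residueField y) (B := Y.residueField y)).commutes c
    rw [e1, e2]
  have h1 : a₁.appTop s = a₂.appTop s := by
    obtain ⟨m, hm1, hm2⟩ : ∃ m, m ≫ pullback.fst π π = a₁ ∧ m ≫ pullback.snd π π = a₂ :=
      ⟨pullback.lift a₁ a₂ hcomp, pullback.lift_fst _ _ _, pullback.lift_snd _ _ _⟩
    rw [← hm1, ← hm2, Scheme.Hom.comp_appTop, Scheme.Hom.comp_appTop]
    simp only [CommRingCat.comp_apply]
    rw [hs]
  have he : (Scheme.ΓSpecIso (Y.residueField y)).hom ((Y.fromSpecResidueField y).appTop s) =
      (Y.Γevaluation y).hom s := by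
    rw [← fromSpecResidueField_appTop y]
    rfl
  have key : ∀ (i : Y.residueField y →+*
        (Y.residueField y ⊗[X.residueField (π y)] Y.residueField y)),
      (Scheme.ΓSpecIso (CommRingCat.of
        (Y.residueField y ⊗[X.residueField (π y)] Y.residueField y))).hom
        ((Spec.map (CommRingCat.ofHom i) ≫ Y.fromSpecResidueField y).appTop s) =
      i ((Y.Γevaluation y).hom s) := by
    intro i
    rw [Scheme.Hom.comp_appTop, ← he]
    have := Scheme.ΓSpecIso_naturality (CommRingCat.ofHom i)
    exact congrArg (fun f => f.hom ((Y.fromSpecResidueField y).appTop s)) this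
  have h2 : i₁ ((Y.Γevaluation y).hom s) = i₂ ((Y.Γevaluation y).hom s) := by
    rw [← key i₁, ← key i₂]
    exact congrArg _ h1
  obtain ⟨c, hc⟩ := mem_range_of_tmul_one_eq_one_tmul
    (K := X.residueField (π y)) (L := Y.residueField y) ((Y.Γevaluation y).hom s) h2
  exact ⟨c, hc⟩

end Groth.Agent.Lib.Helper24.ResEval
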