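import Mathlib
import Groth.Agent.Lib.Helper27.ValMK

/-!
Semi-valuation rings, abstractly: `O → A` injective with the "pivot" property.  An `O`-module `M`
with `M ↪ A ⊗ M` and `A ⊗ M` flat over `A` is flat over `O`.
-/

set_option autoImplicit false
set_option maxHeartbeats 400000
set_option linter.style.haveILetI false
universe u

namespace Groth.Agent.Lib.Helper24.SemiVal

open TensorProduct

/-- Pivot property of `O → A`: any finite family of elements of `A` either lies in the image of `O`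
or can be rescaled by an element of `O` (inverse of one of the members) to lie in the image. -/
def Pivot (O A : Type u) [CommRing O] [CommRing A] [Algebra O A] : Prop :=
  ∀ (ι : Type) [Fintype ι] (b : ι → A), (∀ i, b i ∈ (algebraMap O A).range) ∨
    ∃ (i₀ : ι) (w : O), algebraMap O A w * b i₀ = 1 ∧
      ∀ i, algebraMap O A w * b i ∈ (algebraMap O A).range

variable {O A : Type u} [CommRing O] [CommRing A] [Algebra O A]

lemma Pivot.exists_unit (hP : Pivot O A) (a : A) :
    ∃ w : O, IsUnit (algebraMap O A w) ∧ algebraMap O A w * a ∈ (algebraMap O A).range := by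
  rcases hP (Fin 2) ![1, a] with h | ⟨i₀, w, hw1, hw2⟩
  · exact ⟨1, by simp, by simpa using h 1⟩
  · exact ⟨w, IsUnit.of_mul_eq_one _ hw1, by simpa using hw2 1⟩

lemma Pivot.exists_smul_eq_tmul (hP : Pivot O A) {M : Type u} [AddCommGroup M] [Module O M]
    (z : A ⊗[O] M) :
    ∃ w : O, IsUnit (algebraMap O A w) ∧ ∃ m : M, w • z = (1 : A) ⊗ₜ[O] m := by
  induction z using TensorProduct.induction_on with
  | zero => exact ⟨1, by simp, 0, by simp⟩
  | tmul a m =>
    obtain ⟨w, hw, o, ho⟩ := hP.exists_unit a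
    refine ⟨w, hw, o • m, ?_⟩
    rw [TensorProduct.smul_tmul', Algebra.smul_def, ← ho, Algebra.algebraMap_eq_smul_one,
      TensorProduct.smul_tmul]
  | add z₁ z₂ h₁ h₂ =>
    obtain ⟨w₁, hw₁, m₁, e₁⟩ := h₁
    obtain ⟨w₂, hw₂, m₂, e₂⟩ := h₂
    refine ⟨w₁ * w₂, by rw [map_mul]; exact hw₁.mul hw₂, w₂ • m₁ + w₁ • m₂, ?_⟩
    have a1 : (w₁ * w₂) • z₁ = w₂ • (w₁ • z₁) := by rw [mul_comm, mul_smul]
    have a2 : (w₁ * w₂) • z₂ = w₁ • (w₂ • z₂) := mul_smul _ _ _
    rw [smul_add, a1, a2, e₁, e₂, TensorProduct.tmul_add, TensorProduct.tmul_smul,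
      TensorProduct.tmul_smul]

lemma Pivot.exists_smul_eq_tmul_family (hP : Pivot O A) {M : Type u} [AddCommGroup M] [Module O M] :
    ∀ {k : ℕ} (y : Fin k → A ⊗[O] M),
    ∃ w : O, IsUnit (algebraMap O A w) ∧ ∃ e : Fin k → M, ∀ j, w • y j = (1 : A) ⊗ₜ[O] e j := by
  intro k
  induction k with
  | zero => intro y; exact ⟨1, by simp, Fin.elim0, fun j => j.elim0⟩
  | succ k ih =>
    intro y
    obtain ⟨w', hw', e', he'⟩ := ih (fun j => y j.succ)
    obtain ⟨w₀, hw₀, m₀, hm₀⟩ := hP.exists_smul_eq_tmul (y 0)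
    refine ⟨w₀ * w', by rw [map_mul]; exact hw₀.mul hw', Fin.cons (w' • m₀) (fun j => w₀ • e' j), ?_⟩
    intro j
    refine Fin.cases ?_ (fun j => ?_) j
    · rw [Fin.cons_zero, mul_comm, mul_smul, hm₀, TensorProduct.tmul_smul]
    · rw [Fin.cons_succ, mul_smul, he' j, TensorProduct.tmul_smul]

/-- flatness over a semi-valuation ring -/
theorem flat_of_pivot (hinj : Function.Injective (algebraMap O A)) (hP : Pivot O A)
    (M : Type u) [AddCommGroup M] [Module O M]
    (hM : Function.Injective (fun m : M => (1 : A) ⊗ₜ[O] m))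
    [Module.Flat A (A ⊗[O] M)] : Module.Flat O M := by
  have key : ∀ (l : ℕ) (f : Fin l → O) (x : Fin l → M), ∑ i, f i • x i = 0 →
      Module.IsTrivialRelation f x := by
    intro l
    induction l with
    | zero =>
      intro f x _
      exact ⟨0, fun i => i.elim0, fun j => j.elim0, fun i => i.elim0, fun j => j.elim0⟩
    | succ l ih =>
      intro f x h
      have h1 : ∑ i, algebraMap O A (f i) • ((1 : A) ⊗ₜ[O] x i) = 0 := by
        have h0 : (1 : A) ⊗ₜ[O] (∑ i, f i • x i) = 0 := by rw [h, TensorProduct.tmul_zero]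
        rw [TensorProduct.tmul_sum] at h0
        rw [← h0]
        refine Finset.sum_congr rfl fun i _ => ?_
        rw [algebraMap_smul, TensorProduct.tmul_smul]
      obtain ⟨k, a, y, hxy0, hfa0⟩ := Module.Flat.isTrivialRelation_of_sum_smul_eq_zero h1
      have hxy : ∀ i, (1 : A) ⊗ₜ[O] x i = ∑ j, a i j • y j := hxy0
      have hfa : ∀ j, ∑ i, algebraMap O A (f i) * a i j = 0 := hfa0
      clear hxy0 hfa0
      obtain ⟨w, hw, e, he⟩ := hP.exists_smul_eq_tmul_family y
      obtain ⟨v, hv⟩ := hw.exists_left_inv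
      have hb1 : ∀ i, (1 : A) ⊗ₜ[O] x i = ∑ j, (a i j * v) • ((1 : A) ⊗ₜ[O] e j) := by
        intro i
        rw [hxy i]
        refine Finset.sum_congr rfl fun j _ => ?_
        rw [← he j, ← algebraMap_smul A w (y j), smul_smul, mul_assoc, hv, mul_one]
      have hb2 : ∀ j, ∑ i, algebraMap O A (f i) * (a i j * v) = 0 := by
        intro j
        have := hfa j
        calc ∑ i, algebraMap O A (f i) * (a i j * v)
            = (∑ i, algebraMap O A (f i) * a i j) * v := by
              rw [Finset.sum_mul]; exact Finset.sum_congr rfl fun i _ => by ring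
          _ = 0 := by rw [this, zero_mul]
      rcases hP (Fin (l + 1) × Fin k) (fun r => a r.1 r.2 * v) with hall | ⟨⟨p, q⟩, w', hw1, hw2⟩
      · choose c hc using fun (i : Fin (l + 1)) (j : Fin k) => hall (i, j)
        refine ⟨k, c, e, fun i => ?_, fun j => ?_⟩
        · apply hM
          show (1 : A) ⊗ₜ[O] x i = (1 : A) ⊗ₜ[O] (∑ j, c i j • e j)
          rw [hb1 i, TensorProduct.tmul_sum]
          refine Finset.sum_congr rfl fun j _ => ?_
          rw [TensorProduct.tmul_smul, ← hc i j, algebraMap_smul]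
        · apply hinj
          rw [map_sum, map_zero]
          simp only [map_mul, hc]
          exact hb2 j
      · choose c hc using fun (i : Fin (l + 1)) => hw2 (i, q)
        have hcp : c p = 1 := hinj (by rw [hc, hw1, map_one])
        have hrel : ∑ i, f i * c i = 0 := by
          apply hinj
          rw [map_sum, map_zero]
          simp only [map_mul, hc]
          calc ∑ i, algebraMap O A (f i) * (algebraMap O A w' * (a i q * v))
              = algebraMap O A w' * ∑ i, algebraMap O A (f i) * (a i q * v) := by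
                rw [Finset.mul_sum]; exact Finset.sum_congr rfl fun i _ => by ring
            _ = 0 := by rw [hb2 q, mul_zero]
        rw [Fin.sum_univ_succAbove _ p, hcp, mul_one] at hrel
        rw [Fin.sum_univ_succAbove _ p] at h
        have hsum : ∑ i, f (p.succAbove i) * c (p.succAbove i) = - f p := by
          linear_combination hrel
        have h' : ∑ i : Fin l, f (p.succAbove i) •
            (x (p.succAbove i) - c (p.succAbove i) • x p) = 0 := by
          simp only [smul_sub, Finset.sum_sub_distrib, smul_smul, ← Finset.sum_smul]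
          rw [hsum, neg_smul, sub_neg_eq_add, add_comm]
          exact h
        obtain ⟨k', a', y', hx0, hf0⟩ := ih _ _ h'
        have hx' : ∀ i : Fin l, x (p.succAbove i) - c (p.succAbove i) • x p = ∑ j, a' i j • y' j :=
          hx0
        have hf' : ∀ j, ∑ i, f (p.succAbove i) * a' i j = 0 := hf0
        clear hx0 hf0
        refine ⟨k' + 1,
          Fin.insertNth p (Fin.cons 1 (fun _ => 0) : Fin (k' + 1) → O)
            (fun i => (Fin.cons (c (p.succAbove i)) (a' i) : Fin (k' + 1) → O)),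
          Fin.cons (x p) y', fun i => ?_, fun j => ?_⟩
        · rcases Fin.eq_self_or_eq_succAbove p i with rfl | ⟨i', rfl⟩
          · simp [Fin.sum_univ_succ]
          · simp only [Fin.insertNth_apply_succAbove, Fin.sum_univ_succ, Fin.cons_zero,
              Fin.cons_succ]
            rw [← hx' i', add_sub_cancel]
        · rw [Fin.sum_univ_succAbove _ p]
          refine Fin.cases ?_ (fun j' => ?_) j
          · simp only [Fin.insertNth_apply_same, Fin.insertNth_apply_succAbove, Fin.cons_zero,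
              mul_one]
            exact hrel
          · simp only [Fin.insertNth_apply_same, Fin.insertNth_apply_succAbove, Fin.cons_succ,
              mul_zero, zero_add]
            exact hf' j'
  exact Module.Flat.of_forall_isTrivialRelation (fun {l f x} h => key l f x h)

section FP

open MvPolynomial

variable {R : Type u} [CommRing R] [IsDomain R] [ValuationRing R]

/-- finite presentation over a semi-valuation ring -/
theorem finitePresentation_of_pivot (ρ : O →+* R) (hρ : Function.Surjective ρ)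
    (hinj : Function.Injective (algebraMap O A)) (hP : Pivot O A)
    (hρU : ∀ o : O, ρ o ≠ 0 → IsUnit (algebraMap O A o))
    (hdiv : ∀ o m : O, IsUnit (algebraMap O A o) → ρ m = 0 → ∃ m', ρ m' = 0 ∧ m = o * m')
    (C' : Type u) [CommRing C'] [Algebra O C'] [Algebra.FiniteType O C'] [Module.Flat O C']
    (hM : Function.Injective (fun c : C' => (1 : A) ⊗ₜ[O] c))
    [Algebra.FinitePresentation A (A ⊗[O] C')] : Algebra.FinitePresentation O C' := by
  classical
  obtain ⟨n, f, hf⟩ := Algebra.FiniteType.iff_quotient_mvPolynomial''.mp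
    (inferInstance : Algebra.FiniteType O C')
  refine ⟨n, f, hf, ?_⟩
  have hfC : ∀ o : O, f (C o) = o • (1 : C') := by
    intro o
    rw [← MvPolynomial.algebraMap_eq, AlgHom.commutes, Algebra.algebraMap_eq_smul_one]
  -- torsion-freeness
  have tf : ∀ o : O, IsUnit (algebraMap O A o) → ∀ c : C', o • c = 0 → c = 0 := by
    intro o ho c h
    have h1 : algebraMap O A o • ((1 : A) ⊗ₜ[O] c) = 0 := by
      rw [algebraMap_smul, ← TensorProduct.tmul_smul, h, TensorProduct.tmul_zero]
    have h2 : (1 : A) ⊗ₜ[O] c = 0 := (IsUnit.smul_eq_zero ho).mp h1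
    apply hM
    show (1 : A) ⊗ₜ[O] c = (1 : A) ⊗ₜ[O] (0 : C')
    rw [h2, TensorProduct.tmul_zero]
  set J : Ideal (MvPolynomial (Fin n) O) := RingHom.ker f.toRingHom with hJ
  have hJmem : ∀ p, p ∈ J ↔ f p = 0 := fun p => Iff.rfl
  -- A-side
  let φ : MvPolynomial (Fin n) O →+* MvPolynomial (Fin n) A := MvPolynomial.map (algebraMap O A)
  let fA : MvPolynomial (Fin n) A →ₐ[A] A ⊗[O] C' :=
    MvPolynomial.aeval (fun i => (1 : A) ⊗ₜ[O] f (X i))
  have hfAφ : ∀ p, fA (φ p) = (1 : A) ⊗ₜ[O] f p := by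
    intro p
    induction p using MvPolynomial.induction_on with
    | C o =>
      show fA (MvPolynomial.map (algebraMap O A) (C o)) = _
      rw [MvPolynomial.map_C, MvPolynomial.aeval_C, Algebra.TensorProduct.algebraMap_apply, hfC,
        Algebra.algebraMap_self_apply, Algebra.algebraMap_eq_smul_one, TensorProduct.smul_tmul]
    | add p q hp hq => rw [map_add, map_add, hp, hq, map_add, TensorProduct.tmul_add]
    | mul_X p i hp =>
      rw [map_mul, map_mul, hp]
      show _ * fA (MvPolynomial.map (algebraMap O A) (X i)) = _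
      rw [MvPolynomial.map_X, MvPolynomial.aeval_X, map_mul, Algebra.TensorProduct.tmul_mul_tmul,
        one_mul]
  have hfA : Function.Surjective fA := by
    intro z
    induction z using TensorProduct.induction_on with
    | zero => exact ⟨0, map_zero _⟩
    | tmul a c =>
      obtain ⟨p, rfl⟩ := hf c
      exact ⟨a • φ p, by rw [map_smul, hfAφ, TensorProduct.smul_tmul', smul_eq_mul, mul_one]⟩
    | add z₁ z₂ h₁ h₂ =>
      obtain ⟨p₁, rfl⟩ := h₁
      obtain ⟨p₂, rfl⟩ := h₂
      exact ⟨p₁ + p₂, map_add _ _ _⟩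
  have hJA : (RingHom.ker fA.toRingHom).FG := Algebra.FinitePresentation.ker_fG_of_surjective fA hfA
  have hφC : ∀ o : O, φ (C o) = C (algebraMap O A o) := fun o => MvPolynomial.map_C _ o
  have hden : ∀ g : MvPolynomial (Fin n) A, ∃ w : O, IsUnit (algebraMap O A w) ∧
      ∃ g₀ : MvPolynomial (Fin n) O, C (algebraMap O A w) * g = φ g₀ := by
    intro g
    induction g using MvPolynomial.induction_on with
    | C a =>
      obtain ⟨w, hw, o, ho⟩ := hP.exists_unit a
      exact ⟨w, hw, C o, by rw [hφC, ho, C_mul]⟩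
    | add g₁ g₂ h₁ h₂ =>
      obtain ⟨w₁, hw₁, p₁, e₁⟩ := h₁
      obtain ⟨w₂, hw₂, p₂, e₂⟩ := h₂
      refine ⟨w₁ * w₂, by rw [map_mul]; exact hw₁.mul hw₂, C w₂ * p₁ + C w₁ * p₂, ?_⟩
      have e3 : φ (C w₂ * p₁ + C w₁ * p₂) =
          C (algebraMap O A w₂) * φ p₁ + C (algebraMap O A w₁) * φ p₂ := by
        rw [map_add, map_mul, map_mul, hφC, hφC]
      rw [e3, ← e₁, ← e₂, map_mul, C_mul]
      ring
    | mul_X g i h =>
      obtain ⟨w, hw, g₀, e⟩ := h
      refine ⟨w, hw, g₀ * X i, ?_⟩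
      have e3 : φ (g₀ * X i) = φ g₀ * X i := by
        rw [map_mul]
        congr 1
        exact MvPolynomial.map_X _ i
      rw [e3, ← e, mul_assoc]
  have hJA' : ∀ g ∈ RingHom.ker fA.toRingHom, ∃ w : O, IsUnit (algebraMap O A w) ∧
      ∃ j ∈ J, C (algebraMap O A w) * g = φ j := by
    intro g hg
    obtain ⟨w, hw, g₀, e⟩ := hden g
    refine ⟨w, hw, g₀, ?_, e⟩
    rw [hJmem]
    apply hM
    show (1 : A) ⊗ₜ[O] f g₀ = (1 : A) ⊗ₜ[O] (0 : C')
    have hg' : fA g = 0 := hg
    rw [← hfAφ, ← e, map_mul, hg', mul_zero, TensorProduct.tmul_zero]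
  obtain ⟨T, hT⟩ := hJA
  choose! wT hwT jT hjT heT using hJA'
  let TA : Finset (MvPolynomial (Fin n) O) := T.image jT
  have hTker : ∀ t ∈ T, t ∈ RingHom.ker fA.toRingHom := fun t ht => hT ▸ Ideal.subset_span ht
  have hTAJ : Ideal.span (TA : Set (MvPolynomial (Fin n) O)) ≤ J := by
    rw [Ideal.span_le]
    intro j hj
    obtain ⟨t, ht, rfl⟩ := Finset.mem_image.mp hj
    exact hjT t (hTker t ht)
  let K' : Ideal (MvPolynomial (Fin n) A) :=
    { carrier := {g | ∃ w : O, IsUnit (algebraMap O A w) ∧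
        ∃ j₀ ∈ Ideal.span (TA : Set (MvPolynomial (Fin n) O)), C (algebraMap O A w) * g = φ j₀}
      zero_mem' := ⟨1, by simp, 0, zero_mem _, by simp⟩
      add_mem' := by
        rintro g₁ g₂ ⟨w₁, hw₁, p₁, hp₁, e₁⟩ ⟨w₂, hw₂, p₂, hp₂, e₂⟩
        refine ⟨w₁ * w₂, by rw [map_mul]; exact hw₁.mul hw₂, C w₂ * p₁ + C w₁ * p₂,
          add_mem (Ideal.mul_mem_left _ _ hp₁) (Ideal.mul_mem_left _ _ hp₂), ?_⟩
        have e3 : φ (C w₂ * p₁ + C w₁ * p₂) =
            C (algebraMap O A w₂) * φ p₁ + C (algebraMap O A w₁) * φ p₂ := by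
          rw [map_add, map_mul, map_mul, hφC, hφC]
        rw [e3, ← e₁, ← e₂, map_mul, C_mul]
        ring
      smul_mem' := by
        rintro h g ⟨w, hw, p, hp, e⟩
        obtain ⟨wh, hwh, h₀, eh⟩ := hden h
        refine ⟨wh * w, by rw [map_mul]; exact hwh.mul hw, h₀ * p, Ideal.mul_mem_left _ _ hp, ?_⟩
        have e3 : φ (h₀ * p) = φ h₀ * φ p := map_mul _ _ _
        rw [e3, ← e, ← eh, map_mul, C_mul, smul_eq_mul]
        ring }
  have hK' : RingHom.ker fA.toRingHom ≤ K' := by
    rw [← hT, Ideal.span_le]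
    intro t ht
    exact ⟨wT t, hwT t (hTker t ht), jT t, Ideal.subset_span (Finset.mem_image_of_mem _ ht),
      heT t (hTker t ht)⟩
  have hA1 : ∀ j ∈ J, ∃ w : O, IsUnit (algebraMap O A w) ∧
      C w * j ∈ Ideal.span (TA : Set (MvPolynomial (Fin n) O)) := by
    intro j hj
    have hφj : φ j ∈ RingHom.ker fA.toRingHom := by
      rw [RingHom.mem_ker]
      show fA (φ j) = 0
      rw [hfAφ, (hJmem j).mp hj, TensorProduct.tmul_zero]
    obtain ⟨w, hw, j₀, hj₀, e⟩ := hK' hφj
    refine ⟨w, hw, ?_⟩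
    have : C w * j = j₀ := MvPolynomial.map_injective _ hinj (by
      show φ (C w * j) = φ j₀
      rw [map_mul, hφC]; exact e)
    rw [this]; exact hj₀
  -- R-side
  let ψ : MvPolynomial (Fin n) O →+* MvPolynomial (Fin n) R := MvPolynomial.map ρ
  have hψ : Function.Surjective ψ := MvPolynomial.map_surjective ρ hρ
  have hψC : ∀ o : O, ψ (C o) = C (ρ o) := fun o => MvPolynomial.map_C _ o
  set 𝔫 : Ideal O := RingHom.ker ρ with h𝔫
  have hkerψ : RingHom.ker ψ = 𝔫.map (C : O →+* MvPolynomial (Fin n) O) := MvPolynomial.ker_map ρ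
  have hnC : 𝔫.map (algebraMap O C') = (𝔫.map (C : O →+* MvPolynomial (Fin n) O)).map f.toRingHom := by
    rw [Ideal.map_map]
    congr 1
    ext o
    show algebraMap O C' o = f (C o)
    rw [hfC, Algebra.algebraMap_eq_smul_one]
  have hsat : ∀ c : R, c ≠ 0 → ∀ F : MvPolynomial (Fin n) R, c • F ∈ J.map ψ → F ∈ J.map ψ := by
    intro c hc F hF
    obtain ⟨o, rfl⟩ := hρ c
    obtain ⟨F₀, rfl⟩ := hψ F
    have ho : IsUnit (algebraMap O A o) := hρU o hc
    rw [MvPolynomial.smul_eq_C_mul, ← hψC, ← map_mul] at hF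
    obtain ⟨j, hj, e⟩ := (Ideal.mem_map_iff_of_surjective ψ hψ).mp hF
    have h1 : C o * F₀ - j ∈ 𝔫.map (C : O →+* MvPolynomial (Fin n) O) := by
      rw [← hkerψ, RingHom.mem_ker, map_sub, e, sub_self]
    have h2 : f (C o * F₀ - j) ∈ 𝔫.map (algebraMap O C') := by
      rw [hnC]
      exact Ideal.mem_map_of_mem f.toRingHom h1
    have h3 : f (C o * F₀ - j) = o • f F₀ := by
      rw [map_sub, map_mul, (hJmem j).mp hj, sub_zero, hfC, smul_mul_assoc, one_mul]
    have hdivC : ∀ y ∈ 𝔫.map (algebraMap O C'), ∃ y' ∈ 𝔫.map (algebraMap O C'), y = o • y' := by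
      intro y hy
      refine Submodule.span_induction
        (p := fun y _ => ∃ y' ∈ 𝔫.map (algebraMap O C'), y = o • y') ?_ ?_ ?_ ?_ hy
      · rintro _ ⟨m, hm, rfl⟩
        obtain ⟨m', hm', rfl⟩ := hdiv o m ho hm
        exact ⟨algebraMap O C' m', Ideal.mem_map_of_mem _ hm', by rw [map_mul, Algebra.smul_def]⟩
      · exact ⟨0, zero_mem _, by simp⟩
      · rintro a b _ _ ⟨a', ha', rfl⟩ ⟨b', hb', rfl⟩
        exact ⟨a' + b', add_mem ha' hb', (smul_add _ _ _).symm⟩
      · rintro r a _ ⟨a', ha', rfl⟩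
        exact ⟨r • a', Ideal.mul_mem_left _ _ ha', by rw [smul_eq_mul, smul_eq_mul, mul_smul_comm]⟩
    obtain ⟨y', hy', e2⟩ := hdivC _ h2
    rw [h3] at e2
    have e3 : f F₀ = y' := by
      have : o • (f F₀ - y') = 0 := by rw [smul_sub, e2, sub_self]
      exact sub_eq_zero.mp (tf o ho _ this)
    rw [hnC] at hy'
    obtain ⟨z, hz, ez⟩ := (Ideal.mem_map_iff_of_surjective f.toRingHom hf).mp hy'
    refine (Ideal.mem_map_iff_of_surjective ψ hψ).mpr ⟨F₀ - z, ?_, ?_⟩
    · rw [hJmem, map_sub, e3]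
      have : f z = y' := ez
      rw [this, sub_self]
    · have : ψ z = 0 := by
        rw [← RingHom.mem_ker, hkerψ]; exact hz
      rw [map_sub, this, sub_zero]
  have hJbar : (J.map ψ).FG := Groth.Agent.Lib.Helper27.ValMK.fg_of_saturated R (J.map ψ) hsat
  obtain ⟨Tb, hTb⟩ := hJbar
  have hlift : ∀ t ∈ J.map ψ, ∃ j ∈ J, ψ j = t :=
    fun t ht => (Ideal.mem_map_iff_of_surjective ψ hψ).mp ht
  choose! jR hjR hejR using hlift
  let TR : Finset (MvPolynomial (Fin n) O) := Tb.image jR
  have hTbmem : ∀ t ∈ Tb, t ∈ J.map ψ := fun t ht => hTb ▸ Ideal.subset_span ht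
  have hTRJ : Ideal.span (TR : Set (MvPolynomial (Fin n) O)) ≤ J := by
    rw [Ideal.span_le]
    intro j hj
    obtain ⟨t, ht, rfl⟩ := Finset.mem_image.mp hj
    exact hjR t (hTbmem t ht)
  have hR1 : ∀ j ∈ J, ∃ j₂ ∈ Ideal.span (TR : Set (MvPolynomial (Fin n) O)), ψ j₂ = ψ j := by
    intro j hj
    have h1 : ψ j ∈ J.map ψ := Ideal.mem_map_of_mem ψ hj
    have h2 : J.map ψ ≤ (Ideal.span (TR : Set (MvPolynomial (Fin n) O))).map ψ := by
      rw [← hTb, Ideal.span_le]
      intro t ht
      rw [← hejR t (hTbmem t ht)]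
      exact Ideal.mem_map_of_mem ψ (Ideal.subset_span (Finset.mem_image_of_mem _ ht))
    exact (Ideal.mem_map_iff_of_surjective ψ hψ).mp (h2 h1)
  -- flatness: J ∩ ker ψ ⊆ 𝔫 J
  have hflatJ : ∀ j ∈ J, ψ j = 0 → j ∈ 𝔫.map (C : O →+* MvPolynomial (Fin n) O) * J := by
    intro j hj hψj
    have hj' : j ∈ Submodule.span (MvPolynomial (Fin n) O)
        ((C : O →+* MvPolynomial (Fin n) O) '' (𝔫 : Set O)) := by
      have : j ∈ 𝔫.map (C : O →+* MvPolynomial (Fin n) O) := by
        rw [← hkerψ]; exact hψj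
      exact this
    obtain ⟨N, g, s, hsum⟩ := Submodule.mem_span_set'.mp hj'
    choose m hm hms using fun i => (s i).2
    have hrel : ∑ i, m i • f (g i) = 0 := by
      have h0 : f (∑ i, g i • (s i : MvPolynomial (Fin n) O)) = 0 := by
        rw [hsum]; exact (hJmem j).mp hj
      rw [map_sum] at h0
      rw [← h0]
      refine Finset.sum_congr rfl fun i _ => ?_
      rw [smul_eq_mul, map_mul, ← hms i, hfC, mul_smul_comm, mul_one]
    obtain ⟨k, a, y, hay0, hma⟩ := Module.Flat.isTrivialRelation_of_sum_smul_eq_zero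
      (R := O) (M := C') (f := m) (x := fun i => f (g i)) hrel
    have hay : ∀ i, f (g i) = ∑ l, a i l • y l := hay0
    clear hay0
    choose q hq using fun l => hf (y l)
    have hν : ∀ i, g i - ∑ l, C (a i l) * q l ∈ J := by
      intro i
      rw [hJmem, map_sub, map_sum, hay i, sub_eq_zero]
      refine Finset.sum_congr rfl fun l _ => ?_
      rw [map_mul, hq, hfC, smul_mul_assoc, one_mul]
    have h0 : ∑ i, C (m i) * ∑ l, C (a i l) * q l = 0 := by
      simp_rw [Finset.mul_sum]
      rw [Finset.sum_comm]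
      refine Finset.sum_eq_zero fun l _ => ?_
      calc ∑ i, C (m i) * (C (a i l) * q l) = C (∑ i, m i * a i l) * q l := by
            rw [map_sum, Finset.sum_mul]
            exact Finset.sum_congr rfl fun i _ => by rw [C_mul, mul_assoc]
        _ = 0 := by rw [hma l, C_0, zero_mul]
    have hj2 : j = ∑ i, C (m i) * (g i - ∑ l, C (a i l) * q l) := by
      simp_rw [mul_sub]
      rw [Finset.sum_sub_distrib, h0, sub_zero, ← hsum]
      exact Finset.sum_congr rfl fun i _ => by rw [smul_eq_mul, ← hms i, mul_comm]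
    rw [hj2]
    exact Ideal.sum_mem _ fun i _ => Ideal.mul_mem_mul (Ideal.mem_map_of_mem _ (hm i)) (hν i)
  have hnJ : 𝔫.map (C : O →+* MvPolynomial (Fin n) O) * J ≤
      Ideal.span (TA : Set (MvPolynomial (Fin n) O)) := by
    rw [Ideal.mul_le]
    intro r hr j hj
    refine Submodule.span_induction
      (p := fun r _ => r * j ∈ Ideal.span (TA : Set (MvPolynomial (Fin n) O))) ?_ ?_ ?_ ?_ hr
    · rintro _ ⟨m, hm, rfl⟩
      obtain ⟨w, hw, hwj⟩ := hA1 j hj
      obtain ⟨m', hm', rfl⟩ := hdiv w m hw hm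
      show C (w * m') * j ∈ _
      rw [C_mul, mul_comm (C w), mul_assoc]
      exact Ideal.mul_mem_left _ _ hwj
    · simp
    · intro a b _ _ ha hb
      rw [add_mul]; exact add_mem ha hb
    · intro c a _ ha
      rw [smul_eq_mul, mul_assoc]; exact Ideal.mul_mem_left _ _ ha
  refine ⟨TA ∪ TR, le_antisymm ?_ ?_⟩
  · rw [Finset.coe_union, Ideal.span_union]
    exact sup_le hTAJ hTRJ
  · intro j hj
    obtain ⟨j₂, hj₂, e⟩ := hR1 j hj
    have h1 : j - j₂ ∈ J := sub_mem hj (hTRJ hj₂)
    have h2 : ψ (j - j₂) = 0 := by rw [map_sub, e, sub_self]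
    have h3 := hnJ (hflatJ _ h1 h2)
    rw [Finset.coe_union, Ideal.span_union]
    have : j = (j - j₂) + j₂ := by ring
    rw [this]
    exact add_mem (Ideal.mem_sup_left h3) (Ideal.mem_sup_right hj₂)

end FP

end Groth.Agent.Lib.Helper24.SemiVal
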