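import Mathlib

set_option autoImplicit false
set_option maxHeartbeats 400000
set_option linter.style.haveILetI false
set_option linter.unusedSectionVars false

universe w v u

open CategoryTheory

noncomputable section

namespace Groth.Agent.Lib.Helper24.SerreF

variable {k : Type w} [Field k]

/-- transpose of a perfect pairing of finite-dimensional spaces -/
def flipEquiv {V W : Type*} [AddCommGroup V] [Module k V] [AddCommGroup W] [Module k W]
    [Module.Finite k V] [Module.Finite k W]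
    (c : V ≃ₗ[k] Module.Dual k W) : W ≃ₗ[k] Module.Dual k V :=
  (Module.evalEquiv k W).trans c.dualMap

lemma flipEquiv_apply {V W : Type*} [AddCommGroup V] [Module k V] [AddCommGroup W] [Module k W]
    [Module.Finite k V] [Module.Finite k W]
    (c : V ≃ₗ[k] Module.Dual k W) (w : W) (v : V) : flipEquiv c w v = c v w := by
  simp [flipEquiv]

variable {T : Type u} [Category.{v} T] [Preadditive T] [Linear k T]
  [∀ X Y : T, Module.Finite k (X ⟶ Y)]

/-- postcomposition with an isomorphism as a linear equivalence -/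
def postEq {A B : T} (i : A ≅ B) (Y : T) : (Y ⟶ A) ≃ₗ[k] (Y ⟶ B) :=
  LinearEquiv.ofLinear (Linear.rightComp k Y i.hom) (Linear.rightComp k Y i.inv)
    (by ext f; simp) (by ext f; simp)

@[simp] lemma postEq_apply {A B : T} (i : A ≅ B) (Y : T) (v : Y ⟶ A) :
    postEq (k := k) i Y v = v ≫ i.hom := rfl

theorem dir1 (S : T ≌ T)
    (c : ∀ X Y : T, (X ⟶ Y) ≃ₗ[k] Module.Dual k (Y ⟶ S.functor.obj X))
    (hc1 : ∀ (X Y Y' : T) (f : X ⟶ Y) (g : Y ⟶ Y'),
          c X Y' (f ≫ g) = (c X Y f) ∘ₗ Linear.leftComp k (S.functor.obj X) g) :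
    ((∀ X : T, ∃ (SX : T) (e : ∀ Y : T, (Y ⟶ SX) ≃ₗ[k] Module.Dual k (X ⟶ Y)),
        ∀ (Y Y' : T) (g : Y' ⟶ Y) (f : Y ⟶ SX),
          e Y' (g ≫ f) = (e Y f) ∘ₗ Linear.rightComp k X g) ∧
      (∀ X : T, ∃ (RX : T) (e : ∀ Y : T, (RX ⟶ Y) ≃ₗ[k] Module.Dual k (Y ⟶ X)),
        ∀ (Y Y' : T) (g : Y ⟶ Y') (f : RX ⟶ Y),
          e Y' (f ≫ g) = (e Y f) ∘ₗ Linear.leftComp k X g)) := by
  constructor
  · intro X
    refine ⟨S.functor.obj X, fun Y => flipEquiv (c X Y), ?_⟩
    intro Y Y' g f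
    ext u
    have h := congrArg (fun φ => φ f) (hc1 X Y' Y u g)
    simp only [LinearMap.comp_apply, Linear.leftComp_apply] at h
    simp only [flipEquiv_apply, LinearMap.comp_apply, Linear.rightComp_apply]
    exact h.symm
  · intro X
    obtain ⟨ε⟩ : Nonempty (S.functor.obj (S.inverse.obj X) ≅ X) := ⟨S.counitIso.app X⟩
    refine ⟨S.inverse.obj X,
      fun Y => (c (S.inverse.obj X) Y).trans (postEq (k := k) ε.symm Y).dualMap, ?_⟩
    intro Y Y' g f
    ext v
    have h := congrArg (fun φ => φ (v ≫ ε.inv)) (hc1 (S.inverse.obj X) Y Y' f g)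
    simp only [LinearMap.comp_apply, Linear.leftComp_apply] at h
    simp only [LinearEquiv.trans_apply, LinearEquiv.dualMap_apply, LinearMap.comp_apply,
      Linear.leftComp_apply, postEq_apply, Iso.symm_hom, Category.assoc]
    exact h

section Dir2

variable (SX : T → T) (e : ∀ X Y : T, (Y ⟶ SX X) ≃ₗ[k] Module.Dual k (X ⟶ Y))
  (he : ∀ (X Y Y' : T) (g : Y' ⟶ Y) (f : Y ⟶ SX X),
    e X Y' (g ≫ f) = (e X Y f) ∘ₗ Linear.rightComp k X g)

/-- the trace functional -/
def tr (X : T) : Module.Dual k (X ⟶ SX X) := e X (SX X) (𝟙 _)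

include he in
lemma e_eq (X Y : T) (f : Y ⟶ SX X) (u : X ⟶ Y) : e X Y f u = tr SX e X (u ≫ f) := by
  have h := he X (SX X) Y f (𝟙 _)
  rw [Category.comp_id] at h
  rw [h]
  rfl

/-- the Serre pairing as a linear equivalence -/
def cc (X Y : T) : (X ⟶ Y) ≃ₗ[k] Module.Dual k (Y ⟶ SX X) := flipEquiv (e X Y)

include he in
lemma cc_apply (X Y : T) (u : X ⟶ Y) (f : Y ⟶ SX X) :
    cc SX e X Y u f = tr SX e X (u ≫ f) := by
  rw [cc, flipEquiv_apply, e_eq SX e he]

/-- action of the Serre functor on morphisms -/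
def sMap {X' X : T} (a : X' ⟶ X) : SX X' ⟶ SX X :=
  (e X (SX X')).symm ((tr SX e X') ∘ₗ Linear.leftComp k (SX X') a)

include he in
lemma tr_sMap {X' X : T} (a : X' ⟶ X) (u : X ⟶ SX X') :
    tr SX e X (u ≫ sMap SX e a) = tr SX e X' (a ≫ u) := by
  rw [← e_eq SX e he, sMap, LinearEquiv.apply_symm_apply]
  rfl

include he in
lemma hom_ext_tr {X Y : T} (m m' : Y ⟶ SX X)
    (h : ∀ u : X ⟶ Y, tr SX e X (u ≫ m) = tr SX e X (u ≫ m')) : m = m' := by
  apply (e X Y).injective
  ext u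
  rw [e_eq SX e he, e_eq SX e he]
  exact h u

/-- the Serre functor -/
def sFun : T ⥤ T where
  obj := SX
  map a := sMap SX e a
  map_id X := by
    apply hom_ext_tr SX e he
    intro u
    rw [tr_sMap SX e he, Category.id_comp, Category.comp_id]
  map_comp a' a := by
    apply hom_ext_tr SX e he
    intro u
    rw [tr_sMap SX e he, ← Category.assoc, tr_sMap SX e he, ← Category.assoc,
      tr_sMap SX e he, Category.assoc]

include he in
lemma sMap_add {X' X : T} (a b : X' ⟶ X) :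
    sMap SX e (a + b) = sMap SX e a + sMap SX e b := by
  apply hom_ext_tr SX e he
  intro u
  simp only [tr_sMap SX e he, Preadditive.comp_add, Preadditive.add_comp, map_add]

include he in
lemma sMap_smul {X' X : T} (a : X' ⟶ X) (r : k) :
    sMap SX e (r • a) = r • sMap SX e a := by
  apply hom_ext_tr SX e he
  intro u
  simp only [tr_sMap SX e he, Linear.comp_smul, Linear.smul_comp, map_smul]

include he in
lemma sMap_surj {X' X : T} (m : SX X' ⟶ SX X) : ∃ a : X' ⟶ X, sMap SX e a = m := by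
  refine ⟨(cc SX e X' X).symm ((tr SX e X) ∘ₗ Linear.rightComp k X m), ?_⟩
  apply hom_ext_tr SX e he
  intro u
  rw [tr_sMap SX e he, ← cc_apply SX e he, LinearEquiv.apply_symm_apply]
  rfl

include he in
lemma cc_nat1 {X Y Y' : T} (f : X ⟶ Y) (g : Y ⟶ Y') (h : Y' ⟶ SX X) :
    cc SX e X Y' (f ≫ g) h = cc SX e X Y f (g ≫ h) := by
  rw [cc_apply SX e he, cc_apply SX e he, Category.assoc]

include he in
lemma cc_nat2 {X' X Y : T} (a : X' ⟶ X) (f : X ⟶ Y) (h : Y ⟶ SX X') :
    cc SX e X' Y (a ≫ f) h = cc SX e X Y f (h ≫ sMap SX e a) := by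
  rw [cc_apply SX e he, cc_apply SX e he, ← Category.assoc, tr_sMap SX e he,
    Category.assoc]

lemma sFun_additive : (sFun SX e he).Additive where
  map_add {X' X a b} := sMap_add SX e he a b

lemma sFun_linear : letI := sFun_additive SX e he; (sFun SX e he).Linear k := by
  letI := sFun_additive SX e he
  exact ⟨fun {X' X} a r => sMap_smul SX e he a r⟩

lemma sFun_faithful : (sFun SX e he).Faithful where
  map_injective := by
    intro X' X a b h
    have h' : sMap SX e a = sMap SX e b := h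
    apply (cc SX e X' X).injective
    ext f
    rw [cc_apply SX e he, cc_apply SX e he, ← tr_sMap SX e he, ← tr_sMap SX e he b, h']

lemma sFun_full : (sFun SX e he).Full where
  map_surjective := by
    intro X' X m
    exact sMap_surj SX e he m

variable (RX : T → T) (e' : ∀ X Y : T, (RX X ⟶ Y) ≃ₗ[k] Module.Dual k (Y ⟶ X))
  (he' : ∀ (X Y Y' : T) (g : Y ⟶ Y') (f : RX X ⟶ Y),
    e' X Y' (f ≫ g) = (e' X Y f) ∘ₗ Linear.leftComp k X g)

/-- the dual trace functional -/
def tau (X : T) : Module.Dual k (RX X ⟶ X) := e' X (RX X) (𝟙 _)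

include he' in
lemma e'_eq (X Y : T) (g : RX X ⟶ Y) (v : Y ⟶ X) : e' X Y g v = tau RX e' X (g ≫ v) := by
  have h := he' X (RX X) Y g (𝟙 _)
  rw [Category.id_comp] at h
  rw [h]
  rfl

/-- the dual pairing as a linear equivalence -/
def cc' (X Y : T) : (Y ⟶ X) ≃ₗ[k] Module.Dual k (RX X ⟶ Y) := flipEquiv (e' X Y)

include he' in
lemma cc'_apply (X Y : T) (v : Y ⟶ X) (g : RX X ⟶ Y) :
    cc' RX e' X Y v g = tau RX e' X (g ≫ v) := by
  rw [cc', flipEquiv_apply, e'_eq RX e' he']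

include he' in
lemma sFun_essSurj : (sFun SX e he).EssSurj where
  mem_essImage X := by
    obtain ⟨α, hα'⟩ : ∃ α : X ⟶ SX (RX X), e (RX X) X α = tau RX e' X :=
      ⟨(e (RX X) X).symm _, LinearEquiv.apply_symm_apply _ _⟩
    obtain ⟨β, hβ'⟩ : ∃ β : SX (RX X) ⟶ X,
        cc' RX e' X (SX (RX X)) β = tr SX e (RX X) :=
      ⟨(cc' RX e' X (SX (RX X))).symm _, LinearEquiv.apply_symm_apply _ _⟩
    have hα : ∀ g : RX X ⟶ X, tr SX e (RX X) (g ≫ α) = tau RX e' X g := by
      intro g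
      rw [← e_eq SX e he, hα']
    have hβ : ∀ g : RX X ⟶ SX (RX X), tau RX e' X (g ≫ β) = tr SX e (RX X) g := by
      intro g
      rw [← cc'_apply RX e' he', hβ']
    have h1 : α ≫ β = 𝟙 X := by
      apply (cc' RX e' X X).injective
      ext g
      rw [cc'_apply RX e' he', cc'_apply RX e' he', ← Category.assoc, hβ, hα,
        Category.comp_id]
    have h2 : β ≫ α = 𝟙 _ := by
      apply hom_ext_tr SX e he
      intro u
      rw [← Category.assoc, hα, hβ, Category.comp_id]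
    exact ⟨RX X, ⟨⟨β, α, h2, h1⟩⟩⟩

end Dir2

theorem dir2
    (H1 : ∀ X : T, ∃ (SX : T) (e : ∀ Y : T, (Y ⟶ SX) ≃ₗ[k] Module.Dual k (X ⟶ Y)),
        ∀ (Y Y' : T) (g : Y' ⟶ Y) (f : Y ⟶ SX),
          e Y' (g ≫ f) = (e Y f) ∘ₗ Linear.rightComp k X g)
    (H2 : ∀ X : T, ∃ (RX : T) (e : ∀ Y : T, (RX ⟶ Y) ≃ₗ[k] Module.Dual k (Y ⟶ X)),
        ∀ (Y Y' : T) (g : Y ⟶ Y') (f : RX ⟶ Y),
          e Y' (f ≫ g) = (e Y f) ∘ₗ Linear.leftComp k X g) :
    ∃ (S : T ≌ T) (_ : S.functor.Additive) (_ : S.functor.Linear k)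
        (c : ∀ X Y : T, (X ⟶ Y) ≃ₗ[k] Module.Dual k (Y ⟶ S.functor.obj X)),
        (∀ (X Y Y' : T) (f : X ⟶ Y) (g : Y ⟶ Y'),
          c X Y' (f ≫ g) = (c X Y f) ∘ₗ Linear.leftComp k (S.functor.obj X) g) ∧
        (∀ (X' X Y : T) (a : X' ⟶ X) (f : X ⟶ Y),
          c X' Y (a ≫ f) = (c X Y f) ∘ₗ Linear.rightComp k Y (S.functor.map a)) := by
  choose SX e he using H1
  choose RX e' he' using H2
  haveI := sFun_faithful SX e he
  haveI := sFun_full SX e he
  haveI := sFun_essSurj SX e he RX e' he'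
  haveI : (sFun SX e he).IsEquivalence := {}
  refine ⟨(sFun SX e he).asEquivalence, sFun_additive SX e he, sFun_linear SX e he,
    cc SX e, ?_, ?_⟩
  · intro X Y Y' f g
    ext h
    exact cc_nat1 SX e he f g h
  · intro X' X Y a f
    ext h
    exact cc_nat2 SX e he a f h

end Groth.Agent.Lib.Helper24.SerreF
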