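import Mathlib
import Groth.Prelude.Def_FlatCA
import Groth.Prelude.Def_Flat
import Groth.Agent.Lib.Helper24.ShrinkC

/-!
# Standard shrinking of a one-step dévissage: the two statements
-/

set_option autoImplicit false
set_option maxHeartbeats 1600000
set_option linter.style.haveILetI false
set_option linter.unusedSectionVars false
set_option linter.unusedVariables false

universe u

namespace Groth.Agent.Lib.Helper24.Shrink

open TensorProduct

theorem main41
    (R S : Type u) [CommRing R] [CommRing S] [Algebra R S] [Algebra.FiniteType R S]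
    (N : Type u) [AddCommGroup N] [Module S N] [Module R N] [IsScalarTower R S N] [Module.Finite S N]
    (p : Ideal R) [p.IsPrime] (q : Ideal S) [q.IsPrime] [q.LiesOver p]
    (C D G : Type u) [CommRing C] [CommRing D] [Algebra S C] [Algebra R C] [IsScalarTower R S C]
    [Algebra R D] [Algebra D C] [IsScalarTower R D C] [AddCommGroup G] [Module C G] [Module S G]
    [IsScalarTower S C G] (n : ℕ)
    (h : FlatCA.IsOneStepDevissage R S N p C D G n)
    (z : Ideal C) [z.IsPrime] (y : Ideal D) [y.IsPrime] [z.LiesOver q] [z.LiesOver y] [y.LiesOver p]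
    (h1 : ∃ (ξ : PrimeSpectrum (p.Fiber S)) (hξ : ξ ∈ Module.support (p.Fiber S) (FlatCA.fiberMod p S N)),
      ξ.asIdeal = FlatCA.fiberIdeal p q ∧
      FlatMor.localDim (Module.support (p.Fiber S) (FlatCA.fiberMod p S N)) ⟨ξ, hξ⟩ = n)
    (h3 : ∀ (z₁ : Ideal C) [z₁.IsPrime], z₁.LiesOver y → z₁ = z)
    (h4 : FlatCA.PurelyTranscendental p y)
    (u : S) (hu : u ∉ q) :
    ∃ (g : R) (hX : S) (hZ : C) (hY : D), g ∉ p ∧ hX ∉ q ∧ hZ ∉ z ∧ hY ∉ y ∧
      IsUnit (algebraMap S (Localization.Away hX) u) ∧
      ∃ (_ : Algebra (Localization.Away g) (Localization.Away hX)) (_ : IsScalarTower R (Localization.Away g) (Localization.Away hX))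
        (_ : Algebra (Localization.Away g) (Localization.Away hZ)) (_ : IsScalarTower R (Localization.Away g) (Localization.Away hZ))
        (_ : Algebra (Localization.Away g) (Localization.Away hY)) (_ : IsScalarTower R (Localization.Away g) (Localization.Away hY))
        (_ : Algebra (Localization.Away hX) (Localization.Away hZ)) (_ : IsScalarTower S (Localization.Away hX) (Localization.Away hZ))
        (_ : IsScalarTower (Localization.Away g) (Localization.Away hX) (Localization.Away hZ))
        (_ : Algebra (Localization.Away hY) (Localization.Away hZ)) (_ : IsScalarTower D (Localization.Away hY) (Localization.Away hZ))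
        (_ : IsScalarTower (Localization.Away g) (Localization.Away hY) (Localization.Away hZ))
        (_ : Module (Localization.Away g) (LocalizedModule (Submonoid.powers hX) N)) (_ : IsScalarTower (Localization.Away g) (Localization.Away hX) (LocalizedModule (Submonoid.powers hX) N))
        (_ : Module (Localization.Away hX) (LocalizedModule (Submonoid.powers hZ) G)) (_ : IsScalarTower (Localization.Away hX) (Localization.Away hZ) (LocalizedModule (Submonoid.powers hZ) G))
        (_ : (Ideal.map (algebraMap R (Localization.Away g)) p).IsPrime) (_ : (Ideal.map (algebraMap D (Localization.Away hY)) y).IsPrime) (_ : (Ideal.map (algebraMap D (Localization.Away hY)) y).LiesOver (Ideal.map (algebraMap R (Localization.Away g)) p)),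
        FlatCA.IsOneStepDevissage (Localization.Away g) (Localization.Away hX) (LocalizedModule (Submonoid.powers hX) N) (Ideal.map (algebraMap R (Localization.Away g)) p) (Localization.Away hZ) (Localization.Away hY) (LocalizedModule (Submonoid.powers hZ) G) n ∧
        (∃ (ξ : PrimeSpectrum ((Ideal.map (algebraMap R (Localization.Away g)) p).Fiber (Localization.Away hX)))
            (hξ : ξ ∈ Module.support ((Ideal.map (algebraMap R (Localization.Away g)) p).Fiber (Localization.Away hX)) (FlatCA.fiberMod (Ideal.map (algebraMap R (Localization.Away g)) p) (Localization.Away hX) (LocalizedModule (Submonoid.powers hX) N))),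
          ξ.asIdeal = FlatCA.fiberIdeal (Ideal.map (algebraMap R (Localization.Away g)) p) (Ideal.map (algebraMap S (Localization.Away hX)) q) ∧
          FlatMor.localDim (Module.support ((Ideal.map (algebraMap R (Localization.Away g)) p).Fiber (Localization.Away hX)) (FlatCA.fiberMod (Ideal.map (algebraMap R (Localization.Away g)) p) (Localization.Away hX) (LocalizedModule (Submonoid.powers hX) N))) ⟨ξ, hξ⟩ = n) ∧
        (Ideal.map (algebraMap C (Localization.Away hZ)) z).LiesOver (Ideal.map (algebraMap S (Localization.Away hX)) q) ∧ (Ideal.map (algebraMap C (Localization.Away hZ)) z).LiesOver (Ideal.map (algebraMap D (Localization.Away hY)) y) ∧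
        (∀ (z₂ : Ideal (Localization.Away hZ)) [z₂.IsPrime], z₂.LiesOver (Ideal.map (algebraMap D (Localization.Away hY)) y) → z₂ = Ideal.map (algebraMap C (Localization.Away hZ)) z) ∧
        FlatCA.PurelyTranscendental (Ideal.map (algebraMap R (Localization.Away g)) p) (Ideal.map (algebraMap D (Localization.Away hY)) y) := by
  classical
  have h' := h
  obtain ⟨⟨e⟩, hsurjC, hfpC, hfinDC, hfinG, hsm, hgi, hdim⟩ := h'
  haveI := hfinDC
  haveI : Algebra.IsIntegral D C := inferInstance
  have hprimes : y.primesOver C = {z} := by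
    ext P
    constructor
    · rintro ⟨hP, hPy⟩
      haveI := hP
      exact h3 P hPy
    · intro hP
      rw [Set.mem_singleton_iff] at hP
      subst hP
      exact ⟨inferInstance, inferInstance⟩
  have huz : algebraMap S C u ∉ z := fun hm => hu ((Ideal.mem_of_liesOver z q u).mpr hm)
  obtain ⟨w, hw, c, hc⟩ :=
    Ideal.exists_notMem_dvd_algebraMap_of_primesOver_eq_singleton hprimes (algebraMap S C u) huz
  obtain ⟨g, hg, himg⟩ := exists_g_image n hsm p y w hw
  obtain ⟨c', hc'⟩ := hsurjC c
  have hgy : algebraMap R D g ∉ y := fun hm => hg ((Ideal.mem_of_liesOver y p g).mpr hm)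
  have hYy : w * algebraMap R D g ∉ y := fun hm =>
    (Ideal.IsPrime.mem_or_mem inferInstance hm).elim hw hgy
  have himg' : ∀ P : Ideal R, P.IsPrime → g ∉ P →
      ∃ Q : Ideal D, Q.IsPrime ∧ w * algebraMap R D g ∉ Q ∧ Q.comap (algebraMap R D) = P := by
    intro P hP hgP
    obtain ⟨Q, hQ, hwQ, hQP⟩ := himg P hP hgP
    refine ⟨Q, hQ, fun hm => ?_, hQP⟩
    rcases hQ.mem_or_mem hm with h0 | h0
    · exact hwQ h0
    · exact hgP (by rw [← hQP]; exact h0)
  have hZz : algebraMap D C (w * algebraMap R D g) ∉ z := fun hm =>
    hYy ((Ideal.mem_of_liesOver z y _).mpr hm)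
  have hXZ : algebraMap S C (u * c' * algebraMap R S g) =
      algebraMap D C (w * algebraMap R D g) := by
    rw [map_mul, map_mul, map_mul, hc', hc, ← IsScalarTower.algebraMap_apply R S C,
      ← IsScalarTower.algebraMap_apply R D C]
  have hXq : u * c' * algebraMap R S g ∉ q := fun hm =>
    hZz (hXZ ▸ (Ideal.mem_of_liesOver z q _).mp hm)
  refine ⟨g, u * c' * algebraMap R S g, algebraMap D C (w * algebraMap R D g),
    w * algebraMap R D g, hg, hXq, hZz, hYy, ?_, ?_⟩
  · exact isUnit_of_dvd_unit (map_dvd _ ⟨c' * algebraMap R S g, by ring⟩)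
      (IsLocalization.Away.algebraMap_isUnit (u * c' * algebraMap R S g))
  · exact core R S N p q C D G n h z y h1 h3 h4 g _ _ _ hg hYy rfl hXZ
      ⟨u * c', by ring⟩ ⟨w, by ring⟩ himg'

theorem main42
    (R S : Type u) [CommRing R] [CommRing S] [Algebra R S] [Algebra.FiniteType R S]
    (N : Type u) [AddCommGroup N] [Module S N] [Module R N] [IsScalarTower R S N] [Module.Finite S N]
    (p : Ideal R) [p.IsPrime] (q : Ideal S) [q.IsPrime] [q.LiesOver p]
    (C D G : Type u) [CommRing C] [CommRing D] [Algebra S C] [Algebra R C] [IsScalarTower R S C]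
    [Algebra R D] [Algebra D C] [IsScalarTower R D C] [AddCommGroup G] [Module C G] [Module S G]
    [IsScalarTower S C G] (n : ℕ)
    (h : FlatCA.IsOneStepDevissage R S N p C D G n)
    (z : Ideal C) [z.IsPrime] (y : Ideal D) [y.IsPrime] [z.LiesOver q] [z.LiesOver y] [y.LiesOver p]
    (h1 : ∃ (ξ : PrimeSpectrum (p.Fiber S)) (hξ : ξ ∈ Module.support (p.Fiber S) (FlatCA.fiberMod p S N)),
      ξ.asIdeal = FlatCA.fiberIdeal p q ∧
      FlatMor.localDim (Module.support (p.Fiber S) (FlatCA.fiberMod p S N)) ⟨ξ, hξ⟩ = n)
    (h3 : ∀ (z₁ : Ideal C) [z₁.IsPrime], z₁.LiesOver y → z₁ = z)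
    (h4 : FlatCA.PurelyTranscendental p y)
    (w : D) (hw : w ∉ y) :
    ∃ (g : R) (hX : S) (hZ : C), g ∉ p ∧ hX ∉ q ∧ hZ ∉ z ∧
      ∃ (_ : Algebra (Localization.Away g) (Localization.Away hX)) (_ : IsScalarTower R (Localization.Away g) (Localization.Away hX))
        (_ : Algebra (Localization.Away g) (Localization.Away hZ)) (_ : IsScalarTower R (Localization.Away g) (Localization.Away hZ))
        (_ : Algebra (Localization.Away g) (Localization.Away (w * algebraMap R D g))) (_ : IsScalarTower R (Localization.Away g) (Localization.Away (w * algebraMap R D g)))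
        (_ : Algebra (Localization.Away hX) (Localization.Away hZ)) (_ : IsScalarTower S (Localization.Away hX) (Localization.Away hZ))
        (_ : IsScalarTower (Localization.Away g) (Localization.Away hX) (Localization.Away hZ))
        (_ : Algebra (Localization.Away (w * algebraMap R D g)) (Localization.Away hZ)) (_ : IsScalarTower D (Localization.Away (w * algebraMap R D g)) (Localization.Away hZ))
        (_ : IsScalarTower (Localization.Away g) (Localization.Away (w * algebraMap R D g)) (Localization.Away hZ))
        (_ : Module (Localization.Away g) (LocalizedModule (Submonoid.powers hX) N)) (_ : IsScalarTower (Localization.Away g) (Localization.Away hX) (LocalizedModule (Submonoid.powers hX) N))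
        (_ : Module (Localization.Away hX) (LocalizedModule (Submonoid.powers hZ) G)) (_ : IsScalarTower (Localization.Away hX) (Localization.Away hZ) (LocalizedModule (Submonoid.powers hZ) G))
        (_ : (Ideal.map (algebraMap R (Localization.Away g)) p).IsPrime) (_ : (Ideal.map (algebraMap D (Localization.Away (w * algebraMap R D g))) y).IsPrime) (_ : (Ideal.map (algebraMap D (Localization.Away (w * algebraMap R D g))) y).LiesOver (Ideal.map (algebraMap R (Localization.Away g)) p)),
        FlatCA.IsOneStepDevissage (Localization.Away g) (Localization.Away hX) (LocalizedModule (Submonoid.powers hX) N) (Ideal.map (algebraMap R (Localization.Away g)) p) (Localization.Away hZ) (Localization.Away (w * algebraMap R D g)) (LocalizedModule (Submonoid.powers hZ) G) n ∧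
        (∃ (ξ : PrimeSpectrum ((Ideal.map (algebraMap R (Localization.Away g)) p).Fiber (Localization.Away hX)))
            (hξ : ξ ∈ Module.support ((Ideal.map (algebraMap R (Localization.Away g)) p).Fiber (Localization.Away hX)) (FlatCA.fiberMod (Ideal.map (algebraMap R (Localization.Away g)) p) (Localization.Away hX) (LocalizedModule (Submonoid.powers hX) N))),
          ξ.asIdeal = FlatCA.fiberIdeal (Ideal.map (algebraMap R (Localization.Away g)) p) (Ideal.map (algebraMap S (Localization.Away hX)) q) ∧
          FlatMor.localDim (Module.support ((Ideal.map (algebraMap R (Localization.Away g)) p).Fiber (Localization.Away hX)) (FlatCA.fiberMod (Ideal.map (algebraMap R (Localization.Away g)) p) (Localization.Away hX) (LocalizedModule (Submonoid.powers hX) N))) ⟨ξ, hξ⟩ = n) ∧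
        (Ideal.map (algebraMap C (Localization.Away hZ)) z).LiesOver (Ideal.map (algebraMap S (Localization.Away hX)) q) ∧ (Ideal.map (algebraMap C (Localization.Away hZ)) z).LiesOver (Ideal.map (algebraMap D (Localization.Away (w * algebraMap R D g))) y) ∧
        (∀ (z₂ : Ideal (Localization.Away hZ)) [z₂.IsPrime], z₂.LiesOver (Ideal.map (algebraMap D (Localization.Away (w * algebraMap R D g))) y) → z₂ = Ideal.map (algebraMap C (Localization.Away hZ)) z) ∧
        FlatCA.PurelyTranscendental (Ideal.map (algebraMap R (Localization.Away g)) p) (Ideal.map (algebraMap D (Localization.Away (w * algebraMap R D g))) y) := by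
  classical
  have h' := h
  obtain ⟨⟨e⟩, hsurjC, hfpC, hfinDC, hfinG, hsm, hgi, hdim⟩ := h'
  obtain ⟨g, hg, himg⟩ := exists_g_image n hsm p y w hw
  obtain ⟨w', hw'⟩ := hsurjC (algebraMap D C w)
  have hgy : algebraMap R D g ∉ y := fun hm => hg ((Ideal.mem_of_liesOver y p g).mpr hm)
  have hYy : w * algebraMap R D g ∉ y := fun hm =>
    (Ideal.IsPrime.mem_or_mem inferInstance hm).elim hw hgy
  have himg' : ∀ P : Ideal R, P.IsPrime → g ∉ P →
      ∃ Q : Ideal D, Q.IsPrime ∧ w * algebraMap R D g ∉ Q ∧ Q.comap (algebraMap R D) = P := by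
    intro P hP hgP
    obtain ⟨Q, hQ, hwQ, hQP⟩ := himg P hP hgP
    refine ⟨Q, hQ, fun hm => ?_, hQP⟩
    rcases hQ.mem_or_mem hm with h0 | h0
    · exact hwQ h0
    · exact hgP (by rw [← hQP]; exact h0)
  have hZz : algebraMap D C (w * algebraMap R D g) ∉ z := fun hm =>
    hYy ((Ideal.mem_of_liesOver z y _).mpr hm)
  have hXZ : algebraMap S C (w' * algebraMap R S g) =
      algebraMap D C (w * algebraMap R D g) := by
    rw [map_mul, map_mul, hw', ← IsScalarTower.algebraMap_apply R S C,
      ← IsScalarTower.algebraMap_apply R D C]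
  have hXq : w' * algebraMap R S g ∉ q := fun hm =>
    hZz (hXZ ▸ (Ideal.mem_of_liesOver z q _).mp hm)
  refine ⟨g, w' * algebraMap R S g, algebraMap D C (w * algebraMap R D g), hg, hXq, hZz, ?_⟩
  exact core R S N p q C D G n h z y h1 h3 h4 g _ _ (w * algebraMap R D g) hg hYy rfl hXZ
    ⟨w', by ring⟩ ⟨w, by ring⟩ himg'

end Groth.Agent.Lib.Helper24.Shrink
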