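import Mathlib

/-!
# Split quasi-isomorphisms (helper24)

For a short exact sequence of `ℕ`-indexed chain complexes `0 → A' → A → A'' → 0` in an abelian
category with `A''` degreewise projective and `A' → A` a quasi-isomorphism:
* `A''` is contractible (`exists_contraction`);
* the sequence splits by chain maps (`core`);
* two chain retractions of `A' → A` are homotopic by a homotopy vanishing on `A'`
  (`homotopy_of_retractions`).
-/

namespace Groth.Agent.Lib.Helper24.SplitQis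

open CategoryTheory CategoryTheory.Limits ZeroObject

universe v u

variable {C : Type u} [Category.{v} C] [Abelian C]

/-- A bounded below acyclic complex of projectives is contractible. -/
theorem exists_contraction (K : ChainComplex C ℕ) [∀ n, Projective (K.X n)] (hK : K.Acyclic) :
    Nonempty (Homotopy (𝟙 K) 0) := by
  have hZ : IsZero ((ChainComplex.single₀ C).obj (0 : C)) :=
    Functor.map_isZero (ChainComplex.single₀ C) (isZero_zero C)
  have hq : QuasiIso (0 : K ⟶ (ChainComplex.single₀ C).obj (0 : C)) :=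
    ⟨fun n => (quasiIsoAt_iff_exactAt' _ n (HomologicalComplex.acyclic_of_isZero _ hZ n)).2 (hK n)⟩
  let R0 : ProjectiveResolution (0 : C) :=
    { complex := K
      π := 0
      quasiIso := hq }
  exact ⟨ProjectiveResolution.liftHomotopyZero (P := R0) (Q := R0) (𝟙 K) (by simp [R0])⟩

theorem core (S : ShortComplex (ChainComplex C ℕ)) (hS : S.ShortExact)
    [∀ q, Projective (S.X₃.X q)] [QuasiIso S.f] :
    ∃ (g : S.X₂ ⟶ S.X₁) (h : S.X₃ ⟶ S.X₂),
      S.f ≫ g = 𝟙 _ ∧ h ≫ S.g = 𝟙 _ ∧ g ≫ S.f + S.g ≫ h = 𝟙 _ := by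
  obtain ⟨s⟩ := exists_contraction S.X₃ (hS.acyclic_X₃ inferInstance)
  have := hS.mono_f
  have := hS.epi_g
  let σ : ∀ q, S.X₃.X q ⟶ S.X₂.X q := fun q => Projective.factorThru (𝟙 _) (S.g.f q)
  have hσ : ∀ q, σ q ≫ S.g.f q = 𝟙 _ := fun q => Projective.factorThru_comp _ _
  obtain ⟨t, ht⟩ : ∃ t : S.X₂ ⟶ S.X₂,
      t = Homotopy.nullHomotopicMap (fun i j => S.g.f i ≫ s.hom i j ≫ σ j) := ⟨_, rfl⟩
  have hs1 : Homotopy.nullHomotopicMap s.hom = 𝟙 S.X₃ := by
    ext i
    have h0 := s.comm i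
    simp only [HomologicalComplex.zero_f, add_zero] at h0
    rw [h0]
    rfl
  have ht1 : t ≫ S.g = S.g := by
    rw [ht, Homotopy.nullHomotopicMap_comp]
    have h0 : (fun i j => (S.g.f i ≫ s.hom i j ≫ σ j) ≫ S.g.f j) =
        fun i j => S.g.f i ≫ s.hom i j := by
      funext i j
      rw [Category.assoc, Category.assoc, hσ, Category.comp_id]
    rw [h0, ← Homotopy.comp_nullHomotopicMap, hs1, Category.comp_id]
  have hfg : ∀ i, S.f.f i ≫ S.g.f i = 0 := fun i => by
    rw [← HomologicalComplex.comp_f, S.zero]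
    rfl
  have ht2 : S.f ≫ t = 0 := by
    rw [ht, Homotopy.comp_nullHomotopicMap]
    have h0 : (fun i j => S.f.f i ≫ S.g.f i ≫ s.hom i j ≫ σ j) =
        (0 : ∀ i j, S.X₁.X i ⟶ S.X₂.X j) := by
      funext i j
      rw [reassoc_of% (hfg i), zero_comp]
      rfl
    rw [h0]
    ext i
    simp [Homotopy.nullHomotopicMap]
  obtain ⟨g, hg⟩ := KernelFork.IsLimit.lift' hS.fIsKernel (𝟙 S.X₂ - t)
    (by rw [Preadditive.sub_comp, Category.id_comp, ht1, sub_self])
  obtain ⟨h, hh⟩ := CokernelCofork.IsColimit.desc' hS.gIsCokernel t ht2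
  simp only [Fork.ι_ofι] at hg
  simp only [Cofork.π_ofπ] at hh
  refine ⟨g, h, ?_, ?_, ?_⟩
  · rw [← cancel_mono S.f, Category.assoc, hg, Preadditive.comp_sub, Category.comp_id, ht2,
      sub_zero, Category.id_comp]
  · rw [← cancel_epi S.g, ← Category.assoc, hh, ht1, Category.comp_id]
  · rw [hg, hh, sub_add_cancel]

theorem homotopy_of_retractions (S : ShortComplex (ChainComplex C ℕ)) (hS : S.ShortExact)
    [∀ q, Projective (S.X₃.X q)] [QuasiIso S.f]
    (g₁ g₂ : S.X₂ ⟶ S.X₁) (h₁ : S.f ≫ g₁ = 𝟙 _) (h₂ : S.f ≫ g₂ = 𝟙 _) :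
    ∃ H : Homotopy g₁ g₂, ∀ i j, S.f.f i ≫ H.hom i j = 0 := by
  obtain ⟨s⟩ := exists_contraction S.X₃ (hS.acyclic_X₃ inferInstance)
  have := hS.epi_g
  have hδ : S.f ≫ (g₁ - g₂) = 0 := by rw [Preadditive.comp_sub, h₁, h₂, sub_self]
  obtain ⟨δ', hδ'⟩ := CokernelCofork.IsColimit.desc' hS.gIsCokernel (g₁ - g₂) hδ
  simp only [Cofork.π_ofπ] at hδ'
  let H0 : Homotopy (g₁ - g₂) 0 :=
    (Homotopy.ofEq (by rw [← hδ', Category.id_comp])).trans
      (((s.compRight δ').compLeft S.g).trans (Homotopy.ofEq (by simp)))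
  refine ⟨Homotopy.equivSubZero.symm H0, fun i j => ?_⟩
  have hfg : S.f.f i ≫ S.g.f i = 0 := by
    rw [← HomologicalComplex.comp_f, S.zero]
    rfl
  show S.f.f i ≫ H0.hom i j = 0
  simp [H0, reassoc_of% hfg]

end Groth.Agent.Lib.Helper24.SplitQis
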