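/-
Helper24 library: flat lifts of an ideal along a square-zero extension (affine case of
EGA-style deformation of closed subschemes).

Setting: `J ⊆ A'` with `J * J = ⊥`, `B'` an `A'`-algebra, `B = B'/JB'`, `I ⊆ B` with `B/I` flat over
`A'/J`.  For an ideal `I₁ ⊆ B'` with image `I` in `B`:

* `flat_of_forall`   : `B'/I₁` is `A'`-flat as soon as `m z ∈ I₁ → q z = 0` for `z ∈ B' ⊗ J`
  (`m` multiplication, `q` the projection to `(B/I) ⊗ J`);
* `qq_eq_zero_of_flat`: the converse;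
* `translate`        : the ideal `I' + φ`, with its properties `map_translate`, `translate_diff`,
  `flat_translate`, `eq_translate`.
-/
import Mathlib
import Groth.Agent.Lib.Helper9.NilpFlat

set_option autoImplicit false
set_option maxHeartbeats 400000
set_option linter.style.haveILetI false

universe u

open TensorProduct

namespace Groth.Agent.Lib.Helper24.SqZeroLift

variable {A' : Type u} [CommRing A'] (J : Ideal A') (B' : Type u) [CommRing B'] [Algebra A' B']
  (I : Ideal (B' ⧸ J.map (algebraMap A' B')))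

/-- multiplication `B' ⊗ J → B'`. -/
noncomputable def mm : B' ⊗[A'] ↥J →ₗ[A'] B' :=
  (TensorProduct.rid A' B').toLinearMap ∘ₗ LinearMap.lTensor B' (Submodule.subtype J)

/-- `B' ⊗ J → (B/I) ⊗ J`. -/
noncomputable def qq : B' ⊗[A'] ↥J →ₗ[A'] ((B' ⧸ J.map (algebraMap A' B')) ⧸ I) ⊗[A'] ↥J :=
  LinearMap.rTensor ↥J
    (IsScalarTower.toAlgHom A' B' ((B' ⧸ J.map (algebraMap A' B')) ⧸ I)).toLinearMap

lemma mm_tmul (b : B') (j : J) : mm J B' (b ⊗ₜ[A'] j) = (j : A') • b := by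
  simp [mm]

lemma qq_tmul (b : B') (j : J) : qq J B' I (b ⊗ₜ[A'] j) =
    (algebraMap B' ((B' ⧸ J.map (algebraMap A' B')) ⧸ I) b) ⊗ₜ[A'] j := by
  simp [qq]

lemma mm_smul (b : B') (z : B' ⊗[A'] ↥J) : mm J B' (b • z) = b * mm J B' z := by
  induction z using TensorProduct.induction_on with
  | zero => simp
  | tmul b₁ j => rw [TensorProduct.smul_tmul', mm_tmul, mm_tmul, smul_eq_mul, mul_smul_comm]
  | add x y hx hy => rw [smul_add, map_add, map_add, hx, hy, mul_add]

lemma qq_smul (b : B') (z : B' ⊗[A'] ↥J) : qq J B' I (b • z) = b • qq J B' I z := by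
  induction z using TensorProduct.induction_on with
  | zero => simp
  | tmul b₁ j =>
    rw [TensorProduct.smul_tmul', qq_tmul, qq_tmul, TensorProduct.smul_tmul', smul_eq_mul, map_mul]
    exact congrArg (· ⊗ₜ[A'] j) (Algebra.smul_def b _).symm
  | add x y hx hy => rw [smul_add, map_add, map_add, hx, hy, smul_add]

lemma mm_mem (z : B' ⊗[A'] ↥J) : mm J B' z ∈ J.map (algebraMap A' B') := by
  induction z using TensorProduct.induction_on with
  | zero => rw [map_zero]; exact Ideal.zero_mem _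
  | tmul b j =>
    rw [mm_tmul, Algebra.smul_def]
    exact Ideal.mul_mem_right _ _ (Ideal.mem_map_of_mem _ j.2)
  | add x y hx hy => rw [map_add]; exact Ideal.add_mem _ hx hy

lemma exists_mm_eq {y : B'} (hy : y ∈ J.map (algebraMap A' B')) : ∃ z, mm J B' z = y := by
  change y ∈ Submodule.span B' (⇑(algebraMap A' B') '' (J : Set A')) at hy
  refine Submodule.span_induction (p := fun y _ => ∃ z, mm J B' z = y) ?_ ?_ ?_ ?_ hy
  · rintro _ ⟨j, hj, rfl⟩
    exact ⟨(1 : B') ⊗ₜ[A'] (⟨j, hj⟩ : J), by rw [mm_tmul, Algebra.smul_def, mul_one]⟩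
  · exact ⟨0, map_zero _⟩
  · rintro x y _ _ ⟨z₁, rfl⟩ ⟨z₂, rfl⟩
    exact ⟨z₁ + z₂, map_add _ _ _⟩
  · rintro a x _ ⟨z, rfl⟩
    exact ⟨a • z, by rw [mm_smul, smul_eq_mul]⟩

lemma tmul_eq_zero_of_mem (hJ : J * J = ⊥) {y : B'} (hy : y ∈ J.map (algebraMap A' B')) (j : J) :
    y ⊗ₜ[A'] j = (0 : B' ⊗[A'] ↥J) := by
  obtain ⟨z, rfl⟩ := exists_mm_eq J B' hy
  clear hy
  induction z using TensorProduct.induction_on with
  | zero => rw [map_zero, TensorProduct.zero_tmul]
  | tmul b j' =>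
    rw [mm_tmul, TensorProduct.smul_tmul]
    have h0 : (j' : A') • j = 0 := by
      apply Subtype.ext
      have h1 : (j' : A') * (j : A') ∈ J * J := Ideal.mul_mem_mul j'.2 j.2
      rw [hJ, Ideal.mem_bot] at h1
      simpa using h1
    rw [h0, TensorProduct.tmul_zero]
  | add x y hx hy => rw [map_add, TensorProduct.add_tmul, hx, hy, add_zero]

lemma toC_surjective :
    Function.Surjective (algebraMap B' ((B' ⧸ J.map (algebraMap A' B')) ⧸ I)) := by
  intro c
  obtain ⟨b, rfl⟩ := Ideal.Quotient.mk_surjective c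
  obtain ⟨b', rfl⟩ := Ideal.Quotient.mk_surjective b
  exact ⟨b', rfl⟩

lemma toC_apply (b : B') : algebraMap B' ((B' ⧸ J.map (algebraMap A' B')) ⧸ I) b =
    Ideal.Quotient.mk I (Ideal.Quotient.mk (J.map (algebraMap A' B')) b) := rfl

lemma qq_surjective : Function.Surjective (qq J B' I) :=
  LinearMap.rTensor_surjective ↥J (toC_surjective J B' I)

variable {J B' I}

lemma exists_sub_mem {I₁ : Ideal B'}
    (h₁ : I₁.map (Ideal.Quotient.mk (J.map (algebraMap A' B'))) = I) {x : B'}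
    (hx : algebraMap B' ((B' ⧸ J.map (algebraMap A' B')) ⧸ I) x = 0) :
    ∃ i ∈ I₁, x - i ∈ J.map (algebraMap A' B') := by
  rw [toC_apply, Ideal.Quotient.eq_zero_iff_mem, ← h₁,
    Ideal.mem_map_iff_of_surjective _ Ideal.Quotient.mk_surjective] at hx
  obtain ⟨i, hi, hix⟩ := hx
  refine ⟨i, hi, ?_⟩
  rw [← Ideal.Quotient.eq]
  exact hix.symm

lemma toC_eq_zero_of_mem {I₁ : Ideal B'}
    (h₁ : I₁.map (Ideal.Quotient.mk (J.map (algebraMap A' B'))) = I) {i : B'} (hi : i ∈ I₁) :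
    algebraMap B' ((B' ⧸ J.map (algebraMap A' B')) ⧸ I) i = 0 := by
  rw [toC_apply, Ideal.Quotient.eq_zero_iff_mem, ← h₁]
  exact Ideal.mem_map_of_mem _ hi

lemma ker_qq (hJ : J * J = ⊥) {I₁ : Ideal B'}
    (h₁ : I₁.map (Ideal.Quotient.mk (J.map (algebraMap A' B'))) = I) {z : B' ⊗[A'] ↥J}
    (hz : qq J B' I z = 0) :
    z ∈ LinearMap.range (LinearMap.rTensor ↥J (I₁.restrictScalars A').subtype) := by
  have hex := rTensor_exact ↥J (LinearMap.exact_subtype_ker_map
      (IsScalarTower.toAlgHom A' B' ((B' ⧸ J.map (algebraMap A' B')) ⧸ I)).toLinearMap)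
      (toC_surjective J B' I)
  obtain ⟨w, rfl⟩ := (hex z).mp hz
  clear hz
  induction w using TensorProduct.induction_on with
  | zero => rw [map_zero]; exact Submodule.zero_mem _
  | tmul k j =>
    have hk : algebraMap B' ((B' ⧸ J.map (algebraMap A' B')) ⧸ I) (k : B') = 0 := k.2
    obtain ⟨i, hi, hki⟩ := exists_sub_mem h₁ hk
    refine ⟨(⟨i, hi⟩ : ↥(I₁.restrictScalars A')) ⊗ₜ[A'] j, ?_⟩
    rw [LinearMap.rTensor_tmul, LinearMap.rTensor_tmul]
    show i ⊗ₜ[A'] j = (k : B') ⊗ₜ[A'] j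
    have h2 := tmul_eq_zero_of_mem J B' hJ hki j
    rw [TensorProduct.sub_tmul, sub_eq_zero] at h2
    exact h2.symm
  | add x y hx hy => rw [map_add]; exact Submodule.add_mem _ hx hy

lemma mm_mem_of_qq_eq_zero (hJ : J * J = ⊥) {I₁ : Ideal B'}
    (h₁ : I₁.map (Ideal.Quotient.mk (J.map (algebraMap A' B'))) = I) {z : B' ⊗[A'] ↥J}
    (hz : qq J B' I z = 0) : mm J B' z ∈ I₁ := by
  obtain ⟨w, rfl⟩ := ker_qq hJ h₁ hz
  clear hz
  induction w using TensorProduct.induction_on with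
  | zero => rw [map_zero, map_zero]; exact I₁.zero_mem
  | tmul i j =>
    rw [LinearMap.rTensor_tmul]
    show mm J B' ((i : B') ⊗ₜ[A'] j) ∈ I₁
    rw [mm_tmul, Algebra.smul_def]
    exact Ideal.mul_mem_left _ _ i.2
  | add x y hx hy => rw [map_add, map_add]; exact Ideal.add_mem _ hx hy

lemma mk_eq_zero_of_qq_eq_zero (hJ : J * J = ⊥) {I₁ : Ideal B'}
    (h₁ : I₁.map (Ideal.Quotient.mk (J.map (algebraMap A' B'))) = I) {z : B' ⊗[A'] ↥J}
    (hz : qq J B' I z = 0) :
    LinearMap.rTensor ↥J (Ideal.Quotient.mkₐ A' I₁).toLinearMap z = 0 := by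
  obtain ⟨w, rfl⟩ := ker_qq hJ h₁ hz
  clear hz
  induction w using TensorProduct.induction_on with
  | zero => rw [map_zero, map_zero]
  | tmul i j =>
    rw [LinearMap.rTensor_tmul, LinearMap.rTensor_tmul]
    have h2 : (Ideal.Quotient.mkₐ A' I₁).toLinearMap ((I₁.restrictScalars A').subtype i) = 0 :=
      Ideal.Quotient.eq_zero_iff_mem.mpr i.2
    rw [h2, TensorProduct.zero_tmul]
  | add x y hx hy => rw [map_add, map_add, hx, hy, add_zero]

/-- If `B'/I₁` is flat then `m z ∈ I₁` forces `q z = 0`. -/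
lemma qq_eq_zero_of_flat {I₁ : Ideal B'} [Module.Flat A' (B' ⧸ I₁)]
    (h₁ : I₁.map (Ideal.Quotient.mk (J.map (algebraMap A' B'))) = I) {z : B' ⊗[A'] ↥J}
    (hz : mm J B' z ∈ I₁) : qq J B' I z = 0 := by
  have hinj : Function.Injective ((TensorProduct.rid A' (B' ⧸ I₁)).toLinearMap ∘ₗ
      LinearMap.lTensor (B' ⧸ I₁) (Submodule.subtype J)) := by
    rw [LinearMap.coe_comp]
    exact (TensorProduct.rid A' (B' ⧸ I₁)).injective.comp
      (Module.Flat.lTensor_preserves_injective_linearMap _ (Submodule.subtype_injective J))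
  have hcomm : ∀ z : B' ⊗[A'] ↥J, ((TensorProduct.rid A' (B' ⧸ I₁)).toLinearMap ∘ₗ
      LinearMap.lTensor (B' ⧸ I₁) (Submodule.subtype J))
        (LinearMap.rTensor ↥J (Ideal.Quotient.mkₐ A' I₁).toLinearMap z) =
      Ideal.Quotient.mk I₁ (mm J B' z) := by
    intro z
    induction z using TensorProduct.induction_on with
    | zero => simp only [map_zero]
    | tmul b j =>
      rw [LinearMap.rTensor_tmul, LinearMap.comp_apply, LinearMap.lTensor_tmul,
        LinearEquiv.coe_coe, TensorProduct.rid_tmul, mm_tmul]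
      exact (map_smul (Ideal.Quotient.mkₐ A' I₁) (j : A') b).symm
    | add x y hx hy => simp only [map_add, hx, hy]
  have h0 : LinearMap.rTensor ↥J (Ideal.Quotient.mkₐ A' I₁).toLinearMap z = 0 := by
    apply hinj
    rw [hcomm, map_zero, Ideal.Quotient.eq_zero_iff_mem]
    exact hz
  have hex0 : Function.Exact (I₁.restrictScalars A').subtype
      (Ideal.Quotient.mkₐ A' I₁).toLinearMap := by
    intro y
    constructor
    · intro hy
      exact ⟨⟨y, Ideal.Quotient.eq_zero_iff_mem.mp hy⟩, rfl⟩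
    · rintro ⟨w, rfl⟩
      exact Ideal.Quotient.eq_zero_iff_mem.mpr w.2
  have hex := rTensor_exact ↥J hex0 (Ideal.Quotient.mkₐ_surjective A' I₁)
  obtain ⟨w, rfl⟩ := (hex z).mp h0
  clear h0 hz
  induction w using TensorProduct.induction_on with
  | zero => rw [map_zero, map_zero]
  | tmul i j =>
    rw [LinearMap.rTensor_tmul]
    show qq J B' I ((i : B') ⊗ₜ[A'] j) = 0
    rw [qq_tmul, toC_eq_zero_of_mem h₁ i.2, TensorProduct.zero_tmul]
  | add x y hx hy => rw [map_add, map_add, hx, hy, add_zero]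

/-- The converse: the nilpotent local criterion of flatness. -/
theorem flat_of_forall (hJ : J * J = ⊥)
    [Module.Flat (A' ⧸ J) ((B' ⧸ J.map (algebraMap A' B')) ⧸ I)]
    {I₁ : Ideal B'} (h₁ : I₁.map (Ideal.Quotient.mk (J.map (algebraMap A' B'))) = I)
    (H : ∀ z : B' ⊗[A'] ↥J, mm J B' z ∈ I₁ → qq J B' I z = 0) :
    Module.Flat A' (B' ⧸ I₁) := by
  have hnil : IsNilpotent J := ⟨2, by rw [pow_two, hJ]; rfl⟩
  apply Groth.Agent.Lib.Helper9.NilpFlat.flat_of_isNilpotent J hnil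
  · let g : (B' ⧸ I₁) →ₐ[A'] ((B' ⧸ J.map (algebraMap A' B')) ⧸ I) :=
      Ideal.Quotient.liftₐ I₁ (IsScalarTower.toAlgHom A' B' ((B' ⧸ J.map (algebraMap A' B')) ⧸ I))
        (fun a ha => toC_eq_zero_of_mem h₁ ha)
    have hg_mk : ∀ b : B', g (Ideal.Quotient.mk I₁ b) =
        algebraMap B' ((B' ⧸ J.map (algebraMap A' B')) ⧸ I) b := fun b => rfl
    have hg : Function.Surjective g.toLinearMap := by
      intro c
      obtain ⟨b, rfl⟩ := toC_surjective J B' I c
      exact ⟨Ideal.Quotient.mk I₁ b, hg_mk b⟩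
    have hker : LinearMap.ker g.toLinearMap = J • (⊤ : Submodule A' (B' ⧸ I₁)) := by
      apply le_antisymm
      · intro x hx
        obtain ⟨b, rfl⟩ := Ideal.Quotient.mk_surjective x
        have hb : algebraMap B' ((B' ⧸ J.map (algebraMap A' B')) ⧸ I) b = 0 := hx
        obtain ⟨i, hi, hbi⟩ := exists_sub_mem h₁ hb
        obtain ⟨z, hz⟩ := exists_mm_eq J B' hbi
        have e1 : Ideal.Quotient.mk I₁ b = Ideal.Quotient.mk I₁ (mm J B' z) := by
          rw [hz, map_sub, Ideal.Quotient.eq_zero_iff_mem.mpr hi, sub_zero]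
        rw [e1]
        clear hz e1 hbi hb hx
        induction z using TensorProduct.induction_on with
        | zero => rw [map_zero, map_zero]; exact Submodule.zero_mem _
        | tmul b₁ j =>
          rw [mm_tmul]
          have e2 : Ideal.Quotient.mk I₁ ((j : A') • b₁) = (j : A') • Ideal.Quotient.mk I₁ b₁ :=
            map_smul (Ideal.Quotient.mkₐ A' I₁) (j : A') b₁
          rw [e2]
          exact Submodule.smul_mem_smul j.2 Submodule.mem_top
        | add x y hx hy => rw [map_add, map_add]; exact Submodule.add_mem _ hx hy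
      · rw [Submodule.smul_le]
        intro j hj x _
        rw [LinearMap.mem_ker, map_smul,
          ← algebraMap_smul (A' ⧸ J) j (g.toLinearMap x), Ideal.Quotient.algebraMap_eq,
          Ideal.Quotient.eq_zero_iff_mem.mpr hj, zero_smul]
    let e : ((A' ⧸ J) ⊗[A'] (B' ⧸ I₁)) ≃ₗ[A'] ((B' ⧸ J.map (algebraMap A' B')) ⧸ I) :=
      (TensorProduct.quotTensorEquivQuotSMul (B' ⧸ I₁) J) ≪≫ₗ
        (Submodule.quotEquivOfEq _ _ hker.symm) ≪≫ₗ (g.toLinearMap.quotKerEquivOfSurjective hg)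
    have hsurj : Function.Surjective (algebraMap A' (A' ⧸ J)) := by
      rw [Ideal.Quotient.algebraMap_eq]; exact Ideal.Quotient.mk_surjective
    exact Module.Flat.of_linearEquiv (e.extendScalarsOfSurjective hsurj)
  · rw [injective_iff_map_eq_zero]
    intro t ht
    let mkL : B' →ₗ[A'] (B' ⧸ I₁) := (Ideal.Quotient.mkₐ A' I₁).toLinearMap
    have hmk : Function.Surjective mkL := Ideal.Quotient.mkₐ_surjective A' I₁
    obtain ⟨t', rfl⟩ := LinearMap.lTensor_surjective ↥J hmk t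
    have key : ∀ t' : ↥J ⊗[A'] B', TensorProduct.lid A' (B' ⧸ I₁)
        (LinearMap.rTensor (B' ⧸ I₁) (Submodule.subtype J) (LinearMap.lTensor ↥J mkL t')) =
        Ideal.Quotient.mk I₁ (mm J B' (TensorProduct.comm A' ↥J B' t')) := by
      intro t'
      induction t' using TensorProduct.induction_on with
      | zero => simp only [map_zero]
      | tmul j b =>
        rw [LinearMap.lTensor_tmul, LinearMap.rTensor_tmul, TensorProduct.lid_tmul,
          TensorProduct.comm_tmul, mm_tmul]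
        exact (map_smul (Ideal.Quotient.mkₐ A' I₁) (j : A') b).symm
      | add x y hx hy => simp only [map_add, hx, hy]
    have key2 : ∀ t' : ↥J ⊗[A'] B', TensorProduct.comm A' ↥J (B' ⧸ I₁)
        (LinearMap.lTensor ↥J mkL t') =
        LinearMap.rTensor ↥J mkL (TensorProduct.comm A' ↥J B' t') := by
      intro t'
      induction t' using TensorProduct.induction_on with
      | zero => simp only [map_zero]
      | tmul j b => rfl
      | add x y hx hy => simp only [map_add, hx, hy]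
    have h3 : mm J B' (TensorProduct.comm A' ↥J B' t') ∈ I₁ := by
      rw [← Ideal.Quotient.eq_zero_iff_mem, ← key, ht, map_zero]
    have h4 := mk_eq_zero_of_qq_eq_zero hJ h₁ (H _ h3)
    apply (TensorProduct.comm A' ↥J (B' ⧸ I₁)).injective
    rw [key2, map_zero]
    exact h4

section Translate

variable (J B' I)
variable (I' : Ideal B') (φ : ↥I →ₗ[B'] (((B' ⧸ J.map (algebraMap A' B')) ⧸ I) ⊗[A'] ↥J))

/-- The translate `I' + φ` of a lift `I'` of `I` by `φ : I → (B/I) ⊗ J`. -/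
noncomputable def translate : Ideal B' where
  carrier := {y | ∃ x' ∈ I', ∃ z : B' ⊗[A'] ↥J, ∃ xi : ↥I,
      (xi : B' ⧸ J.map (algebraMap A' B')) = Ideal.Quotient.mk (J.map (algebraMap A' B')) x' ∧
        y = x' + mm J B' z ∧ qq J B' I z = φ xi}
  add_mem' := by
    rintro a b ⟨x₁, hx₁, z₁, xi₁, e₁, rfl, q₁⟩ ⟨x₂, hx₂, z₂, xi₂, e₂, rfl, q₂⟩
    refine ⟨x₁ + x₂, I'.add_mem hx₁ hx₂, z₁ + z₂, xi₁ + xi₂, ?_, ?_, ?_⟩
    · rw [Submodule.coe_add, e₁, e₂, map_add]
    · rw [map_add]; ring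
    · rw [map_add, map_add, q₁, q₂]
  zero_mem' := ⟨0, I'.zero_mem, 0, 0, by simp, by simp, by simp⟩
  smul_mem' := by
    rintro c a ⟨x, hx, z, xi, e, rfl, q⟩
    refine ⟨c * x, I'.mul_mem_left c hx, c • z, c • xi, ?_, ?_, ?_⟩
    · rw [Submodule.coe_smul_of_tower, e, Algebra.smul_def, map_mul]; rfl
    · rw [mm_smul, smul_eq_mul, mul_add]
    · rw [qq_smul, map_smul, q]

variable {J B' I I' φ}

lemma map_translate (hI' : I'.map (Ideal.Quotient.mk (J.map (algebraMap A' B'))) = I) :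
    (translate J B' I I' φ).map (Ideal.Quotient.mk (J.map (algebraMap A' B'))) = I := by
  apply le_antisymm
  · rw [Ideal.map_le_iff_le_comap]
    rintro y ⟨x', hx', z, xi, e, rfl, -⟩
    rw [Ideal.mem_comap, map_add, Ideal.Quotient.eq_zero_iff_mem.mpr (mm_mem J B' z), add_zero, ← e]
    exact xi.2
  · intro x hx
    have hx0 := hx
    rw [← hI', Ideal.mem_map_iff_of_surjective _ Ideal.Quotient.mk_surjective] at hx0
    obtain ⟨x', hx', rfl⟩ := hx0
    obtain ⟨z, hz⟩ := qq_surjective J B' I (φ ⟨_, hx⟩)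
    have h1 : x' + mm J B' z ∈ translate J B' I I' φ := ⟨x', hx', z, ⟨_, hx⟩, rfl, rfl, hz⟩
    have h2 := Ideal.mem_map_of_mem (Ideal.Quotient.mk (J.map (algebraMap A' B'))) h1
    rwa [map_add, Ideal.Quotient.eq_zero_iff_mem.mpr (mm_mem J B' z), add_zero] at h2

lemma translate_diff [Module.Flat A' (B' ⧸ I')]
    (hI' : I'.map (Ideal.Quotient.mk (J.map (algebraMap A' B'))) = I)
    (x : B' ⧸ J.map (algebraMap A' B')) (hx : x ∈ I) (x' x'' : B') (hx' : x' ∈ I')
    (hx'' : x'' ∈ translate J B' I I' φ)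
    (_e' : Ideal.Quotient.mk (J.map (algebraMap A' B')) x' = x)
    (e'' : Ideal.Quotient.mk (J.map (algebraMap A' B')) x'' = x)
    (z : B' ⊗[A'] ↥J) (hz : mm J B' z = x'' - x') : qq J B' I z = φ ⟨x, hx⟩ := by
  obtain ⟨y', hy', w, xi, e, rfl, q⟩ := hx''
  have hxi : xi = ⟨x, hx⟩ := by
    apply Subtype.ext
    rw [e]
    rw [map_add, Ideal.Quotient.eq_zero_iff_mem.mpr (mm_mem J B' w), add_zero] at e''
    exact e''
  rw [← hxi, ← q]
  have h0 : mm J B' (z - w) ∈ I' := by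
    rw [map_sub, hz]
    have h1 : y' + mm J B' w - x' - mm J B' w = y' - x' := by ring
    rw [h1]; exact I'.sub_mem hy' hx'
  have h2 := qq_eq_zero_of_flat hI' h0
  rw [map_sub, sub_eq_zero] at h2
  exact h2

theorem flat_translate (hJ : J * J = ⊥) [Module.Flat A' (B' ⧸ I')]
    [Module.Flat (A' ⧸ J) ((B' ⧸ J.map (algebraMap A' B')) ⧸ I)]
    (hI' : I'.map (Ideal.Quotient.mk (J.map (algebraMap A' B'))) = I) :
    Module.Flat A' (B' ⧸ translate J B' I I' φ) := by
  apply flat_of_forall hJ (map_translate hI')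
  intro z hz
  obtain ⟨x', hx', w, xi, e, hzw, q⟩ := hz
  have hx'eq : x' = mm J B' (z - w) := by rw [map_sub, hzw]; ring
  have hπ : Ideal.Quotient.mk (J.map (algebraMap A' B')) x' = 0 := by
    rw [hx'eq]; exact Ideal.Quotient.eq_zero_iff_mem.mpr (mm_mem J B' _)
  have hxi : xi = 0 := Subtype.ext (by rw [e, hπ]; rfl)
  have hqw : qq J B' I w = 0 := by rw [q, hxi, map_zero]
  have h0 : mm J B' (z - w) ∈ I' := hx'eq ▸ hx'
  have h2 := qq_eq_zero_of_flat hI' h0
  rw [map_sub, hqw, sub_zero] at h2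
  exact h2

theorem eq_translate (hJ : J * J = ⊥)
    (hI' : I'.map (Ideal.Quotient.mk (J.map (algebraMap A' B'))) = I) {I₁ : Ideal B'}
    (h₁ : I₁.map (Ideal.Quotient.mk (J.map (algebraMap A' B'))) = I)
    (hd : ∀ (x : B' ⧸ J.map (algebraMap A' B')) (hx : x ∈ I) (x' x'' : B'), x' ∈ I' → x'' ∈ I₁ →
      Ideal.Quotient.mk (J.map (algebraMap A' B')) x' = x →
      Ideal.Quotient.mk (J.map (algebraMap A' B')) x'' = x →
      ∀ z : B' ⊗[A'] ↥J, mm J B' z = x'' - x' → qq J B' I z = φ ⟨x, hx⟩) :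
    I₁ = translate J B' I I' φ := by
  apply le_antisymm
  · intro x'' hx''
    have hx : Ideal.Quotient.mk (J.map (algebraMap A' B')) x'' ∈ I := by
      rw [← h₁]; exact Ideal.mem_map_of_mem _ hx''
    have hx0 := hx
    rw [← hI', Ideal.mem_map_iff_of_surjective _ Ideal.Quotient.mk_surjective] at hx0
    obtain ⟨x', hx', e'⟩ := hx0
    have hd' : x'' - x' ∈ J.map (algebraMap A' B') := by
      rw [← Ideal.Quotient.eq]; exact e'.symm
    obtain ⟨z, hz⟩ := exists_mm_eq J B' hd'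
    have h5 := hd _ hx x' x'' hx' hx'' e' rfl z hz
    exact ⟨x', hx', z, ⟨_, hx⟩, e'.symm, by rw [hz]; ring, h5⟩
  · rintro y ⟨x', hx', z, xi, e, rfl, q⟩
    have hxi : (xi : B' ⧸ J.map (algebraMap A' B')) ∈
        I₁.map (Ideal.Quotient.mk (J.map (algebraMap A' B'))) := by rw [h₁]; exact xi.2
    rw [Ideal.mem_map_iff_of_surjective _ Ideal.Quotient.mk_surjective] at hxi
    obtain ⟨x₁, hx₁, e₁⟩ := hxi
    have hd' : x₁ - x' ∈ J.map (algebraMap A' B') := by
      rw [← Ideal.Quotient.eq, e₁, e]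
    obtain ⟨z₁, hz₁⟩ := exists_mm_eq J B' hd'
    have h5 := hd xi.1 xi.2 x' x₁ hx' hx₁ e.symm e₁ z₁ hz₁
    have h6 : qq J B' I (z - z₁) = 0 := by
      rw [map_sub, q, h5]; exact sub_self _
    have h7 := mm_mem_of_qq_eq_zero hJ h₁ h6
    have h8 : x' + mm J B' z = x₁ + mm J B' (z - z₁) := by rw [map_sub, hz₁]; ring
    rw [h8]; exact I₁.add_mem hx₁ h7

end Translate

end Groth.Agent.Lib.Helper24.SqZeroLift
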