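import Mathlib

set_option autoImplicit false
set_option maxHeartbeats 400000
set_option linter.style.haveILetI false
set_option linter.unusedSectionVars false
set_option linter.unusedVariables false

/-!
# A factorization "immersion followed by finite" is stable under base change

Sub-lemma (P1) for helper27's S4825.
-/

universe u

open CategoryTheory CategoryTheory.Limits AlgebraicGeometry

namespace Groth.Agent.Lib.Helper24.StalkFac1

/-- (P1) -/
theorem fac_baseChange {X Y T : Scheme.{u}} (f : X ⟶ Y) (t : T ⟶ Y) (Y' : Scheme.{u})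
    (f' : X ⟶ Y') (u : Y' ⟶ Y) (hf' : IsImmersion f') (hu : IsFinite u) (h : f' ≫ u = f) :
    ∃ (Z : Scheme.{u}) (g : pullback f t ⟶ Z) (u' : Z ⟶ T),
      IsImmersion g ∧ IsFinite u' ∧ g ≫ u' = pullback.snd f t := by
  subst h
  have hg1 : pullback.map (f' ≫ u) t u t f' (𝟙 T) (𝟙 Y) (by simp) (by simp) ≫ pullback.snd u t =
      pullback.snd (f' ≫ u) t := by
    simp only [pullback.map, Category.comp_id]
    exact pullback.lift_snd _ _ _
  have hg2 : pullback.map (f' ≫ u) t u t f' (𝟙 T) (𝟙 Y) (by simp) (by simp) ≫ pullback.fst u t =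
      pullback.fst (f' ≫ u) t ≫ f' := by
    simp only [pullback.map, Category.comp_id]
    exact pullback.lift_fst _ _ _
  refine ⟨pullback u t, pullback.map (f' ≫ u) t u t f' (𝟙 T) (𝟙 Y) (by simp) (by simp),
    pullback.snd u t, ?_, inferInstance, hg1⟩
  have big : IsPullback
      (pullback.map (f' ≫ u) t u t f' (𝟙 T) (𝟙 Y) (by simp) (by simp) ≫ pullback.snd u t)
      (pullback.fst (f' ≫ u) t) t (f' ≫ u) := by
    rw [hg1]
    exact (IsPullback.of_hasPullback (f' ≫ u) t).flip
  have right : IsPullback (pullback.snd u t) (pullback.fst u t) t u :=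
    (IsPullback.of_hasPullback u t).flip
  have left := IsPullback.of_right big hg2 right
  exact MorphismProperty.of_isPullback (P := @IsImmersion) left.flip hf'

end Groth.Agent.Lib.Helper24.StalkFac1
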