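import Mathlib

set_option autoImplicit false
set_option maxHeartbeats 400000
set_option linter.style.haveILetI false
set_option linter.unusedSectionVars false
set_option linter.unusedVariables false

/-!
# Local quasi-finiteness can be checked after base change to the local schemes of the base

Sub-lemma (P3) for helper27's S4825.
-/

universe u

open CategoryTheory CategoryTheory.Limits AlgebraicGeometry

namespace Groth.Agent.Lib.Helper24.StalkFac3

/-- (P3) -/
theorem locallyQuasiFinite_of_forall_stalk {X Y : Scheme.{u}} (f : X ⟶ Y)
    [LocallyOfFiniteType f] [QuasiCompact f]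
    (H : ∀ y : Y, LocallyQuasiFinite (pullback.snd f (Y.fromSpecStalk y))) :
    LocallyQuasiFinite f := by
  rw [locallyQuasiFinite_iff_finite_preimage_singleton]
  intro y
  haveI := H y
  have hfin : ((pullback.snd f (Y.fromSpecStalk y)) ⁻¹'
      {IsLocalRing.closedPoint (Y.presheaf.stalk y)}).Finite :=
    (pullback.snd f (Y.fromSpecStalk y)).finite_preimage_singleton _
  refine (hfin.image (pullback.fst f (Y.fromSpecStalk y))).subset ?_
  intro x hx
  have hx' : f x = y := hx
  have hc : (Y.fromSpecStalk y) (IsLocalRing.closedPoint (Y.presheaf.stalk y)) = y :=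
    Scheme.fromSpecStalk_closedPoint
  obtain ⟨z, hz1, hz2⟩ := Scheme.Pullback.exists_preimage_pullback (f := f)
    (g := Y.fromSpecStalk y) x (IsLocalRing.closedPoint (Y.presheaf.stalk y)) (hx'.trans hc.symm)
  exact ⟨z, hz2, hz1⟩

end Groth.Agent.Lib.Helper24.StalkFac3
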