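import Mathlib
import Groth.Prelude.Def_RegImm
import Groth.Prelude.Def_Flat
import Groth.Agent.Lib.Helper24.SyntLocalSch
import Groth.Agent.Lib.Helper24.SyntRelGCI
import Groth.Agent.Lib.Helper24.RelGCIDim
import Groth.Agent.Lib.Helper22.RelGCIReg
import Groth.Agent.Lib.Helper12.TopFibreDim

/-!
# Standard syntomic neighbourhoods (helper24)

* `exists_standard` : a morphism syntomic at `x` is standard syntomic on an affine neighbourhood
  of `x` mapping into any prescribed affine neighbourhood of `f x`;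
* `isSyntomicAt_of_standard` : the converse;
* `fibreDimAt_of_standard` : fibre dimension of a standard syntomic morphism is `n - c`.
-/

set_option autoImplicit false
set_option maxHeartbeats 400000
set_option linter.style.haveILetI false

universe u

open AlgebraicGeometry CategoryTheory Synt TopologicalSpace

namespace Groth.Agent.Lib.Helper24.StdSynt

open Groth.Agent.Lib.Helper24.SyntLocal Groth.Agent.Lib.Helper24.SyntLocalSch
open Groth.Agent.Lib.Helper12.TopFibreDim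

/-- On affine opens, `P (f.resLE V U e)` is the syntomic property of the ring map `f.appLE V U e`. -/
theorem P_resLE_iff {X S : Scheme.{u}} (f : X ⟶ S) {U : X.Opens} {V : S.Opens}
    (hU : IsAffineOpen U) (hV : IsAffineOpen V) (e : U ≤ f ⁻¹ᵁ V) :
    P (f.resLE V U e) ↔ Q (f.appLE V U e).hom := by
  haveI : IsAffine (U : Scheme.{u}) := hU
  haveI : IsAffine (V : Scheme.{u}) := hV
  rw [HasRingHomProperty.iff_of_isAffine (P := P)]
  exact Q_isLocal.respectsIso.arrow_mk_iso_iff (arrowResLEAppIso f V U e)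

theorem isoSpec_hom_SpecMap_appLE {X S : Scheme.{u}} (f : X ⟶ S) {U : X.Opens} {V : S.Opens}
    (hU : IsAffineOpen U) (hV : IsAffineOpen V) (e : U ≤ f ⁻¹ᵁ V) :
    hU.isoSpec.hom ≫ Spec.map (f.appLE V U e) = f.resLE V U e ≫ hV.isoSpec.hom := by
  rw [← cancel_mono hV.fromSpec, Category.assoc, IsAffineOpen.SpecMap_appLE_fromSpec f hV hU e,
    ← Category.assoc, hU.isoSpec_hom_fromSpec, Category.assoc, hV.isoSpec_hom_fromSpec,
    Scheme.Hom.resLE_comp_ι]

/-- A ring isomorphism `Γ(S,V)[x]/(G) ≃ Γ(X,U)` of `Γ(S,V)`-algebras exhibits `f|_U : U ⟶ V`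
as standard syntomic. -/
theorem isStandardSyntomic_of_ringEquiv {X S : Scheme.{u}} (f : X ⟶ S) {U : X.Opens} {V : S.Opens}
    (hU : IsAffineOpen U) (hV : IsAffineOpen V) (e : U ≤ f ⁻¹ᵁ V) (N K : ℕ)
    (G : Fin K → MvPolynomial (Fin N) Γ(S, V)) (hG : IsRelGCI Γ(S, V) N K G)
    (ψ : RelGCIRing Γ(S, V) N K G ≃+* Γ(X, U))
    (hψ : ∀ r, ψ (algebraMap Γ(S, V) (RelGCIRing Γ(S, V) N K G) r) = (f.appLE V U e).hom r) :
    IsStandardSyntomic (f.resLE V U e) := by
  refine ⟨Γ(S, V), inferInstance, N, K, G, hG,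
    hU.isoSpec ≪≫ Scheme.Spec.mapIso ψ.toCommRingCatIso.op, hV.isoSpec, ?_⟩
  have h1 : CommRingCat.ofHom (algebraMap Γ(S, V) (RelGCIRing Γ(S, V) N K G)) ≫
      ψ.toCommRingCatIso.hom = f.appLE V U e := by
    ext r
    exact hψ r
  simp only [Iso.trans_hom, Functor.mapIso_hom, Iso.op_hom, Scheme.Spec_map, Quiver.Hom.unop_op,
    Category.assoc]
  rw [← Spec.map_comp, h1]
  exact isoSpec_hom_SpecMap_appLE f hU hV e

/-- Ring-level input: a syntomic algebra is, near any prime, a relative global complete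
intersection. -/
theorem exists_away_equiv (R A : Type u) [CommRing R] [CommRing A] [Algebra R A]
    (hsynt : IsSyntomic R A) (q : Ideal A) [q.IsPrime] :
    ∃ g : A, g ∉ q ∧ ∃ (N K : ℕ) (G : Fin K → MvPolynomial (Fin N) R), IsRelGCI R N K G ∧
      ∀ (B : Type u) [CommRing B] [Algebra A B] [IsLocalization.Away g B],
        ∃ ψ : RelGCIRing R N K G ≃+* B,
          ∀ r : R, ψ (algebraMap R (RelGCIRing R N K G) r) = algebraMap A B (algebraMap R A r) := by
  obtain ⟨g, hg, N, K, G, hG, ⟨e₀⟩⟩ :=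
    Groth.Agent.Lib.Helper24.SyntRelGCI.exists_relGCI_away R A hsynt q
  refine ⟨g, hg, N, K, G, hG, fun B _ _ _ => ?_⟩
  let θ : Localization.Away g ≃ₐ[A] B := IsLocalization.algEquiv (Submonoid.powers g) _ _
  refine ⟨e₀.symm.toRingEquiv.trans θ.toRingEquiv, fun r => ?_⟩
  change θ (e₀.symm (algebraMap R _ r)) = _
  rw [e₀.symm.commutes, IsScalarTower.algebraMap_apply R A (Localization.Away g), θ.commutes]

/-- `(⇒)` of S9364. -/
theorem exists_standard {X S : Scheme.{u}} (f : X ⟶ S) (x : X) (V : S.affineOpens)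
    (hV : f.base x ∈ V.1) (h : IsSyntomicAt f x) :
    ∃ (U : X.affineOpens) (e : U.1 ≤ f ⁻¹ᵁ V.1), x ∈ U.1 ∧
      IsStandardSyntomic (f.resLE V.1 U.1 e) := by
  obtain ⟨U₀, V₀, e₀, hx₀, hsynt₀⟩ := h
  haveI := HasRingHomProperty.respects_isOpenImmersion (P := P) Q_stableSource
  have hP₀ : P (f.resLE V₀.1 U₀.1 e₀) := (P_resLE_iff f U₀.2 V₀.2 e₀).mpr hsynt₀
  have hP₁ : P (U₀.1.ι ≫ f) := by
    rw [← Scheme.Hom.resLE_comp_ι f e₀]
    exact MorphismProperty.RespectsRight.postcomp (Q := @IsOpenImmersion) _ inferInstance _ hP₀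
  obtain ⟨U', hU', hxU', hle⟩ := Opens.isBasis_iff_nbhd.mp X.isBasis_affineOpens
    (show x ∈ U₀.1 ⊓ f ⁻¹ᵁ V.1 from ⟨hx₀, hV⟩)
  have hle₀ : U' ≤ U₀.1 := hle.trans inf_le_left
  have e' : U' ≤ f ⁻¹ᵁ V.1 := hle.trans inf_le_right
  have hP₂ : P (Scheme.Opens.ι (X := X) U' ≫ f) := by
    rw [← X.homOfLE_ι hle₀, Category.assoc]
    exact IsZariskiLocalAtSource.comp hP₁ _
  have hP₃ : P (f.resLE V.1 U' e') := by
    haveI : P.HasOfPostcompProperty @IsOpenImmersion :=
      hasOfPostcompProperty_isOpenImmersion_of_morphismRestrict P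
        (fun f U hf => IsZariskiLocalAtTarget.restrict hf U)
    refine MorphismProperty.of_postcomp (W := P) (W' := @IsOpenImmersion) (f.resLE V.1 U' e') V.1.ι
      inferInstance ?_
    rw [Scheme.Hom.resLE_comp_ι]
    exact hP₂
  have hQ : Q (f.appLE V.1 U' e').hom := (P_resLE_iff f hU' V.2 e').mp hP₃
  letI := (f.appLE V.1 U' e').hom.toAlgebra
  have hsynt : IsSyntomic Γ(S, V.1) Γ(X, U') := hQ
  let q := hU'.primeIdealOf ⟨x, hxU'⟩
  haveI := q.isPrime
  obtain ⟨g, hg, N, K, G, hG, hψ⟩ := exists_away_equiv Γ(S, V.1) Γ(X, U') hsynt q.asIdeal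
  haveI := hU'.isLocalization_basicOpen g
  obtain ⟨ψ, hψ⟩ := hψ Γ(X, X.basicOpen g)
  have hxg : x ∈ X.basicOpen g := by
    have h1 : hU'.fromSpec q ∈ X.basicOpen g := by
      change q ∈ hU'.fromSpec ⁻¹ᵁ X.basicOpen g
      rw [hU'.fromSpec_preimage_basicOpen]
      exact hg
    rwa [hU'.fromSpec_primeIdealOf] at h1
  refine ⟨⟨X.basicOpen g, hU'.basicOpen g⟩, (X.basicOpen_le g).trans e', hxg, ?_⟩
  refine isStandardSyntomic_of_ringEquiv f (hU'.basicOpen g) V.2 _ N K G hG ψ (fun r => ?_)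
  rw [hψ r]
  exact congrArg (fun φ => φ.hom r) (f.appLE_map e' (homOfLE (X.basicOpen_le g)).op)

/-- `(⇐)` of S9364. -/
theorem isSyntomicAt_of_standard {X S : Scheme.{u}} (f : X ⟶ S) (x : X) (V : S.affineOpens)
    (U : X.affineOpens) (e : U.1 ≤ f ⁻¹ᵁ V.1) (hx : x ∈ U.1)
    (hstd : IsStandardSyntomic (f.resLE V.1 U.1 e)) : IsSyntomicAt f x := by
  obtain ⟨R, _, n, c, F, hF, e₁, e₂, comm⟩ := hstd
  have h1 : P (Spec.map (CommRingCat.ofHom (algebraMap R (RelGCIRing R n c F)))) := by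
    rw [HasRingHomProperty.Spec_iff (P := P)]
    change @IsSyntomic R _ (RelGCIRing R n c F) _ (algebraMap R (RelGCIRing R n c F)).toAlgebra
    exact isSyntomic_congr_algebra (inferInstance : Algebra R (RelGCIRing R n c F)) _
      (fun _ => rfl) (Groth.Agent.Lib.Helper22.RelGCIReg.isSyntomic R n c F hF)
  have h2 : P (f.resLE V.1 U.1 e) := (P.arrow_mk_iso_iff (Arrow.isoMk e₁ e₂ comm)).mpr h1
  exact ⟨U, V, e, hx, (P_resLE_iff f U.2 V.2 e).mp h2⟩

/-- The fibre dimension of a standard syntomic morphism is `n - c` everywhere. -/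
theorem fibreDimAt_of_standard {U V : Scheme.{u}} (g : U ⟶ V) (R : Type u) [CommRing R] (n c : ℕ)
    (F : Fin c → MvPolynomial (Fin n) R) (hF : IsRelGCI R n c F)
    (e₁ : U ≅ Spec (CommRingCat.of (RelGCIRing R n c F))) (e₂ : V ≅ Spec (CommRingCat.of R))
    (comm : e₁.hom ≫ Spec.map (CommRingCat.ofHom (algebraMap R (RelGCIRing R n c F))) =
      g ≫ e₂.hom) (y : U) :
    topFibreDim g.base y = ((n - c : ℕ) : WithBot ℕ∞) := by
  have hg : g = e₁.hom ≫ Spec.map (CommRingCat.ofHom (algebraMap R (RelGCIRing R n c F))) ≫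
      e₂.inv := by
    rw [← Category.assoc, comm, Category.assoc, Iso.hom_inv_id, Category.comp_id]
  have h1 : (g.base : U → V) = e₂.inv.base ∘
      ((Spec.map (CommRingCat.ofHom (algebraMap R (RelGCIRing R n c F)))).base ∘ e₁.hom.base) := by
    rw [hg]
    rfl
  rw [topFibreDim_congr h1, topFibreDim_comp_injective _ _ e₂.inv.isOpenEmbedding.injective,
    topFibreDim_comp_isOpenEmbedding _ _ e₁.hom.isOpenEmbedding, ← fibreDimAt_eq_topFibreDim]
  exact Groth.Agent.Lib.Helper24.RelGCIDim.fibreDimAt_eq R n c F hF _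

/-- S9367: fibre dimension of a syntomic morphism is locally constant. -/
theorem isLocallyConstant_fibreDimAt {X S : Scheme.{u}} (f : X ⟶ S) (hf : IsSyntomicMor f) :
    IsLocallyConstant (fun x : ↑X => FlatMor.fibreDimAt f x) := by
  rw [IsLocallyConstant.iff_exists_open]
  intro x
  obtain ⟨V, hV, hfx, -⟩ := Opens.isBasis_iff_nbhd.mp S.isBasis_affineOpens
    (Opens.mem_top (f.base x))
  obtain ⟨U, e, hxU, R, _, n, c, F, hF, e₁, e₂, comm⟩ := exists_standard f x ⟨V, hV⟩ hfx (hf x)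
  have h2 : (f.base ∘ U.1.ι.base : (U.1 : Scheme.{u}) → S) =
      (Scheme.Opens.ι (X := S) V).base ∘ (f.resLE V U.1 e).base := by
    have := congrArg (fun φ => (φ.base : (U.1 : Scheme.{u}) → S)) (Scheme.Hom.resLE_comp_ι f e)
    exact this.symm
  have key : ∀ y' : (U.1 : Scheme.{u}),
      FlatMor.fibreDimAt f (U.1.ι.base y') = ((n - c : ℕ) : WithBot ℕ∞) := by
    intro y'
    rw [fibreDimAt_eq_topFibreDim, ← topFibreDim_comp_isOpenEmbedding _ _ U.1.ι.isOpenEmbedding,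
      topFibreDim_congr h2,
      topFibreDim_comp_injective _ _ (Scheme.Opens.ι (X := S) V).isOpenEmbedding.injective]
    exact fibreDimAt_of_standard _ R n c F hF e₁ e₂ comm _
  refine ⟨U.1, U.1.isOpen, hxU, fun y hy => ?_⟩
  have hy' : FlatMor.fibreDimAt f y = ((n - c : ℕ) : WithBot ℕ∞) :=
    key (⟨y, hy⟩ : (U.1 : Scheme.{u}))
  have hx' : FlatMor.fibreDimAt f x = ((n - c : ℕ) : WithBot ℕ∞) :=
    key (⟨x, hxU⟩ : (U.1 : Scheme.{u}))
  exact hy'.trans hx'.symm

end Groth.Agent.Lib.Helper24.StdSynt
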