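import Mathlib
import Groth.Prelude.Def_W4c3degenlocivbPfaff

/-!
# Sub-Pfaffians of a general alternating matrix of binary linear forms (helper24)

* `pf_map`, `pf_homog`: the prelude Pfaffian commutes with ring maps and is homogeneous.
* `bandM n w`: the alternating tridiagonal matrix with superdiagonal `w`; `pf_bandM`:
  its Pfaffian is `∏ w (2 j)`; `bandM_submatrix`: deleting a vertex.
* `homog2`: binary forms of degree `r` in terms of the monomials `mm r j`.
* `main`: the statement of S16355.
-/

set_option autoImplicit false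
set_option maxHeartbeats 400000
set_option linter.style.haveILetI false
set_option linter.unusedSectionVars false

namespace Groth.Agent.Lib.Helper24.SubPfaff

open W4c3degenlocivb

universe u

section pf

variable {R : Type*} [CommRing R]

lemma pf_succ_succ (n : ℕ) (T : Matrix (Fin (n + 2)) (Fin (n + 2)) R) :
    pf (n + 2) T = ∑ j : Fin (n + 1),
      (-1) ^ ((j : ℕ) + 1) * T (Fin.last (n + 1)) (Fin.castSucc j) *
        pf n (T.submatrix (Fin.castSucc ∘ j.succAbove) (Fin.castSucc ∘ j.succAbove)) := rfl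

lemma pf_map {S : Type*} [CommRing S] (f : R →+* S) :
    ∀ (n : ℕ) (T : Matrix (Fin n) (Fin n) R), pf n (T.map f) = f (pf n T) := by
  intro n
  refine Nat.twoStepInduction ?_ ?_ ?_ n
  · intro T
    show (1 : S) = f 1
    rw [map_one]
  · intro T
    show (0 : S) = f 0
    rw [map_zero]
  · intro n ih _ T
    rw [pf_succ_succ, pf_succ_succ, map_sum]
    refine Finset.sum_congr rfl fun j _ => ?_
    rw [map_mul, map_mul, map_pow, map_neg, map_one, Matrix.map_apply, ← ih]
    rfl

lemma pf_homog {σ : Type*} {k : Type*} [CommRing k] :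
    ∀ (n : ℕ) (T : Matrix (Fin n) (Fin n) (MvPolynomial σ k)),
      (∀ a b, (T a b).IsHomogeneous 1) → (pf n T).IsHomogeneous (n / 2) := by
  intro n
  refine Nat.twoStepInduction ?_ ?_ ?_ n
  · intro T _
    exact MvPolynomial.isHomogeneous_one σ k
  · intro T _
    exact MvPolynomial.isHomogeneous_zero σ k _
  · intro n ih _ T hT
    rw [pf_succ_succ]
    apply MvPolynomial.IsHomogeneous.sum
    intro j _
    have h1 : ((-1 : MvPolynomial σ k) ^ ((j : ℕ) + 1)).IsHomogeneous 0 := by
      have := ((MvPolynomial.isHomogeneous_one σ k).neg).pow ((j : ℕ) + 1)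
      simpa using this
    have h2 := (h1.mul (hT (Fin.last (n + 1)) (Fin.castSucc j))).mul
      (ih (T.submatrix (Fin.castSucc ∘ j.succAbove) (Fin.castSucc ∘ j.succAbove))
        (fun a b => hT _ _))
    have e : 0 + 1 + n / 2 = (n + 2) / 2 := by omega
    rw [e] at h2
    exact h2

lemma succAbove_val (m : ℕ) (p : Fin (m + 1)) (a : Fin m) :
    ((p.succAbove a : Fin (m + 1)) : ℕ) = if (a : ℕ) < p then (a : ℕ) else a + 1 := by
  simp only [Fin.succAbove, Fin.lt_def, Fin.val_castSucc]
  split_ifs <;> simp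

/-- alternating tridiagonal matrix with superdiagonal `w`. -/
def bandM (n : ℕ) (w : ℕ → R) : Matrix (Fin n) (Fin n) R := fun a b =>
  if (b : ℕ) = a + 1 then w a else if (a : ℕ) = b + 1 then -w b else 0

lemma pf_bandM_succ_succ (n : ℕ) (w : ℕ → R) :
    pf (n + 2) (bandM (n + 2) w) = (-1) ^ n * w n * pf n (bandM n w) := by
  rw [pf_succ_succ, Finset.sum_eq_single (Fin.last n)]
  · have hsub : (bandM (n + 2) w).submatrix (Fin.castSucc ∘ (Fin.last n).succAbove)
        (Fin.castSucc ∘ (Fin.last n).succAbove) = bandM n w := by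
      ext a b
      simp [bandM, Fin.succAbove_last]
    have hent : bandM (n + 2) w (Fin.last (n + 1)) (Fin.castSucc (Fin.last n)) = -w n := by
      simp only [bandM, Fin.val_last, Fin.val_castSucc]
      rw [if_neg (by omega)]
      simp
    rw [hsub, hent, Fin.val_last, pow_succ]
    ring
  · intro j _ hj
    have hjn : (j : ℕ) ≠ n := fun h => hj (Fin.ext (by simpa using h))
    have hent : bandM (n + 2) w (Fin.last (n + 1)) (Fin.castSucc j) = 0 := by
      have hj2 := j.isLt
      simp only [bandM, Fin.val_last, Fin.val_castSucc]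
      rw [if_neg (by omega), if_neg (by omega)]
    rw [hent, mul_zero, zero_mul]
  · intro h
    exact absurd (Finset.mem_univ _) h

lemma pf_bandM (w : ℕ → R) : ∀ n : ℕ, Even n →
    pf n (bandM n w) = ∏ j ∈ Finset.range (n / 2), w (2 * j) := by
  intro n
  refine Nat.twoStepInduction ?_ ?_ ?_ n
  · intro _
    rfl
  · intro h
    exact absurd h (by decide)
  · intro n ih _ hev
    have hev' : Even n := by
      rcases hev with ⟨t, ht⟩
      exact ⟨t - 1, by omega⟩
    rw [pf_bandM_succ_succ, ih hev', hev'.neg_one_pow, one_mul]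
    have e : (n + 2) / 2 = n / 2 + 1 := by omega
    rw [e, Finset.prod_range_succ, Nat.two_mul_div_two_of_even hev', mul_comm]

lemma bandM_submatrix (w : ℕ → R) (m : ℕ) (p : Fin (m + 1)) :
    (bandM (m + 1) w).submatrix p.succAbove p.succAbove =
      bandM m (fun a => if a + 1 < (p : ℕ) then w a else if a < (p : ℕ) then 0 else w (a + 1)) := by
  ext a b
  simp only [Matrix.submatrix_apply, bandM, succAbove_val]
  by_cases ha : (a : ℕ) < p <;> by_cases hb : (b : ℕ) < p <;>
    simp only [ha, hb, if_true, if_false] <;> split_ifs <;>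
    first | rfl | (exfalso; omega) | simp

end pf

section forms

variable {k : Type u} [Field k]

/-- the exponent vector of `y_0^j y_1^(r-j)`. -/
noncomputable def mm (r : ℕ) (j : ℕ) : Fin 2 →₀ ℕ := Finsupp.single 0 j + Finsupp.single 1 (r - j)

lemma mm_zero (r j : ℕ) : mm r j 0 = j := by
  simp [mm]

lemma mm_one (r j : ℕ) : mm r j 1 = r - j := by
  simp [mm]

lemma mm_inj (r : ℕ) {i j : ℕ} (h : mm r i = mm r j) : i = j := by
  have := congrArg (fun m : Fin 2 →₀ ℕ => m 0) h
  simpa [mm_zero] using this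

lemma mm_degree (r j : ℕ) (hj : j ≤ r) : Finsupp.degree (mm r j) = r := by
  rw [Finsupp.degree_eq_sum, Fin.sum_univ_two, mm_zero, mm_one]
  omega

lemma eq_mm (r : ℕ) (m : Fin 2 →₀ ℕ) (hm : Finsupp.degree m = r) : m = mm r (m 0) := by
  rw [Finsupp.degree_eq_sum, Fin.sum_univ_two] at hm
  ext t
  fin_cases t
  · exact (mm_zero r (m 0)).symm
  · show m 1 = mm r (m 0) 1
    rw [mm_one]
    omega

lemma monomial_mm (r j : ℕ) :
    (MvPolynomial.monomial (mm r j) (1 : k)) =
      (MvPolynomial.X 0 : MvPolynomial (Fin 2) k) ^ j * MvPolynomial.X 1 ^ (r - j) := by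
  rw [MvPolynomial.X_pow_eq_monomial, MvPolynomial.X_pow_eq_monomial, MvPolynomial.monomial_mul,
    one_mul]
  rfl

/-- binary forms of degree `r` are combinations of the monomials `mm r j`. -/
lemma homog2 (r : ℕ) (p : MvPolynomial (Fin 2) k) (hp : p.IsHomogeneous r) :
    p = ∑ j : Fin (r + 1), MvPolynomial.C (MvPolynomial.coeff (mm r j) p) *
      MvPolynomial.monomial (mm r j) (1 : k) := by
  classical
  ext m
  rw [MvPolynomial.coeff_sum]
  simp only [MvPolynomial.coeff_C_mul, MvPolynomial.coeff_monomial]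
  by_cases hm : Finsupp.degree m = r
  · have hm0 : m 0 < r + 1 := by
      rw [Finsupp.degree_eq_sum, Fin.sum_univ_two] at hm
      omega
    rw [Finset.sum_eq_single (⟨m 0, hm0⟩ : Fin (r + 1))]
    · rw [if_pos (eq_mm r m hm).symm, mul_one, ← eq_mm r m hm]
    · intro j _ hj
      rw [if_neg, mul_zero]
      intro h
      apply hj
      apply Fin.ext
      have := congrArg (fun m' : Fin 2 →₀ ℕ => m' 0) h
      simp only [mm_zero] at this
      exact this
    · intro h
      exact absurd (Finset.mem_univ _) h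
  · rw [hp.coeff_eq_zero hm]
    symm
    apply Finset.sum_eq_zero
    intro j _
    rw [if_neg, mul_zero]
    intro h
    apply hm
    rw [← h]
    exact mm_degree r j (Nat.lt_succ_iff.mp j.isLt)

end forms

section main

variable (k : Type u) [Field k] (r : ℕ)

/-- the index of the variables of the coefficient ring. -/
abbrev Idx := Fin (2 * r + 1) × Fin (2 * r + 1) × Fin 2

/-- the matrix of linear forms attached to a coefficient array. -/
noncomputable def Nc (c : Fin (2 * r + 1) → Fin (2 * r + 1) → Fin 2 → k) :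
    Matrix (Fin (2 * r + 1)) (Fin (2 * r + 1)) (MvPolynomial (Fin 2) k) :=
  Matrix.of fun a b => ∑ l : Fin 2, MvPolynomial.C (c a b l) * MvPolynomial.X l

/-- the universal matrix of linear forms. -/
noncomputable def Um : Matrix (Fin (2 * r + 1)) (Fin (2 * r + 1))
    (MvPolynomial (Fin 2) (MvPolynomial (Idx r) k)) :=
  Matrix.of fun a b => ∑ l : Fin 2,
    MvPolynomial.C (MvPolynomial.X ((a, b, l) : Idx r)) * MvPolynomial.X l

/-- even indices. -/
def ev2 (i : Fin (r + 1)) : Fin (2 * r + 1) := ⟨2 * (i : ℕ), by have := i.isLt; omega⟩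

/-- the universal discriminant polynomial. -/
noncomputable def Phi : MvPolynomial (Idx r) k :=
  Matrix.det (fun (i j : Fin (r + 1)) =>
    MvPolynomial.coeff (mm r j)
      (pf (2 * r) ((Um k r).submatrix (ev2 r i).succAbove (ev2 r i).succAbove)))

variable {k r}

lemma Um_map (c : Fin (2 * r + 1) → Fin (2 * r + 1) → Fin 2 → k) :
    (Um k r).map (MvPolynomial.map (MvPolynomial.eval (fun p : Idx r => c p.1 p.2.1 p.2.2))) =
      Nc k r c := by
  ext a b
  simp [Um, Nc, Matrix.map_apply]

lemma eval_Phi (c : Fin (2 * r + 1) → Fin (2 * r + 1) → Fin 2 → k) :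
    MvPolynomial.eval (fun p : Idx r => c p.1 p.2.1 p.2.2) (Phi k r) =
      Matrix.det (fun (i j : Fin (r + 1)) => MvPolynomial.coeff (mm r j)
        (pf (2 * r) ((Nc k r c).submatrix (ev2 r i).succAbove (ev2 r i).succAbove))) := by
  unfold Phi
  rw [RingHom.map_det]
  congr 1
  ext i j
  rw [RingHom.mapMatrix_apply, Matrix.map_apply, ← MvPolynomial.coeff_map, ← pf_map, ← Um_map c]
  rfl

/-- weights of the path matrix. -/
noncomputable def yv (a : ℕ) : Fin 2 := ⟨a % 2, Nat.mod_lt _ (by norm_num)⟩

/-- the coefficient array of the path matrix. -/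
noncomputable def c0 (k : Type u) [Field k] (r : ℕ) :
    Fin (2 * r + 1) → Fin (2 * r + 1) → Fin 2 → k := fun a b l =>
  if (b : ℕ) = a + 1 ∧ l = yv a then 1 else if (a : ℕ) = b + 1 ∧ l = yv b then -1 else 0

lemma c0_antisymm (i j : Fin (2 * r + 1)) (l : Fin 2) : c0 k r j i l = -c0 k r i j l := by
  simp only [c0]
  by_cases hA : ((j : ℕ) = i + 1 ∧ l = yv (i : ℕ)) <;>
    by_cases hB : ((i : ℕ) = j + 1 ∧ l = yv (j : ℕ))
  · exfalso
    have h1 := hA.1
    have h2 := hB.1
    omega
  · rw [if_neg hB, if_pos hA, if_pos hA]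
  · rw [if_pos hB, if_neg hA, if_pos hB, neg_neg]
  · rw [if_neg hB, if_neg hA, if_neg hA, if_neg hB, neg_zero]

lemma Nc_c0 : Nc k r (c0 k r) =
    bandM (2 * r + 1) (fun a => (MvPolynomial.X (yv a) : MvPolynomial (Fin 2) k)) := by
  classical
  apply Matrix.ext
  intro a b
  simp only [Nc, Matrix.of_apply, bandM, c0]
  by_cases h1 : (b : ℕ) = a + 1
  · have h2 : ¬ (a : ℕ) = b + 1 := by omega
    have hc : ∀ l : Fin 2, (if (b : ℕ) = a + 1 ∧ l = yv (a : ℕ) then (1 : k)
        else if (a : ℕ) = b + 1 ∧ l = yv (b : ℕ) then -1 else 0) =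
        if l = yv (a : ℕ) then 1 else 0 := by
      intro l
      by_cases hl : l = yv (a : ℕ)
      · rw [if_pos ⟨h1, hl⟩, if_pos hl]
      · rw [if_neg (fun h => hl h.2), if_neg (fun h => h2 h.1), if_neg hl]
    rw [if_pos h1]
    simp only [hc, apply_ite (MvPolynomial.C (R := k) (σ := Fin 2)), ite_mul, map_one, one_mul,
      map_zero, zero_mul, Finset.sum_ite_eq', Finset.mem_univ, if_true]
  · by_cases h2 : (a : ℕ) = b + 1
    · have hc : ∀ l : Fin 2, (if (b : ℕ) = a + 1 ∧ l = yv (a : ℕ) then (1 : k)
          else if (a : ℕ) = b + 1 ∧ l = yv (b : ℕ) then -1 else 0) =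
          if l = yv (b : ℕ) then -1 else 0 := by
        intro l
        by_cases hl : l = yv (b : ℕ)
        · rw [if_neg (fun h => h1 h.1), if_pos ⟨h2, hl⟩, if_pos hl]
        · rw [if_neg (fun h => h1 h.1), if_neg (fun h => hl h.2), if_neg hl]
      rw [if_neg h1, if_pos h2]
      simp only [hc, apply_ite (MvPolynomial.C (R := k) (σ := Fin 2)), ite_mul, map_neg, map_one,
        neg_mul, one_mul, map_zero, zero_mul, Finset.sum_ite_eq', Finset.mem_univ, if_true]
    · have hc : ∀ l : Fin 2, (if (b : ℕ) = a + 1 ∧ l = yv (a : ℕ) then (1 : k)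
          else if (a : ℕ) = b + 1 ∧ l = yv (b : ℕ) then -1 else 0) = 0 := by
        intro l
        rw [if_neg (fun h => h1 h.1), if_neg (fun h => h2 h.1)]
      rw [if_neg h1, if_neg h2]
      simp only [hc, map_zero, zero_mul, Finset.sum_const_zero]

lemma subPf_c0 (i : Fin (r + 1)) :
    pf (2 * r) ((Nc k r (c0 k r)).submatrix (ev2 r i).succAbove (ev2 r i).succAbove) =
      MvPolynomial.monomial (mm r i) (1 : k) := by
  have hi := i.isLt
  rw [Nc_c0, bandM_submatrix, pf_bandM _ _ (even_two_mul r), Nat.mul_div_cancel_left r (by norm_num),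
    monomial_mm]
  have hr : Finset.range r = Finset.range ((i : ℕ) + (r - i)) := by
    congr 1
    omega
  rw [hr, Finset.prod_range_add]
  congr 1
  · rw [Finset.prod_congr rfl (g := fun _ => (MvPolynomial.X 0 : MvPolynomial (Fin 2) k)),
      Finset.prod_const, Finset.card_range]
    intro j hj
    have hj' := Finset.mem_range.mp hj
    have h1 : 2 * j + 1 < ((ev2 r i : Fin (2 * r + 1)) : ℕ) := by
      show 2 * j + 1 < 2 * (i : ℕ)
      omega
    rw [if_pos h1]
    congr 1
    apply Fin.ext
    show (2 * j) % 2 = 0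
    omega
  · rw [Finset.prod_congr rfl (g := fun _ => (MvPolynomial.X 1 : MvPolynomial (Fin 2) k)),
      Finset.prod_const, Finset.card_range]
    intro j _
    have h1 : ¬ 2 * ((i : ℕ) + j) + 1 < ((ev2 r i : Fin (2 * r + 1)) : ℕ) := by
      show ¬ 2 * ((i : ℕ) + j) + 1 < 2 * (i : ℕ)
      omega
    have h2 : ¬ 2 * ((i : ℕ) + j) < ((ev2 r i : Fin (2 * r + 1)) : ℕ) := by
      show ¬ 2 * ((i : ℕ) + j) < 2 * (i : ℕ)
      omega
    rw [if_neg h1, if_neg h2]
    congr 1
    apply Fin.ext
    show (2 * ((i : ℕ) + j) + 1) % 2 = 1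
    omega

theorem main (k : Type u) [Field k] (r : ℕ) :
    ∃ Φ : MvPolynomial (Fin (2 * r + 1) × Fin (2 * r + 1) × Fin 2) k,
      (∃ c : Fin (2 * r + 1) → Fin (2 * r + 1) → Fin 2 → k, (∀ i j l, c j i l = -c i j l) ∧
        MvPolynomial.eval (fun p => c p.1 p.2.1 p.2.2) Φ ≠ 0) ∧
      ∀ c : Fin (2 * r + 1) → Fin (2 * r + 1) → Fin 2 → k, (∀ i j l, c j i l = -c i j l) →
        MvPolynomial.eval (fun p => c p.1 p.2.1 p.2.2) Φ ≠ 0 →
        Submodule.span k (Set.range fun i : Fin (2 * r + 1) =>
            pf (2 * r) ((Matrix.of fun a b => ∑ l : Fin 2,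
              MvPolynomial.C (c a b l) * MvPolynomial.X l).submatrix i.succAbove i.succAbove)) =
          MvPolynomial.homogeneousSubmodule (Fin 2) k r := by
  classical
  refine ⟨Phi k r, ⟨c0 k r, c0_antisymm, ?_⟩, ?_⟩
  · rw [eval_Phi]
    have h1 : (fun (i j : Fin (r + 1)) => MvPolynomial.coeff (mm r j)
        (pf (2 * r) ((Nc k r (c0 k r)).submatrix (ev2 r i).succAbove (ev2 r i).succAbove))) =
        (1 : Matrix (Fin (r + 1)) (Fin (r + 1)) k) := by
      ext i j
      rw [subPf_c0, MvPolynomial.coeff_monomial, Matrix.one_apply]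
      by_cases hij : i = j
      · rw [if_pos hij, if_pos (by rw [hij])]
      · rw [if_neg hij, if_neg]
        intro h
        exact hij (Fin.ext (mm_inj r h))
    rw [h1, Matrix.det_one]
    exact one_ne_zero
  · intro c _ hc
    rw [eval_Phi] at hc
    obtain ⟨P, hP⟩ : ∃ P : Fin (2 * r + 1) → MvPolynomial (Fin 2) k, ∀ i,
        P i = pf (2 * r) ((Nc k r c).submatrix i.succAbove i.succAbove) := ⟨_, fun i => rfl⟩
    obtain ⟨M, hM⟩ : ∃ M : Matrix (Fin (r + 1)) (Fin (r + 1)) k, ∀ i j,
        M i j = MvPolynomial.coeff (mm r j) (P (ev2 r i)) := ⟨_, fun i j => rfl⟩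
    have hdet : IsUnit M.det := by
      apply IsUnit.mk0
      have : M = fun (i j : Fin (r + 1)) => MvPolynomial.coeff (mm r j)
          (pf (2 * r) ((Nc k r c).submatrix (ev2 r i).succAbove (ev2 r i).succAbove)) := by
        ext i j
        rw [hM, hP]
      rw [this]
      exact hc
    have hPhom : ∀ i, (P i).IsHomogeneous r := by
      intro i
      rw [hP]
      have h := pf_homog (σ := Fin 2) (k := k) (2 * r)
        ((Nc k r c).submatrix i.succAbove i.succAbove) (by
          intro a b
          simp only [Matrix.submatrix_apply, Nc, Matrix.of_apply]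
          apply MvPolynomial.IsHomogeneous.sum
          intro l _
          have := (MvPolynomial.isHomogeneous_C (Fin 2) (c (i.succAbove a) (i.succAbove b) l)).mul
            (MvPolynomial.isHomogeneous_X k l)
          simpa using this)
      rwa [Nat.mul_div_cancel_left r (by norm_num)] at h
    show Submodule.span k (Set.range fun i : Fin (2 * r + 1) =>
      pf (2 * r) ((Nc k r c).submatrix i.succAbove i.succAbove)) = _
    apply le_antisymm
    · rw [Submodule.span_le]
      rintro _ ⟨i, rfl⟩
      have h := hPhom i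
      rw [hP] at h
      exact (MvPolynomial.mem_homogeneousSubmodule _ _).mpr h
    · intro p hp
      rw [MvPolynomial.mem_homogeneousSubmodule] at hp
      have hmono : ∀ j : Fin (r + 1), MvPolynomial.monomial (mm r j) (1 : k) ∈
          Submodule.span k (Set.range fun i : Fin (2 * r + 1) =>
            pf (2 * r) ((Nc k r c).submatrix i.succAbove i.succAbove)) := by
        intro j
        have hPexp : ∀ i : Fin (r + 1), P (ev2 r i) =
            ∑ l : Fin (r + 1), MvPolynomial.C (M i l) * MvPolynomial.monomial (mm r l) (1 : k) := by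
          intro i
          conv_lhs => rw [homog2 r (P (ev2 r i)) (hPhom _)]
          refine Finset.sum_congr rfl fun l _ => ?_
          rw [hM]
        have hcomb : MvPolynomial.monomial (mm r j) (1 : k) =
            ∑ i : Fin (r + 1), (M⁻¹ j i) • P (ev2 r i) := by
          have h1 : ∑ i : Fin (r + 1), (M⁻¹ j i) • P (ev2 r i) =
              ∑ l : Fin (r + 1), MvPolynomial.C ((M⁻¹ * M) j l) *
                MvPolynomial.monomial (mm r l) (1 : k) := by
            simp only [hPexp, Finset.smul_sum, MvPolynomial.smul_eq_C_mul, ← mul_assoc, ← map_mul]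
            rw [Finset.sum_comm]
            refine Finset.sum_congr rfl fun l _ => ?_
            rw [← Finset.sum_mul, ← map_sum, Matrix.mul_apply]
          rw [h1, Matrix.nonsing_inv_mul M hdet]
          simp only [Matrix.one_apply, apply_ite (MvPolynomial.C (R := k) (σ := Fin 2)), ite_mul,
            map_one, one_mul, map_zero, zero_mul, Finset.sum_ite_eq, Finset.mem_univ, if_true]
        rw [hcomb]
        apply Submodule.sum_mem
        intro i _
        apply Submodule.smul_mem
        apply Submodule.subset_span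
        exact ⟨ev2 r i, (hP _).symm⟩
      rw [homog2 r p hp]
      apply Submodule.sum_mem
      intro j _
      rw [← MvPolynomial.smul_eq_C_mul]
      exact Submodule.smul_mem _ _ (hmono j)

end main

end Groth.Agent.Lib.Helper24.SubPfaff
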