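import Mathlib
import Groth.Prelude.Def_SymTen
import Groth.Agent.Lib.Helper24.KerField

/-!
# Coverings of the symmetric product of a Proj (helper24)

`B` a graded `A`-algebra generated in degree one, `T = B^{⊗ d}`, `C ⊆ T` generated by the pure
tensors of equal degree in all slots, `D = C ∩ TS^d`.  Core tools:

* `exists_prime_over`, `cover_of_forall`: `C` is integral over `D` (invariants of `S_d`), so
  membership in a radical of an ideal of `D` can be tested on primes of `C`.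
* `le_span_prod`, `tprod_mem_span`, `exists_deg_one_ne_zero`: a character of `C` not killing a
  positive-degree element does not kill some pure tensor of degree one.
* `psi_mul_pow`: the rank-one structure of a character of `C` around such a pure tensor.
* `exists_sym_deg_one`: some symmetric tensor in degree one is not killed.
-/

set_option autoImplicit false
set_option maxHeartbeats 400000
set_option linter.style.haveILetI false
set_option linter.unusedSectionVars false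

namespace Groth.Agent.Lib.Helper24.SymCovA

open scoped TensorProduct

universe u

section defs

variable {A B : Type u} [CommRing A] [CommRing B] [Algebra A B]
  (𝒜 : ℕ → Submodule A B) (d : ℕ)

/-- the generators of `C`. -/
def gens : Set (⨂[A] _ : Fin d, B) :=
  {t | ∃ (k : ℕ) (b : Fin d → B), (∀ i, b i ∈ 𝒜 k) ∧ t = PiTensorProduct.tprod A b}

/-- the subalgebra `C` generated by the pure tensors with all entries of the same degree. -/
noncomputable def Cc : Subalgebra A (⨂[A] _ : Fin d, B) := Algebra.adjoin A (gens 𝒜 d)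

/-- the pure tensors of degree `k`. -/
def pureSet (k : ℕ) : Set (⨂[A] _ : Fin d, B) :=
  {s | ∃ b : Fin d → B, (∀ i, b i ∈ 𝒜 k) ∧ s = PiTensorProduct.tprod A b}

/-- a pure tensor as an element of `C`. -/
noncomputable def pt {k : ℕ} (b : Fin d → B) (hb : ∀ i, b i ∈ 𝒜 k) : Cc 𝒜 d :=
  ⟨PiTensorProduct.tprod A b, Algebra.subset_adjoin ⟨k, b, hb, rfl⟩⟩

lemma pureSet_subset (k : ℕ) : pureSet 𝒜 d k ⊆ (Cc 𝒜 d : Set (⨂[A] _ : Fin d, B)) := by
  rintro _ ⟨b, hb, rfl⟩
  exact Algebra.subset_adjoin ⟨k, b, hb, rfl⟩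

lemma span_pureSet_le (k : ℕ) :
    Submodule.span A (pureSet 𝒜 d k) ≤ Subalgebra.toSubmodule (Cc 𝒜 d) :=
  Submodule.span_le.mpr (pureSet_subset 𝒜 d k)

lemma perm_mem_Cc (σ : Equiv.Perm (Fin d)) (c : ⨂[A] _ : Fin d, B) (hc : c ∈ Cc 𝒜 d) :
    SymTen.perm A B d σ c ∈ Cc 𝒜 d := by
  have h1 : (Cc 𝒜 d).map (SymTen.perm A B d σ) ≤ Cc 𝒜 d := by
    unfold Cc
    rw [AlgHom.map_adjoin]
    apply Algebra.adjoin_mono
    rintro _ ⟨_, ⟨k, b, hb, rfl⟩, rfl⟩
    exact ⟨k, fun i => b (σ.symm i), fun i => hb _, SymTen.perm_tprod A B d σ b⟩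
  exact h1 (Subalgebra.mem_map.mpr ⟨c, hc, rfl⟩)

/-- the permutation action on `C`. -/
@[reducible] noncomputable def actC : MulSemiringAction (Equiv.Perm (Fin d)) (Cc 𝒜 d) :=
  letI := Groth.Agent.Lib.Helper24.KerField.permAction A B d
  { smul := fun σ c => ⟨SymTen.perm A B d σ c, perm_mem_Cc 𝒜 d σ c c.2⟩
    one_smul := fun c => Subtype.ext (one_smul (Equiv.Perm (Fin d)) (c : ⨂[A] _ : Fin d, B))
    mul_smul := fun σ τ c => Subtype.ext (mul_smul σ τ (c : ⨂[A] _ : Fin d, B))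
    smul_zero := fun σ => Subtype.ext (map_zero _)
    smul_add := fun σ x y => Subtype.ext (map_add _ _ _)
    smul_one := fun σ => Subtype.ext (map_one _)
    smul_mul := fun σ x y => Subtype.ext (map_mul _ _ _) }

theorem exists_prime_over (𝔭 : Ideal ↥(Cc 𝒜 d ⊓ SymTen.TS A B d)) [𝔭.IsPrime] :
    ∃ 𝔓 : Ideal ↥(Cc 𝒜 d), 𝔓.IsPrime ∧ ∀ x : ↥(Cc 𝒜 d ⊓ SymTen.TS A B d),
      (⟨x.1, (Algebra.mem_inf.mp x.2).1⟩ : ↥(Cc 𝒜 d)) ∈ 𝔓 ↔ x ∈ 𝔭 := by
  classical
  letI := actC 𝒜 d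
  letI : Algebra ↥(Cc 𝒜 d ⊓ SymTen.TS A B d) ↥(Cc 𝒜 d) :=
    (Subalgebra.inclusion (inf_le_left : Cc 𝒜 d ⊓ SymTen.TS A B d ≤ Cc 𝒜 d)).toRingHom.toAlgebra
  haveI : Algebra.IsInvariant ↥(Cc 𝒜 d ⊓ SymTen.TS A B d) ↥(Cc 𝒜 d) (Equiv.Perm (Fin d)) :=
    ⟨fun c hc => ⟨⟨c.1, Algebra.mem_inf.mpr ⟨c.2, fun σ => by
      have h1 := congrArg Subtype.val (hc σ)
      rw [← SymTen.perm_apply]
      exact h1⟩⟩, Subtype.ext rfl⟩⟩
  haveI : Algebra.IsIntegral ↥(Cc 𝒜 d ⊓ SymTen.TS A B d) ↥(Cc 𝒜 d) :=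
    Algebra.IsInvariant.isIntegral _ _ (Equiv.Perm (Fin d))
  obtain ⟨𝔓, -, h1, h2⟩ := Ideal.exists_ideal_over_prime_of_isIntegral 𝔭
    (⊥ : Ideal ↥(Cc 𝒜 d)) (by
      intro r hr
      rw [Ideal.mem_comap, Ideal.mem_bot] at hr
      have hr' : ((algebraMap ↥(Cc 𝒜 d ⊓ SymTen.TS A B d) ↥(Cc 𝒜 d) r : ↥(Cc 𝒜 d)) :
          ⨂[A] _ : Fin d, B) = ((0 : ↥(Cc 𝒜 d)) : ⨂[A] _ : Fin d, B) :=
        congrArg Subtype.val hr
      have hr0 : r = 0 := Subtype.ext hr'
      rw [hr0]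
      exact zero_mem _)
  refine ⟨𝔓, h1, fun x => ?_⟩
  rw [← h2, Ideal.mem_comap]
  rfl

theorem cover_of_forall (I : Ideal ↥(Cc 𝒜 d ⊓ SymTen.TS A B d))
    (t : ↥(Cc 𝒜 d ⊓ SymTen.TS A B d))
    (h : ∀ (𝔓 : Ideal ↥(Cc 𝒜 d)), 𝔓.IsPrime →
      (⟨t.1, (Algebra.mem_inf.mp t.2).1⟩ : ↥(Cc 𝒜 d)) ∉ 𝔓 →
      ∃ x : ↥(Cc 𝒜 d ⊓ SymTen.TS A B d), x ∈ I ∧
        (⟨x.1, (Algebra.mem_inf.mp x.2).1⟩ : ↥(Cc 𝒜 d)) ∉ 𝔓) :
    ∃ m : ℕ, 0 < m ∧ t ^ m ∈ I := by
  classical
  have hrad : t ∈ I.radical := by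
    rw [Ideal.radical_eq_sInf, Ideal.mem_sInf]
    rintro 𝔭 ⟨hI𝔭, h𝔭⟩
    by_contra ht
    haveI := h𝔭
    obtain ⟨𝔓, h𝔓, hiff⟩ := exists_prime_over 𝒜 d 𝔭
    obtain ⟨x, hxI, hx𝔓⟩ := h 𝔓 h𝔓 (fun hmem => ht ((hiff t).mp hmem))
    exact hx𝔓 ((hiff x).mpr (hI𝔭 hxI))
  obtain ⟨m, hm⟩ := hrad
  exact ⟨m + 1, Nat.succ_pos m, by rw [pow_succ]; exact I.mul_mem_right _ hm⟩

end defs

section multilinear

variable {A B : Type u} [CommRing A] [CommRing B] [Algebra A B] (d : ℕ)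

theorem tprod_mem_span (S : Set B) (b : Fin d → B) (hb : ∀ i, b i ∈ Submodule.span A S) :
    PiTensorProduct.tprod A b ∈ Submodule.span A
      {t | ∃ c : Fin d → B, (∀ i, c i ∈ S) ∧ t = PiTensorProduct.tprod A c} := by
  classical
  have key : ∀ s : Finset (Fin d), ∀ b : Fin d → B, (∀ i ∈ s, b i ∈ Submodule.span A S) →
      (∀ i, i ∉ s → b i ∈ S) →
      PiTensorProduct.tprod A b ∈ Submodule.span A
        {t | ∃ c : Fin d → B, (∀ i, c i ∈ S) ∧ t = PiTensorProduct.tprod A c} := by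
    intro s
    induction s using Finset.induction_on with
    | empty =>
      intro b _ h2
      exact Submodule.subset_span ⟨b, fun i => h2 i (Finset.notMem_empty i), rfl⟩
    | insert i₀ s hi₀ ih =>
      intro b h1 h2
      have hb0 := h1 i₀ (Finset.mem_insert_self _ _)
      have hall : ∀ x ∈ Submodule.span A S,
          PiTensorProduct.tprod A (Function.update b i₀ x) ∈ Submodule.span A
            {t | ∃ c : Fin d → B, (∀ i, c i ∈ S) ∧ t = PiTensorProduct.tprod A c} := by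
        intro x hx
        induction hx using Submodule.span_induction with
        | mem x hx =>
          apply ih
          · intro i hi
            rw [Function.update_of_ne (ne_of_mem_of_not_mem hi hi₀)]
            exact h1 i (Finset.mem_insert_of_mem hi)
          · intro i hi
            by_cases hii : i = i₀
            · subst hii
              rw [Function.update_self]
              exact hx
            · rw [Function.update_of_ne hii]
              exact h2 i (by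
                intro hmem
                rcases Finset.mem_insert.mp hmem with h | h
                · exact hii h
                · exact hi h)
        | zero =>
          rw [MultilinearMap.map_update_zero]
          exact zero_mem _
        | add x y _ _ hx hy =>
          rw [MultilinearMap.map_update_add]
          exact add_mem hx hy
        | smul a x _ hx =>
          rw [MultilinearMap.map_update_smul]
          exact Submodule.smul_mem _ a hx
      have h3 := hall (b i₀) hb0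
      rwa [Function.update_eq_self] at h3
  exact key Finset.univ b (fun i _ => hb i) (fun i hi => absurd (Finset.mem_univ i) hi)

lemma prod_update_apply {M : Type*} [CommMonoid M] (h g : Fin d → M) (i' : Fin d) :
    ∏ i, Function.update h i (g i) i' = g i' * h i' ^ (d - 1) := by
  classical
  rw [Fintype.prod_eq_mul_prod_compl i', Function.update_self]
  congr 1
  have h1 : ∀ i ∈ ({i'} : Finset (Fin d))ᶜ, Function.update h i (g i) i' = h i' := by
    intro i hi
    have hne : i' ≠ i := by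
      intro h0
      rw [Finset.mem_compl, Finset.mem_singleton] at hi
      exact hi h0.symm
    rw [Function.update_of_ne hne]
  rw [Finset.prod_congr rfl h1, Finset.prod_const, Finset.card_compl, Finset.card_singleton,
    Fintype.card_fin]

lemma tprod_pow' (x : Fin d → B) (m : ℕ) :
    PiTensorProduct.tprod A x ^ m = PiTensorProduct.tprod A (x ^ m) :=
  (map_pow (PiTensorProduct.tprodMonoidHom A) x m).symm

end multilinear

section graded

variable {A B : Type u} [CommRing A] [CommRing B] [Algebra A B]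
  (𝒜 : ℕ → Submodule A B) [GradedAlgebra 𝒜]

lemma prod_fin_mem {n : ℕ} (F : Fin n → B) (hF : ∀ j, F j ∈ 𝒜 1) : ∏ j, F j ∈ 𝒜 n := by
  have h := SetLike.prod_mem_graded 𝒜 (fun _ : Fin n => 1) F (F := Finset.univ)
    (fun j _ => hF j)
  rwa [Finset.sum_const, Finset.card_univ, Fintype.card_fin, smul_eq_mul, mul_one] at h

theorem le_span_prod (hgen : Algebra.adjoin A (𝒜 1 : Set B) = ⊤) (k : ℕ) :
    𝒜 k ≤ Submodule.span A {x | ∃ F : Fin k → B, (∀ j, F j ∈ 𝒜 1) ∧ x = ∏ j, F j} := by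
  intro x hx
  have hx' : x ∈ Submodule.span A (Submonoid.closure (𝒜 1 : Set B) : Set B) := by
    rw [← Algebra.adjoin_eq_span, hgen]
    exact Submodule.mem_top
  have key : Submodule.span A (Submonoid.closure (𝒜 1 : Set B) : Set B) ≤
      Submodule.comap (GradedAlgebra.proj 𝒜 k)
        (Submodule.span A {x | ∃ F : Fin k → B, (∀ j, F j ∈ 𝒜 1) ∧ x = ∏ j, F j}) := by
    rw [Submodule.span_le]
    intro μ hμ
    obtain ⟨n, F, hF, rfl⟩ : ∃ (n : ℕ) (F : Fin n → B), (∀ j, F j ∈ 𝒜 1) ∧ μ = ∏ j, F j := by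
      induction hμ using Submonoid.closure_induction with
      | mem y hy => exact ⟨1, fun _ => y, fun _ => hy, by simp⟩
      | one => exact ⟨0, Fin.elim0, fun j => j.elim0, by simp⟩
      | mul y z _ _ hy hz =>
        obtain ⟨n, F, hF, rfl⟩ := hy
        obtain ⟨m, G, hG, rfl⟩ := hz
        refine ⟨n + m, Fin.append F G, ?_, ?_⟩
        · intro j
          refine Fin.addCases (fun j => ?_) (fun j => ?_) j
          · rw [Fin.append_left]; exact hF j
          · rw [Fin.append_right]; exact hG j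
        · rw [Fin.prod_univ_add]
          simp only [Fin.append_left, Fin.append_right]
    have hmem : (∏ j, F j) ∈ 𝒜 n := prod_fin_mem 𝒜 F hF
    rw [SetLike.mem_coe, Submodule.mem_comap, GradedAlgebra.proj_apply]
    by_cases hnk : n = k
    · subst hnk
      rw [DirectSum.decompose_of_mem_same 𝒜 hmem]
      exact Submodule.subset_span ⟨F, hF, rfl⟩
    · rw [DirectSum.decompose_of_mem_ne 𝒜 hmem hnk]
      exact zero_mem _
  have h1 := key hx'
  rw [Submodule.mem_comap, GradedAlgebra.proj_apply, DirectSum.decompose_of_mem_same 𝒜 hx] at h1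
  exact h1

end graded

section char

variable {A B : Type u} [CommRing A] [CommRing B] [Algebra A B]
  (𝒜 : ℕ → Submodule A B) [GradedAlgebra 𝒜] (d : ℕ)
  {R : Type u} [CommRing R] [IsDomain R] [Algebra A R] (ψ : ↥(Cc 𝒜 d) →ₐ[A] R)

lemma psi_eq_zero_of_span (S : Set (⨂[A] _ : Fin d, B))
    (hS : ∀ s ∈ S, ∃ h : s ∈ Cc 𝒜 d, ψ ⟨s, h⟩ = 0) {x : ⨂[A] _ : Fin d, B}
    (hx : x ∈ Submodule.span A S) : ∃ h : x ∈ Cc 𝒜 d, ψ ⟨x, h⟩ = 0 := by
  induction hx using Submodule.span_induction with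
  | mem s hs => exact hS s hs
  | zero => exact ⟨zero_mem _, map_zero ψ⟩
  | add x y _ _ hx hy =>
    obtain ⟨h1, h2⟩ := hx
    obtain ⟨h3, h4⟩ := hy
    refine ⟨add_mem h1 h3, ?_⟩
    have : (⟨x + y, add_mem h1 h3⟩ : ↥(Cc 𝒜 d)) = ⟨x, h1⟩ + ⟨y, h3⟩ := rfl
    rw [this, map_add, h2, h4, add_zero]
  | smul a x _ hx =>
    obtain ⟨h1, h2⟩ := hx
    refine ⟨Subalgebra.smul_mem _ h1 a, ?_⟩
    have : (⟨a • x, Subalgebra.smul_mem _ h1 a⟩ : ↥(Cc 𝒜 d)) = a • ⟨x, h1⟩ := rfl
    rw [this, map_smul, h2, smul_zero]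

theorem exists_deg_one_ne_zero (hgen : Algebra.adjoin A (𝒜 1 : Set B) = ⊤) (k : ℕ) (hk : 0 < k)
    (t : ⨂[A] _ : Fin d, B) (htC : t ∈ Cc 𝒜 d)
    (htk : t ∈ Submodule.span A (pureSet 𝒜 d k)) (hψ : ψ ⟨t, htC⟩ ≠ 0) :
    ∃ (f : Fin d → B) (hf : ∀ i, f i ∈ 𝒜 1), ψ (pt 𝒜 d f hf) ≠ 0 := by
  classical
  by_contra hall
  have hall' : ∀ (f : Fin d → B) (hf : ∀ i, f i ∈ 𝒜 1), ψ (pt 𝒜 d f hf) = 0 := by
    intro f hf
    by_contra h
    exact hall ⟨f, hf, h⟩
  -- step 1
  have step1 : ∀ (F : Fin d → Fin k → B) (hF : ∀ i j, F i j ∈ 𝒜 1),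
      ψ (pt 𝒜 d (fun i => ∏ j, F i j) (fun i => prod_fin_mem 𝒜 (F i) (hF i))) = 0 := by
    intro F hF
    have h1 : pt 𝒜 d (fun i => ∏ j, F i j) (fun i => prod_fin_mem 𝒜 (F i) (hF i)) =
        ∏ j, pt 𝒜 d (fun i => F i j) (fun i => hF i j) := by
      apply Subtype.ext
      rw [SubmonoidClass.coe_finsetProd]
      show PiTensorProduct.tprod A (fun i => ∏ j, F i j) =
        ∏ j, PiTensorProduct.tprod A (fun i => F i j)
      rw [← PiTensorProduct.tprod_prod]
      congr 1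
      funext i
      rw [Finset.prod_apply]
    rw [h1, map_prod]
    exact Finset.prod_eq_zero (Finset.mem_univ (⟨0, hk⟩ : Fin k)) (hall' _ _)
  -- step 2
  have step2 : ∀ s ∈ pureSet 𝒜 d k, ∃ h : s ∈ Cc 𝒜 d, ψ ⟨s, h⟩ = 0 := by
    rintro _ ⟨b, hb, rfl⟩
    have h1 := tprod_mem_span (A := A) d
      {x | ∃ F : Fin k → B, (∀ j, F j ∈ 𝒜 1) ∧ x = ∏ j, F j} b
      (fun i => le_span_prod 𝒜 hgen k (hb i))
    refine psi_eq_zero_of_span 𝒜 d ψ _ ?_ h1
    rintro _ ⟨c, hc, rfl⟩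
    choose F hF hcF using hc
    have hceq : c = fun i => ∏ j, F i j := funext hcF
    subst hceq
    exact ⟨_, step1 F hF⟩
  obtain ⟨h, h0⟩ := psi_eq_zero_of_span 𝒜 d ψ _ step2 htk
  exact hψ h0

variable (f : Fin d → B) (hf : ∀ i, f i ∈ 𝒜 1)

include hf in
lemma fpow_mem (n : ℕ) (i : Fin d) : f i ^ n ∈ 𝒜 n := by
  have h := SetLike.pow_mem_graded n (hf i)
  rwa [smul_eq_mul, mul_one] at h

include hf in
lemma upd_mem {n : ℕ} (i : Fin d) {b : B} (hb : b ∈ 𝒜 n) (i' : Fin d) :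
    Function.update (fun i'' => f i'' ^ n) i b i' ∈ 𝒜 n := by
  by_cases h : i' = i
  · subst h
    rw [Function.update_self]
    exact hb
  · rw [Function.update_of_ne h]
    exact fpow_mem 𝒜 d f hf n i'

/-- the value of `b` (homogeneous of degree `n`) at the `i`-th point. -/
noncomputable def val (n : ℕ) (i : Fin d) (b : B) (hb : b ∈ 𝒜 n) : R :=
  ψ (pt 𝒜 d (Function.update (fun i'' => f i'' ^ n) i b) (upd_mem 𝒜 d f hf i hb))

theorem psi_mul_pow {n : ℕ} (g : Fin d → B) (hg : ∀ i, g i ∈ 𝒜 n) :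
    ψ (pt 𝒜 d g hg) * ψ (pt 𝒜 d f hf) ^ (n * (d - 1)) =
      ∏ i, val 𝒜 d ψ f hf n i (g i) (hg i) := by
  unfold val
  have hT : PiTensorProduct.tprod A g * PiTensorProduct.tprod A f ^ (n * (d - 1)) =
      ∏ i, PiTensorProduct.tprod A (Function.update (fun i'' => f i'' ^ n) i (g i)) := by
    rw [← PiTensorProduct.tprod_prod, tprod_pow', PiTensorProduct.tprod_mul_tprod]
    congr 1
    funext i'
    rw [Finset.prod_apply, Pi.mul_apply, Pi.pow_apply, prod_update_apply, ← pow_mul]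
  have hC : pt 𝒜 d g hg * pt 𝒜 d f hf ^ (n * (d - 1)) =
      ∏ i, pt 𝒜 d (Function.update (fun i'' => f i'' ^ n) i (g i))
        (upd_mem 𝒜 d f hf i (hg i)) := by
    apply Subtype.ext
    rw [Subalgebra.coe_mul, Subalgebra.coe_pow, SubmonoidClass.coe_finsetProd]
    exact hT
  rw [← map_pow, ← map_mul, hC, map_prod]

end char

end Groth.Agent.Lib.Helper24.SymCovA
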