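import Mathlib
import Groth.Prelude.Def_SymTen
import Groth.Agent.Lib.Helper24.SymCovA

/-!
# The symmetric product of a Proj is covered in degree one (helper24)

Polynomial argument: around a pure tensor `f₁ ⊗ ⋯ ⊗ f_d` of degree one not killed by a character
`ψ` of `C`, the multi-symmetric tensors `γ^α(f)` have values the coefficients of a product of
nonzero linear forms, so one of them is not killed.
-/

set_option autoImplicit false
set_option maxHeartbeats 400000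
set_option linter.style.haveILetI false
set_option linter.unusedSectionVars false

namespace Groth.Agent.Lib.Helper24.SymCovB

open scoped TensorProduct
open Groth.Agent.Lib.Helper24.SymCovA

universe u

section poly

variable {d : ℕ} {R : Type*} [CommRing R]

/-- the content of a word. -/
noncomputable def cont (v : Fin d → Fin d) : Fin d →₀ ℕ := ∑ i, Finsupp.single (v i) 1

lemma cont_comp (v : Fin d → Fin d) (σ : Equiv.Perm (Fin d)) :
    cont (fun i => v (σ i)) = cont v := by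
  unfold cont
  exact Equiv.sum_comp σ (fun i => Finsupp.single (v i) 1)

lemma coeff_prod_linear (a : Fin d → Fin d → R) (α : Fin d →₀ ℕ) :
    MvPolynomial.coeff α (∏ i, ∑ j, MvPolynomial.C (a i j) * MvPolynomial.X j) =
      ∑ v : Fin d → Fin d, if cont v = α then ∏ i, a i (v i) else 0 := by
  classical
  rw [Finset.prod_univ_sum, Fintype.piFinset_univ, MvPolynomial.coeff_sum]
  refine Finset.sum_congr rfl fun v _ => ?_
  have h1 : ∏ i, (MvPolynomial.C (a i (v i)) * MvPolynomial.X (v i)) =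
      MvPolynomial.monomial (cont v) (∏ i, a i (v i)) := by
    unfold cont
    rw [MvPolynomial.monomial_sum_prod]
    refine Finset.prod_congr rfl fun i _ => ?_
    rw [MvPolynomial.C_mul_X_eq_monomial]
  rw [h1, MvPolynomial.coeff_monomial]

lemma prod_linear_ne_zero [IsDomain R] (a : Fin d → Fin d → R) (ha : ∀ i, a i i ≠ 0) :
    (∏ i, ∑ j, MvPolynomial.C (a i j) * MvPolynomial.X j : MvPolynomial (Fin d) R) ≠ 0 := by
  classical
  rw [Finset.prod_ne_zero_iff]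
  intro i _ h0
  have h1 := congrArg (MvPolynomial.coeff (Finsupp.single i 1)) h0
  rw [MvPolynomial.coeff_sum, MvPolynomial.coeff_zero] at h1
  simp only [MvPolynomial.coeff_C_mul, MvPolynomial.coeff_X'] at h1
  rw [Finset.sum_eq_single i] at h1
  · rw [if_pos rfl, mul_one] at h1
    exact ha i h1
  · intro j _ hji
    rw [if_neg, mul_zero]
    intro h
    exact hji (Finsupp.single_left_injective one_ne_zero h)
  · intro h
    exact absurd (Finset.mem_univ i) h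

end poly

section sym

variable {A B : Type u} [CommRing A] [CommRing B] [Algebra A B]
  (𝒜 : ℕ → Submodule A B) [GradedAlgebra 𝒜] (d : ℕ)
  {R : Type u} [CommRing R] [IsDomain R] [Algebra A R] (ψ : ↥(Cc 𝒜 d) →ₐ[A] R)
  (f : Fin d → B) (hf : ∀ i, f i ∈ 𝒜 1)

open Classical in
/-- the multi-symmetric tensor `γ^α(f)`. -/
noncomputable def gam (α : Fin d →₀ ℕ) : ↥(Cc 𝒜 d) :=
  ∑ v : Fin d → Fin d,
    if cont v = α then pt 𝒜 d (fun i => f (v i)) (fun i => hf (v i)) else 0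

open Classical in
lemma gam_coe (α : Fin d →₀ ℕ) : ((gam 𝒜 d f hf α : ↥(Cc 𝒜 d)) : ⨂[A] _ : Fin d, B) =
    ∑ v : Fin d → Fin d,
      if cont v = α then PiTensorProduct.tprod A (fun i => f (v i)) else 0 := by
  unfold gam
  rw [AddSubmonoidClass.coe_finsetSum]
  refine Finset.sum_congr rfl fun v _ => ?_
  split_ifs <;> rfl

lemma gam_mem_span (α : Fin d →₀ ℕ) :
    ((gam 𝒜 d f hf α : ↥(Cc 𝒜 d)) : ⨂[A] _ : Fin d, B) ∈
      Submodule.span A (pureSet 𝒜 d 1) := by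
  classical
  rw [gam_coe]
  refine Submodule.sum_mem _ fun v _ => ?_
  split_ifs
  · exact Submodule.subset_span ⟨_, fun i => hf (v i), rfl⟩
  · exact zero_mem _

lemma gam_mem_TS (α : Fin d →₀ ℕ) :
    ((gam 𝒜 d f hf α : ↥(Cc 𝒜 d)) : ⨂[A] _ : Fin d, B) ∈ SymTen.TS A B d := by
  classical
  intro σ
  rw [← SymTen.perm_apply, gam_coe, map_sum]
  refine Fintype.sum_equiv (Equiv.arrowCongr σ (Equiv.refl (Fin d))) _ _ ?_
  intro v
  have hc : cont ((Equiv.arrowCongr σ (Equiv.refl (Fin d))) v) = cont v :=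
    cont_comp v σ.symm
  rw [hc, apply_ite (SymTen.perm A B d σ), map_zero, SymTen.perm_tprod]
  rfl

lemma psi_gam (α : Fin d →₀ ℕ) :
    ψ (gam 𝒜 d f hf α) * ψ (pt 𝒜 d f hf) ^ (d - 1) =
      ∑ v : Fin d → Fin d, if cont v = α then
        ∏ i, val 𝒜 d ψ f hf 1 i (f (v i)) (hf (v i)) else 0 := by
  classical
  unfold gam
  rw [map_sum, Finset.sum_mul]
  refine Finset.sum_congr rfl fun v _ => ?_
  split_ifs with h
  · have h1 := psi_mul_pow 𝒜 d ψ f hf (fun i => f (v i)) (fun i => hf (v i))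
    rw [one_mul] at h1
    exact h1
  · rw [map_zero, zero_mul]

lemma val_self (i : Fin d) : val 𝒜 d ψ f hf 1 i (f i) (hf i) = ψ (pt 𝒜 d f hf) := by
  unfold val
  congr 1
  apply Subtype.ext
  show PiTensorProduct.tprod A (Function.update (fun i'' => f i'' ^ 1) i (f i)) =
    PiTensorProduct.tprod A f
  congr 1
  funext i'
  by_cases h : i' = i
  · subst h
    rw [Function.update_self]
  · rw [Function.update_of_ne h, pow_one]

theorem exists_sym_deg_one (hw : ψ (pt 𝒜 d f hf) ≠ 0) :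
    ∃ x : ⨂[A] _ : Fin d, B, x ∈ SymTen.TS A B d ∧
      x ∈ Submodule.span A (pureSet 𝒜 d 1) ∧ ∃ hxC : x ∈ Cc 𝒜 d, ψ ⟨x, hxC⟩ ≠ 0 := by
  classical
  have hP := prod_linear_ne_zero
    (fun i j => val 𝒜 d ψ f hf 1 i (f j) (hf j)) (fun i => by rw [val_self]; exact hw)
  obtain ⟨α, hα⟩ := MvPolynomial.ne_zero_iff.mp hP
  rw [coeff_prod_linear, ← psi_gam] at hα
  refine ⟨(gam 𝒜 d f hf α : ↥(Cc 𝒜 d)), gam_mem_TS 𝒜 d f hf α, gam_mem_span 𝒜 d f hf α,
    (gam 𝒜 d f hf α).2, ?_⟩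
  exact left_ne_zero_of_mul hα

end sym

section final

variable {A B : Type u} [CommRing A] [CommRing B] [Algebra A B]

theorem degOne_aux (𝒜 : ℕ → Submodule A B) [GradedAlgebra 𝒜]
    (hgen : Algebra.adjoin A (𝒜 1 : Set B) = ⊤) (d : ℕ)
    (D : Subalgebra A (⨂[A] _ : Fin d, B))
    (hD : D = Algebra.adjoin A {t | ∃ (k : ℕ) (b : Fin d → B), (∀ i, b i ∈ 𝒜 k) ∧
      t = PiTensorProduct.tprod A b} ⊓ SymTen.TS A B d)
    (k : ℕ) (hk : 0 < k) (t : ⨂[A] _ : Fin d, B) (htD : t ∈ D)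
    (htk : t ∈ Submodule.span A {s | ∃ b : Fin d → B, (∀ i, b i ∈ 𝒜 k) ∧
      s = PiTensorProduct.tprod A b}) :
    ∃ m : ℕ, 0 < m ∧ (⟨t, htD⟩ : D) ^ m ∈
      Ideal.span {x : D | (x : ⨂[A] _ : Fin d, B) ∈
        Submodule.span A {s | ∃ b : Fin d → B, (∀ i, b i ∈ 𝒜 1) ∧
          s = PiTensorProduct.tprod A b}} := by
  subst hD
  refine cover_of_forall 𝒜 d _ ⟨t, htD⟩ ?_
  intro 𝔓 h𝔓 ht𝔓
  haveI := h𝔓
  obtain ⟨ψ, hψdef⟩ : ∃ ψ : ↥(Cc 𝒜 d) →ₐ[A] (↥(Cc 𝒜 d) ⧸ 𝔓), ψ = Ideal.Quotient.mkₐ A 𝔓 :=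
    ⟨_, rfl⟩
  have hψ0 : ∀ y : ↥(Cc 𝒜 d), ψ y = 0 ↔ y ∈ 𝔓 := by
    intro y
    rw [hψdef]
    exact Ideal.Quotient.eq_zero_iff_mem
  have hψt : ψ ⟨t, (Algebra.mem_inf.mp htD).1⟩ ≠ 0 := by
    intro h0
    exact ht𝔓 ((hψ0 _).mp h0)
  obtain ⟨f, hf, hw⟩ := exists_deg_one_ne_zero 𝒜 d (R := ↥(Cc 𝒜 d) ⧸ 𝔓) ψ hgen k hk t
    (Algebra.mem_inf.mp htD).1 htk hψt
  obtain ⟨x, hxTS, hxspan, hxC, hxψ⟩ := exists_sym_deg_one 𝒜 d (R := ↥(Cc 𝒜 d) ⧸ 𝔓) ψ f hf hw
  refine ⟨⟨x, Algebra.mem_inf.mpr ⟨hxC, hxTS⟩⟩, Ideal.subset_span hxspan, ?_⟩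
  intro hmem
  exact hxψ ((hψ0 _).mpr hmem)

end final

end Groth.Agent.Lib.Helper24.SymCovB
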