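import Mathlib
import Groth.Prelude.Def_SymTen
import Groth.Agent.Lib.Helper24.SymCovA

/-!
# Covering the symmetric product of a Proj by `Sym^d(X_f)`, `f` linear (helper24)

Linearity and multiplicativity of the point values `val`, a sharp covering lemma for proper
subspaces, and: when the residue field has at least `d` elements there is a linear form not
vanishing at the `d` points.
-/

set_option autoImplicit false
set_option maxHeartbeats 400000
set_option linter.style.haveILetI false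
set_option linter.unusedSectionVars false

namespace Groth.Agent.Lib.Helper24.SymCovC

open scoped TensorProduct
open Groth.Agent.Lib.Helper24.SymCovA

universe u

section cover

variable {K V ι : Type*} [Field K] [AddCommGroup V] [Module K V]

/-- a vector space is not a union of `n` proper subspaces if the field has at least `n` elements. -/
theorem exists_notMem_of_card_le (s : Finset ι) (p : ι → Submodule K V)
    (hp : ∀ i ∈ s, p i ≠ ⊤) (ts : Finset K) (hts : s.card ≤ ts.card) :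
    ∃ v : V, ∀ i ∈ s, v ∉ p i := by
  classical
  induction s using Finset.induction_on with
  | empty => exact ⟨0, fun i hi => absurd hi (Finset.notMem_empty i)⟩
  | insert j s hj ih =>
    rw [Finset.card_insert_of_notMem hj] at hts
    obtain ⟨x, hx⟩ := ih (fun i hi => hp i (Finset.mem_insert_of_mem hi)) (by omega)
    by_cases hxj : x ∈ p j
    · obtain ⟨y, hy⟩ : ∃ y, y ∉ p j := by
        by_contra hall
        apply hp j (Finset.mem_insert_self j s)
        rw [Submodule.eq_top_iff']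
        intro y
        by_contra hy
        exact hall ⟨y, hy⟩
      by_contra hall
      have hall' : ∀ t : K, ∃ i, t ∈ ts → (i ∈ s ∧ y + t • x ∈ p i) := by
        intro t
        by_cases ht : t ∈ ts
        · have h1 : ∃ i ∈ insert j s, y + t • x ∈ p i := by
            by_contra h2
            apply hall
            refine ⟨y + t • x, fun i hi hmem => h2 ⟨i, hi, hmem⟩⟩
          obtain ⟨i, hi, hmem⟩ := h1
          rcases Finset.mem_insert.mp hi with rfl | hi'
          · exfalso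
            apply hy
            have h3 := (p i).sub_mem hmem ((p i).smul_mem t hxj)
            rwa [add_sub_cancel_right] at h3
          · exact ⟨i, fun _ => ⟨hi', hmem⟩⟩
        · exact ⟨j, fun h => absurd h ht⟩
      choose g hg using hall'
      obtain ⟨t, ht, t', ht', hne, hgt⟩ := Finset.exists_ne_map_eq_of_card_lt_of_maps_to
        (s := ts) (t := s) (f := g) (by omega) (fun t ht => (hg t ht).1)
      have h1 := (hg t ht).2
      have h2 := (hg t' ht').2
      rw [hgt] at h1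
      have h3 := (p (g t')).sub_mem h1 h2
      have h4 : y + t • x - (y + t' • x) = (t - t') • x := by
        rw [sub_smul]; abel
      rw [h4, (p (g t')).smul_mem_iff (sub_ne_zero.mpr hne)] at h3
      exact hx (g t') (hg t' ht').1 h3
    · refine ⟨x, fun i hi => ?_⟩
      rcases Finset.mem_insert.mp hi with rfl | hi'
      · exact hxj
      · exact hx i hi'

end cover

section vals

variable {A B : Type u} [CommRing A] [CommRing B] [Algebra A B]
  (𝒜 : ℕ → Submodule A B) [GradedAlgebra 𝒜] (d : ℕ)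
  {R : Type u} [CommRing R] [IsDomain R] [Algebra A R] (ψ : ↥(Cc 𝒜 d) →ₐ[A] R)
  (f : Fin d → B) (hf : ∀ i, f i ∈ 𝒜 1)

lemma val_add {n : ℕ} (i : Fin d) {b b' : B} (hb : b ∈ 𝒜 n) (hb' : b' ∈ 𝒜 n) :
    val 𝒜 d ψ f hf n i (b + b') (add_mem hb hb') =
      val 𝒜 d ψ f hf n i b hb + val 𝒜 d ψ f hf n i b' hb' := by
  classical
  unfold val
  rw [← map_add]
  congr 1
  apply Subtype.ext
  show PiTensorProduct.tprod A (Function.update (fun i'' => f i'' ^ n) i (b + b')) =
    PiTensorProduct.tprod A (Function.update (fun i'' => f i'' ^ n) i b) +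
      PiTensorProduct.tprod A (Function.update (fun i'' => f i'' ^ n) i b')
  rw [MultilinearMap.map_update_add]

lemma val_smul {n : ℕ} (i : Fin d) (a : A) {b : B} (hb : b ∈ 𝒜 n) :
    val 𝒜 d ψ f hf n i (a • b) (Submodule.smul_mem _ a hb) =
      a • val 𝒜 d ψ f hf n i b hb := by
  classical
  unfold val
  rw [← map_smul]
  congr 1
  apply Subtype.ext
  show PiTensorProduct.tprod A (Function.update (fun i'' => f i'' ^ n) i (a • b)) =
    a • PiTensorProduct.tprod A (Function.update (fun i'' => f i'' ^ n) i b)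
  rw [MultilinearMap.map_update_smul]

/-- the point values as linear maps on the graded pieces. -/
noncomputable def valL (n : ℕ) (i : Fin d) : 𝒜 n →ₗ[A] R where
  toFun b := val 𝒜 d ψ f hf n i b.1 b.2
  map_add' b b' := val_add 𝒜 d ψ f hf i b.2 b'.2
  map_smul' a b := val_smul 𝒜 d ψ f hf i a b.2

lemma valL_apply (n : ℕ) (i : Fin d) (b : 𝒜 n) :
    valL 𝒜 d ψ f hf n i b = val 𝒜 d ψ f hf n i b.1 b.2 := rfl

lemma val_mul {n m : ℕ} (i : Fin d) {b b' : B} (hb : b ∈ 𝒜 n) (hb' : b' ∈ 𝒜 m) :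
    val 𝒜 d ψ f hf (n + m) i (b * b') (SetLike.mul_mem_graded hb hb') =
      val 𝒜 d ψ f hf n i b hb * val 𝒜 d ψ f hf m i b' hb' := by
  classical
  unfold val
  rw [← map_mul]
  congr 1
  apply Subtype.ext
  show PiTensorProduct.tprod A (Function.update (fun i'' => f i'' ^ (n + m)) i (b * b')) =
    PiTensorProduct.tprod A (Function.update (fun i'' => f i'' ^ n) i b) *
      PiTensorProduct.tprod A (Function.update (fun i'' => f i'' ^ m) i b')
  rw [PiTensorProduct.tprod_mul_tprod]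
  congr 1
  funext i'
  rw [Pi.mul_apply]
  by_cases h : i' = i
  · subst h
    rw [Function.update_self, Function.update_self, Function.update_self]
  · rw [Function.update_of_ne h, Function.update_of_ne h, Function.update_of_ne h, pow_add]

lemma val_zero_one (i : Fin d) :
    val 𝒜 d ψ f hf 0 i 1 (SetLike.one_mem_graded 𝒜) = 1 := by
  classical
  unfold val
  rw [← map_one ψ]
  congr 1
  apply Subtype.ext
  show PiTensorProduct.tprod A (Function.update (fun i'' => f i'' ^ 0) i 1) = 1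
  rw [PiTensorProduct.one_def]
  congr 1
  funext i'
  by_cases h : i' = i
  · subst h
    rw [Function.update_self]
    rfl
  · rw [Function.update_of_ne h, pow_zero]
    rfl

lemma val_congr {n : ℕ} (i : Fin d) {b b' : B} (hb : b ∈ 𝒜 n) (h : b = b') :
    val 𝒜 d ψ f hf n i b hb = val 𝒜 d ψ f hf n i b' (h ▸ hb) := by
  subst h
  rfl

theorem exists_lin_ne_zero (hw : ψ (pt 𝒜 d f hf) ≠ 0) (𝔮 : Ideal A) [𝔮.IsPrime]
    (h𝔮 : 𝔮 = RingHom.ker (algebraMap A R)) (ts : Finset 𝔮.ResidueField) (hts : d ≤ ts.card) :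
    ∃ (f' : B) (hf' : f' ∈ 𝒜 1), ψ (pt 𝒜 d (fun _ => f') (fun _ => hf')) ≠ 0 := by
  classical
  obtain ⟨f₀, hf₀⟩ : ∃ f₀ : A →+* FractionRing R,
      f₀ = (algebraMap R (FractionRing R)).comp (algebraMap A R) := ⟨_, rfl⟩
  have hinj : Function.Injective (algebraMap R (FractionRing R)) :=
    IsFractionRing.injective R _
  have h1 : 𝔮 ≤ RingHom.ker f₀ := by
    intro a ha
    rw [h𝔮, RingHom.mem_ker] at ha
    rw [RingHom.mem_ker, hf₀, RingHom.comp_apply, ha, map_zero]
  have h2 : 𝔮.primeCompl ≤ (IsUnit.submonoid (FractionRing R)).comap f₀ := by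
    intro a ha
    show IsUnit (f₀ a)
    apply IsUnit.mk0
    rw [hf₀, RingHom.comp_apply]
    intro h0
    apply ha
    show a ∈ 𝔮
    rw [h𝔮, RingHom.mem_ker]
    exact hinj (h0.trans (map_zero _).symm)
  obtain ⟨ι, hι⟩ : ∃ ι : 𝔮.ResidueField →+* FractionRing R,
      ∀ a, ι (algebraMap A _ a) = f₀ a :=
    ⟨Ideal.ResidueField.lift 𝔮 f₀ h1 h2,
      fun a => Ideal.ResidueField.lift_algebraMap 𝔮 f₀ h1 h2 a⟩
  obtain ⟨a, ha⟩ : ∃ a : Fin d → Fin d → R,
      ∀ i j, a i j = valL 𝒜 d ψ f hf 1 i ⟨f j, hf j⟩ := ⟨_, fun i j => rfl⟩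
  have haii : ∀ i, a i i = ψ (pt 𝒜 d f hf) := by
    intro i
    rw [ha, valL_apply]
    unfold val
    congr 1
    apply Subtype.ext
    show PiTensorProduct.tprod A (Function.update (fun i'' => f i'' ^ 1) i (f i)) =
      PiTensorProduct.tprod A f
    congr 1
    funext i'
    by_cases h : i' = i
    · subst h
      rw [Function.update_self]
    · rw [Function.update_of_ne h, pow_one]
  let H : Fin d → Submodule 𝔮.ResidueField (Fin d → 𝔮.ResidueField) := fun i =>
    { carrier := {c | ∑ j, ι (c j) * algebraMap R (FractionRing R) (a i j) = 0}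
      add_mem' := by
        intro c c' hc hc'
        show ∑ j, ι ((c + c') j) * algebraMap R (FractionRing R) (a i j) = 0
        have hc1 : ∑ j, ι (c j) * algebraMap R (FractionRing R) (a i j) = 0 := hc
        have hc2 : ∑ j, ι (c' j) * algebraMap R (FractionRing R) (a i j) = 0 := hc'
        simp only [Pi.add_apply, map_add, add_mul, Finset.sum_add_distrib, hc1, hc2, add_zero]
      zero_mem' := by
        show ∑ j, ι ((0 : Fin d → 𝔮.ResidueField) j) * algebraMap R (FractionRing R) (a i j) = 0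
        simp
      smul_mem' := by
        intro t c hc
        show ∑ j, ι ((t • c) j) * algebraMap R (FractionRing R) (a i j) = 0
        have hc1 : ∑ j, ι (c j) * algebraMap R (FractionRing R) (a i j) = 0 := hc
        simp only [Pi.smul_apply, smul_eq_mul, map_mul, mul_assoc]
        rw [← Finset.mul_sum, hc1, mul_zero] }
  have hHmem : ∀ i (c : Fin d → 𝔮.ResidueField),
      c ∈ H i ↔ ∑ j, ι (c j) * algebraMap R (FractionRing R) (a i j) = 0 := fun i c => Iff.rfl
  have hHtop : ∀ i ∈ (Finset.univ : Finset (Fin d)), H i ≠ ⊤ := by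
    intro i _ htop
    have h3 : (Pi.single i 1 : Fin d → 𝔮.ResidueField) ∈ H i := by rw [htop]; trivial
    rw [hHmem, Finset.sum_eq_single i] at h3
    · rw [Pi.single_eq_same, map_one, one_mul, haii] at h3
      exact hw (hinj (h3.trans (map_zero _).symm))
    · intro j _ hji
      rw [Pi.single_eq_of_ne hji, map_zero, zero_mul]
    · intro h
      exact absurd (Finset.mem_univ i) h
  obtain ⟨c, hc⟩ := exists_notMem_of_card_le (Finset.univ : Finset (Fin d)) H hHtop ts
    (by rw [Finset.card_univ, Fintype.card_fin]; exact hts)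
  obtain ⟨b, hb⟩ := IsLocalization.exist_integer_multiples_of_finite
    (nonZeroDivisors (A ⧸ 𝔮)) c
  choose n hn using hb
  have hlift : ∀ j, ∃ m : A, Ideal.Quotient.mk 𝔮 m = n j :=
    fun j => Ideal.Quotient.mk_surjective (n j)
  choose m hm using hlift
  have hbne : ι (algebraMap (A ⧸ 𝔮) 𝔮.ResidueField (b : A ⧸ 𝔮)) ≠ 0 := by
    rw [map_ne_zero]
    intro h0
    have h3 := IsFractionRing.injective (A ⧸ 𝔮) 𝔮.ResidueField (h0.trans (map_zero _).symm)
    exact nonZeroDivisors.coe_ne_zero b h3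
  have hfm : ∀ j, f₀ (m j) =
      ι (algebraMap (A ⧸ 𝔮) 𝔮.ResidueField (b : A ⧸ 𝔮)) * ι (c j) := by
    intro j
    rw [← hι, IsScalarTower.algebraMap_apply A (A ⧸ 𝔮) 𝔮.ResidueField,
      Ideal.Quotient.algebraMap_eq, hm, hn, Algebra.smul_def, map_mul]
  have hne : ∀ i, ∑ j, algebraMap A R (m j) * a i j ≠ 0 := by
    intro i h0
    apply hc i (Finset.mem_univ i)
    rw [hHmem]
    have h3 := congrArg (algebraMap R (FractionRing R)) h0
    rw [map_sum, map_zero] at h3
    have h4 : ∀ j, algebraMap R (FractionRing R) (algebraMap A R (m j) * a i j) =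
        ι (algebraMap (A ⧸ 𝔮) 𝔮.ResidueField (b : A ⧸ 𝔮)) *
          (ι (c j) * algebraMap R (FractionRing R) (a i j)) := by
      intro j
      rw [map_mul, ← mul_assoc, ← hfm, hf₀, RingHom.comp_apply]
    rw [Finset.sum_congr rfl (fun j _ => h4 j), ← Finset.mul_sum] at h3
    exact (mul_eq_zero.mp h3).resolve_left hbne
  obtain ⟨F', hF'⟩ : ∃ F' : 𝒜 1, F' = ∑ j, m j • (⟨f j, hf j⟩ : 𝒜 1) := ⟨_, rfl⟩
  refine ⟨F'.1, F'.2, ?_⟩
  have hGI := psi_mul_pow 𝒜 d ψ f hf (fun _ => F'.1) (fun _ => F'.2)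
  have hprod : ∏ i, val 𝒜 d ψ f hf 1 i F'.1 F'.2 ≠ 0 := by
    rw [Finset.prod_ne_zero_iff]
    intro i _
    rw [← valL_apply, hF', map_sum]
    simp only [map_smul, Algebra.smul_def, ← ha]
    exact hne i
  rw [← hGI] at hprod
  exact left_ne_zero_of_mul hprod

end vals

section final

variable {A B : Type u} [CommRing A] [CommRing B] [Algebra A B]

theorem lin_aux (𝒜 : ℕ → Submodule A B) [GradedAlgebra 𝒜]
    (hgen : Algebra.adjoin A (𝒜 1 : Set B) = ⊤) (d : ℕ)
    (hres : ∀ p : PrimeSpectrum A, (d : Cardinal) ≤ Cardinal.mk p.asIdeal.ResidueField)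
    (D : Subalgebra A (⨂[A] _ : Fin d, B))
    (hD : D = Algebra.adjoin A {t | ∃ (k : ℕ) (b : Fin d → B), (∀ i, b i ∈ 𝒜 k) ∧
      t = PiTensorProduct.tprod A b} ⊓ SymTen.TS A B d)
    (k : ℕ) (hk : 0 < k) (t : ⨂[A] _ : Fin d, B) (htD : t ∈ D)
    (htk : t ∈ Submodule.span A {s | ∃ b : Fin d → B, (∀ i, b i ∈ 𝒜 k) ∧
      s = PiTensorProduct.tprod A b}) :
    ∃ m : ℕ, 0 < m ∧ (⟨t, htD⟩ : D) ^ m ∈
      Ideal.span {x : D | ∃ f : B, f ∈ 𝒜 1 ∧
        (x : ⨂[A] _ : Fin d, B) = PiTensorProduct.tprod A (fun _ : Fin d => f)} := by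
  subst hD
  refine cover_of_forall 𝒜 d _ ⟨t, htD⟩ ?_
  intro 𝔓 h𝔓 ht𝔓
  haveI := h𝔓
  obtain ⟨ψ, hψdef⟩ : ∃ ψ : ↥(Cc 𝒜 d) →ₐ[A] (↥(Cc 𝒜 d) ⧸ 𝔓), ψ = Ideal.Quotient.mkₐ A 𝔓 :=
    ⟨_, rfl⟩
  have hψ0 : ∀ y : ↥(Cc 𝒜 d), ψ y = 0 ↔ y ∈ 𝔓 := by
    intro y
    rw [hψdef]
    exact Ideal.Quotient.eq_zero_iff_mem
  have hψt : ψ ⟨t, (Algebra.mem_inf.mp htD).1⟩ ≠ 0 := by
    intro h0
    exact ht𝔓 ((hψ0 _).mp h0)
  obtain ⟨f, hf, hw⟩ := exists_deg_one_ne_zero 𝒜 d (R := ↥(Cc 𝒜 d) ⧸ 𝔓) ψ hgen k hk t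
    (Algebra.mem_inf.mp htD).1 htk hψt
  haveI : (RingHom.ker (algebraMap A (↥(Cc 𝒜 d) ⧸ 𝔓))).IsPrime := RingHom.ker_isPrime _
  obtain ⟨ts, hts⟩ := Cardinal.exists_finset_le_card _ d
    (hres ⟨RingHom.ker (algebraMap A (↥(Cc 𝒜 d) ⧸ 𝔓)), inferInstance⟩)
  obtain ⟨f', hf', hne⟩ := exists_lin_ne_zero 𝒜 d (R := ↥(Cc 𝒜 d) ⧸ 𝔓) ψ f hf hw
    (RingHom.ker (algebraMap A (↥(Cc 𝒜 d) ⧸ 𝔓))) rfl ts hts
  refine ⟨⟨PiTensorProduct.tprod A (fun _ : Fin d => f'),
    Algebra.mem_inf.mpr ⟨(pt 𝒜 d (fun _ => f') (fun _ => hf')).2,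
      (SymTen.tpow A B d f').2⟩⟩, Ideal.subset_span ⟨f', hf', rfl⟩, ?_⟩
  intro hmem
  exact hne ((hψ0 _).mpr hmem)

end final

end Groth.Agent.Lib.Helper24.SymCovC
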