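import Mathlib
import Groth.Prelude.Def_SymTen
import Groth.Agent.Lib.Helper24.SymCovA
import Groth.Agent.Lib.Helper24.SymCovB
import Groth.Agent.Lib.Helper24.SymCovC

/-!
# Covering the symmetric product of a Proj by `Sym^d(X_f)`, `f` homogeneous (helper24)

Graded prime avoidance for the point values: there is a homogeneous element of positive degree
not vanishing at any of the `d` points.
-/

set_option autoImplicit false
set_option maxHeartbeats 400000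
set_option linter.style.haveILetI false
set_option linter.unusedSectionVars false

namespace Groth.Agent.Lib.Helper24.SymCovD

open scoped TensorProduct
open Groth.Agent.Lib.Helper24.SymCovA Groth.Agent.Lib.Helper24.SymCovC

universe u

section ev

variable {A B : Type u} [CommRing A] [CommRing B] [Algebra A B]
  (𝒜 : ℕ → Submodule A B) [GradedAlgebra 𝒜] (d : ℕ)
  {R : Type u} [CommRing R] [IsDomain R] [Algebra A R] (ψ : ↥(Cc 𝒜 d) →ₐ[A] R)
  (f : Fin d → B) (hf : ∀ i, f i ∈ 𝒜 1)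

open Classical in
/-- total version of `val`. -/
noncomputable def ev (i : Fin d) (n : ℕ) (b : B) : R :=
  if h : b ∈ 𝒜 n then val 𝒜 d ψ f hf n i b h else 0

lemma ev_of_mem (i : Fin d) {n : ℕ} {b : B} (h : b ∈ 𝒜 n) :
    ev 𝒜 d ψ f hf i n b = val 𝒜 d ψ f hf n i b h := dif_pos h

lemma ev_add (i : Fin d) {n : ℕ} {b b' : B} (hb : b ∈ 𝒜 n) (hb' : b' ∈ 𝒜 n) :
    ev 𝒜 d ψ f hf i n (b + b') = ev 𝒜 d ψ f hf i n b + ev 𝒜 d ψ f hf i n b' := by
  rw [ev_of_mem 𝒜 d ψ f hf i (add_mem hb hb'), ev_of_mem 𝒜 d ψ f hf i hb,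
    ev_of_mem 𝒜 d ψ f hf i hb', val_add]

lemma ev_mul (i : Fin d) {n m : ℕ} {b b' : B} (hb : b ∈ 𝒜 n) (hb' : b' ∈ 𝒜 m) :
    ev 𝒜 d ψ f hf i (n + m) (b * b') = ev 𝒜 d ψ f hf i n b * ev 𝒜 d ψ f hf i m b' := by
  rw [ev_of_mem 𝒜 d ψ f hf i (SetLike.mul_mem_graded hb hb'), ev_of_mem 𝒜 d ψ f hf i hb,
    ev_of_mem 𝒜 d ψ f hf i hb', val_mul]

lemma ev_one (i : Fin d) : ev 𝒜 d ψ f hf i 0 1 = 1 := by
  rw [ev_of_mem 𝒜 d ψ f hf i (SetLike.one_mem_graded 𝒜), val_zero_one]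

lemma pow_mem' {n : ℕ} {b : B} (hb : b ∈ 𝒜 n) (a : ℕ) : b ^ a ∈ 𝒜 (a * n) := by
  have h := SetLike.pow_mem_graded a hb
  rwa [smul_eq_mul] at h

lemma ev_pow (i : Fin d) {n : ℕ} {b : B} (hb : b ∈ 𝒜 n) (a : ℕ) :
    ev 𝒜 d ψ f hf i (a * n) (b ^ a) = (ev 𝒜 d ψ f hf i n b) ^ a := by
  induction a with
  | zero => rw [Nat.zero_mul, pow_zero, pow_zero, ev_one]
  | succ a ih =>
    rw [add_mul, one_mul, pow_succ, pow_succ, ev_mul 𝒜 d ψ f hf i (pow_mem' 𝒜 hb a) hb, ih]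

lemma ev_prod (i : Fin d) {κ : Type*} (s : Finset κ) (n : κ → ℕ) (z : κ → B)
    (hz : ∀ k ∈ s, z k ∈ 𝒜 (n k)) :
    ev 𝒜 d ψ f hf i (∑ k ∈ s, n k) (∏ k ∈ s, z k) =
      ∏ k ∈ s, ev 𝒜 d ψ f hf i (n k) (z k) := by
  classical
  induction s using Finset.induction_on with
  | empty => rw [Finset.sum_empty, Finset.prod_empty, Finset.prod_empty, ev_one]
  | insert k s hk ih =>
    rw [Finset.sum_insert hk, Finset.prod_insert hk, Finset.prod_insert hk,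
      ev_mul 𝒜 d ψ f hf i (hz k (Finset.mem_insert_self k s))
        (SetLike.prod_mem_graded 𝒜 n z (fun k' hk' => hz k' (Finset.mem_insert_of_mem hk'))),
      ih (fun k' hk' => hz k' (Finset.mem_insert_of_mem hk'))]

theorem exists_homog_ne_zero (hw : ψ (pt 𝒜 d f hf) ≠ 0) (s : Finset (Fin d)) :
    ∃ n : ℕ, 0 < n ∧ ∃ g : B, g ∈ 𝒜 n ∧ ∀ i ∈ s, ev 𝒜 d ψ f hf i n g ≠ 0 := by
  classical
  induction s using Finset.strongInduction with
  | H s ih =>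
    rcases s.eq_empty_or_nonempty with rfl | hne
    · exact ⟨1, one_pos, 0, zero_mem _, fun i hi => absurd hi (Finset.notMem_empty i)⟩
    have hz : ∀ i : Fin d, ∃ n : ℕ, 0 < n ∧ ∃ g : B, g ∈ 𝒜 n ∧
        (i ∈ s → ∀ i' ∈ s.erase i, ev 𝒜 d ψ f hf i' n g ≠ 0) := by
      intro i
      by_cases hi : i ∈ s
      · obtain ⟨n, hn, g, hg, hall⟩ := ih (s.erase i) (Finset.erase_ssubset hi)
        exact ⟨n, hn, g, hg, fun _ => hall⟩
      · exact ⟨1, one_pos, 0, zero_mem _, fun h => absurd h hi⟩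
    choose n hn z hz hzne using hz
    by_cases hex : ∃ i ∈ s, ev 𝒜 d ψ f hf i (n i) (z i) ≠ 0
    · obtain ⟨i, hi, hne'⟩ := hex
      refine ⟨n i, hn i, z i, hz i, fun i' hi' => ?_⟩
      by_cases hii : i' = i
      · subst hii
        exact hne'
      · exact hzne i hi i' (Finset.mem_erase.mpr ⟨hii, hi'⟩)
    · have hzero : ∀ i ∈ s, ev 𝒜 d ψ f hf i (n i) (z i) = 0 := by
        intro i hi
        by_contra h
        exact hex ⟨i, hi, h⟩
      obtain ⟨j, hj⟩ := hne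
      by_cases hsingle : s.erase j = ∅
      · refine ⟨1, one_pos, f j, hf j, fun i hi => ?_⟩
        have hij : i = j := by
          by_contra h
          have h1 : i ∈ s.erase j := Finset.mem_erase.mpr ⟨h, hi⟩
          rw [hsingle] at h1
          exact absurd h1 (Finset.notMem_empty i)
        subst hij
        rw [ev_of_mem 𝒜 d ψ f hf i (hf i), Groth.Agent.Lib.Helper24.SymCovB.val_self]
        exact hw
      · obtain ⟨N, hN⟩ : ∃ N, N = ∑ i ∈ s.erase j, n i := ⟨_, rfl⟩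
        have hNpos : 0 < N := by
          obtain ⟨i₀, hi₀⟩ := Finset.nonempty_iff_ne_empty.mpr hsingle
          rw [hN]
          exact lt_of_lt_of_le (hn i₀)
            (Finset.single_le_sum (fun _ _ => Nat.zero_le _) hi₀)
        obtain ⟨u, hu⟩ : ∃ u, u = ∏ i ∈ s.erase j, z i := ⟨_, rfl⟩
        have humem : u ∈ 𝒜 N := by
          rw [hu, hN]
          exact SetLike.prod_mem_graded 𝒜 n z (fun i _ => hz i)
        have hevu : ∀ i, ev 𝒜 d ψ f hf i N u =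
            ∏ i' ∈ s.erase j, ev 𝒜 d ψ f hf i (n i') (z i') := by
          intro i
          rw [hu, hN]
          exact ev_prod 𝒜 d ψ f hf i (s.erase j) n z (fun k _ => hz k)
        have h1 : u ^ n j ∈ 𝒜 (N * n j) := by
          have h := pow_mem' 𝒜 humem (n j)
          rwa [mul_comm] at h
        have h2 : z j ^ N ∈ 𝒜 (N * n j) := pow_mem' 𝒜 (hz j) N
        refine ⟨N * n j, Nat.mul_pos hNpos (hn j), u ^ n j + z j ^ N, add_mem h1 h2, ?_⟩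
        intro i hi
        rw [ev_add 𝒜 d ψ f hf i h1 h2]
        have e1 : ev 𝒜 d ψ f hf i (N * n j) (u ^ n j) = (ev 𝒜 d ψ f hf i N u) ^ n j := by
          rw [mul_comm N (n j)]
          exact ev_pow 𝒜 d ψ f hf i humem (n j)
        have e2 : ev 𝒜 d ψ f hf i (N * n j) (z j ^ N) =
            (ev 𝒜 d ψ f hf i (n j) (z j)) ^ N := ev_pow 𝒜 d ψ f hf i (hz j) N
        rw [e1, e2, hevu]
        by_cases hij : i = j
        · subst hij
          rw [hzero i hi, zero_pow hNpos.ne', add_zero]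
          apply pow_ne_zero
          rw [Finset.prod_ne_zero_iff]
          intro i' hi'
          have hi's : i' ∈ s := Finset.mem_of_mem_erase hi'
          have hne' : i ≠ i' := (Finset.ne_of_mem_erase hi').symm
          exact hzne i' hi's i (Finset.mem_erase.mpr ⟨hne', hi⟩)
        · have hi_er : i ∈ s.erase j := Finset.mem_erase.mpr ⟨hij, hi⟩
          rw [Finset.prod_eq_zero hi_er (hzero i hi), zero_pow (hn j).ne', zero_add]
          apply pow_ne_zero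
          exact hzne j hj i hi_er

theorem exists_pow_ne_zero (hw : ψ (pt 𝒜 d f hf) ≠ 0) :
    ∃ (n : ℕ) (_ : 0 < n) (g : B) (hg : g ∈ 𝒜 n),
      ψ (pt 𝒜 d (fun _ => g) (fun _ => hg)) ≠ 0 := by
  obtain ⟨n, hn, g, hg, hall⟩ := exists_homog_ne_zero 𝒜 d ψ f hf hw Finset.univ
  refine ⟨n, hn, g, hg, ?_⟩
  have hGI := psi_mul_pow 𝒜 d ψ f hf (fun _ => g) (fun _ => hg)
  have hprod : ∏ i, val 𝒜 d ψ f hf n i g hg ≠ 0 := by
    rw [Finset.prod_ne_zero_iff]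
    intro i _
    rw [← ev_of_mem 𝒜 d ψ f hf i hg]
    exact hall i (Finset.mem_univ i)
  rw [← hGI] at hprod
  exact left_ne_zero_of_mul hprod

end ev

section final

variable {A B : Type u} [CommRing A] [CommRing B] [Algebra A B]

theorem tpow_aux (𝒜 : ℕ → Submodule A B) [GradedAlgebra 𝒜]
    (hgen : Algebra.adjoin A (𝒜 1 : Set B) = ⊤) (d : ℕ)
    (D : Subalgebra A (⨂[A] _ : Fin d, B))
    (hD : D = Algebra.adjoin A {t | ∃ (k : ℕ) (b : Fin d → B), (∀ i, b i ∈ 𝒜 k) ∧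
      t = PiTensorProduct.tprod A b} ⊓ SymTen.TS A B d)
    (k : ℕ) (hk : 0 < k) (t : ⨂[A] _ : Fin d, B) (htD : t ∈ D)
    (htk : t ∈ Submodule.span A {s | ∃ b : Fin d → B, (∀ i, b i ∈ 𝒜 k) ∧
      s = PiTensorProduct.tprod A b}) :
    ∃ m : ℕ, 0 < m ∧ (⟨t, htD⟩ : D) ^ m ∈
      Ideal.span {x : D | ∃ (n : ℕ) (f : B), 0 < n ∧ f ∈ 𝒜 n ∧
        (x : ⨂[A] _ : Fin d, B) = PiTensorProduct.tprod A (fun _ : Fin d => f)} := by
  subst hD
  refine cover_of_forall 𝒜 d _ ⟨t, htD⟩ ?_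
  intro 𝔓 h𝔓 ht𝔓
  haveI := h𝔓
  obtain ⟨ψ, hψdef⟩ : ∃ ψ : ↥(Cc 𝒜 d) →ₐ[A] (↥(Cc 𝒜 d) ⧸ 𝔓), ψ = Ideal.Quotient.mkₐ A 𝔓 :=
    ⟨_, rfl⟩
  have hψ0 : ∀ y : ↥(Cc 𝒜 d), ψ y = 0 ↔ y ∈ 𝔓 := by
    intro y
    rw [hψdef]
    exact Ideal.Quotient.eq_zero_iff_mem
  have hψt : ψ ⟨t, (Algebra.mem_inf.mp htD).1⟩ ≠ 0 := by
    intro h0
    exact ht𝔓 ((hψ0 _).mp h0)
  obtain ⟨f, hf, hw⟩ := exists_deg_one_ne_zero 𝒜 d (R := ↥(Cc 𝒜 d) ⧸ 𝔓) ψ hgen k hk t
    (Algebra.mem_inf.mp htD).1 htk hψt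
  obtain ⟨n, hn, g, hg, hne⟩ := exists_pow_ne_zero 𝒜 d (R := ↥(Cc 𝒜 d) ⧸ 𝔓) ψ f hf hw
  refine ⟨⟨PiTensorProduct.tprod A (fun _ : Fin d => g),
    Algebra.mem_inf.mpr ⟨(pt 𝒜 d (fun _ => g) (fun _ => hg)).2,
      (SymTen.tpow A B d g).2⟩⟩, Ideal.subset_span ⟨n, g, hn, hg, rfl⟩, ?_⟩
  intro hmem
  exact hne ((hψ0 _).mpr hmem)

end final

end Groth.Agent.Lib.Helper24.SymCovD
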