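import Mathlib
import Groth.Agent.Lib.Helper24.LocCI

/-!
# A dimension bound for algebras generated by "idempotent-linear" generators

`S` is a `B`-algebra generated by `y_1..y_m` with `y_i = ∑_j col i j y_j`.  If at each maximal
ideal `𝔪` of `B` the columns of `col` are combinations modulo `𝔪` of `c` vectors with
`c + ht 𝔪 ≤ n`, then `dim S ≤ n`.
-/

set_option autoImplicit false
set_option maxHeartbeats 400000
set_option linter.style.haveILetI false
set_option linter.unusedSectionVars false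
set_option linter.unusedVariables false

universe u

open MvPolynomial

namespace Groth.Agent.Lib.Helper24.SymDim

variable {B : Type u} [CommRing B] {S : Type u} [CommRing S] [Algebra B S]
  {m : ℕ} (col : Fin m → Fin m → B) (y : Fin m → S)
  (hrel : ∀ i, y i = ∑ j, algebraMap B S (col i j) * y j)
  (hind : ∀ motive : S → Prop, (∀ a : B, motive (algebraMap B S a)) →
    (∀ p q, motive p → motive q → motive (p + q)) →
    (∀ p i, motive p → motive (p * y i)) → ∀ x, motive x)

include hrel hind in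
/-- the fibre of `S` over a maximal ideal `𝔪` has dimension at most `c` if the columns of
`col` are, modulo `𝔪`, combinations of `c` vectors. -/
theorem dim_quot_le (𝔪 : Ideal B) (h𝔪 : 𝔪.IsMaximal) (c : ℕ) (w : Fin c → Fin m → B)
    (hw : ∀ i, ∃ lam : Fin c → B, ∀ j, col i j - ∑ t, lam t * w t j ∈ 𝔪) :
    ringKrullDim (S ⧸ 𝔪.map (algebraMap B S)) ≤ ((c : ℕ) : WithBot ℕ∞) := by
  haveI := h𝔪
  letI : Field (B ⧸ 𝔪) := Ideal.Quotient.field 𝔪
  set K' : Ideal S := 𝔪.map (algebraMap B S) with hK'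
  let β : B →+* (S ⧸ K') := (Ideal.Quotient.mk K').comp (algebraMap B S)
  have hβ0 : ∀ a ∈ 𝔪, β a = 0 := fun a ha => by
    show Ideal.Quotient.mk K' (algebraMap B S a) = 0
    rw [Ideal.Quotient.eq_zero_iff_mem]
    exact Ideal.mem_map_of_mem _ ha
  let ζ : B ⧸ 𝔪 →+* (S ⧸ K') := Ideal.Quotient.lift 𝔪 β hβ0
  let yb : Fin m → (S ⧸ K') := fun j => Ideal.Quotient.mk K' (y j)
  let z : Fin c → (S ⧸ K') := fun t => ∑ j, β (w t j) * yb j
  let Θ : MvPolynomial (Fin c) (B ⧸ 𝔪) →+* (S ⧸ K') := eval₂Hom ζ z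
  have hΘC : ∀ b : B, β b ∈ Θ.range := fun b =>
    ⟨C (Ideal.Quotient.mk 𝔪 b), by
      show eval₂Hom ζ z (C (Ideal.Quotient.mk 𝔪 b)) = β b
      rw [eval₂Hom_C]
      rfl⟩
  have hΘX : ∀ t, z t ∈ Θ.range := fun t =>
    ⟨X t, by
      show eval₂Hom ζ z (X t) = z t
      rw [eval₂Hom_X']⟩
  have hΘy : ∀ i, yb i ∈ Θ.range := by
    intro i
    obtain ⟨lam, hlam⟩ := hw i
    have h1 : yb i = ∑ j, β (col i j) * yb j := by
      show Ideal.Quotient.mk K' (y i) = _
      rw [hrel i, map_sum]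
      refine Finset.sum_congr rfl fun j _ => ?_
      rw [map_mul]
      rfl
    have h2 : ∀ j, β (col i j) = ∑ t, β (lam t) * β (w t j) := by
      intro j
      have h3 := hβ0 _ (hlam j)
      rw [map_sub, sub_eq_zero, map_sum] at h3
      rw [h3]
      refine Finset.sum_congr rfl fun t _ => ?_
      rw [map_mul]
    have h2' : ∀ j, β (col i j) * yb j = ∑ t, β (lam t) * (β (w t j) * yb j) := fun j => by
      rw [h2 j, Finset.sum_mul]
      exact Finset.sum_congr rfl fun t _ => mul_assoc _ _ _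
    have h4 : yb i = ∑ t, β (lam t) * z t := by
      rw [h1, Finset.sum_congr rfl fun j _ => h2' j, Finset.sum_comm]
      exact Finset.sum_congr rfl fun t _ => (Finset.mul_sum _ _ _).symm
    rw [h4]
    exact Θ.range.sum_mem fun t _ => Θ.range.mul_mem (hΘC _) (hΘX t)
  have hsurj : Function.Surjective Θ := by
    intro q
    obtain ⟨x, rfl⟩ := Ideal.Quotient.mk_surjective q
    show Ideal.Quotient.mk K' x ∈ Θ.range
    refine hind (fun x => Ideal.Quotient.mk K' x ∈ Θ.range) ?_ ?_ ?_ x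
    · intro a
      exact hΘC a
    · intro p q hp hq
      rw [map_add]
      exact Θ.range.add_mem hp hq
    · intro p i hp
      rw [map_mul]
      exact Θ.range.mul_mem hp (hΘy i)
  have h5 := ringKrullDim_le_of_surjective Θ hsurj
  rw [LocCI.ringKrullDim_mvPolynomial (B ⧸ 𝔪) c] at h5
  exact h5

include hrel hind in
/-- the dimension bound -/
theorem dim_le [IsNoetherianRing B] [IsNoetherianRing S] [IsJacobsonRing B] [Algebra.FiniteType B S] (n : ℕ)
    (H : ∀ 𝔪 : Ideal B, 𝔪.IsMaximal → ∃ c : ℕ, (c : ℕ∞) + 𝔪.height ≤ (n : ℕ∞) ∧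
      ∃ w : Fin c → Fin m → B, ∀ i, ∃ lam : Fin c → B, ∀ j, col i j - ∑ t, lam t * w t j ∈ 𝔪) :
    ringKrullDim S ≤ ((n : ℕ) : WithBot ℕ∞) := by
  rw [ringKrullDim_le_iff_isMaximal_height_le]
  intro 𝔐 h𝔐
  haveI := h𝔐
  have hmax : (𝔐.under B).IsMaximal := by
    letI : Field (S ⧸ 𝔐) := Ideal.Quotient.field 𝔐
    haveI : Algebra.FiniteType B (S ⧸ 𝔐) :=
      Algebra.FiniteType.of_surjective (Ideal.Quotient.mkₐ B 𝔐)
        (Ideal.Quotient.mkₐ_surjective B 𝔐)
    haveI : Module.Finite B (S ⧸ 𝔐) := finite_of_finite_type_of_isJacobsonRing B _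
    haveI : Algebra.IsIntegral B (S ⧸ 𝔐) := Algebra.IsIntegral.of_finite B _
    have h2 := Ideal.isMaximal_comap_of_isIntegral_of_isMaximal (R := B)
      (⊥ : Ideal (S ⧸ 𝔐))
    convert h2 using 1
    ext x
    rw [Ideal.under, Ideal.mem_comap, Ideal.mem_comap, Ideal.mem_bot,
      IsScalarTower.algebraMap_apply B S (S ⧸ 𝔐), Ideal.Quotient.algebraMap_eq,
      Ideal.Quotient.eq_zero_iff_mem]
  haveI : (𝔐.under B).IsPrime := hmax.isPrime
  have hh := Ideal.height_le_height_add_of_liesOver (𝔐.under B) 𝔐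
  obtain ⟨c, hc, w, hw⟩ := H (𝔐.under B) hmax
  have hd := dim_quot_le col y hrel hind (𝔐.under B) hmax c w hw
  have hle : (𝔐.under B).map (algebraMap B S) ≤ 𝔐 := Ideal.map_comap_le
  haveI : (𝔐.map (Ideal.Quotient.mk ((𝔐.under B).map (algebraMap B S)))).IsPrime :=
    Ideal.map_isPrime_of_surjective Ideal.Quotient.mk_surjective (by rwa [Ideal.mk_ker])
  have h2 : (𝔐.map (Ideal.Quotient.mk ((𝔐.under B).map (algebraMap B S)))).height ≤
      (c : ℕ∞) := by
    have h3 := (Ideal.height_le_ringKrullDim_of_isPrime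
      (I := 𝔐.map (Ideal.Quotient.mk ((𝔐.under B).map (algebraMap B S))))).trans hd
    exact_mod_cast h3
  have h6 : 𝔐.height ≤ (n : ℕ∞) :=
    calc 𝔐.height ≤ (𝔐.under B).height + _ := hh
      _ ≤ (𝔐.under B).height + (c : ℕ∞) := by gcongr
      _ = (c : ℕ∞) + (𝔐.under B).height := add_comm _ _
      _ ≤ (n : ℕ∞) := hc
  exact_mod_cast h6

include hind in
theorem finiteType_of_hind : Algebra.FiniteType B S := by
  classical
  refine ⟨⟨Finset.univ.image y, ?_⟩⟩
  rw [eq_top_iff]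
  rintro x -
  refine hind (fun x => x ∈ Algebra.adjoin B ((Finset.univ.image y : Finset S) : Set S)) ?_ ?_ ?_ x
  · intro a
    exact Subalgebra.algebraMap_mem _ a
  · intro p q hp hq
    exact Subalgebra.add_mem _ hp hq
  · intro p i hp
    refine Subalgebra.mul_mem _ hp (Algebra.subset_adjoin ?_)
    rw [Finset.coe_image]
    exact ⟨i, Finset.mem_coe.mpr (Finset.mem_univ i), rfl⟩

include hrel hind in
/-- the dimension bound, deriving the finiteness instances -/
theorem dim_le' [IsNoetherianRing B] [IsJacobsonRing B] (n : ℕ)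
    (H : ∀ 𝔪 : Ideal B, 𝔪.IsMaximal → ∃ c : ℕ, (c : ℕ∞) + 𝔪.height ≤ (n : ℕ∞) ∧
      ∃ w : Fin c → Fin m → B, ∀ i, ∃ lam : Fin c → B, ∀ j, col i j - ∑ t, lam t * w t j ∈ 𝔪) :
    ringKrullDim S ≤ ((n : ℕ) : WithBot ℕ∞) := by
  haveI : Algebra.FiniteType B S := finiteType_of_hind y hind
  haveI : IsNoetherianRing S := Algebra.FiniteType.isNoetherianRing B S
  exact dim_le col y hrel hind n H

end Groth.Agent.Lib.Helper24.SymDim
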