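import Mathlib
import Groth.Prelude.Def_PolLaw
import Groth.Prelude.Def_PolLaw2
import Groth.Prelude.Def_SymTen
import Groth.Prelude.Def_W4c5normfunctorschNorm

/-! Symmetric tensors act on the top exterior power through the norm (S19898). -/

set_option autoImplicit false
universe u

open scoped TensorProduct
open PiTensorProduct

namespace Groth.Agent.Lib.Helper24.SymTenDet

variable (R : Type u) [CommRing R] (R' : Type u) [CommRing R'] [Algebra R R'] (d : ℕ)

/-! ### the factorwise action is an algebra action -/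

lemma tpowAct_tprod_tprod (a p : Fin d → R') :
    SymTen.tpowAct R R' R' d (tprod R a) (tprod R p) = tprod R (fun i => a i * p i) := by
  unfold SymTen.tpowAct
  rw [lift.tprod]
  simp only [MultilinearMap.compLinearMap_apply, mapMultilinear_apply, map_tprod]
  rfl

lemma tpowAct_mul (s t : ⨂[R] _ : Fin d, R') (x : ⨂[R] _ : Fin d, R') :
    SymTen.tpowAct R R' R' d (s * t) x =
      SymTen.tpowAct R R' R' d s (SymTen.tpowAct R R' R' d t x) := by
  induction s using PiTensorProduct.induction_on with
  | smul_tprod r a =>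
    induction t using PiTensorProduct.induction_on with
    | smul_tprod r' b =>
      induction x using PiTensorProduct.induction_on with
      | smul_tprod r'' p =>
        simp only [smul_mul_smul_comm, tprod_mul_tprod, map_smul, LinearMap.smul_apply,
          tpowAct_tprod_tprod, Pi.mul_apply, mul_assoc]
        rw [smul_smul, smul_smul, smul_smul]
        congr 1
        ring
      | add x y hx hy => simp only [map_add, hx, hy]
    | add t t' ht ht' => simp only [mul_add, map_add, LinearMap.add_apply, ht, ht']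
  | add s s' hs hs' => simp only [add_mul, map_add, LinearMap.add_apply, hs, hs']

lemma tpowAct_one (x : ⨂[R] _ : Fin d, R') : SymTen.tpowAct R R' R' d 1 x = x := by
  induction x using PiTensorProduct.induction_on with
  | smul_tprod r p =>
    rw [one_def, map_smul, tpowAct_tprod_tprod]
    simp
  | add x y hx hy => simp only [map_add, hx, hy]

lemma tpowAct_smul_one (r : R) (x : ⨂[R] _ : Fin d, R') :
    SymTen.tpowAct R R' R' d (r • 1) x = r • x := by
  rw [map_smul, LinearMap.smul_apply, tpowAct_one]

/-! ### the determinant functional -/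

variable {R R' d}
variable (e : Module.Basis (Fin d) R R')

/-- the determinant functional on the tensor power. -/
noncomputable def D : (⨂[R] _ : Fin d, R') →ₗ[R] R :=
  PiTensorProduct.lift e.det.toMultilinearMap

@[simp] lemma D_tprod (p : Fin d → R') : D e (tprod R p) = e.det p := by
  unfold D
  rw [lift.tprod]
  rfl

lemma altSpan_le_ker_D : SymTen.altSpan R R' d ≤ LinearMap.ker (D e) := by
  unfold SymTen.altSpan
  rw [Submodule.span_le]
  rintro x ⟨p, i, j, hij, hp, rfl⟩
  rw [SetLike.mem_coe, LinearMap.mem_ker, D_tprod]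
  exact e.det.map_eq_zero_of_eq p hp hij

/-- the class of a pure tensor modulo `altSpan`, as an alternating map. -/
noncomputable def clsAlt (R : Type u) [CommRing R] (R' : Type u) [CommRing R'] [Algebra R R']
    (d : ℕ) : R' [⋀^Fin d]→ₗ[R] ((⨂[R] _ : Fin d, R') ⧸ SymTen.altSpan R R' d) :=
  { (SymTen.altSpan R R' d).mkQ.compMultilinearMap (tprod R) with
    map_eq_zero_of_eq' := fun v i j h hne => by
      show (SymTen.altSpan R R' d).mkQ (tprod R v) = 0
      rw [Submodule.mkQ_apply, Submodule.Quotient.mk_eq_zero]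
      exact Submodule.subset_span ⟨v, i, j, hne, h, rfl⟩ }

lemma clsAlt_apply (v : Fin d → R') :
    clsAlt R R' d v = (SymTen.altSpan R R' d).mkQ (tprod R v) := rfl

lemma clsAlt_eq : clsAlt R R' d = e.det.smulRight (clsAlt R R' d e) := by
  refine Module.Basis.ext_alternating e (fun v hv => ?_)
  obtain ⟨σ, rfl⟩ : ∃ σ : Equiv.Perm (Fin d), ⇑σ = v :=
    ⟨Equiv.ofBijective v (Finite.injective_iff_bijective.mp hv), rfl⟩
  have h1 : (fun i => e (σ i)) = ⇑e ∘ ⇑σ := rfl
  rw [h1, AlternatingMap.map_perm, AlternatingMap.smulRight_apply, AlternatingMap.map_perm,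
    Module.Basis.det_self, smul_one_smul]

lemma mkQ_eq (x : ⨂[R] _ : Fin d, R') :
    (SymTen.altSpan R R' d).mkQ x = D e x • clsAlt R R' d e := by
  induction x using PiTensorProduct.induction_on with
  | smul_tprod r p =>
    rw [map_smul, map_smul, D_tprod, ← clsAlt_apply, smul_assoc]
    congr 1
    conv_lhs => rw [clsAlt_eq e]
    rfl
  | add x y hx hy => rw [map_add, map_add, add_smul, hx, hy]

lemma ker_D_le : LinearMap.ker (D e) ≤ SymTen.altSpan R R' d := by
  intro x hx
  rw [LinearMap.mem_ker] at hx
  have := mkQ_eq e x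
  rw [hx, zero_smul, Submodule.mkQ_apply, Submodule.Quotient.mk_eq_zero] at this
  exact this

lemma mem_altSpan_iff (x : ⨂[R] _ : Fin d, R') : x ∈ SymTen.altSpan R R' d ↔ D e x = 0 :=
  ⟨fun h => altSpan_le_ker_D e h, fun h => ker_D_le e h⟩

/-! ### the key identity over a ring test algebra -/

section Key

variable (P : Type u) [CommRing P] [Algebra R P]

/-- `t ↦ D (t · x)`. -/
noncomputable def evalD (x : ⨂[R] _ : Fin d, R') : (⨂[R] _ : Fin d, R') →ₗ[R] R :=
  (D e) ∘ₗ (SymTen.tpowAct R R' R' d).flip x

lemma evalD_apply (x t : ⨂[R] _ : Fin d, R') :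
    evalD e x t = D e (SymTen.tpowAct R R' R' d t x) := rfl

lemma basis_det_one_tmul (q : Fin d → R') :
    (Algebra.TensorProduct.basis P e).det (fun j => (1 : P) ⊗ₜ[R] q j) =
      algebraMap R P (e.det q) := by
  rw [Module.Basis.det_apply, Module.Basis.det_apply, RingHom.map_det]
  congr 1
  ext i j
  simp [Module.Basis.toMatrix_apply, Algebra.TensorProduct.basis_repr_tmul]

/-- first multilinear map: product of the `single`s then evaluate. -/
noncomputable def G1 (x : ⨂[R] _ : Fin d, R') :
    MultilinearMap P (fun _ : Fin d => P ⊗[R] R') P :=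
  ((TensorProduct.AlgebraTensorModule.rid R P P).toLinearMap ∘ₗ
      (evalD e x).baseChange P).compMultilinearMap
    ((MultilinearMap.mkPiAlgebra P (Fin d) (P ⊗[R] (⨂[R] _ : Fin d, R'))).compLinearMap
      (fun j => (Algebra.TensorProduct.map (AlgHom.id P P)
        (PiTensorProduct.singleAlgHom (R := R) (A := fun _ : Fin d => R') j)).toLinearMap))

/-- second multilinear map: the determinant of the translates. -/
noncomputable def G2 (p : Fin d → R') :
    MultilinearMap P (fun _ : Fin d => P ⊗[R] R') P :=
  (Algebra.TensorProduct.basis P e).det.toMultilinearMap.compLinearMap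
    (fun j => LinearMap.mulRight P ((1 : P) ⊗ₜ[R] p j))

lemma prod_single (q : Fin d → R') :
    ∏ j, PiTensorProduct.singleAlgHom (R := R) (A := fun _ : Fin d => R') j (q j) = tprod R q := by
  simp only [PiTensorProduct.singleAlgHom_apply]
  rw [← PiTensorProduct.tprod_prod]
  congr 1
  ext i
  rw [Finset.prod_apply]
  rw [Finset.prod_eq_single i]
  · simp
  · intro j _ hji
    simp [Pi.mulSingle_apply, hji.symm]
  · simp

lemma G1_eq_G2 (p : Fin d → R') : G1 e P (tprod R p) = G2 e P p := by
  refine Module.Basis.ext_multilinear (fun _ => Algebra.TensorProduct.basis P e) (fun v => ?_)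
  simp only [G1, G2, LinearMap.compMultilinearMap_apply, MultilinearMap.compLinearMap_apply,
    MultilinearMap.mkPiAlgebra_apply, AlgHom.toLinearMap_apply, Algebra.TensorProduct.basis_apply,
    Algebra.TensorProduct.map_tmul, AlgHom.id_apply, LinearMap.mulRight_apply,
    Algebra.TensorProduct.tmul_mul_tmul, mul_one, AlternatingMap.coe_multilinearMap]
  rw [basis_det_one_tmul]
  have h1 : ∏ j : Fin d, ((1 : P) ⊗ₜ[R]
      PiTensorProduct.singleAlgHom (R := R) (A := fun _ : Fin d => R') j (e (v j))) =
      (1 : P) ⊗ₜ[R] tprod R (fun j => e (v j)) := by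
    rw [← prod_single]
    have : ∀ (s : Finset (Fin d)) (f : Fin d → ⨂[R] _ : Fin d, R'),
        ∏ j ∈ s, ((1 : P) ⊗ₜ[R] f j) = (1 : P) ⊗ₜ[R] ∏ j ∈ s, f j := by
      intro s f
      classical
      induction s using Finset.induction_on with
      | empty => simp [Algebra.TensorProduct.one_def]
      | insert j s hj ih =>
        rw [Finset.prod_insert hj, Finset.prod_insert hj, ih,
          Algebra.TensorProduct.tmul_mul_tmul, mul_one]
    exact this _ _
  rw [h1]
  simp only [LinearMap.comp_apply, LinearMap.baseChange_tmul, LinearEquiv.coe_coe]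
  rw [evalD_apply, tpowAct_tprod_tprod, D_tprod]
  simp [TensorProduct.AlgebraTensorModule.rid, Algebra.smul_def]

theorem key (p : Fin d → R') (z : P ⊗[R] R') :
    (TensorProduct.AlgebraTensorModule.rid R P P)
      ((evalD e (tprod R p)).baseChange P ((SymTen.tpowLaw R R' d).law.toFun' P z)) =
      Algebra.norm P z * algebraMap R P (e.det p) := by
  have h := congrArg (fun G => G (fun _ => z)) (G1_eq_G2 e P p)
  simp only [G1, G2, LinearMap.compMultilinearMap_apply, MultilinearMap.compLinearMap_apply,
    MultilinearMap.mkPiAlgebra_apply, AlgHom.toLinearMap_apply, LinearMap.mulRight_apply,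
    AlternatingMap.coe_multilinearMap, LinearMap.comp_apply, LinearEquiv.coe_coe] at h
  have h2 : (fun j : Fin d => z * ((1 : P) ⊗ₜ[R] p j)) =
      ⇑(Algebra.lmul P (P ⊗[R] R') z) ∘ (fun j => (1 : P) ⊗ₜ[R] p j) := by
    ext j
    rfl
  rw [h2, Module.Basis.det_comp, basis_det_one_tmul, ← Algebra.norm_apply] at h
  rw [← h]
  rfl

end Key

/-! ### the ideal of tensors acting trivially on the top exterior power -/

/-- the ideal of tensors `t` with `D (t · x) = 0` for all `x`. -/
def annIdeal : Ideal (⨂[R] _ : Fin d, R') where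
  carrier := {t | ∀ x, D e (SymTen.tpowAct R R' R' d t x) = 0}
  zero_mem' := fun x => by simp
  add_mem' := fun {a b} ha hb x => by
    rw [map_add, LinearMap.add_apply, map_add, ha x, hb x, add_zero]
  smul_mem' := fun s t ht x => by
    rw [smul_eq_mul, mul_comm, tpowAct_mul]
    exact ht _

lemma mem_annIdeal (t : ⨂[R] _ : Fin d, R') :
    t ∈ annIdeal e ↔ ∀ x, D e (SymTen.tpowAct R R' R' d t x) = 0 := Iff.rfl

/-- the basis of the tensor power. -/
noncomputable def tBasis : Module.Basis (Fin d → Fin d) R (⨂[R] _ : Fin d, R') :=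
  _root_.Basis.piTensorProduct (fun _ : Fin d => e)

lemma tBasis_apply (k : Fin d → Fin d) : tBasis e k = tprod R (fun i => e (k i)) := by
  unfold tBasis
  rw [_root_.Basis.piTensorProduct_apply]

/-- all the evaluations at basis tensors. -/
noncomputable def J : (⨂[R] _ : Fin d, R') →ₗ[R] ((Fin d → Fin d) → R) :=
  LinearMap.pi (fun k => evalD e (tBasis e k))

lemma ker_J : LinearMap.ker (J e) = (annIdeal e).restrictScalars R := by
  ext t
  rw [LinearMap.mem_ker, Submodule.restrictScalars_mem, mem_annIdeal]
  constructor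
  · intro h x
    have h0 : (D e) ∘ₗ (SymTen.tpowAct R R' R' d t) = 0 := by
      refine (tBasis e).ext (fun k => ?_)
      have := congrFun h k
      simpa [J, evalD_apply] using this
    exact LinearMap.congr_fun h0 x
  · intro h
    ext k
    simp only [J, LinearMap.pi_apply, evalD_apply, Pi.zero_apply]
    exact h _

lemma piRight_lTensor (P : Type u) [CommRing P] [Algebra R P] {N : Type u} [AddCommGroup N]
    [Module R N] (f : N →ₗ[R] ((Fin d → Fin d) → R)) (u : P ⊗[R] N) (k : Fin d → Fin d) :
    TensorProduct.piRight R R P (fun _ : Fin d → Fin d => R) (f.lTensor P u) k =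
      ((LinearMap.proj k ∘ₗ f).lTensor P) u := by
  induction u using TensorProduct.induction_on with
  | zero => simp
  | tmul a b => simp [TensorProduct.piRightHom_tmul]
  | add x y hx hy => simp only [map_add, Pi.add_apply, hx, hy]

section LawEq

variable [Module.Free R R'] [Module.Finite R R'] (hd : Module.finrank R R' = d)
variable (P : Type u) [CommRing P] [Algebra R P] [Module.Flat R P]

/-- the two laws agree on a flat ring test algebra. -/
theorem law_eq_at (z : P ⊗[R] R') :
    ((Ideal.Quotient.mkₐ R (annIdeal e)).toLinearMap.lTensor P)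
        ((SymTen.tpowLaw R R' d).law.toFun' P z) =
      ((Algebra.ofId R ((⨂[R] _ : Fin d, R') ⧸ annIdeal e)).toLinearMap.lTensor P)
        ((PolLaw.normLaw R R' d hd).law.toFun' P z) := by
  rw [PolLaw.normLaw_apply]
  set τ := (SymTen.tpowLaw R R' d).law.toFun' P z with hτ
  set ν' : P ⊗[R] (⨂[R] _ : Fin d, R') := (Algebra.norm P z) ⊗ₜ[R] 1 with hν'
  have hν : ((Algebra.ofId R ((⨂[R] _ : Fin d, R') ⧸ annIdeal e)).toLinearMap.lTensor P)
      ((Algebra.norm P z) ⊗ₜ[R] (1 : R)) =
      ((Ideal.Quotient.mkₐ R (annIdeal e)).toLinearMap.lTensor P) ν' := by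
    simp [hν']
  rw [hν, ← sub_eq_zero, ← map_sub]
  -- exactness
  have hex : Function.Exact ((annIdeal e).restrictScalars R).subtype (J e) := by
    rw [← ker_J]
    exact LinearMap.exact_subtype_ker_map (J e)
  have hex' := Module.Flat.lTensor_exact P hex
  have hJ : (J e).lTensor P (τ - ν') = 0 := by
    apply (TensorProduct.piRight R R P (fun _ : Fin d → Fin d => R)).injective
    rw [map_zero]
    ext k
    rw [piRight_lTensor, Pi.zero_apply]
    have hproj : LinearMap.proj k ∘ₗ J e = evalD e (tBasis e k) := by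
      ext t
      simp [J]
    rw [hproj, map_sub, sub_eq_zero, tBasis_apply]
    apply (TensorProduct.AlgebraTensorModule.rid R P P).injective
    have hk := key e P (fun i => e (k i)) z
    rw [LinearMap.baseChange_eq_ltensor] at hk
    rw [hk, hν', LinearMap.lTensor_tmul, evalD_apply, tpowAct_one, D_tprod]
    simp [TensorProduct.AlgebraTensorModule.rid, Algebra.smul_def, mul_comm]
  obtain ⟨w', hw'⟩ := (hex' _).mp hJ
  rw [← hw', ← LinearMap.comp_apply, ← LinearMap.lTensor_comp]
  have hzero : (Ideal.Quotient.mkₐ R (annIdeal e)).toLinearMap ∘ₗ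
      ((annIdeal e).restrictScalars R).subtype = 0 := by
    ext t
    simp only [LinearMap.comp_apply, Submodule.subtype_apply, AlgHom.toLinearMap_apply,
      Ideal.Quotient.mkₐ_eq_mk, LinearMap.zero_apply]
    rw [Ideal.Quotient.eq_zero_iff_mem]
    exact t.2
  rw [hzero, LinearMap.lTensor_zero, LinearMap.zero_apply]

end LawEq

/-! ### equality of the two laws and the main theorem -/

lemma postcomp_comp {A : Type u} [CommRing A] {M N N' N'' : Type u} [AddCommGroup M] [Module A M]
    [AddCommGroup N] [Module A N] [AddCommGroup N'] [Module A N'] [AddCommGroup N''] [Module A N'']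
    (g : N' →ₗ[A] N'') (f : N →ₗ[A] N') (F : M →ₚₗ[A] N) :
    PolLaw.postcomp (g ∘ₗ f) F = PolLaw.postcomp g (PolLaw.postcomp f F) := by
  ext S _ _ z
  show (g ∘ₗ f).lTensor S (F.toFun' S z) = g.lTensor S (f.lTensor S (F.toFun' S z))
  rw [LinearMap.lTensor_comp]
  rfl

section Main

variable [Module.Free R R'] [Module.Finite R R'] (hd : Module.finrank R R' = d)

theorem law_eq :
    PolLaw.postcomp (Ideal.Quotient.mkₐ R (annIdeal e)).toLinearMap (SymTen.tpowLaw R R' d).law =
      PolLaw.postcomp (Algebra.ofId R ((⨂[R] _ : Fin d, R') ⧸ annIdeal e)).toLinearMap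
        (PolLaw.normLaw R R' d hd).law := by
  ext S _ _ z
  obtain ⟨n, ψ, p, rfl⟩ := PolynomialLaw.exists_lift z
  rw [← PolynomialLaw.isCompat_apply', ← PolynomialLaw.isCompat_apply']
  congr 1
  exact law_eq_at e hd (MvPolynomial (Fin n) R) p

include e in
theorem main {C : Type u} [CommRing C] [Algebra R C] (γ : PolLaw.MulLaw R R' C d)
    (hγ : PolLaw.IsGammaD γ)
    (φ : C →ₐ[R] (⨂[R] _ : Fin d, R')) (hφ : PolLaw.MulLaw.postcomp φ γ = SymTen.tpowLaw R R' d)
    (π : C →ₐ[R] R) (hπ : PolLaw.MulLaw.postcomp π γ = PolLaw.normLaw R R' d hd)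
    (c : C) (x : ⨂[R] _ : Fin d, R') :
    SymTen.tpowAct R R' R' d (φ c) x - π c • x ∈ SymTen.altSpan R R' d := by
  set mkA := Ideal.Quotient.mkₐ R (annIdeal e) with hmkA
  set algA := Algebra.ofId R ((⨂[R] _ : Fin d, R') ⧸ annIdeal e) with halgA
  have h1 : PolLaw.postcomp (mkA.comp φ).toLinearMap γ.law =
      PolLaw.postcomp mkA.toLinearMap (SymTen.tpowLaw R R' d).law := by
    rw [← hφ]
    exact postcomp_comp mkA.toLinearMap φ.toLinearMap γ.law
  have h2 : PolLaw.postcomp (algA.comp π).toLinearMap γ.law =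
      PolLaw.postcomp algA.toLinearMap (PolLaw.normLaw R R' d hd).law := by
    rw [← hπ]
    exact postcomp_comp algA.toLinearMap π.toLinearMap γ.law
  obtain ⟨f, -, huniq⟩ := hγ _ (PolLaw.MulLaw.postcomp (mkA.comp φ) γ)
  have e1 : mkA.comp φ = f := huniq _ rfl
  have e2 : algA.comp π = f := huniq _ (by
    show PolLaw.postcomp (algA.comp π).toLinearMap γ.law =
      PolLaw.postcomp (mkA.comp φ).toLinearMap γ.law
    rw [h1, h2, law_eq e hd])
  have hc : mkA (φ c) = algA (π c) := by
    have := congrArg (fun g : C →ₐ[R] _ => g c) (e1.trans e2.symm)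
    exact this
  have hmem : φ c - algebraMap R (⨂[R] _ : Fin d, R') (π c) ∈ annIdeal e := by
    rw [← Ideal.Quotient.eq]
    exact hc
  have := (mem_annIdeal e _).mp hmem x
  rw [Algebra.algebraMap_eq_smul_one, map_sub, LinearMap.sub_apply, tpowAct_smul_one] at this
  exact (mem_altSpan_iff e _).mpr this

end Main

end Groth.Agent.Lib.Helper24.SymTenDet
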