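import Mathlib
import Groth.Agent.Lib.Helper24.GamFree

/-!
# Traces on symmetric tensors of a finite free module (helper24)

For a finite free module `M` with an endomorphism `u`, the traces of the maps induced by `u` on the
symmetric tensors `TS^n M ⊆ M^{⊗ n}` have generating series `1 / det (1 - t u)`.

Strategy: an explicit basis of `TS^n M` (orbit sums) gives a universal polynomial formula `Pn` for
the trace in the entries of the matrix of `u`; for triangular matrices the formula evaluates to the
complete symmetric polynomial in the diagonal entries; the generic matrix is triangularisable over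
an algebraic closure of the fraction field of the generic ring.
-/

set_option autoImplicit false
set_option maxHeartbeats 400000
set_option linter.style.haveILetI false
set_option linter.unusedSectionVars false

namespace Groth.Agent.Lib.Helper24.SymTrace

open scoped TensorProduct
open Module PiTensorProduct Polynomial
open Groth.Agent.Lib.Helper24.GamType
open Groth.Agent.Lib.Helper24.GamFree (fib mem_fib)

universe u v

section partA

/-- symmetric tensors of a module. -/
abbrev TSm (A : Type*) [CommRing A] (M : Type*) [AddCommGroup M] [Module A M] (n : ℕ) :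
    Submodule A (⨂[A] _ : Fin n, M) :=
  ⨅ σ : Equiv.Perm (Fin n),
    LinearMap.eqLocus ((PiTensorProduct.reindex A (fun _ : Fin n => M) σ).toLinearMap)
      LinearMap.id

variable {A : Type*} [CommRing A] {M : Type*} [AddCommGroup M] [Module A M]

lemma mem_TSm {n : ℕ} (x : ⨂[A] _ : Fin n, M) :
    x ∈ TSm A M n ↔
      ∀ σ : Equiv.Perm (Fin n), PiTensorProduct.reindex A (fun _ : Fin n => M) σ x = x := by
  simp only [TSm, Submodule.mem_iInf, LinearMap.mem_eqLocus, LinearEquiv.coe_coe,
    LinearMap.id_apply]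

/-- the endomorphism of the symmetric tensors induced by `u`. -/
noncomputable def gam (u : M →ₗ[A] M) (n : ℕ) : ↥(TSm A M n) →ₗ[A] ↥(TSm A M n) :=
  (PiTensorProduct.map (fun _ : Fin n => u)).restrict (by
    intro x hx
    rw [mem_TSm] at hx ⊢
    intro σ
    rw [← PiTensorProduct.map_reindex, hx σ])

lemma gam_val (u : M →ₗ[A] M) (n : ℕ) (x : ↥(TSm A M n)) :
    ((gam u n x : ↥(TSm A M n)) : ⨂[A] _ : Fin n, M) =
      PiTensorProduct.map (fun _ : Fin n => u) (x : ⨂[A] _ : Fin n, M) := rfl

variable {I : Type*} [Fintype I] [DecidableEq I] (b : Basis I A M) (n : ℕ)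

/-- the basis of the tensor power. -/
noncomputable def tB : Basis (Fin n → I) A (⨂[A] _ : Fin n, M) :=
  Basis.piTensorProduct (fun _ => b)

lemma tB_apply (c : Fin n → I) : tB b n c = tprod A (fun j => b (c j)) :=
  Basis.piTensorProduct_apply _ _

lemma reindex_tB (σ : Equiv.Perm (Fin n)) (c : Fin n → I) :
    PiTensorProduct.reindex A (fun _ : Fin n => M) σ (tB b n c) = tB b n (c ∘ σ.symm) := by
  rw [tB_apply, tB_apply, PiTensorProduct.reindex_tprod]
  rfl

lemma repr_reindex (σ : Equiv.Perm (Fin n)) (z : ⨂[A] _ : Fin n, M) (g : Fin n → I) :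
    (tB b n).repr (PiTensorProduct.reindex A (fun _ : Fin n => M) σ z) g =
      (tB b n).repr z (g ∘ σ) := by
  have h : ((tB b n).coord g) ∘ₗ
      (PiTensorProduct.reindex A (fun _ : Fin n => M) σ).toLinearMap =
      (tB b n).coord (g ∘ σ) := by
    apply (tB b n).ext
    intro c
    rw [LinearMap.comp_apply, LinearEquiv.coe_coe, reindex_tB, Basis.coord_apply,
      Basis.coord_apply, Basis.repr_self, Basis.repr_self, Finsupp.single_apply,
      Finsupp.single_apply]
    have hiff : (c ∘ σ.symm = g) ↔ (c = g ∘ σ) := by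
      constructor
      · rintro rfl
        ext j
        simp
      · rintro rfl
        ext j
        simp
    exact if_congr hiff rfl rfl
  exact LinearMap.congr_fun h z

lemma repr_const_of_mem {z : ⨂[A] _ : Fin n, M} (hz : z ∈ TSm A M n) {g g' : Fin n → I}
    (h : ty g = ty g') : (tB b n).repr z g = (tB b n).repr z g' := by
  obtain ⟨σ, rfl⟩ := exists_perm_of_ty_eq g g' h
  rw [← repr_reindex b n σ z g, (mem_TSm z).mp hz σ]

/-- the orbit sum of multiplicity vector `k`. -/
noncomputable def Eo (k : I →₀ ℕ) : ⨂[A] _ : Fin n, M := ∑ c ∈ fib n k, tB b n c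

lemma repr_Eo (k : I →₀ ℕ) (g : Fin n → I) :
    (tB b n).repr (Eo b n k) g = if ty g = k then 1 else 0 := by
  unfold Eo
  rw [map_sum, Finsupp.finsetSum_apply]
  simp only [Basis.repr_self]
  by_cases h : ty g = k
  · rw [if_pos h, Finset.sum_eq_single_of_mem g (mem_fib.mpr h)]
    · exact Finsupp.single_eq_same
    · intro c _ hc
      exact Finsupp.single_eq_of_ne' hc
  · rw [if_neg h]
    apply Finset.sum_eq_zero
    intro c hc
    apply Finsupp.single_eq_of_ne'
    rintro rfl
    exact h (mem_fib.mp hc)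

lemma Eo_mem (k : I →₀ ℕ) : Eo b n k ∈ TSm A M n := by
  rw [mem_TSm]
  intro σ
  apply (tB b n).repr.injective
  ext g
  rw [repr_reindex, repr_Eo, repr_Eo, ty_comp_perm]

/-- multiplicity vectors of degree `n`. -/
noncomputable def Kn (I : Type*) [Fintype I] [DecidableEq I] (n : ℕ) : Finset (I →₀ ℕ) :=
  (Finset.univ : Finset I).finsuppAntidiag n

lemma degree_of_mem_Kn {k : I →₀ ℕ} (hk : k ∈ Kn I n) : k.degree = n := by
  rw [Kn, Finset.mem_finsuppAntidiag] at hk
  rw [Finsupp.degree_eq_sum]
  exact hk.1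

lemma ty_mem_Kn (g : Fin n → I) : ty g ∈ Kn I n := by
  rw [Kn, Finset.mem_finsuppAntidiag]
  refine ⟨?_, Finset.subset_univ _⟩
  rw [← Finsupp.degree_eq_sum, degree_ty]

/-- a chosen function with a given multiplicity vector. -/
noncomputable def sec (k : ↥(Kn I n)) : Fin n → I :=
  Classical.choose (exists_ty_eq n k.1 (degree_of_mem_Kn n k.2))

lemma ty_sec (k : ↥(Kn I n)) : ty (sec n k) = k.1 :=
  Classical.choose_spec (exists_ty_eq n k.1 (degree_of_mem_Kn n k.2))

/-- coordinates on the symmetric tensors. -/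
noncomputable def coordEquiv : ↥(TSm A M n) ≃ₗ[A] (↥(Kn I n) → A) where
  toFun z := fun k => (tB b n).repr z.1 (sec n k)
  map_add' x y := by
    ext k
    simp
  map_smul' a x := by
    ext k
    simp
  invFun f := ⟨∑ k : ↥(Kn I n), f k • Eo b n k.1,
    Submodule.sum_mem _ fun k _ => Submodule.smul_mem _ _ (Eo_mem b n k.1)⟩
  left_inv z := by
    apply Subtype.ext
    apply (tB b n).repr.injective
    ext g
    show (tB b n).repr (∑ k : ↥(Kn I n), ((tB b n).repr z.1 (sec n k)) • Eo b n k.1) g =
      (tB b n).repr z.1 g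
    simp only [map_sum, map_smul, Finsupp.finsetSum_apply, Finsupp.smul_apply, repr_Eo,
      smul_eq_mul, mul_ite, mul_one, mul_zero]
    rw [Finset.sum_eq_single (⟨ty g, ty_mem_Kn n g⟩ : ↥(Kn I n))]
    · rw [if_pos rfl]
      exact repr_const_of_mem b n z.2 (ty_sec n _)
    · intro k _ hk
      rw [if_neg]
      intro h
      exact hk (Subtype.ext h.symm)
    · intro h
      exact absurd (Finset.mem_univ _) h
  right_inv f := by
    funext k'
    show (tB b n).repr (∑ k : ↥(Kn I n), f k • Eo b n k.1) (sec n k') = f k'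
    simp only [map_sum, map_smul, Finsupp.finsetSum_apply, Finsupp.smul_apply, repr_Eo,
      smul_eq_mul, mul_ite, mul_one, mul_zero, ty_sec]
    rw [Finset.sum_eq_single k']
    · rw [if_pos rfl]
    · intro k _ hk
      rw [if_neg]
      intro h
      exact hk (Subtype.ext h.symm)
    · intro h
      exact absurd (Finset.mem_univ _) h

lemma coordEquiv_apply (z : ↥(TSm A M n)) (k : ↥(Kn I n)) :
    coordEquiv b n z k = (tB b n).repr z.1 (sec n k) := rfl

lemma val_coordEquiv_symm (f : ↥(Kn I n) → A) :
    (((coordEquiv b n).symm f : ↥(TSm A M n)) : ⨂[A] _ : Fin n, M) =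
      ∑ k : ↥(Kn I n), f k • Eo b n k.1 := rfl

/-- the basis of orbit sums. -/
noncomputable def tsBasis : Basis ↥(Kn I n) A ↥(TSm A M n) := Basis.ofEquivFun (coordEquiv b n)

lemma tsBasis_repr (z : ↥(TSm A M n)) (k : ↥(Kn I n)) :
    (tsBasis b n).repr z k = (tB b n).repr z.1 (sec n k) := by
  rw [tsBasis, Basis.ofEquivFun_repr_apply, coordEquiv_apply]

lemma tsBasis_val (k : ↥(Kn I n)) :
    ((tsBasis b n k : ↥(TSm A M n)) : ⨂[A] _ : Fin n, M) = Eo b n k.1 := by
  rw [tsBasis, Basis.coe_ofEquivFun]
  show (((coordEquiv b n).symm (Pi.single k 1) : ↥(TSm A M n)) : ⨂[A] _ : Fin n, M) = _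
  rw [val_coordEquiv_symm, Finset.sum_eq_single k]
  · rw [Pi.single_eq_same, one_smul]
  · intro k' _ hk'
    rw [Pi.single_eq_of_ne hk', zero_smul]
  · intro h
    exact absurd (Finset.mem_univ _) h

/-- the universal polynomial expression for the trace. -/
noncomputable def Pn {R : Type*} [CommSemiring R] (I : Type*) [Fintype I] [DecidableEq I] (n : ℕ)
    (U : Matrix I I R) : R :=
  ∑ k : ↥(Kn I n), ∑ g ∈ fib n k.1, ∏ i, U (sec n k i) (g i)

theorem trace_eq_Pn (u : M →ₗ[A] M) (γ : ↥(TSm A M n) →ₗ[A] ↥(TSm A M n))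
    (hγ : ∀ x : ↥(TSm A M n), ((γ x : ↥(TSm A M n)) : ⨂[A] _ : Fin n, M) =
      PiTensorProduct.map (fun _ : Fin n => u) (x : ⨂[A] _ : Fin n, M)) :
    LinearMap.trace A ↥(TSm A M n) γ = Pn I n (LinearMap.toMatrix b b u) := by
  rw [LinearMap.trace_eq_matrix_trace A (tsBasis b n) γ, Matrix.trace, Pn]
  refine Finset.sum_congr rfl fun k _ => ?_
  rw [Matrix.diag_apply, LinearMap.toMatrix_apply, tsBasis_repr, hγ, tsBasis_val, Eo, map_sum,
    map_sum, Finsupp.finsetSum_apply]
  refine Finset.sum_congr rfl fun g _ => ?_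
  rw [tB_apply, PiTensorProduct.map_tprod, tB, Basis.piTensorProduct_repr_tprod_apply]
  refine Finset.prod_congr rfl fun i _ => ?_
  rw [LinearMap.toMatrix_apply]

/-- `det (1 - t U)`. -/
noncomputable def Dn {R : Type*} [CommRing R] {I : Type*} [Fintype I] [DecidableEq I]
    (U : Matrix I I R) : R[X] :=
  Matrix.det (1 - (Polynomial.X : R[X]) • U.map (Polynomial.C : R →+* R[X]))

theorem det_eq_Dn (u : M →ₗ[A] M) :
    LinearMap.det (LinearMap.id - (Polynomial.X : A[X]) • u.baseChange A[X]) =
      Dn (LinearMap.toMatrix b b u) := by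
  rw [← LinearMap.det_toMatrix (Algebra.TensorProduct.basis A[X] b), Dn]
  congr 1
  have e : (LinearMap.id - (Polynomial.X : A[X]) • u.baseChange A[X] :
      A[X] ⊗[A] M →ₗ[A[X]] A[X] ⊗[A] M) =
      LinearMap.id + (-(Polynomial.X : A[X])) • u.baseChange A[X] := by
    apply LinearMap.ext
    intro x
    rw [LinearMap.sub_apply, LinearMap.add_apply, LinearMap.smul_apply, LinearMap.smul_apply,
      neg_smul, sub_eq_add_neg]
  rw [e, map_add, map_smul, LinearMap.toMatrix_id, LinearMap.toMatrix_baseChange,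
    Polynomial.algebraMap_eq, sub_eq_add_neg, neg_smul]

end partA

section ident

/-- the identity `det (1 - t U) * ∑ Pn(U) t^n = 1`. -/
def Ident {R : Type*} [CommRing R] {I : Type*} [Fintype I] [DecidableEq I] (U : Matrix I I R) :
    Prop :=
  ((Dn U : R[X]) : PowerSeries R) * PowerSeries.mk (fun n => Pn I n U) = 1

variable {R S : Type*} [CommRing R] [CommRing S] (φ : R →+* S) {I : Type*} [Fintype I]
  [DecidableEq I]

lemma Pn_map (n : ℕ) (U : Matrix I I R) : Pn I n (U.map φ) = φ (Pn I n U) := by
  simp only [Pn, map_sum, map_prod, Matrix.map_apply]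

lemma Dn_map (U : Matrix I I R) : Dn (U.map φ) = (Dn U).map φ := by
  rw [Dn, Dn]
  show _ = Polynomial.mapRingHom φ _
  rw [RingHom.map_det]
  congr 1
  ext i j
  simp only [RingHom.mapMatrix_apply, Matrix.map_apply, Matrix.sub_apply, Matrix.smul_apply,
    Matrix.one_apply, smul_eq_mul, Polynomial.coe_mapRingHom, Polynomial.map_sub,
    Polynomial.map_mul, Polynomial.map_X, Polynomial.map_C]
  split_ifs <;> simp

lemma coe_Dn_map (U : Matrix I I R) :
    ((Dn (U.map φ) : S[X]) : PowerSeries S) = PowerSeries.map φ ((Dn U : R[X]) : PowerSeries R) := by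
  rw [Dn_map]
  exact Polynomial.polynomial_map_coe

lemma mk_Pn_map (U : Matrix I I R) :
    PowerSeries.mk (fun n => Pn I n (U.map φ)) =
      PowerSeries.map φ (PowerSeries.mk (fun n => Pn I n U)) := by
  ext n
  rw [PowerSeries.coeff_mk, PowerSeries.coeff_map, PowerSeries.coeff_mk, Pn_map]

lemma Ident.map {U : Matrix I I R} (h : Ident U) : Ident (U.map φ) := by
  unfold Ident at h ⊢
  rw [coe_Dn_map, mk_Pn_map, ← map_mul, h, map_one]

lemma Ident.of_map_injective (hφ : Function.Injective φ) {U : Matrix I I R}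
    (h : Ident (U.map φ)) : Ident U := by
  unfold Ident at h ⊢
  rw [coe_Dn_map, mk_Pn_map, ← map_mul] at h
  have hinj : Function.Injective (PowerSeries.map φ) := by
    intro p q hpq
    ext n
    apply hφ
    rw [← PowerSeries.coeff_map, ← PowerSeries.coeff_map, hpq]
  apply hinj
  rw [h, map_one]

end ident

section lower

theorem Ident_of_lower {R : Type*} [CommRing R] {r : ℕ} (U : Matrix (Fin r) (Fin r) R)
    (hU : ∀ i j, i < j → U i j = 0) : Ident U := by
  have hD : Dn U = ∏ a, (1 - Polynomial.X * Polynomial.C (U a a)) := by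
    rw [Dn, Matrix.det_of_isLowerTriangular]
    · refine Finset.prod_congr rfl fun a _ => ?_
      simp [Matrix.sub_apply, Matrix.smul_apply, Matrix.map_apply]
    · intro i j hij
      have hij' : i < j := by simpa using hij
      simp [Matrix.sub_apply, Matrix.smul_apply, Matrix.map_apply,
        Matrix.one_apply_ne hij'.ne, hU i j hij']
  have hP : ∀ n, Pn (Fin r) n U = ∑ k ∈ Kn (Fin r) n, ∏ a, U a a ^ (k a) := by
    intro n
    rw [Pn, ← Finset.sum_coe_sort (Kn (Fin r) n) (fun k => ∏ a, U a a ^ (k a))]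
    refine Finset.sum_congr rfl fun k _ => ?_
    rw [Finset.sum_eq_single_of_mem (sec n k) (mem_fib.mpr (ty_sec n k))]
    · have h1 : ∏ i, U (sec n k i) (sec n k i) =
          (ty (sec n k)).prod (fun a m => U a a ^ m) := by
        unfold ty
        rw [← Finsupp.prod_finsetSum_index (fun a => pow_zero _)
          (fun a m₁ m₂ => pow_add _ _ _)]
        refine Finset.prod_congr rfl fun i _ => ?_
        rw [Finsupp.prod_single_index (h := fun a m => U a a ^ m) (pow_zero _), pow_one]
      rw [h1, ty_sec, Finsupp.prod_fintype _ _ (fun a => pow_zero _)]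
    · intro g hg hne
      rw [mem_fib] at hg
      have hex : ∃ i, sec n k i < g i := by
        by_contra hcon
        simp only [not_exists, not_lt] at hcon
        apply hne
        obtain ⟨σ, hσ⟩ := exists_perm_of_ty_eq (sec n k) g ((ty_sec n k).trans hg.symm)
        have hsum : ∑ i, ((g i : Fin r) : ℕ) = ∑ i, ((sec n k i : Fin r) : ℕ) := by
          rw [hσ]
          exact Equiv.sum_comp σ (fun i => ((sec n k i : Fin r) : ℕ))
        have hall := (Finset.sum_eq_sum_iff_of_le
          (fun i _ => Fin.le_iff_val_le_val.mp (hcon i))).mp hsum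
        funext i
        exact Fin.ext (hall i (Finset.mem_univ i))
      obtain ⟨i, hi⟩ := hex
      exact Finset.prod_eq_zero (Finset.mem_univ i) (hU _ _ hi)
  unfold Ident
  have hG : PowerSeries.mk (fun n => Pn (Fin r) n U) =
      ∏ a : Fin r, PowerSeries.mk (fun m => U a a ^ m) := by
    ext n
    rw [PowerSeries.coeff_mk, hP, PowerSeries.coeff_prod, Kn]
    refine Finset.sum_congr rfl fun l _ => ?_
    refine Finset.prod_congr rfl fun a _ => ?_
    rw [PowerSeries.coeff_mk]
  have hone : ∀ a : Fin r,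
      ((1 - Polynomial.X * Polynomial.C (U a a) : R[X]) : PowerSeries R) *
        PowerSeries.mk (fun m => U a a ^ m) = 1 := by
    intro a
    rw [Polynomial.coe_sub, Polynomial.coe_one, Polynomial.coe_mul, Polynomial.coe_X,
      Polynomial.coe_C, sub_mul, one_mul, mul_assoc]
    ext n
    rw [map_sub, PowerSeries.coeff_mk, PowerSeries.coeff_one]
    cases n with
    | zero => rw [PowerSeries.coeff_zero_X_mul, sub_zero, pow_zero, if_pos rfl]
    | succ m =>
      rw [PowerSeries.coeff_succ_X_mul, PowerSeries.coeff_C_mul, PowerSeries.coeff_mk,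
        if_neg (Nat.succ_ne_zero m), pow_succ, mul_comm, sub_self]
  rw [hD, hG, ← Polynomial.coeToPowerSeries.ringHom_apply, map_prod,
    ← Finset.prod_mul_distrib]
  refine Finset.prod_eq_one fun a _ => ?_
  rw [Polynomial.coeToPowerSeries.ringHom_apply]
  exact hone a

end lower

section triang

theorem exists_lower_basis {K : Type*} [Field K] [IsAlgClosed K] :
    ∀ (r : ℕ) (V : Type v) [AddCommGroup V] [Module K V] [FiniteDimensional K V]
      (f : V →ₗ[K] V), Module.finrank K V = r →
      ∃ b : Basis (Fin r) K V, ∀ i j, i < j → LinearMap.toMatrix b b f i j = 0 := by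
  intro r
  induction r with
  | zero =>
    intro V _ _ _ f h
    exact ⟨Module.finBasisOfFinrankEq K V h, fun i => i.elim0⟩
  | succ r ih =>
    intro V _ _ _ f h
    haveI : Nontrivial V := Module.nontrivial_of_finrank_pos (R := K) (by omega)
    obtain ⟨μ, hμ⟩ := Module.End.exists_eigenvalue f
    obtain ⟨v, hv⟩ := hμ.exists_hasEigenvector
    obtain ⟨g, hg⟩ : ∃ g : V →ₗ[K] V, g = f - μ • (LinearMap.id : V →ₗ[K] V) := ⟨_, rfl⟩
    have hgx : ∀ x, g x = f x - μ • x := by
      intro x
      rw [hg, LinearMap.sub_apply, LinearMap.smul_apply, LinearMap.id_apply]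
    have hlt : LinearMap.range g < ⊤ := by
      rw [lt_top_iff_ne_top]
      intro htop
      have hsurj : Function.Surjective g := LinearMap.range_eq_top.mp htop
      have hinj : Function.Injective g := LinearMap.injective_iff_surjective.mpr hsurj
      apply hv.2
      apply hinj
      rw [map_zero, hgx, hv.apply_eq_smul, sub_self]
    obtain ⟨φ, hφ0, hφ⟩ := Submodule.exists_le_ker_of_lt_top _ hlt
    have hW : ∀ x ∈ LinearMap.ker φ, f x ∈ LinearMap.ker φ := by
      intro x hx
      have h1 : g x ∈ LinearMap.ker φ := hφ (LinearMap.mem_range_self _ x)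
      rw [LinearMap.mem_ker] at hx h1 ⊢
      rw [hgx, map_sub, map_smul, hx, smul_zero, sub_zero] at h1
      exact h1
    have hrank : Module.finrank K (LinearMap.ker φ) = r := by
      have := Module.Dual.finrank_ker_add_one_of_ne_zero hφ0
      omega
    obtain ⟨b', hb'⟩ := ih (LinearMap.ker φ) (f.restrict hW) hrank
    obtain ⟨y, hy⟩ : ∃ y, φ y ≠ 0 := by
      by_contra hcon
      simp only [not_exists, not_not] at hcon
      exact hφ0 (LinearMap.ext hcon)
    have hli : ∀ (c : K), ∀ x ∈ LinearMap.ker φ, c • y + x = 0 → c = 0 := by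
      intro c x hx hc
      have h2 := congrArg φ hc
      rw [map_add, map_smul, LinearMap.mem_ker.mp hx, add_zero, map_zero, smul_eq_mul] at h2
      exact (mul_eq_zero.mp h2).resolve_right hy
    have hsp : ∀ z : V, ∃ c : K, z + c • y ∈ LinearMap.ker φ := by
      intro z
      refine ⟨-(φ z / φ y), ?_⟩
      have h3 : -(φ z / φ y) * φ y = -φ z := by field_simp
      rw [LinearMap.mem_ker, map_add, map_smul, smul_eq_mul, h3, add_neg_cancel]
    refine ⟨Basis.mkFinCons y b' hli hsp, ?_⟩
    have hrepr : ∀ (w : LinearMap.ker φ) (i : Fin (r + 1)),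
        (Basis.mkFinCons y b' hli hsp).repr (w : V) i =
          (Fin.cons 0 (fun i' => b'.repr w i') : Fin (r + 1) → K) i := by
      intro w i
      have hw : (w : V) = ∑ i : Fin (r + 1),
          (Fin.cons 0 (fun i' => b'.repr w i') : Fin (r + 1) → K) i •
            Basis.mkFinCons y b' hli hsp i := by
        rw [Fin.sum_univ_succ, Fin.cons_zero, zero_smul, zero_add]
        simp only [Fin.cons_succ, Basis.coe_mkFinCons, Function.comp_apply]
        conv_lhs => rw [← b'.sum_repr w]
        rw [Submodule.coe_sum]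
        simp only [Submodule.coe_smul]
      conv_lhs => rw [hw]
      rw [Basis.repr_sum_self]
    intro i j hij
    rw [LinearMap.toMatrix_apply]
    rcases Fin.eq_zero_or_eq_succ j with rfl | ⟨j', rfl⟩
    · exact absurd hij (Fin.not_lt_zero i)
    · have hbj : Basis.mkFinCons y b' hli hsp (Fin.succ j') =
          ((b' j' : LinearMap.ker φ) : V) := by
        rw [Basis.coe_mkFinCons, Fin.cons_succ]
        rfl
      have hfw : f ((b' j' : LinearMap.ker φ) : V) =
          (((f.restrict hW) (b' j') : LinearMap.ker φ) : V) := rfl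
      rw [hbj, hfw, hrepr]
      rcases Fin.eq_zero_or_eq_succ i with rfl | ⟨i', rfl⟩
      · rw [Fin.cons_zero]
      · rw [Fin.cons_succ]
        have h4 := hb' i' j' (Fin.succ_lt_succ_iff.mp hij)
        rw [LinearMap.toMatrix_apply] at h4
        exact h4

end triang

section main

theorem Ident_field (K : Type*) [Field K] [IsAlgClosed K] {r : ℕ}
    (X : Matrix (Fin r) (Fin r) K) : Ident X := by
  obtain ⟨b, hb⟩ := exists_lower_basis r (Fin r → K) (Matrix.toLin' X) (Module.finrank_fin_fun K)
  have h1 := Ident_of_lower (LinearMap.toMatrix b b (Matrix.toLin' X)) hb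
  have hX : LinearMap.toMatrix (Pi.basisFun K (Fin r)) (Pi.basisFun K (Fin r))
      (Matrix.toLin' X) = X := by
    rw [LinearMap.toMatrix_eq_toMatrix', LinearMap.toMatrix'_toLin']
  have hA : ∀ n, Pn (Fin r) n (LinearMap.toMatrix b b (Matrix.toLin' X)) = Pn (Fin r) n X := by
    intro n
    rw [← trace_eq_Pn b n (Matrix.toLin' X) (gam (Matrix.toLin' X) n)
      (gam_val (Matrix.toLin' X) n),
      trace_eq_Pn (Pi.basisFun K (Fin r)) n (Matrix.toLin' X) (gam (Matrix.toLin' X) n)
      (gam_val (Matrix.toLin' X) n), hX]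
  have hB : Dn (LinearMap.toMatrix b b (Matrix.toLin' X)) = Dn X := by
    rw [← det_eq_Dn b (Matrix.toLin' X), det_eq_Dn (Pi.basisFun K (Fin r)) (Matrix.toLin' X), hX]
  unfold Ident at h1 ⊢
  simp only [hA, hB] at h1
  exact h1

theorem Ident_generic (r : ℕ) : Ident (Matrix.mvPolynomialX (Fin r) (Fin r) ℤ) := by
  let φ : MvPolynomial (Fin r × Fin r) ℤ →+*
      AlgebraicClosure (FractionRing (MvPolynomial (Fin r × Fin r) ℤ)) :=
    (algebraMap (FractionRing (MvPolynomial (Fin r × Fin r) ℤ))
      (AlgebraicClosure (FractionRing (MvPolynomial (Fin r × Fin r) ℤ)))).comp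
      (algebraMap (MvPolynomial (Fin r × Fin r) ℤ)
        (FractionRing (MvPolynomial (Fin r × Fin r) ℤ)))
  have hφ : Function.Injective φ :=
    (algebraMap (FractionRing (MvPolynomial (Fin r × Fin r) ℤ))
      (AlgebraicClosure (FractionRing (MvPolynomial (Fin r × Fin r) ℤ)))).injective.comp
      (IsFractionRing.injective (MvPolynomial (Fin r × Fin r) ℤ)
        (FractionRing (MvPolynomial (Fin r × Fin r) ℤ)))
  exact Ident.of_map_injective φ hφ (Ident_field _ _)

theorem Ident_all {A : Type*} [CommRing A] {r : ℕ} (U : Matrix (Fin r) (Fin r) A) : Ident U := by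
  have h := (Ident_generic r).map
    (MvPolynomial.eval₂Hom (Int.castRingHom A) (fun p : Fin r × Fin r => U p.1 p.2))
  have hU : (Matrix.mvPolynomialX (Fin r) (Fin r) ℤ).map
      (MvPolynomial.eval₂Hom (Int.castRingHom A) (fun p : Fin r × Fin r => U p.1 p.2)) = U := by
    rw [MvPolynomial.coe_eval₂Hom]
    exact Matrix.mvPolynomialX_map_eval₂ (Int.castRingHom A) U
  rwa [hU] at h

theorem main {A : Type u} [CommRing A] (M : Type u) [AddCommGroup M] [Module A M]
    [Module.Free A M] [Module.Finite A M] (u : M →ₗ[A] M)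
    (γ : ∀ n : ℕ, ↥(TSm A M n) →ₗ[A] ↥(TSm A M n))
    (hγ : ∀ (n : ℕ) (x : ↥(TSm A M n)), ((γ n x : ↥(TSm A M n)) : ⨂[A] _ : Fin n, M) =
      PiTensorProduct.map (fun _ : Fin n => u) (x : ⨂[A] _ : Fin n, M)) :
    ((LinearMap.det (LinearMap.id - (Polynomial.X : A[X]) • u.baseChange A[X]) : A[X]) :
      PowerSeries A) * PowerSeries.mk (fun n => LinearMap.trace A ↥(TSm A M n) (γ n)) = 1 := by
  let b : Basis (Fin (Fintype.card (Module.Free.ChooseBasisIndex A M))) A M :=
    (Module.Free.chooseBasis A M).reindex (Fintype.equivFin _)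
  have h := Ident_all (LinearMap.toMatrix b b u)
  unfold Ident at h
  rw [det_eq_Dn b u]
  have hfun : (fun n => LinearMap.trace A ↥(TSm A M n) (γ n)) =
      fun n => Pn _ n (LinearMap.toMatrix b b u) := by
    funext n
    exact trace_eq_Pn b n u (γ n) (hγ n)
  rw [hfun]
  exact h

end main

end Groth.Agent.Lib.Helper24.SymTrace
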