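import Mathlib
import Groth.Agent.Lib.Helper8.WeakColimBase
import Groth.Agent.Lib.Helper12.LimRing
import Groth.Agent.Lib.Helper22.SyntBC
import Groth.Agent.Lib.Helper22.RelGCIReg
import Groth.Agent.Lib.Helper24.SyntRelGCI
import Groth.Agent.Lib.Helper24.RelGCIAway
import Groth.Agent.Lib.Helper24.FibreLocDim
import Groth.Agent.Lib.Helper24.SyntLocal
import Groth.Agent.Lib.Helper14.Syntomic
import Groth.Agent.Lib.Helper6.SyntCover

/-!
# Syntomic ring maps descend along weak colimits (helper24)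

If `C` is a finitely presented `R`-algebra and `B' = colim B i` is a weak colimit of `R`-algebras
with `B' → B' ⊗ C` syntomic, then `B j → B j ⊗ C` is syntomic for some `j`.

The proof covers `Spec (B' ⊗ C)` by finitely many "good charts": basic opens `D(G)` on which the
ideal of relations is generated by `c` elements cutting out an algebra whose fibre dimensions on
`D(G)` are at most `n - c`.  Good charts descend to a stage and are stable under base change.
-/

set_option autoImplicit false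
set_option maxHeartbeats 400000
set_option linter.style.haveILetI false
set_option linter.unusedSectionVars false
universe u

open MvPolynomial TensorProduct

namespace Groth.Agent.Lib.Helper24.SyntDescend

open Groth.Agent.Lib.Helper8.WeakColim Groth.Agent.Lib.Helper12 Groth.Agent.Lib.Helper22
open Groth.Agent.Lib.Helper6.SyntCover (isSyntomic_of_algEquiv)

/-! ### Weak colimits of rings: polynomial rings and ideal membership -/

section RingSys

variable {ι : Type u} {S : WSys.{u, u} ι}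

theorem isWeakColim_mvPolynomial {A : ι → Type u} [∀ i, CommRing (A i)]
    {A' : Type u} [CommRing A'] {β : ∀ i, A i →+* A'} {μ : ∀ {i j}, S.H i j → (A i →+* A j)}
    (hW : IsWeakColim S A A' (fun i => β i) (fun h => μ h)) (σ : Type*) :
    IsWeakColim S (fun i => MvPolynomial σ (A i)) (MvPolynomial σ A')
      (fun i => MvPolynomial.map (β i)) (fun h => MvPolynomial.map (μ h)) where
  map_zero h := map_zero _
  map_id i x := by
    have h1 : μ (S.id i) = RingHom.id (A i) := RingHom.ext (hW.map_id i)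
    show MvPolynomial.map (μ (S.id i)) x = x
    rw [h1, MvPolynomial.map_id]
  map_comp {i j k} h h' x := by
    have h1 : μ (S.comp h h') = (μ h').comp (μ h) := RingHom.ext (hW.map_comp h h')
    show MvPolynomial.map (μ (S.comp h h')) x =
      MvPolynomial.map (μ h') (MvPolynomial.map (μ h) x)
    rw [h1, MvPolynomial.map_map]
  compat {i j} h x := by
    have h1 : (β j).comp (μ h) = β i := RingHom.ext (hW.compat h)
    show MvPolynomial.map (β j) (MvPolynomial.map (μ h) x) = MvPolynomial.map (β i) x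
    rw [MvPolynomial.map_map, h1]
  surj y := by
    obtain ⟨i, x, hx⟩ := hW.exists_lift_finset y.support (fun d => y.coeff d)
    refine ⟨i, ∑ d ∈ y.support, monomial d (x d), ?_⟩
    show MvPolynomial.map (β i) (∑ d ∈ y.support, monomial d (x d)) = y
    rw [map_sum]
    conv_rhs => rw [← MvPolynomial.support_sum_monomial_coeff y]
    refine Finset.sum_congr rfl (fun d hd => ?_)
    rw [MvPolynomial.map_monomial]
    exact congrArg _ (hx d hd)
  ker i x hx := by
    have hx' : MvPolynomial.map (β i) x = 0 := hx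
    obtain ⟨j, h, hj⟩ := hW.exists_kill_finset x.support i (fun d => x.coeff d) (fun d _ => by
      have h2 := congrArg (MvPolynomial.coeff d) hx'
      rw [MvPolynomial.coeff_map, MvPolynomial.coeff_zero] at h2
      exact h2)
    refine ⟨j, h, ?_⟩
    show MvPolynomial.map (μ h) x = 0
    ext d
    rw [MvPolynomial.coeff_map, MvPolynomial.coeff_zero]
    by_cases hd : d ∈ x.support
    · exact hj d hd
    · rw [MvPolynomial.notMem_support_iff.mp hd, map_zero]

variable {P : ι → Type u} [∀ i, CommRing (P i)]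
  {P' : Type u} [CommRing P'] {γ : ∀ i, P i →+* P'} {m : ∀ {i j}, S.H i j → (P i →+* P j)}

/-- membership in (the image of) a finitely generated ideal descends to a stage. -/
theorem exists_mem_map (hW : IsWeakColim S P P' (fun i => γ i) (fun h => m h)) {j : ι}
    (I : Ideal (P j)) (hI : I.FG) (y : P j) (hy : γ j y ∈ I.map (γ j)) :
    ∃ j', ∃ h : S.H j j', m h y ∈ I.map (m h) := by
  classical
  obtain ⟨k, v, hv⟩ := Submodule.fg_iff_exists_fin_generating_family.mp hI
  have hI' : I = Ideal.span (Set.range v) := hv.symm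
  subst hI'
  have e1 : (Ideal.span (Set.range v)).map (γ j) = Ideal.span (Set.range fun t => γ j (v t)) := by
    rw [Ideal.map_span, ← Set.range_comp]
    rfl
  rw [e1] at hy
  obtain ⟨cf, hcf⟩ := Ideal.mem_span_range_iff_exists_fun.mp hy
  obtain ⟨j₁, h₁, x, hx⟩ := hW.exists_lift_finset_above Finset.univ cf j
  have hc : ∀ z, γ j₁ (m h₁ z) = γ j z := fun z => hW.compat h₁ z
  obtain ⟨j₂, h₂, hk⟩ := hW.ker j₁ (m h₁ y - ∑ t, x t * m h₁ (v t)) (by
    show γ j₁ (m h₁ y - ∑ t, x t * m h₁ (v t)) = 0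
    rw [map_sub, map_sum, sub_eq_zero, hc, ← hcf]
    refine Finset.sum_congr rfl (fun t _ => ?_)
    rw [map_mul, hc]
    exact congrArg (· * γ j (v t)) (hx t (Finset.mem_univ t)).symm)
  refine ⟨j₂, S.comp h₁ h₂, ?_⟩
  have hk' : m h₂ (m h₁ y) = ∑ t, m h₂ (x t) * m h₂ (m h₁ (v t)) := by
    have h0 : m h₂ (m h₁ y - ∑ t, x t * m h₁ (v t)) = 0 := hk
    rw [map_sub, map_sum, sub_eq_zero] at h0
    rw [h0]
    exact Finset.sum_congr rfl (fun t _ => map_mul _ _ _)
  have hcomp : ∀ z, m (S.comp h₁ h₂) z = m h₂ (m h₁ z) := fun z => hW.map_comp h₁ h₂ z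
  rw [hcomp, hk']
  refine Ideal.sum_mem _ (fun t _ => Ideal.mul_mem_left _ _ ?_)
  rw [← hcomp]
  exact Ideal.mem_map_of_mem _ (Ideal.subset_span ⟨t, rfl⟩)

/-- finitely many memberships descend simultaneously. -/
theorem exists_forall_mem_map (hW : IsWeakColim S P P' (fun i => γ i) (fun h => m h))
    {α : Type*} (s : Finset α) :
    ∀ (j : ι) (I : α → Ideal (P j)) (_ : ∀ a ∈ s, (I a).FG) (y : α → P j)
      (_ : ∀ a ∈ s, γ j (y a) ∈ (I a).map (γ j)),
      ∃ j', ∃ h : S.H j j', ∀ a ∈ s, m h (y a) ∈ (I a).map (m h) := by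
  classical
  induction s using Finset.induction_on with
  | empty => intro j I _ y _; exact ⟨j, S.id j, by simp⟩
  | insert a s has ih =>
    intro j I hI y hy
    obtain ⟨j₁, h₁, hj₁⟩ := ih j I (fun b hb => hI b (Finset.mem_insert_of_mem hb)) y
      (fun b hb => hy b (Finset.mem_insert_of_mem hb))
    have hc : ∀ z, γ j₁ (m h₁ z) = γ j z := fun z => hW.compat h₁ z
    have hcr : (γ j₁).comp (m h₁) = γ j := RingHom.ext hc
    obtain ⟨j₂, h₂, hj₂⟩ := exists_mem_map hW ((I a).map (m h₁))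
      ((hI a (Finset.mem_insert_self a s)).map _) (m h₁ (y a)) (by
        rw [Ideal.map_map, hcr, hc]
        exact hy a (Finset.mem_insert_self a s))
    have hcomp : ∀ z, m (S.comp h₁ h₂) z = m h₂ (m h₁ z) := fun z => hW.map_comp h₁ h₂ z
    have hcompr : m (S.comp h₁ h₂) = (m h₂).comp (m h₁) := RingHom.ext hcomp
    refine ⟨j₂, S.comp h₁ h₂, fun b hb => ?_⟩
    rw [hcompr, ← Ideal.map_map]
    rcases Finset.mem_insert.mp hb with rfl | hb
    · exact hj₂
    · exact Ideal.mem_map_of_mem _ (hj₁ b hb)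

end RingSys

section Elem

variable {ι : Type u} {S : WSys.{u, u} ι} {X : ι → Type u} [∀ i, Zero (X i)] {Y : Type u} [Zero Y]
  {γ : ∀ i, X i → Y} {m : ∀ {i j}, S.H i j → X i → X j}

/-- finitely many monotone, eventually true predicates on elements hold at a common stage. -/
theorem exists_forall_finset_elem (hW : IsWeakColim S X Y γ m) (Pr : ∀ i, X i → Prop)
    (Lim : Y → Prop) (mono : ∀ {i j} (h : S.H i j) (x : X i), Pr i x → Pr j (m h x))
    (ev : ∀ i (x : X i), Lim (γ i x) → ∃ j, ∃ h : S.H i j, Pr j (m h x))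
    {α : Type*} (s : Finset α) :
    ∀ i (x : α → X i), (∀ a ∈ s, Lim (γ i (x a))) →
      ∃ j, ∃ h : S.H i j, ∀ a ∈ s, Pr j (m h (x a)) := by
  classical
  induction s using Finset.induction_on with
  | empty => intro i x _; exact ⟨i, S.id i, by simp⟩
  | insert a s has ih =>
    intro i x hx
    obtain ⟨j, h, hj⟩ := ih i x (fun b hb => hx b (Finset.mem_insert_of_mem hb))
    obtain ⟨k, h', hk⟩ := ev j (m h (x a)) (by
      rw [hW.compat]
      exact hx a (Finset.mem_insert_self a s))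
    refine ⟨k, S.comp h h', fun b hb => ?_⟩
    rw [hW.map_comp]
    rcases Finset.mem_insert.mp hb with rfl | hb
    · exact hk
    · exact mono h' _ (hj b hb)

end Elem

/-! ### Fibre dimension and base change of presented algebras -/

section FD

theorem bc_phiT_map (R : Type u) [CommRing R] (n m : ℕ) (J : Fin m → MvPolynomial (Fin n) R)
    (κ : Type u) [CommRing κ] [Algebra R κ] (y : MvPolynomial (Fin n) R) :
    SyntBC.phiT R n m J κ (MvPolynomial.map (algebraMap R κ) y) =
      (1 : κ) ⊗ₜ[R] (Ideal.Quotient.mk (Ideal.span (Set.range J)) y) := by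
  unfold SyntBC.phiT
  rw [aeval_map_algebraMap κ]
  have h : (MvPolynomial.aeval (R := R)
      ((Algebra.Presentation.naive (v := J)).baseChange κ).val) =
      (Algebra.TensorProduct.includeRight :
        Synt.RelGCIRing R n m J →ₐ[R] κ ⊗[R] Synt.RelGCIRing R n m J).comp
        (Ideal.Quotient.mkₐ R (Ideal.span (Set.range J))) := by
    apply MvPolynomial.algHom_ext
    intro i
    rw [aeval_X]
    rfl
  rw [h]
  rfl

theorem bcEquiv_mk_map (R : Type u) [CommRing R] (n m : ℕ) (J : Fin m → MvPolynomial (Fin n) R)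
    (κ : Type u) [CommRing κ] [Algebra R κ] (y : MvPolynomial (Fin n) R) :
    SyntBC.bcEquiv R n m J κ (Ideal.Quotient.mk _ (MvPolynomial.map (algebraMap R κ) y)) =
      (1 : κ) ⊗ₜ[R] (Ideal.Quotient.mk (Ideal.span (Set.range J)) y) :=
  bc_phiT_map R n m J κ y

variable {A A₂ : Type u} [CommRing A] [CommRing A₂] (φ : A →+* A₂) (n c : ℕ)
  (F : Fin c → MvPolynomial (Fin n) A)

/-- the map induced by `φ` on presented algebras. -/
noncomputable def quotMap : Synt.RelGCIRing A n c F →+*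
    Synt.RelGCIRing A₂ n c (fun l => MvPolynomial.map φ (F l)) :=
  Ideal.quotientMap _ (MvPolynomial.map φ) (by
    rw [Ideal.span_le]
    rintro _ ⟨l, rfl⟩
    exact Ideal.subset_span ⟨l, rfl⟩)

theorem quotMap_mk (y : MvPolynomial (Fin n) A) :
    quotMap φ n c F (Ideal.Quotient.mk _ y) = Ideal.Quotient.mk _ (MvPolynomial.map φ y) := rfl

theorem topFibreDim_quotMap
    (Q' : PrimeSpectrum (Synt.RelGCIRing A₂ n c (fun l => MvPolynomial.map φ (F l)))) :
    TopFibreDim.topFibreDim (PrimeSpectrum.comap (algebraMap A₂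
      (Synt.RelGCIRing A₂ n c (fun l => MvPolynomial.map φ (F l))))) Q' =
    TopFibreDim.topFibreDim (PrimeSpectrum.comap (algebraMap A (Synt.RelGCIRing A n c F)))
      (PrimeSpectrum.comap (quotMap φ n c F) Q') := by
  letI : Algebra A A₂ := φ.toAlgebra
  obtain ⟨e, he⟩ : ∃ e : (A₂ ⊗[A] Synt.RelGCIRing A n c F) ≃ₐ[A₂]
      Synt.RelGCIRing A₂ n c (fun l => MvPolynomial.map φ (F l)),
      ∀ y, e ((1 : A₂) ⊗ₜ[A] Ideal.Quotient.mk (Ideal.span (Set.range F)) y) =
        Ideal.Quotient.mk _ (MvPolynomial.map φ y) := by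
    refine ⟨(SyntBC.bcEquiv A n c F A₂).symm, fun y => ?_⟩
    rw [AlgEquiv.symm_apply_eq]
    exact (bcEquiv_mk_map A n c F A₂ y).symm
  rw [SyntBC.topFibreDim_algEquiv (A := A₂ ⊗[A] Synt.RelGCIRing A n c F)
    (B := Synt.RelGCIRing A₂ n c (fun l => MvPolynomial.map φ (F l))) e Q',
    SyntBC.topFibreDim_baseChange]
  congr 1
  refine PrimeSpectrum.ext (Ideal.ext fun x => ?_)
  obtain ⟨y, rfl⟩ := Ideal.Quotient.mk_surjective x
  show e ((1 : A₂) ⊗ₜ[A] Ideal.Quotient.mk _ y) ∈ Q'.asIdeal ↔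
    quotMap φ n c F (Ideal.Quotient.mk _ y) ∈ Q'.asIdeal
  rw [he, quotMap_mk]

end FD

/-- on `D(G)` all fibre dimensions of `A[x]/(F)` are at most `n - c`. -/
def DimOK (A : Type u) [CommRing A] (n c : ℕ) (F : Fin c → MvPolynomial (Fin n) A)
    (G : MvPolynomial (Fin n) A) : Prop :=
  ∀ Q : PrimeSpectrum (Synt.RelGCIRing A n c F),
    Ideal.Quotient.mk (Ideal.span (Set.range F)) G ∉ Q.asIdeal →
      TopFibreDim.topFibreDim (PrimeSpectrum.comap (algebraMap A (Synt.RelGCIRing A n c F))) Q ≤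
        ((n - c : ℕ) : WithBot ℕ∞)

theorem DimOK.map {A A₂ : Type u} [CommRing A] [CommRing A₂] (φ : A →+* A₂) {n c : ℕ}
    {F : Fin c → MvPolynomial (Fin n) A} {G : MvPolynomial (Fin n) A} (h : DimOK A n c F G) :
    DimOK A₂ n c (fun l => MvPolynomial.map φ (F l)) (MvPolynomial.map φ G) := by
  intro Q' hQ'
  rw [topFibreDim_quotMap φ n c F Q']
  apply h
  intro hmem
  apply hQ'
  have h1 : quotMap φ n c F (Ideal.Quotient.mk _ G) ∈ Q'.asIdeal := hmem
  rwa [quotMap_mk] at h1


section DimDescend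

variable {ι : Type u} {S : WSys.{u, u} ι} {A : ι → Type u} [∀ i, CommRing (A i)]
  {A' : Type u} [CommRing A'] {β : ∀ i, A i →+* A'} {μ : ∀ {i j}, S.H i j → (A i →+* A j)}

/-- the fibre dimension bound on `D(G)` descends to a stage. -/
theorem DimOK.descend (hW : IsWeakColim S A A' (fun i => β i) (fun h => μ h)) (n c : ℕ) {j : ι}
    (F : Fin c → MvPolynomial (Fin n) (A j)) (G : MvPolynomial (Fin n) (A j))
    (h : DimOK A' n c (fun l => MvPolynomial.map (β j) (F l)) (MvPolynomial.map (β j) G)) :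
    ∃ j', ∃ h' : S.H j j', DimOK (A j') n c (fun l => MvPolynomial.map (μ h') (F l))
      (MvPolynomial.map (μ h') G) := by
  classical
  have hWP := isWeakColim_mvPolynomial hW (Fin n)
  obtain ⟨W, hWdef⟩ : ∃ W : Set (PrimeSpectrum (Synt.RelGCIRing (A j) n c F)), W =
      {Q | TopFibreDim.topFibreDim (PrimeSpectrum.comap (algebraMap (A j)
        (Synt.RelGCIRing (A j) n c F))) Q ≤ ((n - c : ℕ) : WithBot ℕ∞)} := ⟨_, rfl⟩
  have hWo : IsOpen W := by
    rw [hWdef]
    exact FibreLocDim.isOpen_set (A j) (Synt.RelGCIRing (A j) n c F) (n - c)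
  obtain ⟨I, hI⟩ : ∃ I : Ideal (Synt.RelGCIRing (A j) n c F),
      ∀ Q : PrimeSpectrum (Synt.RelGCIRing (A j) n c F), Q ∈ W ↔ ¬ (I ≤ Q.asIdeal) := by
    refine ⟨PrimeSpectrum.vanishingIdeal Wᶜ, fun Q => ?_⟩
    have h1 : PrimeSpectrum.zeroLocus (PrimeSpectrum.vanishingIdeal Wᶜ : Set _) = Wᶜ := by
      rw [PrimeSpectrum.zeroLocus_vanishingIdeal_eq_closure, hWo.isClosed_compl.closure_eq]
    have h2 : Q ∈ PrimeSpectrum.zeroLocus (PrimeSpectrum.vanishingIdeal Wᶜ : Set _) ↔
        PrimeSpectrum.vanishingIdeal Wᶜ ≤ Q.asIdeal := by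
      rw [PrimeSpectrum.mem_zeroLocus]
      rfl
    rw [h1] at h2
    rw [← h2, Set.mem_compl_iff, not_not]
  have hrad : Ideal.Quotient.mk (Ideal.span (Set.range fun l => MvPolynomial.map (β j) (F l)))
      (MvPolynomial.map (β j) G) ∈ (I.map (quotMap (β j) n c F)).radical := by
    rw [Ideal.radical_eq_sInf, Ideal.mem_sInf]
    rintro Q ⟨hIQ, hQp⟩
    by_contra hG
    have h3 := h ⟨Q, hQp⟩ hG
    rw [topFibreDim_quotMap (β j) n c F ⟨Q, hQp⟩] at h3
    have h4 : PrimeSpectrum.comap (quotMap (β j) n c F) ⟨Q, hQp⟩ ∈ W := by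
      rw [hWdef]
      exact h3
    rw [hI] at h4
    exact h4 (Ideal.map_le_iff_le_comap.mp hIQ)
  obtain ⟨N, hN⟩ := Ideal.mem_radical_iff.mp hrad
  have hN' : (Ideal.Quotient.mk (Ideal.span (Set.range fun l => MvPolynomial.map (β j) (F l)))
      (MvPolynomial.map (β j) G)) ^ N ∈ Submodule.span _ ((quotMap (β j) n c F) '' (I : Set _)) :=
    hN
  obtain ⟨T, hTsub, hT⟩ := Submodule.mem_span_finite_of_mem_span hN'
  have hch : ∀ z : {z // z ∈ T}, ∃ t : MvPolynomial (Fin n) (A j),
      Ideal.Quotient.mk (Ideal.span (Set.range F)) t ∈ I ∧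
        Ideal.Quotient.mk (Ideal.span (Set.range fun l => MvPolynomial.map (β j) (F l)))
          (MvPolynomial.map (β j) t) = z.1 := by
    rintro ⟨z, hz⟩
    obtain ⟨s, hs, rfl⟩ := hTsub hz
    obtain ⟨t, rfl⟩ := Ideal.Quotient.mk_surjective s
    exact ⟨t, hs, rfl⟩
  choose t ht1 ht2 using hch
  obtain ⟨v, hv⟩ : ∃ v : Fin c ⊕ {z // z ∈ T} → MvPolynomial (Fin n) (A j),
      v = Sum.elim F t := ⟨_, rfl⟩
  have hvl : ∀ l, v (Sum.inl l) = F l := fun l => by rw [hv]; rfl
  have hvr : ∀ z, v (Sum.inr z) = t z := fun z => by rw [hv]; rfl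
  have hmem : MvPolynomial.map (β j) (G ^ N) ∈
      (Ideal.span (Set.range v)).map (MvPolynomial.map (β j)) := by
    have h5 : Ideal.span (T : Set (Synt.RelGCIRing A' n c fun l => MvPolynomial.map (β j) (F l))) ≤
        ((Ideal.span (Set.range v)).map (MvPolynomial.map (β j))).map
          (Ideal.Quotient.mk (Ideal.span (Set.range fun l => MvPolynomial.map (β j) (F l)))) := by
      rw [Ideal.span_le]
      intro z hz
      have hz' : Ideal.Quotient.mk
          (Ideal.span (Set.range fun l => MvPolynomial.map (β j) (F l)))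
          (MvPolynomial.map (β j) (t ⟨z, hz⟩)) = z := ht2 ⟨z, hz⟩
      rw [← hz', ← hvr]
      exact Ideal.mem_map_of_mem _ (Ideal.mem_map_of_mem _ (Ideal.subset_span ⟨_, rfl⟩))
    have h6 := h5 hT
    rw [← map_pow, Ideal.mem_map_iff_of_surjective _ Ideal.Quotient.mk_surjective] at h6
    obtain ⟨x', hx', hxe⟩ := h6
    have h7 : x' - (MvPolynomial.map (β j) G) ^ N ∈
        Ideal.span (Set.range fun l => MvPolynomial.map (β j) (F l)) :=
      Ideal.Quotient.eq.mp hxe
    have h8 : Ideal.span (Set.range fun l => MvPolynomial.map (β j) (F l)) ≤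
        (Ideal.span (Set.range v)).map (MvPolynomial.map (β j)) := by
      rw [Ideal.span_le]
      rintro _ ⟨l, rfl⟩
      show MvPolynomial.map (β j) (F l) ∈ _
      rw [← hvl]
      exact Ideal.mem_map_of_mem _ (Ideal.subset_span ⟨_, rfl⟩)
    have h9 : (MvPolynomial.map (β j) G) ^ N = x' - (x' - (MvPolynomial.map (β j) G) ^ N) := by
      ring
    rw [map_pow, h9]
    exact Ideal.sub_mem _ hx' (h8 h7)
  obtain ⟨j', h', hj'⟩ := exists_mem_map hWP (Ideal.span (Set.range v))
    (Submodule.fg_span (Set.finite_range v)) (G ^ N) hmem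
  refine ⟨j', h', fun Q hQ => ?_⟩
  rw [topFibreDim_quotMap (μ h') n c F Q]
  have hmemW : PrimeSpectrum.comap (quotMap (μ h') n c F) Q ∈ W := by
    rw [hI]
    intro hle
    apply hQ
    have h9 : (Ideal.span (Set.range v)).map (MvPolynomial.map (μ h')) ≤
        Q.asIdeal.comap (Ideal.Quotient.mk
          (Ideal.span (Set.range fun l => MvPolynomial.map (μ h') (F l)))) := by
      rw [Ideal.map_le_iff_le_comap, Ideal.span_le]
      rintro _ ⟨a, rfl⟩
      rcases a with l | z
      · show Ideal.Quotient.mk _ (MvPolynomial.map (μ h') (v (Sum.inl l))) ∈ Q.asIdeal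
        have h0 : Ideal.Quotient.mk
            (Ideal.span (Set.range fun l => MvPolynomial.map (μ h') (F l)))
            (MvPolynomial.map (μ h') (F l)) = 0 :=
          Ideal.Quotient.eq_zero_iff_mem.mpr (Ideal.subset_span ⟨l, rfl⟩)
        rw [hvl, h0]
        exact Ideal.zero_mem _
      · show Ideal.Quotient.mk _ (MvPolynomial.map (μ h') (v (Sum.inr z))) ∈ Q.asIdeal
        rw [hvr, ← quotMap_mk]
        exact hle (ht1 z)
    have h10 : Ideal.Quotient.mk _ (MvPolynomial.map (μ h') (G ^ N)) ∈ Q.asIdeal := h9 hj'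
    rw [map_pow, map_pow] at h10
    exact Q.isPrime.mem_of_pow_mem _ h10
  rw [hWdef] at hmemW
  exact hmemW

end DimDescend

/-! ### Good charts -/

/-- `D(G)` is a good chart of `A[x]/(b)`: on it the relations are generated by `c ≤ n` elements
`F`, and the fibres of `A[x]/(F)` on `D(G)` have dimension at most `n - c`. -/
def GoodChart (A : Type u) [CommRing A] (n m : ℕ) (b : Fin m → MvPolynomial (Fin n) A)
    (G : MvPolynomial (Fin n) A) : Prop :=
  ∃ (c : ℕ) (F : Fin c → MvPolynomial (Fin n) A), c ≤ n ∧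
    (∀ l, F l ∈ Ideal.span (Set.range b)) ∧
    (∀ i, G * b i ∈ Ideal.span (Set.range F)) ∧ DimOK A n c F G

section Chart

variable {A A₂ : Type u} [CommRing A] [CommRing A₂] {n m : ℕ}
  {b : Fin m → MvPolynomial (Fin n) A}

theorem GoodChart.map (φ : A →+* A₂) {b₂ : Fin m → MvPolynomial (Fin n) A₂}
    (hb : ∀ t, MvPolynomial.map φ (b t) = b₂ t) {G : MvPolynomial (Fin n) A}
    (h : GoodChart A n m b G) : GoodChart A₂ n m b₂ (MvPolynomial.map φ G) := by
  obtain ⟨c, F, hc, hF, hG, hd⟩ := h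
  refine ⟨c, fun l => MvPolynomial.map φ (F l), hc, fun l => ?_, fun i => ?_, hd.map φ⟩
  · have h1 := Ideal.mem_map_of_mem (MvPolynomial.map φ) (hF l)
    rw [Ideal.map_span, ← Set.range_comp] at h1
    have e : (MvPolynomial.map φ) ∘ b = b₂ := funext hb
    rw [e] at h1
    exact h1
  · have h1 := Ideal.mem_map_of_mem (MvPolynomial.map φ) (hG i)
    rw [Ideal.map_span, ← Set.range_comp, map_mul, hb] at h1
    exact h1

theorem GoodChart.isSyntomic_away {G : MvPolynomial (Fin n) A} (h : GoodChart A n m b G) :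
    Synt.IsSyntomic A (Localization.Away (Ideal.Quotient.mk (Ideal.span (Set.range b)) G)) := by
  obtain ⟨c, F, hc, hF, hG, hd⟩ := h
  have hle : Ideal.span (Set.range F) ≤ Ideal.span (Set.range b) := by
    rw [Ideal.span_le]
    rintro _ ⟨l, rfl⟩
    exact hF l
  obtain ⟨φ₉, hφ₉⟩ : ∃ φ₉ : Synt.RelGCIRing A n c F →ₐ[A] Synt.RelGCIRing A n m b,
      ∀ y, φ₉ (Ideal.Quotient.mk _ y) = Ideal.Quotient.mk _ y :=
    ⟨Ideal.Quotient.factorₐ A hle, fun y => rfl⟩
  have hmul : ∀ y ∈ Ideal.span (Set.range b), G * y ∈ Ideal.span (Set.range F) := by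
    intro y hy
    induction hy using Submodule.span_induction with
    | mem x hx =>
      obtain ⟨i, rfl⟩ := hx
      exact hG i
    | zero =>
      rw [mul_zero]
      exact Ideal.zero_mem _
    | add x y _ _ hx hy =>
      rw [mul_add]
      exact Ideal.add_mem _ hx hy
    | smul a x _ hx =>
      rw [smul_eq_mul, mul_left_comm]
      exact Ideal.mul_mem_left _ _ hx
  have hbij : Function.Bijective
      (Localization.awayMap φ₉.toRingHom (Ideal.Quotient.mk (Ideal.span (Set.range F)) G)) := by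
    refine ⟨Localization.awayMap_injective_iff.mpr fun a ha => ?_,
      Localization.awayMap_surjective_iff.mpr fun a => ?_⟩
    · obtain ⟨y, rfl⟩ := Ideal.Quotient.mk_surjective a
      have hy : y ∈ Ideal.span (Set.range b) := by
        have h1 : φ₉ (Ideal.Quotient.mk _ y) = 0 := ha
        rw [hφ₉] at h1
        exact Ideal.Quotient.eq_zero_iff_mem.mp h1
      refine ⟨1, ?_⟩
      rw [pow_one, ← map_mul]
      exact Ideal.Quotient.eq_zero_iff_mem.mpr (hmul y hy)
    · obtain ⟨y, rfl⟩ := Ideal.Quotient.mk_surjective a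
      refine ⟨Ideal.Quotient.mk _ y, 0, ?_⟩
      rw [pow_zero, one_mul]
      exact hφ₉ y
  obtain ⟨e₂⟩ := RelGCIAway.exists_awayEquiv n c F G
  have hrel := RelGCIAway.isRelGCI_of_algEquiv_away A n c (n + 1) (c + 1) (by omega) (by omega)
    F _ _ e₂ hd
  have hs := RelGCIReg.isSyntomic A (n + 1) (c + 1) _ hrel
  have hs' : Synt.IsSyntomic A
      (Localization.Away (φ₉ (Ideal.Quotient.mk (Ideal.span (Set.range F)) G))) :=
    isSyntomic_of_algEquiv (e₂.symm.trans (AlgEquiv.ofBijective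
      (Localization.awayMapₐ φ₉ (Ideal.Quotient.mk (Ideal.span (Set.range F)) G)) hbij)) hs
  have key : ∀ g' : Synt.RelGCIRing A n m b,
      g' = φ₉ (Ideal.Quotient.mk (Ideal.span (Set.range F)) G) →
        Synt.IsSyntomic A (Localization.Away g') := by
    rintro _ rfl
    exact hs'
  exact key _ (hφ₉ G).symm

theorem isSyntomic_of_charts {α : Type*} (T : Finset α) (G a : α → MvPolynomial (Fin n) A)
    (hpu : 1 - ∑ q ∈ T, a q * G q ∈ Ideal.span (Set.range b))
    (hch : ∀ q ∈ T, GoodChart A n m b (G q)) : Synt.IsSyntomic A (Synt.RelGCIRing A n m b) := by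
  classical
  refine Groth.Agent.Lib.Helper14.isSyntomic_of_localization_span_eq_top A _
    (T.image fun q => Ideal.Quotient.mk (Ideal.span (Set.range b)) (G q)) ?_ ?_
  · rw [Ideal.eq_top_iff_one]
    have h1 : (1 : Synt.RelGCIRing A n m b) =
        ∑ q ∈ T, Ideal.Quotient.mk _ (a q) * Ideal.Quotient.mk _ (G q) := by
      have h0 := Ideal.Quotient.eq_zero_iff_mem.mpr hpu
      rw [map_sub, map_one, map_sum, sub_eq_zero] at h0
      rw [h0]
      exact Finset.sum_congr rfl fun q _ => map_mul _ _ _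
    rw [h1]
    refine Ideal.sum_mem _ fun q hq => Ideal.mul_mem_left _ _ (Ideal.subset_span ?_)
    exact Finset.mem_coe.mpr (Finset.mem_image_of_mem _ hq)
  · intro g hg
    obtain ⟨q, hq, rfl⟩ := Finset.mem_image.mp hg
    exact (hch q hq).isSyntomic_away

end Chart


/-! ### Good charts of a syntomic presented algebra -/

section Exists

open Groth.Agent.Lib.Helper24.SyntRelGCI Groth.Agent.Lib.Helper1

variable (R : Type u) [CommRing R] (n m : ℕ) (b : Fin m → MvPolynomial (Fin n) R)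

theorem exists_goodChart (hsynt : Synt.IsSyntomic R (Synt.RelGCIRing R n m b))
    (q : Ideal (Synt.RelGCIRing R n m b)) [q.IsPrime] :
    ∃ G : MvPolynomial (Fin n) R,
      G ∉ q.comap (Ideal.Quotient.mk (Ideal.span (Set.range b))) ∧ GoodChart R n m b G := by
  classical
  obtain ⟨p, hp⟩ : ∃ p, q.comap (algebraMap R (Synt.RelGCIRing R n m b)) = p := ⟨_, rfl⟩
  haveI : p.IsPrime := by rw [← hp]; infer_instance
  obtain ⟨𝔔, h𝔔p, f, h𝔔, hfI, hLL, hFI⟩ := exists_gens_fibre R n m b p hsynt q hp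
  haveI := h𝔔p
  have hle : Ideal.span (Set.range f.get) ≤ Ideal.span (Set.range b) := by
    rw [Ideal.span_le]
    rintro _ ⟨i, rfl⟩
    exact hfI _ (List.get_mem f i)
  haveI := hsynt.1
  haveI := hsynt.2.1
  have hkey : ∀ y ∈ Ideal.span (Set.range b), ∃ G' : MvPolynomial (Fin n) R,
      G' ∉ q.comap (Ideal.Quotient.mk (Ideal.span (Set.range b))) ∧
        G' * y ∈ Ideal.span (Set.range f.get) ⊔ p.map C := by
    intro y hy
    refine key_mem p n _ 𝔔 h𝔔 (Ideal.span (Set.range b)) (Ideal.span (Set.range f.get)) ?_ y hy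
    have e1 : ∀ {k : ℕ} (v : Fin k → MvPolynomial (Fin n) R),
        (Ideal.span (Set.range v)).map (MvPolynomial.map (algebraMap R p.ResidueField)) =
          Ideal.span (Set.range fun i => MvPolynomial.map (algebraMap R p.ResidueField) (v i)) := by
      intro k v
      rw [Ideal.map_span, ← Set.range_comp]
      rfl
    rw [e1, e1]
    exact hFI
  obtain ⟨φ₉, hφ₉⟩ : ∃ φ₉ : Synt.RelGCIRing R n f.length f.get →ₐ[R] Synt.RelGCIRing R n m b,
      ∀ y, φ₉ (Ideal.Quotient.mk _ y) = Ideal.Quotient.mk _ y :=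
    ⟨Ideal.Quotient.factorₐ R hle, fun y => rfl⟩
  obtain ⟨g₉, hg₉, hbij⟩ := local_iso R n m b f.length f.get φ₉ hφ₉ q p hp hkey
  have hp₉ : (PrimeSpectrum.comap (algebraMap R (Synt.RelGCIRing R n f.length f.get))
      (⟨q.comap φ₉, inferInstance⟩ : PrimeSpectrum (Synt.RelGCIRing R n f.length f.get))).asIdeal =
      p := by
    rw [← hp]
    ext r
    show φ₉ (algebraMap R _ r) ∈ q ↔ algebraMap R _ r ∈ q
    rw [AlgHom.commutes]
  have h𝔔₉ : 𝔔.comap (MvPolynomial.map (algebraMap R p.ResidueField)) =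
      (⟨q.comap φ₉, inferInstance⟩ :
        PrimeSpectrum (Synt.RelGCIRing R n f.length f.get)).asIdeal.comap
        (Ideal.Quotient.mk (Ideal.span (Set.range f.get))) := by
    rw [h𝔔]
    ext y
    show Ideal.Quotient.mk _ y ∈ q ↔ φ₉ (Ideal.Quotient.mk _ y) ∈ q
    rw [hφ₉]
  obtain ⟨hcn, hdim⟩ := topFibreDim_eq_of_locLen R n p f.length f.get _ hp₉ 𝔔 h𝔔₉ hLL
  have hopen := FibreLocDim.isOpen_set R (Synt.RelGCIRing R n f.length f.get) (n - f.length)
  obtain ⟨_, ⟨g₂, rfl⟩, hq₉g₂, hsub⟩ :=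
    PrimeSpectrum.isTopologicalBasis_basic_opens.exists_subset_of_mem_open
      (show (⟨q.comap φ₉, inferInstance⟩ : PrimeSpectrum (Synt.RelGCIRing R n f.length f.get)) ∈
        {q' : PrimeSpectrum (Synt.RelGCIRing R n f.length f.get) |
          TopFibreDim.topFibreDim (PrimeSpectrum.comap (algebraMap R _)) q' ≤
            ((n - f.length : ℕ) : WithBot ℕ∞)} from hdim.le) hopen
  have hg₂ : g₂ ∉ q.comap φ₉ := hq₉g₂
  obtain ⟨g, hg_def⟩ : ∃ g, g = g₉ * g₂ := ⟨_, rfl⟩
  have hgq : g ∉ q.comap φ₉ := by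
    rw [hg_def]
    exact fun h => (Ideal.IsPrime.mem_or_mem inferInstance h).elim hg₉ hg₂
  have hbij' : Function.Bijective (Localization.awayMap φ₉.toRingHom g) := by
    rw [hg_def]
    exact Localization.awayMap_bijective_of_dvd _ (Dvd.intro _ rfl) hbij
  have hU : ∀ q' : PrimeSpectrum (Synt.RelGCIRing R n f.length f.get), g ∉ q'.asIdeal →
      TopFibreDim.topFibreDim (PrimeSpectrum.comap (algebraMap R _)) q' ≤
        ((n - f.length : ℕ) : WithBot ℕ∞) := by
    intro q' hq'
    apply hsub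
    show g₂ ∉ q'.asIdeal
    intro h2
    exact hq' (by rw [hg_def]; exact Ideal.mul_mem_left _ _ h2)
  obtain ⟨G₉, hG₉⟩ := Ideal.Quotient.mk_surjective g
  have hgen : ∀ i : Fin m, ∃ k : ℕ, G₉ ^ k * b i ∈ Ideal.span (Set.range f.get) := by
    intro i
    have h0 : φ₉.toRingHom (Ideal.Quotient.mk _ (b i)) = 0 := by
      show φ₉ (Ideal.Quotient.mk _ (b i)) = 0
      rw [hφ₉]
      exact Ideal.Quotient.eq_zero_iff_mem.mpr (Ideal.subset_span (Set.mem_range_self i))
    obtain ⟨k, hk⟩ := Localization.awayMap_injective_iff.mp hbij'.1 _ h0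
    refine ⟨k, ?_⟩
    rw [← hG₉, ← map_pow, ← map_mul] at hk
    exact Ideal.Quotient.eq_zero_iff_mem.mp hk
  choose k hk using hgen
  refine ⟨G₉ ^ ((∑ i, k i) + 1), ?_, f.length, f.get, hcn, ?_, ?_, ?_⟩
  · intro hmem
    have h1 : G₉ ∈ q.comap (Ideal.Quotient.mk (Ideal.span (Set.range b))) :=
      Ideal.IsPrime.mem_of_pow_mem inferInstance _ hmem
    apply hgq
    rw [← hG₉]
    show φ₉ (Ideal.Quotient.mk _ G₉) ∈ q
    rw [hφ₉]
    exact h1
  · intro l
    exact hfI _ (List.get_mem f l)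
  · intro i
    have hle' : k i ≤ (∑ i, k i) + 1 :=
      (Finset.single_le_sum (fun i _ => Nat.zero_le (k i)) (Finset.mem_univ i)).trans
        (Nat.le_succ _)
    rw [← pow_sub_mul_pow G₉ hle', mul_assoc]
    exact Ideal.mul_mem_left _ _ (hk i)
  · intro Q' hQ'
    apply hU
    intro h2
    apply hQ'
    rw [map_pow]
    rw [← hG₉] at h2
    exact Ideal.pow_mem_of_mem _ h2 _ (Nat.succ_pos _)

theorem exists_charts (hsynt : Synt.IsSyntomic R (Synt.RelGCIRing R n m b)) :
    ∃ (T : Finset (PrimeSpectrum (Synt.RelGCIRing R n m b)))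
      (G a : PrimeSpectrum (Synt.RelGCIRing R n m b) → MvPolynomial (Fin n) R),
      (1 - ∑ q ∈ T, a q * G q ∈ Ideal.span (Set.range b)) ∧
        ∀ q ∈ T, GoodChart R n m b (G q) := by
  classical
  have hex : ∀ q : PrimeSpectrum (Synt.RelGCIRing R n m b), ∃ G : MvPolynomial (Fin n) R,
      G ∉ q.asIdeal.comap (Ideal.Quotient.mk (Ideal.span (Set.range b))) ∧
        GoodChart R n m b G := fun q => by
    haveI := q.isPrime
    exact exists_goodChart R n m b hsynt q.asIdeal
  choose G hGq hGc using hex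
  have htop : Ideal.span (Set.range fun q =>
      Ideal.Quotient.mk (Ideal.span (Set.range b)) (G q)) = ⊤ := by
    by_contra hne
    obtain ⟨M, hM, hle⟩ := Ideal.exists_le_maximal _ hne
    exact hGq ⟨M, hM.isPrime⟩ (hle (Ideal.subset_span ⟨⟨M, hM.isPrime⟩, rfl⟩))
  have h1 : (1 : Synt.RelGCIRing R n m b) ∈ Submodule.span (Synt.RelGCIRing R n m b)
      (Set.range fun q => Ideal.Quotient.mk (Ideal.span (Set.range b)) (G q)) := by
    have h0 : (1 : Synt.RelGCIRing R n m b) ∈ Ideal.span (Set.range fun q =>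
        Ideal.Quotient.mk (Ideal.span (Set.range b)) (G q)) := by
      rw [htop]
      exact Submodule.mem_top
    exact h0
  obtain ⟨cf, hcf⟩ := Finsupp.mem_span_range_iff_exists_finsupp.mp h1
  have hsur : ∀ q, ∃ a : MvPolynomial (Fin n) R,
      Ideal.Quotient.mk (Ideal.span (Set.range b)) a = cf q :=
    fun q => Ideal.Quotient.mk_surjective (cf q)
  choose a ha using hsur
  refine ⟨cf.support, G, a, ?_, fun q _ => hGc q⟩
  rw [← Ideal.Quotient.eq_zero_iff_mem, map_sub, map_one, map_sum, sub_eq_zero, ← hcf,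
    Finsupp.sum]
  refine Finset.sum_congr rfl fun q _ => ?_
  rw [map_mul, ha, smul_eq_mul]

end Exists

/-! ### Descent -/

section Core

variable {ι : Type u} {S : WSys.{u, u} ι} {A : ι → Type u} [∀ i, CommRing (A i)]
  {A' : Type u} [CommRing A'] {β : ∀ i, A i →+* A'} {μ : ∀ {i j}, S.H i j → (A i →+* A j)}

theorem goodChart_descend (hW : IsWeakColim S A A' (fun i => β i) (fun h => μ h)) (n m : ℕ)
    (bb : ∀ i, Fin m → MvPolynomial (Fin n) (A i)) (bb' : Fin m → MvPolynomial (Fin n) A')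
    (hbβ : ∀ i t, MvPolynomial.map (β i) (bb i t) = bb' t)
    (hbμ : ∀ {i j} (h : S.H i j) t, MvPolynomial.map (μ h) (bb i t) = bb j t)
    {i : ι} (x : MvPolynomial (Fin n) (A i))
    (hx : GoodChart A' n m bb' (MvPolynomial.map (β i) x)) :
    ∃ j, ∃ h : S.H i j, GoodChart (A j) n m (bb j) (MvPolynomial.map (μ h) x) := by
  classical
  have hWP := isWeakColim_mvPolynomial hW (Fin n)
  obtain ⟨c, F', hc, hF, hG, hd⟩ := hx
  obtain ⟨j₀, h₀, F₀, hF₀⟩ := hWP.exists_lift_finset_above Finset.univ F' i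
  have hF'eq : F' = fun l => MvPolynomial.map (β j₀) (F₀ l) :=
    funext fun l => (hF₀ l (Finset.mem_univ l)).symm
  subst hF'eq
  obtain ⟨x₀, hx₀⟩ : ∃ x₀, x₀ = MvPolynomial.map (μ h₀) x := ⟨_, rfl⟩
  have hxx : MvPolynomial.map (β i) x = MvPolynomial.map (β j₀) x₀ := by
    rw [hx₀]
    exact (hWP.compat h₀ x).symm
  rw [hxx] at hG hd
  have e1 : ∀ {k : ℕ} (v : Fin k → MvPolynomial (Fin n) (A j₀)),
      (Ideal.span (Set.range v)).map (MvPolynomial.map (β j₀)) =
        Ideal.span (Set.range fun t => MvPolynomial.map (β j₀) (v t)) := by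
    intro k v
    rw [Ideal.map_span, ← Set.range_comp]
    rfl
  obtain ⟨j₁, h₁, hmem⟩ := exists_forall_mem_map hWP (Finset.univ : Finset (Fin c ⊕ Fin m)) j₀
    (Sum.elim (fun _ => Ideal.span (Set.range (bb j₀))) (fun _ => Ideal.span (Set.range F₀)))
    (by
      rintro (l | t) _
      · exact Submodule.fg_span (Set.finite_range _)
      · exact Submodule.fg_span (Set.finite_range _))
    (Sum.elim (fun l => F₀ l) (fun t => x₀ * bb j₀ t))
    (by
      rintro (l | t) _
      · show MvPolynomial.map (β j₀) (F₀ l) ∈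
          (Ideal.span (Set.range (bb j₀))).map (MvPolynomial.map (β j₀))
        rw [e1]
        have e2 : (fun t => MvPolynomial.map (β j₀) (bb j₀ t)) = bb' := funext (hbβ j₀)
        rw [e2]
        exact hF l
      · show MvPolynomial.map (β j₀) (x₀ * bb j₀ t) ∈
          (Ideal.span (Set.range F₀)).map (MvPolynomial.map (β j₀))
        rw [e1, map_mul, hbβ]
        exact hG t)
  obtain ⟨j₂, h₂, hd₂⟩ := DimOK.descend hW n c (fun l => MvPolynomial.map (μ h₁) (F₀ l))
    (MvPolynomial.map (μ h₁) x₀) (by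
      have e2 : (fun l => MvPolynomial.map (β j₁) (MvPolynomial.map (μ h₁) (F₀ l))) =
          fun l => MvPolynomial.map (β j₀) (F₀ l) := funext fun l => hWP.compat h₁ (F₀ l)
      have e3 : MvPolynomial.map (β j₁) (MvPolynomial.map (μ h₁) x₀) =
          MvPolynomial.map (β j₀) x₀ := hWP.compat h₁ x₀
      show DimOK A' n c (fun l => MvPolynomial.map (β j₁) (MvPolynomial.map (μ h₁) (F₀ l)))
        (MvPolynomial.map (β j₁) (MvPolynomial.map (μ h₁) x₀))
      rw [e2, e3]
      exact hd)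
  have hcomp : MvPolynomial.map (μ (S.comp (S.comp h₀ h₁) h₂)) x =
      MvPolynomial.map (μ h₂) (MvPolynomial.map (μ h₁) x₀) := by
    rw [hx₀]
    have a1 := hWP.map_comp (S.comp h₀ h₁) h₂ x
    have a2 := hWP.map_comp h₀ h₁ x
    exact a1.trans (congrArg _ a2)
  have e4 : (⇑((MvPolynomial.map (μ h₂)).comp (MvPolynomial.map (μ h₁))) ∘ bb j₀) = bb j₂ :=
    funext fun t => by
      show MvPolynomial.map (μ h₂) (MvPolynomial.map (μ h₁) (bb j₀ t)) = bb j₂ t
      rw [hbμ h₁, hbμ h₂]
  refine ⟨j₂, S.comp (S.comp h₀ h₁) h₂, c,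
    fun l => MvPolynomial.map (μ h₂) (MvPolynomial.map (μ h₁) (F₀ l)), hc, fun l => ?_,
    fun t => ?_, ?_⟩
  · have h5' : MvPolynomial.map (μ h₁) (F₀ l) ∈
        (Ideal.span (Set.range (bb j₀))).map (MvPolynomial.map (μ h₁)) :=
      hmem (Sum.inl l) (Finset.mem_univ _)
    have h5 := Ideal.mem_map_of_mem (MvPolynomial.map (μ h₂)) h5'
    rw [Ideal.map_map, Ideal.map_span, ← Set.range_comp, e4] at h5
    exact h5
  · have h5' : MvPolynomial.map (μ h₁) (x₀ * bb j₀ t) ∈
        (Ideal.span (Set.range F₀)).map (MvPolynomial.map (μ h₁)) :=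
      hmem (Sum.inr t) (Finset.mem_univ _)
    have h5 := Ideal.mem_map_of_mem (MvPolynomial.map (μ h₂)) h5'
    rw [Ideal.map_map, Ideal.map_span, ← Set.range_comp] at h5
    rw [hcomp]
    have e5 : MvPolynomial.map (μ h₂) (MvPolynomial.map (μ h₁) x₀) * bb j₂ t =
        MvPolynomial.map (μ h₂) (MvPolynomial.map (μ h₁) (x₀ * bb j₀ t)) := by
      rw [map_mul, map_mul, hbμ h₁, hbμ h₂]
    rw [e5]
    exact h5
  · rw [hcomp]
    exact hd₂

/-- **Core descent**: syntomicity of a presented algebra descends along a weak colimit of the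
base rings. -/
theorem core (hW : IsWeakColim S A A' (fun i => β i) (fun h => μ h))
    (n m : ℕ) (bb : ∀ i, Fin m → MvPolynomial (Fin n) (A i))
    (bb' : Fin m → MvPolynomial (Fin n) A')
    (hbβ : ∀ i t, MvPolynomial.map (β i) (bb i t) = bb' t)
    (hbμ : ∀ {i j} (h : S.H i j) t, MvPolynomial.map (μ h) (bb i t) = bb j t)
    (hsynt : Synt.IsSyntomic A' (Synt.RelGCIRing A' n m bb')) (i₀ : ι) :
    ∃ j, ∃ _ : S.H i₀ j, Synt.IsSyntomic (A j) (Synt.RelGCIRing (A j) n m (bb j)) := by
  classical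
  have hWP := isWeakColim_mvPolynomial hW (Fin n)
  obtain ⟨T, G, a, hpu, hch⟩ := exists_charts A' n m bb' hsynt
  obtain ⟨j₀, h₀, G₀, hG₀⟩ := hWP.exists_lift_finset_above T G i₀
  obtain ⟨j₁, h₁, a₁, ha₁⟩ := hWP.exists_lift_finset_above T a j₀
  have hG₁ : ∀ q ∈ T, MvPolynomial.map (β j₁) (MvPolynomial.map (μ h₁) (G₀ q)) = G q :=
    fun q hq => (hWP.compat h₁ (G₀ q)).trans (hG₀ q hq)
  obtain ⟨j₂, h₂, hpu₂⟩ := exists_mem_map hWP (Ideal.span (Set.range (bb j₁)))
    (Submodule.fg_span (Set.finite_range _))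
    (1 - ∑ q ∈ T, a₁ q * MvPolynomial.map (μ h₁) (G₀ q)) (by
      have e1 : (Ideal.span (Set.range (bb j₁))).map (MvPolynomial.map (β j₁)) =
          Ideal.span (Set.range bb') := by
        rw [Ideal.map_span, ← Set.range_comp]
        have e0 : (MvPolynomial.map (β j₁)) ∘ bb j₁ = bb' := funext (hbβ j₁)
        rw [e0]
      rw [e1, map_sub, map_one, map_sum]
      have e2 : ∑ q ∈ T, MvPolynomial.map (β j₁) (a₁ q * MvPolynomial.map (μ h₁) (G₀ q)) =
          ∑ q ∈ T, a q * G q :=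
        Finset.sum_congr rfl fun q hq => by
          rw [map_mul, hG₁ q hq]
          exact congrArg (· * G q) (ha₁ q hq)
      rw [e2]
      exact hpu)
  obtain ⟨j₃, h₃, hch₃⟩ := exists_forall_finset_elem hWP
    (fun i x => GoodChart (A i) n m (bb i) x) (fun y => GoodChart A' n m bb' y)
    (fun {i j} h x hx => hx.map (μ h) (hbμ h))
    (fun i x hx => goodChart_descend hW n m bb bb' hbβ hbμ x hx)
    T j₂ (fun q => MvPolynomial.map (μ h₂) (MvPolynomial.map (μ h₁) (G₀ q)))
    (fun q hq => by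
      have e : MvPolynomial.map (β j₂) (MvPolynomial.map (μ h₂)
          (MvPolynomial.map (μ h₁) (G₀ q))) = G q :=
        (hWP.compat h₂ (MvPolynomial.map (μ h₁) (G₀ q))).trans (hG₁ q hq)
      show GoodChart A' n m bb' (MvPolynomial.map (β j₂) _)
      rw [e]
      exact hch q hq)
  refine ⟨j₃, S.comp (S.comp (S.comp h₀ h₁) h₂) h₃, ?_⟩
  refine isSyntomic_of_charts T
    (fun q => MvPolynomial.map (μ h₃) (MvPolynomial.map (μ h₂) (MvPolynomial.map (μ h₁) (G₀ q))))
    (fun q => MvPolynomial.map (μ h₃) (MvPolynomial.map (μ h₂) (a₁ q))) ?_ hch₃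
  have h4 := Ideal.mem_map_of_mem (MvPolynomial.map (μ h₃)) hpu₂
  have e3 : (⇑((MvPolynomial.map (μ h₃)).comp (MvPolynomial.map (μ h₂))) ∘ bb j₁) = bb j₃ :=
    funext fun t => by
      show MvPolynomial.map (μ h₃) (MvPolynomial.map (μ h₂) (bb j₁ t)) = bb j₃ t
      rw [hbμ h₂, hbμ h₃]
  rw [Ideal.map_map, Ideal.map_span, ← Set.range_comp, e3] at h4
  have e4 : MvPolynomial.map (μ h₃) (MvPolynomial.map (μ h₂)
      (1 - ∑ q ∈ T, a₁ q * MvPolynomial.map (μ h₁) (G₀ q))) =
      1 - ∑ q ∈ T, MvPolynomial.map (μ h₃) (MvPolynomial.map (μ h₂) (a₁ q)) *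
        MvPolynomial.map (μ h₃) (MvPolynomial.map (μ h₂) (MvPolynomial.map (μ h₁) (G₀ q))) := by
    simp only [map_sub, map_one, map_sum, map_mul]
  rw [← e4]
  exact h4

end Core

/-- **Syntomic ring maps descend along weak colimits.** -/
theorem descendsWeakColim_syntomic : DescendsWeakColim.{u} @SyntLocal.Q := by
  intro ι S R _ B _ _ B' _ _ β μ hW C _ _ hfp h i₀
  classical
  obtain ⟨n, φ, hφ, hfg⟩ := hfp.out
  obtain ⟨m, b, hb⟩ := Submodule.fg_iff_exists_fin_generating_family.mp hfg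
  have hker : Ideal.span (Set.range b) = RingHom.ker φ := hb
  obtain ⟨e⟩ : Nonempty (Synt.RelGCIRing R n m b ≃ₐ[R] C) :=
    ⟨(Ideal.quotientEquivAlgOfEq R hker).trans (Ideal.quotientKerAlgEquivOfSurjective hφ)⟩
  have key : ∀ (T : Type u) [CommRing T] [Algebra R T],
      Synt.IsSyntomic T (T ⊗[R] C) ↔ Synt.IsSyntomic T
        (Synt.RelGCIRing T n m (fun t => MvPolynomial.map (algebraMap R T) (b t))) := by
    intro T _ _
    obtain ⟨e'⟩ : Nonempty (Synt.RelGCIRing T n m
        (fun t => MvPolynomial.map (algebraMap R T) (b t)) ≃ₐ[T] T ⊗[R] C) :=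
      ⟨(SyntBC.bcEquiv R n m b T).trans
        (Algebra.TensorProduct.congr (AlgEquiv.refl : T ≃ₐ[T] T) e)⟩
    exact ⟨isSyntomic_of_algEquiv e'.symm, isSyntomic_of_algEquiv e'⟩
  have h' : Synt.IsSyntomic B' (B' ⊗[R] C) :=
    SyntLocal.isSyntomic_congr_algebra (algebraMap B' (B' ⊗[R] C)).toAlgebra inferInstance
      (fun r => rfl) h
  obtain ⟨j, hj, hs⟩ := core (S := S) (β := fun i => (β i : B i →+* B'))
    (μ := fun {i j} h => (μ h : B i →+* B j)) hW n m
    (fun i t => MvPolynomial.map (algebraMap R (B i)) (b t))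
    (fun t => MvPolynomial.map (algebraMap R B') (b t))
    (fun i t => by
      show MvPolynomial.map (β i : B i →+* B') (MvPolynomial.map (algebraMap R (B i)) (b t)) =
        MvPolynomial.map (algebraMap R B') (b t)
      rw [MvPolynomial.map_map, AlgHom.comp_algebraMap])
    (fun {i j} h t => by
      show MvPolynomial.map (μ h : B i →+* B j) (MvPolynomial.map (algebraMap R (B i)) (b t)) =
        MvPolynomial.map (algebraMap R (B j)) (b t)
      rw [MvPolynomial.map_map, AlgHom.comp_algebraMap])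
    ((key B').mp h') i₀
  refine ⟨j, hj, ?_⟩
  exact SyntLocal.isSyntomic_congr_algebra (R := B j) (S := B j ⊗[R] C)
    Algebra.TensorProduct.leftAlgebra
    (RingHom.toAlgebra (@algebraMap (B j) (B j ⊗[R] C) _ _ Algebra.TensorProduct.leftAlgebra))
    (fun r => rfl) ((key (B j)).mpr hs)

end Groth.Agent.Lib.Helper24.SyntDescend
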