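import Mathlib
import Groth.Prelude.Def_RegImm
import Groth.Agent.Lib.Helper24.IdemSym
import Groth.Agent.Lib.Helper24.NakPres
import Groth.Agent.Lib.Helper24.FlatLCISynt
import Groth.Agent.Lib.Helper19.KRegCot
import Groth.Agent.Lib.Helper1.KRegIdeal9

/-!
# Syntomic ⇒ smooth retract which is a relative global complete intersection, part A

The conormal module of a syntomic presentation is finite projective; the idempotent data; the
presentation of `Sym col` over `R`.
-/

set_option autoImplicit false
set_option maxHeartbeats 400000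
set_option linter.style.haveILetI false
set_option linter.unusedSectionVars false
set_option linter.unusedVariables false

universe u

open MvPolynomial

namespace Groth.Agent.Lib.Helper24.SyntRetractA

open Groth.Agent.Lib.Helper1 Groth.Agent.Lib.Helper19 Groth.Agent.Lib.Helper24
open Groth.Agent.Lib.Helper24.IdemSym

variable (R : Type u) [CommRing R] (n : ℕ)

/-- the conormal module of a syntomic presentation is finite projective -/
theorem cotangent_fin_proj (I : Ideal (MvPolynomial (Fin n) R))
    (hsynt : Synt.IsSyntomic R (MvPolynomial (Fin n) R ⧸ I)) :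
    Module.Finite (MvPolynomial (Fin n) R ⧸ I) I.Cotangent ∧
      Module.Projective (MvPolynomial (Fin n) R ⧸ I) I.Cotangent := by
  have hlci : LCI.IsLCI R (MvPolynomial (Fin n) R ⧸ I) :=
    FlatLCISynt.isLCI_of_isSyntomic R _ hsynt
  have hkerI : RingHom.ker (Ideal.Quotient.mkₐ R I).toRingHom = I := by
    ext x
    rw [RingHom.mem_ker]
    exact Ideal.Quotient.eq_zero_iff_mem
  haveI : IsLocalization.Away ((Ideal.Quotient.mkₐ R I) (1 : MvPolynomial (Fin n) R))
      (MvPolynomial (Fin n) R ⧸ I) := by
    rw [map_one]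
    exact IsLocalization.away_of_isUnit_of_bijective _ isUnit_one Function.bijective_id
  have hK : LCI.IsKoszulRegularIdeal I := by
    rw [KRegIdeal.isKoszulRegularIdeal_iff]
    intro q' hq'
    haveI := q'.isPrime
    obtain ⟨G, hG, N, hN⟩ := KRegIdeal.exists_isKRegNear_of_isLCI_away R
      (MvPolynomial (Fin n) R ⧸ I) n (Ideal.Quotient.mkₐ R I) (Ideal.Quotient.mkₐ_surjective R I)
      1 (MvPolynomial (Fin n) R ⧸ I) hlci q'.asIdeal (by rw [hkerI]; exact hq')
      (fun h => q'.isPrime.ne_top ((Ideal.eq_top_iff_one _).mpr h))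
    rw [hkerI] at hN
    exact ⟨G, hG, N, hN⟩
  exact KRegCot.finite_projective_of_koszulRegular (R := MvPolynomial (Fin n) R)
    (S := MvPolynomial (Fin n) R ⧸ I) (M := I.Cotangent) Ideal.Quotient.mk_surjective I
    Ideal.mk_ker I.toCotangent I.toCotangent_surjective (fun x => I.toCotangent_eq_zero x) hK

variable {R n} {m : ℕ} (b : Fin m → MvPolynomial (Fin n) R)

/-- the generators as elements of the ideal -/
def bI (j : Fin m) : ↥(Ideal.span (Set.range b)) :=
  ⟨b j, Ideal.subset_span (Set.mem_range_self j)⟩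

theorem T_smul_apply
    (T : ↥(Ideal.span (Set.range b)) →ₗ[MvPolynomial (Fin n) R]
      (Fin m → MvPolynomial (Fin n) R ⧸ Ideal.span (Set.range b)))
    (a : MvPolynomial (Fin n) R) (x : ↥(Ideal.span (Set.range b))) (j : Fin m) :
    T (a • x) j = Ideal.Quotient.mk (Ideal.span (Set.range b)) a * T x j := by
  rw [map_smul, Pi.smul_apply]
  exact Algebra.smul_def a (T x j)

/-- the idempotent data attached to a syntomic presentation -/
theorem exists_data (hsynt : Synt.IsSyntomic R (Synt.RelGCIRing R n m b)) :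
    ∃ T : ↥(Ideal.span (Set.range b)) →ₗ[MvPolynomial (Fin n) R]
        (Fin m → MvPolynomial (Fin n) R ⧸ Ideal.span (Set.range b)),
      (∀ i k, ∑ j, T (bI b i) j * T (bI b j) k = T (bI b i) k) ∧
      (∀ Et : Fin m → Fin m → MvPolynomial (Fin n) R,
        (∀ i j, Ideal.Quotient.mk (Ideal.span (Set.range b)) (Et i j) = T (bI b i) j) →
        ∀ i, b i - ∑ j, Et i j * b j ∈ Ideal.span (Set.range b) ^ 2) := by
  obtain ⟨hfin, hproj⟩ := cotangent_fin_proj R n (Ideal.span (Set.range b)) hsynt
  haveI := hproj
  set I : Ideal (MvPolynomial (Fin n) R) := Ideal.span (Set.range b) with hI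
  let v : Fin m → I.Cotangent := fun j => I.toCotangent (bI b j)
  have hv : Submodule.span (MvPolynomial (Fin n) R ⧸ I) (Set.range v) = ⊤ := by
    rw [eq_top_iff]
    rintro x -
    obtain ⟨⟨a, ha⟩, rfl⟩ := I.toCotangent_surjective x
    refine Submodule.span_induction
      (p := fun a ha => I.toCotangent ⟨a, ha⟩ ∈
        Submodule.span (MvPolynomial (Fin n) R ⧸ I) (Set.range v)) ?_ ?_ ?_ ?_ ha
    · rintro _ ⟨j, rfl⟩
      exact Submodule.subset_span ⟨j, rfl⟩
    · have h0 : (⟨0, I.zero_mem⟩ : I) = 0 := rfl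
      rw [h0, map_zero]
      exact Submodule.zero_mem _
    · intro x y hx hy h1 h2
      have h0 : (⟨x + y, I.add_mem hx hy⟩ : I) = ⟨x, hx⟩ + ⟨y, hy⟩ := rfl
      rw [h0, map_add]
      exact Submodule.add_mem _ h1 h2
    · intro a x hx h1
      have h0 : (⟨a • x, I.smul_mem a hx⟩ : I) = a • ⟨x, hx⟩ := rfl
      rw [h0, map_smul, ← algebraMap_smul (MvPolynomial (Fin n) R ⧸ I) a]
      exact Submodule.smul_mem _ _ h1
  let π : (Fin m → MvPolynomial (Fin n) R ⧸ I) →ₗ[MvPolynomial (Fin n) R ⧸ I] I.Cotangent :=
    Fintype.linearCombination (MvPolynomial (Fin n) R ⧸ I) v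
  have hπ : Function.Surjective π := by
    rw [← LinearMap.range_eq_top, Fintype.range_linearCombination, hv]
  obtain ⟨s, hs⟩ := Module.projective_lifting_property π LinearMap.id hπ
  have hs' : ∀ x, ∑ j, s x j • v j = x := fun x => by
    have := LinearMap.congr_fun hs x
    rwa [LinearMap.comp_apply, LinearMap.id_apply, Fintype.linearCombination_apply] at this
  let T : ↥I →ₗ[MvPolynomial (Fin n) R] (Fin m → MvPolynomial (Fin n) R ⧸ I) :=
    (s.restrictScalars (MvPolynomial (Fin n) R)).comp I.toCotangent
  have hT : ∀ x, T x = s (I.toCotangent x) := fun x => rfl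
  refine ⟨T, ?_, ?_⟩
  · intro i k
    have h1 := congrArg (fun z => s z k) (hs' (v i))
    simp only [map_sum, map_smul, Finset.sum_apply, Pi.smul_apply, smul_eq_mul] at h1
    exact h1
  · intro Et hEt i
    let x : ↥I := bI b i - ∑ j, Et i j • bI b j
    have hx : (x : MvPolynomial (Fin n) R) = b i - ∑ j, Et i j * b j := by
      simp only [x, bI, Submodule.coe_sub, Submodule.coe_sum, Submodule.coe_smul, smul_eq_mul]
    have hτ : I.toCotangent x = 0 := by
      simp only [x, map_sub, map_sum, map_smul]
      rw [sub_eq_zero]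
      refine (hs' (v i)).symm.trans ?_
      refine Finset.sum_congr rfl fun j _ => ?_
      show s (v i) j • v j = Et i j • v j
      rw [← algebraMap_smul (MvPolynomial (Fin n) R ⧸ I) (Et i j)]
      congr 1
      exact (hEt i j).symm ▸ rfl
    rw [← hx]
    exact (I.toCotangent_eq_zero x).mp hτ

end Groth.Agent.Lib.Helper24.SyntRetractA
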