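import Mathlib
import Groth.Prelude.Def_RegImm
import Groth.Agent.Lib.Helper24.NakPres

/-!
# Syntomic ⇒ smooth retract which is a relative global complete intersection, part B

A surjection `Φ : R[x][y] → S'` whose kernel `(α) + (β)` is generated modulo its square by `m`
elements gives a presentation of `S'` with `m + n + 1` variables and `m + 1` relations.
-/

set_option autoImplicit false
set_option maxHeartbeats 400000
set_option linter.style.haveILetI false
set_option linter.unusedSectionVars false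
set_option linter.unusedVariables false

universe u

open MvPolynomial

namespace Groth.Agent.Lib.Helper24.SyntRetractB

variable {R : Type u} [CommRing R] {n m : ℕ}

theorem exists_pres_of_ker {S' : Type u} [CommRing S'] [Algebra R S']
    (Φ : MvPolynomial (Fin m) (MvPolynomial (Fin n) R) →ₐ[R] S') (hΦsurj : Function.Surjective Φ)
    (J : Ideal (MvPolynomial (Fin m) (MvPolynomial (Fin n) R)))
    (hmemJ : ∀ x, x ∈ J ↔ Φ x = 0) (hfg : J.FG)
    (G : Fin m → MvPolynomial (Fin m) (MvPolynomial (Fin n) R)) (hGJ : ∀ i, G i ∈ J)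
    (hle : J ≤ Ideal.span (Set.range G) ⊔ J * J) :
    ∃ F : Fin (m + 1) → MvPolynomial (Fin (m + n + 1)) R,
      Nonempty (S' ≃ₐ[R] Synt.RelGCIRing R (m + n + 1) (m + 1) F) := by
  classical
  obtain ⟨g, hg1, hgJ⟩ := NakPres.exists_nak J hfg G hGJ hle
  let e₀ : MvPolynomial (Fin m) (MvPolynomial (Fin n) R) ≃ₐ[R] MvPolynomial (Fin (m + n)) R :=
    (MvPolynomial.sumAlgEquiv R (Fin m) (Fin n)).symm.trans
      (MvPolynomial.renameEquiv R finSumFinEquiv)
  let Φ' : MvPolynomial (Fin (m + n)) R →ₐ[R] S' := Φ.comp e₀.symm.toAlgHom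
  have hΦ' : ∀ x, Φ' x = Φ (e₀.symm x) := fun x => rfl
  have hΦ'surj : Function.Surjective Φ' := by
    intro z
    obtain ⟨x, rfl⟩ := hΦsurj z
    exact ⟨e₀ x, by rw [hΦ', AlgEquiv.symm_apply_apply]⟩
  have hmemJ' : ∀ a, a ∈ RingHom.ker Φ' ↔ e₀.symm a ∈ J := fun a => by
    rw [RingHom.mem_ker, hΦ', hmemJ]
  obtain ⟨e₃⟩ := NakPres.exists_pres (m + n) m (RingHom.ker Φ') (fun i => e₀ (G i)) (e₀ g)
    (fun i => by rw [hmemJ', AlgEquiv.symm_apply_apply]; exact hGJ i)
    (by
      rw [hmemJ', map_sub, AlgEquiv.symm_apply_apply, map_one]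
      exact hg1)
    (fun a ha => by
      have h5 := hgJ _ ((hmemJ' a).mp ha)
      have h6 : e₀ (g * e₀.symm a) ∈ (Ideal.span (Set.range G)).map
          (e₀ : MvPolynomial (Fin m) (MvPolynomial (Fin n) R) →+* MvPolynomial (Fin (m + n)) R) :=
        Ideal.mem_map_of_mem _ h5
      rw [Ideal.map_span, ← Set.range_comp, map_mul, AlgEquiv.apply_symm_apply] at h6
      exact h6)
  exact ⟨_, ⟨(Ideal.quotientKerAlgEquivOfSurjective hΦ'surj).symm.trans e₃⟩⟩

/-- the generation of `(C b) + (β)` modulo its square -/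
theorem gen_mod_sq (b : Fin m → MvPolynomial (Fin n) R) (I : Ideal (MvPolynomial (Fin n) R))
    (hI : I = Ideal.span (Set.range b))
    (Et : Fin m → Fin m → MvPolynomial (Fin n) R)
    (hE1 : ∀ i, b i - ∑ j, Et i j * b j ∈ I ^ 2)
    (hE3 : ∀ i k, Et i k - ∑ j, Et i j * Et j k ∈ I)
    (J : Ideal (MvPolynomial (Fin m) (MvPolynomial (Fin n) R)))
    (hJ : J = Ideal.span (Set.range fun i => (C (b i) :
        MvPolynomial (Fin m) (MvPolynomial (Fin n) R))) ⊔
      Ideal.span (Set.range fun i => (X i - ∑ j, C (Et i j) * X j :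
        MvPolynomial (Fin m) (MvPolynomial (Fin n) R)))) :
    J.FG ∧ ∃ G : Fin m → MvPolynomial (Fin m) (MvPolynomial (Fin n) R), (∀ i, G i ∈ J) ∧
      J ≤ Ideal.span (Set.range G) ⊔ J * J := by
  classical
  let α : Fin m → MvPolynomial (Fin m) (MvPolynomial (Fin n) R) := fun i => C (b i)
  let β : Fin m → MvPolynomial (Fin m) (MvPolynomial (Fin n) R) :=
    fun i => X i - ∑ j, C (Et i j) * X j
  let ε : Fin m → Fin m → MvPolynomial (Fin m) (MvPolynomial (Fin n) R) := fun i j => C (Et i j)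
  have hJ' : J = Ideal.span (Set.range α) ⊔ Ideal.span (Set.range β) := hJ
  have hIC : I.map (C : MvPolynomial (Fin n) R →+* MvPolynomial (Fin m) (MvPolynomial (Fin n) R)) =
      Ideal.span (Set.range α) := by
    rw [hI, Ideal.map_span, ← Set.range_comp]
    rfl
  have hαJ : Ideal.span (Set.range α) ≤ J := by rw [hJ']; exact le_sup_left
  have hCI : ∀ x ∈ I, (C x : MvPolynomial (Fin m) (MvPolynomial (Fin n) R)) ∈
      Ideal.span (Set.range α) := fun x hx => by
    rw [← hIC]
    exact Ideal.mem_map_of_mem _ hx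
  have h1 : ∀ i, α i - ∑ j, ε i j * α j ∈ J * J := by
    intro i
    have e1 : α i - ∑ j, ε i j * α j = C (b i - ∑ j, Et i j * b j) := by
      simp only [α, ε, map_sub, map_sum, map_mul]
    rw [e1]
    have h4 : (C (b i - ∑ j, Et i j * b j) : MvPolynomial (Fin m) (MvPolynomial (Fin n) R)) ∈
        (I ^ 2).map C := Ideal.mem_map_of_mem _ (hE1 i)
    rw [Ideal.map_pow, hIC, pow_two] at h4
    exact Ideal.mul_mono hαJ hαJ h4
  have h3 : ∀ i k, ε i k - ∑ j, ε i j * ε j k ∈ Ideal.span (Set.range α) := by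
    intro i k
    have e1 : ε i k - ∑ j, ε i j * ε j k = C (Et i k - ∑ j, Et i j * Et j k) := by
      simp only [ε, map_sub, map_sum, map_mul]
    rw [e1]
    exact hCI _ (hE3 i k)
  have hβ : ∀ i, ∑ k, ε i k * β k ∈ Ideal.span (Set.range α) := by
    intro i
    have e1 : ∑ k, ε i k * β k = ∑ j, C (Et i j - ∑ k, Et i k * Et k j) * X j := by
      simp only [ε, β, mul_sub, Finset.sum_sub_distrib, map_sub, map_sum, map_mul, sub_mul,
        Finset.mul_sum, Finset.sum_mul]
      congr 1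
      rw [Finset.sum_comm]
      refine Finset.sum_congr rfl fun j _ => Finset.sum_congr rfl fun k _ => ?_
      ring
    rw [e1]
    exact Ideal.sum_mem _ fun j _ => Ideal.mul_mem_right _ _ (hCI _ (hE3 i j))
  have hle := NakPres.le_span_sup_sq α β ε J hJ' h1 h3 hβ
  have hβJ : ∀ i, β i ∈ J := fun i => by
    rw [hJ']; exact Ideal.mem_sup_right (Ideal.subset_span ⟨i, rfl⟩)
  refine ⟨?_, fun i => α i + β i - ∑ k, ε i k * β k, fun i => ?_, hle⟩
  · rw [hJ']
    exact Submodule.FG.sup (Submodule.fg_span (Set.finite_range _))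
      (Submodule.fg_span (Set.finite_range _))
  · exact J.sub_mem (J.add_mem (hαJ (Ideal.subset_span ⟨i, rfl⟩)) (hβJ i))
      (J.sum_mem fun k _ => J.mul_mem_left _ (hβJ k))

end Groth.Agent.Lib.Helper24.SyntRetractB
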