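import Mathlib
import Groth.Prelude.Def_RegImm
import Groth.Agent.Lib.Helper24.SymDim
import Groth.Agent.Lib.Helper24.SyntRetractA
import Groth.Agent.Lib.Helper24.SyntRelGCI
import Groth.Agent.Lib.Helper24.CIGen
import Groth.Agent.Lib.Helper24.LocCI
import Groth.Agent.Lib.Helper22.FibCIA

/-!
# Syntomic ⇒ smooth retract which is a relative global complete intersection, part C

The fibre dimension bound.
-/

set_option autoImplicit false
set_option maxHeartbeats 400000
set_option linter.style.haveILetI false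
set_option linter.unusedSectionVars false
set_option linter.unusedVariables false

universe u

open MvPolynomial TensorProduct

namespace Groth.Agent.Lib.Helper24.SyntRetractC

open Groth.Agent.Lib.Helper1 Groth.Agent.Lib.Helper22 Groth.Agent.Lib.Helper24
open Groth.Agent.Lib.Helper24.SyntRetractA

variable {R : Type u} [CommRing R] {n m : ℕ} (b : Fin m → MvPolynomial (Fin n) R)
  (p : Ideal R) [p.IsPrime]

/-- the fibre ideal -/
noncomputable abbrev Ibar : Ideal (MvPolynomial (Fin n) p.ResidueField) :=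
  Ideal.span (Set.range fun i => map (algebraMap R p.ResidueField) (b i))

theorem le_comap_Ibar :
    Ideal.span (Set.range b) ≤ (Ibar b p).comap (map (algebraMap R p.ResidueField)) := by
  rw [Ideal.span_le]
  rintro _ ⟨i, rfl⟩
  exact Ideal.subset_span ⟨i, rfl⟩

/-- the map to the fibre -/
noncomputable def nu : (MvPolynomial (Fin n) R ⧸ Ideal.span (Set.range b)) →+*
    (MvPolynomial (Fin n) p.ResidueField ⧸ Ibar b p) :=
  Ideal.quotientMap (Ibar b p) (map (algebraMap R p.ResidueField)) (le_comap_Ibar b p)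

theorem nu_mk (x : MvPolynomial (Fin n) R) :
    nu b p (Ideal.Quotient.mk _ x) =
      Ideal.Quotient.mk _ (map (algebraMap R p.ResidueField) x) :=
  Ideal.quotientMap_mk

theorem nu_T_eq_zero
    (T : ↥(Ideal.span (Set.range b)) →ₗ[MvPolynomial (Fin n) R]
      (Fin m → MvPolynomial (Fin n) R ⧸ Ideal.span (Set.range b)))
    (x : MvPolynomial (Fin n) R)
    (hx : x ∈ p.map (C : R →+* MvPolynomial (Fin n) R) * Ideal.span (Set.range b)) :
    ∃ h : x ∈ Ideal.span (Set.range b), ∀ j, nu b p (T ⟨x, h⟩ j) = 0 := by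
  have hx' : x ∈ p.map (C : R →+* MvPolynomial (Fin n) R) • Ideal.span (Set.range b) := hx
  refine Submodule.smul_induction_on hx' ?_ ?_
  · intro a ha g hg
    refine ⟨Ideal.mul_mem_left _ _ hg, fun j => ?_⟩
    have h0 : (⟨a • g, Ideal.mul_mem_left _ _ hg⟩ : ↥(Ideal.span (Set.range b))) =
        a • ⟨g, hg⟩ := rfl
    have h1 : map (algebraMap R p.ResidueField) a = 0 := by
      have h2 := ha
      rw [← SyntRelGCI.ker_map_residueField p n] at h2
      exact h2
    rw [h0, T_smul_apply, map_mul, nu_mk, h1, map_zero, zero_mul]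
  · rintro x y ⟨hx, hx0⟩ ⟨hy, hy0⟩
    refine ⟨Ideal.add_mem _ hx hy, fun j => ?_⟩
    have h0 : (⟨x + y, Ideal.add_mem _ hx hy⟩ : ↥(Ideal.span (Set.range b))) =
        ⟨x, hx⟩ + ⟨y, hy⟩ := rfl
    rw [h0, map_add, Pi.add_apply, map_add, hx0, hy0, add_zero]

theorem hrank (hsynt : Synt.IsSyntomic R (Synt.RelGCIRing R n m b))
    (T : ↥(Ideal.span (Set.range b)) →ₗ[MvPolynomial (Fin n) R]
      (Fin m → MvPolynomial (Fin n) R ⧸ Ideal.span (Set.range b))) :
    ∀ 𝔪 : Ideal (MvPolynomial (Fin n) p.ResidueField ⧸ Ibar b p), 𝔪.IsMaximal →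
      ∃ c : ℕ, (c : ℕ∞) + 𝔪.height ≤ (n : ℕ∞) ∧
        ∃ w : Fin c → Fin m → (MvPolynomial (Fin n) p.ResidueField ⧸ Ibar b p),
          ∀ i, ∃ lam : Fin c → (MvPolynomial (Fin n) p.ResidueField ⧸ Ibar b p),
            ∀ j, nu b p (T (bI b i) j) - ∑ t, lam t * w t j ∈ 𝔪 := by
  intro 𝔪 h𝔪
  haveI := h𝔪
  haveI : 𝔪.IsPrime := h𝔪.isPrime
  haveI hflat : Module.Flat R (MvPolynomial (Fin n) R ⧸ Ideal.span (Set.range b)) := hsynt.1
  have hlci := SyntRelGCI.isLCIOver_fibre R n m b p hsynt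
  obtain ⟨N, hLL⟩ := SyntRelGCI.exists_locLen p.ResidueField n (Ibar b p) 𝔪 hlci
  have hIle : Ibar b p ≤ 𝔪.comap (Ideal.Quotient.mk (Ibar b p)) :=
    CIGen.le_comap_mk p.ResidueField n (Ibar b p) 𝔪
  have hht := SyntRelGCI.height_of_locLen (Ibar b p)
    (𝔪.comap (Ideal.Quotient.mk (Ibar b p))) hIle N hLL
  have hmap : (𝔪.comap (Ideal.Quotient.mk (Ibar b p))).map (Ideal.Quotient.mk (Ibar b p)) = 𝔪 :=
    Ideal.map_comap_of_surjective _ Ideal.Quotient.mk_surjective _
  rw [hmap] at hht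
  have hle_n : (𝔪.comap (Ideal.Quotient.mk (Ibar b p))).height ≤ (n : ℕ∞) := by
    have h1 := Ideal.height_le_ringKrullDim_of_isPrime
      (I := 𝔪.comap (Ideal.Quotient.mk (Ibar b p)))
    rw [LocCI.ringKrullDim_mvPolynomial p.ResidueField n] at h1
    exact_mod_cast h1
  have hImap : (Ideal.span (Set.range b)).map (map (algebraMap R p.ResidueField)) = Ibar b p := by
    rw [Ideal.map_span, ← Set.range_comp]
    rfl
  have hLL' : KDesc.LocLen
      ((Ideal.span (Set.range b)).map (map (algebraMap R p.ResidueField)))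
      (𝔪.comap (Ideal.Quotient.mk (Ibar b p))) N := by
    rw [hImap]
    exact hLL
  obtain ⟨H, hlen, hHI, hgen⟩ := SyntRelGCI.exists_generators_map
    (map (algebraMap R p.ResidueField)) (Ideal.span (Set.range b)) _ N hLL'
  subst hlen
  have hFI : ((Ideal.span (Set.range H.get)).map (map (algebraMap R p.ResidueField))).map
        (algebraMap _ (Localization.AtPrime (𝔪.comap (Ideal.Quotient.mk (Ibar b p))))) =
      ((Ideal.span (Set.range b)).map (map (algebraMap R p.ResidueField))).map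
        (algebraMap _ (Localization.AtPrime (𝔪.comap (Ideal.Quotient.mk (Ibar b p))))) := by
    rw [hgen, SyntRelGCI.ofList_map_eq_span_range, Ideal.map_span, Ideal.map_span,
      ← Set.range_comp, ← Set.range_comp]
    rfl
  have hFleI : Ideal.span (Set.range H.get) ≤ Ideal.span (Set.range b) := by
    rw [Ideal.span_le]
    rintro _ ⟨t, rfl⟩
    exact hHI _ (List.get_mem H t)
  refine ⟨H.length, ?_, fun t j => nu b p (T ⟨H.get t, hHI _ (List.get_mem H t)⟩ j),
    fun i => ?_⟩
  · rw [← hht] at hle_n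
    exact hle_n
  · have hbi : b i ∈ Ideal.span (Set.range b) := Ideal.subset_span ⟨i, rfl⟩
    obtain ⟨G', hG', hmem⟩ := SyntRelGCI.key_mem p n
      ((𝔪.comap (Ideal.Quotient.mk (Ibar b p))).comap (map (algebraMap R p.ResidueField)))
      (𝔪.comap (Ideal.Quotient.mk (Ibar b p))) rfl (Ideal.span (Set.range b))
      (Ideal.span (Set.range H.get)) hFI (b i) hbi
    obtain ⟨f₁, hf₁, π₁, hπ₁, hsum⟩ := Submodule.mem_sup.mp hmem
    obtain ⟨a, ha⟩ := Ideal.mem_span_range_iff_exists_fun.mp hf₁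
    have hπI : π₁ ∈ Ideal.span (Set.range b) := by
      have h1 : π₁ = G' * b i - f₁ := by rw [← hsum]; ring
      rw [h1]
      exact Ideal.sub_mem _ (Ideal.mul_mem_left _ _ hbi) (hFleI hf₁)
    have hπ : π₁ ∈ p.map (C : R →+* MvPolynomial (Fin n) R) * Ideal.span (Set.range b) :=
      FibCI.inf_map_le_mul (A := R) (Ideal.span (Set.range b)) p ⟨hπI, hπ₁⟩
    obtain ⟨_, hT0⟩ := nu_T_eq_zero b p T π₁ hπ
    have hid : G' • bI b i =
        ∑ t, a t • (⟨H.get t, hHI _ (List.get_mem H t)⟩ : ↥(Ideal.span (Set.range b))) +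
          ⟨π₁, hπI⟩ := by
      apply Subtype.ext
      simp only [bI, Submodule.coe_add, Submodule.coe_sum, Submodule.coe_smul, smul_eq_mul]
      rw [ha, hsum]
    have hTid : ∀ j, nu b p (Ideal.Quotient.mk _ G') * nu b p (T (bI b i) j) =
        ∑ t, nu b p (Ideal.Quotient.mk _ (a t)) *
          nu b p (T ⟨H.get t, hHI _ (List.get_mem H t)⟩ j) := by
      intro j
      have h1 := congrArg (fun z => nu b p (T z j)) hid
      simp only [map_add, map_sum, Pi.add_apply, Finset.sum_apply, T_smul_apply, map_mul, hT0,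
        add_zero] at h1
      exact h1
    have hG'𝔪 : nu b p (Ideal.Quotient.mk _ G') ∉ 𝔪 := by
      rw [nu_mk]
      exact hG'
    obtain ⟨u, i₀, hi₀, hu⟩ := h𝔪.exists_inv hG'𝔪
    refine ⟨fun t => u * nu b p (Ideal.Quotient.mk _ (a t)), fun j => ?_⟩
    have h2 : ∑ t, (u * nu b p (Ideal.Quotient.mk _ (a t))) *
          nu b p (T ⟨H.get t, hHI _ (List.get_mem H t)⟩ j) =
        u * (nu b p (Ideal.Quotient.mk _ G') * nu b p (T (bI b i) j)) := by
      rw [hTid j, Finset.mul_sum]
      exact Finset.sum_congr rfl fun t _ => mul_assoc _ _ _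
    rw [h2]
    have h3 : nu b p (T (bI b i) j) -
          u * (nu b p (Ideal.Quotient.mk _ G') * nu b p (T (bI b i) j)) =
        i₀ * nu b p (T (bI b i) j) := by
      have h4 : i₀ = 1 - u * nu b p (Ideal.Quotient.mk _ G') := by
        rw [← hu]
        ring
      rw [h4]
      ring
    rw [h3]
    exact Ideal.mul_mem_right _ _ hi₀

/-- the fibre dimension bound for an algebra generated over `A₀ = R[x]/(b)` by `y` with the
idempotent-linear relations -/
theorem fibre_dim_le (hsynt : Synt.IsSyntomic R (Synt.RelGCIRing R n m b))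
    (T : ↥(Ideal.span (Set.range b)) →ₗ[MvPolynomial (Fin n) R]
      (Fin m → MvPolynomial (Fin n) R ⧸ Ideal.span (Set.range b)))
    {Cc : Type u} [CommRing Cc] [Algebra R Cc]
    [Algebra (MvPolynomial (Fin n) R ⧸ Ideal.span (Set.range b)) Cc]
    [IsScalarTower R (MvPolynomial (Fin n) R ⧸ Ideal.span (Set.range b)) Cc]
    (y : Fin m → Cc)
    (hrel : ∀ i, y i = ∑ j, algebraMap (MvPolynomial (Fin n) R ⧸ Ideal.span (Set.range b)) Cc
      (T (bI b i) j) * y j)
    (hind : ∀ motive : Cc → Prop,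
      (∀ a, motive (algebraMap (MvPolynomial (Fin n) R ⧸ Ideal.span (Set.range b)) Cc a)) →
      (∀ p q, motive p → motive q → motive (p + q)) →
      (∀ p i, motive p → motive (p * y i)) → ∀ x, motive x) :
    ringKrullDim (p.ResidueField ⊗[R] Cc) ≤ ((n : ℕ) : WithBot ℕ∞) := by
  let β₀ : (MvPolynomial (Fin n) p.ResidueField ⧸ Ibar b p) →+* p.ResidueField ⊗[R] Cc :=
    ((Algebra.TensorProduct.map (AlgHom.id p.ResidueField p.ResidueField)
      (IsScalarTower.toAlgHom R (MvPolynomial (Fin n) R ⧸ Ideal.span (Set.range b)) Cc)).toRingHom).comp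
      ((SyntRelGCI.fibEquiv R n m b p.ResidueField).toAlgHom.toRingHom)
  have hβ₀ : ∀ z, β₀ z = Algebra.TensorProduct.map (AlgHom.id p.ResidueField p.ResidueField)
      (IsScalarTower.toAlgHom R (MvPolynomial (Fin n) R ⧸ Ideal.span (Set.range b)) Cc)
      (SyntRelGCI.fibEquiv R n m b p.ResidueField z) := fun z => rfl
  have hβ₀ν : ∀ a : MvPolynomial (Fin n) R ⧸ Ideal.span (Set.range b),
      β₀ (nu b p a) = (1 : p.ResidueField) ⊗ₜ[R] algebraMap _ Cc a := by
    intro a
    obtain ⟨x, rfl⟩ := Ideal.Quotient.mk_surjective a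
    rw [nu_mk, hβ₀, SyntRelGCI.fibEquiv_mk, SyntRelGCI.phiT_map, Algebra.TensorProduct.map_tmul]
    rfl
  letI : Algebra (MvPolynomial (Fin n) p.ResidueField ⧸ Ibar b p) (p.ResidueField ⊗[R] Cc) :=
    β₀.toAlgebra
  have halg : ∀ x, algebraMap (MvPolynomial (Fin n) p.ResidueField ⧸ Ibar b p)
      (p.ResidueField ⊗[R] Cc) x = β₀ x := fun x => rfl
  haveI : Algebra.FiniteType p.ResidueField (MvPolynomial (Fin n) p.ResidueField ⧸ Ibar b p) :=
    Algebra.FiniteType.of_surjective (Ideal.Quotient.mkₐ p.ResidueField (Ibar b p))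
      (Ideal.Quotient.mkₐ_surjective _ _)
  haveI : IsJacobsonRing (MvPolynomial (Fin n) p.ResidueField ⧸ Ibar b p) :=
    isJacobsonRing_of_finiteType (A := p.ResidueField)
  refine SymDim.dim_le' (B := MvPolynomial (Fin n) p.ResidueField ⧸ Ibar b p)
    (S := p.ResidueField ⊗[R] Cc) (fun i j => nu b p (T (bI b i) j))
    (fun i => (1 : p.ResidueField) ⊗ₜ[R] y i) ?_ ?_ n (hrank b p hsynt T)
  · intro i
    simp only [halg, hβ₀ν, Algebra.TensorProduct.tmul_mul_tmul, one_mul]
    rw [← TensorProduct.tmul_sum, ← hrel i]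
  · intro motive hC hadd hmul x
    induction x using TensorProduct.induction_on with
    | zero =>
      have h0 := hC 0
      rwa [map_zero] at h0
    | add x y hx hy => exact hadd _ _ hx hy
    | tmul a c =>
      revert a
      refine hind (fun c => ∀ a : p.ResidueField, motive (a ⊗ₜ[R] c)) ?_ ?_ ?_ c
      · intro a₀ a
        have h1 := hC ((SyntRelGCI.fibEquiv R n m b p.ResidueField).symm (a ⊗ₜ[R] a₀))
        have h2 : algebraMap (MvPolynomial (Fin n) p.ResidueField ⧸ Ibar b p)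
            (p.ResidueField ⊗[R] Cc)
            ((SyntRelGCI.fibEquiv R n m b p.ResidueField).symm (a ⊗ₜ[R] a₀)) =
            a ⊗ₜ[R] algebraMap _ Cc a₀ := by
          rw [halg, hβ₀, AlgEquiv.apply_symm_apply, Algebra.TensorProduct.map_tmul]
          rfl
        rwa [h2] at h1
      · intro c₁ c₂ h1 h2 a
        rw [TensorProduct.tmul_add]
        exact hadd _ _ (h1 a) (h2 a)
      · intro c i hc a
        have h1 := hmul _ i (hc a)
        rwa [Algebra.TensorProduct.tmul_mul_tmul, mul_one] at h1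

end Groth.Agent.Lib.Helper24.SyntRetractC
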