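import Mathlib
import Groth.Prelude.Def_RegImm
import Groth.Agent.Lib.Helper24.IdemSym
import Groth.Agent.Lib.Helper24.SyntRetractA
import Groth.Agent.Lib.Helper24.SyntRetractB
import Groth.Agent.Lib.Helper24.SyntRetractC
import Groth.Agent.Lib.Helper24.RelGCIAway
import Groth.Agent.Lib.Helper6.SyntCover

/-!
# Syntomic ⇒ smooth retract which is a relative global complete intersection, part D (main)
-/

set_option autoImplicit false
set_option maxHeartbeats 400000
set_option linter.style.haveILetI false
set_option linter.unusedSectionVars false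
set_option linter.unusedVariables false

universe u

open MvPolynomial TensorProduct

namespace Groth.Agent.Lib.Helper24.SyntRetractD

open Groth.Agent.Lib.Helper24 Groth.Agent.Lib.Helper24.IdemSym Groth.Agent.Lib.Helper24.SyntRetractA

section Phi

variable {R : Type u} [CommRing R] {n m : ℕ} (I : Ideal (MvPolynomial (Fin n) R))
  (col : Fin m → Fin m → MvPolynomial (Fin n) R ⧸ I)

/-- the surjection `R[x][y] → Sym col` -/
noncomputable def Phi : MvPolynomial (Fin m) (MvPolynomial (Fin n) R) →ₐ[R] Sym col :=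
  { (Ideal.Quotient.mk (L col)).comp (MvPolynomial.map (Ideal.Quotient.mk I)) with
    commutes' := fun r => by
      show Ideal.Quotient.mk (L col) (MvPolynomial.map (Ideal.Quotient.mk I)
        (algebraMap R (MvPolynomial (Fin m) (MvPolynomial (Fin n) R)) r)) = _
      rw [MvPolynomial.algebraMap_apply, MvPolynomial.map_C, Ideal.Quotient.mk_algebraMap, mk_C,
        ← IsScalarTower.algebraMap_apply] }

theorem Phi_apply (x : MvPolynomial (Fin m) (MvPolynomial (Fin n) R)) :
    Phi I col x = Ideal.Quotient.mk (L col) (MvPolynomial.map (Ideal.Quotient.mk I) x) := rfl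

theorem Phi_surjective : Function.Surjective (Phi I col) := by
  intro z
  obtain ⟨z', rfl⟩ := Ideal.Quotient.mk_surjective z
  obtain ⟨x, rfl⟩ := MvPolynomial.map_surjective _ Ideal.Quotient.mk_surjective z'
  exact ⟨x, Phi_apply I col x⟩

theorem Phi_eq_zero_iff (b : Fin m → MvPolynomial (Fin n) R) (hI : I = Ideal.span (Set.range b))
    (Et : Fin m → Fin m → MvPolynomial (Fin n) R)
    (hEt : ∀ i j, Ideal.Quotient.mk I (Et i j) = col i j)
    (x : MvPolynomial (Fin m) (MvPolynomial (Fin n) R)) :
    x ∈ Ideal.span (Set.range fun i => (C (b i) :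
        MvPolynomial (Fin m) (MvPolynomial (Fin n) R))) ⊔
      Ideal.span (Set.range fun i => (X i - ∑ j, C (Et i j) * X j :
        MvPolynomial (Fin m) (MvPolynomial (Fin n) R))) ↔ Phi I col x = 0 := by
  let φr : MvPolynomial (Fin m) (MvPolynomial (Fin n) R) →+*
      MvPolynomial (Fin m) (MvPolynomial (Fin n) R ⧸ I) := MvPolynomial.map (Ideal.Quotient.mk I)
  have hφsurj : Function.Surjective φr :=
    MvPolynomial.map_surjective _ Ideal.Quotient.mk_surjective
  have hφβ : ∀ i, φr (X i - ∑ j, C (Et i j) * X j) = ell col i := by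
    intro i
    show MvPolynomial.map (Ideal.Quotient.mk I) (X i - ∑ j, C (Et i j) * X j) = ell col i
    unfold ell
    simp only [map_sub, map_sum, map_mul, MvPolynomial.map_X, MvPolynomial.map_C, hEt]
  have hIC : I.map (C : MvPolynomial (Fin n) R →+* MvPolynomial (Fin m) (MvPolynomial (Fin n) R)) =
      Ideal.span (Set.range fun i => (C (b i) :
        MvPolynomial (Fin m) (MvPolynomial (Fin n) R))) := by
    rw [hI, Ideal.map_span, ← Set.range_comp]
    rfl
  have h2 : L col = (Ideal.span (Set.range fun i => (X i - ∑ j, C (Et i j) * X j :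
      MvPolynomial (Fin m) (MvPolynomial (Fin n) R)))).map φr := by
    rw [Ideal.map_span, ← Set.range_comp]
    unfold L
    congr 1
    ext z
    simp only [Set.mem_range, Function.comp_apply, hφβ]
  have h3 : (⊥ : Ideal (MvPolynomial (Fin m) (MvPolynomial (Fin n) R ⧸ I))).comap φr =
      Ideal.span (Set.range fun i => (C (b i) :
        MvPolynomial (Fin m) (MvPolynomial (Fin n) R))) := by
    rw [← RingHom.ker_eq_comap_bot, ← hIC]
    show RingHom.ker (MvPolynomial.map (Ideal.Quotient.mk I)) = _
    rw [MvPolynomial.ker_map, Ideal.mk_ker]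
  rw [Phi_apply, Ideal.Quotient.eq_zero_iff_mem, h2, ← Ideal.mem_comap,
    Ideal.comap_map_of_surjective φr hφsurj, h3, sup_comm]

end Phi

/-- **Syntomic algebras are retracts of smooth algebras which are relative global complete
intersections** -/
theorem main {R A : Type u} [CommRing R] [CommRing A] [Algebra R A]
    (h : Synt.IsSyntomic R A) :
    ∃ (n c : ℕ) (F : Fin c → MvPolynomial (Fin n) R), Synt.IsRelGCI R n c F ∧
      Module.Flat R (Synt.RelGCIRing R n c F) ∧
      ∃ (_ : Algebra A (Synt.RelGCIRing R n c F)) (_ : IsScalarTower R A (Synt.RelGCIRing R n c F)),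
        Algebra.Smooth A (Synt.RelGCIRing R n c F) ∧
        ∃ ρ : Synt.RelGCIRing R n c F →ₐ[R] A,
          ∀ a : A, ρ (algebraMap A (Synt.RelGCIRing R n c F) a) = a := by
  classical
  obtain ⟨n, φ, hφ, hfg⟩ := h.2.1.out
  obtain ⟨m, b, hb⟩ := Submodule.fg_iff_exists_fin_generating_family.mp hfg
  have hker : Ideal.span (Set.range b) = RingHom.ker φ := hb
  let e : Synt.RelGCIRing R n m b ≃ₐ[R] A :=
    (Ideal.quotientEquivAlgOfEq R hker).trans (Ideal.quotientKerAlgEquivOfSurjective hφ)
  have hsynt₀ : Synt.IsSyntomic R (Synt.RelGCIRing R n m b) :=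
    Groth.Agent.Lib.Helper6.SyntCover.isSyntomic_of_algEquiv e.symm h
  obtain ⟨T, hE3, hE1⟩ := SyntRetractA.exists_data b hsynt₀
  obtain ⟨col, hcol⟩ : ∃ col : Fin m → Fin m → MvPolynomial (Fin n) R ⧸ Ideal.span (Set.range b),
      col = fun i j => T (bI b i) j := ⟨_, rfl⟩
  have hcol' : ∀ i j, col i j = T (bI b i) j := fun i j => by rw [hcol]
  have hE3c : ∀ i k, ∑ j, col i j * col j k = col i k := fun i k => by
    simp only [hcol']
    exact hE3 i k
  obtain ⟨Et, hEt⟩ : ∃ Et : Fin m → Fin m → MvPolynomial (Fin n) R,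
      ∀ i j, Ideal.Quotient.mk (Ideal.span (Set.range b)) (Et i j) = col i j :=
    ⟨fun i j => (Ideal.Quotient.mk_surjective (col i j)).choose,
      fun i j => (Ideal.Quotient.mk_surjective (col i j)).choose_spec⟩
  have hE3' : ∀ i k, Et i k - ∑ j, Et i j * Et j k ∈ Ideal.span (Set.range b) := by
    intro i k
    rw [← Ideal.Quotient.eq_zero_iff_mem, map_sub, map_sum, sub_eq_zero, hEt, ← hE3c i k]
    refine Finset.sum_congr rfl fun j _ => ?_
    rw [map_mul, hEt, hEt]
  obtain ⟨hfgJ, G, hGJ, hle⟩ := SyntRetractB.gen_mod_sq b (Ideal.span (Set.range b)) rfl Et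
    (hE1 Et (fun i j => (hEt i j).trans (hcol' i j))) hE3' _ rfl
  obtain ⟨F, ⟨eC⟩⟩ := SyntRetractB.exists_pres_of_ker (Phi (Ideal.span (Set.range b)) col)
    (Phi_surjective _ col) _ (Phi_eq_zero_iff _ col b rfl Et hEt) hfgJ G hGJ hle
  -- the relative global complete intersection property
  have hrel : Synt.IsRelGCI R (m + n + 1) (m + 1) F := by
    intro p' hnt
    haveI := p'.isPrime
    haveI := hnt
    have hNK : m + n + 1 - (m + 1) = n := by omega
    refine ⟨by omega, ?_⟩
    rw [hNK]
    apply le_antisymm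
    · have h1 := SyntRetractC.fibre_dim_le b p'.asIdeal hsynt₀ T (Cc := Sym col) (y col)
        (fun i => by
          rw [y_rel col i]
          exact Finset.sum_congr rfl fun j _ => by rw [hcol'])
        (fun motive => IdemSym.induction_on col)
      let e' : (p'.asIdeal.ResidueField ⊗[R] Sym col) ≃ₐ[p'.asIdeal.ResidueField]
          (p'.asIdeal.ResidueField ⊗[R] Synt.RelGCIRing R (m + n + 1) (m + 1) F) :=
        Algebra.TensorProduct.congr AlgEquiv.refl eC
      have h5 : ringKrullDim (p'.asIdeal.ResidueField ⊗[R] Sym col) =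
          ringKrullDim (p'.asIdeal.ResidueField ⊗[R]
            Synt.RelGCIRing R (m + n + 1) (m + 1) F) :=
        ringKrullDim_eq_of_ringEquiv e'.toRingEquiv
      exact le_of_eq_of_le h5.symm h1
    · obtain ⟨P, hP⟩ := RelGCIAway.exists_mem_minimalPrimes
        (p'.asIdeal.Fiber (Synt.RelGCIRing R (m + n + 1) (m + 1) F))
      have h1 := RelGCIAway.fibre_dim_quot_ge R (m + n + 1) (m + 1) F p'.asIdeal.ResidueField
        AlgEquiv.refl P hP
      rw [hNK] at h1
      exact h1.trans (ringKrullDim_quotient_le P)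
  -- flatness
  haveI hflat₀ : Module.Flat R (MvPolynomial (Fin n) R ⧸ Ideal.span (Set.range b)) := hsynt₀.1
  haveI hproj : Module.Projective (MvPolynomial (Fin n) R ⧸ Ideal.span (Set.range b)) (Sym col) :=
    IdemSym.projective col hE3c
  haveI hflat₁ : Module.Flat R (Sym col) :=
    Module.Flat.trans R (MvPolynomial (Fin n) R ⧸ Ideal.span (Set.range b)) (Sym col)
  have hflat : Module.Flat R (Synt.RelGCIRing R (m + n + 1) (m + 1) F) :=
    Module.Flat.of_linearEquiv eC.symm.toLinearEquiv
  -- the algebra structure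
  let ψ : A →+* Synt.RelGCIRing R (m + n + 1) (m + 1) F :=
    (eC : Sym col →+* Synt.RelGCIRing R (m + n + 1) (m + 1) F).comp
      ((algebraMap (MvPolynomial (Fin n) R ⧸ Ideal.span (Set.range b)) (Sym col)).comp
        (e.symm : A →+* MvPolynomial (Fin n) R ⧸ Ideal.span (Set.range b)))
  have hψ : ∀ a, ψ a = eC (algebraMap _ (Sym col) (e.symm a)) := fun a => rfl
  have hsm : ψ.Smooth := by
    have h1 : (e.symm : A →+* MvPolynomial (Fin n) R ⧸ Ideal.span (Set.range b)).Smooth :=
      RingHom.Smooth.of_bijective e.symm.bijective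
    have h2 : (algebraMap (MvPolynomial (Fin n) R ⧸ Ideal.span (Set.range b)) (Sym col)).Smooth :=
      RingHom.smooth_algebraMap.mpr (IdemSym.smooth col hE3c)
    have h3 : (eC : Sym col →+* Synt.RelGCIRing R (m + n + 1) (m + 1) F).Smooth :=
      RingHom.Smooth.of_bijective eC.bijective
    exact (h1.comp h2).comp h3
  refine ⟨m + n + 1, m + 1, F, hrel, hflat, ψ.toAlgebra, ?_, ?_, ?_⟩
  · letI := ψ.toAlgebra
    refine IsScalarTower.of_algebraMap_eq (fun r => ?_)
    show algebraMap R _ r = ψ (algebraMap R A r)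
    rw [hψ, e.symm.commutes, ← IsScalarTower.algebraMap_apply, eC.commutes]
  · letI := ψ.toAlgebra
    exact RingHom.smooth_algebraMap.mp hsm
  · letI := ψ.toAlgebra
    refine ⟨(e.toAlgHom.comp ((retr col).restrictScalars R)).comp eC.symm.toAlgHom, fun a => ?_⟩
    show e (retr col (eC.symm (ψ a))) = a
    rw [hψ, AlgEquiv.symm_apply_apply, AlgHom.commutes]
    exact e.apply_symm_apply a

end Groth.Agent.Lib.Helper24.SyntRetractD
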