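import Mathlib

set_option backward.isDefEq.respectTransparency false
set_option backward.isDefEq.respectTransparency.types false
set_option backward.defeqAttrib.useBackward true
set_option autoImplicit false
set_option maxHeartbeats 400000
set_option linter.style.haveILetI false
set_option linter.unusedSectionVars false

universe v u v' u'

open CategoryTheory CategoryTheory.Limits CategoryTheory.Pretriangulated CategoryTheory.Triangulated
open ZeroObject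

noncomputable section

namespace Groth.Agent.Lib.Helper24.THomol

variable {C : Type u} [Category.{v} C] [Preadditive C] [HasZeroObject C] [HasShift C ℤ]
  [∀ n : ℤ, (shiftFunctor C n).Additive] [Pretriangulated C] [IsTriangulated C]
  (t : TStructure C)

/-- If the cone of `f : X ⟶ Y` is `≥ 0`, then `τ≥0 X ⟶ τ≥0 Y ⟶ Z` is distinguished. -/
lemma exists_triangle_truncGE (T : Triangle C) (hT : T ∈ distTriang C) (h₃ : t.IsGE T.obj₃ 0) :
    ∃ (m₃ : (t.truncGE 0).obj T.obj₂ ⟶ T.obj₃)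
      (w : T.obj₃ ⟶ ((t.truncGE 0).obj T.obj₁)⟦(1 : ℤ)⟧),
      (t.truncGEπ 0).app T.obj₂ ≫ m₃ = T.mor₂ ∧
        Triangle.mk ((t.truncGE 0).map T.mor₁) m₃ w ∈ distTriang C := by
  haveI hiso : IsIso ((t.truncLT 0).map T.mor₁) := t.isIso₁_truncLT_map_of_isGE T hT 0 h₃
  have h₁₂ : Triangle.mk ((t.truncLTι 0).app T.obj₁) ((t.truncGEπ 0).app T.obj₁)
      ((t.truncGEδLT 0).app T.obj₁) ∈ distTriang C := t.triangleLTGE_distinguished 0 T.obj₁
  have h₁₃ : Triangle.mk ((t.truncLTι 0).app T.obj₁ ≫ T.mor₁) ((t.truncGEπ 0).app T.obj₂)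
      ((t.truncGEδLT 0).app T.obj₂ ≫ (inv ((t.truncLT 0).map T.mor₁))⟦(1 : ℤ)⟧') ∈
        distTriang C := by
    refine isomorphic_distinguished _ (t.triangleLTGE_distinguished 0 T.obj₂) _ ?_
    exact Triangle.isoMk _ _ (asIso ((t.truncLT 0).map T.mor₁)) (Iso.refl _) (Iso.refl _)
  let oct := someOctahedron rfl h₁₂ hT h₁₃
  have hm₁ : oct.m₁ = (t.truncGE 0).map T.mor₁ := by
    apply t.from_truncGE_obj_ext (n := 0)
    have h := oct.comm₁
    dsimp at h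
    rw [h, t.truncGEπ_naturality]
  refine ⟨oct.m₃, T.mor₃ ≫ ((t.truncGEπ 0).app T.obj₁)⟦(1 : ℤ)⟧', oct.comm₃, ?_⟩
  have h := oct.mem
  rw [hm₁] at h
  exact h

/-- If `X ≤ 0` then `X ⟶ τ≤0 Y ⟶ τ≤0 Z` is distinguished. -/
lemma exists_triangle_truncLE (T : Triangle C) (hT : T ∈ distTriang C) (h₁ : t.IsLE T.obj₁ 0) :
    ∃ (m₁ : T.obj₁ ⟶ (t.truncLE 0).obj T.obj₂)
      (w : (t.truncLE 0).obj T.obj₃ ⟶ T.obj₁⟦(1 : ℤ)⟧),
      m₁ ≫ (t.truncLEι 0).app T.obj₂ = T.mor₁ ∧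
        Triangle.mk m₁ ((t.truncLE 0).map T.mor₂) w ∈ distTriang C := by
  haveI hiso : IsIso ((t.truncGT 0).map T.mor₂) := t.isIso₂_truncGT_map_of_isLE T hT 0 h₁
  have h₂₃ : Triangle.mk ((t.truncLEι 0).app T.obj₃) ((t.truncGTπ 0).app T.obj₃)
      ((t.truncGTδLE 0).app T.obj₃) ∈ distTriang C := t.triangleLEGT_distinguished 0 T.obj₃
  have h₁₃ : Triangle.mk ((t.truncLEι 0).app T.obj₂) (T.mor₂ ≫ (t.truncGTπ 0).app T.obj₃)
      (inv ((t.truncGT 0).map T.mor₂) ≫ (t.truncGTδLE 0).app T.obj₂) ∈ distTriang C := by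
    refine isomorphic_distinguished _ (t.triangleLEGT_distinguished 0 T.obj₂) _ ?_
    refine Iso.symm (Triangle.isoMk _ _ (Iso.refl _) (Iso.refl _)
      (asIso ((t.truncGT 0).map T.mor₂)) (by simp) ?_ (by simp))
    dsimp
    rw [Category.id_comp]
    exact ((t.truncGTπ 0).naturality T.mor₂).symm
  let oct := someOctahedron' rfl hT h₂₃ h₁₃
  have hm₃ : oct.m₃ = (t.truncLE 0).map T.mor₂ := by
    apply t.to_truncLE_obj_ext (n := 0)
    have h := oct.comm₄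
    rw [h]
    exact ((t.truncLEι 0).naturality T.mor₂).symm
  refine ⟨oct.m₁, (t.truncLEι 0).app T.obj₃ ≫ T.mor₃, oct.comm₁, ?_⟩
  have h := oct.mem
  rw [hm₃] at h
  exact h

variable {t} {H : Type u'} [Category.{v'} H] [Abelian H] [t.Heart H] (H0 : C ⥤ H)
    (e : H0 ⋙ t.ιHeart ≅ t.truncGE 0 ⋙ t.truncLE 0)

include e

/-- The canonical map `ι H⁰ W ⟶ τ≥0 W`. -/
def pMap (W : C) : t.ιHeart.obj (H0.obj W) ⟶ (t.truncGE 0).obj W :=
  e.hom.app W ≫ (t.truncLEι 0).app ((t.truncGE 0).obj W)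

lemma pMap_naturality {W₁ W₂ : C} (w : W₁ ⟶ W₂) :
    t.ιHeart.map (H0.map w) ≫ pMap H0 e W₂ = pMap H0 e W₁ ≫ (t.truncGE 0).map w := by
  have h1 : t.ιHeart.map (H0.map w) ≫ e.hom.app W₂ =
      e.hom.app W₁ ≫ (t.truncLE 0).map ((t.truncGE 0).map w) := e.hom.naturality w
  have h2 : (t.truncLE 0).map ((t.truncGE 0).map w) ≫
      (t.truncLEι 0).app ((t.truncGE 0).obj W₂) =
      (t.truncLEι 0).app ((t.truncGE 0).obj W₁) ≫ (t.truncGE 0).map w :=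
    (t.truncLEι 0).naturality ((t.truncGE 0).map w)
  unfold pMap
  simp only [Category.assoc]
  rw [reassoc_of% h1, h2]

lemma pMap_cancel {U : H} {W : C} (k₁ k₂ : U ⟶ H0.obj W)
    (h : t.ιHeart.map k₁ ≫ pMap H0 e W = t.ιHeart.map k₂ ≫ pMap H0 e W) : k₁ = k₂ := by
  apply t.ιHeart.map_injective
  rw [← cancel_mono (e.hom.app W)]
  apply t.to_truncLE_obj_ext (n := 0)
  simpa [pMap, Category.assoc] using h

lemma exists_pMap_eq {U : H} {W : C} (l : t.ιHeart.obj U ⟶ (t.truncGE 0).obj W) :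
    ∃ k : U ⟶ H0.obj W, t.ιHeart.map k ≫ pMap H0 e W = l := by
  refine ⟨t.ιHeart.preimage (t.liftTruncLE l 0 ≫ e.inv.app W), ?_⟩
  rw [Functor.map_preimage]
  unfold pMap
  simp only [Category.assoc, Iso.inv_hom_id_app_assoc]
  exact t.liftTruncLE_ι l 0

/-- The canonical map `τ≤0 W ⟶ ι H⁰ W`. -/
def qMap (W : C) : (t.truncLE 0).obj W ⟶ t.ιHeart.obj (H0.obj W) :=
  (t.truncGEπ 0).app ((t.truncLE 0).obj W) ≫ (t.truncGELEIsoLEGE 0 0).hom.app W ≫ e.inv.app W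

lemma qMap_naturality {W₁ W₂ : C} (w : W₁ ⟶ W₂) :
    (t.truncLE 0).map w ≫ qMap H0 e W₂ = qMap H0 e W₁ ≫ t.ιHeart.map (H0.map w) := by
  have h1 : (t.truncLE 0).map w ≫ (t.truncGEπ 0).app ((t.truncLE 0).obj W₂) =
      (t.truncGEπ 0).app ((t.truncLE 0).obj W₁) ≫ (t.truncGE 0).map ((t.truncLE 0).map w) :=
    (t.truncGEπ 0).naturality ((t.truncLE 0).map w)
  have h2 : (t.truncGE 0).map ((t.truncLE 0).map w) ≫ (t.truncGELEIsoLEGE 0 0).hom.app W₂ =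
      (t.truncGELEIsoLEGE 0 0).hom.app W₁ ≫ (t.truncLE 0).map ((t.truncGE 0).map w) :=
    (t.truncGELEIsoLEGE 0 0).hom.naturality w
  have h3 : (t.truncLE 0).map ((t.truncGE 0).map w) ≫ e.inv.app W₂ =
      e.inv.app W₁ ≫ t.ιHeart.map (H0.map w) := e.inv.naturality w
  unfold qMap
  simp only [Category.assoc]
  rw [reassoc_of% h1, reassoc_of% h2, h3]

lemma qMap_cancel {U : H} {W : C} (κ₁ κ₂ : H0.obj W ⟶ U)
    (h : qMap H0 e W ≫ t.ιHeart.map κ₁ = qMap H0 e W ≫ t.ιHeart.map κ₂) : κ₁ = κ₂ := by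
  apply t.ιHeart.map_injective
  rw [← cancel_epi (e.inv.app W), ← cancel_epi ((t.truncGELEIsoLEGE 0 0).hom.app W)]
  apply t.from_truncGE_obj_ext (n := 0)
  simpa [qMap, Category.assoc] using h

/-- Left exactness of `H⁰` on triangles with third vertex `≥ 0` (lifting form). -/
lemma exists_lift_of_isGE (T : Triangle C) (hT : T ∈ distTriang C) (h₃ : t.IsGE T.obj₃ 0)
    {U : H} (k : U ⟶ H0.obj T.obj₂) (hk : k ≫ H0.map T.mor₂ = 0) :
    ∃ l : U ⟶ H0.obj T.obj₁, l ≫ H0.map T.mor₁ = k := by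
  obtain ⟨m₃, w, hm₃, hmem⟩ := exists_triangle_truncGE t T hT h₃
  have hm₃' : m₃ ≫ (t.truncGEπ 0).app T.obj₃ = (t.truncGE 0).map T.mor₂ := by
    apply t.from_truncGE_obj_ext (n := 0)
    rw [← Category.assoc, hm₃, t.truncGEπ_naturality]
  haveI : IsIso ((t.truncGEπ 0).app T.obj₃) := inferInstance
  have hκ : (t.ιHeart.map k ≫ pMap H0 e T.obj₂) ≫ m₃ = 0 := by
    rw [← cancel_mono ((t.truncGEπ 0).app T.obj₃), zero_comp, Category.assoc, hm₃',
      Category.assoc, ← pMap_naturality, ← Category.assoc, ← Functor.map_comp, hk,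
      t.ιHeart.map_zero, zero_comp]
  obtain ⟨l', hl'⟩ : ∃ l' : t.ιHeart.obj U ⟶ (t.truncGE 0).obj T.obj₁,
      t.ιHeart.map k ≫ pMap H0 e T.obj₂ = l' ≫ (t.truncGE 0).map T.mor₁ :=
    Triangle.coyoneda_exact₂ _ hmem (t.ιHeart.map k ≫ pMap H0 e T.obj₂) hκ
  obtain ⟨l, hl⟩ := exists_pMap_eq H0 e l'
  refine ⟨l, pMap_cancel H0 e _ _ ?_⟩
  rw [Functor.map_comp, Category.assoc, pMap_naturality, ← Category.assoc, hl]
  exact hl'.symm

/-- `H⁰ g` is an epimorphism when the first vertex is `≤ 0`. -/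
lemma epi_of_isLE (T : Triangle C) (hT : T ∈ distTriang C) (h₁ : t.IsLE T.obj₁ 0) :
    Epi (H0.map T.mor₂) := by
  obtain ⟨m₁, w, -, hmem⟩ := exists_triangle_truncLE t T hT h₁
  apply Preadditive.epi_of_cancel_zero
  intro U κ hκ
  have hκ' : (t.truncLE 0).map T.mor₂ ≫ (qMap H0 e T.obj₃ ≫ t.ιHeart.map κ) = 0 := by
    rw [← Category.assoc, qMap_naturality, Category.assoc, ← Functor.map_comp, hκ,
      t.ιHeart.map_zero, comp_zero]
  obtain ⟨μ, hμ⟩ : ∃ μ : T.obj₁⟦(1 : ℤ)⟧ ⟶ t.ιHeart.obj U,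
      qMap H0 e T.obj₃ ≫ t.ιHeart.map κ = w ≫ μ :=
    Triangle.yoneda_exact₃ _ hmem (qMap H0 e T.obj₃ ≫ t.ιHeart.map κ) hκ'
  haveI : t.IsLE (T.obj₁⟦(1 : ℤ)⟧) (-1) := t.isLE_shift T.obj₁ 0 1 (-1) (by norm_num)
  have hμ0 : μ = 0 := t.zero μ (-1) 0 (by norm_num)
  rw [hμ0, comp_zero] at hμ
  apply qMap_cancel H0 e
  rw [hμ, t.ιHeart.map_zero, comp_zero]

/-- BBD 1.3.6: `H⁰` is a homological functor. -/
theorem isHomological : H0.IsHomological := by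
  haveI : H0.PreservesZeroMorphisms := ⟨fun X Y => by
    apply t.ιHeart.map_injective
    rw [t.ιHeart.map_zero]
    have h : t.ιHeart.map (H0.map (0 : X ⟶ Y)) ≫ e.hom.app Y =
        e.hom.app X ≫ (t.truncLE 0).map ((t.truncGE 0).map (0 : X ⟶ Y)) := e.hom.naturality 0
    rw [(t.truncGE 0).map_zero, (t.truncLE 0).map_zero, comp_zero] at h
    exact (cancel_mono (e.hom.app Y)).1 (by rw [h, zero_comp])⟩
  refine ⟨fun T hT => ?_⟩
  obtain ⟨W', j, w₁₃, h₁₃⟩ :=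
    distinguished_cocone_triangle₁ (T.mor₂ ≫ (t.truncGEπ 0).app T.obj₃)
  have h₂₃ : Triangle.mk ((t.truncLTι 0).app T.obj₃) ((t.truncGEπ 0).app T.obj₃)
      ((t.truncGEδLT 0).app T.obj₃) ∈ distTriang C := t.triangleLTGE_distinguished 0 T.obj₃
  let oct := someOctahedron' rfl hT h₂₃ h₁₃
  have hcomm : oct.m₁ ≫ j = T.mor₁ := oct.comm₁
  have hmem := inv_rot_of_distTriang _ oct.mem
  haveI : t.IsLE ((t.truncLT 0).obj T.obj₃) (-1) :=
    t.isLE_truncLT_obj T.obj₃ 0 (-1) (by norm_num)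
  haveI hE : Epi (H0.map oct.m₁) := epi_of_isLE H0 e _ hmem
    (by dsimp; exact t.isLE_shift _ (-1) (-1) 0 (by norm_num))
  rw [ShortComplex.exact_iff_exact_up_to_refinements]
  intro A x₂ hx₂
  have hx₂' : x₂ ≫ H0.map T.mor₂ = 0 := hx₂
  obtain ⟨l, hl⟩ : ∃ l : A ⟶ H0.obj W', l ≫ H0.map j = x₂ :=
    exists_lift_of_isGE H0 e (Triangle.mk j (T.mor₂ ≫ (t.truncGEπ 0).app T.obj₃) w₁₃) h₁₃
      (by dsimp; infer_instance) x₂ (by
        show x₂ ≫ H0.map (T.mor₂ ≫ (t.truncGEπ 0).app T.obj₃) = 0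
        rw [Functor.map_comp, ← Category.assoc, hx₂', zero_comp])
  obtain ⟨A', π, hπ, x₁, hx₁⟩ := surjective_up_to_refinements_of_epi (H0.map oct.m₁) l
  refine ⟨A', π, hπ, x₁, ?_⟩
  show π ≫ x₂ = x₁ ≫ H0.map T.mor₁
  rw [← hl, ← Category.assoc, hx₁, Category.assoc, ← Functor.map_comp, hcomm]

end Groth.Agent.Lib.Helper24.THomol
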