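import Mathlib
import Groth.Agent.Lib.Helper10.THeart
import Groth.Agent.Lib.Helper24.THomolA

set_option backward.isDefEq.respectTransparency false
set_option backward.isDefEq.respectTransparency.types false
set_option backward.defeqAttrib.useBackward true
set_option autoImplicit false
set_option maxHeartbeats 400000
set_option linter.style.haveILetI false
set_option linter.unusedSectionVars false

universe v u v' u' v'' u''

open CategoryTheory CategoryTheory.Limits CategoryTheory.Pretriangulated CategoryTheory.Triangulated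
open ZeroObject

noncomputable section

namespace Groth.Agent.Lib.Helper24.TQuot

lemma tStructure_ext {E : Type u'} [Category.{v'} E] [Preadditive E] [HasZeroObject E]
    [HasShift E ℤ] [∀ n : ℤ, (shiftFunctor E n).Additive] [Pretriangulated E]
    (t₁ t₂ : TStructure E) (hle : t₁.le = t₂.le) (hge : t₁.ge = t₂.ge) : t₁ = t₂ := by
  cases t₁; cases t₂
  simp only [TStructure.mk.injEq]
  exact ⟨hle, hge⟩

variable {C : Type u} [Category.{v} C] [Preadditive C] [HasZeroObject C] [HasShift C ℤ]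
  [∀ n : ℤ, (shiftFunctor C n).Additive] [Pretriangulated C] [IsTriangulated C]
  (t : TStructure C)
  (D : ObjectProperty C) [D.IsTriangulated] [D.IsClosedUnderIsomorphisms]
  (hb : ∀ X : C, t.bounded X)
  (h1 : ∀ X : C, D X → ∀ n : ℤ, D ((t.truncGELE n n).obj X))
  (h2 : ∀ (X Y Z : C) (f : X ⟶ Y) (g : Y ⟶ Z) (h : Z ⟶ X⟦(1 : ℤ)⟧),
      Triangle.mk f g h ∈ distTriang C → t.heart X → t.heart Y → t.heart Z → D Y → D X ∧ D Z)

include h1 in
lemma truncLT_succ_mem (N : C) (hN : D N) (k : ℤ) (hk : D ((t.truncLT k).obj N)) :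
    D ((t.truncLT (k + 1)).obj N) := by
  have hT := t.triangleLTLTGELT_distinguished k (k + 1) (by omega) N
  exact D.ext_of_isTriangulatedClosed₂ _ hT hk (h1 N hN k)

include hb h1 in
lemma truncLT_mem (N : C) (hN : D N) (n : ℤ) : D ((t.truncLT n).obj N) := by
  have hbN : t.plus N ∧ t.minus N := hb N
  obtain ⟨⟨a, ha⟩, -⟩ := hbN
  haveI := ha
  rcases le_total n a with hn | hn
  · haveI : t.IsGE N n := t.isGE_of_ge N n a hn
    exact D.prop_of_isZero (t.isZero_truncLT_obj_of_isGE n N)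
  · obtain ⟨k, rfl⟩ : ∃ k : ℕ, n = a + k := ⟨(n - a).toNat, by omega⟩
    clear hn
    induction k with
    | zero =>
      haveI : t.IsGE N (a + ((0 : ℕ) : ℤ)) := by simpa using ha
      exact D.prop_of_isZero (t.isZero_truncLT_obj_of_isGE _ N)
    | succ k ih =>
      have := truncLT_succ_mem t D h1 N hN (a + k) ih
      rwa [show a + ((k + 1 : ℕ) : ℤ) = a + k + 1 by push_cast; ring]

include hb h1 in
lemma truncGE_mem (N : C) (hN : D N) (n : ℤ) : D ((t.truncGE n).obj N) :=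
  D.ext_of_isTriangulatedClosed₃ _ (t.triangleLTGE_distinguished n N)
    (truncLT_mem t D hb h1 N hN n) hN

include h1 h2 in
lemma truncLEGE_mem_aux {H : Type u''} [Category.{v''} H] [Abelian H] [t.Heart H] (H0 : C ⥤ H)
    (e : H0 ⋙ t.ιHeart ≅ t.truncGE 0 ⋙ t.truncLE 0)
    (T : Triangle C) (hT : T ∈ distTriang C) (h₁ : t.IsLE T.obj₁ 0) (hN : D T.obj₂) :
    D ((t.truncLE 0).obj ((t.truncGE 0).obj T.obj₃)) := by
  haveI : Epi (H0.map T.mor₂) := THomol.epi_of_isLE H0 e T hT h₁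
  have hs := H10TH.isSlice_ιHeart t (H := H)
  obtain ⟨K, i, δ, hK⟩ := AbelianSubcategory.exists_distinguished_triangle_of_epi
    (H10TH.hι hs) (H10TH.admissible_eq_top hs) (H0.map T.mor₂)
  have hD₂ : D (t.ιHeart.obj (H0.obj T.obj₂)) := by
    have h : D ((t.truncGELE 0 0).obj T.obj₂) := h1 _ hN 0
    exact D.prop_of_iso ((t.truncGELEIsoLEGE 0 0).app T.obj₂ ≪≫ (e.app T.obj₂).symm) h
  have h := (h2 _ _ _ _ _ _ hK (t.ιHeart_obj_mem K) (t.ιHeart_obj_mem _)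
    (t.ιHeart_obj_mem _) hD₂).2
  exact D.prop_of_iso (e.app T.obj₃) h

include h1 h2 in
lemma truncLEGE_mem_aux' {H : Type u''} [Category.{v''} H] [inst : Preadditive H] [t.Heart H]
    (H0 : C ⥤ H) (e : H0 ⋙ t.ιHeart ≅ t.truncGE 0 ⋙ t.truncLE 0)
    (T : Triangle C) (hT : T ∈ distTriang C) (h₁ : t.IsLE T.obj₁ 0) (hN : D T.obj₂) :
    D ((t.truncLE 0).obj ((t.truncGE 0).obj T.obj₃)) := by
  obtain ⟨a, ha⟩ : ∃ a : Abelian H, @Abelian.toPreadditive H _ a = inst :=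
    ⟨H10TH.abelianOfSlice (H10TH.isSlice_ιHeart t), rfl⟩
  subst ha
  exact truncLEGE_mem_aux t D h1 h2 H0 e T hT h₁ hN

include h1 h2 in
lemma truncLEGE_mem (T : Triangle C) (hT : T ∈ distTriang C) (h₁ : t.IsLE T.obj₁ 0)
    (hN : D T.obj₂) : D ((t.truncLE 0).obj ((t.truncGE 0).obj T.obj₃)) := by
  letI : t.Heart t.heart.FullSubcategory := t.hasHeartFullSubcategory
  have hF : ∀ X : C, t.heart ((t.truncGE 0 ⋙ t.truncLE 0).obj X) := fun X =>
    (t.mem_heart_iff _).2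
      ⟨show t.IsLE ((t.truncLE 0).obj ((t.truncGE 0).obj X)) 0 from inferInstance,
        show t.IsGE ((t.truncLE 0).obj ((t.truncGE 0).obj X)) 0 from inferInstance⟩
  exact truncLEGE_mem_aux' t D h1 h2 (H := t.heart.FullSubcategory)
    (t.heart.lift (t.truncGE 0 ⋙ t.truncLE 0) hF) (t.heart.liftCompιIso _ hF) T hT h₁ hN

include hb h1 h2 in
lemma truncGE_zero_mem (T : Triangle C) (hT : T ∈ distTriang C) (h₁ : t.IsLE T.obj₁ 0)
    (hN : D T.obj₂) : D ((t.truncGE 0).obj T.obj₃) := by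
  haveI : IsIso ((t.truncGE 1).map T.mor₂) :=
    t.isIso₂_truncGE_map_of_isLE T hT 0 1 (by norm_num) h₁
  have hP1 : D ((t.truncGE 1).obj T.obj₃) :=
    D.prop_of_iso (asIso ((t.truncGE 1).map T.mor₂)) (truncGE_mem t D hb h1 _ hN 1)
  haveI : IsIso ((t.truncGE 1).map ((t.truncGEπ 0).app T.obj₃)) :=
    t.isIso_truncGE_map_truncGEπ_app 1 0 (by norm_num) T.obj₃
  have hQ3 : D ((t.truncGE 1).obj ((t.truncGE 0).obj T.obj₃)) :=
    D.prop_of_iso (asIso ((t.truncGE 1).map ((t.truncGEπ 0).app T.obj₃))) hP1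
  have hQ1 := truncLEGE_mem t D h1 h2 T hT h₁ hN
  exact D.ext_of_isTriangulatedClosed₂ _
    (t.triangleLEGE_distinguished 0 1 (by norm_num) ((t.truncGE 0).obj T.obj₃)) hQ1 hQ3

variable {E : Type u'} [Category.{v'} E] [Preadditive E] [HasZeroObject E] [HasShift E ℤ]
    [∀ n : ℤ, (shiftFunctor E n).Additive] [Pretriangulated E]
    (q : C ⥤ E) [q.CommShift ℤ] [q.IsTriangulated] [q.IsLocalization D.trW]

include hb h1 h2 in
lemma map_eq_zero {X X' Y : C} (hX : t.IsLE X 0) (hY : t.IsGE Y 1) (s : X' ⟶ X)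
    (hs : D.trW s) (f : X' ⟶ Y) : q.map f = 0 := by
  obtain ⟨N, g, h, hT, hN⟩ := hs
  have hT' := rot_of_distTriang _ hT
  have hD : D ((t.truncGE 0).obj (X'⟦(1 : ℤ)⟧)) :=
    truncGE_zero_mem t D hb h1 h2 _ hT' hX hN
  have hι : D.trW ((t.truncLTι 0).app (X'⟦(1 : ℤ)⟧)) :=
    ObjectProperty.trW.mk D (t.triangleLTGE_distinguished 0 (X'⟦(1 : ℤ)⟧)) hD
  haveI : IsIso (q.map ((t.truncLTι 0).app (X'⟦(1 : ℤ)⟧))) :=
    Localization.inverts q D.trW _ hι
  haveI : t.IsLE ((t.truncLT 0).obj (X'⟦(1 : ℤ)⟧)) (-1) :=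
    t.isLE_truncLT_obj _ 0 (-1) (by norm_num)
  haveI : t.IsGE (Y⟦(1 : ℤ)⟧) 0 := t.isGE_shift Y 1 1 0 (by norm_num)
  have hz : (t.truncLTι 0).app (X'⟦(1 : ℤ)⟧) ≫ f⟦(1 : ℤ)⟧' = 0 :=
    t.zero _ (-1) 0 (by norm_num)
  have hz' : q.map (f⟦(1 : ℤ)⟧') = 0 := by
    rw [← cancel_epi (q.map ((t.truncLTι 0).app (X'⟦(1 : ℤ)⟧))), ← q.map_comp, hz,
      q.map_zero, comp_zero]
  have hnat := (q.commShiftIso (1 : ℤ)).hom.naturality f
  apply (shiftFunctor E (1 : ℤ)).map_injective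
  rw [Functor.map_zero]
  have h3 : (q.map f)⟦(1 : ℤ)⟧' = (q.commShiftIso (1 : ℤ)).inv.app X' ≫
      q.map (f⟦(1 : ℤ)⟧') ≫ (q.commShiftIso (1 : ℤ)).hom.app Y := by
    rw [← cancel_epi ((q.commShiftIso (1 : ℤ)).hom.app X'), Iso.hom_inv_id_app_assoc]
    exact hnat.symm
  rw [h3, hz', zero_comp, comp_zero]

/-- The induced t-structure on the Verdier quotient. -/
def tStructure : TStructure E where
  le n := fun Y => ∃ X : C, t.IsLE X n ∧ Nonempty (q.obj X ≅ Y)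
  ge n := fun Y => ∃ X : C, t.IsGE X n ∧ Nonempty (q.obj X ≅ Y)
  le_isClosedUnderIsomorphisms n := ⟨fun e ⟨X, hX, ⟨i⟩⟩ => ⟨X, hX, ⟨i ≪≫ e⟩⟩⟩
  ge_isClosedUnderIsomorphisms n := ⟨fun e ⟨X, hX, ⟨i⟩⟩ => ⟨X, hX, ⟨i ≪≫ e⟩⟩⟩
  le_shift n a n' h Y := by
    rintro ⟨X, hX, ⟨i⟩⟩
    haveI := hX
    exact ⟨X⟦a⟧, t.isLE_shift X n a n' h,
      ⟨(q.commShiftIso a).app X ≪≫ (shiftFunctor E a).mapIso i⟩⟩
  ge_shift n a n' h Y := by
    rintro ⟨X, hX, ⟨i⟩⟩
    haveI := hX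
    exact ⟨X⟦a⟧, t.isGE_shift X n a n' h,
      ⟨(q.commShiftIso a).app X ≪≫ (shiftFunctor E a).mapIso i⟩⟩
  zero' Y₁ Y₂ f := by
    rintro ⟨X₁, hX₁, ⟨i₁⟩⟩ ⟨X₂, hX₂, ⟨i₂⟩⟩
    obtain ⟨ψ, hψ⟩ := Localization.exists_rightFraction q D.trW (i₁.hom ≫ f ≫ i₂.inv)
    have h0 : q.map ψ.f = 0 := map_eq_zero t D hb h1 h2 q hX₁ hX₂ ψ.s ψ.hs ψ.f
    have h0' : ψ.map q (Localization.inverts q D.trW) = 0 := by
      rw [← cancel_epi (q.map ψ.s), MorphismProperty.RightFraction.map_s_comp_map, h0,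
        comp_zero]
    rw [h0'] at hψ
    calc f = i₁.inv ≫ (i₁.hom ≫ f ≫ i₂.inv) ≫ i₂.hom := by simp
      _ = 0 := by rw [hψ, zero_comp, comp_zero]
  le_zero_le := fun Y ⟨X, hX, i⟩ => ⟨X, by haveI := hX; exact t.isLE_of_le X 0 1 (by norm_num), i⟩
  ge_one_le := fun Y ⟨X, hX, i⟩ => ⟨X, by haveI := hX; exact t.isGE_of_ge X 0 1 (by norm_num), i⟩
  exists_triangle_zero_one A := by
    haveI : q.EssSurj := Localization.essSurj q D.trW
    let X₀ := q.objPreimage A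
    let i : q.obj X₀ ≅ A := q.objObjPreimageIso A
    have hT := q.map_distinguished _ (t.triangleLEGE_distinguished 0 1 (by norm_num) X₀)
    refine ⟨q.obj ((t.truncLE 0).obj X₀), q.obj ((t.truncGE 1).obj X₀),
      ⟨_, inferInstance, ⟨Iso.refl _⟩⟩, ⟨_, inferInstance, ⟨Iso.refl _⟩⟩,
      q.map ((t.truncLEι 0).app X₀) ≫ i.hom, i.inv ≫ q.map ((t.truncGEπ 1).app X₀),
      q.map ((t.truncGEδLE 0 1 (by norm_num)).app X₀) ≫
        (q.commShiftIso (1 : ℤ)).hom.app _, ?_⟩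
    refine isomorphic_distinguished _ hT _ ?_
    exact Triangle.isoMk _ _ (Iso.refl _) i.symm (Iso.refl _) (by simp) (by simp) (by simp)

include hb h1 h2 in
theorem main : ∃ t' : TStructure E,
      (∀ (X : C) (n : ℤ), t.IsLE X n → t'.IsLE (q.obj X) n) ∧
      (∀ (X : C) (n : ℤ), t.IsGE X n → t'.IsGE (q.obj X) n) ∧
      (∀ (Y : E) (n : ℤ), t'.IsLE Y n ↔ ∃ X : C, t.IsLE X n ∧ Nonempty (q.obj X ≅ Y)) ∧
      (∀ (Y : E) (n : ℤ), t'.IsGE Y n ↔ ∃ X : C, t.IsGE X n ∧ Nonempty (q.obj X ≅ Y)) ∧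
      ∀ t'' : TStructure E,
        (∀ (X : C) (n : ℤ), t.IsLE X n → t''.IsLE (q.obj X) n) →
        (∀ (X : C) (n : ℤ), t.IsGE X n → t''.IsGE (q.obj X) n) → t'' = t' := by
  refine ⟨tStructure t D hb h1 h2 q, ?_, ?_, ?_, ?_, ?_⟩
  · intro X n hX
    exact ⟨⟨X, hX, ⟨Iso.refl _⟩⟩⟩
  · intro X n hX
    exact ⟨⟨X, hX, ⟨Iso.refl _⟩⟩⟩
  · intro Y n
    exact ⟨fun h => h.le, fun h => ⟨h⟩⟩
  · intro Y n
    exact ⟨fun h => h.ge, fun h => ⟨h⟩⟩
  · intro t'' hle hge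
    haveI : q.EssSurj := Localization.essSurj q D.trW
    apply tStructure_ext
    · funext n Y
      apply propext
      constructor
      · intro hY
        let X₀ := q.objPreimage Y
        let i : q.obj X₀ ≅ Y := q.objObjPreimageIso Y
        have hT₁ := q.map_distinguished _ (t.triangleLEGE_distinguished n (n + 1) rfl X₀)
        have hT₂ := contractible_distinguished (q.obj X₀)
        haveI : t''.IsLE (q.obj X₀) n := ⟨(t''.le n).prop_of_iso i.symm hY⟩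
        obtain ⟨e', -⟩ := t''.triangle_iso_exists hT₁ hT₂ (Iso.refl _) n (n + 1)
          (by dsimp; exact hle _ _ inferInstance) (by dsimp; exact hge _ _ inferInstance)
          (by dsimp; infer_instance) (by dsimp; infer_instance)
        exact ⟨(t.truncLE n).obj X₀, inferInstance, ⟨Triangle.π₁.mapIso e' ≪≫ i⟩⟩
      · rintro ⟨X, hX, ⟨i⟩⟩
        exact (t''.le n).prop_of_iso i (hle X n hX).le
    · funext n Y
      apply propext
      constructor
      · intro hY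
        let X₀ := q.objPreimage Y
        let i : q.obj X₀ ≅ Y := q.objObjPreimageIso Y
        have hT₁ := q.map_distinguished _ (t.triangleLTGE_distinguished n X₀)
        have hT₂ := contractible_distinguished₁ (q.obj X₀)
        haveI : t''.IsGE (q.obj X₀) n := ⟨(t''.ge n).prop_of_iso i.symm hY⟩
        obtain ⟨e', -⟩ := t''.triangle_iso_exists hT₁ hT₂ (Iso.refl _) (n - 1) n
          (by dsimp; exact hle _ _ inferInstance) (by dsimp; exact hge _ _ inferInstance)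
          (by dsimp; infer_instance) (by dsimp; infer_instance)
        exact ⟨(t.truncGE n).obj X₀, inferInstance, ⟨Triangle.π₃.mapIso e' ≪≫ i⟩⟩
      · rintro ⟨X, hX, ⟨i⟩⟩
        exact (t''.ge n).prop_of_iso i (hge X n hX).ge

end Groth.Agent.Lib.Helper24.TQuot
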