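import Mathlib
import Groth.Agent.Lib.Helper24.TSGen

/-!
# `TS^d_A(B) = Γ^d_A(B)` when `d!` is invertible in `A` (helper24)
-/

set_option autoImplicit false

namespace Groth.Agent.Lib.Helper24.TSFact

open scoped TensorProduct
open Module PiTensorProduct
open Groth.Agent.Lib.Helper24.TLim Groth.Agent.Lib.Helper24.GamType
  Groth.Agent.Lib.Helper24.GamCoef Groth.Agent.Lib.Helper24.GamFree
  Groth.Agent.Lib.Helper24.TSGen

universe u

section sym

variable (A : Type u) [CommRing A] (B : Type u) [CommRing B] [Algebra A B] (d : ℕ)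

/-- un-normalised symmetrisation on the tensor power. -/
noncomputable def symSum0 : (⨂[A] _ : Fin d, B) →ₗ[A] (⨂[A] _ : Fin d, B) :=
  ∑ σ : Equiv.Perm (Fin d), (PiTensorProduct.reindex A (fun _ : Fin d => B) σ).toLinearMap

lemma symSum0_apply (z : ⨂[A] _ : Fin d, B) :
    symSum0 A B d z = ∑ σ : Equiv.Perm (Fin d), PiTensorProduct.reindex A (fun _ : Fin d => B) σ z := by
  simp [symSum0, LinearMap.sum_apply]

lemma symSum0_mem (z : ⨂[A] _ : Fin d, B) : symSum0 A B d z ∈ SymTen.TS A B d := by
  intro τ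
  rw [symSum0_apply, ← SymTen.perm_apply, map_sum]
  have : ∀ σ : Equiv.Perm (Fin d),
      SymTen.perm A B d τ (PiTensorProduct.reindex A (fun _ : Fin d => B) σ z) =
        PiTensorProduct.reindex A (fun _ : Fin d => B) (τ * σ) z := by
    intro σ
    rw [← SymTen.perm_apply, ← AlgHom.comp_apply, GamFree.perm_comp_perm, SymTen.perm_apply]
  simp only [this]
  exact Fintype.sum_equiv (Equiv.mulLeft τ) _ _ (fun σ => rfl)

lemma symSum0_of_mem (z : ⨂[A] _ : Fin d, B) (hz : z ∈ SymTen.TS A B d) :
    symSum0 A B d z = d.factorial • z := by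
  rw [symSum0_apply, Finset.sum_congr rfl (fun σ _ => hz σ), Finset.sum_const, Finset.card_univ,
    Fintype.card_perm, Fintype.card_fin]

/-- un-normalised symmetrisation with values in the symmetric tensors. -/
noncomputable def symSum : (⨂[A] _ : Fin d, B) →ₗ[A] SymTen.TS A B d where
  toFun z := ⟨symSum0 A B d z, symSum0_mem A B d z⟩
  map_add' z z' := Subtype.ext (by
    show symSum0 A B d (z + z') = symSum0 A B d z + symSum0 A B d z'
    rw [map_add])
  map_smul' r z := Subtype.ext (by
    show symSum0 A B d (r • z) = r • symSum0 A B d z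
    rw [map_smul])

lemma symSum_val (z : SymTen.TS A B d) : symSum A B d z.1 = d.factorial • z := by
  apply Subtype.ext
  show symSum0 A B d z.1 = ((d.factorial • z : SymTen.TS A B d) : ⨂[A] _ : Fin d, B)
  rw [symSum0_of_mem A B d z.1 z.2]
  simp

variable {A B}

lemma tmap_symSum0 {P : Type u} [CommRing P] [Algebra A P] (π : P →ₐ[A] B)
    (w : ⨂[A] _ : Fin d, P) :
    SymTen.tmap A d π (symSum0 A P d w) = symSum0 A B d (SymTen.tmap A d π w) := by
  rw [symSum0_apply, symSum0_apply, map_sum]
  simp only [SymTen.tmap_reindex]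

variable (v : A) (hv : v * ((d.factorial : ℕ) : A) = 1)

include hv in
lemma smul_symSum0_of_mem (z : ⨂[A] _ : Fin d, B) (hz : z ∈ SymTen.TS A B d) :
    v • symSum0 A B d z = z := by
  rw [symSum0_of_mem A B d z hz, ← Nat.cast_smul_eq_nsmul A, smul_smul, hv, one_smul]

include hv in
theorem lTensor_val_injective (S : Type u) [CommSemiring S] [Algebra A S] :
    Function.Injective ((SymTen.TS A B d).val.toLinearMap.lTensor S) := by
  have hρ : (v • symSum A B d) ∘ₗ (SymTen.TS A B d).val.toLinearMap = LinearMap.id := by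
    apply LinearMap.ext
    intro z
    apply Subtype.ext
    show v • symSum0 A B d z.1 = z.1
    exact smul_symSum0_of_mem d v hv z.1 z.2
  have : (v • symSum A B d).lTensor S ∘ₗ (SymTen.TS A B d).val.toLinearMap.lTensor S =
      LinearMap.id := by
    rw [← LinearMap.lTensor_comp, hρ, LinearMap.lTensor_id]
  exact Function.LeftInverse.injective (fun z => LinearMap.congr_fun this z)

include hv in
theorem TSmap_surjective {P : Type u} [CommRing P] [Algebra A P]
    (π : P →ₐ[A] B) (hπ : Function.Surjective π) :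
    Function.Surjective (SymTen.TSmap A d π) := by
  intro z
  obtain ⟨w, hw⟩ := GamDesc.tmap_surjective d π hπ z.1
  refine ⟨v • symSum A P d w, Subtype.ext ?_⟩
  show SymTen.tmap A d π (v • symSum0 A P d w) = z.1
  rw [map_smul, tmap_symSum0, hw]
  exact smul_symSum0_of_mem d v hv z.1 z.2

end sym

section ker

variable {A : Type u} [CommRing A] {B : Type u} [CommRing B] [Algebra A B] (d : ℕ)
  {P : Type u} [CommRing P] [Algebra A P] {I : Type u} (e : Basis I A P)
  (π : P →ₐ[A] B)
  {C' : Type u} [CommRing C'] [Algebra A C'] (ψ : SymTen.TS A P d →ₐ[A] C')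
  (G : PolLaw.MulLaw A B C' d)
  (hψ : PolLaw.postcomp ψ.toLinearMap (τ e d).law = (G.precomp π).law)

/-- the symmetrisation of a pure tensor is a generalised orbit sum. -/
lemma symSum_tprod (q : Fin d → P) :
    symSum A P d (tprod A q) =
      Em A d (fun i : ULift.{u} (Fin d) => q i.down) (ty (ULift.up : Fin d → ULift.{u} (Fin d))) := by
  apply Subtype.ext
  show symSum0 A P d (tprod A q) = Em0 A d (fun i : ULift.{u} (Fin d) => q i.down)
    (ty (ULift.up : Fin d → ULift.{u} (Fin d)))
  rw [symSum0_apply]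
  unfold Em0
  simp only [PiTensorProduct.reindex_tprod]
  refine Finset.sum_bij (fun σ _ => (ULift.up : Fin d → ULift.{u} (Fin d)) ∘ ⇑σ.symm) ?_ ?_ ?_ ?_
  · intro σ _
    rw [mem_fib, ty_comp_perm]
  · intro σ _ σ' _ h
    have h1 : σ.symm = σ'.symm := by
      apply Equiv.ext
      intro j
      exact ULift.up_injective (congrFun h j)
    have := congrArg Equiv.symm h1
    rwa [Equiv.symm_symm, Equiv.symm_symm] at this
  · intro c hc
    rw [mem_fib] at hc
    obtain ⟨σ, hσ⟩ := exists_perm_of_ty_eq (ULift.up : Fin d → ULift.{u} (Fin d)) c hc.symm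
    refine ⟨σ.symm, Finset.mem_univ _, ?_⟩
    rw [Equiv.symm_symm, hσ]
  · intro σ _
    rfl

include hψ in
/-- the polarisation of `ψ` vanishes on pure tensors with an entry in the kernel of `π`. -/
lemma psi_symSum_tprod (q : Fin d → P) (j₀ : Fin d) (hq : π (q j₀) = 0) :
    ψ (symSum A P d (tprod A q)) = 0 := by
  classical
  rw [symSum_tprod]
  set m : ULift.{u} (Fin d) → P := fun i => q i.down with hm
  set k₁ : ULift.{u} (Fin d) →₀ ℕ := ty (ULift.up : Fin d → ULift.{u} (Fin d)) with hk₁
  have h1 := cf_τ_gen' A d m (τ e d) (val_τ_apply e d) Finset.univ k₁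
  rw [if_pos (Finset.subset_univ _)] at h1
  have h2 : ψ (Em A d m k₁) = cf (MvPolynomial.lcoeff A k₁)
      (ψ.toLinearMap.lTensor (MvPolynomial (ULift.{u} (Fin d)) A)
        ((τ e d).law.toFun' (MvPolynomial (ULift.{u} (Fin d)) A) (gen m Finset.univ))) := by
    rw [cf_lTensor, h1]
    rfl
  have h3 : ψ.toLinearMap.lTensor (MvPolynomial (ULift.{u} (Fin d)) A)
      ((τ e d).law.toFun' (MvPolynomial (ULift.{u} (Fin d)) A) (gen m Finset.univ)) =
      G.law.toFun' (MvPolynomial (ULift.{u} (Fin d)) A)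
        (π.toLinearMap.lTensor (MvPolynomial (ULift.{u} (Fin d)) A) (gen m Finset.univ)) :=
    congrArg (fun L : P →ₚₗ[A] C' =>
      L.toFun' (MvPolynomial (ULift.{u} (Fin d)) A) (gen m Finset.univ)) hψ
  have h4 : π.toLinearMap.lTensor (MvPolynomial (ULift.{u} (Fin d)) A) (gen m Finset.univ) =
      gen (fun i => π (m i)) (Finset.univ.erase (ULift.up j₀)) := by
    unfold gen
    rw [map_sum, Finset.sum_erase]
    · rfl
    · show (MvPolynomial.X (ULift.up j₀) : MvPolynomial (ULift.{u} (Fin d)) A) ⊗ₜ[A]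
        π (q j₀) = 0
      rw [hq, TensorProduct.tmul_zero]
  rw [h2, h3, h4]
  apply cf_gen_of_not_subset
  intro hsub
  have hmem : ULift.up j₀ ∈ k₁.support := (mem_support_ty _ _).mpr ⟨j₀, rfl⟩
  exact (Finset.notMem_erase _ _) (hsub hmem)

variable (v : A) (hv : v * ((d.factorial : ℕ) : A) = 1)

include hψ hv in
theorem ker_le (hπ : Function.Surjective π) (z : SymTen.TS A P d)
    (hz : SymTen.TSmap A d π z = 0) : ψ z = 0 := by
  let 𝒦 : Submodule A (⨂[A] _ : Fin d, P) := Submodule.span A
    {t | ∃ (q : Fin d → P) (j : Fin d), π (q j) = 0 ∧ t = tprod A q}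
  have hΛ : ∀ t ∈ 𝒦, ψ (symSum A P d t) = 0 := by
    intro t ht
    induction ht using Submodule.span_induction with
    | mem t ht =>
      obtain ⟨q, j, hq, rfl⟩ := ht
      exact psi_symSum_tprod d e π ψ G hψ q j hq
    | zero => rw [map_zero, map_zero]
    | add x y _ _ hx hy => rw [map_add, map_add, hx, hy, add_zero]
    | smul a x _ hx => rw [map_smul, map_smul, hx, smul_zero]
  have hmul : ∀ (c t : ⨂[A] _ : Fin d, P), t ∈ 𝒦 → c * t ∈ 𝒦 := by
    intro c t ht
    induction ht using Submodule.span_induction with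
    | mem t ht =>
      obtain ⟨q, j, hq, rfl⟩ := ht
      induction c using PiTensorProduct.induction_on with
      | smul_tprod r q' =>
        rw [smul_mul_assoc, PiTensorProduct.tprod_mul_tprod]
        exact Submodule.smul_mem _ _ (Submodule.subset_span
          ⟨q' * q, j, by rw [Pi.mul_apply, map_mul, hq, mul_zero], rfl⟩)
      | add x y hx hy =>
        rw [add_mul]
        exact Submodule.add_mem _ hx hy
    | zero =>
      rw [mul_zero]
      exact Submodule.zero_mem _
    | add x y _ _ hx hy =>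
      rw [mul_add]
      exact Submodule.add_mem _ hx hy
    | smul a x _ hx =>
      rw [mul_smul_comm]
      exact Submodule.smul_mem _ _ hx
  let K : Ideal (⨂[A] _ : Fin d, P) :=
    { carrier := 𝒦
      add_mem' := fun ha hb => 𝒦.add_mem ha hb
      zero_mem' := 𝒦.zero_mem
      smul_mem' := fun c t ht => hmul c t ht }
  have hzK : z.1 ∈ K := by
    refine GamDesc.mem_of_tmap_eq_zero d π hπ K (fun j a ha => ?_) z.1 (congrArg Subtype.val hz)
    refine Submodule.subset_span ⟨Pi.mulSingle j a, j, ?_, ?_⟩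
    · rw [Pi.mulSingle_eq_same]
      exact ha
    · rw [PiTensorProduct.singleAlgHom_apply, MonoidHom.mulSingle_apply]
  have h5 : d.factorial • ψ z = 0 := by
    have := hΛ z.1 hzK
    rw [symSum_val, map_nsmul] at this
    exact this
  calc ψ z = (v * ((d.factorial : ℕ) : A)) • ψ z := by rw [hv, one_smul]
    _ = v • (((d.factorial : ℕ) : A) • ψ z) := by rw [mul_smul]
    _ = 0 := by rw [Nat.cast_smul_eq_nsmul, h5, smul_zero]

end ker

section main

variable {A : Type u} [CommRing A] {B : Type u} [CommRing B] [Algebra A B] (d : ℕ)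

/-- **Main theorem, `d!` invertible.** -/
theorem exists_τ_fact (hd : IsUnit ((d.factorial : ℕ) : A)) :
    ∃ τB : PolLaw.MulLaw A B (SymTen.TS A B d) d,
      (∀ (S : Type u) [CommSemiring S] [Algebra A S] (ξ : S ⊗[A] B),
        (SymTen.TS A B d).val.toLinearMap.lTensor S (τB.law.toFun' S ξ) =
          (SymTen.tpowLaw A B d).law.toFun' S ξ) ∧ PolLaw.IsGammaD τB := by
  obtain ⟨v, hv⟩ := hd.exists_left_inv
  have hinj : ∀ (S : Type u) [CommSemiring S] [Algebra A S],
      Function.Injective ((SymTen.TS A B d).val.toLinearMap.lTensor S) :=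
    fun S _ _ => lTensor_val_injective d v hv S
  refine ⟨mkτ d hinj, val_mkτ d hinj, ?_⟩
  let π : MvPolynomial B A →ₐ[A] B := MvPolynomial.aeval id
  have hπ : Function.Surjective π := fun b => ⟨MvPolynomial.X b, by simp [π]⟩
  exact isGammaD_of_surj d (MvPolynomial.basisMonomials B A) π hπ (mkτ d hinj)
    (val_mkτ d hinj) hinj (TSmap_surjective d v hv π hπ)
    (fun C' _ _ ψ G hψ z hz =>
      ker_le d (MvPolynomial.basisMonomials B A) π ψ G hψ v hv hπ z hz)

end main

end Groth.Agent.Lib.Helper24.TSFact
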