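import Mathlib
import Groth.Agent.Lib.Helper24.TSFlat2

/-!
# `TS^n_R(A)` is generated by the elementary symmetric tensors, for flat `A` (helper24)

`sig R n a j` is the `j`-th elementary symmetric tensor in `a`. For a subalgebra `𝒜` of the
tensor power containing all `sig R n a j`, every generalised orbit sum `Em0 R n m k` lies in `𝒜`
(`Em0_mem`, induction on the number of slots not occupied by a distinguished letter with value
`1`), hence for flat `A` all symmetric tensors do (`TS_le`).
-/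

set_option autoImplicit false

namespace Groth.Agent.Lib.Helper24.TSSig

open scoped TensorProduct
open PiTensorProduct
open Groth.Agent.Lib.Helper24.GamType Groth.Agent.Lib.Helper24.GamFree
  Groth.Agent.Lib.Helper24.TSGen Groth.Agent.Lib.Helper24.TSFlat

universe u

section comb

variable {I I' : Type u} (n : ℕ)

lemma ty_comp (θ : I → I') (c : Fin n → I) :
    ty (fun j => θ (c j)) = Finsupp.mapDomain θ (ty c) := by
  unfold ty
  rw [Finsupp.mapDomain_finsetSum]
  simp only [Finsupp.mapDomain_single]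

lemma two_le (c : Fin n → I) {o i₀ : I} (h : o ≠ i₀) : ty c o + ty c i₀ ≤ n := by
  classical
  rw [ty_apply, ty_apply, ← Finset.card_union_of_disjoint]
  · exact (Finset.card_le_univ _).trans (by simp)
  · rw [Finset.disjoint_filter]
    intro i _ h1 h2
    exact h (h1.symm.trans h2)

lemma mapDomain_upd [DecidableEq I] (i₀ o : I) (κ : I →₀ ℕ) :
    Finsupp.mapDomain (fun i => if i = i₀ then o else i) κ =
      κ.erase i₀ + Finsupp.single o (κ i₀) := by
  have h0 : Finsupp.mapDomain (fun i => if i = i₀ then o else i) κ =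
      Finsupp.mapDomain (fun i => if i = i₀ then o else i)
        (κ.erase i₀ + Finsupp.single i₀ (κ i₀)) := by
    rw [Finsupp.erase_add_single]
  rw [h0, Finsupp.mapDomain_add, Finsupp.mapDomain_single, if_pos rfl]
  congr 1
  have h1 : Finsupp.mapDomain (fun i => if i = i₀ then o else i) (κ.erase i₀) =
      Finsupp.mapDomain id (κ.erase i₀) := by
    apply Finsupp.mapDomain_congr
    intro x hx
    rw [Finsupp.support_erase, Finset.mem_erase] at hx
    rw [if_neg hx.1]
    rfl
  rw [h1, Finsupp.mapDomain_id]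

/-- the pairing of a subset and a function into a function with letters `Bool × I`. -/
def Φ (q : Finset (Fin n) × (Fin n → I)) : Fin n → Bool × I :=
  fun i => (decide (i ∈ q.1), q.2 i)

lemma Φ_injective : Function.Injective (Φ (I := I) n) := by
  intro q q' h
  have h1 : ∀ i, (decide (i ∈ q.1), q.2 i) = (decide (i ∈ q'.1), q'.2 i) := fun i => congrFun h i
  apply Prod.ext
  · ext i
    have := (Prod.mk.injEq _ _ _ _ ▸ h1 i).1
    exact decide_eq_decide.mp this
  · funext i
    exact (Prod.mk.injEq _ _ _ _ ▸ h1 i).2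

open Classical in
lemma low_bound (S : Finset (Fin n)) (c : Fin n → I) (o : I) (h : ∃ i ∈ S, c i ≠ o) :
    ty c o + 1 ≤ ty (Φ n (S, c)) (false, o) + S.card := by
  rw [ty_apply, ty_apply]
  obtain ⟨i₁, hi₁S, hi₁⟩ := h
  have h1 := Finset.card_filter_add_card_filter_not (s := Finset.univ.filter (fun i => c i = o))
    (fun i => i ∈ S)
  have h2 : (Finset.univ.filter (fun i => c i = o)).filter (fun i => ¬ i ∈ S) =
      Finset.univ.filter (fun i => Φ n (S, c) i = (false, o)) := by
    ext i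
    simp only [Finset.mem_filter, Finset.mem_univ, true_and, Φ, Prod.mk.injEq,
      decide_eq_false_iff_not]
    tauto
  have h3 : ((Finset.univ.filter (fun i => c i = o)).filter (fun i => i ∈ S)).card < S.card := by
    apply Finset.card_lt_card
    rw [Finset.ssubset_iff_of_subset (fun i hi => (Finset.mem_filter.mp hi).2)]
    refine ⟨i₁, hi₁S, ?_⟩
    intro hmem
    exact hi₁ (Finset.mem_filter.mp (Finset.mem_filter.mp hmem).1).2
  rw [h2] at h1
  omega

end comb

section alg

variable (R : Type u) [CommRing R] {A : Type u} [CommRing A] [Algebra R A] (n : ℕ)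

/-- the elementary symmetric tensors. -/
noncomputable def sig (a : A) (j : ℕ) : ⨂[R] _ : Fin n, A :=
  ∑ S ∈ (Finset.univ : Finset (Fin n)).powersetCard j,
    tprod R (fun i : Fin n => if i ∈ S then a else (1 : A))

lemma sig_mem_TS (a : A) (j : ℕ) : sig R n a j ∈ SymTen.TS R A n := by
  intro σ
  rw [← SymTen.perm_apply]
  unfold sig
  rw [map_sum]
  simp only [SymTen.perm_tprod]
  refine Finset.sum_nbij' (fun S => S.map σ.toEmbedding) (fun S => S.map σ.symm.toEmbedding)
    ?_ ?_ ?_ ?_ ?_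
  · intro S hS
    rw [Finset.mem_powersetCard] at hS ⊢
    exact ⟨Finset.subset_univ _, by rw [Finset.card_map]; exact hS.2⟩
  · intro S hS
    rw [Finset.mem_powersetCard] at hS ⊢
    exact ⟨Finset.subset_univ _, by rw [Finset.card_map]; exact hS.2⟩
  · intro S _
    ext x
    simp only [Finset.mem_map_equiv, Equiv.symm_symm, Equiv.symm_apply_apply]
  · intro S _
    ext x
    simp only [Finset.mem_map_equiv, Equiv.symm_symm, Equiv.apply_symm_apply]
  · intro S _
    congr 1
    funext i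
    simp only [Finset.mem_map_equiv]

variable {I I' : Type u}

/-- reindexing the letters along an injection. -/
lemma Em0_mapDomain (θ : I → I') (hθ : Function.Injective θ) (m' : I' → A) (k : I →₀ ℕ) :
    Em0 R n m' (Finsupp.mapDomain θ k) = Em0 R n (fun i => m' (θ i)) k := by
  classical
  unfold Em0
  symm
  refine Finset.sum_bij (fun c _ => fun j => θ (c j)) ?_ ?_ ?_ ?_
  · intro c hc
    rw [mem_fib] at hc ⊢
    rw [ty_comp, hc]
  · intro c₁ _ c₂ _ h
    funext j
    exact hθ (congrFun h j)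
  · intro c' hc'
    rw [mem_fib] at hc'
    have h1 : ∀ j, ∃ i, θ i = c' j := by
      intro j
      have h2 : c' j ∈ (Finsupp.mapDomain θ k).support := by
        rw [← hc', mem_support_ty]
        exact ⟨j, rfl⟩
      have h3 := Finsupp.mapDomain_support h2
      rw [Finset.mem_image] at h3
      obtain ⟨i, _, hi⟩ := h3
      exact ⟨i, hi⟩
    choose c hc using h1
    refine ⟨c, ?_, funext hc⟩
    rw [mem_fib]
    apply Finsupp.mapDomain_injective hθ
    rw [← ty_comp, ← hc']
    congr 1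
    funext j
    exact hc j
  · intro c _
    rfl

/-- a permutation-stable sum of pure tensors lies in `𝒜` if the orbit sums of its types do. -/
lemma sum_tprod_mem (μ : I → A) (𝒜 : Subalgebra R (⨂[R] _ : Fin n, A))
    (P : Finset (Fin n → I)) (hP : ∀ c ∈ P, ∀ σ : Equiv.Perm (Fin n), c ∘ σ ∈ P)
    (h𝒜 : ∀ c ∈ P, Em0 R n μ (ty c) ∈ 𝒜) :
    ∑ c ∈ P, tprod R (fun j => μ (c j)) ∈ 𝒜 := by
  classical
  have h0 := Finset.sum_fiberwise_of_maps_to (s := P) (t := P.image (fun c => ty c))
    (g := fun c => ty c) (fun c hc => Finset.mem_image_of_mem _ hc)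
    (fun c => tprod R (fun j => μ (c j)))
  rw [← h0]
  refine Subalgebra.sum_mem _ (fun κ hκ => ?_)
  obtain ⟨c₀, hc₀, rfl⟩ := Finset.mem_image.mp hκ
  have h2 := h𝒜 c₀ hc₀
  unfold Em0 at h2
  refine (congrArg (· ∈ 𝒜) ?_).mpr h2
  refine Finset.sum_congr ?_ (fun _ _ => rfl)
  ext c
  rw [Finset.mem_filter, mem_fib]
  constructor
  · exact fun h => h.2
  · intro h
    obtain ⟨σ, rfl⟩ := exists_perm_of_ty_eq c₀ c h.symm
    exact ⟨hP c₀ hc₀ σ, h⟩

/-- the letters of the product of an elementary symmetric tensor with an orbit sum. -/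
def μ (a : A) (m : I → A) : Bool × I → A := fun p => (if p.1 = true then a else 1) * m p.2

lemma sig_mul_Em0 (a : A) (j : ℕ) (m : I → A) (k' : I →₀ ℕ) :
    sig R n a j * Em0 R n m k' =
      ∑ q ∈ ((Finset.univ : Finset (Fin n)).powersetCard j) ×ˢ (fib n k'),
        tprod R (fun i : Fin n => (if i ∈ q.1 then a else 1) * m (q.2 i)) := by
  unfold sig Em0
  rw [Finset.sum_mul_sum, Finset.sum_product]
  refine Finset.sum_congr rfl (fun S _ => Finset.sum_congr rfl (fun c _ => ?_))
  rw [tprod_mul_tprod]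
  rfl

open Classical in
lemma low_sum_mem (𝒜 : Subalgebra R (⨂[R] _ : Fin n, A)) (a : A) (m : I → A) (o : I) (j : ℕ)
    (k' : I →₀ ℕ)
    (hlow : ∀ (S : Finset (Fin n)) (c : Fin n → I), S.card = j → ty c = k' →
      (∃ i ∈ S, c i ≠ o) → Em0 R n (μ a m) (ty (Φ n (S, c))) ∈ 𝒜) :
    ∑ q ∈ (((Finset.univ : Finset (Fin n)).powersetCard j) ×ˢ (fib n k')).filter
        (fun q => ¬ ∀ i ∈ q.1, q.2 i = o),
      tprod R (fun i : Fin n => (if i ∈ q.1 then a else 1) * m (q.2 i)) ∈ 𝒜 := by
  obtain ⟨Ql, hQl⟩ : ∃ Ql, Ql = (((Finset.univ : Finset (Fin n)).powersetCard j) ×ˢ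
      (fib n k')).filter (fun q => ¬ ∀ i ∈ q.1, q.2 i = o) := ⟨_, rfl⟩
  rw [← hQl]
  have hmemQ : ∀ q, q ∈ Ql ↔ (q.1.card = j ∧ ty q.2 = k') ∧ ∃ i ∈ q.1, q.2 i ≠ o := by
    intro q
    rw [hQl, Finset.mem_filter, Finset.mem_product, Finset.mem_powersetCard, mem_fib]
    constructor
    · rintro ⟨⟨⟨_, h1⟩, h2⟩, h3⟩
      refine ⟨⟨h1, h2⟩, ?_⟩
      by_contra hcon
      apply h3
      intro i hi
      by_contra hne
      exact hcon ⟨i, hi, hne⟩
    · rintro ⟨⟨h1, h2⟩, ⟨i, hi, hne⟩⟩
      exact ⟨⟨⟨Finset.subset_univ _, h1⟩, h2⟩, fun hall => hne (hall i hi)⟩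
  have h1 : ∑ q ∈ Ql, tprod R (fun i : Fin n => (if i ∈ q.1 then a else 1) * m (q.2 i)) =
      ∑ c ∈ Ql.image (Φ n), tprod R (fun i => μ a m (c i)) := by
    rw [Finset.sum_image (fun x _ y _ h => Φ_injective n h)]
    refine Finset.sum_congr rfl (fun q _ => ?_)
    congr 1
    funext i
    simp only [μ, Φ, decide_eq_true_eq]
  rw [h1]
  apply sum_tprod_mem
  · intro c hc σ
    obtain ⟨q, hq, rfl⟩ := Finset.mem_image.mp hc
    rw [Finset.mem_image]
    obtain ⟨⟨hcard, hty⟩, ⟨i, hi, hne⟩⟩ := (hmemQ q).mp hq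
    refine ⟨(q.1.map σ.symm.toEmbedding, q.2 ∘ σ), ?_, ?_⟩
    · rw [hmemQ]
      refine ⟨⟨by rw [Finset.card_map]; exact hcard, by rw [ty_comp_perm]; exact hty⟩,
        ⟨σ.symm i, ?_, ?_⟩⟩
      · rw [Finset.mem_map_equiv, Equiv.symm_symm, Equiv.apply_symm_apply]
        exact hi
      · show q.2 (σ (σ.symm i)) ≠ o
        rw [Equiv.apply_symm_apply]
        exact hne
    · funext i
      simp only [Φ, Finset.mem_map_equiv, Equiv.symm_symm, Function.comp_apply]
  · intro c hc
    obtain ⟨q, hq, rfl⟩ := Finset.mem_image.mp hc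
    obtain ⟨⟨hcard, hty⟩, hex⟩ := (hmemQ q).mp hq
    exact hlow q.1 q.2 hcard hty hex

open Classical in
lemma top_sum (m : I → A) (o i₀ : I) (hne : i₀ ≠ o) (hmo : m o = 1) (k : I →₀ ℕ) :
    ∑ q ∈ (((Finset.univ : Finset (Fin n)).powersetCard (k i₀)) ×ˢ
        (fib n (k.erase i₀ + Finsupp.single o (k i₀)))).filter (fun q => ∀ i ∈ q.1, q.2 i = o),
      tprod R (fun i : Fin n => (if i ∈ q.1 then m i₀ else 1) * m (q.2 i)) = Em0 R n m k := by
  unfold Em0
  symm
  refine Finset.sum_bij (fun c _ => (Finset.univ.filter (fun i => c i = i₀),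
    fun i => if c i = i₀ then o else c i)) ?_ ?_ ?_ ?_
  · intro c hc
    rw [mem_fib] at hc
    rw [Finset.mem_filter, Finset.mem_product, Finset.mem_powersetCard, mem_fib]
    refine ⟨⟨⟨Finset.subset_univ _, ?_⟩, ?_⟩, ?_⟩
    · rw [← hc, ty_apply]
    · have h1 := ty_comp n (fun i => if i = i₀ then o else i) c
      rw [mapDomain_upd, hc] at h1
      exact h1
    · intro i hi
      rw [Finset.mem_filter] at hi
      show (if c i = i₀ then o else c i) = o
      rw [if_pos hi.2]
  · intro c₁ _ c₂ _ h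
    rw [Prod.mk.injEq] at h
    obtain ⟨hf, hg⟩ := h
    funext i
    have hfi : c₁ i = i₀ ↔ c₂ i = i₀ := by
      have h1 := Finset.ext_iff.mp hf i
      simpa only [Finset.mem_filter, Finset.mem_univ, true_and] using h1
    have hgi : (if c₁ i = i₀ then o else c₁ i) = (if c₂ i = i₀ then o else c₂ i) :=
      congrFun hg i
    by_cases h1 : c₁ i = i₀
    · rw [h1, hfi.mp h1]
    · have h2 : ¬ c₂ i = i₀ := fun h => h1 (hfi.mpr h)
      rw [if_neg h1, if_neg h2] at hgi
      exact hgi
  · rintro ⟨S, c'⟩ hq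
    rw [Finset.mem_filter, Finset.mem_product, Finset.mem_powersetCard, mem_fib] at hq
    obtain ⟨⟨⟨_, hcard⟩, hty⟩, htop⟩ := hq
    have hcard' : S.card = k i₀ := hcard
    have hty' : ty c' = k.erase i₀ + Finsupp.single o (k i₀) := hty
    have htop' : ∀ i ∈ S, c' i = o := htop
    have hne' : ∀ i, c' i ≠ i₀ := by
      intro i h
      have h1 : c' i ∈ (ty c').support := (mem_support_ty c' (c' i)).mpr ⟨i, rfl⟩
      rw [hty', h, Finsupp.mem_support_iff] at h1
      apply h1
      rw [Finsupp.add_apply, Finsupp.erase_same, Finsupp.single_eq_of_ne hne, add_zero]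
    obtain ⟨c, hc⟩ : ∃ c : Fin n → I, c = fun i => if i ∈ S then i₀ else c' i := ⟨_, rfl⟩
    have hcS : ∀ i, i ∈ S → c i = i₀ := fun i hi => by rw [hc]; exact if_pos hi
    have hcnS : ∀ i, i ∉ S → c i = c' i := fun i hi => by rw [hc]; exact if_neg hi
    have hgc : (fun i => if c i = i₀ then o else c i) = c' := by
      funext i
      by_cases hiS : i ∈ S
      · rw [if_pos (hcS i hiS)]
        exact (htop' i hiS).symm
      · rw [hcnS i hiS, if_neg (hne' i)]
    have hfilt : Finset.univ.filter (fun i => c i = i₀) = S := by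
      ext i
      rw [Finset.mem_filter]
      constructor
      · rintro ⟨_, h⟩
        by_contra hiS
        rw [hcnS i hiS] at h
        exact hne' i h
      · intro hiS
        exact ⟨Finset.mem_univ _, hcS i hiS⟩
    have htyc : ty c = k := by
      have e1 : Finsupp.mapDomain (fun i => if i = i₀ then o else i) (ty c) =
          k.erase i₀ + Finsupp.single o (k i₀) := by
        rw [← ty_comp]
        show ty (fun j => if c j = i₀ then o else c j) = _
        rw [hgc, hty']
      have e2 : ty c i₀ = k i₀ := by rw [ty_apply, hfilt, hcard']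
      rw [mapDomain_upd, e2] at e1
      have e3 : (ty c).erase i₀ = k.erase i₀ := add_right_cancel e1
      rw [← Finsupp.erase_add_single i₀ (ty c), e3, e2, Finsupp.erase_add_single]
    refine ⟨c, mem_fib.mpr htyc, ?_⟩
    rw [hfilt, hgc]
  · intro c _
    congr 1
    funext i
    by_cases h : c i = i₀
    · have h1 : i ∈ Finset.univ.filter (fun i => c i = i₀) :=
        Finset.mem_filter.mpr ⟨Finset.mem_univ _, h⟩
      show m (c i) = (if i ∈ Finset.univ.filter (fun i => c i = i₀) then m i₀ else 1) *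
        m (if c i = i₀ then o else c i)
      rw [if_pos h1, if_pos h, hmo, mul_one, h]
    · have h1 : i ∉ Finset.univ.filter (fun i => c i = i₀) := fun hmem =>
        h (Finset.mem_filter.mp hmem).2
      show m (c i) = (if i ∈ Finset.univ.filter (fun i => c i = i₀) then m i₀ else 1) *
        m (if c i = i₀ then o else c i)
      rw [if_neg h1, if_neg h, one_mul]

open Classical in
lemma step (𝒜 : Subalgebra R (⨂[R] _ : Fin n, A)) (m : I → A) (o i₀ : I) (hne : i₀ ≠ o)
    (hmo : m o = 1) (k : I →₀ ℕ) (hsig : sig R n (m i₀) (k i₀) ∈ 𝒜)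
    (hk' : Em0 R n m (k.erase i₀ + Finsupp.single o (k i₀)) ∈ 𝒜)
    (hlow : ∀ (S : Finset (Fin n)) (c : Fin n → I), S.card = k i₀ →
      ty c = k.erase i₀ + Finsupp.single o (k i₀) → (∃ i ∈ S, c i ≠ o) →
      Em0 R n (μ (m i₀) m) (ty (Φ n (S, c))) ∈ 𝒜) :
    Em0 R n m k ∈ 𝒜 := by
  have hprod := sig_mul_Em0 R n (m i₀) (k i₀) m (k.erase i₀ + Finsupp.single o (k i₀))
  rw [← Finset.sum_filter_add_sum_filter_not _ (fun q => ∀ i ∈ q.1, q.2 i = o),
    top_sum R n m o i₀ hne hmo k] at hprod
  have hl := low_sum_mem R n 𝒜 (m i₀) m o (k i₀) (k.erase i₀ + Finsupp.single o (k i₀)) hlow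
  have h2 := eq_sub_of_add_eq hprod.symm
  rw [h2]
  exact 𝒜.sub_mem (𝒜.mul_mem hsig hk') hl

theorem Em0_mem (𝒜 : Subalgebra R (⨂[R] _ : Fin n, A))
    (h𝒜 : ∀ (a : A) (j : ℕ), sig R n a j ∈ 𝒜) :
    ∀ (D : ℕ) (I : Type u) (m : I → A) (o : I) (k : I →₀ ℕ), m o = 1 → n ≤ k o + D →
      Em0 R n m k ∈ 𝒜 := by
  classical
  intro D
  induction D using Nat.strong_induction_on with
  | _ D ih =>
    intro I m o k hmo hD
    by_cases hfib : fib n k = ∅
    · unfold Em0
      rw [hfib, Finset.sum_empty]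
      exact 𝒜.zero_mem
    obtain ⟨c₀, hc₀⟩ := Finset.nonempty_iff_ne_empty.mpr hfib
    rw [mem_fib] at hc₀
    by_cases hex : ∃ i₀, i₀ ≠ o ∧ k i₀ ≠ 0
    · obtain ⟨i₀, hi₀, hk₀⟩ := hex
      have hle : k o + k i₀ ≤ n := by
        rw [← hc₀]
        exact two_le n c₀ (Ne.symm hi₀)
      have hk'o : (k.erase i₀ + Finsupp.single o (k i₀)) o = k o + k i₀ := by
        rw [Finsupp.add_apply, Finsupp.erase_ne (Ne.symm hi₀), Finsupp.single_eq_same]
      apply step R n 𝒜 m o i₀ hi₀ hmo k (h𝒜 _ _)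
      · apply ih (D - k i₀) (by omega) I m o _ hmo
        rw [hk'o]
        omega
      · intro S c hS hc hlow
        apply ih (D - 1) (by omega) (Bool × I) (μ (m i₀) m) (false, o) _
        · show (if false = true then m i₀ else 1) * m o = 1
          rw [if_neg (by decide), hmo, mul_one]
        · have hb := low_bound n S c o hlow
          rw [hc, hk'o, hS] at hb
          omega
    · have hall : ∀ c ∈ fib n k, ∀ i, c i = o := by
        intro c hc i
        by_contra hne
        apply hex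
        refine ⟨c i, hne, ?_⟩
        rw [mem_fib] at hc
        rw [← Finsupp.mem_support_iff, ← hc, mem_support_ty]
        exact ⟨i, rfl⟩
      unfold Em0
      refine Subalgebra.sum_mem _ (fun c hc => ?_)
      have h1 : (fun j => m (c j)) = (1 : Fin n → A) := by
        funext j
        rw [hall c hc j, hmo]
        rfl
      rw [h1, ← PiTensorProduct.one_def]
      exact 𝒜.one_mem

/-- for flat `A`, a subalgebra containing the elementary symmetric tensors contains all symmetric
tensors. -/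
theorem TS_le [Module.Flat R A] (𝒜 : Subalgebra R (⨂[R] _ : Fin n, A))
    (h𝒜 : ∀ (a : A) (j : ℕ), sig R n a j ∈ 𝒜) : SymTen.TS R A n ≤ 𝒜 := by
  intro z hz
  obtain ⟨r, x, u, hu⟩ := exists_TSm_eq n (⟨z, hz⟩ : SymTen.TS R A n)
  have hu' : u ∈ Submodule.span R (Set.range (E' (eb R r) n)) := by
    rw [span_E']
    exact Submodule.mem_top
  have key : Submodule.span R (Set.range (E' (eb R r) n)) ≤
      (Subalgebra.toSubmodule 𝒜).comap ((SymTen.TS R A n).val.toLinearMap ∘ₗ TSm n x) := by
    rw [Submodule.span_le]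
    rintro _ ⟨κ, rfl⟩
    show ((TSm n x (E' (eb R r) n κ) : SymTen.TS R A n) : ⨂[R] _ : Fin n, A) ∈ 𝒜
    rw [E'_eq_Em, TSm_Em]
    show Em0 R n (fun i => x (eb R r i)) κ ∈ 𝒜
    have h1 := Em0_mapDomain R n (some : ULift.{u} (Fin r) → Option (ULift.{u} (Fin r)))
      (Option.some_injective _)
      (fun i : Option (ULift.{u} (Fin r)) => i.elim (1 : A) (fun i => x (eb R r i))) κ
    have h2 : Em0 R n (fun i => x (eb R r i)) κ =
        Em0 R n (fun i : Option (ULift.{u} (Fin r)) => i.elim (1 : A) (fun i => x (eb R r i)))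
          (Finsupp.mapDomain some κ) := h1.symm
    rw [h2]
    exact Em0_mem R n 𝒜 h𝒜 n _ _ none _ rfl (Nat.le_add_left _ _)
  have h3 := key hu'
  have h4 : ((TSm n x u : SymTen.TS R A n) : ⨂[R] _ : Fin n, A) ∈ 𝒜 := h3
  rw [hu] at h4
  exact h4

end alg

end Groth.Agent.Lib.Helper24.TSSig
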