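import Groth.Prelude.Def_W4c3tautjacobianRel
import Mathlib

/-!
# sl₂-type commutation relations in the formal relation ring (Polishchuk)

`D1` is the Euler derivation for the first degree.  We prove
`[F, E] = g - D1`, `[D1, F] = -2 F`, `[D1, E] = 2 E` and deduce
`F^{g+1} (E β) = 0` for `β` bihomogeneous of bidegree `(2g, n)`.
-/

namespace Groth.Agent.Lib.Helper24.TautSl2

open MvPolynomial W4c3tautjacobian

variable (g : ℕ)

/-- `dv` as a derivation. -/
noncomputable def dvD (p : ℕ × ℕ) : Derivation ℚ (RelRing g) (RelRing g) :=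
  if h : Valid g p then MvPolynomial.pderiv (some ⟨p, h⟩) else 0

lemma dv_eq (p : ℕ × ℕ) (P : RelRing g) : dv g p P = dvD g p P := by
  unfold dv dvD
  split_ifs <;> rfl

/-- Euler derivation for the first degree. -/
noncomputable def D1 : Derivation ℚ (RelRing g) (RelRing g) :=
  MvPolynomial.mkDerivation ℚ (fun v => ((wt g v).1 : ℚ) • (X v : RelRing g))

lemma D1_X (v : Var g) : D1 g (X v) = ((wt g v).1 : ℚ) • (X v : RelRing g) := by
  simp [D1, mkDerivation_X]

lemma D1_y : D1 g (X none) = 0 := by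
  rw [D1_X]; simp [wt]

lemma D1_xv (i j : ℤ) : D1 g (xv g i j) = (i : ℚ) • xv g i j := by
  unfold xv
  split_ifs with h0 h1
  · rw [Derivation.map_natCast, h0.1]; simp
  · rw [D1_X]
    have : ((wt g (some ⟨(i.toNat, j.toNat), h1.2.2⟩)).1 : ℚ) = (i : ℚ) := by
      show ((i.toNat : ℕ) : ℚ) = (i : ℚ)
      have := Int.toNat_of_nonneg h1.1
      exact_mod_cast congrArg (Int.cast (R := ℚ)) this
    rw [this]
  · simp

lemma xv_neg (i j : ℤ) (hj : j < 0) : xv g i j = 0 := by
  unfold xv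
  rw [if_neg (by intro h; omega), dif_neg (by intro h; omega)]

lemma xv_nat (r : ℕ × ℕ) (hr : Valid g r) :
    xv g (r.1 : ℤ) (r.2 : ℤ) = X (some ⟨r, hr⟩) := by
  unfold xv
  have h0 : ¬ ((r.1 : ℤ) = 0 ∧ (r.2 : ℤ) = 0) := by
    rintro ⟨a, b⟩
    apply hr.2.2.2
    ext
    · exact_mod_cast a
    · exact_mod_cast b
  rw [if_neg h0, dif_pos ⟨by positivity, by positivity, by simpa using hr⟩]
  simp

lemma valid20 (hg : 1 ≤ g) : Valid g (2, 0) := by
  refine ⟨by simp, by simp; omega, by simp, by simp⟩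

lemma xv20 (hg : 1 ≤ g) : xv g 2 0 = X (some ⟨(2, 0), valid20 g hg⟩) := by
  have := xv_nat g (2, 0) (valid20 g hg)
  simpa using this

lemma mem_idx (r : ℕ × ℕ) (hr : Valid g r) : r ∈ idx g := by
  obtain ⟨h1, h2, -, -⟩ := hr
  simp only [idx, Finset.mem_product, Finset.mem_range]
  omega

lemma dvD_X_some (r : ℕ × ℕ) (hr : Valid g r) (p : ℕ × ℕ) :
    dvD g p (X (some ⟨r, hr⟩) : RelRing g) = if p = r then 1 else 0 := by
  classical
  unfold dvD
  split_ifs with h hp hp
  · subst hp; exact pderiv_X_self _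
  · apply pderiv_X_of_ne
    intro e
    apply hp
    have := Option.some.inj e
    exact (congrArg Subtype.val this).symm
  · exact absurd (hp ▸ hr) h
  · rfl

lemma dvD_X_none (p : ℕ × ℕ) : dvD g p (X none : RelRing g) = 0 := by
  classical
  unfold dvD
  split_ifs with h
  · apply pderiv_X_of_ne
    simp
  · rfl

lemma D1_dvD (p : ℕ × ℕ) (P : RelRing g) :
    D1 g (dvD g p P) = dvD g p (D1 g P) - (p.1 : ℚ) • dvD g p P := by
  classical
  unfold dvD
  split_ifs with h
  · have key : ⁅D1 g, (pderiv (some ⟨p, h⟩) : Derivation ℚ (RelRing g) (RelRing g))⁆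
        = (-(p.1 : ℚ)) • (pderiv (some ⟨p, h⟩) : Derivation ℚ (RelRing g) (RelRing g)) := by
      apply MvPolynomial.derivation_ext
      intro w
      simp only [Derivation.commutator_apply, Derivation.smul_apply, pderiv_X, D1_X,
        Derivation.map_smul]
      by_cases hw : w = some ⟨p, h⟩
      · subst hw; simp [wt]
      · have h0 : Pi.single (M := fun _ => RelRing g) (some ⟨p, h⟩) (1 : RelRing g) w = 0 :=
          Pi.single_eq_of_ne hw _
        simp [h0]
    have h2 := DFunLike.congr_fun key P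
    rw [Derivation.commutator_apply, Derivation.smul_apply] at h2
    have h3 := sub_eq_iff_eq_add.mp h2
    rw [h3]; module
  · simp

lemma sum_D1 (P : RelRing g) :
    ∑ p ∈ idx g, ((p.1 : RelRing g) * xv g p.1 p.2 * dvD g p P) = D1 g P := by
  classical
  induction P using MvPolynomial.induction_on with
  | C a => simp [MvPolynomial.derivation_C]
  | add P Q hP hQ => simp only [map_add, mul_add, Finset.sum_add_distrib, hP, hQ]
  | mul_X P w hP =>
    have hX : ∑ p ∈ idx g, ((p.1 : RelRing g) * xv g p.1 p.2 * dvD g p (X w)) = D1 g (X w) := by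
      rcases w with _ | ⟨r, hr⟩
      · simp only [dvD_X_none, mul_zero, Finset.sum_const_zero]
        exact (D1_y g).symm
      · simp only [dvD_X_some, mul_ite, mul_one, mul_zero]
        rw [Finset.sum_ite_eq' (idx g) r, if_pos (mem_idx g r hr), xv_nat g r hr, D1_X]
        show _ = ((r.1 : ℕ) : ℚ) • _
        rw [Nat.cast_smul_eq_nsmul, nsmul_eq_mul]
    rw [Derivation.leibniz, ← hP, ← hX]
    simp only [Derivation.leibniz, smul_eq_mul, Finset.mul_sum, ← Finset.sum_add_distrib]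
    apply Finset.sum_congr rfl
    intro p _
    ring

/-- quadratic coefficient of `F`. -/
noncomputable def cc (p q : ℕ × ℕ) : RelRing g :=
  MvPolynomial.X none * xv g ((p.1 : ℤ) - 1) ((p.2 : ℤ) - 1)
          * xv g ((q.1 : ℤ) - 1) ((q.2 : ℤ) - 1)
        - (mergeCoeff p.1 q.1 : RelRing g) * xv g ((p.1 : ℤ) + q.1 - 2) ((p.2 : ℤ) + q.2)

/-- linear coefficient of `F`. -/
noncomputable def bb (p : ℕ × ℕ) : RelRing g := xv g ((p.1 : ℤ) - 2) (p.2 : ℤ)

lemma F_eq (P : RelRing g) : F g P =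
    (1 / 2 : ℚ) • (∑ p ∈ idx g, ∑ q ∈ idx g, cc g p q * dvD g p (dvD g q P))
    + ∑ p ∈ idx g, bb g p * dvD g p P := by
  simp only [F, dv_eq, cc, bb]

lemma F_add (P Q : RelRing g) : F g (P + Q) = F g P + F g Q := by
  simp only [F_eq, map_add, mul_add, Finset.sum_add_distrib, smul_add]
  abel

lemma F_smul (a : ℚ) (P : RelRing g) : F g (a • P) = a • F g P := by
  simp only [F_eq, Derivation.map_smul, mul_smul_comm, ← Finset.smul_sum, smul_add]
  module

lemma mc_two_left (k : ℕ) : mergeCoeff 2 k = k := by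
  unfold mergeCoeff
  by_cases hk : k = 0
  · simp [hk]
  · rw [if_neg (by simp [hk])]
    simp

lemma mc_two_right (k : ℕ) : mergeCoeff k 2 = k := by
  unfold mergeCoeff
  by_cases hk : k = 0
  · simp [hk]
  · rw [if_neg (by simp [hk])]
    obtain ⟨n, rfl⟩ := Nat.exists_eq_succ_of_ne_zero hk
    simp [Nat.choose_succ_self_right]

lemma cc_left (q : ℕ × ℕ) : cc g (2, 0) q = -((q.1 : RelRing g) * xv g q.1 q.2) := by
  have h1 : xv g (((2 : ℕ) : ℤ) - 1) (((0 : ℕ) : ℤ) - 1) = 0 := xv_neg g _ _ (by norm_num)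
  have h2 : ((2 : ℕ) : ℤ) + (q.1 : ℤ) - 2 = q.1 := by push_cast; ring
  have h3 : ((0 : ℕ) : ℤ) + (q.2 : ℤ) = q.2 := by simp
  simp only [cc, h1, h2, h3, mc_two_left, mul_zero, zero_mul, zero_sub]

lemma cc_right (p : ℕ × ℕ) : cc g p (2, 0) = -((p.1 : RelRing g) * xv g p.1 p.2) := by
  have h1 : xv g (((2 : ℕ) : ℤ) - 1) (((0 : ℕ) : ℤ) - 1) = 0 := xv_neg g _ _ (by norm_num)
  have h2 : (p.1 : ℤ) + ((2 : ℕ) : ℤ) - 2 = p.1 := by push_cast; ring
  have h3 : (p.2 : ℤ) + ((0 : ℕ) : ℤ) = p.2 := by simp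
  simp only [cc, h1, h2, h3, mc_two_right, mul_zero, zero_sub]

lemma bb20 : bb g (2, 0) = (g : RelRing g) := by
  have h2 : ((2 : ℕ) : ℤ) - 2 = 0 := by norm_num
  simp only [bb, h2, Nat.cast_zero]
  unfold xv
  rw [if_pos ⟨rfl, rfl⟩]

lemma dvD_E (hv : Valid g (2, 0)) (p : ℕ × ℕ) (P : RelRing g) :
    dvD g p ((X (some ⟨(2, 0), hv⟩) : RelRing g) * P)
      = (X (some ⟨(2, 0), hv⟩) : RelRing g) * dvD g p P + (if p = (2, 0) then P else 0) := by
  rw [Derivation.leibniz, dvD_X_some]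
  split_ifs <;> simp [smul_eq_mul]

lemma F_E (hg : 1 ≤ g) (P : RelRing g) :
    F g (E g P) = E g (F g P) + (g : ℚ) • P - D1 g P := by
  classical
  have hv := valid20 g hg
  have hmem : ((2, 0) : ℕ × ℕ) ∈ idx g := mem_idx g _ hv
  unfold E
  rw [xv20 g hg]
  set x : RelRing g := X (some ⟨(2, 0), hv⟩) with hx
  have h2 : ∀ p q, cc g p q * dvD g p (dvD g q (x * P))
      = x * (cc g p q * dvD g p (dvD g q P))
        + (if p = (2, 0) then cc g (2, 0) q * dvD g q P else 0)
        + (if q = (2, 0) then cc g p (2, 0) * dvD g p P else 0) := by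
    intro p q
    rw [hx, dvD_E, map_add, dvD_E]
    by_cases h1 : p = (2, 0) <;> by_cases h2 : q = (2, 0) <;> simp [h1, h2] <;> ring
  have h1 : ∀ p, bb g p * dvD g p (x * P)
      = x * (bb g p * dvD g p P) + (if p = (2, 0) then bb g (2, 0) * P else 0) := by
    intro p
    rw [hx, dvD_E]
    by_cases h1 : p = (2, 0) <;> simp [h1] <;> ring
  rw [F_eq, F_eq]
  simp only [h1, h2, Finset.sum_add_distrib, ← Finset.mul_sum]
  rw [Finset.sum_comm (f := fun p q => if p = (2, 0) then cc g (2, 0) q * dvD g q P else 0)]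
  simp only [Finset.sum_ite_eq', hmem, if_true, cc_left, cc_right, bb20]
  have hT := sum_D1 g P
  set S2 := ∑ p ∈ idx g, ∑ q ∈ idx g, cc g p q * dvD g p (dvD g q P)
  set S1 := ∑ p ∈ idx g, bb g p * dvD g p P
  have hT' : ∑ p ∈ idx g, -((p.1 : RelRing g) * xv g p.1 p.2) * dvD g p P = - D1 g P := by
    rw [← hT, ← Finset.sum_neg_distrib]
    apply Finset.sum_congr rfl
    intro p _; ring
  rw [hT']
  have e1 : (1 / 2 : ℚ) • (x * S2 + -D1 g P + -D1 g P) = x * ((1 / 2 : ℚ) • S2) - D1 g P := by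
    rw [mul_smul_comm]; module
  rw [e1, Nat.cast_smul_eq_nsmul ℚ g P, nsmul_eq_mul]
  ring

lemma D1_cc (p q : ℕ × ℕ) : D1 g (cc g p q) = ((p.1 : ℚ) + q.1 - 2) • cc g p q := by
  simp only [cc, map_sub, Derivation.leibniz, D1_xv, D1_y, Derivation.map_natCast, smul_eq_mul,
    smul_eq_C_mul]
  push_cast
  simp only [map_sub, map_add, map_one, map_ofNat]
  ring

lemma D1_bb (p : ℕ × ℕ) : D1 g (bb g p) = ((p.1 : ℚ) - 2) • bb g p := by
  simp only [bb, D1_xv]
  push_cast
  rfl

lemma term2 (p q : ℕ × ℕ) (P : RelRing g) :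
    D1 g (cc g p q * dvD g p (dvD g q P))
      = cc g p q * dvD g p (dvD g q (D1 g P)) - (2 : ℚ) • (cc g p q * dvD g p (dvD g q P)) := by
  rw [Derivation.leibniz, D1_cc, D1_dvD, D1_dvD, map_sub, Derivation.map_smul]
  simp only [smul_eq_C_mul, smul_eq_mul, map_sub, map_add, map_ofNat]
  ring

lemma term1 (p : ℕ × ℕ) (P : RelRing g) :
    D1 g (bb g p * dvD g p P)
      = bb g p * dvD g p (D1 g P) - (2 : ℚ) • (bb g p * dvD g p P) := by
  rw [Derivation.leibniz, D1_bb, D1_dvD]
  simp only [smul_eq_C_mul, smul_eq_mul, map_sub, map_ofNat]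
  ring

lemma D1_F (P : RelRing g) : D1 g (F g P) = F g (D1 g P) - (2 : ℚ) • F g P := by
  rw [F_eq, F_eq]
  simp only [map_add, Derivation.map_smul, map_sum, term1, term2, Finset.sum_sub_distrib,
    ← Finset.smul_sum]
  module

lemma D1_E (P : RelRing g) : D1 g (E g P) = E g (D1 g P) + (2 : ℚ) • E g P := by
  simp only [E, Derivation.leibniz, D1_xv, smul_eq_mul]
  push_cast
  rw [mul_smul_comm, mul_comm P]

lemma F_zero : F g 0 = 0 := by
  have := F_smul g 0 0
  simpa using this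

lemma D1_iter (P : RelRing g) (m : ℚ) (hP : D1 g P = m • P) (k : ℕ) :
    D1 g ((F g)^[k] P) = (m - 2 * k) • (F g)^[k] P := by
  induction k with
  | zero => simp [hP]
  | succ k ih =>
    rw [Function.iterate_succ_apply', D1_F, ih, F_smul, ← sub_smul]
    congr 1; push_cast; ring

lemma main_comm (hg : 1 ≤ g) (P : RelRing g) (m : ℚ) (hP : D1 g P = m • P) (k : ℕ) :
    (F g)^[k + 1] (E g P)
      = E g ((F g)^[k + 1] P) + (((k : ℚ) + 1) * (g - m + k)) • (F g)^[k] P := by
  induction k with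
  | zero =>
    simp only [Function.iterate_succ, Function.iterate_zero, Function.comp_apply, id_eq]
    rw [F_E g hg, hP]; push_cast; module
  | succ k ih =>
    rw [Function.iterate_succ_apply' (F g) (k + 1), ih, F_add, F_smul,
      ← Function.iterate_succ_apply' (F g) k P, F_E g hg, D1_iter g P m hP (k + 1),
      ← Function.iterate_succ_apply' (F g) (k + 1) P]
    push_cast; module

lemma D1_monomial (e : Var g →₀ ℕ) : ∀ c : ℚ,
    D1 g (monomial e c) = ((Finsupp.weight (wt g) e).1 : ℚ) • monomial e c := by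
  induction e using Finsupp.induction with
  | zero => intro c; simp [MvPolynomial.derivation_C]
  | single_add i k f hi hk ih =>
    intro c
    have h1 : (monomial (Finsupp.single i k + f) c : RelRing g) = X i ^ k * monomial f c := by
      rw [add_comm, monomial_add_single, mul_comm]
    obtain ⟨n, rfl⟩ := Nat.exists_eq_succ_of_ne_zero hk
    have hw : (Finsupp.weight (wt g) (Finsupp.single i (Nat.succ n) + f)).1
        = (n + 1) * (wt g i).1 + (Finsupp.weight (wt g) f).1 := by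
      simp only [map_add, Finsupp.weight_single, Prod.fst_add, Prod.smul_fst, smul_eq_mul,
        Nat.succ_eq_add_one]
    rw [h1, Derivation.leibniz, ih, Derivation.leibniz_pow, D1_X, hw]
    simp only [Nat.succ_sub_one, smul_eq_mul, smul_eq_C_mul,
      nsmul_eq_mul, Nat.succ_eq_add_one]
    push_cast
    simp only [map_add, map_mul, map_natCast, map_one]
    ring

lemma coeff_D1 (P : RelRing g) (d : Var g →₀ ℕ) :
    coeff d (D1 g P) = ((Finsupp.weight (wt g) d).1 : ℚ) * coeff d P := by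
  classical
  induction P using MvPolynomial.induction_on' with
  | monomial e c =>
    rw [D1_monomial, coeff_smul, smul_eq_mul, coeff_monomial]
    by_cases h : e = d
    · subst h; simp
    · simp [h]
  | add P Q hP hQ => rw [map_add, coeff_add, coeff_add, hP, hQ, mul_add]

lemma D1_of_homog (β : RelRing g) (m : ℕ × ℕ)
    (hβ : MvPolynomial.IsWeightedHomogeneous (wt g) β m) : D1 g β = (m.1 : ℚ) • β := by
  ext d
  rw [coeff_D1, coeff_smul, smul_eq_mul]
  by_cases h : coeff d β = 0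
  · simp [h]
  · rw [hβ h]

lemma eigen_neg (Q : RelRing g) (c : ℚ) (hc : c < 0) (h : D1 g Q = c • Q) : Q = 0 := by
  ext d
  have h1 := congrArg (coeff d) h
  rw [coeff_D1, coeff_smul, smul_eq_mul] at h1
  have hw : (0 : ℚ) ≤ ((Finsupp.weight (wt g) d).1 : ℚ) := Nat.cast_nonneg _
  have h2 : (((Finsupp.weight (wt g) d).1 : ℚ) - c) * coeff d Q = 0 := by
    rw [sub_mul]; linarith
  rcases mul_eq_zero.mp h2 with h3 | h3
  · exfalso; linarith
  · simpa using h3

theorem main (hg : 1 ≤ g) (n : ℕ) (β : RelRing g)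
    (hβ : MvPolynomial.IsWeightedHomogeneous (wt g) β ((2 * g, n) : ℕ × ℕ)) :
    (F g)^[g + 1] (E g β) = 0 := by
  have h1 : D1 g β = (((2 * g : ℕ)) : ℚ) • β := D1_of_homog g β _ hβ
  have h2 := main_comm g hg β _ h1 g
  have h3 : (F g)^[g + 1] β = 0 := by
    apply eigen_neg g _ (-2) (by norm_num)
    rw [D1_iter g β _ h1 (g + 1)]
    congr 1; push_cast; ring
  have h4 : ((g : ℚ) + 1) * ((g : ℚ) - ((2 * g : ℕ) : ℚ) + g) = 0 := by push_cast; ring
  rw [h2, h3, h4, zero_smul, add_zero]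
  simp [E]

end Groth.Agent.Lib.Helper24.TautSl2
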