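import Mathlib

/-!
# The third isomorphism theorem as a short exact sequence in an abelian category

For monomorphisms `c : A ⟶ B`, `b : B ⟶ O` with cokernels `Q₁ = B/A`, `Q₂ = O/A`, `Q₃ = O/B`
there is a short exact sequence `0 → Q₁ → Q₂ → Q₃ → 0`.
-/

set_option autoImplicit false
set_option maxHeartbeats 400000
set_option linter.style.haveILetI false
set_option linter.unusedSectionVars false
set_option linter.unusedVariables false

universe v u
open CategoryTheory CategoryTheory.Limits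

namespace Groth.Agent.Lib.Helper24.ThirdIso

theorem exists_shortExact_of_comp {C : Type u} [Category.{v} C] [Abelian C] {A B O Q₁ Q₂ Q₃ : C}
    (c : A ⟶ B) (b : B ⟶ O) (q₁ : B ⟶ Q₁) (q₂ : O ⟶ Q₂) (q₃ : O ⟶ Q₃)
    (w₁ : c ≫ q₁ = 0) (w₂ : (c ≫ b) ≫ q₂ = 0) (w₃ : b ≫ q₃ = 0)
    (h₁ : (ShortComplex.mk c q₁ w₁).ShortExact) (h₂ : (ShortComplex.mk (c ≫ b) q₂ w₂).ShortExact)
    (h₃ : (ShortComplex.mk b q₃ w₃).ShortExact) :
    ∃ (f : Q₁ ⟶ Q₂) (g : Q₂ ⟶ Q₃) (w : f ≫ g = 0), (ShortComplex.mk f g w).ShortExact := by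
  haveI : Epi q₁ := h₁.epi_g
  haveI : Epi q₂ := h₂.epi_g
  haveI : Epi q₃ := h₃.epi_g
  haveI : Mono b := h₃.mono_f
  haveI : Epi (ShortComplex.mk c q₁ w₁).g := h₁.epi_g
  haveI : Epi (ShortComplex.mk (c ≫ b) q₂ w₂).g := h₂.epi_g
  have hk₁ : (ShortComplex.mk c q₁ w₁).f ≫ (b ≫ q₂) = 0 := by
    change c ≫ b ≫ q₂ = 0
    rw [← Category.assoc]; exact w₂
  have hk₂ : (ShortComplex.mk (c ≫ b) q₂ w₂).f ≫ q₃ = 0 := by
    change (c ≫ b) ≫ q₃ = 0
    rw [Category.assoc, w₃, comp_zero]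
  let f : Q₁ ⟶ Q₂ := h₁.exact.desc (b ≫ q₂) hk₁
  let g : Q₂ ⟶ Q₃ := h₂.exact.desc q₃ hk₂
  have hf : q₁ ≫ f = b ≫ q₂ := h₁.exact.g_desc (b ≫ q₂) hk₁
  have hg : q₂ ≫ g = q₃ := h₂.exact.g_desc q₃ hk₂
  have w : f ≫ g = 0 := by
    rw [← cancel_epi q₁, ← Category.assoc, hf, Category.assoc, hg, w₃, comp_zero]
  refine ⟨f, g, w, ?_⟩
  have hepi : Epi g := epi_of_epi_fac hg
  have hmono : Mono f := by
    apply Preadditive.mono_of_cancel_zero
    intro T x hx
    obtain ⟨T', π, hπ, y, hy⟩ := surjective_up_to_refinements_of_epi q₁ x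
    have h1 : (y ≫ b) ≫ q₂ = 0 := by
      rw [Category.assoc, ← hf, ← Category.assoc, ← hy, Category.assoc, hx, comp_zero]
    obtain ⟨T'', π', hπ', z, hz⟩ := h₂.exact.exact_up_to_refinements (y ≫ b) h1
    have h2 : π' ≫ y = z ≫ c := by
      rw [← cancel_mono b, Category.assoc, Category.assoc]
      exact hz
    haveI : Epi (π' ≫ π) := epi_comp π' π
    rw [← cancel_epi (π' ≫ π), comp_zero, Category.assoc, hy, ← Category.assoc, h2,
      Category.assoc, w₁, comp_zero]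
  have hexact : (ShortComplex.mk f g w).Exact := by
    rw [ShortComplex.exact_iff_exact_up_to_refinements]
    intro T x₂ hx₂
    change x₂ ≫ g = 0 at hx₂
    obtain ⟨T', π, hπ, y, hy⟩ := surjective_up_to_refinements_of_epi q₂ x₂
    have h1 : y ≫ q₃ = 0 := by
      rw [← hg, ← Category.assoc, ← hy, Category.assoc, hx₂, comp_zero]
    obtain ⟨T'', π', hπ', z, hz⟩ := h₃.exact.exact_up_to_refinements y h1
    change π' ≫ y = z ≫ b at hz
    haveI : Epi (π' ≫ π) := epi_comp π' π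
    refine ⟨T'', π' ≫ π, inferInstance, z ≫ q₁, ?_⟩
    change (π' ≫ π) ≫ x₂ = (z ≫ q₁) ≫ f
    rw [Category.assoc, hy, ← Category.assoc, hz, Category.assoc, Category.assoc, hf]
  exact ShortComplex.ShortExact.mk' hexact hmono hepi

end Groth.Agent.Lib.Helper24.ThirdIso
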