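import Mathlib

/-!
# TruncRKE (helper24): right Kan extension from `(n+1)`- to `(n+2)`-truncated simplicial objects
via the matching object.
-/

set_option autoImplicit false
set_option maxHeartbeats 400000
set_option linter.style.haveILetI false
set_option linter.unusedSectionVars false
set_option linter.unusedVariables false

universe v u
open CategoryTheory Limits Opposite SimplexCategory

namespace Groth.Agent.Lib.Helper24.TruncRKE

noncomputable section

variable {C : Type u} [Category.{v} C] (n : ℕ)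

abbrev ιn : SimplexCategory.Truncated (n + 1) ⥤ SimplexCategory.Truncated (n + 2) :=
  SimplexCategory.Truncated.incl (n + 1) (n + 2) (Nat.le_succ _)

abbrev top1 : SimplexCategory.Truncated (n + 1) :=
  ⟨SimplexCategory.mk (n + 1), (SimplexCategory.len_mk (n + 1)).le⟩

abbrev top2 : SimplexCategory.Truncated (n + 2) :=
  ⟨SimplexCategory.mk (n + 2), (SimplexCategory.len_mk (n + 2)).le⟩

abbrev mid1 : SimplexCategory.Truncated (n + 1) :=
  ⟨SimplexCategory.mk n, (SimplexCategory.len_mk n).trans_le (Nat.le_succ n)⟩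

/-- a morphism to the top object of `Truncated (n+1)`. -/
abbrev trTop {w : SimplexCategory} (hw : w.len ≤ n + 1) (a : w ⟶ SimplexCategory.mk (n + 1)) :
    (⟨w, hw⟩ : SimplexCategory.Truncated (n + 1)) ⟶ top1 n :=
  SimplexCategory.Truncated.Hom.tr a hw (SimplexCategory.len_mk (n + 1)).le

abbrev trMid {w : SimplexCategory} (hw : w.len ≤ n + 1) (c : w ⟶ SimplexCategory.mk n) :
    (⟨w, hw⟩ : SimplexCategory.Truncated (n + 1)) ⟶ mid1 n :=
  SimplexCategory.Truncated.Hom.tr c hw ((SimplexCategory.len_mk n).trans_le (Nat.le_succ n))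

abbrev δ1 (j : Fin (n + 2)) : mid1 n ⟶ top1 n :=
  SimplexCategory.Truncated.δ (n + 1) j ((SimplexCategory.len_mk n).trans_le (Nat.le_succ n))
    (SimplexCategory.len_mk (n + 1)).le

variable (U : (SimplexCategory.Truncated (n + 1))ᵒᵖ ⥤ C) {T : C}
  (π : Fin (n + 3) → (T ⟶ U.obj (op (top1 n))))

/-- the face relations -/
def Faces {S : C} (g : Fin (n + 3) → (S ⟶ U.obj (op (top1 n)))) : Prop :=
  ∀ i j : Fin (n + 2), i ≤ j →
    g (Fin.castSucc i) ≫ U.map (δ1 n j).op = g j.succ ≫ U.map (δ1 n i).op

variable {n U π}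

theorem key_lt (hπ : Faces n U π) {w : SimplexCategory} (hw : w.len ≤ n + 1)
    (i' j' : Fin (n + 2)) (H : i' ≤ j') (a b : w ⟶ SimplexCategory.mk (n + 1))
    (h : a ≫ SimplexCategory.δ (Fin.castSucc i') = b ≫ SimplexCategory.δ j'.succ) :
    π (Fin.castSucc i') ≫ U.map (trTop n hw a).op = π j'.succ ≫ U.map (trTop n hw b).op := by
  have h1 : ∀ x, a.toOrderHom x ≠ j' := by
    intro x hx
    have h2 := congrArg (fun f => f.toOrderHom x) h
    simp only [SimplexCategory.comp_toOrderHom, OrderHom.comp_coe, Function.comp_apply] at h2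
    rw [hx] at h2
    have h2' : (Fin.castSucc i').succAbove j' = (j'.succ).succAbove (b.toOrderHom x) := h2
    rw [Fin.succAbove_of_le_castSucc _ _ (Fin.castSucc_le_castSucc_iff.2 H)] at h2'
    exact Fin.succAbove_ne _ _ h2'.symm
  obtain ⟨c, rfl⟩ := SimplexCategory.eq_comp_δ_of_not_surjective' a j' h1
  have h3 : b = c ≫ SimplexCategory.δ i' := by
    rw [← cancel_mono (SimplexCategory.δ j'.succ), ← h, Category.assoc, Category.assoc,
      SimplexCategory.δ_comp_δ H]
  subst h3
  have e1 : trTop n hw (c ≫ SimplexCategory.δ j') = trMid n hw c ≫ δ1 n j' := rfl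
  have e2 : trTop n hw (c ≫ SimplexCategory.δ i') = trMid n hw c ≫ δ1 n i' := rfl
  rw [e1, e2, op_comp, op_comp, U.map_comp, U.map_comp, ← Category.assoc, ← Category.assoc,
    hπ i' j' H]

theorem key (hπ : Faces n U π) {w : SimplexCategory} (hw : w.len ≤ n + 1)
    (i j : Fin (n + 3)) (a b : w ⟶ SimplexCategory.mk (n + 1))
    (h : a ≫ SimplexCategory.δ i = b ≫ SimplexCategory.δ j) :
    π i ≫ U.map (trTop n hw a).op = π j ≫ U.map (trTop n hw b).op := by
  have aux : ∀ (i j : Fin (n + 3)) (a b : w ⟶ SimplexCategory.mk (n + 1)), i < j →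
      a ≫ SimplexCategory.δ i = b ≫ SimplexCategory.δ j →
      π i ≫ U.map (trTop n hw a).op = π j ≫ U.map (trTop n hw b).op := by
    intro i j a b hij h
    have hi : i ≠ Fin.last (n + 2) := Fin.ne_last_of_lt hij
    have hj : j ≠ 0 := Fin.ne_zero_of_lt hij
    obtain ⟨i', rfl⟩ : ∃ i' : Fin (n + 2), i = Fin.castSucc i' :=
      ⟨i.castPred hi, (Fin.castSucc_castPred i hi).symm⟩
    obtain ⟨j', rfl⟩ : ∃ j' : Fin (n + 2), j = j'.succ := ⟨j.pred hj, (Fin.succ_pred j hj).symm⟩
    exact key_lt hπ hw i' j' (Fin.castSucc_lt_succ_iff.1 hij) a b h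
  rcases lt_trichotomy i j with hij | rfl | hij
  · exact aux i j a b hij h
  · rw [(cancel_mono (SimplexCategory.δ i)).1 h]
  · exact (aux j i b a hij h.symm).symm

/-! ### the structured arrow category at the top object -/

variable (n U) in
abbrev SA := StructuredArrow (op (top2 n)) (ιn n).op

/-- the underlying map of simplices of an object of `SA`. -/
abbrev φ (A : SA n) : A.right.unop.obj ⟶ SimplexCategory.mk (n + 2) := A.hom.unop.hom

theorem φ_not_surjective (A : SA n) : ¬ Function.Surjective (φ A).toOrderHom := by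
  intro hs
  have h1 : Fintype.card (Fin (n + 2 + 1)) ≤ Fintype.card (Fin (A.right.unop.obj.len + 1)) :=
    Fintype.card_le_of_surjective _ hs
  rw [Fintype.card_fin, Fintype.card_fin] at h1
  have h2 : A.right.unop.obj.len ≤ n + 1 := A.right.unop.property
  omega

theorem fac (A : SA n) : ∃ (i : Fin (n + 3)) (a : A.right.unop.obj ⟶ SimplexCategory.mk (n + 1)),
    φ A = a ≫ SimplexCategory.δ i :=
  SimplexCategory.eq_comp_δ_of_not_surjective (φ A) (φ_not_surjective A)

def idx (A : SA n) : Fin (n + 3) := (fac A).choose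
def φ' (A : SA n) : A.right.unop.obj ⟶ SimplexCategory.mk (n + 1) := (fac A).choose_spec.choose
theorem φ_eq (A : SA n) : φ A = φ' A ≫ SimplexCategory.δ (idx A) := (fac A).choose_spec.choose_spec

variable (U π) in
def leg (A : SA n) : T ⟶ U.obj A.right :=
  π (idx A) ≫ U.map (trTop n A.right.unop.property (φ' A)).op

theorem leg_eq (hπ : Faces n U π) (A : SA n) (i : Fin (n + 3))
    (a : A.right.unop.obj ⟶ SimplexCategory.mk (n + 1)) (h : φ A = a ≫ SimplexCategory.δ i) :
    leg U π A = π i ≫ U.map (trTop n A.right.unop.property a).op :=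
  key hπ A.right.unop.property (idx A) i (φ' A) a ((φ_eq A).symm.trans h)

variable (U π) in
def coneT (hπ : Faces n U π) : Cone (StructuredArrow.proj (op (top2 n)) (ιn n).op ⋙ U) where
  pt := T
  π :=
    { app := fun A => leg U π A
      naturality := by
        intro A A' g
        have hw : φ A' = g.right.unop.hom ≫ φ A := by
          have h1 := StructuredArrow.w g
          have h2 := congrArg (fun f => f.unop.hom) h1
          exact h2.symm
        have h3 : φ A' = (g.right.unop.hom ≫ φ' A) ≫ SimplexCategory.δ (idx A) := by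
          rw [hw, φ_eq A, Category.assoc]
        show 𝟙 T ≫ leg U π A' = leg U π A ≫ U.map g.right
        rw [Category.id_comp, leg_eq hπ A' (idx A) (g.right.unop.hom ≫ φ' A) h3, leg,
          Category.assoc, ← U.map_comp]
        rfl }

/-- the object `δ k : [n+1] → [n+2]` of `SA`. -/
def Ak (k : Fin (n + 3)) : SA n :=
  StructuredArrow.mk (Y := op (top1 n))
    (SimplexCategory.Truncated.δ (n + 2) k ((SimplexCategory.len_mk (n + 1)).trans_le (Nat.le_succ (n + 1)))
      (SimplexCategory.len_mk (n + 2)).le).op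

theorem leg_Ak (hπ : Faces n U π) (k : Fin (n + 3)) : leg U π (Ak k) = π k := by
  have h := leg_eq hπ (Ak k) k
    (𝟙 (SimplexCategory.mk (n + 1)) : (Ak (n := n) k).right.unop.obj ⟶ SimplexCategory.mk (n + 1))
    (by
      show SimplexCategory.δ k = 𝟙 _ ≫ SimplexCategory.δ k
      rw [Category.id_comp])
  rw [h]
  show π k ≫ U.map (𝟙 (op (top1 n))) = π k
  rw [U.map_id, Category.comp_id]

/-- the legs at the `Ak` of any cone satisfy the face relations. -/
theorem faces_of_cone (s : Cone (StructuredArrow.proj (op (top2 n)) (ιn n).op ⋙ U)) :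
    Faces n U (fun k => s.π.app (Ak k)) := by
  intro i' j' H
  let B : SA n := StructuredArrow.mk (Y := op (mid1 n))
    (SimplexCategory.Truncated.Hom.tr (SimplexCategory.δ i' ≫ SimplexCategory.δ j'.succ)
      ((SimplexCategory.len_mk n).trans_le (by omega))
      (SimplexCategory.len_mk (n + 2)).le : (ιn n).obj (mid1 n) ⟶ top2 n).op
  let m₁ : Ak j'.succ ⟶ B := StructuredArrow.homMk (δ1 n i').op rfl
  let m₂ : Ak (Fin.castSucc i') ⟶ B := StructuredArrow.homMk (δ1 n j').op (by
    apply Quiver.Hom.unop_inj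
    apply SimplexCategory.Truncated.Hom.ext
    show ((SimplexCategory.δ j' ≫ SimplexCategory.δ (Fin.castSucc i'))).toOrderHom =
      (SimplexCategory.δ i' ≫ SimplexCategory.δ j'.succ).toOrderHom
    rw [SimplexCategory.δ_comp_δ H])
  have w₁ := s.w m₁
  have w₂ := s.w m₂
  show s.π.app (Ak (Fin.castSucc i')) ≫ U.map (δ1 n j').op =
    s.π.app (Ak j'.succ) ≫ U.map (δ1 n i').op
  exact w₂.trans w₁.symm

variable (U π) in
def isLimitT (hπ : Faces n U π)
    (huniv : ∀ (S : C) (g : Fin (n + 3) → (S ⟶ U.obj (op (top1 n)))), Faces n U g →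
      ∃! t : S ⟶ T, ∀ k : Fin (n + 3), t ≫ π k = g k) :
    IsLimit (coneT U π hπ) where
  lift s := (huniv s.pt (fun k => s.π.app (Ak k)) (faces_of_cone s)).exists.choose
  fac s A := by
    have h1 := (huniv s.pt (fun k => s.π.app (Ak k)) (faces_of_cone s)).exists.choose_spec
    let mA : Ak (idx A) ⟶ A :=
      StructuredArrow.homMk (trTop n A.right.unop.property (φ' A)).op (by
        apply Quiver.Hom.unop_inj
        apply SimplexCategory.Truncated.Hom.ext
        show (φ' A ≫ SimplexCategory.δ (idx A)).toOrderHom = (φ A).toOrderHom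
        rw [φ_eq A])
    have w := s.w mA
    show _ ≫ leg U π A = s.π.app A
    rw [leg, ← Category.assoc, h1 (idx A)]
    exact w
  uniq s m hm := by
    apply (huniv s.pt (fun k => s.π.app (Ak k)) (faces_of_cone s)).unique
    · intro k
      have h2 := hm (Ak k)
      have h3 : m ≫ leg U π (Ak k) = s.π.app (Ak k) := h2
      rwa [leg_Ak hπ k] at h3
    · exact (huniv s.pt (fun k => s.π.app (Ak k)) (faces_of_cone s)).exists.choose_spec

end

end Groth.Agent.Lib.Helper24.TruncRKE
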