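import Mathlib
import Groth.Prelude.Def_NonAbH1

/-! The torsor obtained by twisting the trivial torsor by a Čech 1-cocycle on a family of objects
covering the site. -/

set_option autoImplicit false
universe w' w v u

open CategoryTheory Opposite

namespace Groth.Agent.Lib.Helper24.TwistTorsor

variable {C : Type u} [Category.{v} C] {J : GrothendieckTopology C} (G : Sheaf J GrpCat.{w})
  {I : Type w'} (U : I → C) (γ : PresheafOfGroups.OneCocycle G.obj U)

/-- raw sections of the twisted torsor over `V`. -/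
@[ext]
structure Sec (V : C) where
  x : ∀ ⦃W : C⦄ (_ : W ⟶ V) (i : I) (_ : W ⟶ U i), G.obj.obj (op W)
  coc : ∀ ⦃W : C⦄ (h : W ⟶ V) (i j : I) (a : W ⟶ U i) (b : W ⟶ U j),
    x h j b = x h i a * γ.ev i j a b
  res : ∀ ⦃W' W : C⦄ (k : W' ⟶ W) (h : W ⟶ V) (i : I) (a : W ⟶ U i),
    G.obj.map k.op (x h i a) = x (k ≫ h) i (k ≫ a)

namespace Sec

variable {G U γ}

/-- restriction -/
def map {V V' : C} (f : V' ⟶ V) (s : Sec G U γ V) : Sec G U γ V' where
  x W h i a := s.x (h ≫ f) i a
  coc W h i j a b := s.coc (h ≫ f) i j a b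
  res W' W k h i a := by
    rw [s.res k (h ≫ f) i a, Category.assoc]

@[simp] lemma map_x {V V' : C} (f : V' ⟶ V) (s : Sec G U γ V) {W : C} (h : W ⟶ V') (i : I)
    (a : W ⟶ U i) : (s.map f).x h i a = s.x (h ≫ f) i a := rfl

lemma map_id {V : C} (s : Sec G U γ V) : s.map (𝟙 V) = s := by
  ext W h i a
  simp

lemma map_comp {V V' V'' : C} (f : V' ⟶ V) (g : V'' ⟶ V') (s : Sec G U γ V) :
    s.map (g ≫ f) = (s.map f).map g := by
  ext W h i a
  simp

/-- action -/
def smul {V : C} (g : G.obj.obj (op V)) (s : Sec G U γ V) : Sec G U γ V where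
  x W h i a := G.obj.map h.op g * s.x h i a
  coc W h i j a b := by
    rw [s.coc h i j a b, mul_assoc]
  res W' W k h i a := by
    rw [map_mul, s.res k h i a, op_comp, Functor.map_comp]
    rfl

@[simp] lemma smul_x {V : C} (g : G.obj.obj (op V)) (s : Sec G U γ V) {W : C} (h : W ⟶ V)
    (i : I) (a : W ⟶ U i) : (s.smul g).x h i a = G.obj.map h.op g * s.x h i a := rfl

lemma one_smul {V : C} (s : Sec G U γ V) : s.smul 1 = s := by
  ext W h i a
  simp

lemma mul_smul {V : C} (g g' : G.obj.obj (op V)) (s : Sec G U γ V) :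
    s.smul (g * g') = (s.smul g').smul g := by
  ext W h i a
  simp [mul_assoc]

lemma map_smul {V V' : C} (f : V' ⟶ V) (g : G.obj.obj (op V)) (s : Sec G U γ V) :
    (s.smul g).map f = (s.map f).smul (G.obj.map f.op g) := by
  ext W h i a
  simp only [map_x, smul_x, op_comp, Functor.map_comp]
  rfl

/-- the canonical section over `U i`. -/
def triv (i : I) : Sec G U γ (U i) where
  x W h j b := γ.ev i j h b
  coc W h j k b c := (γ.ev_trans i j k h b c).symm
  res W' W k h j b := γ.ev_precomp i j k h b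

@[simp] lemma triv_x (i : I) {W : C} (h : W ⟶ U i) (j : I) (b : W ⟶ U j) :
    (triv (G := G) (γ := γ) i).x h j b = γ.ev i j h b := rfl

lemma isCocycleOf (i j : I) {T : C} (a : T ⟶ U i) (b : T ⟶ U j) :
    ((triv (G := G) (γ := γ) j).map b).smul (γ.ev i j a b) = (triv i).map a := by
  ext W h k c
  simp only [smul_x, map_x, triv_x]
  rw [γ.ev_precomp i j h a b, γ.ev_trans]

end Sec

/-! ### gluing in `G` -/

section Glue

/-- Hom from the free group on one generator. -/
def homFreeEquiv (H : GrpCat.{w}) : (GrpCat.of (FreeGroup PUnit.{w+1}) ⟶ H) ≃ H where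
  toFun φ := φ.hom (FreeGroup.of PUnit.unit)
  invFun h := GrpCat.ofHom (FreeGroup.lift (fun _ => h))
  left_inv φ := by
    ext x
    simp
  right_inv h := by simp

theorem isSheaf_forget : Presieve.IsSheaf J (G.obj ⋙ forget GrpCat) := by
  have h := G.property (GrpCat.of (FreeGroup PUnit.{w+1}))
  refine Presieve.isSheaf_iso J ?_ h
  refine NatIso.ofComponents (fun W => Equiv.toIso (homFreeEquiv (G.obj.obj W))) ?_
  intro W W' f
  ext φ
  rfl

variable {G}

lemma G_ext {W : C} (S : Sieve W) (hS : S ∈ J W) (g g' : G.obj.obj (op W))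
    (h : ∀ ⦃W' : C⦄ (k : W' ⟶ W), S k → G.obj.map k.op g = G.obj.map k.op g') : g = g' :=
  (isSheaf_forget G S hS).isSeparatedFor.ext (t₁ := g) (t₂ := g') fun _ k hk => h k hk

lemma G_glue {W : C} (S : Sieve W) (hS : S ∈ J W)
    (x : ∀ ⦃W' : C⦄ (k : W' ⟶ W), S k → G.obj.obj (op W'))
    (hx : ∀ ⦃W' W'' : C⦄ (k : W' ⟶ W) (hk : S k) (m : W'' ⟶ W'),
      G.obj.map m.op (x k hk) = x (m ≫ k) (S.downward_closed hk m)) :
    ∃ g : G.obj.obj (op W), ∀ ⦃W' : C⦄ (k : W' ⟶ W) (hk : S k), G.obj.map k.op g = x k hk := by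
  let y : Presieve.FamilyOfElements (G.obj ⋙ forget GrpCat) S.arrows := fun W' k hk => x k hk
  have hy : y.Compatible := by
    rw [Presieve.compatible_iff_sieveCompatible]
    intro Y Z f m hf
    exact (hx f hf m).symm
  exact ⟨(isSheaf_forget G S hS).amalgamate y hy, fun W' k hk =>
    (isSheaf_forget G S hS).valid_glue hy k hk⟩

end Glue

/-! ### pseudo-torsor -/

section Pseudo

variable {G U γ}

lemma z_indep {V : C} (s t : Sec G U γ V) {W : C} (h : W ⟶ V) (i j : I) (a : W ⟶ U i)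
    (b : W ⟶ U j) : t.x h j b * (s.x h j b)⁻¹ = t.x h i a * (s.x h i a)⁻¹ := by
  rw [t.coc h i j a b, s.coc h i j a b]
  group

theorem exists_unique_smul (hU : J.CoversTop U) {V : C} (s t : Sec G U γ V) :
    ∃! g : G.obj.obj (op V), s.smul g = t := by
  classical
  -- the family z
  have hex : ∀ ⦃W : C⦄ (h : W ⟶ V), (Sieve.ofObjects U V) h → ∃ (i : I), Nonempty (W ⟶ U i) :=
    fun W h hh => hh
  let z : ∀ ⦃W : C⦄ (h : W ⟶ V), (Sieve.ofObjects U V) h → G.obj.obj (op W) := fun W h hh =>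
    t.x h (hex h hh).choose (hex h hh).choose_spec.some *
      (s.x h (hex h hh).choose (hex h hh).choose_spec.some)⁻¹
  have hz : ∀ ⦃W : C⦄ (h : W ⟶ V) (hh : (Sieve.ofObjects U V) h) (i : I) (a : W ⟶ U i),
      z h hh = t.x h i a * (s.x h i a)⁻¹ := fun W h hh i a => z_indep s t h i _ a _
  obtain ⟨g, hg⟩ := G_glue (Sieve.ofObjects U V) (hU V) z (by
    intro W' W'' k hk m
    obtain ⟨i, ⟨a⟩⟩ := hex k hk
    rw [hz k hk i a, hz (m ≫ k) ((Sieve.ofObjects U V).downward_closed hk m) i (m ≫ a), map_mul,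
      map_inv, t.res, s.res])
  refine ⟨g, ?_, ?_⟩
  · ext W h i a
    have hh : (Sieve.ofObjects U V) h := ⟨i, ⟨a⟩⟩
    rw [Sec.smul_x, hg h hh, hz h hh i a, inv_mul_cancel_right]
  · intro g' hg'
    apply G_ext (Sieve.ofObjects U V) (hU V)
    intro W h hh
    obtain ⟨i, ⟨a⟩⟩ := hex h hh
    rw [hg h hh, hz h hh i a, ← hg', Sec.smul_x, mul_inv_cancel_right]

end Pseudo

/-! ### sheaf property at the raw level -/

section SheafProp

variable {G U γ}

lemma map_functor_apply {W W' W'' : C} (k : W' ⟶ W) (m : W'' ⟶ W') (g : G.obj.obj (op W)) :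
    G.obj.map m.op (G.obj.map k.op g) = G.obj.map (m ≫ k).op g := by
  rw [op_comp, Functor.map_comp]
  rfl

theorem sec_ext_of_sieve {V : C} (S : Sieve V) (hS : S ∈ J V) (s s' : Sec G U γ V)
    (h : ∀ ⦃W : C⦄ (f : W ⟶ V), S f → s.map f = s'.map f) : s = s' := by
  ext W h₀ i a
  apply G_ext (S.pullback h₀) (J.pullback_stable h₀ hS)
  intro W' k hk
  rw [s.res, s'.res]
  have := congrArg (fun t : Sec G U γ W' => t.x (𝟙 W') i (k ≫ a)) (h (k ≫ h₀) hk)
  simpa using this

lemma x_eval {V : C} (S : Sieve V) (x : ∀ ⦃W : C⦄ (f : W ⟶ V), S f → Sec G U γ W)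
    (hx : ∀ ⦃W W' : C⦄ (f : W ⟶ V) (hf : S f) (k : W' ⟶ W),
      (x f hf).map k = x (k ≫ f) (S.downward_closed hf k))
    {W W' : C} (f : W ⟶ V) (hf : S f) (k : W' ⟶ W) (f' : W' ⟶ V) (hf' : S f') (e : k ≫ f = f')
    {W'' : C} (h : W'' ⟶ W') (i : I) (a : W'' ⟶ U i) :
    (x f' hf').x h i a = (x f hf).x (h ≫ k) i a := by
  subst e
  rw [← hx f hf k]
  rfl

theorem sec_glue {V : C} (S : Sieve V) (hS : S ∈ J V)
    (x : ∀ ⦃W : C⦄ (f : W ⟶ V), S f → Sec G U γ W)
    (hx : ∀ ⦃W W' : C⦄ (f : W ⟶ V) (hf : S f) (k : W' ⟶ W),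
      (x f hf).map k = x (k ≫ f) (S.downward_closed hf k)) :
    ∃ s : Sec G U γ V, ∀ ⦃W : C⦄ (f : W ⟶ V) (hf : S f), s.map f = x f hf := by
  have key : ∀ ⦃W : C⦄ (h : W ⟶ V) (i : I) (a : W ⟶ U i), ∃ g : G.obj.obj (op W),
      ∀ ⦃W' : C⦄ (k : W' ⟶ W) (hk : S (k ≫ h)),
        G.obj.map k.op g = (x (k ≫ h) hk).x (𝟙 W') i (k ≫ a) := by
    intro W h i a
    refine G_glue (S.pullback h) (J.pullback_stable h hS)
      (fun W' k hk => (x (k ≫ h) hk).x (𝟙 W') i (k ≫ a)) ?_
    intro W' W'' k hk m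
    rw [Sec.res]
    rw [x_eval S x hx (k ≫ h) hk m ((m ≫ k) ≫ h) _ (by simp) (𝟙 W'') i ((m ≫ k) ≫ a)]
    simp
  choose y hy using key
  have hy' : ∀ ⦃W : C⦄ (h : W ⟶ V) (i : I) (a : W ⟶ U i) ⦃W' : C⦄ (k : W' ⟶ W) (f : W' ⟶ V)
      (hf : S f) (_ : k ≫ h = f) (c : W' ⟶ U i) (_ : k ≫ a = c),
      G.obj.map k.op (y h i a) = (x f hf).x (𝟙 W') i c := by
    intro W h i a W' k f hf e c ec
    subst e ec
    exact hy h i a k hf
  let s : Sec G U γ V :=
    { x := fun W h i a => y h i a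
      coc := by
        intro W h i j a b
        apply G_ext (S.pullback h) (J.pullback_stable h hS)
        intro W' k hk
        rw [map_mul, hy h j b k hk, hy h i a k hk, γ.ev_precomp i j k a b]
        exact (x (k ≫ h) hk).coc (𝟙 W') i j (k ≫ a) (k ≫ b)
      res := by
        intro W₁ W k' h i a
        apply G_ext (S.pullback (k' ≫ h)) (J.pullback_stable (k' ≫ h) hS)
        intro W₂ m hm
        rw [map_functor_apply, hy' h i a (m ≫ k') (m ≫ k' ≫ h) hm (by simp) (m ≫ k' ≫ a) (by simp),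
          hy' (k' ≫ h) i (k' ≫ a) m (m ≫ k' ≫ h) hm rfl (m ≫ k' ≫ a) rfl] }
  refine ⟨s, ?_⟩
  intro W f hf
  ext W₁ h i a
  apply G_ext (S.pullback (h ≫ f)) (J.pullback_stable (h ≫ f) hS)
  intro W₂ k hk
  rw [(x f hf).res k h i a]
  show G.obj.map k.op (y (h ≫ f) i a) = _
  rw [hy' (h ≫ f) i a k (k ≫ h ≫ f) hk rfl (k ≫ a) rfl,
    x_eval S x hx f hf (k ≫ h) (k ≫ h ≫ f) hk (by simp) (𝟙 W₂) i (k ≫ a)]
  simp

end SheafProp

/-! ### smallness and the torsor -/

section Small

variable {G U γ}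

theorem small_sec (hU : J.CoversTop U) (V : C) : Small.{w} (Sec G U γ V) := by
  classical
  by_cases hne : Nonempty (Sec G U γ V)
  · obtain ⟨s₀⟩ := hne
    let φ : Sec G U γ V → G.obj.obj (op V) := fun t => (exists_unique_smul hU s₀ t).choose
    have hφ : ∀ t, s₀.smul (φ t) = t := fun t => (exists_unique_smul hU s₀ t).choose_spec.1
    have hinj : Function.Injective φ := by
      intro t t' e
      rw [← hφ t, ← hφ t', e]
    exact small_of_injective hinj
  · haveI : IsEmpty (Sec G U γ V) := not_nonempty_iff.mp hne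
    infer_instance

end Small

section Shrunk

variable [hsm : ∀ V, Small.{w} (Sec G U γ V)]

/-- the underlying presheaf of sets. -/
noncomputable def P₀ : Cᵒᵖ ⥤ Type w where
  obj V := Shrink.{w} (Sec G U γ V.unop)
  map {V V'} f := ↾(fun p : Shrink.{w} (Sec G U γ V.unop) =>
    equivShrink (Sec G U γ V'.unop) (((equivShrink (Sec G U γ V.unop)).symm p).map f.unop))
  map_id V := by
    ext p
    simp [Sec.map_id]
  map_comp f g := by
    ext p
    simp [Sec.map_comp]

variable {G U γ}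

lemma P₀_map_apply {V V' : Cᵒᵖ} (f : V ⟶ V') (p : (P₀ G U γ).obj V) :
    (P₀ G U γ).map f p = equivShrink _ (((equivShrink _).symm p).map f.unop) := rfl

theorem P₀_isSheaf : Presieve.IsSheaf J (P₀ G U γ) := by
  intro V S hS x hx
  rw [Presieve.compatible_iff_sieveCompatible] at hx
  let xr : ∀ ⦃W : C⦄ (f : W ⟶ V), S f → Sec G U γ W := fun W f hf => (equivShrink _).symm (x f hf)
  have hxr : ∀ ⦃W W' : C⦄ (f : W ⟶ V) (hf : S f) (k : W' ⟶ W),
      (xr f hf).map k = xr (k ≫ f) (S.downward_closed hf k) := by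
    intro W W' f hf k
    have := hx f k hf
    simp only [xr]
    rw [this, P₀_map_apply, Equiv.symm_apply_apply]
    rfl
  obtain ⟨s, hs⟩ := sec_glue S hS xr hxr
  refine ⟨equivShrink _ s, ?_, ?_⟩
  · intro W f hf
    rw [P₀_map_apply, Equiv.symm_apply_apply]
    have := hs f hf
    simp only [xr] at this
    change equivShrink _ (s.map f) = x f hf
    rw [this, Equiv.apply_symm_apply]
  · intro t ht
    have : (equivShrink _).symm t = s := by
      apply sec_ext_of_sieve S hS
      intro W f hf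
      rw [hs f hf]
      have := ht f hf
      rw [P₀_map_apply] at this
      simp only [xr]
      rw [← this, Equiv.symm_apply_apply]
      rfl
    rw [← this, Equiv.apply_symm_apply]

variable (G U γ)

/-- the twisted `G`-sheaf. -/
noncomputable def gsheaf : NonAbH1.GSheaf G where
  P := ⟨P₀ G U γ, (isSheaf_iff_isSheaf_of_type J _).mpr P₀_isSheaf⟩
  smul g p := equivShrink _ (((equivShrink _).symm p).smul g)
  one_smul p := by
    change equivShrink _ (((equivShrink _).symm p).smul 1) = p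
    rw [Sec.one_smul, Equiv.apply_symm_apply]
  mul_smul g h p := by
    change equivShrink _ (((equivShrink _).symm p).smul (g * h)) =
      equivShrink _ (((equivShrink _).symm (equivShrink _ (((equivShrink _).symm p).smul h))).smul g)
    rw [Equiv.symm_apply_apply, Sec.mul_smul]
  map_smul f g p := by
    change equivShrink _ (((equivShrink _).symm (equivShrink _ (((equivShrink _).symm p).smul g))).map f.unop) =
      equivShrink _ (((equivShrink _).symm (equivShrink _ (((equivShrink _).symm p).map f.unop))).smul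
        (G.obj.map f g))
    rw [Equiv.symm_apply_apply, Equiv.symm_apply_apply, Sec.map_smul]
    rfl

variable {G U γ}

theorem gsheaf_isTorsor (hU : J.CoversTop U) : (gsheaf G U γ).IsTorsor := by
  refine ⟨?_, ?_⟩
  · intro V p q
    obtain ⟨g, hg, huniq⟩ := exists_unique_smul hU ((equivShrink _).symm p) ((equivShrink _).symm q)
    refine ⟨g, ?_, ?_⟩
    · change equivShrink _ (((equivShrink _).symm p).smul g) = q
      rw [hg, Equiv.apply_symm_apply]
    · intro g' hg'
      apply huniq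
      change equivShrink _ (((equivShrink _).symm p).smul g') = q at hg'
      rw [← hg', Equiv.symm_apply_apply]
  · intro V
    refine ⟨Sieve.ofObjects U V, hU V, ?_⟩
    intro W f hf
    obtain ⟨i, ⟨a⟩⟩ := hf
    exact ⟨equivShrink _ ((Sec.triv i).map a)⟩

theorem gsheaf_isCocycleOf :
    (gsheaf G U γ).IsCocycleOf U (fun i => equivShrink _ (Sec.triv (G := G) (γ := γ) i)) γ := by
  intro i j T a b
  change equivShrink _ (((equivShrink _).symm (equivShrink _
    (((equivShrink _).symm (equivShrink _ (Sec.triv (G := G) (γ := γ) j))).map b))).smul (γ.ev i j a b)) =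
    equivShrink _ (((equivShrink _).symm (equivShrink _ (Sec.triv (G := G) (γ := γ) i))).map a)
  rw [Equiv.symm_apply_apply, Equiv.symm_apply_apply, Equiv.symm_apply_apply, Sec.isCocycleOf]

end Shrunk

/-- S16274: every Čech class is the class of a torsor trivialised by the family. -/
theorem exists_torsor (hU : J.CoversTop U) (c : PresheafOfGroups.H1 G.obj U) :
    ∃ P : NonAbH1.Torsor G, P.TrivialisedBy U ∧ P.HasCechClass U c := by
  obtain ⟨γ, rfl⟩ : ∃ γ : PresheafOfGroups.OneCocycle G.obj U, γ.class = c := Quot.exists_rep c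
  haveI : ∀ V, Small.{w} (Sec G U γ V) := small_sec hU
  refine ⟨⟨gsheaf G U γ, gsheaf_isTorsor hU⟩, ?_, ?_⟩
  · intro i
    exact ⟨equivShrink _ (Sec.triv i)⟩
  · exact ⟨_, γ, gsheaf_isCocycleOf, rfl⟩

end Groth.Agent.Lib.Helper24.TwistTorsor
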