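import Mathlib
import Groth.Prelude.Def_Versch
import Groth.Prelude.Def_SGA3b

/-!
Helper lemmas for the Verschiebung identities `V ∘ F = [p]` and `F ∘ V = [p]` (helper24).
-/

set_option autoImplicit false
set_option linter.unusedSectionVars false
universe u v

namespace Groth.Agent.Lib.Helper24.VerschLib

open TensorProduct WithConv

section DualBasis

variable (R : Type u) [CommRing R] (A : Type v) [AddCommGroup A] [Module R A]
  [Module.Finite R A] [Module.Projective R A]

/-- A finite "dual basis" of a finite projective module. -/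
theorem exists_dualBasis :
    ∃ (n : ℕ) (e : Fin n → A) (x : Fin n → CartDual.D R A), ∀ a : A, ∑ i, (x i) a • e i = a := by
  obtain ⟨n, f, g, -, -, hfg⟩ := Module.Finite.exists_comp_eq_id_of_projective R A
  refine ⟨n, fun i => f (Pi.single i 1), fun i => toConv (LinearMap.proj i ∘ₗ g), ?_⟩
  intro a
  have h1 : f (g a) = a := by
    have := congrArg (fun φ => φ a) hfg
    simpa using this
  conv_rhs => rw [← h1]
  have h2 : g a = ∑ i, (g a i) • (Pi.single i (1 : R) : Fin n → R) := by
    ext j
    simp [Finset.sum_apply, Pi.single_apply]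
  conv_rhs => rw [h2]
  rw [map_sum]
  apply Finset.sum_congr rfl
  intro i _
  rw [map_smul]
  rfl

end DualBasis

section Conv

variable (R : Type u) [CommRing R] (A : Type v) [CommRing A] [Bialgebra R A]

/-- post-composition with the unit `R → A`, as a ring hom from the dual to the convolution ring of `A`. -/
noncomputable def iD : CartDual.D R A →+* WithConv (A →ₗ[R] A) where
  toFun x := toConv ((Algebra.linearMap R A) ∘ₗ x.ofConv)
  map_one' := by
    apply WithConv.ext
    apply LinearMap.ext
    intro a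
    simp [LinearMap.convOne_def]
  map_mul' x y := by
    have h := LinearMap.algHom_comp_convMul_distrib (Algebra.ofId R A) x y
    apply WithConv.ext
    exact h
  map_zero' := by
    apply WithConv.ext
    simp
  map_add' x y := by
    apply WithConv.ext
    simp [LinearMap.comp_add]

theorem iD_apply (x : CartDual.D R A) (a : A) : iD R A x a = algebraMap R A (x a) := rfl

theorem algebraMap_conv_injective :
    Function.Injective (algebraMap A (WithConv (A →ₗ[R] A))) := by
  intro b c h
  have h1 := congrArg (fun f : WithConv (A →ₗ[R] A) => f 1) h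
  simpa [LinearMap.convAlgebraMap_apply] using h1

theorem charP_conv (p : ℕ) [CharP A p] : CharP (WithConv (A →ₗ[R] A)) p :=
  charP_of_injective_algebraMap (algebraMap_conv_injective R A) p

theorem smul_iD_apply (b : A) (x : CartDual.D R A) (a : A) :
    (b • iD R A x) a = (x a) • b := by
  change b • (iD R A x a) = _
  rw [iD_apply, smul_eq_mul, mul_comm, ← Algebra.smul_def]

variable [Coalgebra.IsCocomm R A]

theorem id_eq_sum {n : ℕ} (e : Fin n → A) (x : Fin n → CartDual.D R A)
    (h : ∀ a : A, ∑ i, (x i) a • e i = a) :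
    (toConv (LinearMap.id : A →ₗ[R] A)) = ∑ i, e i • iD R A (x i) := by
  apply WithConv.ext
  apply LinearMap.ext
  intro a
  rw [WithConv.ofConv_sum]
  simp only [LinearMap.id_coe, id_eq, LinearMap.coe_sum, Finset.sum_apply]
  rw [← h a]
  apply Finset.sum_congr rfl
  intro i _
  have := smul_iD_apply R A (e i) (x i) a
  rw [h a]
  exact this.symm

theorem pow_id_apply (p : ℕ) [Fact p.Prime] [CharP A p] {n : ℕ} (e : Fin n → A)
    (x : Fin n → CartDual.D R A)
    (h : ∀ a : A, ∑ i, (x i) a • e i = a) (a : A) :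
    ((toConv (LinearMap.id : A →ₗ[R] A)) ^ p) a = ∑ i, ((x i) ^ p) a • (e i) ^ p := by
  have := charP_conv R A p
  rw [id_eq_sum R A e x h, sum_pow_char]
  have h1 : ∀ i, (e i • iD R A (x i)) ^ p = (e i) ^ p • iD R A ((x i) ^ p) := by
    intro i
    rw [smul_pow, map_pow]
  simp only [h1]
  change (∑ i, (e i) ^ p • iD R A ((x i) ^ p)).ofConv a = _
  rw [WithConv.ofConv_sum]
  simp only [LinearMap.coe_sum, Finset.sum_apply]
  apply Finset.sum_congr rfl
  intro i _
  exact smul_iD_apply R A ((e i) ^ p) ((x i) ^ p) a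

end Conv

section V0

variable (p : ℕ) [Fact p.Prime] (R : Type u) [CommRing R] [CharP R p]
    (A : Type v) [CommRing A] [HopfAlgebra R A] [Coalgebra.IsCocomm R A] [Module.Finite R A]
    [Module.Projective R A]

theorem dual_eq_sum {n : ℕ} (e : Fin n → A) (x : Fin n → CartDual.D R A)
    (h : ∀ a : A, ∑ i, (x i) a • e i = a) (y : CartDual.D R A) :
    y = ∑ i, (y (e i)) • x i := by
  apply WithConv.ext
  apply LinearMap.ext
  intro a
  rw [WithConv.ofConv_sum]
  simp only [LinearMap.coe_sum, Finset.sum_apply, WithConv.ofConv_smul, LinearMap.smul_apply]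
  conv_lhs => rw [← h a]
  rw [map_sum]
  apply Finset.sum_congr rfl
  intro i _
  rw [map_smul, smul_eq_mul, smul_eq_mul, mul_comm]

theorem pow_dual_apply {n : ℕ} (e : Fin n → A) (x : Fin n → CartDual.D R A)
    (h : ∀ a : A, ∑ i, (x i) a • e i = a) (y : CartDual.D R A) (a : A) :
    (y ^ p) a = ∑ i, (y (e i)) ^ p * ((x i) ^ p) a := by
  conv_lhs => rw [dual_eq_sum R A e x h y]
  rw [sum_pow_char]
  simp only [smul_pow]
  change (∑ i, (y (e i)) ^ p • (x i) ^ p).ofConv a = _
  rw [WithConv.ofConv_sum]
  simp only [LinearMap.coe_sum, Finset.sum_apply, WithConv.ofConv_smul, LinearMap.smul_apply,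
    smul_eq_mul]

theorem v_apply {n : ℕ} (e : Fin n → A) (x : Fin n → CartDual.D R A)
    (h : ∀ a : A, ∑ i, (x i) a • e i = a)
    (v : A →+* FrobAlg.BaseChange p R A) (hv : Versch.IsVerschiebung p R A v) (a : A) :
    v a = ∑ i, e i ⊗ₜ[R] FrobAlg.toTwist p R (((x i) ^ p) a) := by
  rw [Versch.isVerschiebung_iff] at hv
  apply Versch.evTw_injective
  intro y
  rw [hv, map_sum, pow_dual_apply p R A e x h y a, map_sum]
  apply Finset.sum_congr rfl
  intro i _
  rw [Versch.evTw_tmul', map_mul]

end V0

section V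

variable (p : ℕ) [Fact p.Prime] (R : Type u) [CommRing R] [CharP R p]
    (A : Type u) [CommRing A] [HopfAlgebra R A] [Coalgebra.IsCocomm R A] [Module.Finite R A]
    [Module.Projective R A] [CharP A p]

theorem relFrob_tmul (b : A) (t : FrobAlg.Twist p R) :
    FrobAlg.relFrob p R A (b ⊗ₜ t) = b ^ p * algebraMap R A ((FrobAlg.toTwist p R).symm t) := by
  simp [FrobAlg.relFrob, FrobAlg.frobHom, FrobAlg.inclHom, Algebra.TensorProduct.lift_tmul]
  rfl

theorem relFrob_v {n : ℕ} (e : Fin n → A) (x : Fin n → CartDual.D R A)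
    (h : ∀ a : A, ∑ i, (x i) a • e i = a)
    (v : A →+* FrobAlg.BaseChange p R A) (hv : Versch.IsVerschiebung p R A v) (a : A) :
    FrobAlg.relFrob p R A (v a) = SGA3b.powConv R A p a := by
  rw [v_apply p R A e x h v hv a, map_sum]
  have h1 : SGA3b.powConv R A p a = ((toConv (LinearMap.id : A →ₗ[R] A)) ^ p) a := by
    have h2 := AlgHom.toLinearMap_convPow (toConv (AlgHom.id R A)) p
    have h3 := congrArg (fun f : WithConv (A →ₗ[R] A) => f a) h2
    exact h3
  rw [h1, pow_id_apply R A p e x h a]
  apply Finset.sum_congr rfl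
  intro i _
  rw [relFrob_tmul, RingEquiv.symm_apply_apply, mul_comm, ← Algebra.smul_def]

theorem relFrob_comp_v (v : A →+* FrobAlg.BaseChange p R A) (hv : Versch.IsVerschiebung p R A v) :
    (FrobAlg.relFrob p R A).comp v = (SGA3b.powConv R A p).toRingHom := by
  obtain ⟨n, e, x, h⟩ := exists_dualBasis R A
  apply RingHom.ext
  intro a
  exact relFrob_v p R A e x h v hv a

end V

section BaseChange

variable (R : Type u) [CommRing R] (A : Type u) [CommRing A] [HopfAlgebra R A]
  (T : Type u) [CommRing T] [Algebra R T]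

theorem lift_ttt_comm (f g : A →ₐ[R] A) (F G : (T ⊗[R] A) →ₐ[T] (T ⊗[R] A))
    (hF : ∀ (t : T) (a : A), F (t ⊗ₜ a) = t ⊗ₜ f a)
    (hG : ∀ (t : T) (a : A), G (t ⊗ₜ a) = t ⊗ₜ g a) (t : T) (z : A ⊗[R] A) :
    Algebra.TensorProduct.lift F G (fun _ _ => Commute.all _ _)
      (AlgebraTensorModule.tensorTensorTensorComm R T R T T T A A ((1 ⊗ₜ[T] t) ⊗ₜ[R] z)) =
      t ⊗ₜ[R] (Algebra.TensorProduct.lift f g (fun _ _ => Commute.all _ _) z) := by
  induction z using TensorProduct.induction_on with
  | zero => simp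
  | add z w hz hw =>
    rw [TensorProduct.tmul_add, map_add, map_add, hz, hw, map_add, TensorProduct.tmul_add]
  | tmul l r =>
    rw [AlgebraTensorModule.tensorTensorTensorComm_tmul, Algebra.TensorProduct.lift_tmul,
      Algebra.TensorProduct.lift_tmul, hF, hG, Algebra.TensorProduct.tmul_mul_tmul, one_mul]

theorem powConv_baseChange (n : ℕ) (t : T) (a : A) :
    SGA3b.powConv T (T ⊗[R] A) n (t ⊗ₜ a) = t ⊗ₜ SGA3b.powConv R A n a := by
  induction n generalizing t a with
  | zero =>
    simp only [SGA3b.powConv, pow_zero]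
    change (1 : WithConv ((T ⊗[R] A) →ₐ[T] (T ⊗[R] A))) (t ⊗ₜ a) = t ⊗ₜ ((1 : WithConv (A →ₐ[R] A)) a)
    rw [AlgHom.convOne_apply, AlgHom.convOne_apply, TensorProduct.counit_tmul]
    rw [CommSemiring.counit_apply, Algebra.TensorProduct.algebraMap_apply, Algebra.algebraMap_self,
      RingHom.id_apply, Algebra.algebraMap_eq_smul_one (CoalgebraStruct.counit a), TensorProduct.tmul_smul,
      TensorProduct.smul_tmul']
  | succ n ih =>
    simp only [SGA3b.powConv, pow_succ]
    change ((toConv (AlgHom.id T (T ⊗[R] A)) ^ n * toConv (AlgHom.id T (T ⊗[R] A)) :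
      WithConv ((T ⊗[R] A) →ₐ[T] (T ⊗[R] A)))) (t ⊗ₜ a) =
      t ⊗ₜ ((toConv (AlgHom.id R A) ^ n * toConv (AlgHom.id R A) : WithConv (A →ₐ[R] A)) a)
    rw [AlgHom.convMul_apply, AlgHom.convMul_apply, TensorProduct.comul_tmul, CommSemiring.comul_apply]
    exact lift_ttt_comm R A T _ _ _ _ (fun t a => ih t a) (fun t a => rfl) t _

end BaseChange

section FV

variable (p : ℕ) [Fact p.Prime] (R : Type u) [CommRing R] [CharP R p]
    (A : Type u) [CommRing A] [HopfAlgebra R A] [Coalgebra.IsCocomm R A] [Module.Finite R A]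
    [Module.Projective R A] [CharP A p]

theorem charP_of_natCast_eq_zero (S : Type u) [CommRing S] [Nontrivial S] (h : (p : S) = 0) :
    CharP S p := by
  have h1 : ringChar S = p := CharP.ringChar_of_prime_eq_zero (Fact.out : p.Prime) h
  have h2 : CharP S (ringChar S) := ringChar.charP S
  rw [h1] at h2
  exact h2

theorem natCast_baseChange_eq_zero : ((p : ℕ) : FrobAlg.BaseChange p R A) = 0 := by
  have h : ((p : ℕ) : FrobAlg.BaseChange p R A) = algebraMap R (FrobAlg.BaseChange p R A) (p : R) := by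
    rw [map_natCast]
  rw [h, CharP.cast_eq_zero, map_zero]

theorem pow_p_eq (z : FrobAlg.BaseChange p R A) :
    z ^ p = (FrobAlg.relFrob p R A z) ⊗ₜ[R] (1 : FrobAlg.Twist p R) := by
  rcases subsingleton_or_nontrivial (FrobAlg.BaseChange p R A) with hs | hn
  · exact Subsingleton.elim _ _
  · have hc : CharP (FrobAlg.BaseChange p R A) p :=
      charP_of_natCast_eq_zero p _ (natCast_baseChange_eq_zero p R A)
    induction z using TensorProduct.induction_on with
    | zero =>
      rw [map_zero, TensorProduct.zero_tmul, zero_pow (Fact.out : p.Prime).ne_zero]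
    | add z w hz hw =>
      rw [add_pow_char, hz, hw, map_add, TensorProduct.add_tmul]
    | tmul b t =>
      rw [Algebra.TensorProduct.tmul_pow, relFrob_tmul, mul_comm, ← Algebra.smul_def,
        TensorProduct.smul_tmul, Algebra.smul_def, mul_one, FrobAlg.algebraMap_twist, map_pow,
        RingEquiv.apply_symm_apply]

theorem dual_pow_one (y : CartDual.D R A) (n : ℕ) : (y ^ n) 1 = (y 1) ^ n := by
  have h1 := map_pow (Bialgebra.counitAlgHom R (CartDual.D R A)) y n
  exact h1

theorem v_algebraMap (v : A →+* FrobAlg.BaseChange p R A) (hv : Versch.IsVerschiebung p R A v)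
    (r : R) : v (algebraMap R A r) = (1 : A) ⊗ₜ[R] FrobAlg.toTwist p R r := by
  rw [Versch.isVerschiebung_iff] at hv
  apply Versch.evTw_injective
  intro y
  rw [hv, Versch.evTw_tmul', Algebra.algebraMap_eq_smul_one, CartDual.coe_apply, map_smul,
    ← CartDual.coe_apply, dual_pow_one, smul_eq_mul, map_mul, mul_comm]

theorem v_relFrob (v : A →+* FrobAlg.BaseChange p R A) (hv : Versch.IsVerschiebung p R A v)
    (a : A) (t : FrobAlg.Twist p R) :
    v (FrobAlg.relFrob p R A (a ⊗ₜ t)) = (SGA3b.powConv R A p a) ⊗ₜ[R] t := by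
  obtain ⟨n, e, x, h⟩ := exists_dualBasis R A
  rw [relFrob_tmul, map_mul, map_pow, pow_p_eq, relFrob_v p R A e x h v hv a, v_algebraMap p R A v hv,
    Algebra.TensorProduct.tmul_mul_tmul, mul_one, one_mul, RingEquiv.apply_symm_apply]

theorem comm_v_relFrob_comm (v : A →+* FrobAlg.BaseChange p R A) (hv : Versch.IsVerschiebung p R A v) :
    ((Algebra.TensorProduct.comm R A (FrobAlg.Twist p R)).toRingEquiv.toRingHom.comp
        ((v.comp (FrobAlg.relFrob p R A)).comp
          (Algebra.TensorProduct.comm R A (FrobAlg.Twist p R)).symm.toRingEquiv.toRingHom)) =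
      (SGA3b.powConv (FrobAlg.Twist p R) (FrobAlg.Twist p R ⊗[R] A) p).toRingHom := by
  apply RingHom.ext
  intro z
  induction z using TensorProduct.induction_on with
  | zero => rw [map_zero, map_zero]
  | add z w hz hw => rw [map_add, map_add, hz, hw]
  | tmul t a =>
    change (Algebra.TensorProduct.comm R A (FrobAlg.Twist p R))
      (v (FrobAlg.relFrob p R A ((Algebra.TensorProduct.comm R A (FrobAlg.Twist p R)).symm (t ⊗ₜ a)))) =
      SGA3b.powConv (FrobAlg.Twist p R) (FrobAlg.Twist p R ⊗[R] A) p (t ⊗ₜ a)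
    rw [powConv_baseChange, Algebra.TensorProduct.comm_symm_tmul, v_relFrob p R A v hv,
      Algebra.TensorProduct.comm_tmul]

end FV

end Groth.Agent.Lib.Helper24.VerschLib
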