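import Groth.Agent.Lib.Helper24.VerschLib

/-!
More on the Verschiebung: iterates of `[p]` and the Frobenius (helper24).
-/

set_option autoImplicit false
set_option linter.unusedSectionVars false
universe u v

namespace Groth.Agent.Lib.Helper24.VerschLib

open TensorProduct WithConv

section PowConv

variable (R : Type u) [CommRing R] (A : Type u) [CommRing A] [HopfAlgebra R A]

theorem comp_convPow (f : A →ₐ[R] A) (g : WithConv (A →ₐ[R] A)) (n : ℕ) :
    f.comp (g ^ n).ofConv = ofConv ((toConv (f.comp g.ofConv)) ^ n) := by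
  induction n with
  | zero =>
    rw [pow_zero, pow_zero]
    apply AlgHom.ext
    intro a
    change f ((1 : WithConv (A →ₐ[R] A)) a) = (1 : WithConv (A →ₐ[R] A)) a
    rw [AlgHom.convOne_apply, AlgHom.commutes]
  | succ n ih =>
    rw [pow_succ, pow_succ, AlgHom.comp_convMul_distrib, ih, WithConv.toConv_ofConv]

theorem powConv_mul (m n : ℕ) :
    SGA3b.powConv R A (m * n) = (SGA3b.powConv R A m).comp (SGA3b.powConv R A n) := by
  unfold SGA3b.powConv
  rw [comp_convPow, AlgHom.comp_id, WithConv.toConv_ofConv, ← pow_mul]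

theorem powConv_pow_succ (p m : ℕ) (a : A) :
    SGA3b.powConv R A (p ^ (m + 1)) a = SGA3b.powConv R A (p ^ m) (SGA3b.powConv R A p a) := by
  rw [pow_succ, powConv_mul]
  rfl

end PowConv

section FV

variable (p : ℕ) [Fact p.Prime] (R : Type u) [CommRing R] [CharP R p]
    (A : Type u) [CommRing A] [HopfAlgebra R A] [Coalgebra.IsCocomm R A] [Module.Finite R A]
    [Module.Projective R A] [CharP A p]

theorem v_pow_p (v : A →+* FrobAlg.BaseChange p R A) (hv : Versch.IsVerschiebung p R A v) (a : A) :
    v (a ^ p) = (SGA3b.powConv R A p a) ⊗ₜ[R] (1 : FrobAlg.Twist p R) := by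
  obtain ⟨n, e, x, h⟩ := exists_dualBasis R A
  rw [map_pow, pow_p_eq, relFrob_v p R A e x h v hv a]

/-- If `V` is injective, then `[p^m] a = 0` implies `a^(p^m) = 0`. -/
theorem pow_eq_zero_of_powConv_eq_zero (v : A →+* FrobAlg.BaseChange p R A)
    (hv : Versch.IsVerschiebung p R A v) (hinj : Function.Injective v) (m : ℕ) :
    ∀ a : A, SGA3b.powConv R A (p ^ m) a = 0 → a ^ (p ^ m) = 0 := by
  induction m with
  | zero =>
    intro a ha
    rw [pow_zero, pow_one]
    have h1 : SGA3b.powConv R A (p ^ 0) a = a := by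
      unfold SGA3b.powConv
      rw [pow_zero, pow_one]
      rfl
    rw [← h1]; exact ha
  | succ m ih =>
    intro a ha
    rw [powConv_pow_succ] at ha
    have h1 := ih _ ha
    apply hinj
    rw [map_zero, pow_succ, pow_mul, v_pow_p p R A v hv, map_pow, h1, TensorProduct.zero_tmul]

end FV

end Groth.Agent.Lib.Helper24.VerschLib
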