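import Groth.Agent.Lib.Helper24.VerschLib

/-!
Étale finite algebras over a field of characteristic `p` and `p`-th powers; the Verschiebung is
bijective iff the dual is étale (helper24).
-/

set_option autoImplicit false
set_option linter.unusedSectionVars false
universe u v w

namespace Groth.Agent.Lib.Helper24.VerschLib

open TensorProduct WithConv

section EtaleCrit

variable (p : ℕ) [Fact p.Prime] (k : Type u) [Field k] [CharP k p]
  (B : Type w) [CommRing B] [Algebra k B]

/-- The `k`-span of the `p`-th powers. -/
def powSpan : Submodule k B := Submodule.span k (Set.range (fun b : B => b ^ p))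

theorem natCast_eq_zero_of_algebra (p : ℕ) (k : Type u) [Field k] [CharP k p]
    (B : Type w) [CommRing B] [Algebra k B] : ((p : ℕ) : B) = 0 := by
  have h : ((p : ℕ) : B) = algebraMap k B (p : k) := by rw [map_natCast]
  rw [h, CharP.cast_eq_zero, map_zero]

theorem D_eq_zero_of_mem_powSpan (b : B) (hb : b ∈ powSpan p k B) :
    KaehlerDifferential.D k B b = 0 := by
  unfold powSpan at hb
  induction hb using Submodule.span_induction with
  | mem x hx =>
    obtain ⟨c, rfl⟩ := hx
    change KaehlerDifferential.D k B (c ^ p) = 0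
    rw [Derivation.leibniz_pow]
    have h1 : ∀ m : Ω[B⁄k], (p : ℕ) • m = 0 := by
      intro m
      rw [← Nat.cast_smul_eq_nsmul B, natCast_eq_zero_of_algebra p k B, zero_smul]
    exact h1 _
  | zero => exact map_zero _
  | add x y _ _ hx hy => rw [map_add, hx, hy, add_zero]
  | smul a x _ hx => rw [Derivation.map_smul, hx, smul_zero]

theorem etale_of_powSpan_eq_top [Module.Finite k B] (h : powSpan p k B = ⊤) : Algebra.Etale k B := by
  have h1 : ∀ b : B, KaehlerDifferential.D k B b = 0 := fun b =>
    D_eq_zero_of_mem_powSpan p k B b (h ▸ Submodule.mem_top)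
  have h2 : Subsingleton (Ω[B⁄k]) := by
    have h3 := KaehlerDifferential.span_range_derivation k B
    have h4 : Set.range (KaehlerDifferential.D k B) ⊆ {0} := by
      rintro _ ⟨b, rfl⟩
      exact h1 b
    have h5 : (⊤ : Submodule B (Ω[B⁄k])) = ⊥ := by
      rw [← h3, Submodule.span_eq_bot]
      intro x hx
      exact h4 hx
    exact (Submodule.subsingleton_iff B).mp (subsingleton_of_bot_eq_top h5.symm)
  have h6 : Algebra.FormallyUnramified k B := ⟨h2⟩
  have h7 : Algebra.FormallyEtale k B := Algebra.FormallyEtale.of_formallyUnramified_of_field k B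
  exact ⟨h7, Algebra.FinitePresentation.of_finiteType.mp inferInstance⟩

theorem powSpan_eq_top_of_etale (h : Algebra.Etale k B) : powSpan p k B = ⊤ := by
  classical
  obtain ⟨I, hI, Ai, hfield, halg, e, hsep⟩ := (Algebra.Etale.iff_exists_algEquiv_prod k B).mp h
  have := Fintype.ofFinite I
  rw [eq_top_iff]
  intro b _
  -- the linear maps `Ai i → B`
  let φ : ∀ i, Ai i →ₗ[k] B := fun i => e.symm.toLinearMap ∘ₗ LinearMap.single k Ai i
  have hφpow : ∀ i (l : Ai i), φ i (l ^ p) = (φ i l) ^ p := by
    intro i l
    change e.symm (Pi.single i (l ^ p)) = (e.symm (Pi.single i l)) ^ p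
    rw [← map_pow]
    congr 1
    ext j
    by_cases hj : j = i
    · subst hj; simp
    · simp [Pi.single_eq_of_ne hj, zero_pow (Fact.out : p.Prime).ne_zero]
  have hφmem : ∀ i (l : Ai i), φ i l ∈ powSpan p k B := by
    intro i l
    have hexp : ExpChar k p := ExpChar.prime (Fact.out : p.Prime)
    have hs := (hsep i).2
    have h1 := Field.span_map_pow_expChar_pow_eq_top_of_isSeparable (F := k) (E := Ai i) p 1
      (v := fun l : Ai i => l) (by
        rw [eq_top_iff]; intro x _; exact Submodule.subset_span ⟨x, rfl⟩)
    have h2 : l ∈ Submodule.span k (Set.range (fun l : Ai i => l ^ p ^ 1)) := h1 ▸ Submodule.mem_top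
    have h3 : Submodule.span k (Set.range (fun l : Ai i => l ^ p ^ 1)) ≤
        (powSpan p k B).comap (φ i) := by
      rw [Submodule.span_le]
      rintro _ ⟨m, rfl⟩
      change φ i (m ^ p ^ 1) ∈ powSpan p k B
      rw [pow_one, hφpow]
      exact Submodule.subset_span ⟨_, rfl⟩
    exact h3 h2
  have hb : b = ∑ i, φ i (e b i) := by
    have h1 : e b = ∑ i, Pi.single i (e b i) := by
      ext j
      simp [Finset.sum_apply]
    have h2 : b = e.symm (e b) := (e.symm_apply_apply b).symm
    conv_lhs => rw [h2, h1]
    rw [map_sum]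
    rfl
  rw [hb]
  exact Submodule.sum_mem _ (fun i _ => hφmem i _)

theorem etale_iff_powSpan_eq_top [Module.Finite k B] :
    Algebra.Etale k B ↔ powSpan p k B = ⊤ :=
  ⟨powSpan_eq_top_of_etale p k B, etale_of_powSpan_eq_top p k B⟩

end EtaleCrit

section VBij

variable (p : ℕ) [Fact p.Prime] (k : Type u) [Field k] [CharP k p]
    (A : Type v) [CommRing A] [HopfAlgebra k A] [Coalgebra.IsCocomm k A] [FiniteDimensional k A]
    (v : A →+* FrobAlg.BaseChange p k A) (hv : Versch.IsVerschiebung p k A v)

include hv

theorem v_eq_zero_iff (a : A) : v a = 0 ↔ ∀ y : CartDual.D k A, (y ^ p) a = 0 := by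
  rw [Versch.isVerschiebung_iff] at hv
  constructor
  · intro h y
    have h1 := hv a y
    rw [h, map_zero] at h1
    exact (EmbeddingLike.map_eq_zero_iff (f := FrobAlg.toTwist p k)).mp h1.symm
  · intro h
    apply Versch.evTw_injective
    intro y
    rw [hv a y, h y, map_zero, map_zero]

theorem v_injective_of_powSpan (h : powSpan p k (CartDual.D k A) = ⊤) : Function.Injective v := by
  rw [injective_iff_map_eq_zero]
  intro a ha
  rw [v_eq_zero_iff p k A v hv] at ha
  have h1 : ∀ y ∈ powSpan p k (CartDual.D k A), y a = 0 := by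
    intro y hy
    unfold powSpan at hy
    induction hy using Submodule.span_induction with
    | mem x hx =>
      obtain ⟨c, rfl⟩ := hx
      exact ha c
    | zero => rfl
    | add x y _ _ hx hy =>
      change x a + y a = 0
      rw [hx, hy, add_zero]
    | smul r x _ hx =>
      change r • x a = 0
      rw [hx, smul_zero]
  rw [← Module.forall_dual_apply_eq_zero_iff k]
  intro φ
  exact h1 (toConv φ) (h ▸ Submodule.mem_top)

theorem powSpan_of_v_injective (h : Function.Injective v) : powSpan p k (CartDual.D k A) = ⊤ := by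
  let W : Subspace k (Module.Dual k A) := (powSpan p k (CartDual.D k A)).map
    (CartDual.toDual k A).toLinearMap
  have h1 : W.dualCoannihilator = ⊥ := by
    rw [eq_bot_iff]
    intro a ha
    rw [Submodule.mem_dualCoannihilator] at ha
    rw [Submodule.mem_bot]
    apply h
    rw [map_zero, v_eq_zero_iff p k A v hv]
    intro y
    exact ha _ (Submodule.mem_map_of_mem (Submodule.subset_span ⟨y, rfl⟩))
  have h2 : W = ⊤ := by
    rw [← Subspace.dualCoannihilator_dualAnnihilator_eq (W := W), h1, Submodule.dualAnnihilator_bot]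
  rw [eq_top_iff]
  intro y _
  have h3 : (CartDual.toDual k A) y ∈ W := h2 ▸ Submodule.mem_top
  obtain ⟨y', hy', hyy⟩ := h3
  have h4 : y' = y := (CartDual.toDual k A).injective hyy
  rw [← h4]
  exact hy'

theorem v_surjective_of_injective (h : Function.Injective v) : Function.Surjective v := by
  let b := Module.finBasis k A
  let x : Fin (Module.finrank k A) → CartDual.D k A := fun i => toConv (b.coord i)
  have hb : ∀ a : A, ∑ i, (x i) a • b i = a := fun a => b.sum_repr a
  have hva := v_apply p k A b x hb v hv
  let M : A →ₗ[k] (Fin (Module.finrank k A) → k) := LinearMap.pi (fun i => ((x i) ^ p).ofConv)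
  have hMinj : Function.Injective M := by
    rw [injective_iff_map_eq_zero]
    intro a ha
    apply h
    rw [map_zero, hva a]
    apply Finset.sum_eq_zero
    intro i _
    have h1 : ((x i) ^ p) a = 0 := congrFun ha i
    rw [h1, map_zero, TensorProduct.tmul_zero]
  have hMsurj : Function.Surjective M :=
    (LinearMap.injective_iff_surjective_of_finrank_eq_finrank (by rw [Module.finrank_fin_fun])).mp hMinj
  have hform : ∀ z : FrobAlg.BaseChange p k A,
      ∃ t : Fin (Module.finrank k A) → FrobAlg.Twist p k, z = ∑ i, b i ⊗ₜ[k] t i := by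
    intro z
    induction z using TensorProduct.induction_on with
    | zero => exact ⟨fun _ => 0, by simp⟩
    | tmul a s =>
      refine ⟨fun i => (x i) a • s, ?_⟩
      conv_lhs => rw [← hb a]
      rw [TensorProduct.sum_tmul]
      apply Finset.sum_congr rfl
      intro i _
      rw [TensorProduct.smul_tmul]
    | add z w hz hw =>
      obtain ⟨t, rfl⟩ := hz
      obtain ⟨t', rfl⟩ := hw
      refine ⟨fun i => t i + t' i, ?_⟩
      rw [← Finset.sum_add_distrib]
      apply Finset.sum_congr rfl
      intro i _
      rw [TensorProduct.tmul_add]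
  intro z
  obtain ⟨t, rfl⟩ := hform z
  obtain ⟨a, ha⟩ := hMsurj (fun i => (FrobAlg.toTwist p k).symm (t i))
  refine ⟨a, ?_⟩
  rw [hva a]
  apply Finset.sum_congr rfl
  intro i _
  have h1 : ((x i) ^ p) a = (FrobAlg.toTwist p k).symm (t i) := congrFun ha i
  rw [h1, RingEquiv.apply_symm_apply]

theorem etale_dual_iff_v_bijective :
    Algebra.Etale k (CartDual.D k A) ↔ Function.Bijective v := by
  rw [etale_iff_powSpan_eq_top p k (CartDual.D k A)]
  constructor
  · intro h
    have h1 := v_injective_of_powSpan p k A v hv h
    exact ⟨h1, v_surjective_of_injective p k A v hv h1⟩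
  · intro h
    exact powSpan_of_v_injective p k A v hv h.1

end VBij

end Groth.Agent.Lib.Helper24.VerschLib
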